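import Cfsg.Agent.Helper17.SuzbTC.Lemmas

set_option autoImplicit false
set_option linter.all false

noncomputable section

namespace Cfsg.Agent.Helper17.SuzbTC

theorem F1 : act 0 n0 = n0 := d26_0 B0 
theorem F2 : act 1 n0 = n0 := d27_0 B1 
theorem F3 : act 2 n0 = n0 := d28_0 B2 
theorem F4 : act 3 n0 = n0 := d29_0 B3 
theorem F5 : act 5 n0 = n0 := d30_0 B4 
theorem F6 : act 6 n0 = n0 := d31_0 B5 
def n1 : Q := act 4 n0
theorem D1 : act 4 n0 = n1 := rfl
theorem F7 : act 0 n1 = n1 := d3_1 D1 (iv D1) F1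
theorem F8 : act 1 n1 = n1 := d8_1 D1 (iv D1) F2
theorem F9 : act 2 n1 = n1 := d12_1 D1 (iv D1) F3
theorem F10 : act 5 n1 = n1 := d18_2 F5 D1 (iv D1)
theorem F11 : act 6 n1 = n1 := d19_2 F6 D1 (iv D1)
def n2 : Q := act 3 n1
theorem D2 : act 3 n1 = n2 := rfl
theorem F12 : act 0 n2 = n2 := d2_1 D2 (iv D2) F7
theorem F13 : act 1 n2 = n2 := d7_1 D2 (iv D2) F8
theorem F14 : act 4 n2 = n2 := d15_2 D1 D2 (iv D2) (iv D1) F4
theorem F15 : act 5 n2 = n2 := d16_2 F10 D2 (iv D2)
theorem F16 : act 6 n2 = n2 := d17_2 F11 D2 (iv D2)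
def n3 : Q := act 2 n2
theorem D3 : act 2 n2 = n3 := rfl
theorem F17 : act 0 n3 = n3 := d1_1 D3 (iv D3) F12
theorem F18 : act 4 n3 = n3 := d12_2 F14 D3 (iv D3)
theorem F19 : act 5 n3 = n3 := d13_2 F15 D3 (iv D3)
theorem F20 : act 6 n3 = n3 := d14_2 F16 D3 (iv D3)
def n4 : Q := act 1 n3
theorem D4 : act 1 n3 = n4 := rfl
theorem F21 : act 2 n4 = n4 := d6_2 D3 D4 (iv D4) (iv D3) F13
theorem F22 : act 4 n4 = n4 := d8_2 F18 D4 (iv D4)
def n5 : Q := act 3 n3
theorem D5 : act 3 n3 = n5 := rfl
theorem F23 : act 0 n5 = n5 := d2_1 D5 (iv D5) F17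
theorem F24 : act 5 n5 = n5 := d16_2 F19 D5 (iv D5)
theorem F25 : act 6 n5 = n5 := d17_2 F20 D5 (iv D5)
theorem F26 : act 2 n5 = n5 := d21_2 D3 D5 (iv D5) (iv D3) (iv D2) F9 D2 F12
def n6 : Q := act 0 n4
theorem D6 : act 0 n4 = n6 := rfl
theorem F27 : act 2 n6 = n6 := d1_2 F21 D6 (iv D6)
theorem F28 : act 4 n6 = n6 := d3_2 F22 D6 (iv D6)
def n7 : Q := act 3 n4
theorem D7 : act 3 n4 = n7 := rfl
theorem F29 : act 1 n7 = n5 := d7_1 D7 (iv D5) D4
def n8 : Q := act 5 n4
theorem D8 : act 5 n4 = n8 := rfl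
theorem F30 : act 1 n8 = n8 := d9_1 D8 (iv D8) (iv D4) F19 D4
theorem F31 : act 2 n8 = n8 := d13_1 D8 (iv D8) F21
theorem F32 : act 4 n8 = n8 := d18_1 D8 (iv D8) F22
def n9 : Q := act 6 n4
theorem D9 : act 6 n4 = n9 := rfl
theorem F33 : act 1 n9 = n9 := d10_1 D9 (iv D9) (iv D4) F20 D4
theorem F34 : act 2 n9 = n9 := d14_1 D9 (iv D9) F21
theorem F35 : act 4 n9 = n9 := d19_1 D9 (iv D9) F22
def n10 : Q := act 4 n5
theorem D10 : act 4 n5 = n10 := rfl
theorem F36 : act 0 n10 = n10 := d3_1 D10 (iv D10) F23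
theorem F37 : act 2 n10 = n10 := d12_1 D10 (iv D10) F26
theorem F38 : act 3 n10 = n10 := d15_1 D10 (iv D10) (iv D5) F18 D5
theorem F39 : act 5 n10 = n10 := d18_2 F24 D10 (iv D10)
theorem F40 : act 6 n10 = n10 := d19_2 F25 D10 (iv D10)
def n11 : Q := act 1 n6
theorem D11 : act 1 n6 = n11 := rfl
theorem F41 : act 4 n11 = n11 := d8_2 F28 D11 (iv D11)
def n12 : Q := act 3 n6
theorem D12 : act 3 n6 = n12 := rfl
theorem F42 : act 0 n12 = n7 := d2_1 D12 (iv D7) D6
def n13 : Q := act 5 n6
theorem D13 : act 5 n6 = n13 := rfl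
theorem F43 : act 0 n13 = n8 := d4_1 D13 (iv D8) D6
theorem F44 : act 2 n13 = n13 := d13_1 D13 (iv D13) F27
theorem F45 : act 4 n13 = n13 := d18_1 D13 (iv D13) F28
def n14 : Q := act 6 n6
theorem D14 : act 6 n6 = n14 := rfl
theorem F46 : act 0 n14 = n9 := d5_1 D14 (iv D9) D6
theorem F47 : act 2 n14 = n14 := d14_1 D14 (iv D14) F27
theorem F48 : act 4 n14 = n14 := d19_1 D14 (iv D14) F28
def n15 : Q := act 2 n7
theorem D15 : act 2 n7 = n15 := rfl
theorem F49 : act 1 n15 = n15 := d6_1 D15 (iv D15) F29 F26 (iv F29)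
def n16 : Q := act 4 n7
theorem D16 : act 4 n7 = n16 := rfl
theorem F50 : act 1 n16 = n10 := d8_1 D16 (iv D10) (iv F29)
theorem F51 : act 3 n16 = n16 := d15_1 D16 (iv D16) (iv D7) F22 D7
def n17 : Q := act 5 n7
theorem D17 : act 5 n7 = n17 := rfl
theorem F52 : act 1 n17 = n17 := d9_1 D17 (iv D17) F29 F24 (iv F29)
theorem F53 : act 3 n17 = n8 := d16_1 D17 (iv D8) D7
def n18 : Q := act 6 n7
theorem D18 : act 6 n7 = n18 := rfl
theorem F54 : act 1 n18 = n18 := d10_1 D18 (iv D18) F29 F25 (iv F29)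
theorem F55 : act 3 n18 = n9 := d17_1 D18 (iv D9) D7
def n19 : Q := act 6 n8
theorem D19 : act 6 n8 = n19 := rfl
theorem F56 : act 2 n19 = n19 := d14_1 D19 (iv D19) F31
theorem F57 : act 4 n19 = n19 := d19_1 D19 (iv D19) F32
theorem F58 : act 5 n19 = n14 := d22_2 D8 D19 (iv D14) (iv D6)
def n20 : Q := act 5 n9
theorem D20 : act 5 n9 = n20 := rfl
theorem F59 : act 0 n20 = n19 := d4_1 D20 F58 F46
theorem F60 : act 2 n20 = n20 := d13_1 D20 (iv D20) F34
theorem F61 : act 4 n20 = n20 := d18_1 D20 (iv D20) F35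
theorem F62 : act 6 n20 = n13 := d20_2 D9 D20 (iv D13) D14 (iv F58) (iv D19) (iv D8)
def n21 : Q := act 0 n11
theorem D21 : act 0 n11 = n21 := rfl
theorem F63 : act 1 n21 = n21 := d0_2 D11 D21 (iv D21) (iv D11) (iv D6) (iv D4) F17 D4 D6
theorem F64 : act 4 n21 = n21 := d3_2 F41 D21 (iv D21)
def n22 : Q := act 2 n11
theorem D22 : act 2 n11 = n22 := rfl
def n23 : Q := act 3 n11
theorem D23 : act 3 n11 = n23 := rfl
theorem F67 : act 1 n23 = n12 := d7_1 D23 (iv D12) D11
def n24 : Q := act 5 n11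
theorem D24 : act 5 n11 = n24 := rfl
theorem F68 : act 4 n24 = n24 := d18_1 D24 (iv D24) F41
def n25 : Q := act 6 n11
theorem D25 : act 6 n11 = n25 := rfl
theorem F69 : act 4 n25 = n25 := d19_1 D25 (iv D25) F41
def n26 : Q := act 2 n12
theorem D26 : act 2 n12 = n26 := rfl
theorem F70 : act 0 n26 = n15 := d1_1 D26 (iv D15) (iv F42)
def n27 : Q := act 4 n12
theorem D27 : act 4 n12 = n27 := rfl
theorem F71 : act 0 n27 = n16 := d3_1 D27 (iv D16) (iv F42)
theorem F72 : act 3 n27 = n27 := d15_1 D27 (iv D27) (iv D12) F28 D12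
def n28 : Q := act 5 n12
theorem D28 : act 5 n12 = n28 := rfl
theorem F73 : act 0 n28 = n17 := d4_1 D28 (iv D17) (iv F42)
theorem F74 : act 3 n28 = n13 := d16_1 D28 (iv D13) D12
def n29 : Q := act 6 n12
theorem D29 : act 6 n12 = n29 := rfl
theorem F75 : act 0 n29 = n18 := d5_1 D29 (iv D18) (iv F42)
theorem F76 : act 3 n29 = n14 := d17_1 D29 (iv D14) D12
def n30 : Q := act 1 n13
theorem D30 : act 1 n13 = n30 := rfl
theorem F77 : act 4 n30 = n30 := d8_2 F45 D30 (iv D30)
def n31 : Q := act 1 n14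
theorem D31 : act 1 n14 = n31 := rfl
theorem F78 : act 4 n31 = n31 := d8_2 F48 D31 (iv D31)
def n32 : Q := act 3 n15
theorem D32 : act 3 n15 = n32 := rfl
theorem F79 : act 1 n32 = n32 := d7_1 D32 (iv D32) F49
def n33 : Q := act 4 n15
theorem D33 : act 4 n15 = n33 := rfl
theorem F80 : act 1 n33 = n33 := d8_1 D33 (iv D33) F49
theorem F81 : act 2 n33 = n16 := d12_1 D33 (iv D16) D15
def n34 : Q := act 5 n15
theorem D34 : act 5 n15 = n34 := rfl
theorem F82 : act 2 n34 = n17 := d13_1 D34 (iv D17) D15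
def n35 : Q := act 6 n15
theorem D35 : act 6 n15 = n35 := rfl
theorem F83 : act 2 n35 = n18 := d14_1 D35 (iv D18) D15
def n36 : Q := act 5 n16
theorem D36 : act 5 n16 = n36 := rfl
theorem F84 : act 1 n36 = n36 := d9_1 D36 (iv D36) F50 F39 (iv F50)
theorem F85 : act 3 n36 = n36 := d16_1 D36 (iv D36) F51
theorem F86 : act 4 n36 = n17 := d18_1 D36 (iv D17) D16
def n37 : Q := act 6 n16
theorem D37 : act 6 n16 = n37 := rfl
theorem F87 : act 1 n37 = n37 := d10_1 D37 (iv D37) F50 F40 (iv F50)
theorem F88 : act 3 n37 = n37 := d17_1 D37 (iv D37) F51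
theorem F89 : act 4 n37 = n18 := d19_1 D37 (iv D18) D16
def n38 : Q := act 6 n17
theorem D38 : act 6 n17 = n38 := rfl
theorem F90 : act 3 n38 = n19 := d17_1 D38 (iv D19) (iv F53)
theorem F91 : act 5 n38 = n29 := d22_2 D17 D38 (iv D29) F42
def n39 : Q := act 5 n18
theorem D39 : act 5 n18 = n39 := rfl
theorem F92 : act 0 n39 = n38 := d4_1 D39 F91 F75
theorem F93 : act 3 n39 = n20 := d16_1 D39 (iv D20) (iv F55)
theorem F94 : act 6 n39 = n28 := d20_2 D18 D39 (iv D28) D29 (iv F91) (iv D38) (iv D17)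
def n40 : Q := act 1 n19
theorem D40 : act 1 n19 = n40 := rfl
theorem F95 : act 4 n40 = n40 := d8_2 F57 D40 (iv D40)
theorem F96 : act 6 n40 = n40 := d10_2 D19 D40 (iv D40) (iv D19) F30
def n41 : Q := act 1 n20
theorem D41 : act 1 n20 = n41 := rfl
theorem F97 : act 4 n41 = n41 := d8_2 F61 D41 (iv D41)
theorem F98 : act 5 n41 = n41 := d9_2 D20 D41 (iv D41) (iv D20) F33
def n42 : Q := act 2 n21
theorem D42 : act 2 n21 = n42 := rfl
theorem F99 : act 0 n42 = n22 := d1_1 D42 (iv D22) D21
def n43 : Q := act 3 n21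
theorem D43 : act 3 n21 = n43 := rfl
theorem F101 : act 0 n43 = n23 := d2_1 D43 (iv D23) D21
theorem F102 : act 1 n43 = n43 := d7_1 D43 (iv D43) F63
def n44 : Q := act 5 n21
theorem D44 : act 5 n21 = n44 := rfl
theorem F103 : act 0 n44 = n24 := d4_1 D44 (iv D24) D21
theorem F104 : act 4 n44 = n44 := d18_1 D44 (iv D44) F64
def n45 : Q := act 6 n21
theorem D45 : act 6 n21 = n45 := rfl
theorem F105 : act 0 n45 = n25 := d5_1 D45 (iv D25) D21
theorem F106 : act 4 n45 = n45 := d19_1 D45 (iv D45) F64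
def n46 : Q := act 3 n22
theorem D46 : act 3 n22 = n46 := rfl
def n47 : Q := act 5 n22
theorem D47 : act 5 n22 = n47 := rfl
theorem F108 : act 2 n47 = n24 := d13_1 D47 (iv D24) D22
def n48 : Q := act 6 n22
theorem D48 : act 6 n22 = n48 := rfl
theorem F110 : act 2 n48 = n25 := d14_1 D48 (iv D25) D22
def n49 : Q := act 2 n23
theorem D49 : act 2 n23 = n49 := rfl
def n50 : Q := act 4 n23
theorem D50 : act 4 n23 = n50 := rfl
theorem F112 : act 1 n50 = n27 := d8_1 D50 (iv D27) (iv F67)
theorem F113 : act 3 n50 = n50 := d15_1 D50 (iv D50) (iv D23) F41 D23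
def n51 : Q := act 5 n23
theorem D51 : act 5 n23 = n51 := rfl
theorem F114 : act 3 n51 = n24 := d16_1 D51 (iv D24) D23
def n52 : Q := act 6 n23
theorem D52 : act 6 n23 = n52 := rfl
theorem F115 : act 3 n52 = n25 := d17_1 D52 (iv D25) D23
def n53 : Q := act 1 n24
theorem D53 : act 1 n24 = n53 := rfl
theorem F116 : act 4 n53 = n53 := d8_2 F68 D53 (iv D53)
theorem F117 : act 5 n53 = n30 := d9_2 D24 D53 (iv D30) (iv D13) D11
def n54 : Q := act 6 n24
theorem D54 : act 6 n24 = n54 := rfl
theorem F118 : act 4 n54 = n54 := d19_1 D54 (iv D54) F68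
theorem F119 : act 5 n54 = n45 := d22_2 D24 D54 (iv D45) (iv D21)
def n55 : Q := act 1 n25
theorem D55 : act 1 n25 = n55 := rfl
theorem F120 : act 4 n55 = n55 := d8_2 F69 D55 (iv D55)
theorem F121 : act 6 n55 = n31 := d10_2 D25 D55 (iv D31) (iv D14) D11
def n56 : Q := act 5 n25
theorem D56 : act 5 n25 = n56 := rfl
theorem F122 : act 0 n56 = n54 := d4_1 D56 F119 F105
theorem F123 : act 4 n56 = n56 := d18_1 D56 (iv D56) F69
theorem F124 : act 6 n56 = n44 := d20_2 D25 D56 (iv D44) D45 (iv F119) (iv D54) (iv D24)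
def n57 : Q := act 1 n26
theorem D57 : act 1 n26 = n57 := rfl
def n58 : Q := act 3 n26
theorem D58 : act 3 n26 = n58 := rfl
theorem F125 : act 0 n58 = n32 := d2_1 D58 (iv D32) (iv F70)
theorem F126 : act 2 n58 = n32 := d21_2 D26 D58 (iv D32) (iv D15) (iv D7) F21 D7 (iv F42)
def n59 : Q := act 4 n26
theorem D59 : act 4 n26 = n59 := rfl
theorem F127 : act 0 n59 = n33 := d3_1 D59 (iv D33) (iv F70)
theorem F128 : act 2 n59 = n27 := d12_1 D59 (iv D27) D26
def n60 : Q := act 5 n26
theorem D60 : act 5 n26 = n60 := rfl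
theorem F129 : act 0 n60 = n34 := d4_1 D60 (iv D34) (iv F70)
theorem F130 : act 2 n60 = n28 := d13_1 D60 (iv D28) D26
def n61 : Q := act 6 n26
theorem D61 : act 6 n26 = n61 := rfl
theorem F131 : act 0 n61 = n35 := d5_1 D61 (iv D35) (iv F70)
theorem F132 : act 2 n61 = n29 := d14_1 D61 (iv D29) D26
def n62 : Q := act 5 n27
theorem D62 : act 5 n27 = n62 := rfl
theorem F133 : act 0 n62 = n36 := d4_1 D62 (iv D36) (iv F71)
theorem F134 : act 3 n62 = n62 := d16_1 D62 (iv D62) F72
theorem F135 : act 4 n62 = n28 := d18_1 D62 (iv D28) D27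
def n63 : Q := act 6 n27
theorem D63 : act 6 n27 = n63 := rfl
theorem F136 : act 0 n63 = n37 := d5_1 D63 (iv D37) (iv F71)
theorem F137 : act 3 n63 = n63 := d17_1 D63 (iv D63) F72
theorem F138 : act 4 n63 = n29 := d19_1 D63 (iv D29) D27
def n64 : Q := act 1 n28
theorem D64 : act 1 n28 = n64 := rfl
theorem F139 : act 3 n64 = n30 := d7_2 (iv F74) D64 (iv D30)
def n65 : Q := act 1 n29
theorem D65 : act 1 n29 = n65 := rfl
theorem F140 : act 3 n65 = n31 := d7_2 (iv F76) D65 (iv D31)
def n66 : Q := act 0 n30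
theorem D66 : act 0 n30 = n66 := rfl
theorem F141 : act 4 n66 = n66 := d3_2 F77 D66 (iv D66)
def n67 : Q := act 2 n30
theorem D67 : act 2 n30 = n67 := rfl
theorem F142 : act 1 n67 = n67 := d6_1 D67 (iv D67) (iv D30) F44 D30
theorem F143 : act 4 n67 = n67 := d12_2 F77 D67 (iv D67)
theorem F144 : act 5 n66 = n67 := d23_0 (iv D67) (iv D30) F43 (iv D8) F21 (iv D4) F17 F19 (iv D3) F13 F12 F15 D3 D4 D6 D13 F44 D30 D66
theorem F145 : act 0 n67 = n53 := d4_1 F144 F117 D66
theorem F146 : act 2 n53 = n66 := d13_3 F144 (iv D67) (iv F117)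
def n68 : Q := act 6 n30
theorem D68 : act 6 n30 = n68 := rfl
theorem F147 : act 4 n68 = n68 := d19_1 D68 (iv D68) F77
def n69 : Q := act 0 n31
theorem D69 : act 0 n31 = n69 := rfl
theorem F148 : act 4 n69 = n69 := d3_2 F78 D69 (iv D69)
def n70 : Q := act 2 n31
theorem D70 : act 2 n31 = n70 := rfl
theorem F149 : act 1 n70 = n70 := d6_1 D70 (iv D70) (iv D31) F47 D31
theorem F150 : act 4 n70 = n70 := d12_2 F78 D70 (iv D70)
def n71 : Q := act 5 n31
theorem D71 : act 5 n31 = n71 := rfl
theorem F151 : act 4 n71 = n71 := d18_1 D71 (iv D71) F78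
def n72 : Q := act 4 n32
theorem D72 : act 4 n32 = n72 := rfl
theorem F152 : act 1 n72 = n72 := d8_1 D72 (iv D72) F79
def n73 : Q := act 5 n32
theorem D73 : act 5 n32 = n73 := rfl
theorem F153 : act 3 n73 = n34 := d16_1 D73 (iv D34) D32
def n74 : Q := act 6 n32
theorem D74 : act 6 n32 = n74 := rfl
theorem F154 : act 3 n74 = n35 := d17_1 D74 (iv D35) D32
def n75 : Q := act 3 n33
theorem D75 : act 3 n33 = n75 := rfl
theorem F155 : act 1 n75 = n75 := d7_1 D75 (iv D75) F80
def n76 : Q := act 5 n33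
theorem D76 : act 5 n33 = n76 := rfl
theorem F156 : act 2 n76 = n36 := d13_1 D76 (iv D36) (iv F81)
theorem F157 : act 4 n76 = n34 := d18_1 D76 (iv D34) D33
def n77 : Q := act 6 n33
theorem D77 : act 6 n33 = n77 := rfl
theorem F158 : act 2 n77 = n37 := d14_1 D77 (iv D37) (iv F81)
theorem F159 : act 4 n77 = n35 := d19_1 D77 (iv D35) D33
def n78 : Q := act 1 n34
theorem D78 : act 1 n34 = n78 := rfl
theorem F160 : act 2 n78 = n78 := d6_2 (iv F82) D78 (iv D78) F82 F52
theorem F161 : act 5 n78 = n78 := d9_2 D34 D78 (iv D78) (iv D34) F49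
def n79 : Q := act 6 n34
theorem D79 : act 6 n34 = n79 := rfl
theorem F162 : act 2 n79 = n38 := d14_1 D79 (iv D38) (iv F82)
theorem F163 : act 5 n79 = n61 := d22_2 D34 D79 (iv D61) F70
def n80 : Q := act 1 n35
theorem D80 : act 1 n35 = n80 := rfl
theorem F164 : act 2 n80 = n80 := d6_2 (iv F83) D80 (iv D80) F83 F54
theorem F165 : act 6 n80 = n80 := d10_2 D35 D80 (iv D80) (iv D35) F49
def n81 : Q := act 5 n35
theorem D81 : act 5 n35 = n81 := rfl
theorem F166 : act 0 n81 = n79 := d4_1 D81 F163 F131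
theorem F167 : act 2 n81 = n39 := d13_1 D81 (iv D39) (iv F83)
theorem F168 : act 6 n81 = n60 := d20_2 D35 D81 (iv D60) D61 (iv F163) (iv D79) (iv D34)
def n82 : Q := act 6 n36
theorem D82 : act 6 n36 = n82 := rfl
theorem F169 : act 3 n82 = n82 := d17_1 D82 (iv D82) F85
theorem F170 : act 4 n82 = n38 := d19_1 D82 (iv D38) (iv F86)
theorem F171 : act 5 n82 = n63 := d22_2 D36 D82 (iv D63) F71
def n83 : Q := act 5 n37
theorem D83 : act 5 n37 = n83 := rfl
theorem F172 : act 0 n83 = n82 := d4_1 D83 F171 F136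
theorem F173 : act 3 n83 = n83 := d16_1 D83 (iv D83) F88
theorem F174 : act 4 n83 = n39 := d18_1 D83 (iv D39) (iv F89)
theorem F175 : act 6 n83 = n62 := d20_2 D37 D83 (iv D62) D63 (iv F171) (iv D82) (iv D36)
def n84 : Q := act 1 n38
theorem D84 : act 1 n38 = n84 := rfl
theorem F176 : act 3 n84 = n40 := d7_2 (iv F90) D84 (iv D40)
theorem F177 : act 6 n84 = n84 := d10_2 D38 D84 (iv D84) (iv D38) F52
def n85 : Q := act 1 n39
theorem D85 : act 1 n39 = n85 := rfl
theorem F178 : act 3 n85 = n41 := d7_2 (iv F93) D85 (iv D41)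
theorem F179 : act 5 n85 = n85 := d9_2 D39 D85 (iv D85) (iv D39) F54
def n86 : Q := act 0 n40
theorem D86 : act 0 n40 = n86 := rfl
theorem F180 : act 4 n86 = n86 := d3_2 F95 D86 (iv D86)
theorem F181 : act 6 n86 = n86 := d5_2 F96 D86 (iv D86)
def n87 : Q := act 2 n40
theorem D87 : act 2 n40 = n87 := rfl
theorem F182 : act 1 n87 = n87 := d6_1 D87 (iv D87) (iv D40) F56 D40
theorem F183 : act 4 n87 = n87 := d12_2 F95 D87 (iv D87)
theorem F184 : act 6 n87 = n87 := d14_2 F96 D87 (iv D87)
def n88 : Q := act 5 n40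
theorem D88 : act 5 n40 = n88 := rfl
theorem F185 : act 1 n88 = n71 := d9_1 D88 (iv D71) (iv D31) (iv F58) D40
theorem F186 : act 4 n88 = n88 := d18_1 D88 (iv D88) F95
def n89 : Q := act 0 n41
theorem D89 : act 0 n41 = n89 := rfl
theorem F187 : act 4 n89 = n89 := d3_2 F97 D89 (iv D89)
theorem F188 : act 5 n89 = n89 := d4_2 F98 D89 (iv D89)
def n90 : Q := act 2 n41
theorem D90 : act 2 n41 = n90 := rfl
theorem F189 : act 1 n90 = n90 := d6_1 D90 (iv D90) (iv D41) F60 D41
theorem F190 : act 4 n90 = n90 := d12_2 F97 D90 (iv D90)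
theorem F191 : act 5 n90 = n90 := d13_2 F98 D90 (iv D90)
def n91 : Q := act 6 n41
theorem D91 : act 6 n41 = n91 := rfl
theorem F192 : act 1 n91 = n68 := d10_1 D91 (iv D68) (iv D30) (iv F62) D41
theorem F193 : act 4 n91 = n91 := d19_1 D91 (iv D91) F97
def n92 : Q := act 1 n42
theorem D92 : act 1 n42 = n92 := rfl
theorem F194 : act 2 n92 = n92 := d6_2 D42 D92 (iv D92) (iv D42) F63
def n93 : Q := act 3 n42
theorem D93 : act 3 n42 = n93 := rfl
theorem F196 : act 0 n93 = n46 := d2_1 D93 (iv D46) (iv F99)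
def n94 : Q := act 5 n42
theorem D94 : act 5 n42 = n94 := rfl
def n95 : Q := act 6 n42
theorem D95 : act 6 n42 = n95 := rfl
theorem F200 : act 0 n95 = n48 := d5_1 D95 (iv D48) (iv F99)
theorem F201 : act 2 n95 = n45 := d14_1 D95 (iv D45) D42
def n96 : Q := act 2 n43
theorem D96 : act 2 n43 = n96 := rfl
theorem F203 : act 0 n96 = n49 := d1_1 D96 (iv D49) (iv F101)
def n97 : Q := act 4 n43
theorem D97 : act 4 n43 = n97 := rfl
theorem F204 : act 0 n97 = n50 := d3_1 D97 (iv D50) (iv F101)
theorem F205 : act 1 n97 = n97 := d8_1 D97 (iv D97) F102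
theorem F206 : act 3 n97 = n97 := d15_1 D97 (iv D97) (iv D43) F64 D43
def n98 : Q := act 5 n43
theorem D98 : act 5 n43 = n98 := rfl
theorem F207 : act 0 n98 = n51 := d4_1 D98 (iv D51) (iv F101)
theorem F208 : act 3 n98 = n44 := d16_1 D98 (iv D44) D43
def n99 : Q := act 6 n43
theorem D99 : act 6 n43 = n99 := rfl
theorem F209 : act 0 n99 = n52 := d5_1 D99 (iv D52) (iv F101)
theorem F210 : act 3 n99 = n45 := d17_1 D99 (iv D45) D43
def n100 : Q := act 1 n44
theorem D100 : act 1 n44 = n100 := rfl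
theorem F211 : act 0 n100 = n100 := d0_1 D100 (iv D100) F103 D53 (iv F145) F142 F145 (iv D53) (iv F103)
theorem F212 : act 4 n100 = n100 := d8_2 F104 D100 (iv D100)
theorem F213 : act 5 n100 = n100 := d9_2 D44 D100 (iv D100) (iv D44) F63
def n101 : Q := act 1 n45
theorem D101 : act 1 n45 = n101 := rfl
theorem F214 : act 4 n101 = n101 := d8_2 F106 D101 (iv D101)
theorem F215 : act 6 n101 = n101 := d10_2 D45 D101 (iv D101) (iv D45) F63
def n102 : Q := act 2 n46
theorem D102 : act 2 n46 = n102 := rfl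
def n103 : Q := act 4 n46
theorem D103 : act 4 n46 = n103 := rfl
def n104 : Q := act 5 n46
theorem D104 : act 5 n46 = n104 := rfl
theorem F218 : act 3 n104 = n47 := d16_1 D104 (iv D47) D46
def n105 : Q := act 6 n46
theorem D105 : act 6 n46 = n105 := rfl
theorem F219 : act 3 n105 = n48 := d17_1 D105 (iv D48) D46
def n106 : Q := act 1 n47
theorem D106 : act 1 n47 = n106 := rfl
def n107 : Q := act 6 n47
theorem D107 : act 6 n47 = n107 := rfl
theorem F222 : act 2 n107 = n54 := d14_1 D107 (iv D54) (iv F108)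
theorem F224 : act 5 n107 = n95 := d22_2 D47 D107 (iv D95) F99
def n108 : Q := act 1 n48
theorem D108 : act 1 n48 = n108 := rfl
def n109 : Q := act 5 n48
theorem D109 : act 5 n48 = n109 := rfl
theorem F228 : act 2 n109 = n56 := d13_1 D109 (iv D56) (iv F110)
theorem F230 : act 6 n109 = n94 := d20_2 D48 D109 (iv D94) D95 (iv F224) (iv D107) (iv D47)
def n110 : Q := act 1 n49
theorem D110 : act 1 n49 = n110 := rfl
theorem F231 : act 2 n110 = n57 := d6_2 D49 D110 (iv D57) (iv D26) (iv F67)
def n111 : Q := act 3 n49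
theorem D111 : act 3 n49 = n111 := rfl
def n112 : Q := act 4 n49
theorem D112 : act 4 n49 = n112 := rfl
theorem F232 : act 2 n112 = n50 := d12_1 D112 (iv D50) D49
def n113 : Q := act 5 n49
theorem D113 : act 5 n49 = n113 := rfl
theorem F233 : act 2 n113 = n51 := d13_1 D113 (iv D51) D49
def n114 : Q := act 6 n49
theorem D114 : act 6 n49 = n114 := rfl
theorem F234 : act 2 n114 = n52 := d14_1 D114 (iv D52) D49
def n115 : Q := act 5 n50
theorem D115 : act 5 n50 = n115 := rfl
theorem F235 : act 3 n115 = n115 := d16_1 D115 (iv D115) F113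
theorem F236 : act 4 n115 = n51 := d18_1 D115 (iv D51) D50
def n116 : Q := act 6 n50
theorem D116 : act 6 n50 = n116 := rfl
theorem F237 : act 3 n116 = n116 := d17_1 D116 (iv D116) F113
theorem F238 : act 4 n116 = n52 := d19_1 D116 (iv D52) D50
def n117 : Q := act 1 n51
theorem D117 : act 1 n51 = n117 := rfl
theorem F239 : act 3 n117 = n53 := d7_2 (iv F114) D117 (iv D53)
theorem F240 : act 5 n117 = n64 := d9_2 D51 D117 (iv D64) (iv D28) (iv F67)
def n118 : Q := act 6 n51
theorem D118 : act 6 n51 = n118 := rfl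
theorem F241 : act 3 n118 = n54 := d17_1 D118 (iv D54) (iv F114)
theorem F242 : act 5 n118 = n99 := d22_2 D51 D118 (iv D99) F101
def n119 : Q := act 1 n52
theorem D119 : act 1 n52 = n119 := rfl
theorem F243 : act 3 n119 = n55 := d7_2 (iv F115) D119 (iv D55)
theorem F244 : act 6 n119 = n65 := d10_2 D52 D119 (iv D65) (iv D29) (iv F67)
def n120 : Q := act 5 n52
theorem D120 : act 5 n52 = n120 := rfl
theorem F245 : act 0 n120 = n118 := d4_1 D120 F242 F209
theorem F246 : act 3 n120 = n56 := d16_1 D120 (iv D56) (iv F115)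
theorem F247 : act 6 n120 = n98 := d20_2 D52 D120 (iv D98) D99 (iv F242) (iv D118) (iv D51)
def n121 : Q := act 6 n53
theorem D121 : act 6 n53 = n121 := rfl
theorem F248 : act 4 n121 = n121 := d19_1 D121 (iv D121) F116
def n122 : Q := act 1 n54
theorem D122 : act 1 n54 = n122 := rfl
theorem F249 : act 4 n122 = n122 := d8_2 F118 D122 (iv D122)
def n123 : Q := act 0 n55
theorem D123 : act 0 n55 = n123 := rfl
theorem F251 : act 6 n123 = n69 := d5_2 (iv F121) D123 (iv D69)
def n124 : Q := act 2 n55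
theorem D124 : act 2 n55 = n124 := rfl
theorem F253 : act 6 n124 = n70 := d14_2 (iv F121) D124 (iv D70)
def n125 : Q := act 5 n55
theorem D125 : act 5 n55 = n125 := rfl
theorem F254 : act 4 n125 = n125 := d18_1 D125 (iv D125) F120
theorem F255 : act 1 n125 = n121 := d24_2 (iv F121) D125 (iv D121) F117 (iv D30) (iv F62) (iv D20) F33 (iv D9) D8 F30 D19 F58 D31
theorem F256 : act 6 n122 = n125 := d10_0 F255 (iv D121) (iv D53) D54 D122
theorem F257 : act 5 n69 = n122 := d22_0 F256 (iv D125) F121 D69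
theorem F258 : act 0 n122 = n71 := d22_4 (iv D71) (iv F121) D125 (iv F256)
def n126 : Q := act 1 n56
theorem D126 : act 1 n56 = n126 := rfl
theorem F259 : act 4 n126 = n126 := d8_2 F123 D126 (iv D126)
theorem F260 : act 5 n126 = n121 := d9_2 D56 D126 (iv F255) (iv D125) (iv D55)
theorem F261 : act 0 n68 = n126 := d22_4 F260 (iv D121) F117 D68
theorem F262 : act 6 n66 = n126 := d22_1 (iv F144) F260 (iv D121) (iv F145)
theorem F263 : act 2 n126 = n121 := d14_1 F262 (iv D121) F146
def n127 : Q := act 0 n57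
theorem D127 : act 0 n57 = n127 := rfl
def n128 : Q := act 3 n57
theorem D128 : act 3 n57 = n128 := rfl
theorem F264 : act 1 n128 = n58 := d7_1 D128 (iv D58) D57
theorem F265 : act 2 n128 = n128 := d6_0 F264 F126 F79 (iv F126) (iv F264)
def n129 : Q := act 4 n57
theorem D129 : act 4 n57 = n129 := rfl
theorem F266 : act 1 n129 = n59 := d8_1 D129 (iv D59) D57
def n130 : Q := act 5 n57
theorem D130 : act 5 n57 = n130 := rfl
def n131 : Q := act 6 n57
theorem D131 : act 6 n57 = n131 := rfl
def n132 : Q := act 4 n58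
theorem D132 : act 4 n58 = n132 := rfl
theorem F267 : act 0 n132 = n72 := d3_1 D132 (iv D72) (iv F125)
theorem F268 : act 2 n132 = n72 := d12_1 D132 (iv D72) (iv F126)
def n133 : Q := act 5 n58
theorem D133 : act 5 n58 = n133 := rfl
theorem F269 : act 0 n133 = n73 := d4_1 D133 (iv D73) (iv F125)
theorem F270 : act 2 n133 = n73 := d13_1 D133 (iv D73) (iv F126)
theorem F271 : act 3 n133 = n60 := d16_1 D133 (iv D60) D58
def n134 : Q := act 6 n58
theorem D134 : act 6 n58 = n134 := rfl
theorem F272 : act 0 n134 = n74 := d5_1 D134 (iv D74) (iv F125)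
theorem F273 : act 2 n134 = n74 := d14_1 D134 (iv D74) (iv F126)
theorem F274 : act 3 n134 = n61 := d17_1 D134 (iv D61) D58
def n135 : Q := act 3 n59
theorem D135 : act 3 n59 = n135 := rfl
theorem F275 : act 0 n135 = n75 := d2_1 D135 (iv D75) (iv F127)
def n136 : Q := act 5 n59
theorem D136 : act 5 n59 = n136 := rfl
theorem F276 : act 0 n136 = n76 := d4_1 D136 (iv D76) (iv F127)
theorem F277 : act 2 n136 = n62 := d13_1 D136 (iv D62) (iv F128)
theorem F278 : act 4 n136 = n60 := d18_1 D136 (iv D60) D59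
def n137 : Q := act 6 n59
theorem D137 : act 6 n59 = n137 := rfl
theorem F279 : act 0 n137 = n77 := d5_1 D137 (iv D77) (iv F127)
theorem F280 : act 2 n137 = n63 := d14_1 D137 (iv D63) (iv F128)
theorem F281 : act 4 n137 = n61 := d19_1 D137 (iv D61) D59
def n138 : Q := act 1 n60
theorem D138 : act 1 n60 = n138 := rfl
def n139 : Q := act 1 n61
theorem D139 : act 1 n61 = n139 := rfl
def n140 : Q := act 1 n62
theorem D140 : act 1 n62 = n140 := rfl
theorem F282 : act 3 n140 = n140 := d7_2 F134 D140 (iv D140)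
theorem F283 : act 4 n140 = n64 := d8_2 (iv F135) D140 (iv D64)
def n141 : Q := act 1 n63
theorem D141 : act 1 n63 = n141 := rfl
theorem F284 : act 3 n141 = n141 := d7_2 F137 D141 (iv D141)
theorem F285 : act 4 n141 = n65 := d8_2 (iv F138) D141 (iv D65)
def n142 : Q := act 0 n64
theorem D142 : act 0 n64 = n142 := rfl
theorem F286 : act 3 n142 = n66 := d2_2 (iv F139) D142 (iv D66)
def n143 : Q := act 2 n64
theorem D143 : act 2 n64 = n143 := rfl
def n144 : Q := act 6 n64
theorem D144 : act 6 n64 = n144 := rfl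
theorem F287 : act 3 n144 = n68 := d17_1 D144 (iv D68) (iv F139)
def n145 : Q := act 0 n65
theorem D145 : act 0 n65 = n145 := rfl
theorem F288 : act 3 n145 = n69 := d2_2 (iv F140) D145 (iv D69)
def n146 : Q := act 2 n65
theorem D146 : act 2 n65 = n146 := rfl
def n147 : Q := act 5 n65
theorem D147 : act 5 n65 = n147 := rfl
theorem F289 : act 3 n147 = n71 := d16_1 D147 (iv D71) (iv F140)
def n148 : Q := act 1 n66
theorem D148 : act 1 n66 = n148 := rfl
theorem F290 : act 0 n148 = n148 := d0_1 D148 (iv D148) (iv D66) (iv D30) F43 F30 (iv F43) D30 D66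
theorem F291 : act 2 n148 = n106 := d6_2 F146 D148 (iv D106) F108 D53
theorem F292 : act 4 n148 = n148 := d8_2 F141 D148 (iv D148)
theorem F293 : act 5 n148 = n148 := d9_2 (iv F144) D148 (iv D148) F144 F142
theorem F294 : act 6 n148 = n100 := d10_2 (iv F262) D148 (iv D100) (iv F124) D126
def n149 : Q := act 3 n67
theorem D149 : act 3 n67 = n149 := rfl
theorem F296 : act 0 n149 = n117 := d2_1 D149 F239 (iv F145)
theorem F297 : act 1 n149 = n149 := d7_1 D149 (iv D149) F142
theorem F298 : act 5 n149 = n142 := d16_2 F144 D149 F286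
def n150 : Q := act 6 n67
theorem D150 : act 6 n67 = n150 := rfl
theorem F299 : act 0 n150 = n121 := d5_1 D150 (iv D121) (iv F145)
theorem F300 : act 2 n150 = n68 := d14_1 D150 (iv D68) D67
theorem F301 : act 4 n150 = n150 := d19_1 D150 (iv D150) F143
theorem F302 : act 5 n150 = n68 := d20_1 D150 (iv D68) (iv F117) D121 (iv F260) (iv F262) F144
def n151 : Q := act 1 n69
theorem D151 : act 1 n69 = n151 := rfl
theorem F303 : act 0 n151 = n151 := d0_1 D151 (iv D151) (iv D69) (iv D31) F46 F33 (iv F46) D31 D69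
theorem F304 : act 4 n151 = n151 := d8_2 F148 D151 (iv D151)
theorem F305 : act 5 n151 = n101 := d9_2 (iv F257) D151 (iv D101) (iv F119) D122
theorem F306 : act 6 n151 = n151 := d24_3 (iv F256) (iv F257) D151 F305 (iv D101) (iv D45) D44 D100 (iv F294) F293 (iv D148) F262 F260 (iv F255)
theorem F307 : act 1 n123 = n123 := d10_3 F306 (iv D151) (iv F251) F251 D151
theorem F308 : act 0 n101 = n101 := d0_5 F307 (iv D123) (iv D55) (iv F105) D101 (iv D101) F105 D55 D123
def n152 : Q := act 2 n69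
theorem D152 : act 2 n69 = n152 := rfl
theorem F309 : act 0 n152 = n70 := d1_1 D152 (iv D70) D69
def n153 : Q := act 3 n70
theorem D153 : act 3 n70 = n153 := rfl
theorem F311 : act 1 n153 = n153 := d7_1 D153 (iv D153) F149
def n154 : Q := act 5 n70
theorem D154 : act 5 n70 = n154 := rfl
theorem F312 : act 2 n154 = n71 := d13_1 D154 (iv D71) D70
theorem F313 : act 4 n154 = n154 := d18_1 D154 (iv D154) F150
def n155 : Q := act 6 n71
theorem D155 : act 6 n71 = n155 := rfl
theorem F314 : act 0 n155 = n125 := d5_1 D155 (iv F256) F258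
theorem F316 : act 5 n155 = n123 := d20_1 D155 F251 F257 F256 (iv D125) F121 D71
def n156 : Q := act 3 n72
theorem D156 : act 3 n72 = n156 := rfl
theorem F317 : act 1 n156 = n156 := d7_1 D156 (iv D156) F152
theorem F318 : act 4 n156 = n75 := d15_2 D72 D156 (iv D75) (iv D33) D32
def n157 : Q := act 5 n72
theorem D157 : act 5 n72 = n157 := rfl
theorem F319 : act 4 n157 = n73 := d18_1 D157 (iv D73) D72
def n158 : Q := act 6 n72
theorem D158 : act 6 n72 = n158 := rfl
theorem F320 : act 4 n158 = n74 := d19_1 D158 (iv D74) D72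
def n159 : Q := act 1 n73
theorem D159 : act 1 n73 = n159 := rfl
theorem F321 : act 3 n159 = n78 := d7_2 (iv F153) D159 (iv D78)
theorem F322 : act 5 n159 = n159 := d9_2 D73 D159 (iv D159) (iv D73) F79
def n160 : Q := act 6 n73
theorem D160 : act 6 n73 = n160 := rfl
theorem F323 : act 3 n160 = n79 := d17_1 D160 (iv D79) (iv F153)
theorem F324 : act 5 n160 = n134 := d22_2 D73 D160 (iv D134) F125
def n161 : Q := act 1 n74
theorem D161 : act 1 n74 = n161 := rfl
theorem F325 : act 3 n161 = n80 := d7_2 (iv F154) D161 (iv D80)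
theorem F326 : act 6 n161 = n161 := d10_2 D74 D161 (iv D161) (iv D74) F79
def n162 : Q := act 5 n74
theorem D162 : act 5 n74 = n162 := rfl
theorem F327 : act 0 n162 = n160 := d4_1 D162 F324 F272
theorem F328 : act 2 n162 = n160 := d13_1 D162 F324 F273
theorem F329 : act 3 n162 = n81 := d16_1 D162 (iv D81) (iv F154)
theorem F330 : act 6 n162 = n133 := d20_2 D74 D162 (iv D133) D134 (iv F324) (iv D160) (iv D73)
def n163 : Q := act 2 n75
theorem D163 : act 2 n75 = n163 := rfl
def n164 : Q := act 5 n75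
theorem D164 : act 5 n75 = n164 := rfl
theorem F331 : act 3 n164 = n76 := d16_1 D164 (iv D76) D75
def n165 : Q := act 6 n75
theorem D165 : act 6 n75 = n165 := rfl
theorem F332 : act 3 n165 = n77 := d17_1 D165 (iv D77) D75
def n166 : Q := act 1 n76
theorem D166 : act 1 n76 = n166 := rfl
theorem F333 : act 2 n166 = n166 := d6_2 (iv F156) D166 (iv D166) F156 F84
theorem F334 : act 4 n166 = n78 := d8_2 (iv F157) D166 (iv D78)
theorem F335 : act 5 n166 = n166 := d9_2 D76 D166 (iv D166) (iv D76) F80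
def n167 : Q := act 6 n76
theorem D167 : act 6 n76 = n167 := rfl
theorem F336 : act 2 n167 = n82 := d14_1 D167 (iv D82) (iv F156)
theorem F337 : act 4 n167 = n79 := d19_1 D167 (iv D79) (iv F157)
theorem F338 : act 5 n167 = n137 := d22_2 D76 D167 (iv D137) F127
def n168 : Q := act 1 n77
theorem D168 : act 1 n77 = n168 := rfl
theorem F339 : act 2 n168 = n168 := d6_2 (iv F158) D168 (iv D168) F158 F87
theorem F340 : act 4 n168 = n80 := d8_2 (iv F159) D168 (iv D80)
theorem F341 : act 6 n168 = n168 := d10_2 D77 D168 (iv D168) (iv D77) F80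
def n169 : Q := act 5 n77
theorem D169 : act 5 n77 = n169 := rfl
theorem F342 : act 0 n169 = n167 := d4_1 D169 F338 F279
theorem F343 : act 2 n169 = n83 := d13_1 D169 (iv D83) (iv F158)
theorem F344 : act 4 n169 = n81 := d18_1 D169 (iv D81) (iv F159)
theorem F345 : act 6 n169 = n136 := d20_2 D77 D169 (iv D136) D137 (iv F338) (iv D167) (iv D76)
def n170 : Q := act 0 n78
theorem D170 : act 0 n78 = n170 := rfl
theorem F347 : act 5 n170 = n170 := d4_2 F161 D170 (iv D170)
def n171 : Q := act 6 n78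
theorem D171 : act 6 n78 = n171 := rfl
theorem F348 : act 2 n171 = n171 := d14_1 D171 (iv D171) F160
def n172 : Q := act 1 n79
theorem D172 : act 1 n79 = n172 := rfl
def n173 : Q := act 0 n80
theorem D173 : act 0 n80 = n173 := rfl
theorem F349 : act 2 n173 = n173 := d1_2 F164 D173 (iv D173)
def n174 : Q := act 5 n80
theorem D174 : act 5 n80 = n174 := rfl
theorem F351 : act 2 n174 = n174 := d13_1 D174 (iv D174) F164
def n175 : Q := act 1 n81
theorem D175 : act 1 n81 = n175 := rfl
def n176 : Q := act 1 n82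
theorem D176 : act 1 n82 = n176 := rfl
theorem F352 : act 3 n176 = n176 := d7_2 F169 D176 (iv D176)
theorem F353 : act 4 n176 = n84 := d8_2 (iv F170) D176 (iv D84)
theorem F354 : act 6 n176 = n176 := d10_2 D82 D176 (iv D176) (iv D82) F84
def n177 : Q := act 1 n83
theorem D177 : act 1 n83 = n177 := rfl
theorem F355 : act 3 n177 = n177 := d7_2 F173 D177 (iv D177)
theorem F356 : act 4 n177 = n85 := d8_2 (iv F174) D177 (iv D85)
theorem F357 : act 5 n177 = n177 := d9_2 D83 D177 (iv D177) (iv D83) F87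
def n178 : Q := act 0 n84
theorem D178 : act 0 n84 = n178 := rfl
theorem F358 : act 3 n178 = n86 := d2_2 (iv F176) D178 (iv D86)
theorem F359 : act 6 n178 = n178 := d5_2 F177 D178 (iv D178)
def n179 : Q := act 2 n84
theorem D179 : act 2 n84 = n179 := rfl
theorem F360 : act 6 n179 = n179 := d14_2 F177 D179 (iv D179)
def n180 : Q := act 5 n84
theorem D180 : act 5 n84 = n180 := rfl
theorem F361 : act 1 n180 = n147 := d9_1 D180 (iv D147) (iv D65) (iv F91) D84
theorem F362 : act 3 n180 = n88 := d16_1 D180 (iv D88) (iv F176)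
def n181 : Q := act 0 n85
theorem D181 : act 0 n85 = n181 := rfl
theorem F363 : act 3 n181 = n89 := d2_2 (iv F178) D181 (iv D89)
theorem F364 : act 5 n181 = n181 := d4_2 F179 D181 (iv D181)
def n182 : Q := act 2 n85
theorem D182 : act 2 n85 = n182 := rfl
theorem F365 : act 5 n182 = n182 := d13_2 F179 D182 (iv D182)
def n183 : Q := act 6 n85
theorem D183 : act 6 n85 = n183 := rfl
theorem F366 : act 1 n183 = n144 := d10_1 D183 (iv D144) (iv D64) (iv F94) D85
theorem F367 : act 3 n183 = n91 := d17_1 D183 (iv D91) (iv F178)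
def n184 : Q := act 1 n86
theorem D184 : act 1 n86 = n184 := rfl
def n185 : Q := act 2 n86
theorem D185 : act 2 n86 = n185 := rfl
theorem F369 : act 0 n185 = n87 := d1_1 D185 (iv D87) D86
theorem F370 : act 4 n185 = n185 := d12_2 F180 D185 (iv D185)
theorem F371 : act 6 n185 = n185 := d14_2 F181 D185 (iv D185)
def n186 : Q := act 5 n86
theorem D186 : act 5 n86 = n186 := rfl
theorem F372 : act 0 n186 = n88 := d4_1 D186 (iv D88) D86
theorem F373 : act 4 n186 = n186 := d18_1 D186 (iv D186) F180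
theorem F374 : act 6 n186 = n88 := d22_1 D186 (iv D88) F96 D86
theorem E1 : n184 = n150 := (c24_3 (iv F374) (iv D186) D184 (iv D150) (iv F144) D148 F294 F213 (iv D100) (iv F124) (iv D56) D55 F121 D71 (iv F185))
theorem F375 : act 1 n150 = n86 := (sb E1 (iv D184))
theorem F376 : act 1 n89 = n155 := d0_6 F375 (iv D86) (iv D40) (iv F59) D41 D89 F314 F255 (iv F299)
def n187 : Q := act 3 n87
theorem D187 : act 3 n87 = n187 := rfl
def n188 : Q := act 5 n87
theorem D188 : act 5 n87 = n188 := rfl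
theorem F379 : act 2 n188 = n88 := d13_1 D188 (iv D88) D87
theorem F380 : act 4 n188 = n188 := d18_1 D188 (iv D188) F183
def n189 : Q := act 2 n89
theorem D189 : act 2 n89 = n189 := rfl
theorem F381 : act 0 n189 = n90 := d1_1 D189 (iv D90) D89
theorem F382 : act 4 n189 = n189 := d12_2 F187 D189 (iv D189)
theorem F383 : act 5 n189 = n189 := d13_2 F188 D189 (iv D189)
def n190 : Q := act 6 n89
theorem D190 : act 6 n89 = n190 := rfl
theorem F384 : act 0 n190 = n91 := d5_1 D190 (iv D91) D89
theorem F385 : act 1 n190 = n186 := d10_1 D190 F374 F185 D155 (iv F376)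
theorem F386 : act 4 n190 = n190 := d19_1 D190 (iv D190) F187
theorem F387 : act 5 n190 = n91 := d22_2 F188 D190 (iv D91) D89
def n191 : Q := act 3 n90
theorem D191 : act 3 n90 = n191 := rfl
theorem F389 : act 5 n191 = n191 := d16_2 F191 D191 (iv D191)
def n192 : Q := act 6 n90
theorem D192 : act 6 n90 = n192 := rfl
theorem F390 : act 2 n192 = n91 := d14_1 D192 (iv D91) D90
theorem F391 : act 4 n192 = n192 := d19_1 D192 (iv D192) F190
theorem F392 : act 1 n185 = n192 := d6_5 F390 F192 (iv F300) F375 D185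
theorem F393 : act 1 n152 = n95 := d23_10 F387 (iv F390) (iv F392) F369 D188 F379 F185 (iv F258) (iv F257) D152 F200 D109 F228 D126 (iv F261) (iv F302) F300 (iv F192) (iv F384)
theorem F395 : act 2 n101 = n151 := d6_4 D152 F393 F201 D101 (iv D151)
def n193 : Q := act 0 n92
theorem D193 : act 0 n92 = n193 := rfl
theorem F396 : act 2 n193 = n193 := d1_2 F194 D193 (iv D193)
def n195 : Q := act 5 n92
theorem D195 : act 5 n92 = n195 := rfl
theorem F399 : act 2 n195 = n195 := d13_1 D195 (iv D195) F194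
def n196 : Q := act 6 n92
theorem D196 : act 6 n92 = n196 := rfl
def n197 : Q := act 2 n93
theorem D197 : act 2 n93 = n197 := rfl
theorem F403 : act 0 n197 = n102 := d1_1 D197 (iv D102) (iv F196)
def n198 : Q := act 4 n93
theorem D198 : act 4 n93 = n198 := rfl
theorem F404 : act 0 n198 = n103 := d3_1 D198 (iv D103) (iv F196)
def n199 : Q := act 5 n93
theorem D199 : act 5 n93 = n199 := rfl
theorem F407 : act 3 n199 = n94 := d16_1 D199 (iv D94) D93
def n200 : Q := act 6 n93
theorem D200 : act 6 n93 = n200 := rfl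
theorem F409 : act 3 n200 = n95 := d17_1 D200 (iv D95) D93
def n201 : Q := act 1 n94
theorem D201 : act 1 n94 = n201 := rfl
def n202 : Q := act 1 n96
theorem D202 : act 1 n96 = n202 := rfl
theorem F411 : act 2 n202 = n202 := d6_2 D96 D202 (iv D202) (iv D96) F102
def n203 : Q := act 3 n96
theorem D203 : act 3 n96 = n203 := rfl
theorem F412 : act 0 n203 = n111 := d2_1 D203 (iv D111) (iv F203)
def n204 : Q := act 4 n96
theorem D204 : act 4 n96 = n204 := rfl
theorem F413 : act 0 n204 = n112 := d3_1 D204 (iv D112) (iv F203)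
theorem F414 : act 2 n204 = n97 := d12_1 D204 (iv D97) D96
def n205 : Q := act 5 n96
theorem D205 : act 5 n96 = n205 := rfl
theorem F415 : act 0 n205 = n113 := d4_1 D205 (iv D113) (iv F203)
theorem F416 : act 2 n205 = n98 := d13_1 D205 (iv D98) D96
def n206 : Q := act 6 n96
theorem D206 : act 6 n96 = n206 := rfl
theorem F417 : act 0 n206 = n114 := d5_1 D206 (iv D114) (iv F203)
theorem F418 : act 2 n206 = n99 := d14_1 D206 (iv D99) D96
def n207 : Q := act 5 n97
theorem D207 : act 5 n97 = n207 := rfl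
theorem F419 : act 0 n207 = n115 := d4_1 D207 (iv D115) (iv F204)
theorem F420 : act 3 n207 = n207 := d16_1 D207 (iv D207) F206
theorem F421 : act 4 n207 = n98 := d18_1 D207 (iv D98) D97
def n208 : Q := act 6 n97
theorem D208 : act 6 n97 = n208 := rfl
theorem F422 : act 0 n208 = n116 := d5_1 D208 (iv D116) (iv F204)
theorem F423 : act 3 n208 = n208 := d17_1 D208 (iv D208) F206
theorem F424 : act 4 n208 = n99 := d19_1 D208 (iv D99) D97
def n209 : Q := act 1 n98
theorem D209 : act 1 n98 = n209 := rfl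
theorem F425 : act 0 n209 = n209 := d0_1 D209 (iv D209) F207 D117 (iv F296) F297 F296 (iv D117) (iv F207)
theorem F426 : act 3 n209 = n100 := d7_2 (iv F208) D209 (iv D100)
theorem F427 : act 5 n209 = n209 := d9_2 D98 D209 (iv D209) (iv D98) F102
def n210 : Q := act 1 n99
theorem D210 : act 1 n99 = n210 := rfl
theorem F428 : act 3 n210 = n101 := d7_2 (iv F210) D210 (iv D101)
theorem F429 : act 6 n210 = n210 := d10_2 D99 D210 (iv D210) (iv D99) F102
theorem F430 : act 0 n210 = n210 := d2_3 F428 F308 (iv F428)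
def n211 : Q := act 2 n100
theorem D211 : act 2 n100 = n211 := rfl
def n212 : Q := act 1 n102
theorem D212 : act 1 n102 = n212 := rfl
def n213 : Q := act 3 n102
theorem D213 : act 3 n102 = n213 := rfl
theorem F436 : act 2 n213 = n203 := d21_2 D102 D213 (iv D203) (iv D96) (iv D43) D42 D93 F196
def n215 : Q := act 5 n102
theorem D215 : act 5 n102 = n215 := rfl
theorem F438 : act 2 n215 = n104 := d13_1 D215 (iv D104) D102
def n216 : Q := act 6 n102
theorem D216 : act 6 n102 = n216 := rfl
theorem F439 : act 2 n216 = n105 := d14_1 D216 (iv D105) D102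
def n217 : Q := act 5 n103
theorem D217 : act 5 n103 = n217 := rfl
def n218 : Q := act 6 n103
theorem D218 : act 6 n103 = n218 := rfl
theorem F443 : act 4 n218 = n105 := d19_1 D218 (iv D105) D103
def n219 : Q := act 1 n104
theorem D219 : act 1 n104 = n219 := rfl
theorem F444 : act 3 n219 = n106 := d7_2 (iv F218) D219 (iv D106)
def n220 : Q := act 6 n104
theorem D220 : act 6 n104 = n220 := rfl
theorem F448 : act 5 n220 = n200 := d22_2 D104 D220 (iv D200) F196
def n221 : Q := act 1 n105
theorem D221 : act 1 n105 = n221 := rfl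
theorem F449 : act 3 n221 = n108 := d7_2 (iv F219) D221 (iv D108)
def n222 : Q := act 5 n105
theorem D222 : act 5 n105 = n222 := rfl
theorem F453 : act 3 n222 = n109 := d16_1 D222 (iv D109) (iv F219)
theorem F454 : act 6 n222 = n199 := d20_2 D105 D222 (iv D199) D200 (iv F448) (iv D220) (iv D104)
def n224 : Q := act 2 n108
theorem D224 : act 2 n108 = n224 := rfl
theorem F457 : act 1 n224 = n124 := d6_1 D224 (iv D124) (iv D55) (iv F110) D108
def n225 : Q := act 5 n108
theorem D225 : act 5 n108 = n225 := rfl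
def n226 : Q := act 1 n109
theorem D226 : act 1 n109 = n226 := rfl
theorem F463 : act 2 n226 = n125 := d6_2 (iv F228) D226 F255 (iv F263) (iv D126)
theorem F465 : act 5 n124 = n226 := d13_0 F463 (iv D125) D124
theorem E2 : n225 = n224 := (c9_5 F465 (iv D226) (iv D109) D108 D225 F457)
theorem F466 : act 5 n224 = n108 := (sb E2 (iv D225))
def n227 : Q := act 0 n110
theorem D227 : act 0 n110 = n227 := rfl
theorem F467 : act 2 n227 = n127 := d1_2 (iv F231) D227 (iv D127)
def n228 : Q := act 3 n110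
theorem D228 : act 3 n110 = n228 := rfl
theorem F468 : act 1 n228 = n111 := d7_1 D228 (iv D111) D110
def n229 : Q := act 4 n110
theorem D229 : act 4 n110 = n229 := rfl
theorem F469 : act 1 n229 = n112 := d8_1 D229 (iv D112) D110
theorem F470 : act 2 n229 = n129 := d12_1 D229 (iv D129) (iv F231)
def n230 : Q := act 5 n110
theorem D230 : act 5 n110 = n230 := rfl
theorem F471 : act 2 n230 = n130 := d13_1 D230 (iv D130) (iv F231)
def n231 : Q := act 6 n110
theorem D231 : act 6 n110 = n231 := rfl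
theorem F472 : act 2 n231 = n131 := d14_1 D231 (iv D131) (iv F231)
def n232 : Q := act 2 n111
theorem D232 : act 2 n111 = n232 := rfl
theorem F473 : act 0 n232 = n213 := d1_1 D232 F436 F412
theorem F474 : act 3 n232 = n197 := d11_2 D111 D232 (iv D197) (iv D93) (iv D42) D43 D96 D203 (iv F436) (iv D213) (iv D102) (iv D46) (iv D22) D23 D49
def n233 : Q := act 4 n111
theorem D233 : act 4 n111 = n233 := rfl
def n234 : Q := act 5 n111
theorem D234 : act 5 n111 = n234 := rfl
theorem F475 : act 3 n234 = n113 := d16_1 D234 (iv D113) D111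
def n235 : Q := act 6 n111
theorem D235 : act 6 n111 = n235 := rfl
theorem F476 : act 3 n235 = n114 := d17_1 D235 (iv D114) D111
def n236 : Q := act 3 n112
theorem D236 : act 3 n112 = n236 := rfl
def n237 : Q := act 5 n112
theorem D237 : act 5 n112 = n237 := rfl
theorem F477 : act 2 n237 = n115 := d13_1 D237 (iv D115) (iv F232)
theorem F478 : act 4 n237 = n113 := d18_1 D237 (iv D113) D112
def n238 : Q := act 6 n112
theorem D238 : act 6 n112 = n238 := rfl
theorem F479 : act 2 n238 = n116 := d14_1 D238 (iv D116) (iv F232)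
theorem F480 : act 4 n238 = n114 := d19_1 D238 (iv D114) D112
def n239 : Q := act 1 n113
theorem D239 : act 1 n113 = n239 := rfl
def n240 : Q := act 6 n113
theorem D240 : act 6 n113 = n240 := rfl
theorem F481 : act 2 n240 = n118 := d14_1 D240 (iv D118) (iv F233)
theorem F482 : act 5 n240 = n206 := d22_2 D113 D240 (iv D206) F203
def n241 : Q := act 1 n114
theorem D241 : act 1 n114 = n241 := rfl
def n242 : Q := act 5 n114
theorem D242 : act 5 n114 = n242 := rfl
theorem F483 : act 0 n242 = n240 := d4_1 D242 F482 F417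
theorem F484 : act 2 n242 = n120 := d13_1 D242 (iv D120) (iv F234)
theorem F485 : act 6 n242 = n205 := d20_2 D114 D242 (iv D205) D206 (iv F482) (iv D240) (iv D113)
def n243 : Q := act 1 n115
theorem D243 : act 1 n115 = n243 := rfl
theorem F486 : act 3 n243 = n243 := d7_2 F235 D243 (iv D243)
theorem F487 : act 4 n243 = n117 := d8_2 (iv F236) D243 (iv D117)
theorem F488 : act 5 n243 = n140 := d9_2 D115 D243 (iv D140) (iv D62) (iv F112)
def n244 : Q := act 6 n115
theorem D244 : act 6 n115 = n244 := rfl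
theorem F489 : act 3 n244 = n244 := d17_1 D244 (iv D244) F235
theorem F490 : act 4 n244 = n118 := d19_1 D244 (iv D118) (iv F236)
theorem F491 : act 5 n244 = n208 := d22_2 D115 D244 (iv D208) F204
def n245 : Q := act 1 n116
theorem D245 : act 1 n116 = n245 := rfl
theorem F492 : act 3 n245 = n245 := d7_2 F237 D245 (iv D245)
theorem F493 : act 4 n245 = n119 := d8_2 (iv F238) D245 (iv D119)
theorem F494 : act 6 n245 = n141 := d10_2 D116 D245 (iv D141) (iv D63) (iv F112)
def n246 : Q := act 5 n116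
theorem D246 : act 5 n116 = n246 := rfl
theorem F495 : act 0 n246 = n244 := d4_1 D246 F491 F422
theorem F496 : act 3 n246 = n246 := d16_1 D246 (iv D246) F237
theorem F497 : act 4 n246 = n120 := d18_1 D246 (iv D120) (iv F238)
theorem F498 : act 6 n246 = n207 := d20_2 D116 D246 (iv D207) D208 (iv F491) (iv D244) (iv D115)
def n247 : Q := act 2 n117
theorem D247 : act 2 n117 = n247 := rfl
theorem F499 : act 5 n247 = n143 := d13_2 (iv F240) D247 (iv D143)
def n248 : Q := act 6 n117
theorem D248 : act 6 n117 = n248 := rfl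
theorem F500 : act 3 n248 = n121 := d17_1 D248 (iv D121) (iv F239)
def n249 : Q := act 1 n118
theorem D249 : act 1 n118 = n249 := rfl
theorem F501 : act 3 n249 = n122 := d7_2 (iv F241) D249 (iv D122)
theorem F502 : act 0 n147 = n249 := d2_3 F501 F258 (iv F289)
theorem F503 : act 5 n145 = n249 := d16_0 F501 (iv F257) (iv F288)
def n250 : Q := act 0 n119
theorem D250 : act 0 n119 = n250 := rfl
theorem F504 : act 1 n250 = n250 := d0_2 D119 D250 (iv D250) (iv D119) (iv F209) D210 F430 (iv D210) F209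
theorem F505 : act 3 n250 = n123 := d2_2 (iv F243) D250 (iv D123)
theorem F506 : act 6 n250 = n145 := d5_2 (iv F244) D250 (iv D145)
def n251 : Q := act 2 n119
theorem D251 : act 2 n119 = n251 := rfl
theorem F507 : act 6 n251 = n146 := d14_2 (iv F244) D251 (iv D146)
def n252 : Q := act 5 n119
theorem D252 : act 5 n119 = n252 := rfl
theorem F508 : act 3 n252 = n125 := d16_1 D252 (iv D125) (iv F243)
theorem F509 : act 6 n252 = n249 := d22_1 D252 (iv F503) (iv F506) (iv D250)
theorem F510 : act 1 n252 = n248 := d24_2 (iv F244) D252 (iv D248) F240 (iv D64) (iv F94) (iv D39) F54 (iv D18) D17 F52 D38 F91 D65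
def n253 : Q := act 1 n120
theorem D253 : act 1 n120 = n253 := rfl
theorem F511 : act 3 n253 = n126 := d7_2 (iv F246) D253 (iv D126)
theorem F512 : act 5 n253 = n248 := d9_2 D120 D253 (iv F510) (iv D252) (iv D119)
theorem F513 : act 0 n144 = n253 := d22_4 F512 (iv D248) F240 D144
theorem F514 : act 6 n142 = n253 := d22_1 F298 F512 (iv D248) (iv F296)
def n254 : Q := act 2 n122
theorem D254 : act 2 n122 = n254 := rfl
theorem F515 : act 0 n254 = n154 := d1_1 D254 F312 (iv F258)
theorem F517 : act 5 n254 = n152 := d13_2 F257 D254 (iv D152)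
theorem F518 : act 6 n254 = n226 := d14_2 (iv F256) D254 F463
def n255 : Q := act 2 n123
theorem D255 : act 2 n123 = n255 := rfl
theorem F519 : act 0 n255 = n124 := d1_1 D255 (iv D124) D123
theorem F521 : act 6 n255 = n152 := d14_2 (iv F251) D255 (iv D152)
theorem F522 : act 1 n196 = n255 := d10_5 F521 F393 (iv D95) D92 D196
def n256 : Q := act 3 n124
theorem D256 : act 3 n124 = n256 := rfl
theorem F523 : act 6 n256 = n153 := d17_2 (iv F253) D256 (iv D153)
def n257 : Q := act 1 n127
theorem D257 : act 1 n127 = n257 := rfl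
theorem F524 : act 0 n257 = n257 := d0_1 D257 (iv D257) (iv D127) (iv D57) F70 F49 (iv F70) D57 D127
def n258 : Q := act 3 n127
theorem D258 : act 3 n127 = n258 := rfl
theorem F525 : act 0 n258 = n128 := d2_1 D258 (iv D128) D127
theorem F526 : act 2 n258 = n258 := d1_0 F525 F265 (iv F525)
def n259 : Q := act 4 n127
theorem D259 : act 4 n127 = n259 := rfl
theorem F527 : act 0 n259 = n129 := d3_1 D259 (iv D129) D127
def n260 : Q := act 5 n127
theorem D260 : act 5 n127 = n260 := rfl
theorem F528 : act 0 n260 = n130 := d4_1 D260 (iv D130) D127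
def n261 : Q := act 6 n127
theorem D261 : act 6 n127 = n261 := rfl
theorem F529 : act 0 n261 = n131 := d5_1 D261 (iv D131) D127
def n262 : Q := act 4 n128
theorem D262 : act 4 n128 = n262 := rfl
theorem F530 : act 1 n262 = n132 := d8_1 D262 (iv D132) (iv F264)
theorem F531 : act 2 n262 = n262 := d12_1 D262 (iv D262) F265
def n263 : Q := act 5 n128
theorem D263 : act 5 n128 = n263 := rfl
theorem F532 : act 2 n263 = n263 := d13_1 D263 (iv D263) F265
theorem F533 : act 3 n263 = n130 := d16_1 D263 (iv D130) D128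
def n264 : Q := act 6 n128
theorem D264 : act 6 n128 = n264 := rfl
theorem F534 : act 2 n264 = n264 := d14_1 D264 (iv D264) F265
theorem F535 : act 3 n264 = n131 := d17_1 D264 (iv D131) D128
def n265 : Q := act 3 n129
theorem D265 : act 3 n129 = n265 := rfl
theorem F536 : act 1 n265 = n135 := d7_1 D265 (iv D135) (iv F266)
def n266 : Q := act 5 n129
theorem D266 : act 5 n129 = n266 := rfl
theorem F537 : act 4 n266 = n130 := d18_1 D266 (iv D130) D129
def n267 : Q := act 6 n129
theorem D267 : act 6 n129 = n267 := rfl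
theorem F538 : act 4 n267 = n131 := d19_1 D267 (iv D131) D129
def n268 : Q := act 1 n130
theorem D268 : act 1 n130 = n268 := rfl
theorem F539 : act 5 n268 = n138 := d9_2 D130 D268 (iv D138) (iv D60) D57
def n269 : Q := act 6 n130
theorem D269 : act 6 n130 = n269 := rfl
theorem F540 : act 5 n269 = n261 := d22_2 D130 D269 (iv D261) (iv D127)
def n270 : Q := act 1 n131
theorem D270 : act 1 n131 = n270 := rfl
theorem F541 : act 6 n270 = n139 := d10_2 D131 D270 (iv D139) (iv D61) D57
def n271 : Q := act 5 n131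
theorem D271 : act 5 n131 = n271 := rfl
theorem F542 : act 0 n271 = n269 := d4_1 D271 F540 F529
theorem F543 : act 6 n271 = n260 := d20_2 D131 D271 (iv D260) D261 (iv F540) (iv D269) (iv D130)
def n272 : Q := act 3 n132
theorem D272 : act 3 n132 = n272 := rfl
theorem F544 : act 0 n272 = n156 := d2_1 D272 (iv D156) (iv F267)
theorem F545 : act 4 n272 = n135 := d15_2 D132 D272 (iv D135) (iv D59) D58
def n273 : Q := act 5 n132
theorem D273 : act 5 n132 = n273 := rfl
theorem F546 : act 0 n273 = n157 := d4_1 D273 (iv D157) (iv F267)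
theorem F547 : act 2 n273 = n157 := d13_1 D273 (iv D157) (iv F268)
theorem F548 : act 4 n273 = n133 := d18_1 D273 (iv D133) D132
def n274 : Q := act 6 n132
theorem D274 : act 6 n132 = n274 := rfl
theorem F549 : act 0 n274 = n158 := d5_1 D274 (iv D158) (iv F267)
theorem F550 : act 2 n274 = n158 := d14_1 D274 (iv D158) (iv F268)
theorem F551 : act 4 n274 = n134 := d19_1 D274 (iv D134) D132
def n275 : Q := act 1 n133
theorem D275 : act 1 n133 = n275 := rfl
theorem F552 : act 3 n275 = n138 := d7_2 (iv F271) D275 (iv D138)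
def n276 : Q := act 1 n134
theorem D276 : act 1 n134 = n276 := rfl
theorem F553 : act 3 n276 = n139 := d7_2 (iv F274) D276 (iv D139)
def n277 : Q := act 2 n135
theorem D277 : act 2 n135 = n277 := rfl
theorem F554 : act 0 n277 = n163 := d1_1 D277 (iv D163) (iv F275)
theorem F555 : act 3 n277 = n163 := d21_1 D277 (iv D163) (iv D75) F81 F51 (iv F81) D75 (iv F275)
def n278 : Q := act 5 n135
theorem D278 : act 5 n135 = n278 := rfl
theorem F556 : act 0 n278 = n164 := d4_1 D278 (iv D164) (iv F275)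
theorem F557 : act 3 n278 = n136 := d16_1 D278 (iv D136) D135
def n279 : Q := act 6 n135
theorem D279 : act 6 n135 = n279 := rfl
theorem F558 : act 0 n279 = n165 := d5_1 D279 (iv D165) (iv F275)
theorem F559 : act 3 n279 = n137 := d17_1 D279 (iv D137) D135
def n280 : Q := act 1 n136
theorem D280 : act 1 n136 = n280 := rfl
theorem F560 : act 4 n280 = n138 := d8_2 (iv F278) D280 (iv D138)
def n281 : Q := act 1 n137
theorem D281 : act 1 n137 = n281 := rfl
theorem F561 : act 4 n281 = n139 := d8_2 (iv F281) D281 (iv D139)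
def n282 : Q := act 0 n138
theorem D282 : act 0 n138 = n282 := rfl
def n283 : Q := act 2 n138
theorem D283 : act 2 n138 = n283 := rfl
theorem F562 : act 1 n283 = n143 := d6_1 D283 (iv D143) (iv D64) (iv F130) D138
def n284 : Q := act 6 n138
theorem D284 : act 6 n138 = n284 := rfl
def n285 : Q := act 0 n139
theorem D285 : act 0 n139 = n285 := rfl
def n286 : Q := act 2 n139
theorem D286 : act 2 n139 = n286 := rfl
theorem F563 : act 1 n286 = n146 := d6_1 D286 (iv D146) (iv D65) (iv F132) D139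
def n287 : Q := act 5 n139
theorem D287 : act 5 n139 = n287 := rfl
def n288 : Q := act 0 n140
theorem D288 : act 0 n140 = n288 := rfl
theorem F564 : act 3 n288 = n288 := d2_2 F282 D288 (iv D288)
theorem F565 : act 4 n288 = n142 := d3_2 (iv F283) D288 (iv D142)
def n289 : Q := act 2 n140
theorem D289 : act 2 n140 = n289 := rfl
theorem F566 : act 4 n289 = n143 := d12_2 (iv F283) D289 (iv D143)
def n290 : Q := act 6 n140
theorem D290 : act 6 n140 = n290 := rfl
theorem F567 : act 3 n290 = n290 := d17_1 D290 (iv D290) F282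
theorem F568 : act 4 n290 = n144 := d19_1 D290 (iv D144) (iv F283)
def n291 : Q := act 0 n141
theorem D291 : act 0 n141 = n291 := rfl
theorem F569 : act 3 n291 = n291 := d2_2 F284 D291 (iv D291)
theorem F570 : act 4 n291 = n145 := d3_2 (iv F285) D291 (iv D145)
def n292 : Q := act 2 n141
theorem D292 : act 2 n141 = n292 := rfl
theorem F571 : act 4 n292 = n146 := d12_2 (iv F285) D292 (iv D146)
def n293 : Q := act 5 n141
theorem D293 : act 5 n141 = n293 := rfl
theorem F572 : act 3 n293 = n293 := d16_1 D293 (iv D293) F284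
theorem F573 : act 4 n293 = n147 := d18_1 D293 (iv D147) (iv F285)
def n294 : Q := act 1 n142
theorem D294 : act 1 n142 = n294 := rfl
theorem F574 : act 0 n294 = n294 := d0_1 D294 (iv D294) (iv D142) (iv D64) F73 F52 (iv F73) D64 D142
theorem F575 : act 3 n294 = n148 := d7_2 (iv F286) D294 (iv D148)
theorem F576 : act 5 n294 = n294 := d9_2 F298 D294 (iv D294) (iv F298) F297
theorem F577 : act 6 n294 = n209 := d10_2 (iv F514) D294 (iv D209) (iv F247) D253
def n295 : Q := act 2 n142
theorem D295 : act 2 n142 = n295 := rfl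
theorem F578 : act 0 n295 = n143 := d1_1 D295 (iv D143) D142
def n296 : Q := act 3 n143
theorem D296 : act 3 n143 = n296 := rfl
def n297 : Q := act 6 n143
theorem D297 : act 6 n143 = n297 := rfl
theorem F579 : act 2 n297 = n144 := d14_1 D297 (iv D144) D143
def n298 : Q := act 5 n144
theorem D298 : act 5 n144 = n298 := rfl
theorem F580 : act 0 n298 = n248 := d4_1 D298 (iv F512) (iv F513)
theorem F581 : act 3 n298 = n150 := d16_1 D298 F302 (iv F287)
theorem F582 : act 6 n298 = n149 := d20_2 D144 D298 F298 F514 F512 (iv D248) F240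
theorem F583 : act 1 n178 = n298 := d7_3 F581 F375 (iv F358)
def n299 : Q := act 1 n145
theorem D299 : act 1 n145 = n299 := rfl
theorem F584 : act 0 n299 = n299 := d0_1 D299 (iv D299) (iv D145) (iv D65) F75 F54 (iv F75) D65 D145
theorem F585 : act 3 n299 = n151 := d7_2 (iv F288) D299 (iv D151)
theorem F586 : act 5 n299 = n210 := d9_2 (iv F503) D299 (iv D210) (iv F242) D249
theorem F587 : act 6 n299 = n299 := d10_2 F506 D299 (iv D299) (iv F506) F504
def n300 : Q := act 2 n145
theorem D300 : act 2 n145 = n300 := rfl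
theorem F588 : act 0 n300 = n146 := d1_1 D300 (iv D146) D145
def n301 : Q := act 3 n146
theorem D301 : act 3 n146 = n301 := rfl
def n302 : Q := act 5 n146
theorem D302 : act 5 n146 = n302 := rfl
theorem F589 : act 2 n302 = n147 := d13_1 D302 (iv D147) D146
def n303 : Q := act 6 n147
theorem D303 : act 6 n147 = n303 := rfl
theorem F590 : act 0 n303 = n252 := d5_1 D303 F509 (iv F502)
theorem F591 : act 3 n303 = n155 := d17_1 D303 (iv D155) (iv F289)
theorem F593 : act 1 n181 = n303 := d7_3 F591 (iv F376) (iv F363)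
def n304 : Q := act 2 n149
theorem D304 : act 2 n149 = n304 := rfl
theorem F594 : act 0 n304 = n247 := d1_1 D304 (iv D247) (iv F296)
theorem F595 : act 5 n304 = n295 := d13_2 (iv F298) D304 (iv D295)
def n305 : Q := act 4 n149
theorem D305 : act 4 n149 = n305 := rfl
theorem F596 : act 0 n305 = n243 := d3_1 D305 F487 (iv F296)
theorem F597 : act 1 n305 = n305 := d8_1 D305 (iv D305) F297
theorem F598 : act 3 n305 = n305 := d15_1 D305 (iv D305) (iv D149) F143 D149
theorem F599 : act 5 n305 = n288 := d18_2 (iv F298) D305 F565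
def n306 : Q := act 3 n152
theorem D306 : act 3 n152 = n306 := rfl
theorem F600 : act 0 n306 = n153 := d2_1 D306 (iv D153) (iv F309)
theorem F601 : act 1 n306 = n200 := d7_1 D306 F409 (iv F393)
def n307 : Q := act 2 n153
theorem D307 : act 2 n153 = n307 := rfl
def n308 : Q := act 4 n153
theorem D308 : act 4 n153 = n308 := rfl
theorem F602 : act 1 n308 = n308 := d8_1 D308 (iv D308) F311
theorem F603 : act 3 n308 = n308 := d15_1 D308 (iv D308) (iv D153) F150 D153
def n309 : Q := act 5 n153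
theorem D309 : act 5 n153 = n309 := rfl
theorem F604 : act 3 n309 = n154 := d16_1 D309 (iv D154) D153
def n310 : Q := act 1 n154
theorem D310 : act 1 n154 = n310 := rfl
theorem F606 : act 5 n310 = n310 := d9_2 D154 D310 (iv D310) (iv D154) F149
def n311 : Q := act 6 n154
theorem D311 : act 6 n154 = n311 := rfl
theorem F608 : act 2 n311 = n155 := d14_1 D311 (iv D155) (iv F312)
theorem F610 : act 5 n311 = n255 := d20_1 D311 F521 (iv F517) F518 (iv F465) F253 D154
def n312 : Q := act 2 n156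
theorem D312 : act 2 n156 = n312 := rfl
theorem F611 : act 4 n312 = n163 := d12_2 (iv F318) D312 (iv D163)
def n313 : Q := act 5 n156
theorem D313 : act 5 n156 = n313 := rfl
theorem F612 : act 3 n313 = n157 := d16_1 D313 (iv D157) D156
theorem F613 : act 4 n313 = n164 := d18_1 D313 (iv D164) (iv F318)
def n314 : Q := act 6 n156
theorem D314 : act 6 n156 = n314 := rfl
theorem F614 : act 3 n314 = n158 := d17_1 D314 (iv D158) D156
theorem F615 : act 4 n314 = n165 := d19_1 D314 (iv D165) (iv F318)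
def n315 : Q := act 1 n157
theorem D315 : act 1 n157 = n315 := rfl
theorem F616 : act 4 n315 = n159 := d8_2 (iv F319) D315 (iv D159)
theorem F617 : act 5 n315 = n315 := d9_2 D157 D315 (iv D315) (iv D157) F152
def n316 : Q := act 6 n157
theorem D316 : act 6 n157 = n316 := rfl
theorem F618 : act 4 n316 = n160 := d19_1 D316 (iv D160) (iv F319)
theorem F619 : act 5 n316 = n274 := d22_2 D157 D316 (iv D274) F267
def n317 : Q := act 1 n158
theorem D317 : act 1 n158 = n317 := rfl
theorem F620 : act 4 n317 = n161 := d8_2 (iv F320) D317 (iv D161)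
theorem F621 : act 6 n317 = n317 := d10_2 D158 D317 (iv D317) (iv D158) F152
def n318 : Q := act 5 n158
theorem D318 : act 5 n158 = n318 := rfl
theorem F622 : act 0 n318 = n316 := d4_1 D318 F619 F549
theorem F623 : act 2 n318 = n316 := d13_1 D318 F619 F550
theorem F624 : act 4 n318 = n162 := d18_1 D318 (iv D162) (iv F320)
theorem F625 : act 6 n318 = n273 := d20_2 D158 D318 (iv D273) D274 (iv F619) (iv D316) (iv D157)
def n319 : Q := act 0 n159
theorem D319 : act 0 n159 = n319 := rfl
theorem F626 : act 3 n319 = n170 := d2_2 (iv F321) D319 (iv D170)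
theorem F627 : act 5 n319 = n319 := d4_2 F322 D319 (iv D319)
def n320 : Q := act 2 n159
theorem D320 : act 2 n159 = n320 := rfl
theorem F628 : act 5 n320 = n320 := d13_2 F322 D320 (iv D320)
def n321 : Q := act 6 n159
theorem D321 : act 6 n159 = n321 := rfl
theorem F629 : act 3 n321 = n171 := d17_1 D321 (iv D171) (iv F321)
def n322 : Q := act 1 n160
theorem D322 : act 1 n160 = n322 := rfl
theorem F630 : act 3 n322 = n172 := d7_2 (iv F323) D322 (iv D172)
def n323 : Q := act 0 n161
theorem D323 : act 0 n161 = n323 := rfl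
theorem F631 : act 3 n323 = n173 := d2_2 (iv F325) D323 (iv D173)
theorem F632 : act 6 n323 = n323 := d5_2 F326 D323 (iv D323)
def n324 : Q := act 2 n161
theorem D324 : act 2 n161 = n324 := rfl
theorem F633 : act 6 n324 = n324 := d14_2 F326 D324 (iv D324)
def n325 : Q := act 5 n161
theorem D325 : act 5 n161 = n325 := rfl
theorem F634 : act 3 n325 = n174 := d16_1 D325 (iv D174) (iv F325)
def n326 : Q := act 1 n162
theorem D326 : act 1 n162 = n326 := rfl
theorem F635 : act 3 n326 = n175 := d7_2 (iv F329) D326 (iv D175)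
def n327 : Q := act 1 n163
theorem D327 : act 1 n163 = n327 := rfl
theorem F636 : act 2 n327 = n327 := d6_2 D163 D327 (iv D327) (iv D163) F155
def n328 : Q := act 5 n163
theorem D328 : act 5 n163 = n328 := rfl
theorem F637 : act 2 n328 = n164 := d13_1 D328 (iv D164) D163
def n329 : Q := act 6 n163
theorem D329 : act 6 n163 = n329 := rfl
theorem F638 : act 2 n329 = n165 := d14_1 D329 (iv D165) D163
def n330 : Q := act 1 n164
theorem D330 : act 1 n164 = n330 := rfl
theorem F639 : act 3 n330 = n166 := d7_2 (iv F331) D330 (iv D166)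
theorem F640 : act 5 n330 = n330 := d9_2 D164 D330 (iv D330) (iv D164) F155
def n331 : Q := act 6 n164
theorem D331 : act 6 n164 = n331 := rfl
theorem F641 : act 3 n331 = n167 := d17_1 D331 (iv D167) (iv F331)
theorem F642 : act 5 n331 = n279 := d22_2 D164 D331 (iv D279) F275
def n332 : Q := act 1 n165
theorem D332 : act 1 n165 = n332 := rfl
theorem F643 : act 3 n332 = n168 := d7_2 (iv F332) D332 (iv D168)
theorem F644 : act 6 n332 = n332 := d10_2 D165 D332 (iv D332) (iv D165) F155
def n333 : Q := act 5 n165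
theorem D333 : act 5 n165 = n333 := rfl
theorem F645 : act 0 n333 = n331 := d4_1 D333 F642 F558
theorem F646 : act 3 n333 = n169 := d16_1 D333 (iv D169) (iv F332)
theorem F647 : act 6 n333 = n278 := d20_2 D165 D333 (iv D278) D279 (iv F642) (iv D331) (iv D164)
def n334 : Q := act 0 n166
theorem D334 : act 0 n166 = n334 := rfl
theorem F649 : act 4 n334 = n170 := d3_2 (iv F334) D334 (iv D170)
theorem F650 : act 5 n334 = n334 := d4_2 F335 D334 (iv D334)
def n335 : Q := act 6 n166
theorem D335 : act 6 n166 = n335 := rfl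
theorem F651 : act 2 n335 = n335 := d14_1 D335 (iv D335) F333
theorem F652 : act 4 n335 = n171 := d19_1 D335 (iv D171) (iv F334)
def n336 : Q := act 1 n167
theorem D336 : act 1 n167 = n336 := rfl
theorem F653 : act 4 n336 = n172 := d8_2 (iv F337) D336 (iv D172)
def n337 : Q := act 0 n168
theorem D337 : act 0 n168 = n337 := rfl
theorem F655 : act 4 n337 = n173 := d3_2 (iv F340) D337 (iv D173)
def n338 : Q := act 5 n168
theorem D338 : act 5 n168 = n338 := rfl
theorem F657 : act 2 n338 = n338 := d13_1 D338 (iv D338) F339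
theorem F658 : act 4 n338 = n174 := d18_1 D338 (iv D174) (iv F340)
def n339 : Q := act 1 n169
theorem D339 : act 1 n169 = n339 := rfl
theorem F659 : act 4 n339 = n175 := d8_2 (iv F344) D339 (iv D175)
def n340 : Q := act 1 n170
theorem D340 : act 1 n170 = n340 := rfl
def n341 : Q := act 6 n170
theorem D341 : act 6 n170 = n341 := rfl
theorem F660 : act 0 n341 = n171 := d5_1 D341 (iv D171) D170
theorem F662 : act 5 n341 = n171 := d22_2 F347 D341 (iv D171) D170
def n342 : Q := act 1 n171
theorem D342 : act 1 n171 = n342 := rfl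
theorem F663 : act 6 n342 = n172 := d10_2 D171 D342 (iv D172) (iv D79) D78
def n343 : Q := act 0 n172
theorem D343 : act 0 n172 = n343 := rfl
def n344 : Q := act 2 n172
theorem D344 : act 2 n172 = n344 := rfl
theorem F664 : act 1 n344 = n179 := d6_1 D344 (iv D179) (iv D84) (iv F162) D172
def n345 : Q := act 5 n172
theorem D345 : act 5 n172 = n345 := rfl
theorem F665 : act 1 n345 = n287 := d9_1 D345 (iv D287) (iv D139) (iv F163) D172
def n346 : Q := act 1 n173
theorem D346 : act 1 n173 = n346 := rfl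
def n347 : Q := act 5 n173
theorem D347 : act 5 n173 = n347 := rfl
theorem F666 : act 0 n347 = n174 := d4_1 D347 (iv D174) D173
theorem F667 : act 2 n347 = n347 := d13_1 D347 (iv D347) F349
theorem F668 : act 6 n347 = n174 := d22_1 D347 (iv D174) F165 D173
def n348 : Q := act 1 n174
theorem D348 : act 1 n174 = n348 := rfl
theorem F669 : act 5 n348 = n175 := d9_2 D174 D348 (iv D175) (iv D81) D80
def n349 : Q := act 0 n175
theorem D349 : act 0 n175 = n349 := rfl
def n350 : Q := act 2 n175
theorem D350 : act 2 n175 = n350 := rfl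
theorem F670 : act 1 n350 = n182 := d6_1 D350 (iv D182) (iv D85) (iv F167) D175
def n351 : Q := act 6 n175
theorem D351 : act 6 n175 = n351 := rfl
theorem F671 : act 1 n351 = n284 := d10_1 D351 (iv D284) (iv D138) (iv F168) D175
def n352 : Q := act 0 n176
theorem D352 : act 0 n176 = n352 := rfl
theorem F672 : act 3 n352 = n352 := d2_2 F352 D352 (iv D352)
theorem F673 : act 4 n352 = n178 := d3_2 (iv F353) D352 (iv D178)
theorem F674 : act 6 n352 = n352 := d5_2 F354 D352 (iv D352)
def n353 : Q := act 2 n176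
theorem D353 : act 2 n176 = n353 := rfl
theorem F675 : act 4 n353 = n179 := d12_2 (iv F353) D353 (iv D179)
theorem F676 : act 6 n353 = n353 := d14_2 F354 D353 (iv D353)
def n354 : Q := act 5 n176
theorem D354 : act 5 n176 = n354 := rfl
theorem F677 : act 1 n354 = n293 := d9_1 D354 (iv D293) (iv D141) (iv F171) D176
theorem F678 : act 3 n354 = n354 := d16_1 D354 (iv D354) F352
theorem F679 : act 4 n354 = n180 := d18_1 D354 (iv D180) (iv F353)
def n355 : Q := act 0 n177
theorem D355 : act 0 n177 = n355 := rfl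
theorem F680 : act 3 n355 = n355 := d2_2 F355 D355 (iv D355)
theorem F681 : act 4 n355 = n181 := d3_2 (iv F356) D355 (iv D181)
theorem F682 : act 5 n355 = n355 := d4_2 F357 D355 (iv D355)
def n356 : Q := act 2 n177
theorem D356 : act 2 n177 = n356 := rfl
theorem F683 : act 4 n356 = n182 := d12_2 (iv F356) D356 (iv D182)
theorem F684 : act 5 n356 = n356 := d13_2 F357 D356 (iv D356)
def n357 : Q := act 6 n177
theorem D357 : act 6 n177 = n357 := rfl
theorem F685 : act 1 n357 = n290 := d10_1 D357 (iv D290) (iv D140) (iv F175) D177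
theorem F686 : act 3 n357 = n357 := d17_1 D357 (iv D357) F355
theorem F687 : act 4 n357 = n183 := d19_1 D357 (iv D183) (iv F356)
def n358 : Q := act 2 n178
theorem D358 : act 2 n178 = n358 := rfl
theorem F688 : act 0 n358 = n179 := d1_1 D358 (iv D179) D178
theorem F689 : act 6 n358 = n358 := d14_2 F359 D358 (iv D358)
def n359 : Q := act 5 n178
theorem D359 : act 5 n178 = n359 := rfl
theorem F690 : act 0 n359 = n180 := d4_1 D359 (iv D180) D178
theorem F691 : act 3 n359 = n186 := d16_1 D359 (iv D186) (iv F358)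
theorem F692 : act 6 n359 = n180 := d22_1 D359 (iv D180) F177 D178
def n360 : Q := act 3 n179
theorem D360 : act 3 n179 = n360 := rfl
theorem F693 : act 6 n360 = n360 := d17_2 F360 D360 (iv D360)
def n361 : Q := act 5 n179
theorem D361 : act 5 n179 = n361 := rfl
theorem F694 : act 2 n361 = n180 := d13_1 D361 (iv D180) D179
def n362 : Q := act 2 n181
theorem D362 : act 2 n181 = n362 := rfl
theorem F695 : act 0 n362 = n182 := d1_1 D362 (iv D182) D181
theorem F696 : act 5 n362 = n362 := d13_2 F364 D362 (iv D362)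
def n363 : Q := act 6 n181
theorem D363 : act 6 n181 = n363 := rfl
theorem F697 : act 0 n363 = n183 := d5_1 D363 (iv D183) D181
theorem F698 : act 1 n363 = n359 := d10_1 D363 F692 F361 D303 (iv F593)
theorem F699 : act 3 n363 = n190 := d17_1 D363 (iv D190) (iv F363)
theorem F700 : act 5 n363 = n183 := d22_2 F364 D363 (iv D183) D181
def n364 : Q := act 3 n182
theorem D364 : act 3 n182 = n364 := rfl
def n365 : Q := act 6 n182
theorem D365 : act 6 n182 = n365 := rfl
theorem F702 : act 2 n365 = n183 := d14_1 D365 (iv D183) D182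
def n366 : Q := act 3 n185
theorem D366 : act 3 n185 = n366 := rfl
theorem F703 : act 0 n366 = n187 := d2_1 D366 (iv D187) (iv F369)
def n367 : Q := act 5 n185
theorem D367 : act 5 n185 = n367 := rfl
theorem F705 : act 0 n367 = n188 := d4_1 D367 (iv D188) (iv F369)
theorem F706 : act 2 n367 = n186 := d13_1 D367 (iv D186) D185
theorem F707 : act 4 n367 = n367 := d18_1 D367 (iv D367) F370
theorem F708 : act 6 n367 = n188 := d22_1 D367 (iv D188) F184 (iv F369)
def n368 : Q := act 2 n187
theorem D368 : act 2 n187 = n368 := rfl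
def n370 : Q := act 5 n187
theorem D370 : act 5 n187 = n370 := rfl
theorem F713 : act 3 n370 = n188 := d16_1 D370 (iv D188) D187
def n371 : Q := act 1 n188
theorem D371 : act 1 n188 = n371 := rfl
theorem F714 : act 2 n371 = n310 := d6_2 (iv F379) D371 (iv D310) F312 (iv F185)
theorem F716 : act 5 n371 = n371 := d9_2 D188 D371 (iv D371) (iv D188) F182
def n372 : Q := act 1 n189
theorem D372 : act 1 n189 = n372 := rfl
def n373 : Q := act 3 n189
theorem D373 : act 3 n189 = n373 := rfl
theorem F718 : act 0 n373 = n191 := d2_1 D373 (iv D191) (iv F381)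
def n374 : Q := act 6 n189
theorem D374 : act 6 n189 = n374 := rfl
theorem F720 : act 0 n374 = n192 := d5_1 D374 (iv D192) (iv F381)
theorem F721 : act 2 n374 = n190 := d14_1 D374 (iv D190) D189
theorem F722 : act 4 n374 = n374 := d19_1 D374 (iv D374) F382
theorem F723 : act 5 n374 = n192 := d22_2 F383 D374 (iv D192) (iv F381)
def n375 : Q := act 2 n191
theorem D375 : act 2 n191 = n375 := rfl
theorem F724 : act 5 n375 = n375 := d13_2 F389 D375 (iv D375)
def n377 : Q := act 6 n191
theorem D377 : act 6 n191 = n377 := rfl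
theorem F728 : act 3 n377 = n192 := d17_1 D377 (iv D192) D191
theorem F729 : act 1 n366 = n377 := d7_3 F728 (iv F392) D366
def n380 : Q := act 5 n193
theorem D380 : act 5 n193 = n380 := rfl
theorem F733 : act 0 n380 = n195 := d4_1 D380 (iv D195) D193
theorem F734 : act 2 n380 = n380 := d13_1 D380 (iv D380) F396
theorem F736 : act 1 n380 = n380 := d23_2 D380 F734 F733 (iv D195) F194 (iv D92) F99 D47 F108 D53 (iv F145) (iv F144) (iv F146) (iv D53) (iv F103) (iv D44) D42 D92 D193
def n381 : Q := act 6 n193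
theorem D381 : act 6 n193 = n381 := rfl
theorem F738 : act 0 n381 = n196 := d5_1 D381 (iv D196) D193
def n387 : Q := act 6 n195
theorem D387 : act 6 n195 = n387 := rfl
theorem F749 : act 2 n387 = n387 := d14_1 D387 (iv D387) F399
theorem F751 : act 5 n387 = n381 := d22_2 D195 D387 (iv D381) (iv D193)
def n388 : Q := act 5 n196
theorem D388 : act 5 n196 = n388 := rfl
theorem F752 : act 0 n388 = n387 := d4_1 D388 F751 F738
theorem F755 : act 6 n388 = n380 := d20_2 D196 D388 (iv D380) D381 (iv F751) (iv D387) (iv D195)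
def n391 : Q := act 5 n197
theorem D391 : act 5 n197 = n391 := rfl
theorem F759 : act 2 n391 = n199 := d13_1 D391 (iv D199) D197
def n392 : Q := act 6 n197
theorem D392 : act 6 n197 = n392 := rfl
theorem F761 : act 2 n392 = n200 := d14_1 D392 (iv D200) D197
def n393 : Q := act 5 n198
theorem D393 : act 5 n198 = n393 := rfl
theorem F764 : act 4 n393 = n199 := d18_1 D393 (iv D199) D198
def n394 : Q := act 6 n198
theorem D394 : act 6 n198 = n394 := rfl
def n395 : Q := act 1 n199
theorem D395 : act 1 n199 = n395 := rfl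
theorem F768 : act 3 n395 = n201 := d7_2 (iv F407) D395 (iv D201)
def n396 : Q := act 0 n201
theorem D396 : act 0 n201 = n396 := rfl
def n398 : Q := act 6 n201
theorem D398 : act 6 n201 = n398 := rfl
theorem F777 : act 1 n398 = n254 := d10_1 D398 F518 (iv D226) F230 D201
def n399 : Q := act 0 n202
theorem D399 : act 0 n202 = n399 := rfl
def n400 : Q := act 3 n202
theorem D400 : act 3 n202 = n400 := rfl
theorem F782 : act 1 n400 = n203 := d7_1 D400 (iv D203) D202
def n401 : Q := act 4 n202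
theorem D401 : act 4 n202 = n401 := rfl
theorem F783 : act 1 n401 = n204 := d8_1 D401 (iv D204) D202
theorem F784 : act 2 n401 = n401 := d12_1 D401 (iv D401) F411
def n402 : Q := act 5 n202
theorem D402 : act 5 n202 = n402 := rfl
def n403 : Q := act 6 n202
theorem D403 : act 6 n202 = n403 := rfl
def n404 : Q := act 4 n203
theorem D404 : act 4 n203 = n404 := rfl
theorem F787 : act 0 n404 = n233 := d3_1 D404 (iv D233) (iv F412)
def n405 : Q := act 5 n203
theorem D405 : act 5 n203 = n405 := rfl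
theorem F788 : act 0 n405 = n234 := d4_1 D405 (iv D234) (iv F412)
theorem F789 : act 3 n405 = n205 := d16_1 D405 (iv D205) D203
def n406 : Q := act 6 n203
theorem D406 : act 6 n203 = n406 := rfl
theorem F790 : act 0 n406 = n235 := d5_1 D406 (iv D235) (iv F412)
theorem F791 : act 3 n406 = n206 := d17_1 D406 (iv D206) D203
def n407 : Q := act 3 n204
theorem D407 : act 3 n204 = n407 := rfl
theorem F792 : act 0 n407 = n236 := d2_1 D407 (iv D236) (iv F413)
def n408 : Q := act 5 n204
theorem D408 : act 5 n204 = n408 := rfl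
theorem F793 : act 0 n408 = n237 := d4_1 D408 (iv D237) (iv F413)
theorem F794 : act 2 n408 = n207 := d13_1 D408 (iv D207) (iv F414)
theorem F795 : act 4 n408 = n205 := d18_1 D408 (iv D205) D204
def n409 : Q := act 6 n204
theorem D409 : act 6 n204 = n409 := rfl
theorem F796 : act 0 n409 = n238 := d5_1 D409 (iv D238) (iv F413)
theorem F797 : act 2 n409 = n208 := d14_1 D409 (iv D208) (iv F414)
theorem F798 : act 4 n409 = n206 := d19_1 D409 (iv D206) D204
def n410 : Q := act 1 n205
theorem D410 : act 1 n205 = n410 := rfl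
def n411 : Q := act 1 n206
theorem D411 : act 1 n206 = n411 := rfl
def n412 : Q := act 1 n207
theorem D412 : act 1 n207 = n412 := rfl
theorem F799 : act 0 n412 = n412 := d0_1 D412 (iv D412) F419 D243 (iv F596) F597 F596 (iv D243) (iv F419)
theorem F800 : act 3 n412 = n412 := d7_2 F420 D412 (iv D412)
theorem F801 : act 4 n412 = n209 := d8_2 (iv F421) D412 (iv D209)
theorem F802 : act 5 n412 = n412 := d9_2 D207 D412 (iv D412) (iv D207) F205
def n413 : Q := act 1 n208
theorem D413 : act 1 n208 = n413 := rfl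
theorem F803 : act 3 n413 = n413 := d7_2 F423 D413 (iv D413)
theorem F804 : act 4 n413 = n210 := d8_2 (iv F424) D413 (iv D210)
theorem F805 : act 6 n413 = n413 := d10_2 D208 D413 (iv D413) (iv D208) F205
theorem F806 : act 0 n413 = n413 := d3_3 F804 F430 (iv F804)
def n414 : Q := act 2 n209
theorem D414 : act 2 n209 = n414 := rfl
theorem F807 : act 0 n414 = n414 := d1_1 D414 (iv D414) F425
theorem F808 : act 5 n414 = n414 := d13_2 F427 D414 (iv D414)
def n415 : Q := act 2 n210
theorem D415 : act 2 n210 = n415 := rfl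
def n418 : Q := act 3 n212
theorem D418 : act 3 n212 = n418 := rfl
theorem F815 : act 1 n418 = n213 := d7_1 D418 (iv D213) D212
def n422 : Q := act 4 n213
theorem D422 : act 4 n213 = n422 := rfl
theorem F820 : act 2 n422 = n404 := d12_1 D422 (iv D404) (iv F436)
def n423 : Q := act 5 n213
theorem D423 : act 5 n213 = n423 := rfl
theorem F821 : act 2 n423 = n405 := d13_1 D423 (iv D405) (iv F436)
theorem F822 : act 3 n423 = n215 := d16_1 D423 (iv D215) D213
def n424 : Q := act 6 n213
theorem D424 : act 6 n213 = n424 := rfl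
theorem F823 : act 2 n424 = n406 := d14_1 D424 (iv D406) (iv F436)
def n429 : Q := act 6 n215
theorem D429 : act 6 n215 = n429 := rfl
theorem F830 : act 5 n429 = n392 := d22_2 D215 D429 (iv D392) F403
def n431 : Q := act 5 n216
theorem D431 : act 5 n216 = n431 := rfl
theorem F832 : act 2 n431 = n222 := d13_1 D431 (iv D222) (iv F439)
theorem F833 : act 6 n431 = n391 := d20_2 D216 D431 (iv D391) D392 (iv F830) (iv D429) (iv D215)
def n433 : Q := act 6 n217
theorem D433 : act 6 n217 = n433 := rfl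
theorem F840 : act 5 n433 = n394 := d22_2 D217 D433 (iv D394) F404
def n435 : Q := act 5 n218
theorem D435 : act 5 n218 = n435 := rfl
theorem F847 : act 4 n435 = n222 := d18_1 D435 (iv D222) (iv F443)
theorem F848 : act 6 n435 = n393 := d20_2 D218 D435 (iv D393) D394 (iv F840) (iv D433) (iv D217)
def n439 : Q := act 5 n221
theorem D439 : act 5 n221 = n439 := rfl
theorem F855 : act 3 n439 = n224 := d16_1 D439 F466 (iv F449)
theorem F857 : act 1 n256 = n439 := d7_3 F855 F457 D256
def n440 : Q := act 1 n222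
theorem D440 : act 1 n222 = n440 := rfl
theorem F858 : act 3 n440 = n226 := d7_2 (iv F453) D440 (iv D226)
theorem F859 : act 5 n440 = n256 := d9_2 D222 D440 F857 (iv D439) (iv D221)
def n442 : Q := act 1 n227
theorem D442 : act 1 n227 = n442 := rfl
def n443 : Q := act 3 n227
theorem D443 : act 3 n227 = n443 := rfl
theorem F862 : act 0 n443 = n228 := d2_1 D443 (iv D228) D227
theorem F863 : act 2 n443 = n228 := d21_2 (iv F467) D443 (iv D228) F231 D128 F265 (iv D128) D127
def n444 : Q := act 4 n227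
theorem D444 : act 4 n227 = n444 := rfl
theorem F864 : act 0 n444 = n229 := d3_1 D444 (iv D229) D227
theorem F865 : act 2 n444 = n259 := d12_1 D444 (iv D259) (iv F467)
def n445 : Q := act 5 n227
theorem D445 : act 5 n227 = n445 := rfl
theorem F866 : act 0 n445 = n230 := d4_1 D445 (iv D230) D227
theorem F867 : act 2 n445 = n260 := d13_1 D445 (iv D260) (iv F467)
def n446 : Q := act 6 n227
theorem D446 : act 6 n227 = n446 := rfl
theorem F868 : act 0 n446 = n231 := d5_1 D446 (iv D231) D227
theorem F869 : act 2 n446 = n261 := d14_1 D446 (iv D261) (iv F467)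
def n447 : Q := act 4 n228
theorem D447 : act 4 n228 = n447 := rfl
theorem F870 : act 1 n447 = n233 := d8_1 D447 (iv D233) (iv F468)
def n448 : Q := act 5 n228
theorem D448 : act 5 n228 = n448 := rfl
theorem F871 : act 3 n448 = n230 := d16_1 D448 (iv D230) D228
def n449 : Q := act 6 n228
theorem D449 : act 6 n228 = n449 := rfl
theorem F872 : act 3 n449 = n231 := d17_1 D449 (iv D231) D228
def n450 : Q := act 3 n229
theorem D450 : act 3 n229 = n450 := rfl
theorem F873 : act 1 n450 = n236 := d7_1 D450 (iv D236) (iv F469)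
def n451 : Q := act 5 n229
theorem D451 : act 5 n229 = n451 := rfl
theorem F874 : act 2 n451 = n266 := d13_1 D451 (iv D266) (iv F470)
theorem F875 : act 4 n451 = n230 := d18_1 D451 (iv D230) D229
def n452 : Q := act 6 n229
theorem D452 : act 6 n229 = n452 := rfl
theorem F876 : act 2 n452 = n267 := d14_1 D452 (iv D267) (iv F470)
theorem F877 : act 4 n452 = n231 := d19_1 D452 (iv D231) D229
def n453 : Q := act 1 n230
theorem D453 : act 1 n230 = n453 := rfl
theorem F878 : act 5 n453 = n239 := d9_2 D230 D453 (iv D239) (iv D113) D110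
def n454 : Q := act 6 n230
theorem D454 : act 6 n230 = n454 := rfl
theorem F879 : act 2 n454 = n269 := d14_1 D454 (iv D269) (iv F471)
theorem F880 : act 5 n454 = n446 := d22_2 D230 D454 (iv D446) (iv D227)
def n455 : Q := act 1 n231
theorem D455 : act 1 n231 = n455 := rfl
theorem F881 : act 6 n455 = n241 := d10_2 D231 D455 (iv D241) (iv D114) D110
def n456 : Q := act 5 n231
theorem D456 : act 5 n231 = n456 := rfl
theorem F882 : act 0 n456 = n454 := d4_1 D456 F880 F868
theorem F883 : act 2 n456 = n271 := d13_1 D456 (iv D271) (iv F472)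
theorem F884 : act 6 n456 = n445 := d20_2 D231 D456 (iv D445) D446 (iv F880) (iv D454) (iv D230)
def n457 : Q := act 1 n232
theorem D457 : act 1 n232 = n457 := rfl
def n458 : Q := act 4 n232
theorem D458 : act 4 n232 = n458 := rfl
theorem F886 : act 0 n458 = n422 := d3_1 D458 (iv D422) (iv F473)
theorem F887 : act 2 n458 = n233 := d12_1 D458 (iv D233) D232
def n459 : Q := act 5 n232
theorem D459 : act 5 n232 = n459 := rfl
theorem F888 : act 0 n459 = n423 := d4_1 D459 (iv D423) (iv F473)
theorem F889 : act 2 n459 = n234 := d13_1 D459 (iv D234) D232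
theorem F890 : act 3 n459 = n391 := d16_1 D459 (iv D391) (iv F474)
def n460 : Q := act 6 n232
theorem D460 : act 6 n232 = n460 := rfl
theorem F892 : act 2 n460 = n235 := d14_1 D460 (iv D235) D232
theorem F893 : act 3 n460 = n392 := d17_1 D460 (iv D392) (iv F474)
def n461 : Q := act 3 n233
theorem D461 : act 3 n233 = n461 := rfl
theorem F894 : act 4 n461 = n236 := d15_2 D233 D461 (iv D236) (iv D112) D111
def n462 : Q := act 5 n233
theorem D462 : act 5 n233 = n462 := rfl
theorem F895 : act 4 n462 = n234 := d18_1 D462 (iv D234) D233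
def n463 : Q := act 6 n233
theorem D463 : act 6 n233 = n463 := rfl
theorem F896 : act 4 n463 = n235 := d19_1 D463 (iv D235) D233
def n464 : Q := act 1 n234
theorem D464 : act 1 n234 = n464 := rfl
theorem F897 : act 3 n464 = n239 := d7_2 (iv F475) D464 (iv D239)
def n465 : Q := act 6 n234
theorem D465 : act 6 n234 = n465 := rfl
theorem F898 : act 3 n465 = n240 := d17_1 D465 (iv D240) (iv F475)
theorem F899 : act 5 n465 = n406 := d22_2 D234 D465 (iv D406) F412
def n466 : Q := act 1 n235
theorem D466 : act 1 n235 = n466 := rfl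
theorem F900 : act 3 n466 = n241 := d7_2 (iv F476) D466 (iv D241)
def n467 : Q := act 5 n235
theorem D467 : act 5 n235 = n467 := rfl
theorem F901 : act 0 n467 = n465 := d4_1 D467 F899 F790
theorem F902 : act 3 n467 = n242 := d16_1 D467 (iv D242) (iv F476)
theorem F903 : act 6 n467 = n405 := d20_2 D235 D467 (iv D405) D406 (iv F899) (iv D465) (iv D234)
def n468 : Q := act 2 n236
theorem D468 : act 2 n236 = n468 := rfl
def n469 : Q := act 5 n236
theorem D469 : act 5 n236 = n469 := rfl
theorem F904 : act 3 n469 = n237 := d16_1 D469 (iv D237) D236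
def n470 : Q := act 6 n236
theorem D470 : act 6 n236 = n470 := rfl
theorem F905 : act 3 n470 = n238 := d17_1 D470 (iv D238) D236
def n471 : Q := act 1 n237
theorem D471 : act 1 n237 = n471 := rfl
theorem F906 : act 4 n471 = n239 := d8_2 (iv F478) D471 (iv D239)
def n472 : Q := act 6 n237
theorem D472 : act 6 n237 = n472 := rfl
theorem F907 : act 2 n472 = n244 := d14_1 D472 (iv D244) (iv F477)
theorem F908 : act 4 n472 = n240 := d19_1 D472 (iv D240) (iv F478)
theorem F909 : act 5 n472 = n409 := d22_2 D237 D472 (iv D409) F413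
def n473 : Q := act 1 n238
theorem D473 : act 1 n238 = n473 := rfl
theorem F910 : act 4 n473 = n241 := d8_2 (iv F480) D473 (iv D241)
def n474 : Q := act 5 n238
theorem D474 : act 5 n238 = n474 := rfl
theorem F911 : act 0 n474 = n472 := d4_1 D474 F909 F796
theorem F912 : act 2 n474 = n246 := d13_1 D474 (iv D246) (iv F479)
theorem F913 : act 4 n474 = n242 := d18_1 D474 (iv D242) (iv F480)
theorem F914 : act 6 n474 = n408 := d20_2 D238 D474 (iv D408) D409 (iv F909) (iv D472) (iv D237)
def n475 : Q := act 0 n239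
theorem D475 : act 0 n239 = n475 := rfl
def n476 : Q := act 2 n239
theorem D476 : act 2 n239 = n476 := rfl
theorem F915 : act 1 n476 = n247 := d6_1 D476 (iv D247) (iv D117) (iv F233) D239
def n477 : Q := act 6 n239
theorem D477 : act 6 n239 = n477 := rfl
def n478 : Q := act 1 n240
theorem D478 : act 1 n240 = n478 := rfl
def n479 : Q := act 0 n241
theorem D479 : act 0 n241 = n479 := rfl
def n480 : Q := act 2 n241
theorem D480 : act 2 n241 = n480 := rfl
theorem F916 : act 1 n480 = n251 := d6_1 D480 (iv D251) (iv D119) (iv F234) D241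
def n481 : Q := act 5 n241
theorem D481 : act 5 n241 = n481 := rfl
def n482 : Q := act 1 n242
theorem D482 : act 1 n242 = n482 := rfl
def n483 : Q := act 2 n243
theorem D483 : act 2 n243 = n483 := rfl
theorem F917 : act 4 n483 = n247 := d12_2 (iv F487) D483 (iv D247)
theorem F918 : act 5 n483 = n289 := d13_2 (iv F488) D483 (iv D289)
def n484 : Q := act 6 n243
theorem D484 : act 6 n243 = n484 := rfl
theorem F919 : act 3 n484 = n484 := d17_1 D484 (iv D484) F486
theorem F920 : act 4 n484 = n248 := d19_1 D484 (iv D248) (iv F487)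
def n485 : Q := act 1 n244
theorem D485 : act 1 n244 = n485 := rfl
theorem F921 : act 3 n485 = n485 := d7_2 F489 D485 (iv D485)
theorem F922 : act 4 n485 = n249 := d8_2 (iv F490) D485 (iv D249)
theorem F923 : act 0 n293 = n485 := d3_3 F922 (iv F502) (iv F573)
theorem F924 : act 5 n291 = n485 := d18_0 F922 (iv F503) (iv F570)
def n486 : Q := act 0 n245
theorem D486 : act 0 n245 = n486 := rfl
theorem F925 : act 1 n486 = n486 := d0_2 D245 D486 (iv D486) (iv D245) (iv F422) D413 F806 (iv D413) F422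
theorem F927 : act 4 n486 = n250 := d3_2 (iv F493) D486 (iv D250)
theorem F928 : act 6 n486 = n291 := d5_2 (iv F494) D486 (iv D291)
def n487 : Q := act 2 n245
theorem D487 : act 2 n245 = n487 := rfl
theorem F929 : act 4 n487 = n251 := d12_2 (iv F493) D487 (iv D251)
theorem F930 : act 6 n487 = n292 := d14_2 (iv F494) D487 (iv D292)
def n488 : Q := act 5 n245
theorem D488 : act 5 n245 = n488 := rfl
theorem F931 : act 3 n488 = n488 := d16_1 D488 (iv D488) F492
theorem F932 : act 4 n488 = n252 := d18_1 D488 (iv D252) (iv F493)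
theorem F933 : act 6 n488 = n485 := d22_1 D488 (iv F924) (iv F928) (iv D486)
theorem F934 : act 1 n488 = n484 := d24_2 (iv F494) D488 (iv D484) F488 (iv D140) (iv F175) (iv D83) F87 (iv D37) D36 F84 D82 F171 D141
def n489 : Q := act 1 n246
theorem D489 : act 1 n246 = n489 := rfl
theorem F935 : act 3 n489 = n489 := d7_2 F496 D489 (iv D489)
theorem F936 : act 4 n489 = n253 := d8_2 (iv F497) D489 (iv D253)
theorem F937 : act 5 n489 = n484 := d9_2 D246 D489 (iv F934) (iv D488) (iv D245)
theorem F938 : act 0 n290 = n489 := d22_4 F937 (iv D484) F488 D290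
theorem F939 : act 6 n288 = n489 := d22_1 F599 F937 (iv D484) (iv F596)
def n490 : Q := act 3 n247
theorem D490 : act 3 n247 = n490 := rfl
theorem F940 : act 5 n490 = n296 := d16_2 (iv F499) D490 (iv D296)
theorem F941 : act 2 n490 = n296 := d21_2 D247 D490 (iv D296) (iv D143) F139 D67 D149 F296
def n491 : Q := act 6 n247
theorem D491 : act 6 n247 = n491 := rfl
theorem F942 : act 2 n491 = n248 := d14_1 D491 (iv D248) D247
def n492 : Q := act 2 n249
theorem D492 : act 2 n249 = n492 := rfl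
theorem F943 : act 0 n492 = n302 := d1_1 D492 F589 F502
theorem F944 : act 5 n492 = n300 := d13_2 F503 D492 (iv D300)
def n493 : Q := act 2 n250
theorem D493 : act 2 n250 = n493 := rfl
theorem F945 : act 0 n493 = n251 := d1_1 D493 (iv D251) D250
theorem F946 : act 6 n493 = n300 := d14_2 (iv F506) D493 (iv D300)
def n494 : Q := act 3 n251
theorem D494 : act 3 n251 = n494 := rfl
theorem F947 : act 6 n494 = n301 := d17_2 (iv F507) D494 (iv D301)
def n495 : Q := act 5 n251
theorem D495 : act 5 n251 = n495 := rfl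
theorem F948 : act 2 n495 = n252 := d13_1 D495 (iv D252) D251
theorem F949 : act 6 n495 = n492 := d22_1 D495 F944 (iv F946) F945
def n496 : Q := act 2 n253
theorem D496 : act 2 n253 = n496 := rfl
theorem F950 : act 0 n496 = n297 := d1_1 D496 F579 F513
theorem F951 : act 5 n496 = n491 := d13_2 (iv F512) D496 F942
theorem F952 : act 6 n496 = n295 := d14_2 F514 D496 (iv D295)
def n497 : Q := act 3 n254
theorem D497 : act 3 n254 = n497 := rfl
theorem F953 : act 0 n497 = n309 := d2_1 D497 F604 (iv F515)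
theorem F954 : act 5 n497 = n306 := d16_2 (iv F517) D497 (iv D306)
theorem F955 : act 6 n497 = n440 := d17_2 (iv F518) D497 F858
def n498 : Q := act 3 n255
theorem D498 : act 3 n255 = n498 := rfl
theorem F956 : act 0 n498 = n256 := d2_1 D498 (iv D256) (iv F519)
theorem F958 : act 6 n498 = n306 := d17_2 (iv F521) D498 (iv D306)
def n499 : Q := act 2 n256
theorem D499 : act 2 n256 = n499 := rfl
theorem F959 : act 6 n499 = n307 := d14_2 (iv F523) D499 (iv D307)
def n501 : Q := act 2 n257
theorem D501 : act 2 n257 = n501 := rfl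
theorem F962 : act 0 n501 = n501 := d1_1 D501 (iv D501) F524
def n502 : Q := act 3 n257
theorem D502 : act 3 n257 = n502 := rfl
theorem F963 : act 0 n502 = n502 := d2_1 D502 (iv D502) F524
theorem F964 : act 1 n502 = n258 := d7_1 D502 (iv D258) D257
def n503 : Q := act 4 n257
theorem D503 : act 4 n257 = n503 := rfl
theorem F965 : act 0 n503 = n503 := d3_1 D503 (iv D503) F524
theorem F966 : act 1 n503 = n259 := d8_1 D503 (iv D259) D257
def n504 : Q := act 5 n257
theorem D504 : act 5 n257 = n504 := rfl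
def n505 : Q := act 6 n257
theorem D505 : act 6 n257 = n505 := rfl
def n506 : Q := act 4 n258
theorem D506 : act 4 n258 = n506 := rfl
theorem F969 : act 0 n506 = n262 := d3_1 D506 (iv D262) (iv F525)
theorem F970 : act 2 n506 = n506 := d12_1 D506 (iv D506) F526
def n507 : Q := act 5 n258
theorem D507 : act 5 n258 = n507 := rfl
theorem F971 : act 0 n507 = n263 := d4_1 D507 (iv D263) (iv F525)
theorem F972 : act 2 n507 = n507 := d13_1 D507 (iv D507) F526
theorem F973 : act 3 n507 = n260 := d16_1 D507 (iv D260) D258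
def n508 : Q := act 6 n258
theorem D508 : act 6 n258 = n508 := rfl
theorem F974 : act 0 n508 = n264 := d5_1 D508 (iv D264) (iv F525)
theorem F975 : act 2 n508 = n508 := d14_1 D508 (iv D508) F526
theorem F976 : act 3 n508 = n261 := d17_1 D508 (iv D261) D258
def n509 : Q := act 3 n259
theorem D509 : act 3 n259 = n509 := rfl
theorem F977 : act 0 n509 = n265 := d2_1 D509 (iv D265) (iv F527)
def n510 : Q := act 5 n259
theorem D510 : act 5 n259 = n510 := rfl
theorem F978 : act 0 n510 = n266 := d4_1 D510 (iv D266) (iv F527)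
theorem F979 : act 4 n510 = n260 := d18_1 D510 (iv D260) D259
def n511 : Q := act 6 n259
theorem D511 : act 6 n259 = n511 := rfl
theorem F980 : act 0 n511 = n267 := d5_1 D511 (iv D267) (iv F527)
theorem F981 : act 4 n511 = n261 := d19_1 D511 (iv D261) D259
def n512 : Q := act 1 n260
theorem D512 : act 1 n260 = n512 := rfl
def n513 : Q := act 1 n261
theorem D513 : act 1 n261 = n513 := rfl
def n514 : Q := act 3 n262
theorem D514 : act 3 n262 = n514 := rfl
theorem F982 : act 1 n514 = n272 := d7_1 D514 (iv D272) (iv F530)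
theorem F983 : act 4 n514 = n265 := d15_2 D262 D514 (iv D265) (iv D129) D128
def n515 : Q := act 5 n262
theorem D515 : act 5 n262 = n515 := rfl
theorem F984 : act 2 n515 = n515 := d13_1 D515 (iv D515) F531
theorem F985 : act 4 n515 = n263 := d18_1 D515 (iv D263) D262
def n516 : Q := act 6 n262
theorem D516 : act 6 n262 = n516 := rfl
theorem F986 : act 2 n516 = n516 := d14_1 D516 (iv D516) F531
theorem F987 : act 4 n516 = n264 := d19_1 D516 (iv D264) D262
def n517 : Q := act 1 n263
theorem D517 : act 1 n263 = n517 := rfl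
theorem F988 : act 3 n517 = n268 := d7_2 (iv F533) D517 (iv D268)
theorem F989 : act 5 n517 = n275 := d9_2 D263 D517 (iv D275) (iv D133) (iv F264)
def n518 : Q := act 6 n263
theorem D518 : act 6 n263 = n518 := rfl
theorem F990 : act 2 n518 = n518 := d14_1 D518 (iv D518) F532
theorem F991 : act 3 n518 = n269 := d17_1 D518 (iv D269) (iv F533)
theorem F992 : act 5 n518 = n508 := d22_2 D263 D518 (iv D508) F525
def n519 : Q := act 1 n264
theorem D519 : act 1 n264 = n519 := rfl
theorem F993 : act 3 n519 = n270 := d7_2 (iv F535) D519 (iv D270)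
theorem F994 : act 6 n519 = n276 := d10_2 D264 D519 (iv D276) (iv D134) (iv F264)
def n520 : Q := act 5 n264
theorem D520 : act 5 n264 = n520 := rfl
theorem F995 : act 0 n520 = n518 := d4_1 D520 F992 F974
theorem F996 : act 2 n520 = n520 := d13_1 D520 (iv D520) F534
theorem F997 : act 3 n520 = n271 := d16_1 D520 (iv D271) (iv F535)
theorem F998 : act 6 n520 = n507 := d20_2 D264 D520 (iv D507) D508 (iv F992) (iv D518) (iv D263)
def n521 : Q := act 2 n265
theorem D521 : act 2 n265 = n521 := rfl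
def n522 : Q := act 5 n265
theorem D522 : act 5 n265 = n522 := rfl
theorem F999 : act 3 n522 = n266 := d16_1 D522 (iv D266) D265
def n523 : Q := act 6 n265
theorem D523 : act 6 n265 = n523 := rfl
theorem F1000 : act 3 n523 = n267 := d17_1 D523 (iv D267) D265
def n524 : Q := act 1 n266
theorem D524 : act 1 n266 = n524 := rfl
theorem F1001 : act 4 n524 = n268 := d8_2 (iv F537) D524 (iv D268)
theorem F1002 : act 5 n524 = n280 := d9_2 D266 D524 (iv D280) (iv D136) (iv F266)
def n525 : Q := act 6 n266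
theorem D525 : act 6 n266 = n525 := rfl
theorem F1003 : act 4 n525 = n269 := d19_1 D525 (iv D269) (iv F537)
theorem F1004 : act 5 n525 = n511 := d22_2 D266 D525 (iv D511) F527
def n526 : Q := act 1 n267
theorem D526 : act 1 n267 = n526 := rfl
theorem F1005 : act 4 n526 = n270 := d8_2 (iv F538) D526 (iv D270)
theorem F1006 : act 6 n526 = n281 := d10_2 D267 D526 (iv D281) (iv D137) (iv F266)
def n527 : Q := act 5 n267
theorem D527 : act 5 n267 = n527 := rfl
theorem F1007 : act 0 n527 = n525 := d4_1 D527 F1004 F980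
theorem F1008 : act 4 n527 = n271 := d18_1 D527 (iv D271) (iv F538)
theorem F1009 : act 6 n527 = n510 := d20_2 D267 D527 (iv D510) D511 (iv F1004) (iv D525) (iv D266)
def n528 : Q := act 0 n268
theorem D528 : act 0 n268 = n528 := rfl
theorem F1010 : act 5 n528 = n282 := d4_2 (iv F539) D528 (iv D282)
def n529 : Q := act 2 n268
theorem D529 : act 2 n268 = n529 := rfl
theorem F1011 : act 5 n529 = n283 := d13_2 (iv F539) D529 (iv D283)
def n530 : Q := act 6 n268
theorem D530 : act 6 n268 = n530 := rfl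
def n531 : Q := act 1 n269
theorem D531 : act 1 n269 = n531 := rfl
def n532 : Q := act 0 n270
theorem D532 : act 0 n270 = n532 := rfl
theorem F1012 : act 6 n532 = n285 := d5_2 (iv F541) D532 (iv D285)
def n533 : Q := act 2 n270
theorem D533 : act 2 n270 = n533 := rfl
theorem F1013 : act 6 n533 = n286 := d14_2 (iv F541) D533 (iv D286)
def n534 : Q := act 5 n270
theorem D534 : act 5 n270 = n534 := rfl
def n535 : Q := act 1 n271
theorem D535 : act 1 n271 = n535 := rfl
def n536 : Q := act 2 n272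
theorem D536 : act 2 n272 = n536 := rfl
theorem F1014 : act 0 n536 = n312 := d1_1 D536 (iv D312) (iv F544)
theorem F1015 : act 4 n536 = n277 := d12_2 (iv F545) D536 (iv D277)
def n537 : Q := act 5 n272
theorem D537 : act 5 n272 = n537 := rfl
theorem F1016 : act 0 n537 = n313 := d4_1 D537 (iv D313) (iv F544)
theorem F1017 : act 3 n537 = n273 := d16_1 D537 (iv D273) D272
theorem F1018 : act 4 n537 = n278 := d18_1 D537 (iv D278) (iv F545)
def n538 : Q := act 6 n272
theorem D538 : act 6 n272 = n538 := rfl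
theorem F1019 : act 0 n538 = n314 := d5_1 D538 (iv D314) (iv F544)
theorem F1020 : act 3 n538 = n274 := d17_1 D538 (iv D274) D272
theorem F1021 : act 4 n538 = n279 := d19_1 D538 (iv D279) (iv F545)
def n539 : Q := act 1 n273
theorem D539 : act 1 n273 = n539 := rfl
theorem F1022 : act 4 n539 = n275 := d8_2 (iv F548) D539 (iv D275)
def n540 : Q := act 1 n274
theorem D540 : act 1 n274 = n540 := rfl
theorem F1023 : act 4 n540 = n276 := d8_2 (iv F551) D540 (iv D276)
def n541 : Q := act 0 n275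
theorem D541 : act 0 n275 = n541 := rfl
theorem F1024 : act 3 n541 = n282 := d2_2 (iv F552) D541 (iv D282)
def n542 : Q := act 2 n275
theorem D542 : act 2 n275 = n542 := rfl
theorem F1025 : act 1 n542 = n320 := d6_1 D542 (iv D320) (iv D159) (iv F270) D275
def n543 : Q := act 6 n275
theorem D543 : act 6 n275 = n543 := rfl
theorem F1026 : act 3 n543 = n284 := d17_1 D543 (iv D284) (iv F552)
def n544 : Q := act 0 n276
theorem D544 : act 0 n276 = n544 := rfl
theorem F1027 : act 3 n544 = n285 := d2_2 (iv F553) D544 (iv D285)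
def n545 : Q := act 2 n276
theorem D545 : act 2 n276 = n545 := rfl
theorem F1028 : act 1 n545 = n324 := d6_1 D545 (iv D324) (iv D161) (iv F273) D276
def n546 : Q := act 5 n276
theorem D546 : act 5 n276 = n546 := rfl
theorem F1029 : act 3 n546 = n287 := d16_1 D546 (iv D287) (iv F553)
def n547 : Q := act 1 n277
theorem D547 : act 1 n277 = n547 := rfl
theorem F1030 : act 3 n547 = n327 := d7_2 (iv F555) D547 (iv D327)
def n548 : Q := act 5 n277
theorem D548 : act 5 n277 = n548 := rfl
theorem F1031 : act 0 n548 = n328 := d4_1 D548 (iv D328) (iv F554)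
theorem F1032 : act 2 n548 = n278 := d13_1 D548 (iv D278) D277
theorem F1033 : act 3 n548 = n328 := d16_1 D548 (iv D328) (iv F555)
def n549 : Q := act 6 n277
theorem D549 : act 6 n277 = n549 := rfl
theorem F1034 : act 0 n549 = n329 := d5_1 D549 (iv D329) (iv F554)
theorem F1035 : act 2 n549 = n279 := d14_1 D549 (iv D279) D277
theorem F1036 : act 3 n549 = n329 := d17_1 D549 (iv D329) (iv F555)
def n550 : Q := act 1 n278
theorem D550 : act 1 n278 = n550 := rfl
theorem F1037 : act 3 n550 = n280 := d7_2 (iv F557) D550 (iv D280)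
def n551 : Q := act 1 n279
theorem D551 : act 1 n279 = n551 := rfl
theorem F1038 : act 3 n551 = n281 := d7_2 (iv F559) D551 (iv D281)
def n552 : Q := act 0 n280
theorem D552 : act 0 n280 = n552 := rfl
theorem F1039 : act 4 n552 = n282 := d3_2 (iv F560) D552 (iv D282)
def n553 : Q := act 2 n280
theorem D553 : act 2 n280 = n553 := rfl
theorem F1040 : act 1 n553 = n289 := d6_1 D553 (iv D289) (iv D140) (iv F277) D280
theorem F1041 : act 4 n553 = n283 := d12_2 (iv F560) D553 (iv D283)
def n554 : Q := act 6 n280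
theorem D554 : act 6 n280 = n554 := rfl
theorem F1042 : act 4 n554 = n284 := d19_1 D554 (iv D284) (iv F560)
def n555 : Q := act 0 n281
theorem D555 : act 0 n281 = n555 := rfl
theorem F1043 : act 4 n555 = n285 := d3_2 (iv F561) D555 (iv D285)
def n556 : Q := act 2 n281
theorem D556 : act 2 n281 = n556 := rfl
theorem F1044 : act 1 n556 = n292 := d6_1 D556 (iv D292) (iv D141) (iv F280) D281
theorem F1045 : act 4 n556 = n286 := d12_2 (iv F561) D556 (iv D286)
def n557 : Q := act 5 n281
theorem D557 : act 5 n281 = n557 := rfl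
theorem F1046 : act 4 n557 = n287 := d18_1 D557 (iv D287) (iv F561)
def n558 : Q := act 1 n282
theorem D558 : act 1 n282 = n558 := rfl
def n559 : Q := act 2 n282
theorem D559 : act 2 n282 = n559 := rfl
theorem F1047 : act 0 n559 = n283 := d1_1 D559 (iv D283) D282
def n560 : Q := act 6 n282
theorem D560 : act 6 n282 = n560 := rfl
theorem F1048 : act 0 n560 = n284 := d5_1 D560 (iv D284) D282
theorem F1049 : act 5 n560 = n530 := d22_2 F1010 D560 (iv D530) D528
def n561 : Q := act 3 n283
theorem D561 : act 3 n283 = n561 := rfl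
theorem F1050 : act 1 n561 = n296 := d7_1 D561 (iv D296) (iv F562)
def n562 : Q := act 6 n283
theorem D562 : act 6 n283 = n562 := rfl
theorem F1051 : act 2 n562 = n284 := d14_1 D562 (iv D284) D283
def n563 : Q := act 5 n284
theorem D563 : act 5 n284 = n563 := rfl
theorem F1052 : act 0 n563 = n530 := d4_1 D563 (iv F1049) F1048
theorem F1053 : act 6 n563 = n528 := d20_2 D284 D563 F1010 D560 F1049 (iv D530) F539
def n564 : Q := act 1 n285
theorem D564 : act 1 n285 = n564 := rfl
def n565 : Q := act 2 n285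
theorem D565 : act 2 n285 = n565 := rfl
theorem F1054 : act 0 n565 = n286 := d1_1 D565 (iv D286) D285
def n566 : Q := act 5 n285
theorem D566 : act 5 n285 = n566 := rfl
theorem F1055 : act 0 n566 = n287 := d4_1 D566 (iv D287) D285
theorem F1056 : act 6 n566 = n534 := d22_1 D566 (iv D534) F541 D285
def n567 : Q := act 3 n286
theorem D567 : act 3 n286 = n567 := rfl
theorem F1057 : act 1 n567 = n301 := d7_1 D567 (iv D301) (iv F563)
def n568 : Q := act 5 n286
theorem D568 : act 5 n286 = n568 := rfl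
theorem F1058 : act 2 n568 = n287 := d13_1 D568 (iv D287) D286
def n569 : Q := act 6 n287
theorem D569 : act 6 n287 = n569 := rfl
theorem F1059 : act 0 n569 = n534 := d5_1 D569 (iv F1056) F1055
theorem F1060 : act 5 n569 = n532 := d20_1 D569 F1012 D566 F1056 (iv D534) F541 D287
def n570 : Q := act 1 n288
theorem D570 : act 1 n288 = n570 := rfl
theorem F1061 : act 0 n570 = n570 := d0_1 D570 (iv D570) (iv D288) (iv D140) F133 F84 (iv F133) D140 D288
theorem F1062 : act 3 n570 = n570 := d7_2 F564 D570 (iv D570)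
theorem F1063 : act 4 n570 = n294 := d8_2 (iv F565) D570 (iv D294)
theorem F1064 : act 5 n570 = n570 := d9_2 F599 D570 (iv D570) (iv F599) F597
theorem F1065 : act 6 n570 = n412 := d10_2 (iv F939) D570 (iv D412) (iv F498) D489
def n571 : Q := act 2 n288
theorem D571 : act 2 n288 = n571 := rfl
theorem F1066 : act 0 n571 = n289 := d1_1 D571 (iv D289) D288
theorem F1067 : act 4 n571 = n295 := d12_2 (iv F565) D571 (iv D295)
def n572 : Q := act 3 n289
theorem D572 : act 3 n289 = n572 := rfl
def n573 : Q := act 6 n289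
theorem D573 : act 6 n289 = n573 := rfl
theorem F1068 : act 2 n573 = n290 := d14_1 D573 (iv D290) D289
theorem F1069 : act 4 n573 = n297 := d19_1 D573 (iv D297) (iv F566)
def n574 : Q := act 5 n290
theorem D574 : act 5 n290 = n574 := rfl
theorem F1070 : act 0 n574 = n484 := d4_1 D574 (iv F937) (iv F938)
theorem F1071 : act 3 n574 = n574 := d16_1 D574 (iv D574) F567
theorem F1072 : act 4 n574 = n298 := d18_1 D574 (iv D298) (iv F568)
theorem F1073 : act 6 n574 = n305 := d20_2 D290 D574 F599 F939 F937 (iv D484) F488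
theorem F1074 : act 1 n352 = n574 := d8_3 F1072 (iv F583) (iv F673)
def n575 : Q := act 1 n291
theorem D575 : act 1 n291 = n575 := rfl
theorem F1075 : act 0 n575 = n575 := d0_1 D575 (iv D575) (iv D291) (iv D141) F136 F87 (iv F136) D141 D291
theorem F1076 : act 3 n575 = n575 := d7_2 F569 D575 (iv D575)
theorem F1077 : act 4 n575 = n299 := d8_2 (iv F570) D575 (iv D299)
theorem F1078 : act 5 n575 = n413 := d9_2 (iv F924) D575 (iv D413) (iv F491) D485
theorem F1079 : act 6 n575 = n575 := d10_2 F928 D575 (iv D575) (iv F928) F925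
def n576 : Q := act 2 n291
theorem D576 : act 2 n291 = n576 := rfl
theorem F1080 : act 0 n576 = n292 := d1_1 D576 (iv D292) D291
theorem F1081 : act 4 n576 = n300 := d12_2 (iv F570) D576 (iv D300)
def n577 : Q := act 3 n292
theorem D577 : act 3 n292 = n577 := rfl
def n578 : Q := act 5 n292
theorem D578 : act 5 n292 = n578 := rfl
theorem F1082 : act 2 n578 = n293 := d13_1 D578 (iv D293) D292
theorem F1083 : act 4 n578 = n302 := d18_1 D578 (iv D302) (iv F571)
def n579 : Q := act 6 n293
theorem D579 : act 6 n293 = n579 := rfl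
theorem F1084 : act 0 n579 = n488 := d5_1 D579 F933 (iv F923)
theorem F1085 : act 3 n579 = n579 := d17_1 D579 (iv D579) F572
theorem F1086 : act 4 n579 = n303 := d19_1 D579 (iv D303) (iv F573)
theorem F1088 : act 1 n355 = n579 := d8_3 F1086 (iv F593) (iv F681)
def n580 : Q := act 2 n294
theorem D580 : act 2 n294 = n580 := rfl
theorem F1091 : act 6 n580 = n414 := d14_2 (iv F577) D580 (iv D414)
def n581 : Q := act 1 n295
theorem D581 : act 1 n295 = n581 := rfl
def n582 : Q := act 3 n295
theorem D582 : act 3 n295 = n582 := rfl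
theorem F1092 : act 0 n582 = n296 := d2_1 D582 (iv D296) (iv F578)
def n583 : Q := act 4 n296
theorem D583 : act 4 n296 = n583 := rfl
def n584 : Q := act 6 n296
theorem D584 : act 6 n296 = n584 := rfl
theorem F1093 : act 3 n584 = n297 := d17_1 D584 (iv D297) D296
def n585 : Q := act 1 n297
theorem D585 : act 1 n297 = n585 := rfl
def n586 : Q := act 5 n297
theorem D586 : act 5 n297 = n586 := rfl
theorem F1094 : act 0 n586 = n491 := d4_1 D586 (iv F951) F950
theorem F1095 : act 2 n586 = n298 := d13_1 D586 (iv D298) (iv F579)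
theorem F1096 : act 6 n586 = n304 := d20_2 D297 D586 F595 (iv F952) F951 (iv D491) F499
def n587 : Q := act 2 n299
theorem D587 : act 2 n299 = n587 := rfl
theorem F1098 : act 5 n587 = n415 := d13_2 (iv F586) D587 (iv D415)
def n588 : Q := act 1 n300
theorem D588 : act 1 n300 = n588 := rfl
def n589 : Q := act 3 n300
theorem D589 : act 3 n300 = n589 := rfl
theorem F1100 : act 0 n589 = n301 := d2_1 D589 (iv D301) (iv F588)
def n590 : Q := act 2 n301
theorem D590 : act 2 n301 = n590 := rfl
def n591 : Q := act 4 n301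
theorem D591 : act 4 n301 = n591 := rfl
def n592 : Q := act 5 n301
theorem D592 : act 5 n301 = n592 := rfl
theorem F1101 : act 3 n592 = n302 := d16_1 D592 (iv D302) D301
def n593 : Q := act 1 n302
theorem D593 : act 1 n302 = n593 := rfl
def n594 : Q := act 6 n302
theorem D594 : act 6 n302 = n594 := rfl
theorem F1102 : act 0 n594 = n495 := d5_1 D594 F949 F943
theorem F1103 : act 2 n594 = n303 := d14_1 D594 (iv D303) (iv F589)
def n595 : Q := act 1 n304
theorem D595 : act 1 n304 = n595 := rfl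
theorem F1105 : act 2 n595 = n595 := d6_2 D304 D595 (iv D595) (iv D304) F297
def n596 : Q := act 3 n304
theorem D596 : act 3 n304 = n596 := rfl
theorem F1106 : act 0 n596 = n490 := d2_1 D596 (iv D490) (iv F594)
theorem F1107 : act 2 n596 = n582 := d11_1 D596 (iv D582) (iv D295) F286 (iv F146) (iv F239) D247 D490 F941 (iv D296) (iv D143) F139 D67 D149 D304
theorem F1108 : act 5 n596 = n582 := d16_2 (iv F595) D596 (iv D582)
def n597 : Q := act 4 n304
theorem D597 : act 4 n304 = n597 := rfl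
theorem F1109 : act 0 n597 = n483 := d3_1 D597 F917 (iv F594)
theorem F1110 : act 2 n597 = n305 := d12_1 D597 (iv D305) D304
theorem F1111 : act 5 n597 = n571 := d18_2 (iv F595) D597 F1067
def n598 : Q := act 2 n306
theorem D598 : act 2 n306 = n598 := rfl
theorem F1112 : act 0 n598 = n307 := d1_1 D598 (iv D307) (iv F600)
theorem F1113 : act 3 n598 = n590 := d21_1 D598 (iv D590) (iv D301) (iv D146) F140 D70 D153 (iv F600)
def n600 : Q := act 1 n307
theorem D600 : act 1 n307 = n600 := rfl
theorem F1117 : act 2 n600 = n600 := d6_2 D307 D600 (iv D600) (iv D307) F311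
def n601 : Q := act 3 n307
theorem D601 : act 3 n307 = n601 := rfl
theorem F1119 : act 2 n601 = n589 := d11_1 D601 (iv D589) (iv D300) F288 D152 D306 D598 F1113 (iv D590) (iv D301) (iv D146) F140 D70 D153 D307
def n602 : Q := act 4 n307
theorem D602 : act 4 n307 = n602 := rfl
theorem F1120 : act 2 n602 = n308 := d12_1 D602 (iv D308) D307
def n603 : Q := act 5 n307
theorem D603 : act 5 n307 = n603 := rfl
theorem F1121 : act 2 n603 = n309 := d13_1 D603 (iv D309) D307
def n604 : Q := act 5 n308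
theorem D604 : act 5 n308 = n604 := rfl
theorem F1123 : act 4 n604 = n309 := d18_1 D604 (iv D309) D308
def n606 : Q := act 6 n309
theorem D606 : act 6 n309 = n606 := rfl
theorem F1126 : act 0 n606 = n440 := d5_1 D606 (iv F955) F953
theorem F1127 : act 3 n606 = n311 := d17_1 D606 (iv D311) (iv F604)
def n607 : Q := act 0 n310
theorem D607 : act 0 n310 = n607 := rfl
theorem F1130 : act 5 n607 = n607 := d4_2 F606 D607 (iv D607)
theorem F1131 : act 1 n387 = n607 := d23_2 (iv F751) F749 (iv D607) F606 (iv F714) (iv D371) (iv F705) (iv D367) (iv D185) (iv F375) F299 (iv F260) F263 (iv F255) (iv F314) F316 D255 (iv F522) (iv F738)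
def n609 : Q := act 1 n311
theorem D609 : act 1 n311 = n609 := rfl
theorem F1133 : act 2 n609 = n372 := d6_2 (iv F608) D609 (iv D372) (iv D189) F376
def n610 : Q := act 1 n312
theorem D610 : act 1 n312 = n610 := rfl
theorem F1135 : act 2 n610 = n610 := d6_2 D312 D610 (iv D610) (iv D312) F317
theorem F1136 : act 4 n610 = n327 := d8_2 (iv F611) D610 (iv D327)
def n611 : Q := act 3 n312
theorem D611 : act 3 n312 = n611 := rfl
theorem F1137 : act 2 n611 = n611 := d21_2 D312 D611 (iv D611) (iv D312) (iv D156) (iv F268) D272 F544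
def n612 : Q := act 5 n312
theorem D612 : act 5 n312 = n612 := rfl
theorem F1138 : act 2 n612 = n313 := d13_1 D612 (iv D313) D312
theorem F1139 : act 4 n612 = n328 := d18_1 D612 (iv D328) (iv F611)
def n613 : Q := act 6 n312
theorem D613 : act 6 n312 = n613 := rfl
theorem F1140 : act 2 n613 = n314 := d14_1 D613 (iv D314) D312
theorem F1141 : act 4 n613 = n329 := d19_1 D613 (iv D329) (iv F611)
def n614 : Q := act 1 n313
theorem D614 : act 1 n313 = n614 := rfl
theorem F1142 : act 3 n614 = n315 := d7_2 (iv F612) D614 (iv D315)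
theorem F1143 : act 4 n614 = n330 := d8_2 (iv F613) D614 (iv D330)
theorem F1144 : act 5 n614 = n614 := d9_2 D313 D614 (iv D614) (iv D313) F317
def n615 : Q := act 6 n313
theorem D615 : act 6 n313 = n615 := rfl
theorem F1145 : act 3 n615 = n316 := d17_1 D615 (iv D316) (iv F612)
theorem F1146 : act 4 n615 = n331 := d19_1 D615 (iv D331) (iv F613)
theorem F1147 : act 5 n615 = n538 := d22_2 D313 D615 (iv D538) F544
def n616 : Q := act 1 n314
theorem D616 : act 1 n314 = n616 := rfl
theorem F1148 : act 3 n616 = n317 := d7_2 (iv F614) D616 (iv D317)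
theorem F1149 : act 4 n616 = n332 := d8_2 (iv F615) D616 (iv D332)
theorem F1150 : act 6 n616 = n616 := d10_2 D314 D616 (iv D616) (iv D314) F317
def n617 : Q := act 5 n314
theorem D617 : act 5 n314 = n617 := rfl
theorem F1151 : act 0 n617 = n615 := d4_1 D617 F1147 F1019
theorem F1152 : act 3 n617 = n318 := d16_1 D617 (iv D318) (iv F614)
theorem F1153 : act 4 n617 = n333 := d18_1 D617 (iv D333) (iv F615)
theorem F1154 : act 6 n617 = n537 := d20_2 D314 D617 (iv D537) D538 (iv F1147) (iv D615) (iv D313)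
def n618 : Q := act 0 n315
theorem D618 : act 0 n315 = n618 := rfl
theorem F1155 : act 4 n618 = n319 := d3_2 (iv F616) D618 (iv D319)
theorem F1156 : act 5 n618 = n618 := d4_2 F617 D618 (iv D618)
def n619 : Q := act 2 n315
theorem D619 : act 2 n315 = n619 := rfl
theorem F1157 : act 4 n619 = n320 := d12_2 (iv F616) D619 (iv D320)
theorem F1158 : act 5 n619 = n619 := d13_2 F617 D619 (iv D619)
def n620 : Q := act 6 n315
theorem D620 : act 6 n315 = n620 := rfl
def n621 : Q := act 1 n316
theorem D621 : act 1 n316 = n621 := rfl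
theorem F1160 : act 4 n621 = n322 := d8_2 (iv F618) D621 (iv D322)
def n622 : Q := act 0 n317
theorem D622 : act 0 n317 = n622 := rfl
theorem F1161 : act 4 n622 = n323 := d3_2 (iv F620) D622 (iv D323)
def n623 : Q := act 2 n317
theorem D623 : act 2 n317 = n623 := rfl
theorem F1163 : act 4 n623 = n324 := d12_2 (iv F620) D623 (iv D324)
theorem F1164 : act 6 n623 = n623 := d14_2 F621 D623 (iv D623)
def n624 : Q := act 5 n317
theorem D624 : act 5 n317 = n624 := rfl
theorem F1165 : act 4 n624 = n325 := d18_1 D624 (iv D325) (iv F620)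
def n625 : Q := act 1 n318
theorem D625 : act 1 n318 = n625 := rfl
theorem F1166 : act 4 n625 = n326 := d8_2 (iv F624) D625 (iv D326)
def n626 : Q := act 1 n319
theorem D626 : act 1 n319 = n626 := rfl
def n627 : Q := act 2 n319
theorem D627 : act 2 n319 = n627 := rfl
theorem F1168 : act 0 n627 = n320 := d1_1 D627 (iv D320) D319
theorem F1169 : act 5 n627 = n627 := d13_2 F627 D627 (iv D627)
def n629 : Q := act 3 n320
theorem D629 : act 3 n320 = n629 := rfl
def n630 : Q := act 6 n320
theorem D630 : act 6 n320 = n630 := rfl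
theorem F1174 : act 2 n630 = n321 := d14_1 D630 (iv D321) D320
def n631 : Q := act 1 n321
theorem D631 : act 1 n321 = n631 := rfl
theorem F1175 : act 3 n631 = n342 := d7_2 (iv F629) D631 (iv D342)
theorem F1176 : act 6 n631 = n322 := d10_2 D321 D631 (iv D322) (iv D160) D159
def n632 : Q := act 0 n322
theorem D632 : act 0 n322 = n632 := rfl
theorem F1177 : act 3 n632 = n343 := d2_2 (iv F630) D632 (iv D343)
def n633 : Q := act 2 n322
theorem D633 : act 2 n322 = n633 := rfl
def n634 : Q := act 5 n322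
theorem D634 : act 5 n322 = n634 := rfl
theorem F1178 : act 1 n634 = n546 := d9_1 D634 (iv D546) (iv D276) (iv F324) D322
def n635 : Q := act 1 n323
theorem D635 : act 1 n323 = n635 := rfl
theorem F1180 : act 3 n635 = n346 := d7_2 (iv F631) D635 (iv D346)
def n636 : Q := act 2 n323
theorem D636 : act 2 n323 = n636 := rfl
theorem F1181 : act 0 n636 = n324 := d1_1 D636 (iv D324) D323
theorem F1182 : act 6 n636 = n636 := d14_2 F632 D636 (iv D636)
def n638 : Q := act 3 n324
theorem D638 : act 3 n324 = n638 := rfl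
def n639 : Q := act 5 n324
theorem D639 : act 5 n324 = n639 := rfl
def n640 : Q := act 1 n325
theorem D640 : act 1 n325 = n640 := rfl
theorem F1188 : act 3 n640 = n348 := d7_2 (iv F634) D640 (iv D348)
theorem F1189 : act 5 n640 = n326 := d9_2 D325 D640 (iv D326) (iv D162) D161
def n641 : Q := act 0 n326
theorem D641 : act 0 n326 = n641 := rfl
theorem F1190 : act 3 n641 = n349 := d2_2 (iv F635) D641 (iv D349)
def n642 : Q := act 2 n326
theorem D642 : act 2 n326 = n642 := rfl
theorem F1191 : act 1 n642 = n633 := d6_1 D642 (iv D633) (iv D322) (iv F328) D326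
def n643 : Q := act 6 n326
theorem D643 : act 6 n326 = n643 := rfl
theorem F1192 : act 1 n643 = n543 := d10_1 D643 (iv D543) (iv D275) (iv F330) D326
def n644 : Q := act 0 n327
theorem D644 : act 0 n327 = n644 := rfl
theorem F1194 : act 2 n644 = n644 := d1_2 F636 D644 (iv D644)
def n645 : Q := act 5 n327
theorem D645 : act 5 n327 = n645 := rfl
theorem F1195 : act 2 n645 = n645 := d13_1 D645 (iv D645) F636
def n646 : Q := act 6 n327
theorem D646 : act 6 n327 = n646 := rfl
theorem F1196 : act 2 n646 = n646 := d14_1 D646 (iv D646) F636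
def n647 : Q := act 1 n328
theorem D647 : act 1 n328 = n647 := rfl
def n648 : Q := act 6 n328
theorem D648 : act 6 n328 = n648 := rfl
theorem F1197 : act 2 n648 = n331 := d14_1 D648 (iv D331) (iv F637)
theorem F1198 : act 5 n648 = n549 := d22_2 D328 D648 (iv D549) F554
def n649 : Q := act 1 n329
theorem D649 : act 1 n329 = n649 := rfl
def n650 : Q := act 5 n329
theorem D650 : act 5 n329 = n650 := rfl
theorem F1199 : act 0 n650 = n648 := d4_1 D650 F1198 F1034
theorem F1200 : act 2 n650 = n333 := d13_1 D650 (iv D333) (iv F638)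
theorem F1201 : act 3 n650 = n648 := d16_1 D650 F1198 F1036
theorem F1202 : act 6 n650 = n548 := d20_2 D329 D650 (iv D548) D549 (iv F1198) (iv D648) (iv D328)
def n651 : Q := act 0 n330
theorem D651 : act 0 n330 = n651 := rfl
theorem F1203 : act 3 n651 = n334 := d2_2 (iv F639) D651 (iv D334)
theorem F1204 : act 5 n651 = n651 := d4_2 F640 D651 (iv D651)
def n652 : Q := act 2 n330
theorem D652 : act 2 n330 = n652 := rfl
theorem F1205 : act 5 n652 = n652 := d13_2 F640 D652 (iv D652)
def n653 : Q := act 6 n330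
theorem D653 : act 6 n330 = n653 := rfl
theorem F1206 : act 3 n653 = n335 := d17_1 D653 (iv D335) (iv F639)
def n654 : Q := act 1 n331
theorem D654 : act 1 n331 = n654 := rfl
theorem F1207 : act 3 n654 = n336 := d7_2 (iv F641) D654 (iv D336)
def n655 : Q := act 0 n332
theorem D655 : act 0 n332 = n655 := rfl
theorem F1208 : act 3 n655 = n337 := d2_2 (iv F643) D655 (iv D337)
def n656 : Q := act 2 n332
theorem D656 : act 2 n332 = n656 := rfl
theorem F1210 : act 6 n656 = n656 := d14_2 F644 D656 (iv D656)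
def n657 : Q := act 5 n332
theorem D657 : act 5 n332 = n657 := rfl
theorem F1211 : act 3 n657 = n338 := d16_1 D657 (iv D338) (iv F643)
def n658 : Q := act 1 n333
theorem D658 : act 1 n333 = n658 := rfl
theorem F1212 : act 3 n658 = n339 := d7_2 (iv F646) D658 (iv D339)
def n659 : Q := act 1 n334
theorem D659 : act 1 n334 = n659 := rfl
theorem F1213 : act 4 n659 = n340 := d8_2 (iv F649) D659 (iv D340)
def n660 : Q := act 6 n334
theorem D660 : act 6 n334 = n660 := rfl
theorem F1214 : act 0 n660 = n335 := d5_1 D660 (iv D335) D334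
theorem F1216 : act 4 n660 = n341 := d19_1 D660 (iv D341) (iv F649)
theorem F1217 : act 5 n660 = n335 := d22_2 F650 D660 (iv D335) D334
def n661 : Q := act 1 n335
theorem D661 : act 1 n335 = n661 := rfl
theorem F1218 : act 4 n661 = n342 := d8_2 (iv F652) D661 (iv D342)
theorem F1219 : act 6 n661 = n336 := d10_2 D335 D661 (iv D336) (iv D167) D166
def n662 : Q := act 0 n336
theorem D662 : act 0 n336 = n662 := rfl
theorem F1220 : act 4 n662 = n343 := d3_2 (iv F653) D662 (iv D343)
def n663 : Q := act 2 n336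
theorem D663 : act 2 n336 = n663 := rfl
theorem F1221 : act 1 n663 = n353 := d6_1 D663 (iv D353) (iv D176) (iv F336) D336
theorem F1222 : act 4 n663 = n344 := d12_2 (iv F653) D663 (iv D344)
def n664 : Q := act 5 n336
theorem D664 : act 5 n336 = n664 := rfl
theorem F1223 : act 1 n664 = n557 := d9_1 D664 (iv D557) (iv D281) (iv F338) D336
def n665 : Q := act 1 n337
theorem D665 : act 1 n337 = n665 := rfl
theorem F1225 : act 4 n665 = n346 := d8_2 (iv F655) D665 (iv D346)
def n666 : Q := act 5 n337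
theorem D666 : act 5 n337 = n666 := rfl
theorem F1226 : act 0 n666 = n338 := d4_1 D666 (iv D338) D337
theorem F1229 : act 6 n666 = n338 := d22_1 D666 (iv D338) F341 D337
def n667 : Q := act 1 n338
theorem D667 : act 1 n338 = n667 := rfl
theorem F1230 : act 4 n667 = n348 := d8_2 (iv F658) D667 (iv D348)
theorem F1231 : act 5 n667 = n339 := d9_2 D338 D667 (iv D339) (iv D169) D168
def n668 : Q := act 0 n339
theorem D668 : act 0 n339 = n668 := rfl
theorem F1232 : act 4 n668 = n349 := d3_2 (iv F659) D668 (iv D349)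
def n669 : Q := act 2 n339
theorem D669 : act 2 n339 = n669 := rfl
theorem F1233 : act 1 n669 = n356 := d6_1 D669 (iv D356) (iv D177) (iv F343) D339
theorem F1234 : act 4 n669 = n350 := d12_2 (iv F659) D669 (iv D350)
def n670 : Q := act 6 n339
theorem D670 : act 6 n339 = n670 := rfl
theorem F1235 : act 1 n670 = n554 := d10_1 D670 (iv D554) (iv D280) (iv F345) D339
theorem F1236 : act 4 n670 = n351 := d19_1 D670 (iv D351) (iv F659)
def n671 : Q := act 0 n340
theorem D671 : act 0 n340 = n671 := rfl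
def n673 : Q := act 5 n340
theorem D673 : act 5 n340 = n673 := rfl
theorem F1238 : act 1 n673 = n673 := d9_1 D673 (iv D673) (iv D340) F347 D340
def n674 : Q := act 6 n340
theorem D674 : act 6 n340 = n674 := rfl
def n675 : Q := act 1 n341
theorem D675 : act 1 n341 = n675 := rfl
def n676 : Q := act 0 n342
theorem D676 : act 0 n342 = n676 := rfl
theorem F1239 : act 6 n676 = n343 := d5_2 (iv F663) D676 (iv D343)
def n677 : Q := act 2 n342
theorem D677 : act 2 n342 = n677 := rfl
theorem F1240 : act 1 n677 = n677 := d6_1 D677 (iv D677) (iv D342) F348 D342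
theorem F1241 : act 6 n677 = n344 := d14_2 (iv F663) D677 (iv D344)
def n678 : Q := act 5 n342
theorem D678 : act 5 n342 = n678 := rfl
def n679 : Q := act 1 n343
theorem D679 : act 1 n343 = n679 := rfl
def n680 : Q := act 2 n343
theorem D680 : act 2 n343 = n680 := rfl
theorem F1242 : act 0 n680 = n344 := d1_1 D680 (iv D344) D343
def n681 : Q := act 5 n343
theorem D681 : act 5 n343 = n681 := rfl
theorem F1243 : act 0 n681 = n345 := d4_1 D681 (iv D345) D343
theorem F1244 : act 6 n681 = n678 := d22_1 D681 (iv D678) F663 D343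
def n682 : Q := act 3 n344
theorem D682 : act 3 n344 = n682 := rfl
theorem F1245 : act 1 n682 = n360 := d7_1 D682 (iv D360) (iv F664)
def n683 : Q := act 5 n344
theorem D683 : act 5 n344 = n683 := rfl
theorem F1246 : act 2 n683 = n345 := d13_1 D683 (iv D345) D344
def n684 : Q := act 6 n345
theorem D684 : act 6 n345 = n684 := rfl
theorem F1247 : act 0 n684 = n678 := d5_1 D684 (iv F1244) F1243
theorem F1248 : act 5 n684 = n676 := d20_1 D684 F1239 D681 F1244 (iv D678) F663 D345
def n685 : Q := act 0 n346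
theorem D685 : act 0 n346 = n685 := rfl
def n686 : Q := act 2 n346
theorem D686 : act 2 n346 = n686 := rfl
theorem F1249 : act 1 n686 = n686 := d6_1 D686 (iv D686) (iv D346) F349 D346
def n687 : Q := act 5 n346
theorem D687 : act 5 n346 = n687 := rfl
def n688 : Q := act 6 n346
theorem D688 : act 6 n346 = n688 := rfl
def n689 : Q := act 1 n347
theorem D689 : act 1 n347 = n689 := rfl
def n690 : Q := act 0 n348
theorem D690 : act 0 n348 = n690 := rfl
theorem F1251 : act 5 n690 = n349 := d4_2 (iv F669) D690 (iv D349)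
def n691 : Q := act 2 n348
theorem D691 : act 2 n348 = n691 := rfl
theorem F1252 : act 1 n691 = n691 := d6_1 D691 (iv D691) (iv D348) F351 D348
theorem F1253 : act 5 n691 = n350 := d13_2 (iv F669) D691 (iv D350)
def n692 : Q := act 6 n348
theorem D692 : act 6 n348 = n692 := rfl
def n693 : Q := act 1 n349
theorem D693 : act 1 n349 = n693 := rfl
def n694 : Q := act 2 n349
theorem D694 : act 2 n349 = n694 := rfl
theorem F1254 : act 0 n694 = n350 := d1_1 D694 (iv D350) D349
def n695 : Q := act 6 n349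
theorem D695 : act 6 n349 = n695 := rfl
theorem F1255 : act 0 n695 = n351 := d5_1 D695 (iv D351) D349
theorem F1256 : act 5 n695 = n692 := d22_2 F1251 D695 (iv D692) D690
def n696 : Q := act 3 n350
theorem D696 : act 3 n350 = n696 := rfl
theorem F1257 : act 1 n696 = n364 := d7_1 D696 (iv D364) (iv F670)
def n697 : Q := act 6 n350
theorem D697 : act 6 n350 = n697 := rfl
theorem F1258 : act 2 n697 = n351 := d14_1 D697 (iv D351) D350
def n698 : Q := act 5 n351
theorem D698 : act 5 n351 = n698 := rfl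
theorem F1259 : act 0 n698 = n692 := d4_1 D698 (iv F1256) F1255
def n699 : Q := act 2 n352
theorem D699 : act 2 n352 = n699 := rfl
theorem F1261 : act 0 n699 = n353 := d1_1 D699 (iv D353) D352
theorem F1262 : act 4 n699 = n358 := d12_2 (iv F673) D699 (iv D358)
theorem F1263 : act 6 n699 = n699 := d14_2 F674 D699 (iv D699)
def n700 : Q := act 5 n352
theorem D700 : act 5 n352 = n700 := rfl
theorem F1264 : act 0 n700 = n354 := d4_1 D700 (iv D354) D352
theorem F1265 : act 3 n700 = n700 := d16_1 D700 (iv D700) F672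
theorem F1266 : act 4 n700 = n359 := d18_1 D700 (iv D359) (iv F673)
theorem F1267 : act 6 n700 = n354 := d22_1 D700 (iv D354) F354 D352
def n701 : Q := act 3 n353
theorem D701 : act 3 n353 = n701 := rfl
theorem F1268 : act 6 n701 = n701 := d17_2 F676 D701 (iv D701)
def n702 : Q := act 5 n353
theorem D702 : act 5 n353 = n702 := rfl
theorem F1269 : act 2 n702 = n354 := d13_1 D702 (iv D354) D353
theorem F1270 : act 4 n702 = n361 := d18_1 D702 (iv D361) (iv F675)
def n703 : Q := act 2 n355
theorem D703 : act 2 n355 = n703 := rfl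
theorem F1271 : act 0 n703 = n356 := d1_1 D703 (iv D356) D355
theorem F1272 : act 4 n703 = n362 := d12_2 (iv F681) D703 (iv D362)
theorem F1273 : act 5 n703 = n703 := d13_2 F682 D703 (iv D703)
def n704 : Q := act 6 n355
theorem D704 : act 6 n355 = n704 := rfl
theorem F1274 : act 0 n704 = n357 := d5_1 D704 (iv D357) D355
theorem F1275 : act 1 n704 = n700 := d10_1 D704 F1267 F677 D579 (iv F1088)
theorem F1276 : act 3 n704 = n704 := d17_1 D704 (iv D704) F680
theorem F1277 : act 4 n704 = n363 := d19_1 D704 (iv D363) (iv F681)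
theorem F1278 : act 5 n704 = n357 := d22_2 F682 D704 (iv D357) D355
def n705 : Q := act 3 n356
theorem D705 : act 3 n356 = n705 := rfl
theorem F1279 : act 5 n705 = n705 := d16_2 F684 D705 (iv D705)
def n706 : Q := act 6 n356
theorem D706 : act 6 n356 = n706 := rfl
theorem F1280 : act 2 n706 = n357 := d14_1 D706 (iv D357) D356
theorem F1281 : act 4 n706 = n365 := d19_1 D706 (iv D365) (iv F683)
def n707 : Q := act 1 n358
theorem D707 : act 1 n358 = n707 := rfl
def n708 : Q := act 3 n358
theorem D708 : act 3 n358 = n708 := rfl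
theorem F1282 : act 0 n708 = n360 := d2_1 D708 (iv D360) (iv F688)
def n709 : Q := act 5 n358
theorem D709 : act 5 n358 = n709 := rfl
theorem F1284 : act 0 n709 = n361 := d4_1 D709 (iv D361) (iv F688)
theorem F1285 : act 2 n709 = n359 := d13_1 D709 (iv D359) D358
theorem F1286 : act 6 n709 = n361 := d22_1 D709 (iv D361) F360 (iv F688)
def n710 : Q := act 2 n360
theorem D710 : act 2 n360 = n710 := rfl
theorem F1287 : act 6 n710 = n710 := d14_2 F693 D710 (iv D710)
def n711 : Q := act 4 n360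
theorem D711 : act 4 n360 = n711 := rfl
theorem F1288 : act 6 n711 = n711 := d19_2 F693 D711 (iv D711)
def n712 : Q := act 5 n360
theorem D712 : act 5 n360 = n712 := rfl
theorem F1289 : act 3 n712 = n361 := d16_1 D712 (iv D361) D360
def n713 : Q := act 1 n361
theorem D713 : act 1 n361 = n713 := rfl
theorem F1290 : act 2 n713 = n593 := d6_2 (iv F694) D713 (iv D593) F589 (iv F361)
def n714 : Q := act 1 n362
theorem D714 : act 1 n362 = n714 := rfl
def n715 : Q := act 3 n362
theorem D715 : act 3 n362 = n715 := rfl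
theorem F1291 : act 0 n715 = n364 := d2_1 D715 (iv D364) (iv F695)
theorem F1292 : act 5 n715 = n715 := d16_2 F696 D715 (iv D715)
def n716 : Q := act 6 n362
theorem D716 : act 6 n362 = n716 := rfl
theorem F1293 : act 0 n716 = n365 := d5_1 D716 (iv D365) (iv F695)
theorem F1294 : act 2 n716 = n363 := d14_1 D716 (iv D363) D362
theorem F1295 : act 5 n716 = n365 := d22_2 F696 D716 (iv D365) (iv F695)
def n717 : Q := act 2 n364
theorem D717 : act 2 n364 = n717 := rfl
def n718 : Q := act 4 n364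
theorem D718 : act 4 n364 = n718 := rfl
def n719 : Q := act 6 n364
theorem D719 : act 6 n364 = n719 := rfl
theorem F1298 : act 3 n719 = n365 := d17_1 D719 (iv D365) D364
def n720 : Q := act 1 n365
theorem D720 : act 1 n365 = n720 := rfl
theorem F1299 : act 2 n720 = n585 := d6_2 (iv F702) D720 (iv D585) F579 (iv F366)
def n721 : Q := act 2 n366
theorem D721 : act 2 n366 = n721 := rfl
theorem F1300 : act 0 n721 = n368 := d1_1 D721 (iv D368) (iv F703)
theorem F1302 : act 3 n721 = n710 := d21_1 D721 (iv D710) (iv D360) (iv D179) F176 D87 D187 (iv F703)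
def n723 : Q := act 5 n366
theorem D723 : act 5 n366 = n723 := rfl
theorem F1307 : act 3 n723 = n367 := d16_1 D723 (iv D367) D366
def n724 : Q := act 1 n367
theorem D724 : act 1 n367 = n724 := rfl
theorem F1309 : act 4 n724 = n724 := d8_2 F707 D724 (iv D724)
def n725 : Q := act 1 n368
theorem D725 : act 1 n368 = n725 := rfl
def n726 : Q := act 3 n368
theorem D726 : act 3 n368 = n726 := rfl
theorem F1311 : act 0 n726 = n710 := d2_1 D726 (iv F1302) F1300
theorem F1312 : act 2 n726 = n708 := d11_1 D726 (iv D708) (iv D358) F358 D185 D366 D721 F1302 (iv D710) (iv D360) (iv D179) F176 D87 D187 D368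
def n730 : Q := act 1 n370
theorem D730 : act 1 n370 = n730 := rfl
theorem F1319 : act 3 n730 = n371 := d7_2 (iv F713) D730 (iv D371)
def n731 : Q := act 0 n371
theorem D731 : act 0 n371 = n731 := rfl
theorem F1321 : act 2 n731 = n607 := d1_2 (iv F714) D731 (iv D607)
theorem F1324 : act 1 n731 = n731 := d23_2 F1130 (iv F1321) (iv D731) F716 F714 (iv D310) (iv F515) F517 (iv D152) D151 F303 F305 F395 (iv D151) (iv D69) D71 (iv F312) D310 D607
theorem F1325 : act 0 n724 = n724 := d0_5 F1324 (iv D731) (iv D371) (iv F705) D724 (iv D724) F705 D371 D731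
def n733 : Q := act 0 n372
theorem D733 : act 0 n372 = n733 := rfl
def n735 : Q := act 5 n372
theorem D735 : act 5 n372 = n735 := rfl
def n736 : Q := act 6 n372
theorem D736 : act 6 n372 = n736 := rfl
def n737 : Q := act 2 n373
theorem D737 : act 2 n373 = n737 := rfl
theorem F1333 : act 0 n737 = n375 := d1_1 D737 (iv D375) (iv F718)
theorem F1335 : act 3 n737 = n717 := d21_1 D737 (iv D717) (iv D364) (iv D182) F178 D90 D191 (iv F718)
def n739 : Q := act 6 n373
theorem D739 : act 6 n373 = n739 := rfl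
theorem F1339 : act 0 n739 = n377 := d5_1 D739 (iv D377) (iv F718)
theorem F1340 : act 3 n739 = n374 := d17_1 D739 (iv D374) D373
def n740 : Q := act 1 n374
theorem D740 : act 1 n374 = n740 := rfl
theorem F1342 : act 0 n740 = n740 := d0_1 D740 (iv D740) F720 (iv F392) F369 F182 (iv F369) F392 (iv F720)
theorem F1343 : act 2 n740 = n724 := d6_2 (iv F721) D740 (iv D724) F706 (iv F385)
theorem F1344 : act 4 n740 = n740 := d8_2 F722 D740 (iv D740)
theorem F1345 : act 5 n740 = n724 := d9_2 (iv F723) D740 (iv D724) (iv D367) F392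
def n741 : Q := act 1 n375
theorem D741 : act 1 n375 = n741 := rfl
def n742 : Q := act 3 n375
theorem D742 : act 3 n375 = n742 := rfl
theorem F1347 : act 0 n742 = n717 := d2_1 D742 (iv F1335) F1333
theorem F1348 : act 2 n742 = n715 := d11_1 D742 (iv D715) (iv D362) F363 D189 D373 D737 F1335 (iv D717) (iv D364) (iv D182) F178 D90 D191 D375
theorem F1349 : act 5 n742 = n742 := d16_2 F724 D742 (iv D742)
def n744 : Q := act 6 n375
theorem D744 : act 6 n375 = n744 := rfl
theorem F1352 : act 2 n744 = n377 := d14_1 D744 (iv D377) D375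
def n762 : Q := act 1 n388
theorem D762 : act 1 n388 = n762 := rfl
theorem F1390 : act 5 n762 = n609 := d9_2 D388 D762 (iv D609) F610 (iv F522)
theorem F1391 : act 6 n762 = n762 := d10_2 (iv F755) D762 (iv D762) F755 F736
theorem F1392 : act 2 n735 = n762 := d13_3 F1390 F1133 D735
theorem F1393 : act 6 n735 = n735 := d14_0 F1392 F1391 (iv F1392)
theorem E3 : n736 = n733 := (c22_4 D735 F1393 (iv D735) D736 (iv D733))
theorem F1394 : act 6 n733 = n372 := (sb E3 (iv D736))
def n770 : Q := act 1 n391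
theorem D770 : act 1 n391 = n770 := rfl
def n771 : Q := act 1 n392
theorem D771 : act 1 n392 = n771 := rfl
def n772 : Q := act 1 n393
theorem D772 : act 1 n393 = n772 := rfl
theorem F1404 : act 4 n772 = n395 := d8_2 (iv F764) D772 (iv D395)
def n773 : Q := act 0 n395
theorem D773 : act 0 n395 = n773 := rfl
theorem F1406 : act 3 n773 = n396 := d2_2 (iv F768) D773 (iv D396)
def n774 : Q := act 2 n395
theorem D774 : act 2 n395 = n774 := rfl
def n775 : Q := act 6 n395
theorem D775 : act 6 n395 = n775 := rfl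
theorem F1407 : act 1 n775 = n497 := d10_1 D775 F955 (iv D440) F454 D395
def n776 : Q := act 6 n396
theorem D776 : act 6 n396 = n776 := rfl
theorem F1410 : act 0 n776 = n398 := d5_1 D776 (iv D398) D396
def n778 : Q := act 1 n399
theorem D778 : act 1 n399 = n778 := rfl
def n779 : Q := act 3 n399
theorem D779 : act 3 n399 = n779 := rfl
theorem F1418 : act 0 n779 = n400 := d2_1 D779 (iv D400) D399
def n780 : Q := act 4 n399
theorem D780 : act 4 n399 = n780 := rfl
theorem F1419 : act 0 n780 = n401 := d3_1 D780 (iv D401) D399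
def n781 : Q := act 5 n399
theorem D781 : act 5 n399 = n781 := rfl
theorem F1421 : act 0 n781 = n402 := d4_1 D781 (iv D402) D399
def n782 : Q := act 6 n399
theorem D782 : act 6 n399 = n782 := rfl
theorem F1423 : act 0 n782 = n403 := d5_1 D782 (iv D403) D399
def n783 : Q := act 2 n400
theorem D783 : act 2 n400 = n783 := rfl
def n784 : Q := act 4 n400
theorem D784 : act 4 n400 = n784 := rfl
theorem F1425 : act 1 n784 = n404 := d8_1 D784 (iv D404) (iv F782)
def n785 : Q := act 5 n400
theorem D785 : act 5 n400 = n785 := rfl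
theorem F1426 : act 3 n785 = n402 := d16_1 D785 (iv D402) D400
def n786 : Q := act 6 n400
theorem D786 : act 6 n400 = n786 := rfl
theorem F1427 : act 3 n786 = n403 := d17_1 D786 (iv D403) D400
def n787 : Q := act 3 n401
theorem D787 : act 3 n401 = n787 := rfl
theorem F1428 : act 1 n787 = n407 := d7_1 D787 (iv D407) (iv F783)
def n788 : Q := act 5 n401
theorem D788 : act 5 n401 = n788 := rfl
def n789 : Q := act 6 n401
theorem D789 : act 6 n401 = n789 := rfl
theorem F1432 : act 4 n789 = n403 := d19_1 D789 (iv D403) D401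
def n790 : Q := act 1 n402
theorem D790 : act 1 n402 = n790 := rfl
theorem F1433 : act 5 n790 = n410 := d9_2 D402 D790 (iv D410) (iv D205) D202
def n791 : Q := act 6 n402
theorem D791 : act 6 n402 = n791 := rfl
theorem F1435 : act 5 n791 = n782 := d22_2 D402 D791 (iv D782) (iv D399)
def n792 : Q := act 1 n403
theorem D792 : act 1 n403 = n792 := rfl
theorem F1436 : act 6 n792 = n411 := d10_2 D403 D792 (iv D411) (iv D206) D202
def n793 : Q := act 5 n403
theorem D793 : act 5 n403 = n793 := rfl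
theorem F1439 : act 6 n793 = n781 := d20_2 D403 D793 (iv D781) D782 (iv F1435) (iv D791) (iv D402)
def n794 : Q := act 3 n404
theorem D794 : act 3 n404 = n794 := rfl
theorem F1440 : act 0 n794 = n461 := d2_1 D794 (iv D461) (iv F787)
theorem F1441 : act 4 n794 = n407 := d15_2 D404 D794 (iv D407) (iv D204) D203
def n795 : Q := act 5 n404
theorem D795 : act 5 n404 = n795 := rfl
theorem F1442 : act 0 n795 = n462 := d4_1 D795 (iv D462) (iv F787)
theorem F1443 : act 4 n795 = n405 := d18_1 D795 (iv D405) D404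
def n796 : Q := act 6 n404
theorem D796 : act 6 n404 = n796 := rfl
theorem F1444 : act 0 n796 = n463 := d5_1 D796 (iv D463) (iv F787)
theorem F1445 : act 4 n796 = n406 := d19_1 D796 (iv D406) D404
def n797 : Q := act 1 n405
theorem D797 : act 1 n405 = n797 := rfl
theorem F1446 : act 3 n797 = n410 := d7_2 (iv F789) D797 (iv D410)
def n798 : Q := act 1 n406
theorem D798 : act 1 n406 = n798 := rfl
theorem F1447 : act 3 n798 = n411 := d7_2 (iv F791) D798 (iv D411)
def n799 : Q := act 2 n407
theorem D799 : act 2 n407 = n799 := rfl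
theorem F1448 : act 0 n799 = n468 := d1_1 D799 (iv D468) (iv F792)
theorem F1449 : act 3 n799 = n468 := d21_1 D799 (iv D468) (iv D236) F232 F113 (iv F232) D236 (iv F792)
def n800 : Q := act 5 n407
theorem D800 : act 5 n407 = n800 := rfl
theorem F1450 : act 0 n800 = n469 := d4_1 D800 (iv D469) (iv F792)
theorem F1451 : act 3 n800 = n408 := d16_1 D800 (iv D408) D407
def n801 : Q := act 6 n407
theorem D801 : act 6 n407 = n801 := rfl
theorem F1452 : act 0 n801 = n470 := d5_1 D801 (iv D470) (iv F792)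
theorem F1453 : act 3 n801 = n409 := d17_1 D801 (iv D409) D407
def n802 : Q := act 1 n408
theorem D802 : act 1 n408 = n802 := rfl
def n803 : Q := act 1 n409
theorem D803 : act 1 n409 = n803 := rfl
theorem F1455 : act 4 n803 = n411 := d8_2 (iv F798) D803 (iv D411)
def n804 : Q := act 0 n410
theorem D804 : act 0 n410 = n804 := rfl
def n805 : Q := act 2 n410
theorem D805 : act 2 n410 = n805 := rfl
theorem F1456 : act 1 n805 = n414 := d6_1 D805 (iv D414) (iv D209) (iv F416) D410
def n806 : Q := act 6 n410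
theorem D806 : act 6 n410 = n806 := rfl
def n807 : Q := act 0 n411
theorem D807 : act 0 n411 = n807 := rfl
def n808 : Q := act 2 n411
theorem D808 : act 2 n411 = n808 := rfl
theorem F1457 : act 1 n808 = n415 := d6_1 D808 (iv D415) (iv D210) (iv F418) D411
def n809 : Q := act 5 n411
theorem D809 : act 5 n411 = n809 := rfl
def n810 : Q := act 2 n412
theorem D810 : act 2 n412 = n810 := rfl
theorem F1458 : act 0 n810 = n810 := d1_1 D810 (iv D810) F799
theorem F1460 : act 5 n810 = n810 := d13_2 F802 D810 (iv D810)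
def n811 : Q := act 2 n413
theorem D811 : act 2 n413 = n811 := rfl
def n821 : Q := act 2 n418
theorem D821 : act 2 n418 = n821 := rfl
theorem F1482 : act 1 n821 = n783 := d6_1 D821 (iv D783) F782 (iv F436) (iv F815)
def n832 : Q := act 3 n422
theorem D832 : act 3 n422 = n832 := rfl
def n833 : Q := act 5 n422
theorem D833 : act 5 n422 = n833 := rfl
theorem F1499 : act 2 n833 = n795 := d13_1 D833 (iv D795) (iv F820)
theorem F1500 : act 4 n833 = n423 := d18_1 D833 (iv D423) D422
def n834 : Q := act 6 n422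
theorem D834 : act 6 n422 = n834 := rfl
theorem F1501 : act 2 n834 = n796 := d14_1 D834 (iv D796) (iv F820)
def n836 : Q := act 6 n423
theorem D836 : act 6 n423 = n836 := rfl
theorem F1504 : act 2 n836 = n467 := d14_1 D836 F903 (iv F821)
theorem F1506 : act 5 n836 = n460 := d22_2 D423 D836 (iv D460) F473
def n838 : Q := act 5 n424
theorem D838 : act 5 n424 = n838 := rfl
theorem F1509 : act 2 n838 = n465 := d13_1 D838 F899 (iv F823)
theorem F1511 : act 6 n838 = n459 := d20_2 D424 D838 (iv D459) D460 (iv F1506) (iv D836) (iv D423)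
def n853 : Q := act 1 n431
theorem D853 : act 1 n431 = n853 := rfl
def n858 : Q := act 1 n435
theorem D858 : act 1 n435 = n858 := rfl
theorem F1539 : act 4 n858 = n440 := d8_2 (iv F847) D858 (iv D440)
def n864 : Q := act 2 n440
theorem D864 : act 2 n440 = n864 := rfl
theorem F1550 : act 5 n864 = n499 := d13_2 (iv F859) D864 (iv D499)
def n867 : Q := act 2 n442
theorem D867 : act 2 n442 = n867 := rfl
theorem F1555 : act 1 n867 = n501 := d6_1 D867 (iv D501) (iv D257) (iv F467) D442
def n868 : Q := act 3 n442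
theorem D868 : act 3 n442 = n868 := rfl
theorem F1556 : act 1 n868 = n443 := d7_1 D868 (iv D443) D442
theorem F1557 : act 2 n457 = n868 := d6_0 F1556 F863 F468 D232 D457
def n869 : Q := act 4 n442
theorem D869 : act 4 n442 = n869 := rfl
theorem F1558 : act 1 n869 = n444 := d8_1 D869 (iv D444) D442
def n870 : Q := act 5 n442
theorem D870 : act 5 n442 = n870 := rfl
def n871 : Q := act 6 n442
theorem D871 : act 6 n442 = n871 := rfl
def n872 : Q := act 4 n443
theorem D872 : act 4 n443 = n872 := rfl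
theorem F1559 : act 0 n872 = n447 := d3_1 D872 (iv D447) (iv F862)
theorem F1560 : act 2 n872 = n447 := d12_1 D872 (iv D447) (iv F863)
def n873 : Q := act 5 n443
theorem D873 : act 5 n443 = n873 := rfl
theorem F1561 : act 0 n873 = n448 := d4_1 D873 (iv D448) (iv F862)
theorem F1562 : act 2 n873 = n448 := d13_1 D873 (iv D448) (iv F863)
theorem F1563 : act 3 n873 = n445 := d16_1 D873 (iv D445) D443
def n874 : Q := act 6 n443
theorem D874 : act 6 n443 = n874 := rfl
theorem F1564 : act 0 n874 = n449 := d5_1 D874 (iv D449) (iv F862)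
theorem F1565 : act 2 n874 = n449 := d14_1 D874 (iv D449) (iv F863)
theorem F1566 : act 3 n874 = n446 := d17_1 D874 (iv D446) D443
def n875 : Q := act 3 n444
theorem D875 : act 3 n444 = n875 := rfl
theorem F1567 : act 0 n875 = n450 := d2_1 D875 (iv D450) (iv F864)
def n876 : Q := act 5 n444
theorem D876 : act 5 n444 = n876 := rfl
theorem F1568 : act 0 n876 = n451 := d4_1 D876 (iv D451) (iv F864)
theorem F1569 : act 2 n876 = n510 := d13_1 D876 (iv D510) (iv F865)
theorem F1570 : act 4 n876 = n445 := d18_1 D876 (iv D445) D444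
def n877 : Q := act 6 n444
theorem D877 : act 6 n444 = n877 := rfl
theorem F1571 : act 0 n877 = n452 := d5_1 D877 (iv D452) (iv F864)
theorem F1572 : act 2 n877 = n511 := d14_1 D877 (iv D511) (iv F865)
theorem F1573 : act 4 n877 = n446 := d19_1 D877 (iv D446) D444
def n878 : Q := act 1 n445
theorem D878 : act 1 n445 = n878 := rfl
def n879 : Q := act 1 n446
theorem D879 : act 1 n446 = n879 := rfl
def n880 : Q := act 3 n447
theorem D880 : act 3 n447 = n880 := rfl
theorem F1574 : act 1 n880 = n461 := d7_1 D880 (iv D461) (iv F870)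
theorem F1575 : act 4 n880 = n450 := d15_2 D447 D880 (iv D450) (iv D229) D228
def n881 : Q := act 5 n447
theorem D881 : act 5 n447 = n881 := rfl
theorem F1576 : act 4 n881 = n448 := d18_1 D881 (iv D448) D447
def n882 : Q := act 6 n447
theorem D882 : act 6 n447 = n882 := rfl
theorem F1577 : act 4 n882 = n449 := d19_1 D882 (iv D449) D447
def n883 : Q := act 1 n448
theorem D883 : act 1 n448 = n883 := rfl
theorem F1578 : act 3 n883 = n453 := d7_2 (iv F871) D883 (iv D453)
theorem F1579 : act 5 n883 = n464 := d9_2 D448 D883 (iv D464) (iv D234) (iv F468)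
def n884 : Q := act 6 n448
theorem D884 : act 6 n448 = n884 := rfl
theorem F1580 : act 3 n884 = n454 := d17_1 D884 (iv D454) (iv F871)
theorem F1581 : act 5 n884 = n874 := d22_2 D448 D884 (iv D874) F862
def n885 : Q := act 1 n449
theorem D885 : act 1 n449 = n885 := rfl
theorem F1582 : act 3 n885 = n455 := d7_2 (iv F872) D885 (iv D455)
theorem F1583 : act 6 n885 = n466 := d10_2 D449 D885 (iv D466) (iv D235) (iv F468)
def n886 : Q := act 5 n449
theorem D886 : act 5 n449 = n886 := rfl
theorem F1584 : act 0 n886 = n884 := d4_1 D886 F1581 F1564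
theorem F1585 : act 2 n886 = n884 := d13_1 D886 F1581 F1565
theorem F1586 : act 3 n886 = n456 := d16_1 D886 (iv D456) (iv F872)
theorem F1587 : act 6 n886 = n873 := d20_2 D449 D886 (iv D873) D874 (iv F1581) (iv D884) (iv D448)
def n887 : Q := act 2 n450
theorem D887 : act 2 n450 = n887 := rfl
def n888 : Q := act 5 n450
theorem D888 : act 5 n450 = n888 := rfl
theorem F1588 : act 3 n888 = n451 := d16_1 D888 (iv D451) D450
def n889 : Q := act 6 n450
theorem D889 : act 6 n450 = n889 := rfl
theorem F1589 : act 3 n889 = n452 := d17_1 D889 (iv D452) D450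
def n890 : Q := act 1 n451
theorem D890 : act 1 n451 = n890 := rfl
theorem F1590 : act 4 n890 = n453 := d8_2 (iv F875) D890 (iv D453)
theorem F1591 : act 5 n890 = n471 := d9_2 D451 D890 (iv D471) (iv D237) (iv F469)
def n891 : Q := act 6 n451
theorem D891 : act 6 n451 = n891 := rfl
theorem F1592 : act 2 n891 = n525 := d14_1 D891 (iv D525) (iv F874)
theorem F1593 : act 4 n891 = n454 := d19_1 D891 (iv D454) (iv F875)
theorem F1594 : act 5 n891 = n877 := d22_2 D451 D891 (iv D877) F864
def n892 : Q := act 1 n452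
theorem D892 : act 1 n452 = n892 := rfl
theorem F1595 : act 4 n892 = n455 := d8_2 (iv F877) D892 (iv D455)
theorem F1596 : act 6 n892 = n473 := d10_2 D452 D892 (iv D473) (iv D238) (iv F469)
def n893 : Q := act 5 n452
theorem D893 : act 5 n452 = n893 := rfl
theorem F1597 : act 0 n893 = n891 := d4_1 D893 F1594 F1571
theorem F1598 : act 2 n893 = n527 := d13_1 D893 (iv D527) (iv F876)
theorem F1599 : act 4 n893 = n456 := d18_1 D893 (iv D456) (iv F877)
theorem F1600 : act 6 n893 = n876 := d20_2 D452 D893 (iv D876) D877 (iv F1594) (iv D891) (iv D451)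
def n894 : Q := act 0 n453
theorem D894 : act 0 n453 = n894 := rfl
theorem F1601 : act 5 n894 = n475 := d4_2 (iv F878) D894 (iv D475)
def n895 : Q := act 2 n453
theorem D895 : act 2 n453 = n895 := rfl
theorem F1602 : act 1 n895 = n529 := d6_1 D895 (iv D529) (iv D268) (iv F471) D453
theorem F1603 : act 5 n895 = n476 := d13_2 (iv F878) D895 (iv D476)
def n896 : Q := act 6 n453
theorem D896 : act 6 n453 = n896 := rfl
def n897 : Q := act 1 n454
theorem D897 : act 1 n454 = n897 := rfl
def n898 : Q := act 0 n455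
theorem D898 : act 0 n455 = n898 := rfl
theorem F1604 : act 6 n898 = n479 := d5_2 (iv F881) D898 (iv D479)
def n899 : Q := act 2 n455
theorem D899 : act 2 n455 = n899 := rfl
theorem F1605 : act 1 n899 = n533 := d6_1 D899 (iv D533) (iv D270) (iv F472) D455
theorem F1606 : act 6 n899 = n480 := d14_2 (iv F881) D899 (iv D480)
def n900 : Q := act 5 n455
theorem D900 : act 5 n455 = n900 := rfl
def n901 : Q := act 1 n456
theorem D901 : act 1 n456 = n901 := rfl
def n904 : Q := act 5 n457
theorem D904 : act 5 n457 = n904 := rfl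
def n906 : Q := act 3 n458
theorem D906 : act 3 n458 = n906 := rfl
theorem F1611 : act 0 n906 = n832 := d2_1 D906 (iv D832) (iv F886)
def n907 : Q := act 5 n458
theorem D907 : act 5 n458 = n907 := rfl
theorem F1614 : act 2 n907 = n462 := d13_1 D907 (iv D462) (iv F887)
theorem F1615 : act 4 n907 = n459 := d18_1 D907 (iv D459) D458
def n908 : Q := act 6 n458
theorem D908 : act 6 n458 = n908 := rfl
theorem F1617 : act 2 n908 = n463 := d14_1 D908 (iv D463) (iv F887)
theorem F1618 : act 4 n908 = n460 := d19_1 D908 (iv D460) D458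
def n909 : Q := act 1 n459
theorem D909 : act 1 n459 = n909 := rfl
theorem F1619 : act 3 n909 = n770 := d7_2 (iv F890) D909 (iv D770)
def n910 : Q := act 1 n460
theorem D910 : act 1 n460 = n910 := rfl
theorem F1620 : act 3 n910 = n771 := d7_2 (iv F893) D910 (iv D771)
def n911 : Q := act 2 n461
theorem D911 : act 2 n461 = n911 := rfl
theorem F1621 : act 4 n911 = n468 := d12_2 (iv F894) D911 (iv D468)
def n912 : Q := act 5 n461
theorem D912 : act 5 n461 = n912 := rfl
theorem F1622 : act 3 n912 = n462 := d16_1 D912 (iv D462) D461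
theorem F1623 : act 4 n912 = n469 := d18_1 D912 (iv D469) (iv F894)
def n913 : Q := act 6 n461
theorem D913 : act 6 n461 = n913 := rfl
theorem F1624 : act 3 n913 = n463 := d17_1 D913 (iv D463) D461
theorem F1625 : act 4 n913 = n470 := d19_1 D913 (iv D470) (iv F894)
def n914 : Q := act 1 n462
theorem D914 : act 1 n462 = n914 := rfl
theorem F1626 : act 4 n914 = n464 := d8_2 (iv F895) D914 (iv D464)
def n915 : Q := act 6 n462
theorem D915 : act 6 n462 = n915 := rfl
theorem F1627 : act 4 n915 = n465 := d19_1 D915 (iv D465) (iv F895)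
theorem F1628 : act 5 n915 = n796 := d22_2 D462 D915 (iv D796) F787
def n916 : Q := act 1 n463
theorem D916 : act 1 n463 = n916 := rfl
theorem F1629 : act 4 n916 = n466 := d8_2 (iv F896) D916 (iv D466)
def n917 : Q := act 5 n463
theorem D917 : act 5 n463 = n917 := rfl
theorem F1630 : act 0 n917 = n915 := d4_1 D917 F1628 F1444
theorem F1631 : act 4 n917 = n467 := d18_1 D917 (iv D467) (iv F896)
theorem F1632 : act 6 n917 = n795 := d20_2 D463 D917 (iv D795) D796 (iv F1628) (iv D915) (iv D462)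
def n918 : Q := act 0 n464
theorem D918 : act 0 n464 = n918 := rfl
theorem F1633 : act 3 n918 = n475 := d2_2 (iv F897) D918 (iv D475)
def n919 : Q := act 2 n464
theorem D919 : act 2 n464 = n919 := rfl
def n920 : Q := act 6 n464
theorem D920 : act 6 n464 = n920 := rfl
theorem F1634 : act 3 n920 = n477 := d17_1 D920 (iv D477) (iv F897)
def n921 : Q := act 1 n465
theorem D921 : act 1 n465 = n921 := rfl
theorem F1635 : act 3 n921 = n478 := d7_2 (iv F898) D921 (iv D478)
def n922 : Q := act 0 n466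
theorem D922 : act 0 n466 = n922 := rfl
theorem F1636 : act 3 n922 = n479 := d2_2 (iv F900) D922 (iv D479)
def n923 : Q := act 2 n466
theorem D923 : act 2 n466 = n923 := rfl
def n924 : Q := act 5 n466
theorem D924 : act 5 n466 = n924 := rfl
theorem F1637 : act 3 n924 = n481 := d16_1 D924 (iv D481) (iv F900)
def n925 : Q := act 1 n467
theorem D925 : act 1 n467 = n925 := rfl
theorem F1638 : act 3 n925 = n482 := d7_2 (iv F902) D925 (iv D482)
def n926 : Q := act 1 n468
theorem D926 : act 1 n468 = n926 := rfl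
def n927 : Q := act 5 n468
theorem D927 : act 5 n468 = n927 := rfl
theorem F1639 : act 2 n927 = n469 := d13_1 D927 (iv D469) D468
def n928 : Q := act 6 n468
theorem D928 : act 6 n468 = n928 := rfl
theorem F1640 : act 2 n928 = n470 := d14_1 D928 (iv D470) D468
def n929 : Q := act 1 n469
theorem D929 : act 1 n469 = n929 := rfl
theorem F1641 : act 3 n929 = n471 := d7_2 (iv F904) D929 (iv D471)
def n930 : Q := act 6 n469
theorem D930 : act 6 n469 = n930 := rfl
theorem F1642 : act 3 n930 = n472 := d17_1 D930 (iv D472) (iv F904)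
theorem F1643 : act 5 n930 = n801 := d22_2 D469 D930 (iv D801) F792
def n931 : Q := act 1 n470
theorem D931 : act 1 n470 = n931 := rfl
theorem F1644 : act 3 n931 = n473 := d7_2 (iv F905) D931 (iv D473)
def n932 : Q := act 5 n470
theorem D932 : act 5 n470 = n932 := rfl
theorem F1645 : act 0 n932 = n930 := d4_1 D932 F1643 F1452
theorem F1646 : act 3 n932 = n474 := d16_1 D932 (iv D474) (iv F905)
theorem F1647 : act 6 n932 = n800 := d20_2 D470 D932 (iv D800) D801 (iv F1643) (iv D930) (iv D469)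
def n933 : Q := act 0 n471
theorem D933 : act 0 n471 = n933 := rfl
theorem F1648 : act 4 n933 = n475 := d3_2 (iv F906) D933 (iv D475)
def n934 : Q := act 2 n471
theorem D934 : act 2 n471 = n934 := rfl
theorem F1649 : act 1 n934 = n483 := d6_1 D934 (iv D483) (iv D243) (iv F477) D471
theorem F1650 : act 4 n934 = n476 := d12_2 (iv F906) D934 (iv D476)
def n935 : Q := act 6 n471
theorem D935 : act 6 n471 = n935 := rfl
theorem F1651 : act 4 n935 = n477 := d19_1 D935 (iv D477) (iv F906)
def n936 : Q := act 1 n472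
theorem D936 : act 1 n472 = n936 := rfl
theorem F1652 : act 4 n936 = n478 := d8_2 (iv F908) D936 (iv D478)
def n937 : Q := act 0 n473
theorem D937 : act 0 n473 = n937 := rfl
theorem F1653 : act 4 n937 = n479 := d3_2 (iv F910) D937 (iv D479)
def n938 : Q := act 2 n473
theorem D938 : act 2 n473 = n938 := rfl
theorem F1654 : act 1 n938 = n487 := d6_1 D938 (iv D487) (iv D245) (iv F479) D473
theorem F1655 : act 4 n938 = n480 := d12_2 (iv F910) D938 (iv D480)
def n939 : Q := act 5 n473
theorem D939 : act 5 n473 = n939 := rfl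
theorem F1656 : act 4 n939 = n481 := d18_1 D939 (iv D481) (iv F910)
def n940 : Q := act 1 n474
theorem D940 : act 1 n474 = n940 := rfl
theorem F1657 : act 4 n940 = n482 := d8_2 (iv F913) D940 (iv D482)
def n941 : Q := act 1 n475
theorem D941 : act 1 n475 = n941 := rfl
def n942 : Q := act 2 n475
theorem D942 : act 2 n475 = n942 := rfl
theorem F1658 : act 0 n942 = n476 := d1_1 D942 (iv D476) D475
def n943 : Q := act 6 n475
theorem D943 : act 6 n475 = n943 := rfl
theorem F1659 : act 0 n943 = n477 := d5_1 D943 (iv D477) D475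
theorem F1660 : act 5 n943 = n896 := d22_2 F1601 D943 (iv D896) D894
def n944 : Q := act 3 n476
theorem D944 : act 3 n476 = n944 := rfl
theorem F1661 : act 1 n944 = n490 := d7_1 D944 (iv D490) (iv F915)
def n945 : Q := act 6 n476
theorem D945 : act 6 n476 = n945 := rfl
theorem F1662 : act 2 n945 = n477 := d14_1 D945 (iv D477) D476
def n946 : Q := act 1 n477
theorem D946 : act 1 n477 = n946 := rfl
theorem F1663 : act 6 n946 = n478 := d10_2 D477 D946 (iv D478) (iv D240) D239
def n947 : Q := act 5 n477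
theorem D947 : act 5 n477 = n947 := rfl
theorem F1664 : act 0 n947 = n896 := d4_1 D947 (iv F1660) F1659
theorem F1665 : act 6 n947 = n894 := d20_2 D477 D947 F1601 D943 F1660 (iv D896) F878
def n948 : Q := act 0 n478
theorem D948 : act 0 n478 = n948 := rfl
def n949 : Q := act 2 n478
theorem D949 : act 2 n478 = n949 := rfl
theorem F1666 : act 1 n949 = n492 := d6_1 D949 (iv D492) (iv D249) (iv F481) D478
def n950 : Q := act 5 n478
theorem D950 : act 5 n478 = n950 := rfl
theorem F1667 : act 1 n950 = n809 := d9_1 D950 (iv D809) (iv D411) (iv F482) D478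
def n951 : Q := act 1 n479
theorem D951 : act 1 n479 = n951 := rfl
def n952 : Q := act 2 n479
theorem D952 : act 2 n479 = n952 := rfl
theorem F1668 : act 0 n952 = n480 := d1_1 D952 (iv D480) D479
def n953 : Q := act 5 n479
theorem D953 : act 5 n479 = n953 := rfl
theorem F1669 : act 0 n953 = n481 := d4_1 D953 (iv D481) D479
theorem F1670 : act 6 n953 = n900 := d22_1 D953 (iv D900) F881 D479
def n954 : Q := act 3 n480
theorem D954 : act 3 n480 = n954 := rfl
theorem F1671 : act 1 n954 = n494 := d7_1 D954 (iv D494) (iv F916)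
def n955 : Q := act 5 n480
theorem D955 : act 5 n480 = n955 := rfl
theorem F1672 : act 2 n955 = n481 := d13_1 D955 (iv D481) D480
def n956 : Q := act 1 n481
theorem D956 : act 1 n481 = n956 := rfl
theorem F1673 : act 5 n956 = n482 := d9_2 D481 D956 (iv D482) (iv D242) D241
def n957 : Q := act 6 n481
theorem D957 : act 6 n481 = n957 := rfl
theorem F1674 : act 0 n957 = n900 := d5_1 D957 (iv F1670) F1669
theorem F1675 : act 5 n957 = n898 := d20_1 D957 F1604 D953 F1670 (iv D900) F881 D481
def n958 : Q := act 0 n482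
theorem D958 : act 0 n482 = n958 := rfl
def n959 : Q := act 2 n482
theorem D959 : act 2 n482 = n959 := rfl
theorem F1676 : act 1 n959 = n496 := d6_1 D959 (iv D496) (iv D253) (iv F484) D482
def n960 : Q := act 6 n482
theorem D960 : act 6 n482 = n960 := rfl
theorem F1677 : act 1 n960 = n806 := d10_1 D960 (iv D806) (iv D410) (iv F485) D482
def n961 : Q := act 3 n483
theorem D961 : act 3 n483 = n961 := rfl
theorem F1678 : act 5 n961 = n572 := d16_2 (iv F918) D961 (iv D572)
def n962 : Q := act 6 n483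
theorem D962 : act 6 n483 = n962 := rfl
theorem F1679 : act 2 n962 = n484 := d14_1 D962 (iv D484) D483
theorem F1680 : act 4 n962 = n491 := d19_1 D962 (iv D491) (iv F917)
def n963 : Q := act 2 n485
theorem D963 : act 2 n485 = n963 := rfl
theorem F1681 : act 0 n963 = n578 := d1_1 D963 F1082 F923
theorem F1682 : act 4 n963 = n492 := d12_2 (iv F922) D963 (iv D492)
theorem F1683 : act 5 n963 = n576 := d13_2 F924 D963 (iv D576)
def n964 : Q := act 2 n486
theorem D964 : act 2 n486 = n964 := rfl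
theorem F1684 : act 0 n964 = n487 := d1_1 D964 (iv D487) D486
theorem F1685 : act 4 n964 = n493 := d12_2 (iv F927) D964 (iv D493)
theorem F1686 : act 6 n964 = n576 := d14_2 (iv F928) D964 (iv D576)
def n965 : Q := act 3 n487
theorem D965 : act 3 n487 = n965 := rfl
theorem F1687 : act 6 n965 = n577 := d17_2 (iv F930) D965 (iv D577)
def n966 : Q := act 5 n487
theorem D966 : act 5 n487 = n966 := rfl
theorem F1688 : act 2 n966 = n488 := d13_1 D966 (iv D488) D487
theorem F1689 : act 4 n966 = n495 := d18_1 D966 (iv D495) (iv F929)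
theorem F1690 : act 6 n966 = n963 := d22_1 D966 F1683 (iv F1686) F1684
def n967 : Q := act 2 n489
theorem D967 : act 2 n489 = n967 := rfl
theorem F1691 : act 0 n967 = n573 := d1_1 D967 F1068 F938
theorem F1692 : act 4 n967 = n496 := d12_2 (iv F936) D967 (iv D496)
theorem F1693 : act 5 n967 = n962 := d13_2 (iv F937) D967 F1679
theorem F1694 : act 6 n967 = n571 := d14_2 F939 D967 (iv D571)
def n968 : Q := act 4 n490
theorem D968 : act 4 n490 = n968 := rfl
theorem F1695 : act 2 n968 = n583 := d12_1 D968 (iv D583) (iv F941)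
theorem F1696 : act 5 n968 = n583 := d18_2 (iv F940) D968 (iv D583)
def n969 : Q := act 6 n490
theorem D969 : act 6 n490 = n969 := rfl
theorem F1697 : act 2 n969 = n584 := d14_1 D969 (iv D584) (iv F941)
theorem F1698 : act 3 n969 = n491 := d17_1 D969 (iv D491) D490
def n970 : Q := act 1 n491
theorem D970 : act 1 n491 = n970 := rfl
def n971 : Q := act 3 n492
theorem D971 : act 3 n492 = n971 := rfl
theorem F1699 : act 0 n971 = n592 := d2_1 D971 F1101 (iv F943)
theorem F1700 : act 5 n971 = n589 := d16_2 (iv F944) D971 (iv D589)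
def n972 : Q := act 1 n493
theorem D972 : act 1 n493 = n972 := rfl
def n973 : Q := act 3 n493
theorem D973 : act 3 n493 = n973 := rfl
theorem F1702 : act 0 n973 = n494 := d2_1 D973 (iv D494) (iv F945)
theorem F1703 : act 6 n973 = n589 := d17_2 (iv F946) D973 (iv D589)
def n974 : Q := act 2 n494
theorem D974 : act 2 n494 = n974 := rfl
def n975 : Q := act 4 n494
theorem D975 : act 4 n494 = n975 := rfl
theorem F1705 : act 6 n975 = n591 := d19_2 (iv F947) D975 (iv D591)
def n976 : Q := act 5 n494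
theorem D976 : act 5 n494 = n976 := rfl
theorem F1706 : act 3 n976 = n495 := d16_1 D976 (iv D495) D494
theorem F1707 : act 6 n976 = n971 := d22_1 D976 F1700 (iv F1703) F1702
def n977 : Q := act 1 n495
theorem D977 : act 1 n495 = n977 := rfl
theorem F1708 : act 2 n977 = n970 := d6_2 (iv F948) D977 (iv D970) F942 (iv F510)
def n978 : Q := act 3 n496
theorem D978 : act 3 n496 = n978 := rfl
theorem F1709 : act 0 n978 = n584 := d2_1 D978 F1093 (iv F950)
theorem F1710 : act 5 n978 = n969 := d16_2 (iv F951) D978 F1698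
theorem F1711 : act 6 n978 = n582 := d17_2 (iv F952) D978 (iv D582)
def n979 : Q := act 2 n497
theorem D979 : act 2 n497 = n979 := rfl
theorem F1713 : act 5 n979 = n598 := d13_2 (iv F954) D979 (iv D598)
theorem F1714 : act 6 n979 = n864 := d14_2 (iv F955) D979 (iv D864)
def n980 : Q := act 4 n497
theorem D980 : act 4 n497 = n980 := rfl
theorem F1715 : act 0 n980 = n604 := d3_1 D980 F1123 (iv F953)
theorem F1718 : act 6 n980 = n858 := d19_2 (iv F955) D980 F1539
def n981 : Q := act 2 n498
theorem D981 : act 2 n498 = n981 := rfl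
theorem F1720 : act 6 n981 = n598 := d14_2 (iv F958) D981 (iv D598)
theorem F1721 : act 3 n981 = n974 := d21_1 D981 (iv D974) (iv D494) (iv D251) F243 D124 D256 (iv F956)
def n986 : Q := act 3 n501
theorem D986 : act 3 n501 = n986 := rfl
theorem F1731 : act 0 n986 = n986 := d2_1 D986 (iv D986) F962
def n987 : Q := act 4 n501
theorem D987 : act 4 n501 = n987 := rfl
theorem F1732 : act 0 n987 = n987 := d3_1 D987 (iv D987) F962
theorem F1733 : act 2 n987 = n503 := d12_1 D987 (iv D503) D501
def n988 : Q := act 5 n501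
theorem D988 : act 5 n501 = n988 := rfl
theorem F1734 : act 0 n988 = n988 := d4_1 D988 (iv D988) F962
theorem F1735 : act 2 n988 = n504 := d13_1 D988 (iv D504) D501
def n989 : Q := act 6 n501
theorem D989 : act 6 n501 = n989 := rfl
theorem F1737 : act 2 n989 = n505 := d14_1 D989 (iv D505) D501
def n990 : Q := act 2 n502
theorem D990 : act 2 n502 = n990 := rfl
theorem F1738 : act 0 n990 = n990 := d1_1 D990 (iv D990) F963
theorem F1739 : act 1 n990 = n990 := d6_1 D990 (iv D990) F964 F526 (iv F964)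
def n991 : Q := act 4 n502
theorem D991 : act 4 n502 = n991 := rfl
theorem F1740 : act 0 n991 = n991 := d3_1 D991 (iv D991) F963
theorem F1741 : act 1 n991 = n506 := d8_1 D991 (iv D506) (iv F964)
def n992 : Q := act 5 n502
theorem D992 : act 5 n502 = n992 := rfl
def n993 : Q := act 6 n502
theorem D993 : act 6 n502 = n993 := rfl
theorem F1745 : act 3 n993 = n505 := d17_1 D993 (iv D505) D502
def n994 : Q := act 3 n503
theorem D994 : act 3 n503 = n994 := rfl
theorem F1746 : act 0 n994 = n994 := d2_1 D994 (iv D994) F965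
theorem F1747 : act 1 n994 = n509 := d7_1 D994 (iv D509) (iv F966)
def n995 : Q := act 5 n503
theorem D995 : act 5 n503 = n995 := rfl
theorem F1749 : act 4 n995 = n504 := d18_1 D995 (iv D504) D503
def n996 : Q := act 6 n503
theorem D996 : act 6 n503 = n996 := rfl
theorem F1751 : act 4 n996 = n505 := d19_1 D996 (iv D505) D503
def n997 : Q := act 1 n504
theorem D997 : act 1 n504 = n997 := rfl
theorem F1752 : act 5 n997 = n512 := d9_2 D504 D997 (iv D512) (iv D260) D257
def n998 : Q := act 6 n504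
theorem D998 : act 6 n504 = n998 := rfl
theorem F1754 : act 5 n998 = n505 := d22_2 D504 D998 (iv D505) F524
def n999 : Q := act 1 n505
theorem D999 : act 1 n505 = n999 := rfl
theorem F1755 : act 6 n999 = n513 := d10_2 D505 D999 (iv D513) (iv D261) D257
def n1000 : Q := act 3 n506
theorem D1000 : act 3 n506 = n1000 := rfl
theorem F1756 : act 0 n1000 = n514 := d2_1 D1000 (iv D514) (iv F969)
theorem F1757 : act 4 n1000 = n509 := d15_2 D506 D1000 (iv D509) (iv D259) D258
def n1001 : Q := act 5 n506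
theorem D1001 : act 5 n506 = n1001 := rfl
theorem F1758 : act 0 n1001 = n515 := d4_1 D1001 (iv D515) (iv F969)
theorem F1759 : act 2 n1001 = n1001 := d13_1 D1001 (iv D1001) F970
theorem F1760 : act 4 n1001 = n507 := d18_1 D1001 (iv D507) D506
def n1002 : Q := act 6 n506
theorem D1002 : act 6 n506 = n1002 := rfl
theorem F1761 : act 0 n1002 = n516 := d5_1 D1002 (iv D516) (iv F969)
theorem F1762 : act 2 n1002 = n1002 := d14_1 D1002 (iv D1002) F970
theorem F1763 : act 4 n1002 = n508 := d19_1 D1002 (iv D508) D506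
def n1003 : Q := act 1 n507
theorem D1003 : act 1 n507 = n1003 := rfl
def n1004 : Q := act 1 n508
theorem D1004 : act 1 n508 = n1004 := rfl
def n1005 : Q := act 2 n509
theorem D1005 : act 2 n509 = n1005 := rfl
theorem F1766 : act 0 n1005 = n521 := d1_1 D1005 (iv D521) (iv F977)
def n1006 : Q := act 5 n509
theorem D1006 : act 5 n509 = n1006 := rfl
theorem F1767 : act 0 n1006 = n522 := d4_1 D1006 (iv D522) (iv F977)
theorem F1768 : act 3 n1006 = n510 := d16_1 D1006 (iv D510) D509
def n1007 : Q := act 6 n509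
theorem D1007 : act 6 n509 = n1007 := rfl
theorem F1769 : act 0 n1007 = n523 := d5_1 D1007 (iv D523) (iv F977)
theorem F1770 : act 3 n1007 = n511 := d17_1 D1007 (iv D511) D509
def n1008 : Q := act 1 n510
theorem D1008 : act 1 n510 = n1008 := rfl
def n1009 : Q := act 1 n511
theorem D1009 : act 1 n511 = n1009 := rfl
theorem F1772 : act 4 n1009 = n513 := d8_2 (iv F981) D1009 (iv D513)
def n1010 : Q := act 0 n512
theorem D1010 : act 0 n512 = n1010 := rfl
def n1011 : Q := act 2 n512
theorem D1011 : act 2 n512 = n1011 := rfl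
def n1012 : Q := act 6 n512
theorem D1012 : act 6 n512 = n1012 := rfl
def n1013 : Q := act 0 n513
theorem D1013 : act 0 n513 = n1013 := rfl
def n1014 : Q := act 2 n513
theorem D1014 : act 2 n513 = n1014 := rfl
def n1015 : Q := act 5 n513
theorem D1015 : act 5 n513 = n1015 := rfl
def n1016 : Q := act 2 n514
theorem D1016 : act 2 n514 = n1016 := rfl
theorem F1773 : act 4 n1016 = n521 := d12_2 (iv F983) D1016 (iv D521)
def n1017 : Q := act 5 n514
theorem D1017 : act 5 n514 = n1017 := rfl
theorem F1774 : act 3 n1017 = n515 := d16_1 D1017 (iv D515) D514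
theorem F1775 : act 4 n1017 = n522 := d18_1 D1017 (iv D522) (iv F983)
def n1018 : Q := act 6 n514
theorem D1018 : act 6 n514 = n1018 := rfl
theorem F1776 : act 3 n1018 = n516 := d17_1 D1018 (iv D516) D514
theorem F1777 : act 4 n1018 = n523 := d19_1 D1018 (iv D523) (iv F983)
def n1019 : Q := act 1 n515
theorem D1019 : act 1 n515 = n1019 := rfl
theorem F1778 : act 4 n1019 = n517 := d8_2 (iv F985) D1019 (iv D517)
theorem F1779 : act 5 n1019 = n539 := d9_2 D515 D1019 (iv D539) (iv D273) (iv F530)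
def n1020 : Q := act 6 n515
theorem D1020 : act 6 n515 = n1020 := rfl
theorem F1780 : act 2 n1020 = n1020 := d14_1 D1020 (iv D1020) F984
theorem F1781 : act 4 n1020 = n518 := d19_1 D1020 (iv D518) (iv F985)
theorem F1782 : act 5 n1020 = n1002 := d22_2 D515 D1020 (iv D1002) F969
def n1021 : Q := act 1 n516
theorem D1021 : act 1 n516 = n1021 := rfl
theorem F1783 : act 4 n1021 = n519 := d8_2 (iv F987) D1021 (iv D519)
theorem F1784 : act 6 n1021 = n540 := d10_2 D516 D1021 (iv D540) (iv D274) (iv F530)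
def n1022 : Q := act 5 n516
theorem D1022 : act 5 n516 = n1022 := rfl
theorem F1785 : act 0 n1022 = n1020 := d4_1 D1022 F1782 F1761
theorem F1786 : act 2 n1022 = n1022 := d13_1 D1022 (iv D1022) F986
theorem F1787 : act 4 n1022 = n520 := d18_1 D1022 (iv D520) (iv F987)
theorem F1788 : act 6 n1022 = n1001 := d20_2 D516 D1022 (iv D1001) D1002 (iv F1782) (iv D1020) (iv D515)
def n1023 : Q := act 0 n517
theorem D1023 : act 0 n517 = n1023 := rfl
theorem F1789 : act 3 n1023 = n528 := d2_2 (iv F988) D1023 (iv D528)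
theorem F1790 : act 5 n1023 = n541 := d4_2 (iv F989) D1023 (iv D541)
def n1024 : Q := act 2 n517
theorem D1024 : act 2 n517 = n1024 := rfl
theorem F1791 : act 1 n1024 = n1024 := d6_1 D1024 (iv D1024) (iv D517) F532 D517
theorem F1792 : act 5 n1024 = n542 := d13_2 (iv F989) D1024 (iv D542)
def n1025 : Q := act 6 n517
theorem D1025 : act 6 n517 = n1025 := rfl
def n1026 : Q := act 1 n518
theorem D1026 : act 1 n518 = n1026 := rfl
theorem F1794 : act 3 n1026 = n531 := d7_2 (iv F991) D1026 (iv D531)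
def n1027 : Q := act 0 n519
theorem D1027 : act 0 n519 = n1027 := rfl
theorem F1795 : act 3 n1027 = n532 := d2_2 (iv F993) D1027 (iv D532)
theorem F1796 : act 6 n1027 = n544 := d5_2 (iv F994) D1027 (iv D544)
def n1028 : Q := act 2 n519
theorem D1028 : act 2 n519 = n1028 := rfl
theorem F1797 : act 1 n1028 = n1028 := d6_1 D1028 (iv D1028) (iv D519) F534 D519
theorem F1798 : act 6 n1028 = n545 := d14_2 (iv F994) D1028 (iv D545)
def n1029 : Q := act 5 n519
theorem D1029 : act 5 n519 = n1029 := rfl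
def n1030 : Q := act 1 n520
theorem D1030 : act 1 n520 = n1030 := rfl
theorem F1800 : act 3 n1030 = n535 := d7_2 (iv F997) D1030 (iv D535)
def n1031 : Q := act 1 n521
theorem D1031 : act 1 n521 = n1031 := rfl
theorem F1801 : act 2 n1031 = n547 := d6_2 D521 D1031 (iv D547) (iv D277) (iv F536)
def n1032 : Q := act 3 n521
theorem D1032 : act 3 n521 = n1032 := rfl
def n1033 : Q := act 5 n521
theorem D1033 : act 5 n521 = n1033 := rfl
theorem F1802 : act 2 n1033 = n522 := d13_1 D1033 (iv D522) D521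
def n1034 : Q := act 6 n521
theorem D1034 : act 6 n521 = n1034 := rfl
theorem F1803 : act 2 n1034 = n523 := d14_1 D1034 (iv D523) D521
def n1035 : Q := act 1 n522
theorem D1035 : act 1 n522 = n1035 := rfl
theorem F1804 : act 3 n1035 = n524 := d7_2 (iv F999) D1035 (iv D524)
theorem F1805 : act 5 n1035 = n550 := d9_2 D522 D1035 (iv D550) (iv D278) (iv F536)
def n1036 : Q := act 6 n522
theorem D1036 : act 6 n522 = n1036 := rfl
theorem F1806 : act 3 n1036 = n525 := d17_1 D1036 (iv D525) (iv F999)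
theorem F1807 : act 5 n1036 = n1007 := d22_2 D522 D1036 (iv D1007) F977
def n1037 : Q := act 1 n523
theorem D1037 : act 1 n523 = n1037 := rfl
theorem F1808 : act 3 n1037 = n526 := d7_2 (iv F1000) D1037 (iv D526)
theorem F1809 : act 6 n1037 = n551 := d10_2 D523 D1037 (iv D551) (iv D279) (iv F536)
def n1038 : Q := act 5 n523
theorem D1038 : act 5 n523 = n1038 := rfl
theorem F1810 : act 0 n1038 = n1036 := d4_1 D1038 F1807 F1769
theorem F1811 : act 3 n1038 = n527 := d16_1 D1038 (iv D527) (iv F1000)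
theorem F1812 : act 6 n1038 = n1006 := d20_2 D523 D1038 (iv D1006) D1007 (iv F1807) (iv D1036) (iv D522)
def n1039 : Q := act 0 n524
theorem D1039 : act 0 n524 = n1039 := rfl
theorem F1813 : act 4 n1039 = n528 := d3_2 (iv F1001) D1039 (iv D528)
theorem F1814 : act 5 n1039 = n552 := d4_2 (iv F1002) D1039 (iv D552)
def n1040 : Q := act 2 n524
theorem D1040 : act 2 n524 = n1040 := rfl
theorem F1815 : act 4 n1040 = n529 := d12_2 (iv F1001) D1040 (iv D529)
theorem F1816 : act 5 n1040 = n553 := d13_2 (iv F1002) D1040 (iv D553)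
def n1041 : Q := act 6 n524
theorem D1041 : act 6 n524 = n1041 := rfl
def n1042 : Q := act 1 n525
theorem D1042 : act 1 n525 = n1042 := rfl
theorem F1818 : act 4 n1042 = n531 := d8_2 (iv F1003) D1042 (iv D531)
def n1043 : Q := act 0 n526
theorem D1043 : act 0 n526 = n1043 := rfl
theorem F1819 : act 4 n1043 = n532 := d3_2 (iv F1005) D1043 (iv D532)
theorem F1820 : act 6 n1043 = n555 := d5_2 (iv F1006) D1043 (iv D555)
def n1044 : Q := act 2 n526
theorem D1044 : act 2 n526 = n1044 := rfl
theorem F1821 : act 4 n1044 = n533 := d12_2 (iv F1005) D1044 (iv D533)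
theorem F1822 : act 6 n1044 = n556 := d14_2 (iv F1006) D1044 (iv D556)
def n1045 : Q := act 5 n526
theorem D1045 : act 5 n526 = n1045 := rfl
def n1046 : Q := act 1 n527
theorem D1046 : act 1 n527 = n1046 := rfl
theorem F1824 : act 4 n1046 = n535 := d8_2 (iv F1008) D1046 (iv D535)
def n1047 : Q := act 1 n528
theorem D1047 : act 1 n528 = n1047 := rfl
def n1048 : Q := act 2 n528
theorem D1048 : act 2 n528 = n1048 := rfl
theorem F1825 : act 0 n1048 = n529 := d1_1 D1048 (iv D529) D528
theorem F1826 : act 5 n1048 = n559 := d13_2 (iv F1010) D1048 (iv D559)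
theorem F1827 : act 1 n1048 = n1048 := d23_2 (iv F1010) D1048 F1825 F1011 (iv D283) (iv D138) F129 (iv D34) (iv D15) F29 F23 F24 F26 (iv F29) (iv F42) D28 (iv F130) D138 D282
theorem F1828 : act 2 n1047 = n1047 := d6_2 (iv D1048) D1047 (iv D1047) D1048 F1827
def n1049 : Q := act 3 n529
theorem D1049 : act 3 n529 = n1049 := rfl
theorem F1829 : act 5 n1049 = n561 := d16_2 (iv F1011) D1049 (iv D561)
def n1050 : Q := act 6 n529
theorem D1050 : act 6 n529 = n1050 := rfl
theorem F1830 : act 2 n1050 = n530 := d14_1 D1050 (iv D530) D529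
def n1051 : Q := act 1 n530
theorem D1051 : act 1 n530 = n1051 := rfl
theorem F1831 : act 6 n1051 = n531 := d10_2 D530 D1051 (iv D531) (iv D269) D268
def n1052 : Q := act 0 n531
theorem D1052 : act 0 n531 = n1052 := rfl
def n1053 : Q := act 2 n531
theorem D1053 : act 2 n531 = n1053 := rfl
def n1054 : Q := act 5 n531
theorem D1054 : act 5 n531 = n1054 := rfl
theorem F1832 : act 1 n1054 = n1015 := d9_1 D1054 (iv D1015) (iv D513) (iv F540) D531
def n1055 : Q := act 1 n532
theorem D1055 : act 1 n532 = n1055 := rfl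
def n1056 : Q := act 2 n532
theorem D1056 : act 2 n532 = n1056 := rfl
theorem F1833 : act 0 n1056 = n533 := d1_1 D1056 (iv D533) D532
theorem F1834 : act 6 n1056 = n565 := d14_2 (iv F1012) D1056 (iv D565)
def n1057 : Q := act 3 n533
theorem D1057 : act 3 n533 = n1057 := rfl
theorem F1835 : act 6 n1057 = n567 := d17_2 (iv F1013) D1057 (iv D567)
def n1058 : Q := act 5 n533
theorem D1058 : act 5 n533 = n1058 := rfl
theorem F1836 : act 2 n1058 = n534 := d13_1 D1058 (iv D534) D533
def n1059 : Q := act 1 n534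
theorem D1059 : act 1 n534 = n1059 := rfl
theorem F1837 : act 5 n1059 = n535 := d9_2 D534 D1059 (iv D535) (iv D271) D270
def n1060 : Q := act 0 n535
theorem D1060 : act 0 n535 = n1060 := rfl
def n1061 : Q := act 2 n535
theorem D1061 : act 2 n535 = n1061 := rfl
def n1062 : Q := act 6 n535
theorem D1062 : act 6 n535 = n1062 := rfl
theorem F1838 : act 1 n1062 = n1012 := d10_1 D1062 (iv D1012) (iv D512) (iv F543) D535
def n1063 : Q := act 1 n536
theorem D1063 : act 1 n536 = n1063 := rfl
theorem F1839 : act 4 n1063 = n547 := d8_2 (iv F1015) D1063 (iv D547)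
def n1064 : Q := act 3 n536
theorem D1064 : act 3 n536 = n1064 := rfl
theorem F1840 : act 0 n1064 = n611 := d2_1 D1064 (iv D611) (iv F1014)
theorem F1841 : act 2 n1064 = n1064 := d11_1 D1064 (iv D1064) (iv D536) (iv D272) F268 D156 D312 D611 F1137 (iv D611) (iv D312) (iv D156) (iv F268) D272 D536
theorem F1842 : act 4 n1064 = n611 := d15_2 (iv F1015) D1064 (iv D611) F611 (iv F555)
def n1065 : Q := act 5 n536
theorem D1065 : act 5 n536 = n1065 := rfl
theorem F1843 : act 0 n1065 = n612 := d4_1 D1065 (iv D612) (iv F1014)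
theorem F1844 : act 2 n1065 = n537 := d13_1 D1065 (iv D537) D536
theorem F1845 : act 4 n1065 = n548 := d18_1 D1065 (iv D548) (iv F1015)
def n1066 : Q := act 6 n536
theorem D1066 : act 6 n536 = n1066 := rfl
theorem F1846 : act 0 n1066 = n613 := d5_1 D1066 (iv D613) (iv F1014)
theorem F1847 : act 2 n1066 = n538 := d14_1 D1066 (iv D538) D536
theorem F1848 : act 4 n1066 = n549 := d19_1 D1066 (iv D549) (iv F1015)
def n1067 : Q := act 1 n537
theorem D1067 : act 1 n537 = n1067 := rfl
theorem F1849 : act 3 n1067 = n539 := d7_2 (iv F1017) D1067 (iv D539)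
theorem F1850 : act 4 n1067 = n550 := d8_2 (iv F1018) D1067 (iv D550)
def n1068 : Q := act 1 n538
theorem D1068 : act 1 n538 = n1068 := rfl
theorem F1851 : act 3 n1068 = n540 := d7_2 (iv F1020) D1068 (iv D540)
theorem F1852 : act 4 n1068 = n551 := d8_2 (iv F1021) D1068 (iv D551)
def n1069 : Q := act 0 n539
theorem D1069 : act 0 n539 = n1069 := rfl
theorem F1853 : act 4 n1069 = n541 := d3_2 (iv F1022) D1069 (iv D541)
def n1070 : Q := act 2 n539
theorem D1070 : act 2 n539 = n1070 := rfl
theorem F1854 : act 1 n1070 = n619 := d6_1 D1070 (iv D619) (iv D315) (iv F547) D539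
theorem F1855 : act 4 n1070 = n542 := d12_2 (iv F1022) D1070 (iv D542)
def n1071 : Q := act 6 n539
theorem D1071 : act 6 n539 = n1071 := rfl
theorem F1856 : act 4 n1071 = n543 := d19_1 D1071 (iv D543) (iv F1022)
def n1072 : Q := act 0 n540
theorem D1072 : act 0 n540 = n1072 := rfl
theorem F1857 : act 4 n1072 = n544 := d3_2 (iv F1023) D1072 (iv D544)
def n1073 : Q := act 2 n540
theorem D1073 : act 2 n540 = n1073 := rfl
theorem F1858 : act 1 n1073 = n623 := d6_1 D1073 (iv D623) (iv D317) (iv F550) D540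
theorem F1859 : act 4 n1073 = n545 := d12_2 (iv F1023) D1073 (iv D545)
def n1074 : Q := act 5 n540
theorem D1074 : act 5 n540 = n1074 := rfl
theorem F1860 : act 4 n1074 = n546 := d18_1 D1074 (iv D546) (iv F1023)
def n1075 : Q := act 1 n541
theorem D1075 : act 1 n541 = n1075 := rfl
theorem F1861 : act 3 n1075 = n558 := d7_2 (iv F1024) D1075 (iv D558)
def n1076 : Q := act 2 n541
theorem D1076 : act 2 n541 = n1076 := rfl
theorem F1862 : act 0 n1076 = n542 := d1_1 D1076 (iv D542) D541
def n1077 : Q := act 6 n541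
theorem D1077 : act 6 n541 = n1077 := rfl
theorem F1863 : act 0 n1077 = n543 := d5_1 D1077 (iv D543) D541
theorem F1864 : act 3 n1077 = n560 := d17_1 D1077 (iv D560) (iv F1024)
theorem F1865 : act 5 n1077 = n1025 := d22_2 F1790 D1077 (iv D1025) D1023
def n1078 : Q := act 3 n542
theorem D1078 : act 3 n542 = n1078 := rfl
theorem F1866 : act 1 n1078 = n629 := d7_1 D1078 (iv D629) (iv F1025)
def n1079 : Q := act 6 n542
theorem D1079 : act 6 n542 = n1079 := rfl
theorem F1867 : act 2 n1079 = n543 := d14_1 D1079 (iv D543) D542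
def n1080 : Q := act 5 n543
theorem D1080 : act 5 n543 = n1080 := rfl
theorem F1868 : act 0 n1080 = n1025 := d4_1 D1080 (iv F1865) F1863
theorem F1869 : act 3 n1080 = n563 := d16_1 D1080 (iv D563) (iv F1026)
def n1081 : Q := act 1 n544
theorem D1081 : act 1 n544 = n1081 := rfl
theorem F1871 : act 3 n1081 = n564 := d7_2 (iv F1027) D1081 (iv D564)
def n1082 : Q := act 2 n544
theorem D1082 : act 2 n544 = n1082 := rfl
theorem F1872 : act 0 n1082 = n545 := d1_1 D1082 (iv D545) D544
def n1083 : Q := act 5 n544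
theorem D1083 : act 5 n544 = n1083 := rfl
theorem F1873 : act 0 n1083 = n546 := d4_1 D1083 (iv D546) D544
theorem F1874 : act 3 n1083 = n566 := d16_1 D1083 (iv D566) (iv F1027)
theorem F1875 : act 6 n1083 = n1029 := d22_1 D1083 (iv D1029) F994 D544
def n1084 : Q := act 3 n545
theorem D1084 : act 3 n545 = n1084 := rfl
theorem F1876 : act 1 n1084 = n638 := d7_1 D1084 (iv D638) (iv F1028)
def n1085 : Q := act 5 n545
theorem D1085 : act 5 n545 = n1085 := rfl
theorem F1877 : act 2 n1085 = n546 := d13_1 D1085 (iv D546) D545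
def n1086 : Q := act 6 n546
theorem D1086 : act 6 n546 = n1086 := rfl
theorem F1878 : act 0 n1086 = n1029 := d5_1 D1086 (iv F1875) F1873
theorem F1879 : act 3 n1086 = n569 := d17_1 D1086 (iv D569) (iv F1029)
def n1087 : Q := act 0 n547
theorem D1087 : act 0 n547 = n1087 := rfl
theorem F1881 : act 3 n1087 = n644 := d2_2 (iv F1030) D1087 (iv D644)
def n1088 : Q := act 5 n547
theorem D1088 : act 5 n547 = n1088 := rfl
theorem F1882 : act 3 n1088 = n645 := d16_1 D1088 (iv D645) (iv F1030)
def n1089 : Q := act 6 n547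
theorem D1089 : act 6 n547 = n1089 := rfl
theorem F1883 : act 3 n1089 = n646 := d17_1 D1089 (iv D646) (iv F1030)
def n1090 : Q := act 1 n548
theorem D1090 : act 1 n548 = n1090 := rfl
theorem F1884 : act 3 n1090 = n647 := d7_2 (iv F1033) D1090 (iv D647)
def n1091 : Q := act 1 n549
theorem D1091 : act 1 n549 = n1091 := rfl
theorem F1885 : act 3 n1091 = n649 := d7_2 (iv F1036) D1091 (iv D649)
def n1092 : Q := act 0 n550
theorem D1092 : act 0 n550 = n1092 := rfl
theorem F1886 : act 3 n1092 = n552 := d2_2 (iv F1037) D1092 (iv D552)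
def n1093 : Q := act 2 n550
theorem D1093 : act 2 n550 = n1093 := rfl
def n1094 : Q := act 6 n550
theorem D1094 : act 6 n550 = n1094 := rfl
theorem F1887 : act 3 n1094 = n554 := d17_1 D1094 (iv D554) (iv F1037)
def n1095 : Q := act 0 n551
theorem D1095 : act 0 n551 = n1095 := rfl
theorem F1888 : act 3 n1095 = n555 := d2_2 (iv F1038) D1095 (iv D555)
def n1096 : Q := act 2 n551
theorem D1096 : act 2 n551 = n1096 := rfl
def n1097 : Q := act 5 n551
theorem D1097 : act 5 n551 = n1097 := rfl
theorem F1889 : act 3 n1097 = n557 := d16_1 D1097 (iv D557) (iv F1038)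
def n1098 : Q := act 1 n552
theorem D1098 : act 1 n552 = n1098 := rfl
theorem F1890 : act 4 n1098 = n558 := d8_2 (iv F1039) D1098 (iv D558)
def n1099 : Q := act 2 n552
theorem D1099 : act 2 n552 = n1099 := rfl
theorem F1891 : act 0 n1099 = n553 := d1_1 D1099 (iv D553) D552
theorem F1892 : act 4 n1099 = n559 := d12_2 (iv F1039) D1099 (iv D559)
def n1100 : Q := act 6 n552
theorem D1100 : act 6 n552 = n1100 := rfl
theorem F1893 : act 0 n1100 = n554 := d5_1 D1100 (iv D554) D552
theorem F1894 : act 4 n1100 = n560 := d19_1 D1100 (iv D560) (iv F1039)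
theorem F1895 : act 5 n1100 = n1041 := d22_2 F1814 D1100 (iv D1041) D1039
def n1101 : Q := act 3 n553
theorem D1101 : act 3 n553 = n1101 := rfl
theorem F1896 : act 1 n1101 = n572 := d7_1 D1101 (iv D572) (iv F1040)
def n1102 : Q := act 6 n553
theorem D1102 : act 6 n553 = n1102 := rfl
theorem F1897 : act 2 n1102 = n554 := d14_1 D1102 (iv D554) D553
theorem F1898 : act 4 n1102 = n562 := d19_1 D1102 (iv D562) (iv F1041)
def n1103 : Q := act 5 n554
theorem D1103 : act 5 n554 = n1103 := rfl
theorem F1899 : act 0 n1103 = n1041 := d4_1 D1103 (iv F1895) F1893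
theorem F1900 : act 4 n1103 = n563 := d18_1 D1103 (iv D563) (iv F1042)
theorem F1901 : act 6 n1103 = n1039 := d20_2 D554 D1103 F1814 D1100 F1895 (iv D1041) F1002
def n1104 : Q := act 1 n555
theorem D1104 : act 1 n555 = n1104 := rfl
theorem F1902 : act 4 n1104 = n564 := d8_2 (iv F1043) D1104 (iv D564)
def n1105 : Q := act 2 n555
theorem D1105 : act 2 n555 = n1105 := rfl
theorem F1903 : act 0 n1105 = n556 := d1_1 D1105 (iv D556) D555
theorem F1904 : act 4 n1105 = n565 := d12_2 (iv F1043) D1105 (iv D565)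
def n1106 : Q := act 5 n555
theorem D1106 : act 5 n555 = n1106 := rfl
theorem F1905 : act 0 n1106 = n557 := d4_1 D1106 (iv D557) D555
theorem F1906 : act 4 n1106 = n566 := d18_1 D1106 (iv D566) (iv F1043)
theorem F1907 : act 6 n1106 = n1045 := d22_1 D1106 (iv D1045) F1006 D555
def n1107 : Q := act 3 n556
theorem D1107 : act 3 n556 = n1107 := rfl
theorem F1908 : act 1 n1107 = n577 := d7_1 D1107 (iv D577) (iv F1044)
def n1108 : Q := act 5 n556
theorem D1108 : act 5 n556 = n1108 := rfl
theorem F1909 : act 2 n1108 = n557 := d13_1 D1108 (iv D557) D556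
theorem F1910 : act 4 n1108 = n568 := d18_1 D1108 (iv D568) (iv F1045)
def n1109 : Q := act 6 n557
theorem D1109 : act 6 n557 = n1109 := rfl
theorem F1911 : act 0 n1109 = n1045 := d5_1 D1109 (iv F1907) F1905
theorem F1912 : act 4 n1109 = n569 := d19_1 D1109 (iv D569) (iv F1046)
def n1110 : Q := act 0 n558
theorem D1110 : act 0 n558 = n1110 := rfl
theorem F1914 : act 1 n1110 = n671 := d0_2 D558 D1110 (iv D671) (iv D340) (iv D170) (iv D78) (iv F129) D138 D282
def n1111 : Q := act 2 n558
theorem D1111 : act 2 n558 = n1111 := rfl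
def n1112 : Q := act 5 n558
theorem D1112 : act 5 n558 = n1112 := rfl
def n1113 : Q := act 6 n558
theorem D1113 : act 6 n558 = n1113 := rfl
def n1114 : Q := act 1 n559
theorem D1114 : act 1 n559 = n1114 := rfl
theorem F1915 : act 5 n1114 = n1114 := d9_2 F1826 D1114 (iv D1114) (iv F1826) F1827
def n1115 : Q := act 3 n559
theorem D1115 : act 3 n559 = n1115 := rfl
theorem F1916 : act 0 n1115 = n561 := d2_1 D1115 (iv D561) (iv F1047)
def n1116 : Q := act 6 n559
theorem D1116 : act 6 n559 = n1116 := rfl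
theorem F1917 : act 0 n1116 = n562 := d5_1 D1116 (iv D562) (iv F1047)
theorem F1918 : act 2 n1116 = n560 := d14_1 D1116 (iv D560) D559
theorem F1919 : act 5 n1116 = n1050 := d22_2 F1826 D1116 (iv D1050) (iv F1825)
def n1117 : Q := act 1 n560
theorem D1117 : act 1 n560 = n1117 := rfl
def n1118 : Q := act 2 n561
theorem D1118 : act 2 n561 = n1118 := rfl
def n1119 : Q := act 4 n561
theorem D1119 : act 4 n561 = n1119 := rfl
theorem F1920 : act 1 n1119 = n583 := d8_1 D1119 (iv D583) (iv F1050)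
def n1120 : Q := act 6 n561
theorem D1120 : act 6 n561 = n1120 := rfl
theorem F1921 : act 3 n1120 = n562 := d17_1 D1120 (iv D562) D561
def n1121 : Q := act 1 n562
theorem D1121 : act 1 n562 = n1121 := rfl
theorem F1922 : act 6 n1121 = n585 := d10_2 D562 D1121 (iv D585) (iv D297) (iv F562)
def n1122 : Q := act 5 n562
theorem D1122 : act 5 n562 = n1122 := rfl
theorem F1924 : act 2 n1122 = n563 := d13_1 D1122 (iv D563) (iv F1051)
def n1123 : Q := act 1 n563
theorem D1123 : act 1 n563 = n1123 := rfl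
def n1124 : Q := act 0 n564
theorem D1124 : act 0 n564 = n1124 := rfl
theorem F1926 : act 1 n1124 = n685 := d0_2 D564 D1124 (iv D685) (iv D346) (iv D173) (iv D80) (iv F131) D139 D285
def n1125 : Q := act 2 n564
theorem D1125 : act 2 n564 = n1125 := rfl
def n1126 : Q := act 5 n564
theorem D1126 : act 5 n564 = n1126 := rfl
def n1127 : Q := act 6 n564
theorem D1127 : act 6 n564 = n1127 := rfl
def n1128 : Q := act 1 n565
theorem D1128 : act 1 n565 = n1128 := rfl
def n1129 : Q := act 3 n565
theorem D1129 : act 3 n565 = n1129 := rfl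
theorem F1927 : act 0 n1129 = n567 := d2_1 D1129 (iv D567) (iv F1054)
def n1130 : Q := act 5 n565
theorem D1130 : act 5 n565 = n1130 := rfl
theorem F1928 : act 0 n1130 = n568 := d4_1 D1130 (iv D568) (iv F1054)
theorem F1929 : act 2 n1130 = n566 := d13_1 D1130 (iv D566) D565
theorem F1930 : act 6 n1130 = n1058 := d22_1 D1130 (iv D1058) F1013 (iv F1054)
def n1131 : Q := act 1 n566
theorem D1131 : act 1 n566 = n1131 := rfl
def n1132 : Q := act 2 n567
theorem D1132 : act 2 n567 = n1132 := rfl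
def n1133 : Q := act 4 n567
theorem D1133 : act 4 n567 = n1133 := rfl
theorem F1931 : act 1 n1133 = n591 := d8_1 D1133 (iv D591) (iv F1057)
def n1134 : Q := act 5 n567
theorem D1134 : act 5 n567 = n1134 := rfl
theorem F1932 : act 3 n1134 = n568 := d16_1 D1134 (iv D568) D567
def n1135 : Q := act 1 n568
theorem D1135 : act 1 n568 = n1135 := rfl
theorem F1933 : act 5 n1135 = n593 := d9_2 D568 D1135 (iv D593) (iv D302) (iv F563)
def n1136 : Q := act 6 n568
theorem D1136 : act 6 n568 = n1136 := rfl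
theorem F1935 : act 2 n1136 = n569 := d14_1 D1136 (iv D569) (iv F1058)
theorem F1936 : act 5 n1136 = n1056 := d20_1 D1136 F1834 D1130 F1930 (iv D1058) F1013 D568
def n1137 : Q := act 1 n569
theorem D1137 : act 1 n569 = n1137 := rfl
def n1138 : Q := act 2 n570
theorem D1138 : act 2 n570 = n1138 := rfl
theorem F1938 : act 4 n1138 = n580 := d12_2 (iv F1063) D1138 (iv D580)
theorem F1940 : act 6 n1138 = n810 := d14_2 (iv F1065) D1138 (iv D810)
def n1139 : Q := act 1 n571
theorem D1139 : act 1 n571 = n1139 := rfl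
theorem F1941 : act 4 n1139 = n581 := d8_2 (iv F1067) D1139 (iv D581)
def n1140 : Q := act 3 n571
theorem D1140 : act 3 n571 = n1140 := rfl
theorem F1942 : act 0 n1140 = n572 := d2_1 D1140 (iv D572) (iv F1066)
def n1141 : Q := act 2 n572
theorem D1141 : act 2 n572 = n1141 := rfl
def n1142 : Q := act 4 n572
theorem D1142 : act 4 n572 = n1142 := rfl
theorem F1943 : act 3 n1142 = n583 := d15_1 D1142 (iv D583) (iv D296) (iv F566) D572
def n1143 : Q := act 6 n572
theorem D1143 : act 6 n572 = n1143 := rfl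
theorem F1944 : act 3 n1143 = n573 := d17_1 D1143 (iv D573) D572
def n1144 : Q := act 1 n573
theorem D1144 : act 1 n573 = n1144 := rfl
theorem F1945 : act 4 n1144 = n585 := d8_2 (iv F1069) D1144 (iv D585)
def n1145 : Q := act 5 n573
theorem D1145 : act 5 n573 = n1145 := rfl
theorem F1946 : act 0 n1145 = n962 := d4_1 D1145 (iv F1693) F1691
theorem F1947 : act 2 n1145 = n574 := d13_1 D1145 (iv D574) (iv F1068)
theorem F1948 : act 4 n1145 = n586 := d18_1 D1145 (iv D586) (iv F1069)
theorem F1949 : act 6 n1145 = n597 := d20_2 D573 D1145 F1111 (iv F1694) F1693 (iv D962) F918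
def n1146 : Q := act 2 n575
theorem D1146 : act 2 n575 = n1146 := rfl
theorem F1951 : act 4 n1146 = n587 := d12_2 (iv F1077) D1146 (iv D587)
theorem F1952 : act 5 n1146 = n811 := d13_2 (iv F1078) D1146 (iv D811)
def n1147 : Q := act 1 n576
theorem D1147 : act 1 n576 = n1147 := rfl
theorem F1954 : act 4 n1147 = n588 := d8_2 (iv F1081) D1147 (iv D588)
def n1148 : Q := act 3 n576
theorem D1148 : act 3 n576 = n1148 := rfl
theorem F1955 : act 0 n1148 = n577 := d2_1 D1148 (iv D577) (iv F1080)
def n1149 : Q := act 2 n577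
theorem D1149 : act 2 n577 = n1149 := rfl
def n1150 : Q := act 4 n577
theorem D1150 : act 4 n577 = n1150 := rfl
theorem F1956 : act 3 n1150 = n591 := d15_1 D1150 (iv D591) (iv D301) (iv F571) D577
def n1151 : Q := act 5 n577
theorem D1151 : act 5 n577 = n1151 := rfl
theorem F1957 : act 3 n1151 = n578 := d16_1 D1151 (iv D578) D577
def n1152 : Q := act 1 n578
theorem D1152 : act 1 n578 = n1152 := rfl
theorem F1958 : act 4 n1152 = n593 := d8_2 (iv F1083) D1152 (iv D593)
def n1153 : Q := act 6 n578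
theorem D1153 : act 6 n578 = n1153 := rfl
theorem F1959 : act 0 n1153 = n966 := d5_1 D1153 F1690 F1681
theorem F1960 : act 2 n1153 = n579 := d14_1 D1153 (iv D579) (iv F1082)
theorem F1961 : act 4 n1153 = n594 := d19_1 D1153 (iv D594) (iv F1083)
def n1154 : Q := act 1 n580
theorem D1154 : act 1 n580 = n1154 := rfl
theorem F1963 : act 2 n1154 = n581 := d6_2 D580 D1154 (iv D581) (iv D295) D294
def n1156 : Q := act 0 n581
theorem D1156 : act 0 n581 = n1156 := rfl
def n1157 : Q := act 3 n581
theorem D1157 : act 3 n581 = n1157 := rfl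
theorem F1968 : act 1 n1157 = n582 := d7_1 D1157 (iv D582) D581
def n1158 : Q := act 5 n581
theorem D1158 : act 5 n581 = n1158 := rfl
def n1159 : Q := act 6 n581
theorem D1159 : act 6 n581 = n1159 := rfl
def n1160 : Q := act 4 n582
theorem D1160 : act 4 n582 = n1160 := rfl
theorem F1969 : act 0 n1160 = n583 := d3_1 D1160 (iv D583) (iv F1092)
def n1161 : Q := act 6 n583
theorem D1161 : act 6 n583 = n1161 := rfl
theorem F1970 : act 4 n1161 = n584 := d19_1 D1161 (iv D584) D583
def n1162 : Q := act 1 n584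
theorem D1162 : act 1 n584 = n1162 := rfl
theorem F1971 : act 3 n1162 = n585 := d7_2 (iv F1093) D1162 (iv D585)
def n1163 : Q := act 5 n584
theorem D1163 : act 5 n584 = n1163 := rfl
theorem F1972 : act 0 n1163 = n969 := d4_1 D1163 (iv F1710) F1709
theorem F1973 : act 2 n1163 = n978 := d13_1 D1163 F1710 F1697
theorem F1974 : act 3 n1163 = n586 := d16_1 D1163 (iv D586) (iv F1093)
theorem F1975 : act 6 n1163 = n596 := d20_2 D584 D1163 F1108 (iv F1711) F1710 (iv D969) F940
def n1164 : Q := act 0 n585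
theorem D1164 : act 0 n585 = n1164 := rfl
def n1165 : Q := act 5 n585
theorem D1165 : act 5 n585 = n1165 := rfl
def n1166 : Q := act 1 n586
theorem D1166 : act 1 n586 = n1166 := rfl
theorem F1976 : act 2 n1166 = n707 := d6_2 (iv F1095) D1166 (iv D707) (iv D358) F583
def n1167 : Q := act 1 n587
theorem D1167 : act 1 n587 = n1167 := rfl
theorem F1977 : act 2 n1167 = n588 := d6_2 D587 D1167 (iv D588) (iv D300) D299
def n1169 : Q := act 0 n588
theorem D1169 : act 0 n588 = n1169 := rfl
def n1170 : Q := act 3 n588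
theorem D1170 : act 3 n588 = n1170 := rfl
theorem F1982 : act 1 n1170 = n589 := d7_1 D1170 (iv D589) D588
def n1171 : Q := act 5 n588
theorem D1171 : act 5 n588 = n1171 := rfl
def n1172 : Q := act 6 n588
theorem D1172 : act 6 n588 = n1172 := rfl
def n1173 : Q := act 4 n589
theorem D1173 : act 4 n589 = n1173 := rfl
theorem F1983 : act 0 n1173 = n591 := d3_1 D1173 (iv D591) (iv F1100)
def n1174 : Q := act 1 n590
theorem D1174 : act 1 n590 = n1174 := rfl
def n1176 : Q := act 5 n590
theorem D1176 : act 5 n590 = n1176 := rfl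
theorem F1985 : act 2 n1176 = n592 := d13_1 D1176 (iv D592) D590
theorem F1986 : act 3 n1176 = n979 := d16_1 D1176 F1713 F1113
def n1177 : Q := act 5 n591
theorem D1177 : act 5 n591 = n1177 := rfl
theorem F1987 : act 4 n1177 = n592 := d18_1 D1177 (iv D592) D591
def n1178 : Q := act 1 n592
theorem D1178 : act 1 n592 = n1178 := rfl
theorem F1988 : act 3 n1178 = n593 := d7_2 (iv F1101) D1178 (iv D593)
def n1179 : Q := act 6 n592
theorem D1179 : act 6 n592 = n1179 := rfl
theorem F1989 : act 0 n1179 = n976 := d5_1 D1179 F1707 F1699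
theorem F1990 : act 3 n1179 = n594 := d17_1 D1179 (iv D594) (iv F1101)
theorem F1991 : act 5 n1179 = n973 := d20_1 D1179 F1703 (iv F1700) (iv F1707) (iv D976) F947 D592
def n1180 : Q := act 0 n593
theorem D1180 : act 0 n593 = n1180 := rfl
def n1181 : Q := act 6 n593
theorem D1181 : act 6 n593 = n1181 := rfl
def n1182 : Q := act 1 n594
theorem D1182 : act 1 n594 = n1182 := rfl
theorem F1992 : act 2 n1182 = n714 := d6_2 (iv F1103) D1182 (iv D714) (iv D362) F593
def n1183 : Q := act 0 n595
theorem D1183 : act 0 n595 = n1183 := rfl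
theorem F1994 : act 5 n1183 = n595 := d23_4 (iv F298) D304 D595 D1183 F1105 (iv D595) F594 F499 (iv D143) (iv D64) F73 (iv D17) D15 F49 (iv F70) D60 F130 D64 D142
theorem F1995 : act 1 n1158 = n1183 := d9_5 F1994 (iv D595) F595 D581 D1158
def n1184 : Q := act 3 n595
theorem D1184 : act 3 n595 = n1184 := rfl
theorem F1996 : act 1 n1184 = n596 := d7_1 D1184 (iv D596) D595
def n1185 : Q := act 4 n595
theorem D1185 : act 4 n595 = n1185 := rfl
theorem F1997 : act 1 n1185 = n597 := d8_1 D1185 (iv D597) D595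
theorem F1998 : act 2 n1185 = n1185 := d12_1 D1185 (iv D1185) F1105
def n1186 : Q := act 6 n595
theorem D1186 : act 6 n595 = n1186 := rfl
theorem F1999 : act 2 n1186 = n1186 := d14_1 D1186 (iv D1186) F1105
theorem F2000 : act 5 n1186 = n1186 := d22_2 F1994 D1186 (iv D1186) D1183
def n1187 : Q := act 4 n596
theorem D1187 : act 4 n596 = n1187 := rfl
theorem F2001 : act 0 n1187 = n968 := d3_1 D1187 (iv D968) (iv F1106)
theorem F2002 : act 2 n1187 = n1160 := d12_1 D1187 (iv D1160) (iv F1107)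
theorem F2003 : act 5 n1187 = n1160 := d18_2 (iv F1108) D1187 (iv D1160)
def n1188 : Q := act 3 n597
theorem D1188 : act 3 n597 = n1188 := rfl
theorem F2004 : act 0 n1188 = n961 := d2_1 D1188 (iv D961) (iv F1109)
theorem F2005 : act 5 n1188 = n1140 := d16_2 (iv F1111) D1188 (iv D1140)
def n1189 : Q := act 1 n598
theorem D1189 : act 1 n598 = n1189 := rfl
theorem F2006 : act 2 n1189 = n771 := d6_2 D598 D1189 (iv D771) F761 (iv F601)
theorem F2007 : act 3 n1189 = n1174 := d7_2 (iv F1113) D1189 (iv D1174)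
def n1191 : Q := act 0 n600
theorem D1191 : act 0 n600 = n1191 := rfl
def n1192 : Q := act 3 n600
theorem D1192 : act 3 n600 = n1192 := rfl
theorem F2011 : act 1 n1192 = n601 := d7_1 D1192 (iv D601) D600
def n1193 : Q := act 4 n600
theorem D1193 : act 4 n600 = n1193 := rfl
theorem F2012 : act 1 n1193 = n602 := d8_1 D1193 (iv D602) D600
theorem F2013 : act 2 n1193 = n1193 := d12_1 D1193 (iv D1193) F1117
def n1194 : Q := act 5 n600
theorem D1194 : act 5 n600 = n1194 := rfl
theorem F2014 : act 2 n1194 = n1194 := d13_1 D1194 (iv D1194) F1117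
def n1195 : Q := act 6 n600
theorem D1195 : act 6 n600 = n1195 := rfl
def n1196 : Q := act 4 n601
theorem D1196 : act 4 n601 = n1196 := rfl
theorem F2017 : act 2 n1196 = n1173 := d12_1 D1196 (iv D1173) (iv F1119)
def n1197 : Q := act 5 n601
theorem D1197 : act 5 n601 = n1197 := rfl
theorem F2019 : act 2 n1197 = n971 := d13_1 D1197 F1700 (iv F1119)
def n1198 : Q := act 3 n602
theorem D1198 : act 3 n602 = n1198 := rfl
def n1199 : Q := act 5 n602
theorem D1199 : act 5 n602 = n1199 := rfl
theorem F2021 : act 2 n1199 = n604 := d13_1 D1199 (iv D604) (iv F1120)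
def n1200 : Q := act 1 n603
theorem D1200 : act 1 n603 = n1200 := rfl
def n1201 : Q := act 6 n603
theorem D1201 : act 6 n603 = n1201 := rfl
theorem F2024 : act 2 n1201 = n606 := d14_1 D1201 (iv D606) (iv F1121)
theorem F2025 : act 5 n1201 = n981 := d20_1 D1201 F1720 (iv F1713) F1714 F1550 F959 D603
def n1209 : Q := act 0 n610
theorem D1209 : act 0 n610 = n1209 := rfl
theorem F2043 : act 2 n1209 = n1209 := d1_2 F1135 D1209 (iv D1209)
theorem F2044 : act 4 n1209 = n644 := d3_2 (iv F1136) D1209 (iv D644)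
def n1210 : Q := act 3 n610
theorem D1210 : act 3 n610 = n1210 := rfl
theorem F2045 : act 1 n1210 = n611 := d7_1 D1210 (iv D611) D610
def n1211 : Q := act 5 n610
theorem D1211 : act 5 n610 = n1211 := rfl
theorem F2046 : act 2 n1211 = n1211 := d13_1 D1211 (iv D1211) F1135
theorem F2047 : act 4 n1211 = n645 := d18_1 D1211 (iv D645) (iv F1136)
def n1212 : Q := act 6 n610
theorem D1212 : act 6 n610 = n1212 := rfl
theorem F2048 : act 2 n1212 = n1212 := d14_1 D1212 (iv D1212) F1135
theorem F2049 : act 4 n1212 = n646 := d19_1 D1212 (iv D646) (iv F1136)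
def n1213 : Q := act 5 n611
theorem D1213 : act 5 n611 = n1213 := rfl
theorem F2050 : act 2 n1213 = n1213 := d13_1 D1213 (iv D1213) F1137
theorem F2051 : act 3 n1213 = n612 := d16_1 D1213 (iv D612) D611
def n1214 : Q := act 6 n611
theorem D1214 : act 6 n611 = n1214 := rfl
theorem F2052 : act 2 n1214 = n1214 := d14_1 D1214 (iv D1214) F1137
theorem F2053 : act 3 n1214 = n613 := d17_1 D1214 (iv D613) D611
def n1215 : Q := act 1 n612
theorem D1215 : act 1 n612 = n1215 := rfl
theorem F2054 : act 4 n1215 = n647 := d8_2 (iv F1139) D1215 (iv D647)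
def n1216 : Q := act 6 n612
theorem D1216 : act 6 n612 = n1216 := rfl
theorem F2055 : act 2 n1216 = n615 := d14_1 D1216 (iv D615) (iv F1138)
theorem F2056 : act 4 n1216 = n648 := d19_1 D1216 (iv D648) (iv F1139)
theorem F2057 : act 5 n1216 = n1066 := d22_2 D612 D1216 (iv D1066) F1014
def n1217 : Q := act 1 n613
theorem D1217 : act 1 n613 = n1217 := rfl
theorem F2058 : act 4 n1217 = n649 := d8_2 (iv F1141) D1217 (iv D649)
def n1218 : Q := act 5 n613
theorem D1218 : act 5 n613 = n1218 := rfl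
theorem F2059 : act 0 n1218 = n1216 := d4_1 D1218 F2057 F1846
theorem F2060 : act 2 n1218 = n617 := d13_1 D1218 (iv D617) (iv F1140)
theorem F2061 : act 4 n1218 = n650 := d18_1 D1218 (iv D650) (iv F1141)
theorem F2062 : act 6 n1218 = n1065 := d20_2 D613 D1218 (iv D1065) D1066 (iv F2057) (iv D1216) (iv D612)
def n1219 : Q := act 0 n614
theorem D1219 : act 0 n614 = n1219 := rfl
theorem F2063 : act 3 n1219 = n618 := d2_2 (iv F1142) D1219 (iv D618)
theorem F2065 : act 5 n1219 = n1219 := d4_2 F1144 D1219 (iv D1219)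
def n1220 : Q := act 2 n614
theorem D1220 : act 2 n614 = n1220 := rfl
theorem F2066 : act 4 n1220 = n652 := d12_2 (iv F1143) D1220 (iv D652)
theorem F2067 : act 5 n1220 = n1220 := d13_2 F1144 D1220 (iv D1220)
def n1221 : Q := act 6 n614
theorem D1221 : act 6 n614 = n1221 := rfl
theorem F2069 : act 4 n1221 = n653 := d19_1 D1221 (iv D653) (iv F1143)
def n1222 : Q := act 1 n615
theorem D1222 : act 1 n615 = n1222 := rfl
theorem F2070 : act 3 n1222 = n621 := d7_2 (iv F1145) D1222 (iv D621)
theorem F2071 : act 4 n1222 = n654 := d8_2 (iv F1146) D1222 (iv D654)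
def n1223 : Q := act 0 n616
theorem D1223 : act 0 n616 = n1223 := rfl
theorem F2072 : act 3 n1223 = n622 := d2_2 (iv F1148) D1223 (iv D622)
def n1224 : Q := act 2 n616
theorem D1224 : act 2 n616 = n1224 := rfl
theorem F2075 : act 4 n1224 = n656 := d12_2 (iv F1149) D1224 (iv D656)
theorem F2076 : act 6 n1224 = n1224 := d14_2 F1150 D1224 (iv D1224)
def n1225 : Q := act 5 n616
theorem D1225 : act 5 n616 = n1225 := rfl
theorem F2077 : act 3 n1225 = n624 := d16_1 D1225 (iv D624) (iv F1148)
theorem F2078 : act 4 n1225 = n657 := d18_1 D1225 (iv D657) (iv F1149)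
def n1226 : Q := act 1 n617
theorem D1226 : act 1 n617 = n1226 := rfl
theorem F2079 : act 3 n1226 = n625 := d7_2 (iv F1152) D1226 (iv D625)
theorem F2080 : act 4 n1226 = n658 := d8_2 (iv F1153) D1226 (iv D658)
def n1227 : Q := act 1 n618
theorem D1227 : act 1 n618 = n1227 := rfl
def n1228 : Q := act 2 n618
theorem D1228 : act 2 n618 = n1228 := rfl
theorem F2082 : act 0 n1228 = n619 := d1_1 D1228 (iv D619) D618
theorem F2083 : act 4 n1228 = n627 := d12_2 (iv F1155) D1228 (iv D627)
def n1230 : Q := act 3 n619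
theorem D1230 : act 3 n619 = n1230 := rfl
def n1232 : Q := act 1 n620
theorem D1232 : act 1 n620 = n1232 := rfl
theorem F2092 : act 6 n1232 = n621 := d10_2 D620 D1232 (iv D621) (iv D316) D315
def n1233 : Q := act 0 n621
theorem D1233 : act 0 n621 = n1233 := rfl
theorem F2093 : act 4 n1233 = n632 := d3_2 (iv F1160) D1233 (iv D632)
def n1235 : Q := act 5 n621
theorem D1235 : act 5 n621 = n1235 := rfl
theorem F2095 : act 1 n1235 = n1074 := d9_1 D1235 (iv D1074) (iv D540) (iv F619) D621
def n1236 : Q := act 1 n622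
theorem D1236 : act 1 n622 = n1236 := rfl
theorem F2097 : act 4 n1236 = n635 := d8_2 (iv F1161) D1236 (iv D635)
def n1237 : Q := act 2 n622
theorem D1237 : act 2 n622 = n1237 := rfl
theorem F2098 : act 0 n1237 = n623 := d1_1 D1237 (iv D623) D622
theorem F2099 : act 4 n1237 = n636 := d12_2 (iv F1161) D1237 (iv D636)
def n1238 : Q := act 5 n622
theorem D1238 : act 5 n622 = n1238 := rfl
def n1239 : Q := act 3 n623
theorem D1239 : act 3 n623 = n1239 := rfl
def n1240 : Q := act 5 n623
theorem D1240 : act 5 n623 = n1240 := rfl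
theorem F2106 : act 4 n1240 = n639 := d18_1 D1240 (iv D639) (iv F1163)
def n1241 : Q := act 1 n624
theorem D1241 : act 1 n624 = n1241 := rfl
theorem F2107 : act 4 n1241 = n640 := d8_2 (iv F1165) D1241 (iv D640)
theorem F2108 : act 5 n1241 = n625 := d9_2 D624 D1241 (iv D625) (iv D318) D317
def n1242 : Q := act 0 n625
theorem D1242 : act 0 n625 = n1242 := rfl
theorem F2109 : act 4 n1242 = n641 := d3_2 (iv F1166) D1242 (iv D641)
def n1243 : Q := act 2 n625
theorem D1243 : act 2 n625 = n1243 := rfl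
theorem F2111 : act 4 n1243 = n642 := d12_2 (iv F1166) D1243 (iv D642)
def n1244 : Q := act 6 n625
theorem D1244 : act 6 n625 = n1244 := rfl
theorem F2112 : act 1 n1244 = n1071 := d10_1 D1244 (iv D1071) (iv D539) (iv F625) D625
def n1246 : Q := act 2 n626
theorem D1246 : act 2 n626 = n1246 := rfl
def n1249 : Q := act 1 n627
theorem D1249 : act 1 n627 = n1249 := rfl
def n1250 : Q := act 3 n627
theorem D1250 : act 3 n627 = n1250 := rfl
theorem F2119 : act 5 n1250 = n1250 := d16_2 F1169 D1250 (iv D1250)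
theorem F2120 : act 2 n1250 = n629 := d21_2 D627 D1250 (iv D629) (iv D320) F321 F160 (iv F321) D319
def n1253 : Q := act 4 n629
theorem D1253 : act 4 n629 = n1253 := rfl
def n1254 : Q := act 6 n629
theorem D1254 : act 6 n629 = n1254 := rfl
theorem F2126 : act 3 n1254 = n630 := d17_1 D1254 (iv D630) D629
def n1255 : Q := act 1 n630
theorem D1255 : act 1 n630 = n1255 := rfl
def n1256 : Q := act 0 n631
theorem D1256 : act 0 n631 = n1256 := rfl
theorem F2127 : act 3 n1256 = n676 := d2_2 (iv F1175) D1256 (iv D676)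
theorem F2128 : act 6 n1256 = n632 := d5_2 (iv F1176) D1256 (iv D632)
def n1257 : Q := act 2 n631
theorem D1257 : act 2 n631 = n1257 := rfl
theorem F2129 : act 6 n1257 = n633 := d14_2 (iv F1176) D1257 (iv D633)
def n1258 : Q := act 5 n631
theorem D1258 : act 5 n631 = n1258 := rfl
def n1259 : Q := act 1 n632
theorem D1259 : act 1 n632 = n1259 := rfl
theorem F2131 : act 3 n1259 = n679 := d7_2 (iv F1177) D1259 (iv D679)
def n1260 : Q := act 2 n632
theorem D1260 : act 2 n632 = n1260 := rfl
def n1261 : Q := act 5 n632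
theorem D1261 : act 5 n632 = n1261 := rfl
theorem F2133 : act 0 n1261 = n634 := d4_1 D1261 (iv D634) D632
theorem F2134 : act 3 n1261 = n681 := d16_1 D1261 (iv D681) (iv F1177)
theorem F2135 : act 6 n1261 = n1258 := d22_1 D1261 (iv D1258) F1176 D632
def n1262 : Q := act 3 n633
theorem D1262 : act 3 n633 = n1262 := rfl
def n1263 : Q := act 5 n633
theorem D1263 : act 5 n633 = n1263 := rfl
theorem F2136 : act 2 n1263 = n634 := d13_1 D1263 (iv D634) D633
def n1264 : Q := act 6 n634
theorem D1264 : act 6 n634 = n1264 := rfl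
theorem F2139 : act 5 n1264 = n1256 := d20_1 D1264 F2128 D1261 F2135 (iv D1258) F1176 D634
def n1265 : Q := act 0 n635
theorem D1265 : act 0 n635 = n1265 := rfl
theorem F2140 : act 3 n1265 = n685 := d2_2 (iv F1180) D1265 (iv D685)
def n1266 : Q := act 2 n635
theorem D1266 : act 2 n635 = n1266 := rfl
def n1267 : Q := act 5 n635
theorem D1267 : act 5 n635 = n1267 := rfl
theorem F2141 : act 3 n1267 = n687 := d16_1 D1267 (iv D687) (iv F1180)
def n1268 : Q := act 6 n635
theorem D1268 : act 6 n635 = n1268 := rfl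
theorem F2143 : act 3 n1268 = n688 := d17_1 D1268 (iv D688) (iv F1180)
def n1269 : Q := act 1 n636
theorem D1269 : act 1 n636 = n1269 := rfl
def n1270 : Q := act 3 n636
theorem D1270 : act 3 n636 = n1270 := rfl
theorem F2145 : act 6 n1270 = n1270 := d17_2 F1182 D1270 (iv D1270)
theorem F2146 : act 2 n1270 = n638 := d21_2 D636 D1270 (iv D638) (iv D324) F325 F164 (iv F325) D323
def n1271 : Q := act 5 n636
theorem D1271 : act 5 n636 = n1271 := rfl
theorem F2149 : act 6 n1271 = n639 := d22_1 D1271 (iv D639) F633 (iv F1181)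
def n1275 : Q := act 1 n639
theorem D1275 : act 1 n639 = n1275 := rfl
def n1276 : Q := act 0 n640
theorem D1276 : act 0 n640 = n1276 := rfl
theorem F2153 : act 3 n1276 = n690 := d2_2 (iv F1188) D1276 (iv D690)
theorem F2154 : act 5 n1276 = n641 := d4_2 (iv F1189) D1276 (iv D641)
def n1277 : Q := act 2 n640
theorem D1277 : act 2 n640 = n1277 := rfl
def n1278 : Q := act 6 n640
theorem D1278 : act 6 n640 = n1278 := rfl
def n1279 : Q := act 1 n641
theorem D1279 : act 1 n641 = n1279 := rfl
theorem F2157 : act 3 n1279 = n693 := d7_2 (iv F1190) D1279 (iv D693)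
def n1280 : Q := act 2 n641
theorem D1280 : act 2 n641 = n1280 := rfl
def n1281 : Q := act 6 n641
theorem D1281 : act 6 n641 = n1281 := rfl
theorem F2159 : act 0 n1281 = n643 := d5_1 D1281 (iv D643) D641
theorem F2160 : act 3 n1281 = n695 := d17_1 D1281 (iv D695) (iv F1190)
theorem F2161 : act 5 n1281 = n1278 := d22_2 F2154 D1281 (iv D1278) D1276
def n1282 : Q := act 3 n642
theorem D1282 : act 3 n642 = n1282 := rfl
theorem F2162 : act 1 n1282 = n1262 := d7_1 D1282 (iv D1262) (iv F1191)
def n1283 : Q := act 6 n642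
theorem D1283 : act 6 n642 = n1283 := rfl
theorem F2163 : act 2 n1283 = n643 := d14_1 D1283 (iv D643) D642
def n1284 : Q := act 5 n643
theorem D1284 : act 5 n643 = n1284 := rfl
theorem F2164 : act 0 n1284 = n1278 := d4_1 D1284 (iv F2161) F2159
def n1285 : Q := act 1 n644
theorem D1285 : act 1 n644 = n1285 := rfl
def n1286 : Q := act 5 n644
theorem D1286 : act 5 n644 = n1286 := rfl
theorem F2167 : act 0 n1286 = n645 := d4_1 D1286 (iv D645) D644
theorem F2168 : act 2 n1286 = n1286 := d13_1 D1286 (iv D1286) F1194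
def n1287 : Q := act 6 n644
theorem D1287 : act 6 n644 = n1287 := rfl
theorem F2169 : act 0 n1287 = n646 := d5_1 D1287 (iv D646) D644
theorem F2170 : act 2 n1287 = n1287 := d14_1 D1287 (iv D1287) F1194
def n1288 : Q := act 1 n645
theorem D1288 : act 1 n645 = n1288 := rfl
theorem F2171 : act 5 n1288 = n647 := d9_2 D645 D1288 (iv D647) (iv D328) D327
def n1289 : Q := act 6 n645
theorem D1289 : act 6 n645 = n1289 := rfl
theorem F2172 : act 2 n1289 = n1289 := d14_1 D1289 (iv D1289) F1195
theorem F2173 : act 5 n1289 = n1287 := d22_2 D645 D1289 (iv D1287) (iv D644)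
def n1290 : Q := act 1 n646
theorem D1290 : act 1 n646 = n1290 := rfl
theorem F2174 : act 6 n1290 = n649 := d10_2 D646 D1290 (iv D649) (iv D329) D327
def n1291 : Q := act 5 n646
theorem D1291 : act 5 n646 = n1291 := rfl
theorem F2175 : act 0 n1291 = n1289 := d4_1 D1291 F2173 F2169
theorem F2176 : act 2 n1291 = n1291 := d13_1 D1291 (iv D1291) F1196
theorem F2177 : act 6 n1291 = n1286 := d20_2 D646 D1291 (iv D1286) D1287 (iv F2173) (iv D1289) (iv D645)
def n1292 : Q := act 0 n647
theorem D1292 : act 0 n647 = n1292 := rfl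
def n1293 : Q := act 2 n647
theorem D1293 : act 2 n647 = n1293 := rfl
theorem F2178 : act 1 n1293 = n652 := d6_1 D1293 (iv D652) (iv D330) (iv F637) D647
def n1294 : Q := act 6 n647
theorem D1294 : act 6 n647 = n1294 := rfl
def n1295 : Q := act 1 n648
theorem D1295 : act 1 n648 = n1295 := rfl
def n1296 : Q := act 0 n649
theorem D1296 : act 0 n649 = n1296 := rfl
def n1297 : Q := act 2 n649
theorem D1297 : act 2 n649 = n1297 := rfl
theorem F2179 : act 1 n1297 = n656 := d6_1 D1297 (iv D656) (iv D332) (iv F638) D649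
def n1298 : Q := act 5 n649
theorem D1298 : act 5 n649 = n1298 := rfl
def n1299 : Q := act 1 n650
theorem D1299 : act 1 n650 = n1299 := rfl
theorem F2180 : act 3 n1299 = n1295 := d7_2 (iv F1201) D1299 (iv D1295)
def n1300 : Q := act 1 n651
theorem D1300 : act 1 n651 = n1300 := rfl
theorem F2181 : act 3 n1300 = n659 := d7_2 (iv F1203) D1300 (iv D659)
def n1301 : Q := act 2 n651
theorem D1301 : act 2 n651 = n1301 := rfl
theorem F2182 : act 0 n1301 = n652 := d1_1 D1301 (iv D652) D651
theorem F2183 : act 5 n1301 = n1301 := d13_2 F1204 D1301 (iv D1301)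
def n1302 : Q := act 6 n651
theorem D1302 : act 6 n651 = n1302 := rfl
theorem F2184 : act 0 n1302 = n653 := d5_1 D1302 (iv D653) D651
theorem F2185 : act 3 n1302 = n660 := d17_1 D1302 (iv D660) (iv F1203)
theorem F2186 : act 5 n1302 = n653 := d22_2 F1204 D1302 (iv D653) D651
def n1303 : Q := act 3 n652
theorem D1303 : act 3 n652 = n1303 := rfl
theorem F2187 : act 5 n1303 = n1303 := d16_2 F1205 D1303 (iv D1303)
def n1304 : Q := act 6 n652
theorem D1304 : act 6 n652 = n1304 := rfl
theorem F2188 : act 2 n1304 = n653 := d14_1 D1304 (iv D653) D652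
def n1305 : Q := act 1 n653
theorem D1305 : act 1 n653 = n1305 := rfl
theorem F2189 : act 3 n1305 = n661 := d7_2 (iv F1206) D1305 (iv D661)
theorem F2190 : act 6 n1305 = n654 := d10_2 D653 D1305 (iv D654) (iv D331) D330
def n1306 : Q := act 0 n654
theorem D1306 : act 0 n654 = n1306 := rfl
theorem F2191 : act 3 n1306 = n662 := d2_2 (iv F1207) D1306 (iv D662)
def n1307 : Q := act 2 n654
theorem D1307 : act 2 n654 = n1307 := rfl
def n1308 : Q := act 5 n654
theorem D1308 : act 5 n654 = n1308 := rfl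
theorem F2192 : act 1 n1308 = n1097 := d9_1 D1308 (iv D1097) (iv D551) (iv F642) D654
def n1309 : Q := act 1 n655
theorem D1309 : act 1 n655 = n1309 := rfl
theorem F2194 : act 3 n1309 = n665 := d7_2 (iv F1208) D1309 (iv D665)
def n1310 : Q := act 2 n655
theorem D1310 : act 2 n655 = n1310 := rfl
theorem F2195 : act 0 n1310 = n656 := d1_1 D1310 (iv D656) D655
def n1311 : Q := act 5 n655
theorem D1311 : act 5 n655 = n1311 := rfl
theorem F2197 : act 0 n1311 = n657 := d4_1 D1311 (iv D657) D655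
theorem F2198 : act 3 n1311 = n666 := d16_1 D1311 (iv D666) (iv F1208)
theorem F2199 : act 6 n1311 = n657 := d22_1 D1311 (iv D657) F644 D655
def n1312 : Q := act 3 n656
theorem D1312 : act 3 n656 = n1312 := rfl
theorem F2200 : act 6 n1312 = n1312 := d17_2 F1210 D1312 (iv D1312)
def n1313 : Q := act 5 n656
theorem D1313 : act 5 n656 = n1313 := rfl
theorem F2201 : act 2 n1313 = n657 := d13_1 D1313 (iv D657) D656
def n1314 : Q := act 1 n657
theorem D1314 : act 1 n657 = n1314 := rfl
theorem F2202 : act 3 n1314 = n667 := d7_2 (iv F1211) D1314 (iv D667)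
theorem F2203 : act 5 n1314 = n658 := d9_2 D657 D1314 (iv D658) (iv D333) D332
def n1315 : Q := act 0 n658
theorem D1315 : act 0 n658 = n1315 := rfl
theorem F2204 : act 3 n1315 = n668 := d2_2 (iv F1212) D1315 (iv D668)
def n1316 : Q := act 2 n658
theorem D1316 : act 2 n658 = n1316 := rfl
def n1317 : Q := act 6 n658
theorem D1317 : act 6 n658 = n1317 := rfl
theorem F2205 : act 1 n1317 = n1094 := d10_1 D1317 (iv D1094) (iv D550) (iv F647) D658
theorem F2206 : act 3 n1317 = n670 := d17_1 D1317 (iv D670) (iv F1212)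
def n1318 : Q := act 0 n659
theorem D1318 : act 0 n659 = n1318 := rfl
theorem F2207 : act 4 n1318 = n671 := d3_2 (iv F1213) D1318 (iv D671)
def n1321 : Q := act 6 n659
theorem D1321 : act 6 n659 = n1321 := rfl
def n1322 : Q := act 1 n660
theorem D1322 : act 1 n660 = n1322 := rfl
theorem F2213 : act 4 n1322 = n675 := d8_2 (iv F1216) D1322 (iv D675)
def n1323 : Q := act 0 n661
theorem D1323 : act 0 n661 = n1323 := rfl
theorem F2214 : act 4 n1323 = n676 := d3_2 (iv F1218) D1323 (iv D676)
theorem F2215 : act 6 n1323 = n662 := d5_2 (iv F1219) D1323 (iv D662)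
def n1324 : Q := act 2 n661
theorem D1324 : act 2 n661 = n1324 := rfl
theorem F2216 : act 1 n1324 = n1324 := d6_1 D1324 (iv D1324) (iv D661) F651 D661
theorem F2217 : act 4 n1324 = n677 := d12_2 (iv F1218) D1324 (iv D677)
theorem F2218 : act 6 n1324 = n663 := d14_2 (iv F1219) D1324 (iv D663)
def n1325 : Q := act 5 n661
theorem D1325 : act 5 n661 = n1325 := rfl
def n1326 : Q := act 1 n662
theorem D1326 : act 1 n662 = n1326 := rfl
theorem F2220 : act 4 n1326 = n679 := d8_2 (iv F1220) D1326 (iv D679)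
def n1327 : Q := act 2 n662
theorem D1327 : act 2 n662 = n1327 := rfl
theorem F2221 : act 0 n1327 = n663 := d1_1 D1327 (iv D663) D662
theorem F2222 : act 4 n1327 = n680 := d12_2 (iv F1220) D1327 (iv D680)
def n1328 : Q := act 5 n662
theorem D1328 : act 5 n662 = n1328 := rfl
theorem F2223 : act 0 n1328 = n664 := d4_1 D1328 (iv D664) D662
theorem F2224 : act 4 n1328 = n681 := d18_1 D1328 (iv D681) (iv F1220)
theorem F2225 : act 6 n1328 = n1325 := d22_1 D1328 (iv D1325) F1219 D662
def n1329 : Q := act 3 n663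
theorem D1329 : act 3 n663 = n1329 := rfl
theorem F2226 : act 1 n1329 = n701 := d7_1 D1329 (iv D701) (iv F1221)
def n1330 : Q := act 5 n663
theorem D1330 : act 5 n663 = n1330 := rfl
theorem F2227 : act 2 n1330 = n664 := d13_1 D1330 (iv D664) D663
def n1331 : Q := act 6 n664
theorem D1331 : act 6 n664 = n1331 := rfl
theorem F2229 : act 0 n1331 = n1325 := d5_1 D1331 (iv F2225) F2223
theorem F2231 : act 5 n1331 = n1323 := d20_1 D1331 F2215 D1328 F2225 (iv D1325) F1219 D664
def n1332 : Q := act 0 n665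
theorem D1332 : act 0 n665 = n1332 := rfl
theorem F2232 : act 4 n1332 = n685 := d3_2 (iv F1225) D1332 (iv D685)
def n1334 : Q := act 5 n665
theorem D1334 : act 5 n665 = n1334 := rfl
def n1335 : Q := act 6 n665
theorem D1335 : act 6 n665 = n1335 := rfl
theorem F2237 : act 4 n1335 = n688 := d19_1 D1335 (iv D688) (iv F1225)
def n1337 : Q := act 0 n667
theorem D1337 : act 0 n667 = n1337 := rfl
theorem F2239 : act 4 n1337 = n690 := d3_2 (iv F1230) D1337 (iv D690)
theorem F2240 : act 5 n1337 = n668 := d4_2 (iv F1231) D1337 (iv D668)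
def n1338 : Q := act 2 n667
theorem D1338 : act 2 n667 = n1338 := rfl
theorem F2241 : act 1 n1338 = n1338 := d6_1 D1338 (iv D1338) (iv D667) F657 D667
theorem F2242 : act 4 n1338 = n691 := d12_2 (iv F1230) D1338 (iv D691)
theorem F2243 : act 5 n1338 = n669 := d13_2 (iv F1231) D1338 (iv D669)
def n1339 : Q := act 6 n667
theorem D1339 : act 6 n667 = n1339 := rfl
def n1340 : Q := act 1 n668
theorem D1340 : act 1 n668 = n1340 := rfl
theorem F2245 : act 4 n1340 = n693 := d8_2 (iv F1232) D1340 (iv D693)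
def n1341 : Q := act 2 n668
theorem D1341 : act 2 n668 = n1341 := rfl
theorem F2246 : act 0 n1341 = n669 := d1_1 D1341 (iv D669) D668
theorem F2247 : act 4 n1341 = n694 := d12_2 (iv F1232) D1341 (iv D694)
def n1342 : Q := act 6 n668
theorem D1342 : act 6 n668 = n1342 := rfl
theorem F2248 : act 0 n1342 = n670 := d5_1 D1342 (iv D670) D668
theorem F2249 : act 4 n1342 = n695 := d19_1 D1342 (iv D695) (iv F1232)
theorem F2250 : act 5 n1342 = n1339 := d22_2 F2240 D1342 (iv D1339) D1337
def n1343 : Q := act 3 n669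
theorem D1343 : act 3 n669 = n1343 := rfl
theorem F2251 : act 1 n1343 = n705 := d7_1 D1343 (iv D705) (iv F1233)
def n1344 : Q := act 6 n669
theorem D1344 : act 6 n669 = n1344 := rfl
theorem F2252 : act 2 n1344 = n670 := d14_1 D1344 (iv D670) D669
theorem F2253 : act 4 n1344 = n697 := d19_1 D1344 (iv D697) (iv F1234)
def n1345 : Q := act 5 n670
theorem D1345 : act 5 n670 = n1345 := rfl
theorem F2255 : act 4 n1345 = n698 := d18_1 D1345 (iv D698) (iv F1236)
def n1346 : Q := act 2 n671
theorem D1346 : act 2 n671 = n1346 := rfl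
def n1347 : Q := act 5 n671
theorem D1347 : act 5 n671 = n1347 := rfl
def n1348 : Q := act 6 n671
theorem D1348 : act 6 n671 = n1348 := rfl
theorem F2259 : act 0 n1348 = n674 := d5_1 D1348 (iv D674) D671
def n1352 : Q := act 6 n673
theorem D1352 : act 6 n673 = n1352 := rfl
theorem F2263 : act 5 n1352 = n1348 := d22_2 D673 D1352 (iv D1348) (iv D671)
def n1353 : Q := act 1 n674
theorem D1353 : act 1 n674 = n1353 := rfl
theorem F2264 : act 6 n1353 = n675 := d10_2 D674 D1353 (iv D675) (iv D341) D340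
def n1354 : Q := act 5 n674
theorem D1354 : act 5 n674 = n1354 := rfl
theorem F2265 : act 0 n1354 = n1352 := d4_1 D1354 F2263 F2259
theorem F2266 : act 6 n1354 = n1347 := d20_2 D674 D1354 (iv D1347) D1348 (iv F2263) (iv D1352) (iv D673)
def n1355 : Q := act 0 n675
theorem D1355 : act 0 n675 = n1355 := rfl
def n1357 : Q := act 5 n675
theorem D1357 : act 5 n675 = n1357 := rfl
theorem F2268 : act 1 n1357 = n678 := d9_1 D1357 (iv D678) (iv D342) (iv F662) D675
def n1358 : Q := act 1 n676
theorem D1358 : act 1 n676 = n1358 := rfl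
def n1359 : Q := act 2 n676
theorem D1359 : act 2 n676 = n1359 := rfl
theorem F2269 : act 0 n1359 = n677 := d1_1 D1359 (iv D677) D676
theorem F2270 : act 6 n1359 = n680 := d14_2 (iv F1239) D1359 (iv D680)
def n1360 : Q := act 3 n677
theorem D1360 : act 3 n677 = n1360 := rfl
theorem F2271 : act 1 n1360 = n1360 := d7_1 D1360 (iv D1360) F1240
theorem F2272 : act 6 n1360 = n682 := d17_2 (iv F1241) D1360 (iv D682)
def n1361 : Q := act 5 n677
theorem D1361 : act 5 n677 = n1361 := rfl
def n1362 : Q := act 0 n679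
theorem D1362 : act 0 n679 = n1362 := rfl
def n1363 : Q := act 2 n679
theorem D1363 : act 2 n679 = n1363 := rfl
def n1364 : Q := act 5 n679
theorem D1364 : act 5 n679 = n1364 := rfl
def n1365 : Q := act 6 n679
theorem D1365 : act 6 n679 = n1365 := rfl
def n1366 : Q := act 1 n680
theorem D1366 : act 1 n680 = n1366 := rfl
def n1367 : Q := act 3 n680
theorem D1367 : act 3 n680 = n1367 := rfl
theorem F2274 : act 0 n1367 = n682 := d2_1 D1367 (iv D682) (iv F1242)
def n1368 : Q := act 5 n680
theorem D1368 : act 5 n680 = n1368 := rfl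
theorem F2275 : act 0 n1368 = n683 := d4_1 D1368 (iv D683) (iv F1242)
theorem F2276 : act 2 n1368 = n681 := d13_1 D1368 (iv D681) D680
theorem F2277 : act 6 n1368 = n1361 := d22_1 D1368 (iv D1361) F1241 (iv F1242)
def n1369 : Q := act 1 n681
theorem D1369 : act 1 n681 = n1369 := rfl
def n1370 : Q := act 2 n682
theorem D1370 : act 2 n682 = n1370 := rfl
def n1371 : Q := act 4 n682
theorem D1371 : act 4 n682 = n1371 := rfl
theorem F2278 : act 1 n1371 = n711 := d8_1 D1371 (iv D711) (iv F1245)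
def n1372 : Q := act 5 n682
theorem D1372 : act 5 n682 = n1372 := rfl
theorem F2279 : act 3 n1372 = n683 := d16_1 D1372 (iv D683) D682
def n1373 : Q := act 1 n683
theorem D1373 : act 1 n683 = n1373 := rfl
theorem F2280 : act 2 n1373 = n1135 := d6_2 (iv F1246) D1373 (iv D1135) F1058 (iv F665)
theorem F2281 : act 5 n1373 = n713 := d9_2 D683 D1373 (iv D713) (iv D361) (iv F664)
def n1374 : Q := act 6 n683
theorem D1374 : act 6 n683 = n1374 := rfl
theorem F2284 : act 5 n1374 = n1359 := d20_1 D1374 F2270 D1368 F2277 (iv D1361) F1241 D683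
def n1375 : Q := act 1 n684
theorem D1375 : act 1 n684 = n1375 := rfl
theorem F2285 : act 6 n1375 = n1137 := d10_2 D684 D1375 (iv D1137) (iv D569) (iv F665)
def n1376 : Q := act 2 n685
theorem D1376 : act 2 n685 = n1376 := rfl
theorem F2286 : act 0 n1376 = n686 := d1_1 D1376 (iv D686) D685
def n1377 : Q := act 5 n685
theorem D1377 : act 5 n685 = n1377 := rfl
theorem F2287 : act 0 n1377 = n687 := d4_1 D1377 (iv D687) D685
def n1378 : Q := act 6 n685
theorem D1378 : act 6 n685 = n1378 := rfl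
theorem F2288 : act 0 n1378 = n688 := d5_1 D1378 (iv D688) D685
def n1381 : Q := act 6 n686
theorem D1381 : act 6 n686 = n1381 := rfl
theorem F2291 : act 2 n1381 = n688 := d14_1 D1381 (iv D688) D686
def n1382 : Q := act 1 n687
theorem D1382 : act 1 n687 = n1382 := rfl
theorem F2292 : act 5 n1382 = n689 := d9_2 D687 D1382 (iv D689) (iv D347) D346
def n1383 : Q := act 6 n687
theorem D1383 : act 6 n687 = n1383 := rfl
theorem F2293 : act 5 n1383 = n1378 := d22_2 D687 D1383 (iv D1378) (iv D685)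
def n1384 : Q := act 5 n688
theorem D1384 : act 5 n688 = n1384 := rfl
theorem F2294 : act 0 n1384 = n1383 := d4_1 D1384 F2293 F2288
theorem F2295 : act 6 n1384 = n1377 := d20_2 D688 D1384 (iv D1377) D1378 (iv F2293) (iv D1383) (iv D687)
def n1385 : Q := act 0 n689
theorem D1385 : act 0 n689 = n1385 := rfl
def n1386 : Q := act 2 n689
theorem D1386 : act 2 n689 = n1386 := rfl
theorem F2296 : act 1 n1386 = n1386 := d6_1 D1386 (iv D1386) (iv D689) F667 D689
def n1387 : Q := act 6 n689
theorem D1387 : act 6 n689 = n1387 := rfl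
theorem F2297 : act 1 n1387 = n692 := d10_1 D1387 (iv D692) (iv D348) (iv F668) D689
def n1388 : Q := act 1 n690
theorem D1388 : act 1 n690 = n1388 := rfl
def n1389 : Q := act 2 n690
theorem D1389 : act 2 n690 = n1389 := rfl
theorem F2298 : act 0 n1389 = n691 := d1_1 D1389 (iv D691) D690
theorem F2299 : act 5 n1389 = n694 := d13_2 (iv F1251) D1389 (iv D694)
def n1390 : Q := act 3 n691
theorem D1390 : act 3 n691 = n1390 := rfl
theorem F2300 : act 1 n1390 = n1390 := d7_1 D1390 (iv D1390) F1252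
theorem F2301 : act 5 n1390 = n696 := d16_2 (iv F1253) D1390 (iv D696)
def n1391 : Q := act 6 n691
theorem D1391 : act 6 n691 = n1391 := rfl
def n1392 : Q := act 0 n693
theorem D1392 : act 0 n693 = n1392 := rfl
theorem F2303 : act 1 n1392 = n1362 := d0_2 D693 D1392 (iv D1362) (iv D679) (iv D343) (iv D172) (iv F166) D175 D349
def n1393 : Q := act 2 n693
theorem D1393 : act 2 n693 = n1393 := rfl
def n1394 : Q := act 5 n693
theorem D1394 : act 5 n693 = n1394 := rfl
def n1395 : Q := act 6 n693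
theorem D1395 : act 6 n693 = n1395 := rfl
def n1396 : Q := act 1 n694
theorem D1396 : act 1 n694 = n1396 := rfl
def n1397 : Q := act 3 n694
theorem D1397 : act 3 n694 = n1397 := rfl
theorem F2304 : act 0 n1397 = n696 := d2_1 D1397 (iv D696) (iv F1254)
def n1398 : Q := act 6 n694
theorem D1398 : act 6 n694 = n1398 := rfl
theorem F2305 : act 0 n1398 = n697 := d5_1 D1398 (iv D697) (iv F1254)
theorem F2306 : act 2 n1398 = n695 := d14_1 D1398 (iv D695) D694
theorem F2307 : act 5 n1398 = n1391 := d22_2 F2299 D1398 (iv D1391) (iv F2298)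
def n1399 : Q := act 1 n695
theorem D1399 : act 1 n695 = n1399 := rfl
def n1400 : Q := act 2 n696
theorem D1400 : act 2 n696 = n1400 := rfl
def n1401 : Q := act 4 n696
theorem D1401 : act 4 n696 = n1401 := rfl
theorem F2308 : act 1 n1401 = n718 := d8_1 D1401 (iv D718) (iv F1257)
def n1402 : Q := act 6 n696
theorem D1402 : act 6 n696 = n1402 := rfl
theorem F2309 : act 3 n1402 = n697 := d17_1 D1402 (iv D697) D696
def n1403 : Q := act 1 n697
theorem D1403 : act 1 n697 = n1403 := rfl
theorem F2310 : act 2 n1403 = n1121 := d6_2 (iv F1258) D1403 (iv D1121) F1051 (iv F671)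
theorem F2311 : act 6 n1403 = n720 := d10_2 D697 D1403 (iv D720) (iv D365) (iv F670)
def n1404 : Q := act 5 n697
theorem D1404 : act 5 n697 = n1404 := rfl
theorem F2312 : act 0 n1404 = n1391 := d4_1 D1404 (iv F2307) F2305
theorem F2313 : act 2 n1404 = n698 := d13_1 D1404 (iv D698) (iv F1258)
theorem F2314 : act 6 n1404 = n1389 := d20_2 D697 D1404 F2299 D1398 F2307 (iv D1391) F1253
def n1405 : Q := act 1 n698
theorem D1405 : act 1 n698 = n1405 := rfl
theorem F2315 : act 5 n1405 = n1123 := d9_2 D698 D1405 (iv D1123) (iv D563) (iv F671)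
def n1406 : Q := act 1 n699
theorem D1406 : act 1 n699 = n1406 := rfl
theorem F2316 : act 4 n1406 = n707 := d8_2 (iv F1262) D1406 (iv D707)
def n1407 : Q := act 3 n699
theorem D1407 : act 3 n699 = n1407 := rfl
theorem F2317 : act 0 n1407 = n701 := d2_1 D1407 (iv D701) (iv F1261)
theorem F2318 : act 6 n1407 = n1407 := d17_2 F1263 D1407 (iv D1407)
def n1408 : Q := act 5 n699
theorem D1408 : act 5 n699 = n1408 := rfl
theorem F2319 : act 0 n1408 = n702 := d4_1 D1408 (iv D702) (iv F1261)
theorem F2320 : act 2 n1408 = n700 := d13_1 D1408 (iv D700) D699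
theorem F2321 : act 4 n1408 = n709 := d18_1 D1408 (iv D709) (iv F1262)
theorem F2322 : act 6 n1408 = n702 := d22_1 D1408 (iv D702) F676 (iv F1261)
def n1409 : Q := act 2 n701
theorem D1409 : act 2 n701 = n1409 := rfl
theorem F2323 : act 6 n1409 = n1409 := d14_2 F1268 D1409 (iv D1409)
def n1410 : Q := act 4 n701
theorem D1410 : act 4 n701 = n1410 := rfl
theorem F2324 : act 3 n1410 = n711 := d15_1 D1410 (iv D711) (iv D360) (iv F675) D701
def n1411 : Q := act 5 n701
theorem D1411 : act 5 n701 = n1411 := rfl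
theorem F2326 : act 3 n1411 = n702 := d16_1 D1411 (iv D702) D701
def n1412 : Q := act 1 n702
theorem D1412 : act 1 n702 = n1412 := rfl
theorem F2327 : act 2 n1412 = n1152 := d6_2 (iv F1269) D1412 (iv D1152) F1082 (iv F677)
theorem F2328 : act 4 n1412 = n713 := d8_2 (iv F1270) D1412 (iv D713)
def n1413 : Q := act 1 n703
theorem D1413 : act 1 n703 = n1413 := rfl
theorem F2329 : act 4 n1413 = n714 := d8_2 (iv F1272) D1413 (iv D714)
def n1414 : Q := act 3 n703
theorem D1414 : act 3 n703 = n1414 := rfl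
theorem F2330 : act 0 n1414 = n705 := d2_1 D1414 (iv D705) (iv F1271)
theorem F2331 : act 5 n1414 = n1414 := d16_2 F1273 D1414 (iv D1414)
def n1415 : Q := act 6 n703
theorem D1415 : act 6 n703 = n1415 := rfl
theorem F2332 : act 0 n1415 = n706 := d5_1 D1415 (iv D706) (iv F1271)
theorem F2333 : act 2 n1415 = n704 := d14_1 D1415 (iv D704) D703
theorem F2334 : act 4 n1415 = n716 := d19_1 D1415 (iv D716) (iv F1272)
theorem F2335 : act 5 n1415 = n706 := d22_2 F1273 D1415 (iv D706) (iv F1271)
def n1416 : Q := act 2 n705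
theorem D1416 : act 2 n705 = n1416 := rfl
theorem F2336 : act 5 n1416 = n1416 := d13_2 F1279 D1416 (iv D1416)
def n1417 : Q := act 4 n705
theorem D1417 : act 4 n705 = n1417 := rfl
theorem F2337 : act 3 n1417 = n718 := d15_1 D1417 (iv D718) (iv D364) (iv F683) D705
def n1418 : Q := act 6 n705
theorem D1418 : act 6 n705 = n1418 := rfl
theorem F2339 : act 3 n1418 = n706 := d17_1 D1418 (iv D706) D705
def n1419 : Q := act 1 n706
theorem D1419 : act 1 n706 = n1419 := rfl
theorem F2340 : act 2 n1419 = n1144 := d6_2 (iv F1280) D1419 (iv D1144) F1068 (iv F685)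
theorem F2341 : act 4 n1419 = n720 := d8_2 (iv F1281) D1419 (iv D720)
def n1420 : Q := act 0 n707
theorem D1420 : act 0 n707 = n1420 := rfl
def n1421 : Q := act 3 n707
theorem D1421 : act 3 n707 = n1421 := rfl
theorem F2342 : act 1 n1421 = n708 := d7_1 D1421 (iv D708) D707
def n1422 : Q := act 5 n707
theorem D1422 : act 5 n707 = n1422 := rfl
def n1423 : Q := act 6 n707
theorem D1423 : act 6 n707 = n1423 := rfl
def n1425 : Q := act 5 n708
theorem D1425 : act 5 n708 = n1425 := rfl
theorem F2347 : act 3 n1425 = n709 := d16_1 D1425 (iv D709) D708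
theorem F2348 : act 6 n1425 = n712 := d22_1 D1425 (iv D712) F693 (iv F1282)
def n1426 : Q := act 1 n709
theorem D1426 : act 1 n709 = n1426 := rfl
def n1427 : Q := act 1 n710
theorem D1427 : act 1 n710 = n1427 := rfl
def n1429 : Q := act 5 n710
theorem D1429 : act 5 n710 = n1429 := rfl
theorem F2351 : act 2 n1429 = n712 := d13_1 D1429 (iv D712) D710
def n1430 : Q := act 5 n711
theorem D1430 : act 5 n711 = n1430 := rfl
theorem F2352 : act 4 n1430 = n712 := d18_1 D1430 (iv D712) D711
def n1431 : Q := act 1 n712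
theorem D1431 : act 1 n712 = n1431 := rfl
theorem F2353 : act 3 n1431 = n713 := d7_2 (iv F1289) D1431 (iv D713)
def n1432 : Q := act 0 n713
theorem D1432 : act 0 n713 = n1432 := rfl
theorem F2354 : act 2 n1432 = n1180 := d1_2 (iv F1290) D1432 (iv D1180)
def n1433 : Q := act 6 n713
theorem D1433 : act 6 n713 = n1433 := rfl
theorem F2355 : act 2 n1433 = n1181 := d14_1 D1433 (iv D1181) (iv F1290)
def n1434 : Q := act 0 n714
theorem D1434 : act 0 n714 = n1434 := rfl
def n1435 : Q := act 3 n714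
theorem D1435 : act 3 n714 = n1435 := rfl
theorem F2356 : act 1 n1435 = n715 := d7_1 D1435 (iv D715) D714
def n1436 : Q := act 5 n714
theorem D1436 : act 5 n714 = n1436 := rfl
def n1437 : Q := act 6 n714
theorem D1437 : act 6 n714 = n1437 := rfl
def n1438 : Q := act 4 n715
theorem D1438 : act 4 n715 = n1438 := rfl
def n1439 : Q := act 6 n715
theorem D1439 : act 6 n715 = n1439 := rfl
theorem F2361 : act 3 n1439 = n716 := d17_1 D1439 (iv D716) D715
theorem F2362 : act 5 n1439 = n719 := d22_2 F1292 D1439 (iv D719) (iv F1291)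
def n1440 : Q := act 1 n716
theorem D1440 : act 1 n716 = n1440 := rfl
theorem F2363 : act 2 n1440 = n1426 := d6_2 (iv F1294) D1440 (iv D1426) F1285 (iv F698)
def n1441 : Q := act 1 n717
theorem D1441 : act 1 n717 = n1441 := rfl
def n1443 : Q := act 6 n717
theorem D1443 : act 6 n717 = n1443 := rfl
theorem F2366 : act 2 n1443 = n719 := d14_1 D1443 (iv D719) D717
def n1444 : Q := act 6 n718
theorem D1444 : act 6 n718 = n1444 := rfl
theorem F2367 : act 4 n1444 = n719 := d19_1 D1444 (iv D719) D718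
def n1445 : Q := act 1 n719
theorem D1445 : act 1 n719 = n1445 := rfl
theorem F2368 : act 3 n1445 = n720 := d7_2 (iv F1298) D1445 (iv D720)
def n1446 : Q := act 0 n720
theorem D1446 : act 0 n720 = n1446 := rfl
theorem F2369 : act 2 n1446 = n1164 := d1_2 (iv F1299) D1446 (iv D1164)
def n1447 : Q := act 5 n720
theorem D1447 : act 5 n720 = n1447 := rfl
theorem F2370 : act 2 n1447 = n1165 := d13_1 D1447 (iv D1165) (iv F1299)
def n1448 : Q := act 1 n721
theorem D1448 : act 1 n721 = n1448 := rfl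
theorem F2371 : act 3 n1448 = n1427 := d7_2 (iv F1302) D1448 (iv D1427)
def n1452 : Q := act 1 n723
theorem D1452 : act 1 n723 = n1452 := rfl
theorem F2383 : act 3 n1452 = n724 := d7_2 (iv F1307) D1452 (iv D724)
def n1454 : Q := act 0 n725
theorem D1454 : act 0 n725 = n1454 := rfl
def n1455 : Q := act 3 n725
theorem D1455 : act 3 n725 = n1455 := rfl
theorem F2389 : act 1 n1455 = n726 := d7_1 D1455 (iv D726) D725
def n1460 : Q := act 5 n726
theorem D1460 : act 5 n726 = n1460 := rfl
theorem F2399 : act 2 n1460 = n1425 := d13_1 D1460 (iv D1425) (iv F1312)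
theorem F2401 : act 6 n1460 = n1429 := d22_1 D1460 (iv D1429) F1287 (iv F1311)
def n1469 : Q := act 1 n733
theorem D1469 : act 1 n733 = n1469 := rfl
theorem F2420 : act 6 n1469 = n740 := d10_2 (iv F1394) D1469 (iv D740) (iv D374) D372
def n1471 : Q := act 5 n733
theorem D1471 : act 5 n733 = n1471 := rfl
theorem F2424 : act 0 n1471 = n735 := d4_1 D1471 (iv D735) D733
def n1475 : Q := act 1 n737
theorem D1475 : act 1 n737 = n1475 := rfl
theorem F2433 : act 3 n1475 = n1441 := d7_2 (iv F1335) D1475 (iv D1441)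
def n1479 : Q := act 1 n739
theorem D1479 : act 1 n739 = n1479 := rfl
theorem F2446 : act 3 n1479 = n740 := d7_2 (iv F1340) D1479 (iv D740)
def n1480 : Q := act 0 n741
theorem D1480 : act 0 n741 = n1480 := rfl
def n1481 : Q := act 3 n741
theorem D1481 : act 3 n741 = n1481 := rfl
theorem F2449 : act 1 n1481 = n742 := d7_1 D1481 (iv D742) D741
def n1485 : Q := act 4 n742
theorem D1485 : act 4 n742 = n1485 := rfl
theorem F2456 : act 2 n1485 = n1438 := d12_1 D1485 (iv D1438) (iv F1348)
def n1486 : Q := act 6 n742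
theorem D1486 : act 6 n742 = n1486 := rfl
theorem F2458 : act 0 n1486 = n1443 := d5_1 D1486 (iv D1443) (iv F1347)
theorem F2459 : act 2 n1486 = n1439 := d14_1 D1486 (iv D1439) (iv F1348)
theorem F2460 : act 3 n1486 = n744 := d17_1 D1486 (iv D744) D742
theorem F2461 : act 5 n1486 = n1443 := d22_2 F1349 D1486 (iv D1443) (iv F1347)
def n1489 : Q := act 1 n744
theorem D1489 : act 1 n744 = n1489 := rfl
theorem F2465 : act 2 n1489 = n1448 := d6_2 (iv F1352) D1489 (iv D1448) (iv D721) F729
def n1520 : Q := act 0 n762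
theorem D1520 : act 0 n762 = n1520 := rfl
theorem F2525 : act 1 n1520 = n776 := d0_2 D762 D1520 F1410 F777 F515 D310 D607 (iv F1131) (iv F752)
theorem F2526 : act 2 n1520 = n1471 := d1_2 F1392 D1520 F2424
def n1538 : Q := act 2 n770
theorem D1538 : act 2 n770 = n1538 := rfl
theorem F2549 : act 1 n1538 = n774 := d6_1 D1538 (iv D774) (iv D395) (iv F759) D770
def n1544 : Q := act 6 n772
theorem D1544 : act 6 n772 = n1544 := rfl
theorem F2554 : act 1 n1544 = n980 := d10_1 D1544 F1718 (iv D858) F848 D772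
def n1548 : Q := act 6 n774
theorem D1548 : act 6 n774 = n1548 := rfl
theorem F2562 : act 2 n1548 = n775 := d14_1 D1548 (iv D775) D774
def n1553 : Q := act 3 n778
theorem D1553 : act 3 n778 = n1553 := rfl
theorem F2574 : act 1 n1553 = n779 := d7_1 D1553 (iv D779) D778
def n1554 : Q := act 4 n778
theorem D1554 : act 4 n778 = n1554 := rfl
theorem F2575 : act 1 n1554 = n780 := d8_1 D1554 (iv D780) D778
def n1555 : Q := act 5 n778
theorem D1555 : act 5 n778 = n1555 := rfl
def n1556 : Q := act 6 n778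
theorem D1556 : act 6 n778 = n1556 := rfl
def n1557 : Q := act 2 n779
theorem D1557 : act 2 n779 = n1557 := rfl
theorem F2576 : act 0 n1557 = n783 := d1_1 D1557 (iv D783) (iv F1418)
def n1558 : Q := act 4 n779
theorem D1558 : act 4 n779 = n1558 := rfl
theorem F2577 : act 0 n1558 = n784 := d3_1 D1558 (iv D784) (iv F1418)
def n1559 : Q := act 5 n779
theorem D1559 : act 5 n779 = n1559 := rfl
def n1561 : Q := act 3 n780
theorem D1561 : act 3 n780 = n1561 := rfl
theorem F2582 : act 0 n1561 = n787 := d2_1 D1561 (iv D787) (iv F1419)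
def n1562 : Q := act 5 n780
theorem D1562 : act 5 n780 = n1562 := rfl
theorem F2583 : act 0 n1562 = n788 := d4_1 D1562 (iv D788) (iv F1419)
def n1564 : Q := act 1 n781
theorem D1564 : act 1 n781 = n1564 := rfl
def n1565 : Q := act 1 n782
theorem D1565 : act 1 n782 = n1565 := rfl
def n1566 : Q := act 3 n783
theorem D1566 : act 3 n783 = n1566 := rfl
def n1567 : Q := act 4 n783
theorem D1567 : act 4 n783 = n1567 := rfl
theorem F2589 : act 2 n1567 = n784 := d12_1 D1567 (iv D784) D783
def n1568 : Q := act 5 n783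
theorem D1568 : act 5 n783 = n1568 := rfl
theorem F2590 : act 2 n1568 = n785 := d13_1 D1568 (iv D785) D783
def n1569 : Q := act 6 n783
theorem D1569 : act 6 n783 = n1569 := rfl
theorem F2591 : act 2 n1569 = n786 := d14_1 D1569 (iv D786) D783
def n1570 : Q := act 3 n784
theorem D1570 : act 3 n784 = n1570 := rfl
theorem F2592 : act 1 n1570 = n794 := d7_1 D1570 (iv D794) (iv F1425)
theorem F2593 : act 4 n1570 = n787 := d15_2 D784 D1570 (iv D787) (iv D401) D400
def n1571 : Q := act 5 n784
theorem D1571 : act 5 n784 = n1571 := rfl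
theorem F2594 : act 4 n1571 = n785 := d18_1 D1571 (iv D785) D784
def n1572 : Q := act 6 n784
theorem D1572 : act 6 n784 = n1572 := rfl
theorem F2595 : act 4 n1572 = n786 := d19_1 D1572 (iv D786) D784
def n1573 : Q := act 1 n785
theorem D1573 : act 1 n785 = n1573 := rfl
theorem F2596 : act 3 n1573 = n790 := d7_2 (iv F1426) D1573 (iv D790)
theorem F2597 : act 5 n1573 = n797 := d9_2 D785 D1573 (iv D797) (iv D405) (iv F782)
def n1575 : Q := act 1 n786
theorem D1575 : act 1 n786 = n1575 := rfl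
theorem F2600 : act 3 n1575 = n792 := d7_2 (iv F1427) D1575 (iv D792)
def n1577 : Q := act 2 n787
theorem D1577 : act 2 n787 = n1577 := rfl
def n1578 : Q := act 5 n787
theorem D1578 : act 5 n787 = n1578 := rfl
theorem F2605 : act 3 n1578 = n788 := d16_1 D1578 (iv D788) D787
def n1579 : Q := act 6 n787
theorem D1579 : act 6 n787 = n1579 := rfl
theorem F2606 : act 3 n1579 = n789 := d17_1 D1579 (iv D789) D787
def n1580 : Q := act 1 n788
theorem D1580 : act 1 n788 = n1580 := rfl
theorem F2608 : act 5 n1580 = n802 := d9_2 D788 D1580 (iv D802) (iv D408) (iv F783)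
def n1582 : Q := act 1 n789
theorem D1582 : act 1 n789 = n1582 := rfl
theorem F2612 : act 4 n1582 = n792 := d8_2 (iv F1432) D1582 (iv D792)
def n1584 : Q := act 0 n790
theorem D1584 : act 0 n790 = n1584 := rfl
theorem F2618 : act 5 n1584 = n804 := d4_2 (iv F1433) D1584 (iv D804)
def n1585 : Q := act 2 n790
theorem D1585 : act 2 n790 = n1585 := rfl
def n1586 : Q := act 6 n790
theorem D1586 : act 6 n790 = n1586 := rfl
def n1587 : Q := act 1 n791
theorem D1587 : act 1 n791 = n1587 := rfl
def n1588 : Q := act 0 n792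
theorem D1588 : act 0 n792 = n1588 := rfl
theorem F2621 : act 6 n1588 = n807 := d5_2 (iv F1436) D1588 (iv D807)
def n1590 : Q := act 5 n792
theorem D1590 : act 5 n792 = n1590 := rfl
def n1591 : Q := act 1 n793
theorem D1591 : act 1 n793 = n1591 := rfl
def n1592 : Q := act 2 n794
theorem D1592 : act 2 n794 = n1592 := rfl
theorem F2624 : act 0 n1592 = n911 := d1_1 D1592 (iv D911) (iv F1440)
theorem F2625 : act 4 n1592 = n799 := d12_2 (iv F1441) D1592 (iv D799)
def n1593 : Q := act 5 n794
theorem D1593 : act 5 n794 = n1593 := rfl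
theorem F2626 : act 0 n1593 = n912 := d4_1 D1593 (iv D912) (iv F1440)
theorem F2627 : act 3 n1593 = n795 := d16_1 D1593 (iv D795) D794
theorem F2628 : act 4 n1593 = n800 := d18_1 D1593 (iv D800) (iv F1441)
def n1594 : Q := act 6 n794
theorem D1594 : act 6 n794 = n1594 := rfl
theorem F2629 : act 0 n1594 = n913 := d5_1 D1594 (iv D913) (iv F1440)
theorem F2630 : act 3 n1594 = n796 := d17_1 D1594 (iv D796) D794
theorem F2631 : act 4 n1594 = n801 := d19_1 D1594 (iv D801) (iv F1441)
def n1595 : Q := act 1 n795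
theorem D1595 : act 1 n795 = n1595 := rfl
theorem F2632 : act 4 n1595 = n797 := d8_2 (iv F1443) D1595 (iv D797)
def n1596 : Q := act 1 n796
theorem D1596 : act 1 n796 = n1596 := rfl
theorem F2633 : act 4 n1596 = n798 := d8_2 (iv F1445) D1596 (iv D798)
def n1597 : Q := act 0 n797
theorem D1597 : act 0 n797 = n1597 := rfl
def n1598 : Q := act 2 n797
theorem D1598 : act 2 n797 = n1598 := rfl
def n1599 : Q := act 6 n797
theorem D1599 : act 6 n797 = n1599 := rfl
theorem F2635 : act 3 n1599 = n806 := d17_1 D1599 (iv D806) (iv F1446)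
def n1600 : Q := act 0 n798
theorem D1600 : act 0 n798 = n1600 := rfl
theorem F2636 : act 3 n1600 = n807 := d2_2 (iv F1447) D1600 (iv D807)
def n1603 : Q := act 1 n799
theorem D1603 : act 1 n799 = n1603 := rfl
theorem F2638 : act 3 n1603 = n926 := d7_2 (iv F1449) D1603 (iv D926)
def n1604 : Q := act 5 n799
theorem D1604 : act 5 n799 = n1604 := rfl
theorem F2639 : act 0 n1604 = n927 := d4_1 D1604 (iv D927) (iv F1448)
theorem F2640 : act 2 n1604 = n800 := d13_1 D1604 (iv D800) D799
theorem F2641 : act 3 n1604 = n927 := d16_1 D1604 (iv D927) (iv F1449)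
def n1605 : Q := act 6 n799
theorem D1605 : act 6 n799 = n1605 := rfl
theorem F2642 : act 0 n1605 = n928 := d5_1 D1605 (iv D928) (iv F1448)
theorem F2643 : act 2 n1605 = n801 := d14_1 D1605 (iv D801) D799
theorem F2644 : act 3 n1605 = n928 := d17_1 D1605 (iv D928) (iv F1449)
def n1606 : Q := act 1 n800
theorem D1606 : act 1 n800 = n1606 := rfl
theorem F2645 : act 3 n1606 = n802 := d7_2 (iv F1451) D1606 (iv D802)
def n1607 : Q := act 1 n801
theorem D1607 : act 1 n801 = n1607 := rfl
theorem F2646 : act 3 n1607 = n803 := d7_2 (iv F1453) D1607 (iv D803)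
def n1608 : Q := act 0 n802
theorem D1608 : act 0 n802 = n1608 := rfl
def n1609 : Q := act 2 n802
theorem D1609 : act 2 n802 = n1609 := rfl
theorem F2648 : act 1 n1609 = n810 := d6_1 D1609 (iv D810) (iv D412) (iv F794) D802
def n1611 : Q := act 0 n803
theorem D1611 : act 0 n803 = n1611 := rfl
theorem F2651 : act 4 n1611 = n807 := d3_2 (iv F1455) D1611 (iv D807)
def n1612 : Q := act 2 n803
theorem D1612 : act 2 n803 = n1612 := rfl
def n1614 : Q := act 1 n804
theorem D1614 : act 1 n804 = n1614 := rfl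
def n1615 : Q := act 2 n804
theorem D1615 : act 2 n804 = n1615 := rfl
theorem F2655 : act 0 n1615 = n805 := d1_1 D1615 (iv D805) D804
def n1616 : Q := act 6 n804
theorem D1616 : act 6 n804 = n1616 := rfl
theorem F2657 : act 5 n1616 = n1586 := d22_2 F2618 D1616 (iv D1586) D1584
def n1618 : Q := act 6 n805
theorem D1618 : act 6 n805 = n1618 := rfl
theorem F2659 : act 2 n1618 = n806 := d14_1 D1618 (iv D806) D805
def n1619 : Q := act 5 n806
theorem D1619 : act 5 n806 = n1619 := rfl
theorem F2661 : act 6 n1619 = n1584 := d20_2 D806 D1619 F2618 D1616 F2657 (iv D1586) F1433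
def n1620 : Q := act 1 n807
theorem D1620 : act 1 n807 = n1620 := rfl
def n1621 : Q := act 2 n807
theorem D1621 : act 2 n807 = n1621 := rfl
theorem F2662 : act 0 n1621 = n808 := d1_1 D1621 (iv D808) D807
def n1622 : Q := act 5 n807
theorem D1622 : act 5 n807 = n1622 := rfl
theorem F2664 : act 6 n1622 = n1590 := d22_1 D1622 (iv D1590) F1436 D807
def n1624 : Q := act 5 n808
theorem D1624 : act 5 n808 = n1624 := rfl
def n1625 : Q := act 6 n809
theorem D1625 : act 6 n809 = n1625 := rfl
theorem F2668 : act 5 n1625 = n1588 := d20_1 D1625 F2621 D1622 F2664 (iv D1590) F1436 D809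
def n1648 : Q := act 3 n821
theorem D1648 : act 3 n821 = n1648 := rfl
theorem F2701 : act 1 n1648 = n1566 := d7_1 D1648 (iv D1566) (iv F1482)
def n1649 : Q := act 4 n821
theorem D1649 : act 4 n821 = n1649 := rfl
theorem F2702 : act 1 n1649 = n1567 := d8_1 D1649 (iv D1567) (iv F1482)
def n1674 : Q := act 2 n832
theorem D1674 : act 2 n832 = n1674 := rfl
def n1675 : Q := act 5 n832
theorem D1675 : act 5 n832 = n1675 := rfl
theorem F2739 : act 3 n1675 = n833 := d16_1 D1675 (iv D833) D832
def n1678 : Q := act 6 n833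
theorem D1678 : act 6 n833 = n1678 := rfl
theorem F2744 : act 2 n1678 = n917 := d14_1 D1678 F1632 (iv F1499)
theorem F2746 : act 5 n1678 = n908 := d22_2 D833 D1678 (iv D908) F886
def n1680 : Q := act 5 n834
theorem D1680 : act 5 n834 = n1680 := rfl
theorem F2749 : act 2 n1680 = n915 := d13_1 D1680 F1628 (iv F1501)
theorem F2751 : act 6 n1680 = n907 := d20_2 D834 D1680 (iv D907) D908 (iv F2746) (iv D1678) (iv D833)
def n1684 : Q := act 1 n836
theorem D1684 : act 1 n836 = n1684 := rfl
def n1688 : Q := act 1 n838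
theorem D1688 : act 1 n838 = n1688 := rfl
def n1722 : Q := act 2 n853
theorem D1722 : act 2 n853 = n1722 := rfl
theorem F2797 : act 1 n1722 = n864 := d6_1 D1722 (iv D864) (iv D440) (iv F832) D853
def n1737 : Q := act 3 n864
theorem D1737 : act 3 n864 = n1737 := rfl
theorem F2830 : act 2 n1737 = n1179 := d21_2 D864 D1737 F1990 F1103 F591 (iv F608) (iv F1127) F1126
def n1744 : Q := act 4 n867
theorem D1744 : act 4 n867 = n1744 := rfl
theorem F2838 : act 1 n1744 = n987 := d8_1 D1744 (iv D987) (iv F1555)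
theorem F2839 : act 2 n1744 = n869 := d12_1 D1744 (iv D869) D867
def n1745 : Q := act 5 n867
theorem D1745 : act 5 n867 = n1745 := rfl
theorem F2840 : act 2 n1745 = n870 := d13_1 D1745 (iv D870) D867
def n1747 : Q := act 4 n868
theorem D1747 : act 4 n868 = n1747 := rfl
theorem F2842 : act 1 n1747 = n872 := d8_1 D1747 (iv D872) (iv F1556)
def n1748 : Q := act 5 n868
theorem D1748 : act 5 n868 = n1748 := rfl
theorem F2844 : act 2 n1748 = n904 := d13_1 D1748 (iv D904) F1557
theorem F2845 : act 3 n1748 = n870 := d16_1 D1748 (iv D870) D868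
def n1749 : Q := act 6 n868
theorem D1749 : act 6 n868 = n1749 := rfl
def n1750 : Q := act 3 n869
theorem D1750 : act 3 n869 = n1750 := rfl
theorem F2848 : act 1 n1750 = n875 := d7_1 D1750 (iv D875) (iv F1558)
def n1751 : Q := act 5 n869
theorem D1751 : act 5 n869 = n1751 := rfl
theorem F2849 : act 4 n1751 = n870 := d18_1 D1751 (iv D870) D869
def n1752 : Q := act 6 n869
theorem D1752 : act 6 n869 = n1752 := rfl
def n1753 : Q := act 1 n870
theorem D1753 : act 1 n870 = n1753 := rfl
theorem F2851 : act 5 n1753 = n878 := d9_2 D870 D1753 (iv D878) (iv D445) D442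
def n1755 : Q := act 1 n871
theorem D1755 : act 1 n871 = n1755 := rfl
theorem F2853 : act 6 n1755 = n879 := d10_2 D871 D1755 (iv D879) (iv D446) D442
def n1756 : Q := act 5 n871
theorem D1756 : act 5 n871 = n1756 := rfl
def n1757 : Q := act 3 n872
theorem D1757 : act 3 n872 = n1757 := rfl
theorem F2856 : act 0 n1757 = n880 := d2_1 D1757 (iv D880) (iv F1559)
theorem F2857 : act 4 n1757 = n875 := d15_2 D872 D1757 (iv D875) (iv D444) D443
def n1758 : Q := act 5 n872
theorem D1758 : act 5 n872 = n1758 := rfl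
theorem F2858 : act 0 n1758 = n881 := d4_1 D1758 (iv D881) (iv F1559)
theorem F2859 : act 2 n1758 = n881 := d13_1 D1758 (iv D881) (iv F1560)
theorem F2860 : act 4 n1758 = n873 := d18_1 D1758 (iv D873) D872
def n1759 : Q := act 6 n872
theorem D1759 : act 6 n872 = n1759 := rfl
theorem F2861 : act 0 n1759 = n882 := d5_1 D1759 (iv D882) (iv F1559)
theorem F2862 : act 2 n1759 = n882 := d14_1 D1759 (iv D882) (iv F1560)
theorem F2863 : act 4 n1759 = n874 := d19_1 D1759 (iv D874) D872
def n1760 : Q := act 1 n873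
theorem D1760 : act 1 n873 = n1760 := rfl
theorem F2864 : act 3 n1760 = n878 := d7_2 (iv F1563) D1760 (iv D878)
def n1761 : Q := act 1 n874
theorem D1761 : act 1 n874 = n1761 := rfl
theorem F2865 : act 3 n1761 = n879 := d7_2 (iv F1566) D1761 (iv D879)
def n1762 : Q := act 2 n875
theorem D1762 : act 2 n875 = n1762 := rfl
theorem F2866 : act 0 n1762 = n887 := d1_1 D1762 (iv D887) (iv F1567)
def n1763 : Q := act 5 n875
theorem D1763 : act 5 n875 = n1763 := rfl
theorem F2867 : act 0 n1763 = n888 := d4_1 D1763 (iv D888) (iv F1567)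
theorem F2868 : act 3 n1763 = n876 := d16_1 D1763 (iv D876) D875
def n1764 : Q := act 6 n875
theorem D1764 : act 6 n875 = n1764 := rfl
theorem F2869 : act 0 n1764 = n889 := d5_1 D1764 (iv D889) (iv F1567)
theorem F2870 : act 3 n1764 = n877 := d17_1 D1764 (iv D877) D875
def n1765 : Q := act 1 n876
theorem D1765 : act 1 n876 = n1765 := rfl
theorem F2871 : act 4 n1765 = n878 := d8_2 (iv F1570) D1765 (iv D878)
def n1766 : Q := act 1 n877
theorem D1766 : act 1 n877 = n1766 := rfl
theorem F2872 : act 4 n1766 = n879 := d8_2 (iv F1573) D1766 (iv D879)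
def n1767 : Q := act 0 n878
theorem D1767 : act 0 n878 = n1767 := rfl
def n1768 : Q := act 2 n878
theorem D1768 : act 2 n878 = n1768 := rfl
theorem F2873 : act 1 n1768 = n1011 := d6_1 D1768 (iv D1011) (iv D512) (iv F867) D878
theorem F2874 : act 5 n1767 = n1768 := d23_0 (iv D1768) (iv D878) F866 (iv D230) F231 (iv D57) F70 D34 F82 F52 (iv F73) (iv D28) D26 D57 D127 D260 (iv F867) D878 D1767
theorem F2875 : act 0 n1768 = n1753 := d4_1 F2874 F2851 D1767
theorem F2876 : act 2 n1753 = n1767 := d13_3 F2874 (iv D1768) (iv F2851)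
def n1769 : Q := act 6 n878
theorem D1769 : act 6 n878 = n1769 := rfl
def n1770 : Q := act 0 n879
theorem D1770 : act 0 n879 = n1770 := rfl
def n1771 : Q := act 2 n879
theorem D1771 : act 2 n879 = n1771 := rfl
theorem F2877 : act 1 n1771 = n1014 := d6_1 D1771 (iv D1014) (iv D513) (iv F869) D879
def n1772 : Q := act 5 n879
theorem D1772 : act 5 n879 = n1772 := rfl
def n1773 : Q := act 2 n880
theorem D1773 : act 2 n880 = n1773 := rfl
theorem F2878 : act 4 n1773 = n887 := d12_2 (iv F1575) D1773 (iv D887)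
def n1774 : Q := act 5 n880
theorem D1774 : act 5 n880 = n1774 := rfl
theorem F2879 : act 3 n1774 = n881 := d16_1 D1774 (iv D881) D880
theorem F2880 : act 4 n1774 = n888 := d18_1 D1774 (iv D888) (iv F1575)
def n1775 : Q := act 6 n880
theorem D1775 : act 6 n880 = n1775 := rfl
theorem F2881 : act 3 n1775 = n882 := d17_1 D1775 (iv D882) D880
theorem F2882 : act 4 n1775 = n889 := d19_1 D1775 (iv D889) (iv F1575)
def n1776 : Q := act 1 n881
theorem D1776 : act 1 n881 = n1776 := rfl
theorem F2883 : act 4 n1776 = n883 := d8_2 (iv F1576) D1776 (iv D883)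
theorem F2884 : act 5 n1776 = n914 := d9_2 D881 D1776 (iv D914) (iv D462) (iv F870)
def n1777 : Q := act 6 n881
theorem D1777 : act 6 n881 = n1777 := rfl
theorem F2885 : act 4 n1777 = n884 := d19_1 D1777 (iv D884) (iv F1576)
theorem F2886 : act 5 n1777 = n1759 := d22_2 D881 D1777 (iv D1759) F1559
def n1778 : Q := act 1 n882
theorem D1778 : act 1 n882 = n1778 := rfl
theorem F2887 : act 4 n1778 = n885 := d8_2 (iv F1577) D1778 (iv D885)
theorem F2888 : act 6 n1778 = n916 := d10_2 D882 D1778 (iv D916) (iv D463) (iv F870)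
def n1779 : Q := act 5 n882
theorem D1779 : act 5 n882 = n1779 := rfl
theorem F2889 : act 0 n1779 = n1777 := d4_1 D1779 F2886 F2861
theorem F2890 : act 2 n1779 = n1777 := d13_1 D1779 F2886 F2862
theorem F2891 : act 4 n1779 = n886 := d18_1 D1779 (iv D886) (iv F1577)
theorem F2892 : act 6 n1779 = n1758 := d20_2 D882 D1779 (iv D1758) D1759 (iv F2886) (iv D1777) (iv D881)
def n1780 : Q := act 0 n883
theorem D1780 : act 0 n883 = n1780 := rfl
theorem F2893 : act 3 n1780 = n894 := d2_2 (iv F1578) D1780 (iv D894)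
theorem F2894 : act 5 n1780 = n918 := d4_2 (iv F1579) D1780 (iv D918)
def n1781 : Q := act 2 n883
theorem D1781 : act 2 n883 = n1781 := rfl
theorem F2895 : act 5 n1781 = n919 := d13_2 (iv F1579) D1781 (iv D919)
def n1782 : Q := act 6 n883
theorem D1782 : act 6 n883 = n1782 := rfl
theorem F2896 : act 3 n1782 = n896 := d17_1 D1782 (iv D896) (iv F1578)
def n1783 : Q := act 1 n884
theorem D1783 : act 1 n884 = n1783 := rfl
theorem F2897 : act 3 n1783 = n897 := d7_2 (iv F1580) D1783 (iv D897)
def n1784 : Q := act 0 n885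
theorem D1784 : act 0 n885 = n1784 := rfl
theorem F2898 : act 3 n1784 = n898 := d2_2 (iv F1582) D1784 (iv D898)
theorem F2899 : act 6 n1784 = n922 := d5_2 (iv F1583) D1784 (iv D922)
def n1785 : Q := act 2 n885
theorem D1785 : act 2 n885 = n1785 := rfl
theorem F2900 : act 6 n1785 = n923 := d14_2 (iv F1583) D1785 (iv D923)
def n1786 : Q := act 5 n885
theorem D1786 : act 5 n885 = n1786 := rfl
theorem F2901 : act 3 n1786 = n900 := d16_1 D1786 (iv D900) (iv F1582)
def n1787 : Q := act 1 n886
theorem D1787 : act 1 n886 = n1787 := rfl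
theorem F2902 : act 3 n1787 = n901 := d7_2 (iv F1586) D1787 (iv D901)
def n1788 : Q := act 1 n887
theorem D1788 : act 1 n887 = n1788 := rfl
theorem F2903 : act 2 n1788 = n926 := d6_2 D887 D1788 (iv D926) (iv D468) (iv F873)
def n1789 : Q := act 3 n887
theorem D1789 : act 3 n887 = n1789 := rfl
def n1790 : Q := act 5 n887
theorem D1790 : act 5 n887 = n1790 := rfl
theorem F2904 : act 2 n1790 = n888 := d13_1 D1790 (iv D888) D887
def n1791 : Q := act 6 n887
theorem D1791 : act 6 n887 = n1791 := rfl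
theorem F2905 : act 2 n1791 = n889 := d14_1 D1791 (iv D889) D887
def n1792 : Q := act 1 n888
theorem D1792 : act 1 n888 = n1792 := rfl
theorem F2906 : act 3 n1792 = n890 := d7_2 (iv F1588) D1792 (iv D890)
theorem F2907 : act 5 n1792 = n929 := d9_2 D888 D1792 (iv D929) (iv D469) (iv F873)
def n1793 : Q := act 6 n888
theorem D1793 : act 6 n888 = n1793 := rfl
theorem F2908 : act 3 n1793 = n891 := d17_1 D1793 (iv D891) (iv F1588)
theorem F2909 : act 5 n1793 = n1764 := d22_2 D888 D1793 (iv D1764) F1567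
def n1794 : Q := act 1 n889
theorem D1794 : act 1 n889 = n1794 := rfl
theorem F2910 : act 3 n1794 = n892 := d7_2 (iv F1589) D1794 (iv D892)
theorem F2911 : act 6 n1794 = n931 := d10_2 D889 D1794 (iv D931) (iv D470) (iv F873)
def n1795 : Q := act 5 n889
theorem D1795 : act 5 n889 = n1795 := rfl
theorem F2912 : act 0 n1795 = n1793 := d4_1 D1795 F2909 F2869
theorem F2913 : act 3 n1795 = n893 := d16_1 D1795 (iv D893) (iv F1589)
theorem F2914 : act 6 n1795 = n1763 := d20_2 D889 D1795 (iv D1763) D1764 (iv F2909) (iv D1793) (iv D888)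
def n1796 : Q := act 0 n890
theorem D1796 : act 0 n890 = n1796 := rfl
theorem F2915 : act 4 n1796 = n894 := d3_2 (iv F1590) D1796 (iv D894)
theorem F2916 : act 5 n1796 = n933 := d4_2 (iv F1591) D1796 (iv D933)
def n1797 : Q := act 2 n890
theorem D1797 : act 2 n890 = n1797 := rfl
theorem F2917 : act 1 n1797 = n1040 := d6_1 D1797 (iv D1040) (iv D524) (iv F874) D890
theorem F2918 : act 4 n1797 = n895 := d12_2 (iv F1590) D1797 (iv D895)
theorem F2919 : act 5 n1797 = n934 := d13_2 (iv F1591) D1797 (iv D934)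
def n1798 : Q := act 6 n890
theorem D1798 : act 6 n890 = n1798 := rfl
theorem F2920 : act 4 n1798 = n896 := d19_1 D1798 (iv D896) (iv F1590)
def n1799 : Q := act 1 n891
theorem D1799 : act 1 n891 = n1799 := rfl
theorem F2921 : act 4 n1799 = n897 := d8_2 (iv F1593) D1799 (iv D897)
def n1800 : Q := act 0 n892
theorem D1800 : act 0 n892 = n1800 := rfl
theorem F2922 : act 4 n1800 = n898 := d3_2 (iv F1595) D1800 (iv D898)
theorem F2923 : act 6 n1800 = n937 := d5_2 (iv F1596) D1800 (iv D937)
def n1801 : Q := act 2 n892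
theorem D1801 : act 2 n892 = n1801 := rfl
theorem F2924 : act 1 n1801 = n1044 := d6_1 D1801 (iv D1044) (iv D526) (iv F876) D892
theorem F2925 : act 4 n1801 = n899 := d12_2 (iv F1595) D1801 (iv D899)
theorem F2926 : act 6 n1801 = n938 := d14_2 (iv F1596) D1801 (iv D938)
def n1802 : Q := act 5 n892
theorem D1802 : act 5 n892 = n1802 := rfl
theorem F2927 : act 4 n1802 = n900 := d18_1 D1802 (iv D900) (iv F1595)
def n1803 : Q := act 1 n893
theorem D1803 : act 1 n893 = n1803 := rfl
theorem F2928 : act 4 n1803 = n901 := d8_2 (iv F1599) D1803 (iv D901)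
def n1804 : Q := act 1 n894
theorem D1804 : act 1 n894 = n1804 := rfl
def n1805 : Q := act 2 n894
theorem D1805 : act 2 n894 = n1805 := rfl
theorem F2929 : act 0 n1805 = n895 := d1_1 D1805 (iv D895) D894
theorem F2930 : act 5 n1805 = n942 := d13_2 (iv F1601) D1805 (iv D942)
def n1806 : Q := act 3 n895
theorem D1806 : act 3 n895 = n1806 := rfl
theorem F2931 : act 1 n1806 = n1049 := d7_1 D1806 (iv D1049) (iv F1602)
theorem F2932 : act 5 n1806 = n944 := d16_2 (iv F1603) D1806 (iv D944)
def n1807 : Q := act 6 n895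
theorem D1807 : act 6 n895 = n1807 := rfl
theorem F2933 : act 2 n1807 = n896 := d14_1 D1807 (iv D896) D895
def n1808 : Q := act 1 n896
theorem D1808 : act 1 n896 = n1808 := rfl
theorem F2934 : act 6 n1808 = n897 := d10_2 D896 D1808 (iv D897) (iv D454) D453
def n1809 : Q := act 0 n897
theorem D1809 : act 0 n897 = n1809 := rfl
def n1810 : Q := act 2 n897
theorem D1810 : act 2 n897 = n1810 := rfl
theorem F2935 : act 1 n1810 = n1053 := d6_1 D1810 (iv D1053) (iv D531) (iv F879) D897
def n1811 : Q := act 5 n897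
theorem D1811 : act 5 n897 = n1811 := rfl
theorem F2936 : act 1 n1811 = n1772 := d9_1 D1811 (iv D1772) (iv D879) (iv F880) D897
def n1812 : Q := act 1 n898
theorem D1812 : act 1 n898 = n1812 := rfl
def n1813 : Q := act 2 n898
theorem D1813 : act 2 n898 = n1813 := rfl
theorem F2937 : act 0 n1813 = n899 := d1_1 D1813 (iv D899) D898
theorem F2938 : act 6 n1813 = n952 := d14_2 (iv F1604) D1813 (iv D952)
def n1814 : Q := act 3 n899
theorem D1814 : act 3 n899 = n1814 := rfl
theorem F2939 : act 1 n1814 = n1057 := d7_1 D1814 (iv D1057) (iv F1605)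
theorem F2940 : act 6 n1814 = n954 := d17_2 (iv F1606) D1814 (iv D954)
def n1815 : Q := act 5 n899
theorem D1815 : act 5 n899 = n1815 := rfl
theorem F2941 : act 2 n1815 = n900 := d13_1 D1815 (iv D900) D899
def n1816 : Q := act 1 n900
theorem D1816 : act 1 n900 = n1816 := rfl
theorem F2942 : act 5 n1816 = n901 := d9_2 D900 D1816 (iv D901) (iv D456) D455
def n1817 : Q := act 0 n901
theorem D1817 : act 0 n901 = n1817 := rfl
def n1818 : Q := act 2 n901
theorem D1818 : act 2 n901 = n1818 := rfl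
theorem F2943 : act 1 n1818 = n1061 := d6_1 D1818 (iv D1061) (iv D535) (iv F883) D901
def n1819 : Q := act 6 n901
theorem D1819 : act 6 n901 = n1819 := rfl
theorem F2944 : act 1 n1819 = n1769 := d10_1 D1819 (iv D1769) (iv D878) (iv F884) D901
def n1827 : Q := act 1 n904
theorem D1827 : act 1 n904 = n1827 := rfl
theorem F2956 : act 5 n1827 = n909 := d9_2 D904 D1827 (iv D909) (iv D459) D457
def n1831 : Q := act 2 n906
theorem D1831 : act 2 n906 = n1831 := rfl
theorem F2964 : act 0 n1831 = n1674 := d1_1 D1831 (iv D1674) (iv F1611)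
def n1832 : Q := act 5 n906
theorem D1832 : act 5 n906 = n1832 := rfl
theorem F2967 : act 3 n1832 = n907 := d16_1 D1832 (iv D907) D906
def n1834 : Q := act 1 n907
theorem D1834 : act 1 n907 = n1834 := rfl
theorem F2972 : act 4 n1834 = n909 := d8_2 (iv F1615) D1834 (iv D909)
def n1835 : Q := act 1 n908
theorem D1835 : act 1 n908 = n1835 := rfl
theorem F2973 : act 4 n1835 = n910 := d8_2 (iv F1618) D1835 (iv D910)
def n1837 : Q := act 2 n909
theorem D1837 : act 2 n909 = n1837 := rfl
theorem F2975 : act 1 n1837 = n919 := d6_1 D1837 (iv D919) (iv D464) (iv F889) D909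
def n1840 : Q := act 2 n910
theorem D1840 : act 2 n910 = n1840 := rfl
theorem F2978 : act 1 n1840 = n923 := d6_1 D1840 (iv D923) (iv D466) (iv F892) D910
def n1842 : Q := act 1 n911
theorem D1842 : act 1 n911 = n1842 := rfl
theorem F2980 : act 4 n1842 = n926 := d8_2 (iv F1621) D1842 (iv D926)
def n1843 : Q := act 3 n911
theorem D1843 : act 3 n911 = n1843 := rfl
def n1844 : Q := act 5 n911
theorem D1844 : act 5 n911 = n1844 := rfl
theorem F2981 : act 2 n1844 = n912 := d13_1 D1844 (iv D912) D911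
theorem F2982 : act 4 n1844 = n927 := d18_1 D1844 (iv D927) (iv F1621)
def n1845 : Q := act 6 n911
theorem D1845 : act 6 n911 = n1845 := rfl
theorem F2983 : act 2 n1845 = n913 := d14_1 D1845 (iv D913) D911
theorem F2984 : act 4 n1845 = n928 := d19_1 D1845 (iv D928) (iv F1621)
def n1846 : Q := act 1 n912
theorem D1846 : act 1 n912 = n1846 := rfl
theorem F2985 : act 3 n1846 = n914 := d7_2 (iv F1622) D1846 (iv D914)
theorem F2986 : act 4 n1846 = n929 := d8_2 (iv F1623) D1846 (iv D929)
def n1847 : Q := act 6 n912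
theorem D1847 : act 6 n912 = n1847 := rfl
theorem F2987 : act 3 n1847 = n915 := d17_1 D1847 (iv D915) (iv F1622)
theorem F2988 : act 4 n1847 = n930 := d19_1 D1847 (iv D930) (iv F1623)
theorem F2989 : act 5 n1847 = n1594 := d22_2 D912 D1847 (iv D1594) F1440
def n1848 : Q := act 1 n913
theorem D1848 : act 1 n913 = n1848 := rfl
theorem F2990 : act 3 n1848 = n916 := d7_2 (iv F1624) D1848 (iv D916)
theorem F2991 : act 4 n1848 = n931 := d8_2 (iv F1625) D1848 (iv D931)
def n1849 : Q := act 5 n913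
theorem D1849 : act 5 n913 = n1849 := rfl
theorem F2992 : act 0 n1849 = n1847 := d4_1 D1849 F2989 F2629
theorem F2993 : act 3 n1849 = n917 := d16_1 D1849 (iv D917) (iv F1624)
theorem F2994 : act 4 n1849 = n932 := d18_1 D1849 (iv D932) (iv F1625)
theorem F2995 : act 6 n1849 = n1593 := d20_2 D913 D1849 (iv D1593) D1594 (iv F2989) (iv D1847) (iv D912)
def n1850 : Q := act 0 n914
theorem D1850 : act 0 n914 = n1850 := rfl
theorem F2996 : act 4 n1850 = n918 := d3_2 (iv F1626) D1850 (iv D918)
def n1851 : Q := act 2 n914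
theorem D1851 : act 2 n914 = n1851 := rfl
theorem F2997 : act 4 n1851 = n919 := d12_2 (iv F1626) D1851 (iv D919)
def n1852 : Q := act 6 n914
theorem D1852 : act 6 n914 = n1852 := rfl
theorem F2998 : act 4 n1852 = n920 := d19_1 D1852 (iv D920) (iv F1626)
def n1853 : Q := act 1 n915
theorem D1853 : act 1 n915 = n1853 := rfl
theorem F2999 : act 4 n1853 = n921 := d8_2 (iv F1627) D1853 (iv D921)
def n1854 : Q := act 0 n916
theorem D1854 : act 0 n916 = n1854 := rfl
theorem F3000 : act 4 n1854 = n922 := d3_2 (iv F1629) D1854 (iv D922)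
def n1855 : Q := act 2 n916
theorem D1855 : act 2 n916 = n1855 := rfl
theorem F3001 : act 4 n1855 = n923 := d12_2 (iv F1629) D1855 (iv D923)
def n1856 : Q := act 5 n916
theorem D1856 : act 5 n916 = n1856 := rfl
theorem F3002 : act 4 n1856 = n924 := d18_1 D1856 (iv D924) (iv F1629)
def n1857 : Q := act 1 n917
theorem D1857 : act 1 n917 = n1857 := rfl
theorem F3003 : act 4 n1857 = n925 := d8_2 (iv F1631) D1857 (iv D925)
def n1858 : Q := act 1 n918
theorem D1858 : act 1 n918 = n1858 := rfl
theorem F3004 : act 3 n1858 = n941 := d7_2 (iv F1633) D1858 (iv D941)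
def n1859 : Q := act 2 n918
theorem D1859 : act 2 n918 = n1859 := rfl
def n1860 : Q := act 6 n918
theorem D1860 : act 6 n918 = n1860 := rfl
theorem F3006 : act 0 n1860 = n920 := d5_1 D1860 (iv D920) D918
theorem F3007 : act 3 n1860 = n943 := d17_1 D1860 (iv D943) (iv F1633)
theorem F3008 : act 5 n1860 = n1782 := d22_2 F2894 D1860 (iv D1782) D1780
def n1861 : Q := act 3 n919
theorem D1861 : act 3 n919 = n1861 := rfl
def n1862 : Q := act 6 n919
theorem D1862 : act 6 n919 = n1862 := rfl
theorem F3009 : act 2 n1862 = n920 := d14_1 D1862 (iv D920) D919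
def n1863 : Q := act 1 n920
theorem D1863 : act 1 n920 = n1863 := rfl
theorem F3010 : act 3 n1863 = n946 := d7_2 (iv F1634) D1863 (iv D946)
theorem F3011 : act 6 n1863 = n921 := d10_2 D920 D1863 (iv D921) (iv D465) D464
def n1864 : Q := act 5 n920
theorem D1864 : act 5 n920 = n1864 := rfl
theorem F3012 : act 0 n1864 = n1782 := d4_1 D1864 (iv F3008) F3006
theorem F3013 : act 3 n1864 = n947 := d16_1 D1864 (iv D947) (iv F1634)
theorem F3014 : act 6 n1864 = n1780 := d20_2 D920 D1864 F2894 D1860 F3008 (iv D1782) F1579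
def n1865 : Q := act 0 n921
theorem D1865 : act 0 n921 = n1865 := rfl
theorem F3015 : act 3 n1865 = n948 := d2_2 (iv F1635) D1865 (iv D948)
def n1866 : Q := act 2 n921
theorem D1866 : act 2 n921 = n1866 := rfl
def n1867 : Q := act 5 n921
theorem D1867 : act 5 n921 = n1867 := rfl
theorem F3017 : act 3 n1867 = n950 := d16_1 D1867 (iv D950) (iv F1635)
def n1868 : Q := act 1 n922
theorem D1868 : act 1 n922 = n1868 := rfl
theorem F3018 : act 3 n1868 = n951 := d7_2 (iv F1636) D1868 (iv D951)
def n1869 : Q := act 2 n922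
theorem D1869 : act 2 n922 = n1869 := rfl
theorem F3019 : act 0 n1869 = n923 := d1_1 D1869 (iv D923) D922
def n1870 : Q := act 5 n922
theorem D1870 : act 5 n922 = n1870 := rfl
theorem F3020 : act 0 n1870 = n924 := d4_1 D1870 (iv D924) D922
theorem F3021 : act 3 n1870 = n953 := d16_1 D1870 (iv D953) (iv F1636)
theorem F3022 : act 6 n1870 = n1786 := d22_1 D1870 (iv D1786) F1583 D922
def n1871 : Q := act 3 n923
theorem D1871 : act 3 n923 = n1871 := rfl
def n1872 : Q := act 5 n923
theorem D1872 : act 5 n923 = n1872 := rfl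
theorem F3023 : act 2 n1872 = n924 := d13_1 D1872 (iv D924) D923
def n1873 : Q := act 1 n924
theorem D1873 : act 1 n924 = n1873 := rfl
theorem F3024 : act 3 n1873 = n956 := d7_2 (iv F1637) D1873 (iv D956)
theorem F3025 : act 5 n1873 = n925 := d9_2 D924 D1873 (iv D925) (iv D467) D466
def n1874 : Q := act 6 n924
theorem D1874 : act 6 n924 = n1874 := rfl
theorem F3026 : act 0 n1874 = n1786 := d5_1 D1874 (iv F3022) F3020
theorem F3027 : act 3 n1874 = n957 := d17_1 D1874 (iv D957) (iv F1637)
theorem F3028 : act 5 n1874 = n1784 := d20_1 D1874 F2899 D1870 F3022 (iv D1786) F1583 D924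
def n1875 : Q := act 0 n925
theorem D1875 : act 0 n925 = n1875 := rfl
theorem F3029 : act 3 n1875 = n958 := d2_2 (iv F1638) D1875 (iv D958)
def n1876 : Q := act 2 n925
theorem D1876 : act 2 n925 = n1876 := rfl
def n1877 : Q := act 6 n925
theorem D1877 : act 6 n925 = n1877 := rfl
theorem F3030 : act 1 n1877 = n1599 := d10_1 D1877 (iv D1599) (iv D797) (iv F903) D925
theorem F3031 : act 3 n1877 = n960 := d17_1 D1877 (iv D960) (iv F1638)
def n1878 : Q := act 0 n926
theorem D1878 : act 0 n926 = n1878 := rfl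
def n1879 : Q := act 5 n926
theorem D1879 : act 5 n926 = n1879 := rfl
def n1880 : Q := act 6 n926
theorem D1880 : act 6 n926 = n1880 := rfl
def n1881 : Q := act 1 n927
theorem D1881 : act 1 n927 = n1881 := rfl
def n1882 : Q := act 6 n927
theorem D1882 : act 6 n927 = n1882 := rfl
theorem F3032 : act 2 n1882 = n930 := d14_1 D1882 (iv D930) (iv F1639)
theorem F3033 : act 5 n1882 = n1605 := d22_2 D927 D1882 (iv D1605) F1448
def n1883 : Q := act 1 n928
theorem D1883 : act 1 n928 = n1883 := rfl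
def n1884 : Q := act 5 n928
theorem D1884 : act 5 n928 = n1884 := rfl
theorem F3034 : act 0 n1884 = n1882 := d4_1 D1884 F3033 F2642
theorem F3035 : act 2 n1884 = n932 := d13_1 D1884 (iv D932) (iv F1640)
theorem F3036 : act 3 n1884 = n1882 := d16_1 D1884 F3033 F2644
theorem F3037 : act 6 n1884 = n1604 := d20_2 D928 D1884 (iv D1604) D1605 (iv F3033) (iv D1882) (iv D927)
def n1885 : Q := act 0 n929
theorem D1885 : act 0 n929 = n1885 := rfl
theorem F3038 : act 3 n1885 = n933 := d2_2 (iv F1641) D1885 (iv D933)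
def n1886 : Q := act 2 n929
theorem D1886 : act 2 n929 = n1886 := rfl
def n1887 : Q := act 6 n929
theorem D1887 : act 6 n929 = n1887 := rfl
theorem F3039 : act 3 n1887 = n935 := d17_1 D1887 (iv D935) (iv F1641)
def n1888 : Q := act 1 n930
theorem D1888 : act 1 n930 = n1888 := rfl
theorem F3040 : act 3 n1888 = n936 := d7_2 (iv F1642) D1888 (iv D936)
def n1889 : Q := act 0 n931
theorem D1889 : act 0 n931 = n1889 := rfl
theorem F3041 : act 3 n1889 = n937 := d2_2 (iv F1644) D1889 (iv D937)
def n1890 : Q := act 2 n931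
theorem D1890 : act 2 n931 = n1890 := rfl
def n1891 : Q := act 5 n931
theorem D1891 : act 5 n931 = n1891 := rfl
theorem F3042 : act 3 n1891 = n939 := d16_1 D1891 (iv D939) (iv F1644)
def n1892 : Q := act 1 n932
theorem D1892 : act 1 n932 = n1892 := rfl
theorem F3043 : act 3 n1892 = n940 := d7_2 (iv F1646) D1892 (iv D940)
def n1893 : Q := act 1 n933
theorem D1893 : act 1 n933 = n1893 := rfl
theorem F3044 : act 4 n1893 = n941 := d8_2 (iv F1648) D1893 (iv D941)
def n1894 : Q := act 2 n933
theorem D1894 : act 2 n933 = n1894 := rfl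
theorem F3045 : act 0 n1894 = n934 := d1_1 D1894 (iv D934) D933
theorem F3046 : act 4 n1894 = n942 := d12_2 (iv F1648) D1894 (iv D942)
def n1895 : Q := act 6 n933
theorem D1895 : act 6 n933 = n1895 := rfl
theorem F3047 : act 0 n1895 = n935 := d5_1 D1895 (iv D935) D933
theorem F3048 : act 4 n1895 = n943 := d19_1 D1895 (iv D943) (iv F1648)
theorem F3049 : act 5 n1895 = n1798 := d22_2 F2916 D1895 (iv D1798) D1796
def n1896 : Q := act 3 n934
theorem D1896 : act 3 n934 = n1896 := rfl
theorem F3050 : act 1 n1896 = n961 := d7_1 D1896 (iv D961) (iv F1649)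
def n1897 : Q := act 6 n934
theorem D1897 : act 6 n934 = n1897 := rfl
theorem F3051 : act 2 n1897 = n935 := d14_1 D1897 (iv D935) D934
theorem F3052 : act 4 n1897 = n945 := d19_1 D1897 (iv D945) (iv F1650)
def n1898 : Q := act 1 n935
theorem D1898 : act 1 n935 = n1898 := rfl
theorem F3053 : act 4 n1898 = n946 := d8_2 (iv F1651) D1898 (iv D946)
theorem F3054 : act 6 n1898 = n936 := d10_2 D935 D1898 (iv D936) (iv D472) D471
def n1899 : Q := act 5 n935
theorem D1899 : act 5 n935 = n1899 := rfl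
theorem F3055 : act 0 n1899 = n1798 := d4_1 D1899 (iv F3049) F3047
theorem F3056 : act 4 n1899 = n947 := d18_1 D1899 (iv D947) (iv F1651)
theorem F3057 : act 6 n1899 = n1796 := d20_2 D935 D1899 F2916 D1895 F3049 (iv D1798) F1591
def n1900 : Q := act 0 n936
theorem D1900 : act 0 n936 = n1900 := rfl
theorem F3058 : act 4 n1900 = n948 := d3_2 (iv F1652) D1900 (iv D948)
def n1901 : Q := act 2 n936
theorem D1901 : act 2 n936 = n1901 := rfl
theorem F3059 : act 1 n1901 = n963 := d6_1 D1901 (iv D963) (iv D485) (iv F907) D936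
theorem F3060 : act 4 n1901 = n949 := d12_2 (iv F1652) D1901 (iv D949)
def n1902 : Q := act 5 n936
theorem D1902 : act 5 n936 = n1902 := rfl
def n1903 : Q := act 1 n937
theorem D1903 : act 1 n937 = n1903 := rfl
theorem F3063 : act 4 n1903 = n951 := d8_2 (iv F1653) D1903 (iv D951)
def n1904 : Q := act 2 n937
theorem D1904 : act 2 n937 = n1904 := rfl
theorem F3064 : act 0 n1904 = n938 := d1_1 D1904 (iv D938) D937
theorem F3065 : act 4 n1904 = n952 := d12_2 (iv F1653) D1904 (iv D952)
def n1905 : Q := act 5 n937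
theorem D1905 : act 5 n937 = n1905 := rfl
theorem F3066 : act 0 n1905 = n939 := d4_1 D1905 (iv D939) D937
theorem F3067 : act 4 n1905 = n953 := d18_1 D1905 (iv D953) (iv F1653)
theorem F3068 : act 6 n1905 = n1802 := d22_1 D1905 (iv D1802) F1596 D937
def n1906 : Q := act 3 n938
theorem D1906 : act 3 n938 = n1906 := rfl
theorem F3069 : act 1 n1906 = n965 := d7_1 D1906 (iv D965) (iv F1654)
def n1907 : Q := act 5 n938
theorem D1907 : act 5 n938 = n1907 := rfl
theorem F3070 : act 2 n1907 = n939 := d13_1 D1907 (iv D939) D938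
theorem F3071 : act 4 n1907 = n955 := d18_1 D1907 (iv D955) (iv F1655)
def n1908 : Q := act 1 n939
theorem D1908 : act 1 n939 = n1908 := rfl
theorem F3072 : act 4 n1908 = n956 := d8_2 (iv F1656) D1908 (iv D956)
theorem F3073 : act 5 n1908 = n940 := d9_2 D939 D1908 (iv D940) (iv D474) D473
def n1909 : Q := act 6 n939
theorem D1909 : act 6 n939 = n1909 := rfl
theorem F3074 : act 0 n1909 = n1802 := d5_1 D1909 (iv F3068) F3066
theorem F3075 : act 4 n1909 = n957 := d19_1 D1909 (iv D957) (iv F1656)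
theorem F3076 : act 5 n1909 = n1800 := d20_1 D1909 F2923 D1905 F3068 (iv D1802) F1596 D939
def n1910 : Q := act 0 n940
theorem D1910 : act 0 n940 = n1910 := rfl
theorem F3077 : act 4 n1910 = n958 := d3_2 (iv F1657) D1910 (iv D958)
def n1911 : Q := act 2 n940
theorem D1911 : act 2 n940 = n1911 := rfl
theorem F3078 : act 1 n1911 = n967 := d6_1 D1911 (iv D967) (iv D489) (iv F912) D940
theorem F3079 : act 4 n1911 = n959 := d12_2 (iv F1657) D1911 (iv D959)
def n1912 : Q := act 6 n940
theorem D1912 : act 6 n940 = n1912 := rfl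
def n1913 : Q := act 0 n941
theorem D1913 : act 0 n941 = n1913 := rfl
def n1914 : Q := act 2 n941
theorem D1914 : act 2 n941 = n1914 := rfl
def n1915 : Q := act 5 n941
theorem D1915 : act 5 n941 = n1915 := rfl
def n1916 : Q := act 6 n941
theorem D1916 : act 6 n941 = n1916 := rfl
def n1917 : Q := act 1 n942
theorem D1917 : act 1 n942 = n1917 := rfl
def n1918 : Q := act 3 n942
theorem D1918 : act 3 n942 = n1918 := rfl
theorem F3082 : act 0 n1918 = n944 := d2_1 D1918 (iv D944) (iv F1658)
def n1919 : Q := act 6 n942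
theorem D1919 : act 6 n942 = n1919 := rfl
theorem F3083 : act 0 n1919 = n945 := d5_1 D1919 (iv D945) (iv F1658)
theorem F3084 : act 2 n1919 = n943 := d14_1 D1919 (iv D943) D942
theorem F3085 : act 5 n1919 = n1807 := d22_2 F2930 D1919 (iv D1807) (iv F2929)
def n1920 : Q := act 1 n943
theorem D1920 : act 1 n943 = n1920 := rfl
def n1921 : Q := act 2 n944
theorem D1921 : act 2 n944 = n1921 := rfl
theorem F3086 : act 1 n1921 = n1118 := d6_1 D1921 (iv D1118) F1050 (iv F941) (iv F1661)
def n1922 : Q := act 4 n944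
theorem D1922 : act 4 n944 = n1922 := rfl
theorem F3087 : act 1 n1922 = n968 := d8_1 D1922 (iv D968) (iv F1661)
def n1923 : Q := act 6 n944
theorem D1923 : act 6 n944 = n1923 := rfl
theorem F3088 : act 3 n1923 = n945 := d17_1 D1923 (iv D945) D944
def n1924 : Q := act 1 n945
theorem D1924 : act 1 n945 = n1924 := rfl
theorem F3089 : act 6 n1924 = n970 := d10_2 D945 D1924 (iv D970) (iv D491) (iv F915)
def n1925 : Q := act 5 n945
theorem D1925 : act 5 n945 = n1925 := rfl
theorem F3090 : act 0 n1925 = n1807 := d4_1 D1925 (iv F3085) F3083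
theorem F3091 : act 2 n1925 = n947 := d13_1 D1925 (iv D947) (iv F1662)
theorem F3092 : act 6 n1925 = n1805 := d20_2 D945 D1925 F2930 D1919 F3085 (iv D1807) F1603
def n1926 : Q := act 0 n946
theorem D1926 : act 0 n946 = n1926 := rfl
theorem F3093 : act 6 n1926 = n948 := d5_2 (iv F1663) D1926 (iv D948)
def n1927 : Q := act 2 n946
theorem D1927 : act 2 n946 = n1927 := rfl
theorem F3094 : act 6 n1927 = n949 := d14_2 (iv F1663) D1927 (iv D949)
def n1928 : Q := act 5 n946
theorem D1928 : act 5 n946 = n1928 := rfl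
def n1929 : Q := act 1 n947
theorem D1929 : act 1 n947 = n1929 := rfl
def n1930 : Q := act 1 n948
theorem D1930 : act 1 n948 = n1930 := rfl
def n1931 : Q := act 2 n948
theorem D1931 : act 2 n948 = n1931 := rfl
theorem F3095 : act 0 n1931 = n949 := d1_1 D1931 (iv D949) D948
def n1932 : Q := act 5 n948
theorem D1932 : act 5 n948 = n1932 := rfl
theorem F3096 : act 0 n1932 = n950 := d4_1 D1932 (iv D950) D948
theorem F3097 : act 6 n1932 = n1928 := d22_1 D1932 (iv D1928) F1663 D948
def n1933 : Q := act 3 n949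
theorem D1933 : act 3 n949 = n1933 := rfl
theorem F3098 : act 1 n1933 = n971 := d7_1 D1933 (iv D971) (iv F1666)
def n1934 : Q := act 5 n949
theorem D1934 : act 5 n949 = n1934 := rfl
theorem F3099 : act 1 n1934 = n1171 := d9_1 D1934 (iv D1171) (iv D588) (iv F944) (iv F1666)
theorem F3100 : act 2 n1934 = n950 := d13_1 D1934 (iv D950) D949
def n1935 : Q := act 6 n950
theorem D1935 : act 6 n950 = n1935 := rfl
theorem F3101 : act 0 n1935 = n1928 := d5_1 D1935 (iv F3097) F3096
theorem F3102 : act 5 n1935 = n1926 := d20_1 D1935 F3093 D1932 F3097 (iv D1928) F1663 D950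
def n1936 : Q := act 0 n951
theorem D1936 : act 0 n951 = n1936 := rfl
def n1937 : Q := act 2 n951
theorem D1937 : act 2 n951 = n1937 := rfl
def n1938 : Q := act 5 n951
theorem D1938 : act 5 n951 = n1938 := rfl
def n1939 : Q := act 6 n951
theorem D1939 : act 6 n951 = n1939 := rfl
def n1940 : Q := act 1 n952
theorem D1940 : act 1 n952 = n1940 := rfl
def n1941 : Q := act 3 n952
theorem D1941 : act 3 n952 = n1941 := rfl
theorem F3103 : act 0 n1941 = n954 := d2_1 D1941 (iv D954) (iv F1668)
def n1942 : Q := act 5 n952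
theorem D1942 : act 5 n952 = n1942 := rfl
theorem F3104 : act 0 n1942 = n955 := d4_1 D1942 (iv D955) (iv F1668)
theorem F3105 : act 2 n1942 = n953 := d13_1 D1942 (iv D953) D952
theorem F3106 : act 6 n1942 = n1815 := d22_1 D1942 (iv D1815) F1606 (iv F1668)
def n1943 : Q := act 1 n953
theorem D1943 : act 1 n953 = n1943 := rfl
def n1944 : Q := act 2 n954
theorem D1944 : act 2 n954 = n1944 := rfl
def n1945 : Q := act 4 n954
theorem D1945 : act 4 n954 = n1945 := rfl
theorem F3107 : act 1 n1945 = n975 := d8_1 D1945 (iv D975) (iv F1671)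
def n1946 : Q := act 5 n954
theorem D1946 : act 5 n954 = n1946 := rfl
theorem F3108 : act 3 n1946 = n955 := d16_1 D1946 (iv D955) D954
def n1947 : Q := act 1 n955
theorem D1947 : act 1 n955 = n1947 := rfl
theorem F3109 : act 5 n1947 = n977 := d9_2 D955 D1947 (iv D977) (iv D495) (iv F916)
def n1948 : Q := act 6 n955
theorem D1948 : act 6 n955 = n1948 := rfl
theorem F3110 : act 0 n1948 = n1815 := d5_1 D1948 (iv F3106) F3104
theorem F3111 : act 2 n1948 = n957 := d14_1 D1948 (iv D957) (iv F1672)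
theorem F3112 : act 5 n1948 = n1813 := d20_1 D1948 F2938 D1942 F3106 (iv D1815) F1606 D955
def n1949 : Q := act 0 n956
theorem D1949 : act 0 n956 = n1949 := rfl
theorem F3113 : act 5 n1949 = n958 := d4_2 (iv F1673) D1949 (iv D958)
def n1950 : Q := act 2 n956
theorem D1950 : act 2 n956 = n1950 := rfl
theorem F3114 : act 5 n1950 = n959 := d13_2 (iv F1673) D1950 (iv D959)
def n1951 : Q := act 6 n956
theorem D1951 : act 6 n956 = n1951 := rfl
def n1952 : Q := act 1 n957
theorem D1952 : act 1 n957 = n1952 := rfl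
def n1953 : Q := act 1 n958
theorem D1953 : act 1 n958 = n1953 := rfl
def n1954 : Q := act 2 n958
theorem D1954 : act 2 n958 = n1954 := rfl
theorem F3115 : act 0 n1954 = n959 := d1_1 D1954 (iv D959) D958
def n1955 : Q := act 6 n958
theorem D1955 : act 6 n958 = n1955 := rfl
theorem F3117 : act 5 n1955 = n1951 := d22_2 F3113 D1955 (iv D1951) D1949
def n1956 : Q := act 3 n959
theorem D1956 : act 3 n959 = n1956 := rfl
theorem F3118 : act 1 n1956 = n978 := d7_1 D1956 (iv D978) (iv F1676)
def n1957 : Q := act 6 n959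
theorem D1957 : act 6 n959 = n1957 := rfl
theorem F3119 : act 1 n1957 = n1159 := d10_1 D1957 (iv D1159) (iv D581) (iv F952) (iv F1676)
theorem F3120 : act 2 n1957 = n960 := d14_1 D1957 (iv D960) D959
def n1958 : Q := act 5 n960
theorem D1958 : act 5 n960 = n1958 := rfl
theorem F3122 : act 6 n1958 = n1949 := d20_2 D960 D1958 F3113 D1955 F3117 (iv D1951) F1673
def n1959 : Q := act 2 n961
theorem D1959 : act 2 n961 = n1959 := rfl
theorem F3123 : act 5 n1959 = n1141 := d13_2 (iv F1678) D1959 (iv D1141)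
def n1960 : Q := act 4 n961
theorem D1960 : act 4 n961 = n1960 := rfl
theorem F3124 : act 3 n1960 = n968 := d15_1 D1960 (iv D968) (iv D490) (iv F917) D961
theorem F3125 : act 5 n1960 = n1142 := d18_2 (iv F1678) D1960 (iv D1142)
def n1961 : Q := act 6 n961
theorem D1961 : act 6 n961 = n1961 := rfl
theorem F3126 : act 3 n1961 = n962 := d17_1 D1961 (iv D962) D961
def n1962 : Q := act 1 n962
theorem D1962 : act 1 n962 = n1962 := rfl
theorem F3127 : act 4 n1962 = n970 := d8_2 (iv F1680) D1962 (iv D970)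
def n1963 : Q := act 3 n963
theorem D1963 : act 3 n963 = n1963 := rfl
theorem F3128 : act 0 n1963 = n1151 := d2_1 D1963 F1957 (iv F1681)
theorem F3129 : act 5 n1963 = n1148 := d16_2 (iv F1683) D1963 (iv D1148)
def n1964 : Q := act 1 n964
theorem D1964 : act 1 n964 = n1964 := rfl
theorem F3131 : act 4 n1964 = n972 := d8_2 (iv F1685) D1964 (iv D972)
def n1965 : Q := act 3 n964
theorem D1965 : act 3 n964 = n1965 := rfl
theorem F3132 : act 0 n1965 = n965 := d2_1 D1965 (iv D965) (iv F1684)
theorem F3133 : act 6 n1965 = n1148 := d17_2 (iv F1686) D1965 (iv D1148)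
def n1966 : Q := act 2 n965
theorem D1966 : act 2 n965 = n1966 := rfl
theorem F3134 : act 6 n1966 = n1149 := d14_2 (iv F1687) D1966 (iv D1149)
def n1967 : Q := act 4 n965
theorem D1967 : act 4 n965 = n1967 := rfl
theorem F3135 : act 3 n1967 = n975 := d15_1 D1967 (iv D975) (iv D494) (iv F929) D965
theorem F3136 : act 6 n1967 = n1150 := d19_2 (iv F1687) D1967 (iv D1150)
def n1968 : Q := act 5 n965
theorem D1968 : act 5 n965 = n1968 := rfl
theorem F3137 : act 3 n1968 = n966 := d16_1 D1968 (iv D966) D965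
theorem F3138 : act 6 n1968 = n1963 := d22_1 D1968 F3129 (iv F3133) F3132
def n1969 : Q := act 1 n966
theorem D1969 : act 1 n966 = n1969 := rfl
theorem F3139 : act 2 n1969 = n1962 := d6_2 (iv F1688) D1969 (iv D1962) F1679 (iv F934)
theorem F3140 : act 4 n1969 = n977 := d8_2 (iv F1689) D1969 (iv D977)
def n1970 : Q := act 3 n967
theorem D1970 : act 3 n967 = n1970 := rfl
theorem F3141 : act 0 n1970 = n1143 := d2_1 D1970 F1944 (iv F1691)
theorem F3142 : act 5 n1970 = n1961 := d16_2 (iv F1693) D1970 F3126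
theorem F3143 : act 6 n1970 = n1140 := d17_2 (iv F1694) D1970 (iv D1140)
def n1971 : Q := act 6 n968
theorem D1971 : act 6 n968 = n1971 := rfl
theorem F3144 : act 2 n1971 = n1161 := d14_1 D1971 (iv D1161) (iv F1695)
theorem F3145 : act 4 n1971 = n969 := d19_1 D1971 (iv D969) D968
def n1972 : Q := act 1 n969
theorem D1972 : act 1 n969 = n1972 := rfl
theorem F3146 : act 3 n1972 = n970 := d7_2 (iv F1698) D1972 (iv D970)
def n1973 : Q := act 0 n970
theorem D1973 : act 0 n970 = n1973 := rfl
def n1974 : Q := act 5 n970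
theorem D1974 : act 5 n970 = n1974 := rfl
theorem F3147 : act 1 n1974 = n1950 := d9_1 D1974 F3114 F1676 F951 D970
theorem F3148 : act 2 n1974 = n1947 := d13_1 D1974 F3109 F1708
def n1975 : Q := act 4 n971
theorem D1975 : act 4 n971 = n1975 := rfl
theorem F3149 : act 0 n1975 = n1177 := d3_1 D1975 F1987 (iv F1699)
theorem F3150 : act 5 n1975 = n1173 := d18_2 (iv F1700) D1975 (iv D1173)
def n1976 : Q := act 0 n972
theorem D1976 : act 0 n972 = n1976 := rfl
def n1977 : Q := act 3 n972
theorem D1977 : act 3 n972 = n1977 := rfl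
theorem F3152 : act 1 n1977 = n973 := d7_1 D1977 (iv D973) D972
def n1979 : Q := act 6 n972
theorem D1979 : act 6 n972 = n1979 := rfl
theorem F3154 : act 1 n1979 = n1172 := d10_1 D1979 (iv D1172) (iv D588) (iv F946) D972
def n1980 : Q := act 4 n973
theorem D1980 : act 4 n973 = n1980 := rfl
theorem F3156 : act 0 n1980 = n975 := d3_1 D1980 (iv D975) (iv F1702)
theorem F3157 : act 6 n1980 = n1173 := d19_2 (iv F1703) D1980 (iv D1173)
def n1982 : Q := act 4 n974
theorem D1982 : act 4 n974 = n1982 := rfl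
theorem F3158 : act 2 n1982 = n975 := d12_1 D1982 (iv D975) D974
def n1983 : Q := act 5 n974
theorem D1983 : act 5 n974 = n1983 := rfl
theorem F3161 : act 2 n1983 = n976 := d13_1 D1983 (iv D976) D974
theorem F3162 : act 3 n1983 = n1201 := d16_1 D1983 F2025 F1721
def n1984 : Q := act 5 n975
theorem D1984 : act 5 n975 = n1984 := rfl
theorem F3164 : act 4 n1984 = n976 := d18_1 D1984 (iv D976) D975
theorem F3165 : act 6 n1984 = n1975 := d22_1 D1984 F3150 (iv F3157) F3156
def n1985 : Q := act 1 n976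
theorem D1985 : act 1 n976 = n1985 := rfl
theorem F3166 : act 3 n1985 = n977 := d7_2 (iv F1706) D1985 (iv D977)
def n1986 : Q := act 0 n977
theorem D1986 : act 0 n977 = n1986 := rfl
theorem F3167 : act 2 n1986 = n1973 := d1_2 (iv F1708) D1986 (iv D1973)
def n1987 : Q := act 6 n977
theorem D1987 : act 6 n977 = n1987 := rfl
theorem F3168 : act 1 n1987 = n1927 := d10_1 D1987 F3094 F1666 (iv F949) D977
theorem F3169 : act 2 n1987 = n1924 := d14_1 D1987 F3089 (iv F1708)
def n1988 : Q := act 4 n978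
theorem D1988 : act 4 n978 = n1988 := rfl
theorem F3170 : act 0 n1988 = n1161 := d3_1 D1988 F1970 (iv F1709)
theorem F3171 : act 5 n1988 = n1971 := d18_2 (iv F1710) D1988 F3145
theorem F3172 : act 6 n1988 = n1160 := d19_2 (iv F1711) D1988 (iv D1160)
def n1989 : Q := act 1 n979
theorem D1989 : act 1 n979 = n1989 := rfl
def n2000 : Q := act 2 n986
theorem D2000 : act 2 n986 = n2000 := rfl
def n2004 : Q := act 3 n987
theorem D2004 : act 3 n987 = n2004 := rfl
theorem F3195 : act 0 n2004 = n2004 := d2_1 D2004 (iv D2004) F1732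
def n2005 : Q := act 5 n987
theorem D2005 : act 5 n987 = n2005 := rfl
theorem F3197 : act 2 n2005 = n995 := d13_1 D2005 (iv D995) (iv F1733)
def n2007 : Q := act 1 n988
theorem D2007 : act 1 n988 = n2007 := rfl
def n2009 : Q := act 1 n989
theorem D2009 : act 1 n989 = n2009 := rfl
def n2010 : Q := act 3 n990
theorem D2010 : act 3 n990 = n2010 := rfl
theorem F3205 : act 0 n2010 = n2010 := d2_1 D2010 (iv D2010) F1738
theorem F3206 : act 1 n2010 = n2010 := d7_1 D2010 (iv D2010) F1739
def n2011 : Q := act 4 n990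
theorem D2011 : act 4 n990 = n2011 := rfl
theorem F3207 : act 0 n2011 = n2011 := d3_1 D2011 (iv D2011) F1738
theorem F3208 : act 1 n2011 = n2011 := d8_1 D2011 (iv D2011) F1739
theorem F3209 : act 2 n2011 = n991 := d12_1 D2011 (iv D991) D990
def n2012 : Q := act 5 n990
theorem D2012 : act 5 n990 = n2012 := rfl
theorem F3211 : act 2 n2012 = n992 := d13_1 D2012 (iv D992) D990
def n2013 : Q := act 6 n990
theorem D2013 : act 6 n990 = n2013 := rfl
theorem F3213 : act 2 n2013 = n993 := d14_1 D2013 (iv D993) D990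
def n2014 : Q := act 3 n991
theorem D2014 : act 3 n991 = n2014 := rfl
theorem F3214 : act 0 n2014 = n2014 := d2_1 D2014 (iv D2014) F1740
theorem F3215 : act 1 n2014 = n1000 := d7_1 D2014 (iv D1000) (iv F1741)
theorem F3216 : act 4 n2014 = n994 := d15_2 D991 D2014 (iv D994) (iv D503) D502
def n2015 : Q := act 5 n991
theorem D2015 : act 5 n991 = n2015 := rfl
def n2016 : Q := act 6 n991
theorem D2016 : act 6 n991 = n2016 := rfl
theorem F3219 : act 0 n2016 = n2016 := d5_1 D2016 (iv D2016) F1740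
theorem F3220 : act 4 n2016 = n993 := d19_1 D2016 (iv D993) D991
def n2017 : Q := act 1 n992
theorem D2017 : act 1 n992 = n2017 := rfl
theorem F3222 : act 5 n2017 = n1003 := d9_2 D992 D2017 (iv D1003) (iv D507) (iv F964)
def n2019 : Q := act 1 n993
theorem D2019 : act 1 n993 = n2019 := rfl
theorem F3226 : act 3 n2019 = n999 := d7_2 (iv F1745) D2019 (iv D999)
theorem F3227 : act 6 n2019 = n1004 := d10_2 D993 D2019 (iv D1004) (iv D508) (iv F964)
def n2020 : Q := act 2 n994
theorem D2020 : act 2 n994 = n2020 := rfl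
theorem F3228 : act 0 n2020 = n2020 := d1_1 D2020 (iv D2020) F1746
def n2021 : Q := act 5 n994
theorem D2021 : act 5 n994 = n2021 := rfl
theorem F3230 : act 3 n2021 = n995 := d16_1 D2021 (iv D995) D994
def n2022 : Q := act 6 n994
theorem D2022 : act 6 n994 = n2022 := rfl
theorem F3232 : act 3 n2022 = n996 := d17_1 D2022 (iv D996) D994
def n2023 : Q := act 1 n995
theorem D2023 : act 1 n995 = n2023 := rfl
theorem F3233 : act 4 n2023 = n997 := d8_2 (iv F1749) D2023 (iv D997)
theorem F3234 : act 5 n2023 = n1008 := d9_2 D995 D2023 (iv D1008) (iv D510) (iv F966)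
def n2025 : Q := act 1 n996
theorem D2025 : act 1 n996 = n2025 := rfl
theorem F3238 : act 4 n2025 = n999 := d8_2 (iv F1751) D2025 (iv D999)
theorem F3239 : act 6 n2025 = n1009 := d10_2 D996 D2025 (iv D1009) (iv D511) (iv F966)
def n2026 : Q := act 0 n997
theorem D2026 : act 0 n997 = n2026 := rfl
theorem F3240 : act 5 n2026 = n1010 := d4_2 (iv F1752) D2026 (iv D1010)
def n2027 : Q := act 2 n997
theorem D2027 : act 2 n997 = n2027 := rfl
theorem F3241 : act 5 n2027 = n1011 := d13_2 (iv F1752) D2027 (iv D1011)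
def n2028 : Q := act 6 n997
theorem D2028 : act 6 n997 = n2028 := rfl
def n2029 : Q := act 1 n998
theorem D2029 : act 1 n998 = n2029 := rfl
def n2030 : Q := act 0 n999
theorem D2030 : act 0 n999 = n2030 := rfl
theorem F3242 : act 6 n2030 = n1013 := d5_2 (iv F1755) D2030 (iv D1013)
def n2031 : Q := act 2 n999
theorem D2031 : act 2 n999 = n2031 := rfl
theorem F3243 : act 6 n2031 = n1014 := d14_2 (iv F1755) D2031 (iv D1014)
def n2032 : Q := act 5 n999
theorem D2032 : act 5 n999 = n2032 := rfl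
def n2033 : Q := act 2 n1000
theorem D2033 : act 2 n1000 = n2033 := rfl
theorem F3244 : act 0 n2033 = n1016 := d1_1 D2033 (iv D1016) (iv F1756)
theorem F3245 : act 4 n2033 = n1005 := d12_2 (iv F1757) D2033 (iv D1005)
def n2034 : Q := act 5 n1000
theorem D2034 : act 5 n1000 = n2034 := rfl
theorem F3246 : act 0 n2034 = n1017 := d4_1 D2034 (iv D1017) (iv F1756)
theorem F3247 : act 3 n2034 = n1001 := d16_1 D2034 (iv D1001) D1000
theorem F3248 : act 4 n2034 = n1006 := d18_1 D2034 (iv D1006) (iv F1757)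
def n2035 : Q := act 6 n1000
theorem D2035 : act 6 n1000 = n2035 := rfl
theorem F3249 : act 0 n2035 = n1018 := d5_1 D2035 (iv D1018) (iv F1756)
theorem F3250 : act 3 n2035 = n1002 := d17_1 D2035 (iv D1002) D1000
theorem F3251 : act 4 n2035 = n1007 := d19_1 D2035 (iv D1007) (iv F1757)
def n2036 : Q := act 1 n1001
theorem D2036 : act 1 n1001 = n2036 := rfl
theorem F3252 : act 4 n2036 = n1003 := d8_2 (iv F1760) D2036 (iv D1003)
def n2037 : Q := act 1 n1002
theorem D2037 : act 1 n1002 = n2037 := rfl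
theorem F3253 : act 4 n2037 = n1004 := d8_2 (iv F1763) D2037 (iv D1004)
def n2040 : Q := act 6 n1003
theorem D2040 : act 6 n1003 = n2040 := rfl
def n2044 : Q := act 1 n1005
theorem D2044 : act 1 n1005 = n2044 := rfl
def n2045 : Q := act 3 n1005
theorem D2045 : act 3 n1005 = n2045 := rfl
theorem F3260 : act 0 n2045 = n1032 := d2_1 D2045 (iv D1032) (iv F1766)
theorem F3261 : act 2 n2045 = n1789 := d21_2 D1005 D2045 (iv D1789) (iv D887) (iv D450) F470 D265 (iv F977)
def n2046 : Q := act 5 n1005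
theorem D2046 : act 5 n1005 = n2046 := rfl
theorem F3262 : act 0 n2046 = n1033 := d4_1 D2046 (iv D1033) (iv F1766)
theorem F3263 : act 2 n2046 = n1006 := d13_1 D2046 (iv D1006) D1005
def n2047 : Q := act 6 n1005
theorem D2047 : act 6 n1005 = n2047 := rfl
theorem F3264 : act 0 n2047 = n1034 := d5_1 D2047 (iv D1034) (iv F1766)
theorem F3265 : act 2 n2047 = n1007 := d14_1 D2047 (iv D1007) D1005
def n2048 : Q := act 1 n1006
theorem D2048 : act 1 n1006 = n2048 := rfl
def n2049 : Q := act 1 n1007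
theorem D2049 : act 1 n1007 = n2049 := rfl
theorem F3267 : act 3 n2049 = n1009 := d7_2 (iv F1770) D2049 (iv D1009)
def n2050 : Q := act 0 n1008
theorem D2050 : act 0 n1008 = n2050 := rfl
def n2051 : Q := act 2 n1008
theorem D2051 : act 2 n1008 = n2051 := rfl
def n2052 : Q := act 6 n1008
theorem D2052 : act 6 n1008 = n2052 := rfl
def n2053 : Q := act 0 n1009
theorem D2053 : act 0 n1009 = n2053 := rfl
theorem F3271 : act 4 n2053 = n1013 := d3_2 (iv F1772) D2053 (iv D1013)
def n2054 : Q := act 2 n1009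
theorem D2054 : act 2 n1009 = n2054 := rfl
theorem F3272 : act 4 n2054 = n1014 := d12_2 (iv F1772) D2054 (iv D1014)
def n2055 : Q := act 5 n1009
theorem D2055 : act 5 n1009 = n2055 := rfl
theorem F3273 : act 4 n2055 = n1015 := d18_1 D2055 (iv D1015) (iv F1772)
def n2056 : Q := act 1 n1010
theorem D2056 : act 1 n1010 = n2056 := rfl
def n2057 : Q := act 2 n1010
theorem D2057 : act 2 n1010 = n2057 := rfl
theorem F3274 : act 0 n2057 = n1011 := d1_1 D2057 (iv D1011) D1010
def n2058 : Q := act 6 n1010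
theorem D2058 : act 6 n1010 = n2058 := rfl
theorem F3275 : act 0 n2058 = n1012 := d5_1 D2058 (iv D1012) D1010
theorem F3276 : act 5 n2058 = n2028 := d22_2 F3240 D2058 (iv D2028) D2026
def n2059 : Q := act 3 n1011
theorem D2059 : act 3 n1011 = n2059 := rfl
def n2060 : Q := act 6 n1011
theorem D2060 : act 6 n1011 = n2060 := rfl
def n2061 : Q := act 5 n1012
theorem D2061 : act 5 n1012 = n2061 := rfl
theorem F3278 : act 0 n2061 = n2028 := d4_1 D2061 (iv F3276) F3275
theorem F3279 : act 6 n2061 = n2026 := d20_2 D1012 D2061 F3240 D2058 F3276 (iv D2028) F1752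
def n2062 : Q := act 1 n1013
theorem D2062 : act 1 n1013 = n2062 := rfl
def n2063 : Q := act 2 n1013
theorem D2063 : act 2 n1013 = n2063 := rfl
theorem F3280 : act 0 n2063 = n1014 := d1_1 D2063 (iv D1014) D1013
def n2064 : Q := act 5 n1013
theorem D2064 : act 5 n1013 = n2064 := rfl
theorem F3281 : act 0 n2064 = n1015 := d4_1 D2064 (iv D1015) D1013
theorem F3282 : act 6 n2064 = n2032 := d22_1 D2064 (iv D2032) F1755 D1013
def n2065 : Q := act 3 n1014
theorem D2065 : act 3 n1014 = n2065 := rfl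
def n2066 : Q := act 5 n1014
theorem D2066 : act 5 n1014 = n2066 := rfl
theorem F3283 : act 2 n2066 = n1015 := d13_1 D2066 (iv D1015) D1014
def n2067 : Q := act 6 n1015
theorem D2067 : act 6 n1015 = n2067 := rfl
theorem F3284 : act 0 n2067 = n2032 := d5_1 D2067 (iv F3282) F3281
theorem F3285 : act 5 n2067 = n2030 := d20_1 D2067 F3242 D2064 F3282 (iv D2032) F1755 D1015
def n2068 : Q := act 1 n1016
theorem D2068 : act 1 n1016 = n2068 := rfl
theorem F3286 : act 2 n2068 = n1063 := d6_2 D1016 D2068 (iv D1063) (iv D536) (iv F982)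
theorem F3287 : act 4 n2068 = n1031 := d8_2 (iv F1773) D2068 (iv D1031)
def n2069 : Q := act 3 n1016
theorem D2069 : act 3 n1016 = n2069 := rfl
def n2070 : Q := act 5 n1016
theorem D2070 : act 5 n1016 = n2070 := rfl
theorem F3288 : act 2 n2070 = n1017 := d13_1 D2070 (iv D1017) D1016
theorem F3289 : act 4 n2070 = n1033 := d18_1 D2070 (iv D1033) (iv F1773)
def n2071 : Q := act 6 n1016
theorem D2071 : act 6 n1016 = n2071 := rfl
theorem F3290 : act 2 n2071 = n1018 := d14_1 D2071 (iv D1018) D1016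
theorem F3291 : act 4 n2071 = n1034 := d19_1 D2071 (iv D1034) (iv F1773)
def n2072 : Q := act 1 n1017
theorem D2072 : act 1 n1017 = n2072 := rfl
theorem F3292 : act 3 n2072 = n1019 := d7_2 (iv F1774) D2072 (iv D1019)
theorem F3293 : act 4 n2072 = n1035 := d8_2 (iv F1775) D2072 (iv D1035)
theorem F3294 : act 5 n2072 = n1067 := d9_2 D1017 D2072 (iv D1067) (iv D537) (iv F982)
def n2073 : Q := act 6 n1017
theorem D2073 : act 6 n1017 = n2073 := rfl
theorem F3295 : act 3 n2073 = n1020 := d17_1 D2073 (iv D1020) (iv F1774)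
theorem F3296 : act 4 n2073 = n1036 := d19_1 D2073 (iv D1036) (iv F1775)
theorem F3297 : act 5 n2073 = n2035 := d22_2 D1017 D2073 (iv D2035) F1756
def n2074 : Q := act 1 n1018
theorem D2074 : act 1 n1018 = n2074 := rfl
theorem F3298 : act 3 n2074 = n1021 := d7_2 (iv F1776) D2074 (iv D1021)
theorem F3299 : act 4 n2074 = n1037 := d8_2 (iv F1777) D2074 (iv D1037)
theorem F3300 : act 6 n2074 = n1068 := d10_2 D1018 D2074 (iv D1068) (iv D538) (iv F982)
def n2075 : Q := act 5 n1018
theorem D2075 : act 5 n1018 = n2075 := rfl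
theorem F3301 : act 0 n2075 = n2073 := d4_1 D2075 F3297 F3249
theorem F3302 : act 3 n2075 = n1022 := d16_1 D2075 (iv D1022) (iv F1776)
theorem F3303 : act 4 n2075 = n1038 := d18_1 D2075 (iv D1038) (iv F1777)
theorem F3304 : act 6 n2075 = n2034 := d20_2 D1018 D2075 (iv D2034) D2035 (iv F3297) (iv D2073) (iv D1017)
def n2076 : Q := act 0 n1019
theorem D2076 : act 0 n1019 = n2076 := rfl
theorem F3305 : act 4 n2076 = n1023 := d3_2 (iv F1778) D2076 (iv D1023)
theorem F3306 : act 5 n2076 = n1069 := d4_2 (iv F1779) D2076 (iv D1069)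
def n2077 : Q := act 2 n1019
theorem D2077 : act 2 n1019 = n2077 := rfl
theorem F3309 : act 5 n2077 = n1070 := d13_2 (iv F1779) D2077 (iv D1070)
def n2078 : Q := act 6 n1019
theorem D2078 : act 6 n1019 = n2078 := rfl
theorem F3310 : act 4 n2078 = n1025 := d19_1 D2078 (iv D1025) (iv F1778)
def n2079 : Q := act 1 n1020
theorem D2079 : act 1 n1020 = n2079 := rfl
theorem F3311 : act 4 n2079 = n1026 := d8_2 (iv F1781) D2079 (iv D1026)
def n2080 : Q := act 0 n1021
theorem D2080 : act 0 n1021 = n2080 := rfl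
theorem F3312 : act 4 n2080 = n1027 := d3_2 (iv F1783) D2080 (iv D1027)
theorem F3313 : act 6 n2080 = n1072 := d5_2 (iv F1784) D2080 (iv D1072)
def n2081 : Q := act 2 n1021
theorem D2081 : act 2 n1021 = n2081 := rfl
theorem F3316 : act 6 n2081 = n1073 := d14_2 (iv F1784) D2081 (iv D1073)
def n2082 : Q := act 5 n1021
theorem D2082 : act 5 n1021 = n2082 := rfl
theorem F3317 : act 4 n2082 = n1029 := d18_1 D2082 (iv D1029) (iv F1783)
def n2083 : Q := act 1 n1022
theorem D2083 : act 1 n1022 = n2083 := rfl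
theorem F3318 : act 4 n2083 = n1030 := d8_2 (iv F1787) D2083 (iv D1030)
def n2085 : Q := act 2 n1023
theorem D2085 : act 2 n1023 = n2085 := rfl
theorem F3320 : act 0 n2085 = n1024 := d1_1 D2085 (iv D1024) D1023
theorem F3321 : act 5 n2085 = n1076 := d13_2 (iv F1790) D2085 (iv D1076)
def n2086 : Q := act 3 n1024
theorem D2086 : act 3 n1024 = n2086 := rfl
theorem F3322 : act 1 n2086 = n2086 := d7_1 D2086 (iv D2086) F1791
def n2087 : Q := act 6 n1024
theorem D2087 : act 6 n1024 = n2087 := rfl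
def n2088 : Q := act 1 n1025
theorem D2088 : act 1 n1025 = n2088 := rfl
theorem F3326 : act 6 n2088 = n1026 := d10_2 D1025 D2088 (iv D1026) (iv D518) D517
def n2089 : Q := act 0 n1026
theorem D2089 : act 0 n1026 = n2089 := rfl
theorem F3327 : act 3 n2089 = n1052 := d2_2 (iv F1794) D2089 (iv D1052)
def n2090 : Q := act 2 n1026
theorem D2090 : act 2 n1026 = n2090 := rfl
theorem F3328 : act 1 n2090 = n2090 := d6_1 D2090 (iv D2090) (iv D1026) F990 D1026
def n2091 : Q := act 5 n1026
theorem D2091 : act 5 n1026 = n2091 := rfl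
theorem F3330 : act 3 n2091 = n1054 := d16_1 D2091 (iv D1054) (iv F1794)
def n2093 : Q := act 2 n1027
theorem D2093 : act 2 n1027 = n2093 := rfl
theorem F3333 : act 6 n2093 = n1082 := d14_2 (iv F1796) D2093 (iv D1082)
def n2094 : Q := act 3 n1028
theorem D2094 : act 3 n1028 = n2094 := rfl
theorem F3334 : act 1 n2094 = n2094 := d7_1 D2094 (iv D2094) F1797
theorem F3335 : act 6 n2094 = n1084 := d17_2 (iv F1798) D2094 (iv D1084)
def n2095 : Q := act 5 n1028
theorem D2095 : act 5 n1028 = n2095 := rfl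
theorem F3336 : act 2 n2095 = n1029 := d13_1 D2095 (iv D1029) D1028
def n2096 : Q := act 1 n1029
theorem D2096 : act 1 n1029 = n2096 := rfl
theorem F3338 : act 5 n2096 = n1030 := d9_2 D1029 D2096 (iv D1030) (iv D520) D519
def n2097 : Q := act 0 n1030
theorem D2097 : act 0 n1030 = n2097 := rfl
theorem F3339 : act 3 n2097 = n1060 := d2_2 (iv F1800) D2097 (iv D1060)
def n2098 : Q := act 2 n1030
theorem D2098 : act 2 n1030 = n2098 := rfl
theorem F3340 : act 1 n2098 = n2098 := d6_1 D2098 (iv D2098) (iv D1030) F996 D1030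
def n2099 : Q := act 6 n1030
theorem D2099 : act 6 n1030 = n2099 := rfl
theorem F3341 : act 1 n2099 = n2040 := d10_1 D2099 (iv D2040) (iv D1003) (iv F998) D1030
def n2100 : Q := act 0 n1031
theorem D2100 : act 0 n1031 = n2100 := rfl
theorem F3343 : act 2 n2100 = n1087 := d1_2 (iv F1801) D2100 (iv D1087)
def n2101 : Q := act 3 n1031
theorem D2101 : act 3 n1031 = n2101 := rfl
theorem F3344 : act 1 n2101 = n1032 := d7_1 D2101 (iv D1032) D1031
def n2102 : Q := act 5 n1031
theorem D2102 : act 5 n1031 = n2102 := rfl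
theorem F3345 : act 2 n2102 = n1088 := d13_1 D2102 (iv D1088) (iv F1801)
def n2103 : Q := act 6 n1031
theorem D2103 : act 6 n1031 = n2103 := rfl
theorem F3346 : act 2 n2103 = n1089 := d14_1 D2103 (iv D1089) (iv F1801)
def n2104 : Q := act 2 n1032
theorem D2104 : act 2 n1032 = n2104 := rfl
theorem F3347 : act 0 n2104 = n1789 := d1_1 D2104 (iv F3261) F3260
theorem F3348 : act 3 n2104 = n1762 := d11_2 D1032 D2104 (iv D1762) (iv D875) F865 D509 D1005 D2045 F3261 (iv D1789) (iv D887) (iv D450) F470 D265 D521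
def n2105 : Q := act 4 n1032
theorem D2105 : act 4 n1032 = n2105 := rfl
def n2106 : Q := act 5 n1032
theorem D2106 : act 5 n1032 = n2106 := rfl
theorem F3349 : act 3 n2106 = n1033 := d16_1 D2106 (iv D1033) D1032
def n2107 : Q := act 6 n1032
theorem D2107 : act 6 n1032 = n2107 := rfl
theorem F3350 : act 3 n2107 = n1034 := d17_1 D2107 (iv D1034) D1032
def n2108 : Q := act 1 n1033
theorem D2108 : act 1 n1033 = n2108 := rfl
def n2109 : Q := act 6 n1033
theorem D2109 : act 6 n1033 = n2109 := rfl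
theorem F3351 : act 2 n2109 = n1036 := d14_1 D2109 (iv D1036) (iv F1802)
theorem F3352 : act 5 n2109 = n2047 := d22_2 D1033 D2109 (iv D2047) F1766
def n2110 : Q := act 1 n1034
theorem D2110 : act 1 n1034 = n2110 := rfl
def n2111 : Q := act 5 n1034
theorem D2111 : act 5 n1034 = n2111 := rfl
theorem F3353 : act 0 n2111 = n2109 := d4_1 D2111 F3352 F3264
theorem F3354 : act 2 n2111 = n1038 := d13_1 D2111 (iv D1038) (iv F1803)
theorem F3355 : act 6 n2111 = n2046 := d20_2 D1034 D2111 (iv D2046) D2047 (iv F3352) (iv D2109) (iv D1033)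
def n2112 : Q := act 0 n1035
theorem D2112 : act 0 n1035 = n2112 := rfl
theorem F3356 : act 3 n2112 = n1039 := d2_2 (iv F1804) D2112 (iv D1039)
theorem F3357 : act 5 n2112 = n1092 := d4_2 (iv F1805) D2112 (iv D1092)
def n2113 : Q := act 2 n1035
theorem D2113 : act 2 n1035 = n2113 := rfl
theorem F3358 : act 5 n2113 = n1093 := d13_2 (iv F1805) D2113 (iv D1093)
def n2114 : Q := act 6 n1035
theorem D2114 : act 6 n1035 = n2114 := rfl
theorem F3359 : act 3 n2114 = n1041 := d17_1 D2114 (iv D1041) (iv F1804)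
def n2115 : Q := act 1 n1036
theorem D2115 : act 1 n1036 = n2115 := rfl
theorem F3360 : act 3 n2115 = n1042 := d7_2 (iv F1806) D2115 (iv D1042)
def n2116 : Q := act 0 n1037
theorem D2116 : act 0 n1037 = n2116 := rfl
theorem F3361 : act 3 n2116 = n1043 := d2_2 (iv F1808) D2116 (iv D1043)
theorem F3362 : act 6 n2116 = n1095 := d5_2 (iv F1809) D2116 (iv D1095)
def n2117 : Q := act 2 n1037
theorem D2117 : act 2 n1037 = n2117 := rfl
theorem F3363 : act 6 n2117 = n1096 := d14_2 (iv F1809) D2117 (iv D1096)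
def n2118 : Q := act 5 n1037
theorem D2118 : act 5 n1037 = n2118 := rfl
theorem F3364 : act 3 n2118 = n1045 := d16_1 D2118 (iv D1045) (iv F1808)
def n2119 : Q := act 1 n1038
theorem D2119 : act 1 n1038 = n2119 := rfl
theorem F3365 : act 3 n2119 = n1046 := d7_2 (iv F1811) D2119 (iv D1046)
def n2120 : Q := act 1 n1039
theorem D2120 : act 1 n1039 = n2120 := rfl
theorem F3366 : act 4 n2120 = n1047 := d8_2 (iv F1813) D2120 (iv D1047)
theorem F3367 : act 2 n2120 = n2120 := d12_3 F3366 F1828 (iv F3366)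
def n2121 : Q := act 2 n1039
theorem D2121 : act 2 n1039 = n2121 := rfl
theorem F3368 : act 0 n2121 = n1040 := d1_1 D2121 (iv D1040) D1039
theorem F3369 : act 1 n2121 = n2121 := d6_1 D2121 (iv D2121) D2120 F3367 (iv D2120)
theorem F3371 : act 5 n2121 = n1099 := d13_2 (iv F1814) D2121 (iv D1099)
def n2122 : Q := act 3 n1040
theorem D2122 : act 3 n1040 = n2122 := rfl
theorem F3372 : act 5 n2122 = n1101 := d16_2 (iv F1816) D2122 (iv D1101)
def n2123 : Q := act 6 n1040
theorem D2123 : act 6 n1040 = n2123 := rfl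
theorem F3373 : act 2 n2123 = n1041 := d14_1 D2123 (iv D1041) D1040
theorem F3374 : act 4 n2123 = n1050 := d19_1 D2123 (iv D1050) (iv F1815)
def n2124 : Q := act 1 n1041
theorem D2124 : act 1 n1041 = n2124 := rfl
theorem F3376 : act 6 n2124 = n1042 := d10_2 D1041 D2124 (iv D1042) (iv D525) D524
def n2125 : Q := act 0 n1042
theorem D2125 : act 0 n1042 = n2125 := rfl
theorem F3377 : act 4 n2125 = n1052 := d3_2 (iv F1818) D2125 (iv D1052)
def n2126 : Q := act 2 n1042
theorem D2126 : act 2 n1042 = n2126 := rfl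
theorem F3378 : act 4 n2126 = n1053 := d12_2 (iv F1818) D2126 (iv D1053)
def n2127 : Q := act 5 n1042
theorem D2127 : act 5 n1042 = n2127 := rfl
theorem F3379 : act 1 n2127 = n2055 := d9_1 D2127 (iv D2055) (iv D1009) (iv F1004) D1042
theorem F3380 : act 4 n2127 = n1054 := d18_1 D2127 (iv D1054) (iv F1818)
def n2128 : Q := act 1 n1043
theorem D2128 : act 1 n1043 = n2128 := rfl
def n2129 : Q := act 2 n1043
theorem D2129 : act 2 n1043 = n2129 := rfl
theorem F3382 : act 0 n2129 = n1044 := d1_1 D2129 (iv D1044) D1043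
theorem F3383 : act 4 n2129 = n1056 := d12_2 (iv F1819) D2129 (iv D1056)
theorem F3384 : act 6 n2129 = n1105 := d14_2 (iv F1820) D2129 (iv D1105)
def n2130 : Q := act 3 n1044
theorem D2130 : act 3 n1044 = n2130 := rfl
theorem F3385 : act 6 n2130 = n1107 := d17_2 (iv F1822) D2130 (iv D1107)
def n2131 : Q := act 5 n1044
theorem D2131 : act 5 n1044 = n2131 := rfl
theorem F3387 : act 4 n2131 = n1058 := d18_1 D2131 (iv D1058) (iv F1821)
def n2132 : Q := act 1 n1045
theorem D2132 : act 1 n1045 = n2132 := rfl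
theorem F3389 : act 5 n2132 = n1046 := d9_2 D1045 D2132 (iv D1046) (iv D527) D526
def n2133 : Q := act 0 n1046
theorem D2133 : act 0 n1046 = n2133 := rfl
theorem F3390 : act 4 n2133 = n1060 := d3_2 (iv F1824) D2133 (iv D1060)
def n2134 : Q := act 2 n1046
theorem D2134 : act 2 n1046 = n2134 := rfl
theorem F3391 : act 4 n2134 = n1061 := d12_2 (iv F1824) D2134 (iv D1061)
def n2135 : Q := act 6 n1046
theorem D2135 : act 6 n1046 = n2135 := rfl
theorem F3392 : act 1 n2135 = n2052 := d10_1 D2135 (iv D2052) (iv D1008) (iv F1009) D1046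
def n2136 : Q := act 0 n1047
theorem D2136 : act 0 n1047 = n2136 := rfl
theorem F3395 : act 5 n2136 = n1047 := d23_4 (iv F1826) (iv D1048) D1047 D2136 F1828 (iv D1047) (iv D528) F539 D283 F562 (iv F578) (iv F595) (iv D304) F297 F296 F240 D143 (iv F562) (iv F1047)
theorem F3396 : act 1 n1112 = n2136 := d9_5 F3395 (iv D1047) F1010 D558 D1112
theorem F3397 : act 0 n2056 = n1112 := d0_9 F3396 (iv D2136) (iv D1047) (iv D528) (iv D268) (iv F528) D512 D1010 D2056
theorem F3398 : act 5 n1110 = n2056 := d4_0 F3397 (iv D1112) D1110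
theorem F3399 : act 1 n2026 = n1347 := d9_3 F3398 (iv D2056) (iv F3240) (iv D1347) (iv F1914)
def n2137 : Q := act 6 n1047
theorem D2137 : act 6 n1047 = n2137 := rfl
theorem F3400 : act 2 n2137 = n2137 := d14_1 D2137 (iv D2137) F1828
theorem F3401 : act 5 n2137 = n2137 := d22_2 F3395 D2137 (iv D2137) D2136
def n2138 : Q := act 3 n1048
theorem D2138 : act 3 n1048 = n2138 := rfl
theorem F3402 : act 0 n2138 = n1049 := d2_1 D2138 (iv D1049) (iv F1825)
theorem F3403 : act 1 n2138 = n2138 := d7_1 D2138 (iv D2138) F1827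
theorem F3404 : act 5 n2138 = n1115 := d16_2 (iv F1826) D2138 (iv D1115)
def n2139 : Q := act 2 n1049
theorem D2139 : act 2 n1049 = n2139 := rfl
theorem F3405 : act 5 n2139 = n1118 := d13_2 (iv F1829) D2139 (iv D1118)
def n2140 : Q := act 4 n1049
theorem D2140 : act 4 n1049 = n2140 := rfl
theorem F3406 : act 5 n2140 = n1119 := d18_2 (iv F1829) D2140 (iv D1119)
def n2141 : Q := act 6 n1049
theorem D2141 : act 6 n1049 = n2141 := rfl
theorem F3407 : act 3 n2141 = n1050 := d17_1 D2141 (iv D1050) D1049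
def n2142 : Q := act 1 n1050
theorem D2142 : act 1 n1050 = n2142 := rfl
def n2143 : Q := act 0 n1051
theorem D2143 : act 0 n1051 = n2143 := rfl
theorem F3408 : act 6 n2143 = n1052 := d5_2 (iv F1831) D2143 (iv D1052)
def n2144 : Q := act 2 n1051
theorem D2144 : act 2 n1051 = n2144 := rfl
theorem F3409 : act 6 n2144 = n1053 := d14_2 (iv F1831) D2144 (iv D1053)
def n2145 : Q := act 5 n1051
theorem D2145 : act 5 n1051 = n2145 := rfl
theorem F3410 : act 6 n1399 = n2145 := d24_0 (iv D2145) (iv D1051) (iv D530) F539 (iv D138) (iv F168) (iv D81) D80 F165 D174 D348 D692 (iv F1256) D1399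
theorem F3411 : act 1 n2145 = n1395 := d10_1 F3410 (iv D1395) (iv D693) D695 D1399
theorem F3412 : act 5 n1052 = n1399 := d22_0 F3410 (iv D2145) F1831 D1052
theorem F3413 : act 0 n1399 = n1054 := d22_4 (iv D1054) (iv F1831) D2145 (iv F3410)
theorem F3414 : act 5 n1395 = n1117 := d9_2 D2145 F3411 (iv D1117) F1049 D1051
def n2146 : Q := act 1 n1052
theorem D2146 : act 1 n1052 = n2146 := rfl
def n2147 : Q := act 2 n1052
theorem D2147 : act 2 n1052 = n2147 := rfl
theorem F3416 : act 0 n2147 = n1053 := d1_1 D2147 (iv D1053) D1052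
def n2148 : Q := act 3 n1053
theorem D2148 : act 3 n1053 = n2148 := rfl
def n2149 : Q := act 5 n1053
theorem D2149 : act 5 n1053 = n2149 := rfl
theorem F3417 : act 2 n2149 = n1054 := d13_1 D2149 (iv D1054) D1053
def n2150 : Q := act 6 n1054
theorem D2150 : act 6 n1054 = n2150 := rfl
theorem F3419 : act 5 n2150 = n2143 := d20_1 D2150 F3408 F3412 F3410 (iv D2145) F1831 D1054
def n2151 : Q := act 0 n1055
theorem D2151 : act 0 n1055 = n2151 := rfl
def n2153 : Q := act 5 n1055
theorem D2153 : act 5 n1055 = n2153 := rfl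
def n2154 : Q := act 6 n1055
theorem D2154 : act 6 n1055 = n2154 := rfl
theorem F3420 : act 1 n2154 = n1127 := d10_1 D2154 (iv D1127) (iv D564) (iv F1012) D1055
def n2155 : Q := act 1 n1056
theorem D2155 : act 1 n1056 = n2155 := rfl
def n2156 : Q := act 3 n1056
theorem D2156 : act 3 n1056 = n2156 := rfl
theorem F3421 : act 0 n2156 = n1057 := d2_1 D2156 (iv D1057) (iv F1833)
theorem F3422 : act 6 n2156 = n1129 := d17_2 (iv F1834) D2156 (iv D1129)
def n2157 : Q := act 2 n1057
theorem D2157 : act 2 n1057 = n2157 := rfl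
theorem F3423 : act 6 n2157 = n1132 := d14_2 (iv F1835) D2157 (iv D1132)
def n2158 : Q := act 4 n1057
theorem D2158 : act 4 n1057 = n2158 := rfl
theorem F3424 : act 6 n2158 = n1133 := d19_2 (iv F1835) D2158 (iv D1133)
def n2159 : Q := act 5 n1057
theorem D2159 : act 5 n1057 = n2159 := rfl
theorem F3425 : act 3 n2159 = n1058 := d16_1 D2159 (iv D1058) D1057
def n2160 : Q := act 1 n1058
theorem D2160 : act 1 n1058 = n2160 := rfl
def n2161 : Q := act 0 n1059
theorem D2161 : act 0 n1059 = n2161 := rfl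
theorem F3426 : act 5 n2161 = n1060 := d4_2 (iv F1837) D2161 (iv D1060)
def n2162 : Q := act 2 n1059
theorem D2162 : act 2 n1059 = n2162 := rfl
theorem F3427 : act 5 n2162 = n1061 := d13_2 (iv F1837) D2162 (iv D1061)
def n2163 : Q := act 6 n1059
theorem D2163 : act 6 n1059 = n2163 := rfl
theorem F3428 : act 5 n2163 = n1369 := d24_1 D2163 (iv D1369) F1244 (iv D678) (iv D342) (iv D171) F161 (iv D78) D79 F163 D139 (iv F541) D534 D1059
theorem F3429 : act 0 n1062 = n1369 := d22_4 (iv F3428) (iv D2163) F1837 D1062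
theorem F3430 : act 6 n1060 = n1369 := d22_1 F3426 (iv F3428) (iv D2163) D2161
theorem F3431 : act 1 n1364 = n2163 := d9_5 F3428 (iv D1369) (iv D681) D679 D1364
theorem F3432 : act 6 n1131 = n1364 := d10_0 F3431 (iv D2163) (iv D1059) (iv F1056) D1131
def n2164 : Q := act 1 n1060
theorem D2164 : act 1 n1060 = n2164 := rfl
theorem F3433 : act 6 n2164 = n1357 := d10_2 (iv F3430) D2164 F2268 (iv F1244) D1369
def n2165 : Q := act 2 n1060
theorem D2165 : act 2 n1060 = n2165 := rfl
theorem F3434 : act 0 n2165 = n1061 := d1_1 D2165 (iv D1061) D1060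
def n2166 : Q := act 3 n1061
theorem D2166 : act 3 n1061 = n2166 := rfl
def n2167 : Q := act 6 n1061
theorem D2167 : act 6 n1061 = n2167 := rfl
theorem F3435 : act 2 n2167 = n1062 := d14_1 D2167 (iv D1062) D1061
def n2168 : Q := act 5 n1062
theorem D2168 : act 5 n1062 = n2168 := rfl
theorem F3436 : act 0 n2168 = n2163 := d4_1 D2168 F3428 (iv F3429)
theorem F3437 : act 6 n2168 = n2161 := d20_2 D1062 D2168 F3426 F3430 (iv F3428) (iv D2163) F1837
theorem F3438 : act 1 n2143 = n2161 := d24_14 (iv F3437) (iv D2168) F1838 (iv D1012) (iv F1752) (iv D997) D998 F1754 D999 F1755 D1015 (iv F1832) D2150 F3419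
theorem F3439 : act 0 n1137 = n1123 := d0_5 F3438 (iv D2161) (iv D1059) (iv F1059) D1137 (iv D1123) F1052 D1051 D2143
def n2169 : Q := act 0 n1063
theorem D2169 : act 0 n1063 = n2169 := rfl
theorem F3440 : act 4 n2169 = n1087 := d3_2 (iv F1839) D2169 (iv D1087)
def n2170 : Q := act 3 n1063
theorem D2170 : act 3 n1063 = n2170 := rfl
theorem F3441 : act 1 n2170 = n1064 := d7_1 D2170 (iv D1064) D1063
theorem F3442 : act 4 n2170 = n1210 := d15_2 (iv F1839) D2170 (iv D1210) F1136 (iv F1030)
def n2171 : Q := act 5 n1063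
theorem D2171 : act 5 n1063 = n2171 := rfl
theorem F3443 : act 4 n2171 = n1088 := d18_1 D2171 (iv D1088) (iv F1839)
def n2172 : Q := act 6 n1063
theorem D2172 : act 6 n1063 = n2172 := rfl
theorem F3444 : act 4 n2172 = n1089 := d19_1 D2172 (iv D1089) (iv F1839)
def n2173 : Q := act 5 n1064
theorem D2173 : act 5 n1064 = n2173 := rfl
theorem F3445 : act 0 n2173 = n1213 := d4_1 D2173 (iv D1213) (iv F1840)
theorem F3446 : act 2 n2173 = n2173 := d13_1 D2173 (iv D2173) F1841
theorem F3447 : act 3 n2173 = n1065 := d16_1 D2173 (iv D1065) D1064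
theorem F3448 : act 4 n2173 = n1213 := d18_1 D2173 (iv D1213) (iv F1842)
def n2174 : Q := act 6 n1064
theorem D2174 : act 6 n1064 = n2174 := rfl
theorem F3449 : act 0 n2174 = n1214 := d5_1 D2174 (iv D1214) (iv F1840)
theorem F3450 : act 2 n2174 = n2174 := d14_1 D2174 (iv D2174) F1841
theorem F3451 : act 3 n2174 = n1066 := d17_1 D2174 (iv D1066) D1064
theorem F3452 : act 4 n2174 = n1214 := d19_1 D2174 (iv D1214) (iv F1842)
def n2175 : Q := act 1 n1065
theorem D2175 : act 1 n1065 = n2175 := rfl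
theorem F3453 : act 4 n2175 = n1090 := d8_2 (iv F1845) D2175 (iv D1090)
def n2176 : Q := act 1 n1066
theorem D2176 : act 1 n1066 = n2176 := rfl
theorem F3454 : act 4 n2176 = n1091 := d8_2 (iv F1848) D2176 (iv D1091)
def n2177 : Q := act 0 n1067
theorem D2177 : act 0 n1067 = n2177 := rfl
theorem F3455 : act 3 n2177 = n1069 := d2_2 (iv F1849) D2177 (iv D1069)
theorem F3456 : act 4 n2177 = n1092 := d3_2 (iv F1850) D2177 (iv D1092)
def n2178 : Q := act 2 n1067
theorem D2178 : act 2 n1067 = n2178 := rfl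
theorem F3457 : act 4 n2178 = n1093 := d12_2 (iv F1850) D2178 (iv D1093)
def n2179 : Q := act 6 n1067
theorem D2179 : act 6 n1067 = n2179 := rfl
theorem F3458 : act 3 n2179 = n1071 := d17_1 D2179 (iv D1071) (iv F1849)
theorem F3459 : act 4 n2179 = n1094 := d19_1 D2179 (iv D1094) (iv F1850)
def n2180 : Q := act 0 n1068
theorem D2180 : act 0 n1068 = n2180 := rfl
theorem F3460 : act 3 n2180 = n1072 := d2_2 (iv F1851) D2180 (iv D1072)
theorem F3461 : act 4 n2180 = n1095 := d3_2 (iv F1852) D2180 (iv D1095)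
def n2181 : Q := act 2 n1068
theorem D2181 : act 2 n1068 = n2181 := rfl
theorem F3462 : act 4 n2181 = n1096 := d12_2 (iv F1852) D2181 (iv D1096)
def n2182 : Q := act 5 n1068
theorem D2182 : act 5 n1068 = n2182 := rfl
theorem F3463 : act 3 n2182 = n1074 := d16_1 D2182 (iv D1074) (iv F1851)
theorem F3464 : act 4 n2182 = n1097 := d18_1 D2182 (iv D1097) (iv F1852)
def n2183 : Q := act 1 n1069
theorem D2183 : act 1 n1069 = n2183 := rfl
theorem F3465 : act 4 n2183 = n1075 := d8_2 (iv F1853) D2183 (iv D1075)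
def n2184 : Q := act 2 n1069
theorem D2184 : act 2 n1069 = n2184 := rfl
theorem F3466 : act 0 n2184 = n1070 := d1_1 D2184 (iv D1070) D1069
def n2185 : Q := act 6 n1069
theorem D2185 : act 6 n1069 = n2185 := rfl
theorem F3468 : act 0 n2185 = n1071 := d5_1 D2185 (iv D1071) D1069
theorem F3469 : act 4 n2185 = n1077 := d19_1 D2185 (iv D1077) (iv F1853)
theorem F3470 : act 5 n2185 = n2078 := d22_2 F3306 D2185 (iv D2078) D2076
def n2186 : Q := act 3 n1070
theorem D2186 : act 3 n1070 = n2186 := rfl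
theorem F3471 : act 1 n2186 = n1230 := d7_1 D2186 (iv D1230) (iv F1854)
def n2187 : Q := act 6 n1070
theorem D2187 : act 6 n1070 = n2187 := rfl
theorem F3472 : act 2 n2187 = n1071 := d14_1 D2187 (iv D1071) D1070
theorem F3473 : act 4 n2187 = n1079 := d19_1 D2187 (iv D1079) (iv F1855)
def n2188 : Q := act 5 n1071
theorem D2188 : act 5 n1071 = n2188 := rfl
theorem F3475 : act 4 n2188 = n1080 := d18_1 D2188 (iv D1080) (iv F1856)
def n2189 : Q := act 1 n1072
theorem D2189 : act 1 n1072 = n2189 := rfl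
theorem F3477 : act 4 n2189 = n1081 := d8_2 (iv F1857) D2189 (iv D1081)
def n2190 : Q := act 2 n1072
theorem D2190 : act 2 n1072 = n2190 := rfl
theorem F3478 : act 0 n2190 = n1073 := d1_1 D2190 (iv D1073) D1072
theorem F3479 : act 4 n2190 = n1082 := d12_2 (iv F1857) D2190 (iv D1082)
def n2191 : Q := act 5 n1072
theorem D2191 : act 5 n1072 = n2191 := rfl
theorem F3480 : act 0 n2191 = n1074 := d4_1 D2191 (iv D1074) D1072
theorem F3481 : act 4 n2191 = n1083 := d18_1 D2191 (iv D1083) (iv F1857)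
theorem F3482 : act 6 n2191 = n2082 := d22_1 D2191 (iv D2082) F1784 D1072
def n2192 : Q := act 3 n1073
theorem D2192 : act 3 n1073 = n2192 := rfl
theorem F3483 : act 1 n2192 = n1239 := d7_1 D2192 (iv D1239) (iv F1858)
def n2193 : Q := act 5 n1073
theorem D2193 : act 5 n1073 = n2193 := rfl
theorem F3484 : act 2 n2193 = n1074 := d13_1 D2193 (iv D1074) D1073
theorem F3485 : act 4 n2193 = n1085 := d18_1 D2193 (iv D1085) (iv F1859)
def n2194 : Q := act 6 n1074
theorem D2194 : act 6 n1074 = n2194 := rfl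
theorem F3487 : act 4 n2194 = n1086 := d19_1 D2194 (iv D1086) (iv F1860)
theorem F3488 : act 5 n2194 = n2080 := d20_1 D2194 F3313 D2191 F3482 (iv D2082) F1784 D1074
def n2198 : Q := act 6 n1075
theorem D2198 : act 6 n1075 = n2198 := rfl
def n2199 : Q := act 1 n1076
theorem D2199 : act 1 n1076 = n2199 := rfl
def n2201 : Q := act 6 n1076
theorem D2201 : act 6 n1076 = n2201 := rfl
theorem F3494 : act 0 n2201 = n1079 := d5_1 D2201 (iv D1079) (iv F1862)
theorem F3495 : act 2 n2201 = n1077 := d14_1 D2201 (iv D1077) D1076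
theorem F3496 : act 5 n2201 = n2087 := d22_2 F3321 D2201 (iv D2087) (iv F3320)
def n2202 : Q := act 1 n1077
theorem D2202 : act 1 n1077 = n2202 := rfl
theorem F3497 : act 3 n2202 = n1117 := d7_2 (iv F1864) D2202 (iv D1117)
def n2203 : Q := act 2 n1078
theorem D2203 : act 2 n1078 = n2203 := rfl
def n2205 : Q := act 6 n1078
theorem D2205 : act 6 n1078 = n2205 := rfl
theorem F3499 : act 3 n2205 = n1079 := d17_1 D2205 (iv D1079) D1078
def n2206 : Q := act 1 n1079
theorem D2206 : act 1 n1079 = n2206 := rfl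
def n2207 : Q := act 5 n1079
theorem D2207 : act 5 n1079 = n2207 := rfl
theorem F3503 : act 6 n2207 = n2085 := d20_2 D1079 D2207 F3321 D2201 F3496 (iv D2087) F1792
def n2208 : Q := act 1 n1080
theorem D2208 : act 1 n1080 = n2208 := rfl
theorem F3504 : act 3 n2208 = n1123 := d7_2 (iv F1869) D2208 (iv D1123)
def n2209 : Q := act 0 n1081
theorem D2209 : act 0 n1081 = n2209 := rfl
theorem F3505 : act 1 n2209 = n1265 := d0_2 D1081 D2209 (iv D1265) (iv D635) (iv D323) (iv D161) (iv F272) D276 D544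
def n2210 : Q := act 2 n1081
theorem D2210 : act 2 n1081 = n2210 := rfl
def n2211 : Q := act 5 n1081
theorem D2211 : act 5 n1081 = n2211 := rfl
def n2213 : Q := act 1 n1082
theorem D2213 : act 1 n1082 = n2213 := rfl
def n2214 : Q := act 3 n1082
theorem D2214 : act 3 n1082 = n2214 := rfl
theorem F3509 : act 0 n2214 = n1084 := d2_1 D2214 (iv D1084) (iv F1872)
def n2215 : Q := act 5 n1082
theorem D2215 : act 5 n1082 = n2215 := rfl
theorem F3511 : act 2 n2215 = n1083 := d13_1 D2215 (iv D1083) D1082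
theorem F3512 : act 6 n2215 = n2095 := d22_1 D2215 (iv D2095) F1798 (iv F1872)
def n2216 : Q := act 1 n1083
theorem D2216 : act 1 n1083 = n2216 := rfl
theorem F3513 : act 3 n2216 = n1131 := d7_2 (iv F1874) D2216 (iv D1131)
def n2217 : Q := act 2 n1084
theorem D2217 : act 2 n1084 = n2217 := rfl
def n2218 : Q := act 4 n1084
theorem D2218 : act 4 n1084 = n2218 := rfl
def n2219 : Q := act 5 n1084
theorem D2219 : act 5 n1084 = n2219 := rfl
theorem F3515 : act 3 n2219 = n1085 := d16_1 D2219 (iv D1085) D1084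
def n2220 : Q := act 1 n1085
theorem D2220 : act 1 n1085 = n2220 := rfl
theorem F3516 : act 5 n2220 = n1275 := d9_2 D1085 D2220 (iv D1275) (iv D639) (iv F1028)
def n2221 : Q := act 6 n1085
theorem D2221 : act 6 n1085 = n2221 := rfl
theorem F3518 : act 2 n2221 = n1086 := d14_1 D2221 (iv D1086) (iv F1877)
theorem F3519 : act 5 n2221 = n2093 := d20_1 D2221 F3333 D2215 F3512 (iv D2095) F1798 D1085
def n2222 : Q := act 1 n1086
theorem D2222 : act 1 n1086 = n2222 := rfl
theorem F3520 : act 3 n2222 = n1137 := d7_2 (iv F1879) D2222 (iv D1137)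
theorem F3521 : act 0 n2208 = n2222 := d2_3 F3520 F3439 (iv F3504)
def n2223 : Q := act 1 n1087
theorem D2223 : act 1 n1087 = n2223 := rfl
theorem F3522 : act 3 n2223 = n1285 := d7_2 (iv F1881) D2223 (iv D1285)
def n2224 : Q := act 5 n1087
theorem D2224 : act 5 n1087 = n2224 := rfl
theorem F3523 : act 0 n2224 = n1088 := d4_1 D2224 (iv D1088) D1087
theorem F3524 : act 3 n2224 = n1286 := d16_1 D2224 (iv D1286) (iv F1881)
def n2225 : Q := act 6 n1087
theorem D2225 : act 6 n1087 = n2225 := rfl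
theorem F3525 : act 0 n2225 = n1089 := d5_1 D2225 (iv D1089) D1087
theorem F3526 : act 3 n2225 = n1287 := d17_1 D2225 (iv D1287) (iv F1881)
def n2226 : Q := act 1 n1088
theorem D2226 : act 1 n1088 = n2226 := rfl
theorem F3527 : act 3 n2226 = n1288 := d7_2 (iv F1882) D2226 (iv D1288)
theorem F3528 : act 5 n2226 = n1090 := d9_2 D1088 D2226 (iv D1090) (iv D548) D547
def n2227 : Q := act 6 n1088
theorem D2227 : act 6 n1088 = n2227 := rfl
theorem F3529 : act 3 n2227 = n1289 := d17_1 D2227 (iv D1289) (iv F1882)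
theorem F3530 : act 5 n2227 = n2225 := d22_2 D1088 D2227 (iv D2225) (iv D1087)
def n2228 : Q := act 1 n1089
theorem D2228 : act 1 n1089 = n2228 := rfl
theorem F3531 : act 3 n2228 = n1290 := d7_2 (iv F1883) D2228 (iv D1290)
theorem F3532 : act 6 n2228 = n1091 := d10_2 D1089 D2228 (iv D1091) (iv D549) D547
def n2229 : Q := act 5 n1089
theorem D2229 : act 5 n1089 = n2229 := rfl
theorem F3533 : act 0 n2229 = n2227 := d4_1 D2229 F3530 F3525
theorem F3534 : act 3 n2229 = n1291 := d16_1 D2229 (iv D1291) (iv F1883)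
theorem F3535 : act 6 n2229 = n2224 := d20_2 D1089 D2229 (iv D2224) D2225 (iv F3530) (iv D2227) (iv D1088)
def n2230 : Q := act 0 n1090
theorem D2230 : act 0 n1090 = n2230 := rfl
theorem F3536 : act 3 n2230 = n1292 := d2_2 (iv F1884) D2230 (iv D1292)
def n2231 : Q := act 2 n1090
theorem D2231 : act 2 n1090 = n2231 := rfl
theorem F3537 : act 1 n2231 = n1093 := d6_1 D2231 (iv D1093) (iv D550) (iv F1032) D1090
def n2232 : Q := act 6 n1090
theorem D2232 : act 6 n1090 = n2232 := rfl
theorem F3538 : act 3 n2232 = n1294 := d17_1 D2232 (iv D1294) (iv F1884)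
def n2233 : Q := act 0 n1091
theorem D2233 : act 0 n1091 = n2233 := rfl
theorem F3539 : act 3 n2233 = n1296 := d2_2 (iv F1885) D2233 (iv D1296)
def n2234 : Q := act 2 n1091
theorem D2234 : act 2 n1091 = n2234 := rfl
theorem F3540 : act 1 n2234 = n1096 := d6_1 D2234 (iv D1096) (iv D551) (iv F1035) D1091
def n2235 : Q := act 5 n1091
theorem D2235 : act 5 n1091 = n2235 := rfl
theorem F3541 : act 3 n2235 = n1298 := d16_1 D2235 (iv D1298) (iv F1885)
def n2236 : Q := act 1 n1092
theorem D2236 : act 1 n1092 = n2236 := rfl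
theorem F3542 : act 3 n2236 = n1098 := d7_2 (iv F1886) D2236 (iv D1098)
def n2237 : Q := act 2 n1092
theorem D2237 : act 2 n1092 = n2237 := rfl
theorem F3543 : act 0 n2237 = n1093 := d1_1 D2237 (iv D1093) D1092
def n2238 : Q := act 6 n1092
theorem D2238 : act 6 n1092 = n2238 := rfl
theorem F3544 : act 0 n2238 = n1094 := d5_1 D2238 (iv D1094) D1092
theorem F3545 : act 3 n2238 = n1100 := d17_1 D2238 (iv D1100) (iv F1886)
theorem F3546 : act 5 n2238 = n2114 := d22_2 F3357 D2238 (iv D2114) D2112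
def n2239 : Q := act 3 n1093
theorem D2239 : act 3 n1093 = n2239 := rfl
def n2240 : Q := act 6 n1093
theorem D2240 : act 6 n1093 = n2240 := rfl
theorem F3547 : act 2 n2240 = n1094 := d14_1 D2240 (iv D1094) D1093
def n2241 : Q := act 5 n1094
theorem D2241 : act 5 n1094 = n2241 := rfl
theorem F3548 : act 0 n2241 = n2114 := d4_1 D2241 (iv F3546) F3544
theorem F3550 : act 6 n2241 = n2112 := d20_2 D1094 D2241 F3357 D2238 F3546 (iv D2114) F1805
def n2242 : Q := act 1 n1095
theorem D2242 : act 1 n1095 = n2242 := rfl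
theorem F3551 : act 3 n2242 = n1104 := d7_2 (iv F1888) D2242 (iv D1104)
def n2243 : Q := act 2 n1095
theorem D2243 : act 2 n1095 = n2243 := rfl
theorem F3552 : act 0 n2243 = n1096 := d1_1 D2243 (iv D1096) D1095
def n2244 : Q := act 5 n1095
theorem D2244 : act 5 n1095 = n2244 := rfl
theorem F3553 : act 0 n2244 = n1097 := d4_1 D2244 (iv D1097) D1095
theorem F3554 : act 3 n2244 = n1106 := d16_1 D2244 (iv D1106) (iv F1888)
theorem F3555 : act 6 n2244 = n2118 := d22_1 D2244 (iv D2118) F1809 D1095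
def n2245 : Q := act 3 n1096
theorem D2245 : act 3 n1096 = n2245 := rfl
def n2246 : Q := act 5 n1096
theorem D2246 : act 5 n1096 = n2246 := rfl
theorem F3556 : act 2 n2246 = n1097 := d13_1 D2246 (iv D1097) D1096
def n2248 : Q := act 0 n1098
theorem D2248 : act 0 n1098 = n2248 := rfl
theorem F3560 : act 1 n2248 = n1318 := d0_2 D1098 D2248 (iv D1318) (iv D659) (iv D334) (iv D166) (iv F276) D280 D552
theorem F3561 : act 4 n2248 = n1110 := d3_2 (iv F1890) D2248 (iv D1110)
def n2249 : Q := act 2 n1098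
theorem D2249 : act 2 n1098 = n2249 := rfl
theorem F3562 : act 4 n2249 = n1111 := d12_2 (iv F1890) D2249 (iv D1111)
def n2250 : Q := act 5 n1098
theorem D2250 : act 5 n1098 = n2250 := rfl
def n2251 : Q := act 6 n1098
theorem D2251 : act 6 n1098 = n2251 := rfl
def n2252 : Q := act 1 n1099
theorem D2252 : act 1 n1099 = n2252 := rfl
theorem F3565 : act 4 n2252 = n1114 := d8_2 (iv F1892) D2252 (iv D1114)
theorem F3566 : act 5 n2252 = n2252 := d9_2 F3371 D2252 (iv D2252) (iv F3371) F3369
def n2253 : Q := act 3 n1099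
theorem D2253 : act 3 n1099 = n2253 := rfl
theorem F3567 : act 0 n2253 = n1101 := d2_1 D2253 (iv D1101) (iv F1891)
def n2254 : Q := act 6 n1099
theorem D2254 : act 6 n1099 = n2254 := rfl
theorem F3568 : act 0 n2254 = n1102 := d5_1 D2254 (iv D1102) (iv F1891)
theorem F3569 : act 2 n2254 = n1100 := d14_1 D2254 (iv D1100) D1099
theorem F3570 : act 4 n2254 = n1116 := d19_1 D2254 (iv D1116) (iv F1892)
theorem F3571 : act 5 n2254 = n2123 := d22_2 F3371 D2254 (iv D2123) (iv F3368)
def n2255 : Q := act 1 n1100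
theorem D2255 : act 1 n1100 = n2255 := rfl
theorem F3572 : act 4 n2255 = n1117 := d8_2 (iv F1894) D2255 (iv D1117)
def n2256 : Q := act 2 n1101
theorem D2256 : act 2 n1101 = n2256 := rfl
def n2257 : Q := act 4 n1101
theorem D2257 : act 4 n1101 = n2257 := rfl
theorem F3573 : act 1 n2257 = n1142 := d8_1 D2257 (iv D1142) (iv F1896)
theorem F3574 : act 3 n2257 = n1119 := d15_1 D2257 (iv D1119) (iv D561) (iv F1041) D1101
def n2258 : Q := act 6 n1101
theorem D2258 : act 6 n1101 = n2258 := rfl
theorem F3575 : act 3 n2258 = n1102 := d17_1 D2258 (iv D1102) D1101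
def n2259 : Q := act 1 n1102
theorem D2259 : act 1 n1102 = n2259 := rfl
theorem F3576 : act 4 n2259 = n1121 := d8_2 (iv F1898) D2259 (iv D1121)
theorem F3577 : act 6 n2259 = n1144 := d10_2 D1102 D2259 (iv D1144) (iv D573) (iv F1040)
def n2260 : Q := act 5 n1102
theorem D2260 : act 5 n1102 = n2260 := rfl
theorem F3579 : act 2 n2260 = n1103 := d13_1 D2260 (iv D1103) (iv F1897)
def n2261 : Q := act 1 n1103
theorem D2261 : act 1 n1103 = n2261 := rfl
theorem F3582 : act 4 n2261 = n1123 := d8_2 (iv F1900) D2261 (iv D1123)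
def n2262 : Q := act 0 n1104
theorem D2262 : act 0 n1104 = n2262 := rfl
theorem F3583 : act 1 n2262 = n1332 := d0_2 D1104 D2262 (iv D1332) (iv D665) (iv D337) (iv D168) (iv F279) D281 D555
def n2263 : Q := act 2 n1104
theorem D2263 : act 2 n1104 = n2263 := rfl
theorem F3585 : act 4 n2263 = n1125 := d12_2 (iv F1902) D2263 (iv D1125)
def n2264 : Q := act 5 n1104
theorem D2264 : act 5 n1104 = n2264 := rfl
def n2265 : Q := act 6 n1104
theorem D2265 : act 6 n1104 = n2265 := rfl
def n2266 : Q := act 1 n1105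
theorem D2266 : act 1 n1105 = n2266 := rfl
theorem F3588 : act 4 n2266 = n1128 := d8_2 (iv F1904) D2266 (iv D1128)
def n2267 : Q := act 3 n1105
theorem D2267 : act 3 n1105 = n2267 := rfl
theorem F3589 : act 0 n2267 = n1107 := d2_1 D2267 (iv D1107) (iv F1903)
def n2268 : Q := act 5 n1105
theorem D2268 : act 5 n1105 = n2268 := rfl
theorem F3590 : act 0 n2268 = n1108 := d4_1 D2268 (iv D1108) (iv F1903)
theorem F3591 : act 2 n2268 = n1106 := d13_1 D2268 (iv D1106) D1105
theorem F3592 : act 4 n2268 = n1130 := d18_1 D2268 (iv D1130) (iv F1904)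
theorem F3593 : act 6 n2268 = n2131 := d22_1 D2268 (iv D2131) F1822 (iv F1903)
def n2269 : Q := act 1 n1106
theorem D2269 : act 1 n1106 = n2269 := rfl
theorem F3594 : act 4 n2269 = n1131 := d8_2 (iv F1906) D2269 (iv D1131)
def n2270 : Q := act 2 n1107
theorem D2270 : act 2 n1107 = n2270 := rfl
def n2271 : Q := act 4 n1107
theorem D2271 : act 4 n1107 = n2271 := rfl
theorem F3595 : act 1 n2271 = n1150 := d8_1 D2271 (iv D1150) (iv F1908)
theorem F3596 : act 3 n2271 = n1133 := d15_1 D2271 (iv D1133) (iv D567) (iv F1045) D1107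
def n2272 : Q := act 5 n1107
theorem D2272 : act 5 n1107 = n2272 := rfl
theorem F3597 : act 3 n2272 = n1108 := d16_1 D2272 (iv D1108) D1107
def n2273 : Q := act 1 n1108
theorem D2273 : act 1 n1108 = n2273 := rfl
theorem F3598 : act 4 n2273 = n1135 := d8_2 (iv F1910) D2273 (iv D1135)
theorem F3599 : act 5 n2273 = n1152 := d9_2 D1108 D2273 (iv D1152) (iv D578) (iv F1044)
def n2274 : Q := act 6 n1108
theorem D2274 : act 6 n1108 = n2274 := rfl
theorem F3603 : act 5 n2274 = n2129 := d20_1 D2274 F3384 D2268 F3593 (iv D2131) F1822 D1108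
def n2275 : Q := act 1 n1109
theorem D2275 : act 1 n1109 = n2275 := rfl
theorem F3604 : act 4 n2275 = n1137 := d8_2 (iv F1912) D2275 (iv D1137)
theorem F3605 : act 0 n2261 = n2275 := d3_3 F3604 F3439 (iv F3582)
def n2276 : Q := act 2 n1110
theorem D2276 : act 2 n1110 = n2276 := rfl
theorem F3606 : act 0 n2276 = n1111 := d1_1 D2276 (iv D1111) D1110
def n2277 : Q := act 6 n1110
theorem D2277 : act 6 n1110 = n2277 := rfl
theorem F3607 : act 0 n2277 = n1113 := d5_1 D2277 (iv D1113) D1110
def n2278 : Q := act 1 n1111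
theorem D2278 : act 1 n1111 = n2278 := rfl
theorem F3608 : act 2 n2278 = n1114 := d6_2 D1111 D2278 (iv D1114) (iv D559) D558
def n2280 : Q := act 5 n1111
theorem D2280 : act 5 n1111 = n2280 := rfl
theorem F3611 : act 2 n2280 = n1112 := d13_1 D2280 (iv D1112) D1111
def n2281 : Q := act 6 n1111
theorem D2281 : act 6 n1111 = n2281 := rfl
theorem F3612 : act 2 n2281 = n1113 := d14_1 D2281 (iv D1113) D1111
def n2282 : Q := act 6 n1112
theorem D2282 : act 6 n1112 = n2282 := rfl
theorem F3613 : act 5 n2282 = n2277 := d22_2 D1112 D2282 (iv D2277) (iv D1110)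
def n2283 : Q := act 1 n1113
theorem D2283 : act 1 n1113 = n2283 := rfl
theorem F3614 : act 6 n2283 = n1117 := d10_2 D1113 D2283 (iv D1117) (iv D560) D558
theorem F3615 : act 5 n1392 = n2283 := d22_0 F3614 (iv F3414) (iv D1395) D1392
theorem F3616 : act 0 n2283 = n1394 := d22_4 (iv D1394) D1395 F3414 (iv F3614)
def n2284 : Q := act 5 n1113
theorem D2284 : act 5 n1113 = n2284 := rfl
theorem F3617 : act 0 n2284 = n2282 := d4_1 D2284 F3613 F3607
def n2285 : Q := act 0 n1114
theorem D2285 : act 0 n1114 = n2285 := rfl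
def n2286 : Q := act 3 n1114
theorem D2286 : act 3 n1114 = n2286 := rfl
theorem F3620 : act 1 n2286 = n1115 := d7_1 D2286 (iv D1115) D1114
theorem F3621 : act 5 n2286 = n2286 := d16_2 F1915 D2286 (iv D2286)
def n2287 : Q := act 6 n1114
theorem D2287 : act 6 n1114 = n2287 := rfl
def n2288 : Q := act 2 n1115
theorem D2288 : act 2 n1115 = n2288 := rfl
theorem F3622 : act 0 n2288 = n1118 := d1_1 D2288 (iv D1118) (iv F1916)
theorem F3623 : act 3 n2288 = n2203 := d21_1 D2288 (iv D2203) (iv D1078) (iv D542) F552 D283 D561 (iv F1916)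
def n2289 : Q := act 4 n1115
theorem D2289 : act 4 n1115 = n2289 := rfl
theorem F3624 : act 0 n2289 = n1119 := d3_1 D2289 (iv D1119) (iv F1916)
def n2290 : Q := act 6 n1115
theorem D2290 : act 6 n1115 = n2290 := rfl
theorem F3625 : act 0 n2290 = n1120 := d5_1 D2290 (iv D1120) (iv F1916)
theorem F3626 : act 3 n2290 = n1116 := d17_1 D2290 (iv D1116) D1115
theorem F3627 : act 5 n2290 = n2141 := d22_2 F3404 D2290 (iv D2141) (iv F3402)
def n2291 : Q := act 1 n1116
theorem D2291 : act 1 n1116 = n2291 := rfl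
def n2292 : Q := act 0 n1117
theorem D2292 : act 0 n1117 = n2292 := rfl
theorem F3628 : act 1 n2292 = n2064 := d0_2 D1117 D2292 F3281 (iv F1832) (iv F3413) (iv D1399) F1255 F671 (iv F1048)
theorem F3629 : act 6 n2292 = n1394 := d5_2 F3614 D2292 (iv F3616)
theorem F3630 : act 1 n1378 = n2030 := d24_11 F3629 (iv D1394) (iv D693) D695 F1256 (iv F2297) (iv D1387) (iv F2292) (iv D1382) D1383 F2293 F3242 D2064 (iv F3628)
theorem F3631 : act 6 n2062 = n1124 := d10_4 D1378 F3630 F3242 D2062 F1926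
theorem F3632 : act 1 n1377 = n2282 := d24_5 D2067 F3285 (iv F3630) (iv D1378) D1377 (iv D2282) (iv D1112) (iv D558) D560 F1049 D1051 F1831 D1054 F1832
theorem F3633 : act 0 n1127 = n2062 := d5_3 F3631 (iv D1124) D1127
theorem E4 : n2154 = n2151 := ((c0_10 F3420 F3633 (iv D2062) (iv D1013) (iv D513) F529 D270 D532 D1055 D2151)).symm
theorem F3634 : act 1 n2151 = n1127 := (sb E4 F3420)
theorem F3635 : act 6 n2151 = n1055 := (sb E4 (iv D2154))
def n2293 : Q := act 2 n1117
theorem D2293 : act 2 n1117 = n2293 := rfl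
def n2295 : Q := act 4 n1118
theorem D2295 : act 4 n1118 = n2295 := rfl
theorem F3639 : act 2 n2295 = n1119 := d12_1 D2295 (iv D1119) D1118
def n2296 : Q := act 6 n1118
theorem D2296 : act 6 n1118 = n2296 := rfl
theorem F3640 : act 2 n2296 = n1120 := d14_1 D2296 (iv D1120) D1118
def n2297 : Q := act 6 n1119
theorem D2297 : act 6 n1119 = n2297 := rfl
theorem F3641 : act 4 n2297 = n1120 := d19_1 D2297 (iv D1120) D1119
def n2298 : Q := act 1 n1120
theorem D2298 : act 1 n1120 = n2298 := rfl
theorem F3642 : act 3 n2298 = n1121 := d7_2 (iv F1921) D2298 (iv D1121)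
theorem F3643 : act 6 n2298 = n1162 := d10_2 D1120 D2298 (iv D1162) (iv D584) (iv F1050)
def n2299 : Q := act 5 n1120
theorem D2299 : act 5 n1120 = n2299 := rfl
theorem F3645 : act 3 n2299 = n1122 := d16_1 D2299 (iv D1122) (iv F1921)
theorem F3646 : act 6 n2299 = n2138 := d20_2 D1120 D2299 F3404 D2290 F3627 (iv D2141) F1829
def n2300 : Q := act 0 n1121
theorem D2300 : act 0 n1121 = n2300 := rfl
theorem F3647 : act 6 n2300 = n1164 := d5_2 (iv F1922) D2300 (iv D1164)
def n2301 : Q := act 5 n1121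
theorem D2301 : act 5 n1121 = n2301 := rfl
def n2303 : Q := act 2 n1123
theorem D2303 : act 2 n1123 = n2303 := rfl
def n2304 : Q := act 6 n1123
theorem D2304 : act 6 n1123 = n2304 := rfl
theorem F3649 : act 0 n2304 = n1375 := d5_1 D2304 F2285 F3439
theorem F3650 : act 1 n2304 = n2137 := d10_1 D2304 (iv D2137) (iv D1047) (iv F1053) D1123
def n2305 : Q := act 2 n1124
theorem D2305 : act 2 n1124 = n2305 := rfl
def n2306 : Q := act 5 n1124
theorem D2306 : act 5 n1124 = n2306 := rfl
theorem F3652 : act 0 n2306 = n1126 := d4_1 D2306 (iv D1126) D1124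
theorem F3653 : act 1 n2306 = n2277 := d9_1 D2306 (iv F3613) (iv F3632) (iv D1377) (iv F1926)
def n2307 : Q := act 1 n1125
theorem D2307 : act 1 n1125 = n2307 := rfl
theorem F3654 : act 2 n2307 = n1128 := d6_2 D1125 D2307 (iv D1128) (iv D565) D564
def n2308 : Q := act 3 n1125
theorem D2308 : act 3 n1125 = n2308 := rfl
def n2309 : Q := act 5 n1125
theorem D2309 : act 5 n1125 = n2309 := rfl
theorem F3655 : act 2 n2309 = n1126 := d13_1 D2309 (iv D1126) D1125
def n2311 : Q := act 1 n1126
theorem D2311 : act 1 n1126 = n2311 := rfl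
theorem F3657 : act 5 n2311 = n1131 := d9_2 D1126 D2311 (iv D1131) (iv D566) D564
theorem F3658 : act 0 n1365 = n2311 := d22_4 F3657 F3432 (iv D1364) D1365
theorem F3659 : act 6 n1362 = n2311 := d24_0 F3657 (iv D1131) F1056 (iv D534) (iv D270) (iv D131) D130 D268 D530 (iv F1049) D1117 (iv F3614) (iv F3615) F2303
def n2312 : Q := act 6 n1126
theorem D2312 : act 6 n1126 = n2312 := rfl
theorem F3660 : act 5 n2312 = n2062 := d22_2 D1126 D2312 F3631 (iv D1124)
def n2313 : Q := act 5 n1127
theorem D2313 : act 5 n1127 = n2313 := rfl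
theorem F3663 : act 1 n2313 = n1348 := d24_2 D1127 D2313 (iv D1348) D1347 (iv F3399) (iv F3279) (iv D2061) (iv F1838) (iv D1062) (iv F1837) (iv D1059) (iv F1056) (iv D566) D564
def n2314 : Q := act 0 n1128
theorem D2314 : act 0 n1128 = n2314 := rfl
def n2315 : Q := act 3 n1128
theorem D2315 : act 3 n1128 = n2315 := rfl
theorem F3664 : act 1 n2315 = n1129 := d7_1 D2315 (iv D1129) D1128
def n2316 : Q := act 5 n1128
theorem D2316 : act 5 n1128 = n2316 := rfl
def n2317 : Q := act 6 n1128
theorem D2317 : act 6 n1128 = n2317 := rfl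
def n2318 : Q := act 2 n1129
theorem D2318 : act 2 n1129 = n2318 := rfl
theorem F3665 : act 0 n2318 = n1132 := d1_1 D2318 (iv D1132) (iv F1927)
theorem F3666 : act 3 n2318 = n2217 := d21_1 D2318 (iv D2217) (iv D1084) (iv D545) F553 D286 D567 (iv F1927)
def n2319 : Q := act 4 n1129
theorem D2319 : act 4 n1129 = n2319 := rfl
theorem F3667 : act 0 n2319 = n1133 := d3_1 D2319 (iv D1133) (iv F1927)
def n2320 : Q := act 5 n1129
theorem D2320 : act 5 n1129 = n2320 := rfl
theorem F3668 : act 0 n2320 = n1134 := d4_1 D2320 (iv D1134) (iv F1927)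
theorem F3670 : act 6 n2320 = n2159 := d22_1 D2320 (iv D2159) F1835 (iv F1927)
def n2321 : Q := act 1 n1130
theorem D2321 : act 1 n1130 = n2321 := rfl
def n2322 : Q := act 0 n1131
theorem D2322 : act 0 n1131 = n2322 := rfl
theorem F3672 : act 5 n2322 = n1365 := d4_2 F3657 D2322 F3658
def n2323 : Q := act 2 n1131
theorem D2323 : act 2 n1131 = n2323 := rfl
def n2324 : Q := act 1 n1132
theorem D2324 : act 1 n1132 = n2324 := rfl
theorem F3673 : act 2 n2324 = n1174 := d6_2 D1132 D2324 (iv D1174) (iv D590) (iv F1057)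
def n2325 : Q := act 3 n1132
theorem D2325 : act 3 n1132 = n2325 := rfl
theorem F3675 : act 2 n2325 = n2214 := d11_1 D2325 (iv D2214) (iv D1082) F1027 D565 D1129 D2318 F3666 (iv D2217) (iv D1084) (iv D545) F553 D286 D567 D1132
def n2326 : Q := act 4 n1132
theorem D2326 : act 4 n1132 = n2326 := rfl
theorem F3676 : act 2 n2326 = n1133 := d12_1 D2326 (iv D1133) D1132
def n2327 : Q := act 5 n1132
theorem D2327 : act 5 n1132 = n2327 := rfl
theorem F3677 : act 2 n2327 = n1134 := d13_1 D2327 (iv D1134) D1132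
def n2328 : Q := act 5 n1133
theorem D2328 : act 5 n1133 = n2328 := rfl
theorem F3678 : act 4 n2328 = n1134 := d18_1 D2328 (iv D1134) D1133
def n2329 : Q := act 1 n1134
theorem D2329 : act 1 n1134 = n2329 := rfl
theorem F3679 : act 3 n2329 = n1135 := d7_2 (iv F1932) D2329 (iv D1135)
theorem F3680 : act 5 n2329 = n1178 := d9_2 D1134 D2329 (iv D1178) (iv D592) (iv F1057)
def n2330 : Q := act 6 n1134
theorem D2330 : act 6 n1134 = n2330 := rfl
theorem F3682 : act 3 n2330 = n1136 := d17_1 D2330 (iv D1136) (iv F1932)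
theorem F3683 : act 5 n2330 = n2156 := d20_1 D2330 F3422 D2320 F3670 (iv D2159) F1835 D1134
def n2331 : Q := act 0 n1135
theorem D2331 : act 0 n1135 = n2331 := rfl
theorem F3684 : act 5 n2331 = n1180 := d4_2 (iv F1933) D2331 (iv D1180)
def n2332 : Q := act 6 n1135
theorem D2332 : act 6 n1135 = n2332 := rfl
def n2335 : Q := act 5 n1137
theorem D2335 : act 5 n1137 = n2335 := rfl
theorem F3686 : act 0 n2335 = n1405 := d4_1 D2335 F2315 (iv F3439)
theorem F3687 : act 1 n2335 = n2153 := d9_1 D2335 (iv D2153) (iv D1055) (iv F1060) D1137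
def n2338 : Q := act 0 n1139
theorem D2338 : act 0 n1139 = n2338 := rfl
theorem F3693 : act 4 n2338 = n1156 := d3_2 (iv F1941) D2338 (iv D1156)
def n2339 : Q := act 3 n1139
theorem D2339 : act 3 n1139 = n2339 := rfl
theorem F3694 : act 1 n2339 = n1140 := d7_1 D2339 (iv D1140) D1139
def n2340 : Q := act 5 n1139
theorem D2340 : act 5 n1139 = n2340 := rfl
theorem F3695 : act 4 n2340 = n1158 := d18_1 D2340 (iv D1158) (iv F1941)
def n2341 : Q := act 6 n1139
theorem D2341 : act 6 n1139 = n2341 := rfl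
def n2342 : Q := act 2 n1140
theorem D2342 : act 2 n1140 = n2342 := rfl
theorem F3697 : act 0 n2342 = n1141 := d1_1 D2342 (iv D1141) (iv F1942)
theorem F3698 : act 3 n2342 = n1141 := d21_1 D2342 (iv D1141) (iv D572) (iv D289) F282 D289 D572 (iv F1942)
def n2343 : Q := act 4 n1140
theorem D2343 : act 4 n1140 = n2343 := rfl
theorem F3699 : act 0 n2343 = n1142 := d3_1 D2343 (iv D1142) (iv F1942)
theorem F3700 : act 3 n2343 = n1160 := d15_1 D2343 (iv D1160) (iv D582) (iv F1067) D1140
def n2344 : Q := act 1 n1141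
theorem D2344 : act 1 n1141 = n2344 := rfl
def n2345 : Q := act 4 n1141
theorem D2345 : act 4 n1141 = n2345 := rfl
theorem F3701 : act 2 n2345 = n1142 := d12_1 D2345 (iv D1142) D1141
def n2346 : Q := act 6 n1141
theorem D2346 : act 6 n1141 = n2346 := rfl
theorem F3702 : act 2 n2346 = n1143 := d14_1 D2346 (iv D1143) D1141
def n2347 : Q := act 6 n1142
theorem D2347 : act 6 n1142 = n2347 := rfl
theorem F3703 : act 3 n2347 = n1161 := d17_1 D2347 (iv D1161) (iv F1943)
theorem F3704 : act 4 n2347 = n1143 := d19_1 D2347 (iv D1143) D1142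
def n2348 : Q := act 1 n1143
theorem D2348 : act 1 n1143 = n2348 := rfl
theorem F3705 : act 3 n2348 = n1144 := d7_2 (iv F1944) D2348 (iv D1144)
def n2349 : Q := act 5 n1143
theorem D2349 : act 5 n1143 = n2349 := rfl
theorem F3706 : act 0 n2349 = n1961 := d4_1 D2349 (iv F3142) F3141
theorem F3707 : act 3 n2349 = n1145 := d16_1 D2349 (iv D1145) (iv F1944)
theorem F3708 : act 6 n2349 = n1188 := d20_2 D1143 D2349 F2005 (iv F3143) F3142 (iv D1961) F1678
def n2350 : Q := act 0 n1144
theorem D2350 : act 0 n1144 = n2350 := rfl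
theorem F3709 : act 4 n2350 = n1164 := d3_2 (iv F1945) D2350 (iv D1164)
def n2351 : Q := act 5 n1144
theorem D2351 : act 5 n1144 = n2351 := rfl
theorem F3710 : act 4 n2351 = n1165 := d18_1 D2351 (iv D1165) (iv F1945)
def n2352 : Q := act 1 n1145
theorem D2352 : act 1 n1145 = n2352 := rfl
theorem F3711 : act 2 n2352 = n1406 := d6_2 (iv F1947) D2352 (iv D1406) (iv D699) F1074
theorem F3712 : act 4 n2352 = n1166 := d8_2 (iv F1948) D2352 (iv D1166)
def n2353 : Q := act 1 n1146
theorem D2353 : act 1 n1146 = n2353 := rfl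
theorem F3713 : act 2 n2353 = n1147 := d6_2 D1146 D2353 (iv D1147) (iv D576) D575
theorem F3714 : act 4 n2353 = n1167 := d8_2 (iv F1951) D2353 (iv D1167)
def n2355 : Q := act 0 n1147
theorem D2355 : act 0 n1147 = n2355 := rfl
theorem F3718 : act 4 n2355 = n1169 := d3_2 (iv F1954) D2355 (iv D1169)
def n2356 : Q := act 3 n1147
theorem D2356 : act 3 n1147 = n2356 := rfl
theorem F3719 : act 1 n2356 = n1148 := d7_1 D2356 (iv D1148) D1147
def n2357 : Q := act 5 n1147
theorem D2357 : act 5 n1147 = n2357 := rfl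
def n2358 : Q := act 6 n1147
theorem D2358 : act 6 n1147 = n2358 := rfl
def n2359 : Q := act 2 n1148
theorem D2359 : act 2 n1148 = n2359 := rfl
theorem F3722 : act 0 n2359 = n1149 := d1_1 D2359 (iv D1149) (iv F1955)
theorem F3723 : act 3 n2359 = n1149 := d21_1 D2359 (iv D1149) (iv D577) (iv D292) F284 D292 D577 (iv F1955)
def n2360 : Q := act 4 n1148
theorem D2360 : act 4 n1148 = n2360 := rfl
theorem F3724 : act 0 n2360 = n1150 := d3_1 D2360 (iv D1150) (iv F1955)
theorem F3725 : act 3 n2360 = n1173 := d15_1 D2360 (iv D1173) (iv D589) (iv F1081) D1148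
def n2361 : Q := act 1 n1149
theorem D2361 : act 1 n1149 = n2361 := rfl
def n2362 : Q := act 4 n1149
theorem D2362 : act 4 n1149 = n2362 := rfl
theorem F3726 : act 2 n2362 = n1150 := d12_1 D2362 (iv D1150) D1149
def n2363 : Q := act 5 n1149
theorem D2363 : act 5 n1149 = n2363 := rfl
theorem F3727 : act 2 n2363 = n1151 := d13_1 D2363 (iv D1151) D1149
def n2364 : Q := act 5 n1150
theorem D2364 : act 5 n1150 = n2364 := rfl
theorem F3728 : act 3 n2364 = n1177 := d16_1 D2364 (iv D1177) (iv F1956)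
theorem F3729 : act 4 n2364 = n1151 := d18_1 D2364 (iv D1151) D1150
def n2365 : Q := act 1 n1151
theorem D2365 : act 1 n1151 = n2365 := rfl
theorem F3730 : act 3 n2365 = n1152 := d7_2 (iv F1957) D2365 (iv D1152)
def n2366 : Q := act 6 n1151
theorem D2366 : act 6 n1151 = n2366 := rfl
theorem F3731 : act 0 n2366 = n1968 := d5_1 D2366 F3138 F3128
theorem F3732 : act 3 n2366 = n1153 := d17_1 D2366 (iv D1153) (iv F1957)
def n2367 : Q := act 0 n1152
theorem D2367 : act 0 n1152 = n2367 := rfl
theorem F3734 : act 4 n2367 = n1180 := d3_2 (iv F1958) D2367 (iv D1180)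
def n2368 : Q := act 6 n1152
theorem D2368 : act 6 n1152 = n2368 := rfl
theorem F3735 : act 4 n2368 = n1181 := d19_1 D2368 (iv D1181) (iv F1958)
def n2369 : Q := act 1 n1153
theorem D2369 : act 1 n1153 = n2369 := rfl
theorem F3736 : act 2 n2369 = n1413 := d6_2 (iv F1960) D2369 (iv D1413) (iv D703) F1088
theorem F3737 : act 4 n2369 = n1182 := d8_2 (iv F1961) D2369 (iv D1182)
def n2370 : Q := act 0 n1154
theorem D2370 : act 0 n1154 = n2370 := rfl
theorem F3738 : act 2 n2370 = n1156 := d1_2 (iv F1963) D2370 (iv D1156)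
def n2373 : Q := act 6 n1154
theorem D2373 : act 6 n1154 = n2373 := rfl
theorem F3742 : act 1 n2373 = n1618 := d10_1 D2373 (iv D1618) F1456 (iv F1091) D1154
def n2375 : Q := act 1 n1156
theorem D2375 : act 1 n1156 = n2375 := rfl
def n2376 : Q := act 3 n1156
theorem D2376 : act 3 n1156 = n2376 := rfl
theorem F3748 : act 0 n2376 = n1157 := d2_1 D2376 (iv D1157) D1156
def n2377 : Q := act 5 n1156
theorem D2377 : act 5 n1156 = n2377 := rfl
theorem F3749 : act 0 n2377 = n1158 := d4_1 D2377 (iv D1158) D1156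
def n2379 : Q := act 2 n1157
theorem D2379 : act 2 n1157 = n2379 := rfl
def n2380 : Q := act 4 n1157
theorem D2380 : act 4 n1157 = n2380 := rfl
theorem F3751 : act 1 n2380 = n1160 := d8_1 D2380 (iv D1160) (iv F1968)
def n2381 : Q := act 5 n1157
theorem D2381 : act 5 n1157 = n2381 := rfl
theorem F3752 : act 3 n2381 = n1158 := d16_1 D2381 (iv D1158) D1157
def n2382 : Q := act 6 n1157
theorem D2382 : act 6 n1157 = n2382 := rfl
def n2385 : Q := act 1 n1161
theorem D2385 : act 1 n1161 = n2385 := rfl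
theorem F3757 : act 4 n2385 = n1162 := d8_2 (iv F1970) D2385 (iv D1162)
def n2386 : Q := act 5 n1161
theorem D2386 : act 5 n1161 = n2386 := rfl
theorem F3758 : act 0 n2386 = n1971 := d4_1 D2386 (iv F3171) F3170
theorem F3759 : act 2 n2386 = n1988 := d13_1 D2386 F3171 F3144
theorem F3760 : act 4 n2386 = n1163 := d18_1 D2386 (iv D1163) (iv F1970)
theorem F3761 : act 6 n2386 = n1187 := d20_2 D1161 D2386 F2003 (iv F3172) F3171 (iv D1971) F1696
def n2387 : Q := act 0 n1162
theorem D2387 : act 0 n1162 = n2387 := rfl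
theorem F3762 : act 3 n2387 = n1164 := d2_2 (iv F1971) D2387 (iv D1164)
def n2388 : Q := act 2 n1162
theorem D2388 : act 2 n1162 = n2388 := rfl
def n2389 : Q := act 5 n1162
theorem D2389 : act 5 n1162 = n2389 := rfl
theorem F3763 : act 3 n2389 = n1165 := d16_1 D2389 (iv D1165) (iv F1971)
def n2390 : Q := act 1 n1163
theorem D2390 : act 1 n1163 = n2390 := rfl
theorem F3764 : act 3 n2390 = n1166 := d7_2 (iv F1974) D2390 (iv D1166)
def n2391 : Q := act 1 n1164
theorem D2391 : act 1 n1164 = n2391 := rfl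
def n2392 : Q := act 5 n1164
theorem D2392 : act 5 n1164 = n2392 := rfl
theorem F3765 : act 0 n2392 = n1165 := d4_1 D2392 (iv D1165) D1164
theorem F3766 : act 6 n2392 = n2301 := d22_1 D2392 (iv D2301) F1922 D1164
def n2393 : Q := act 1 n1165
theorem D2393 : act 1 n1165 = n2393 := rfl
theorem F3767 : act 5 n2393 = n1166 := d9_2 D1165 D2393 (iv D1166) (iv D586) D585
def n2394 : Q := act 6 n1165
theorem D2394 : act 6 n1165 = n2394 := rfl
theorem F3770 : act 5 n2394 = n2300 := d20_1 D2394 F3647 D2392 F3766 (iv D2301) F1922 D1165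
def n2395 : Q := act 0 n1166
theorem D2395 : act 0 n1166 = n2395 := rfl
def n2396 : Q := act 6 n1166
theorem D2396 : act 6 n1166 = n2396 := rfl
theorem F3772 : act 1 n2396 = n1186 := d10_1 D2396 (iv D1186) (iv D595) (iv F1096) D1166
def n2397 : Q := act 0 n1167
theorem D2397 : act 0 n1167 = n2397 := rfl
theorem F3774 : act 2 n2397 = n1169 := d1_2 (iv F1977) D2397 (iv D1169)
def n2399 : Q := act 5 n1167
theorem D2399 : act 5 n1167 = n2399 := rfl
theorem F3776 : act 1 n2399 = n1624 := d9_1 D2399 (iv D1624) F1457 (iv F1098) D1167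
theorem F3777 : act 2 n2399 = n1171 := d13_1 D2399 (iv D1171) (iv F1977)
def n2402 : Q := act 1 n1169
theorem D2402 : act 1 n1169 = n2402 := rfl
def n2403 : Q := act 3 n1169
theorem D2403 : act 3 n1169 = n2403 := rfl
theorem F3784 : act 0 n2403 = n1170 := d2_1 D2403 (iv D1170) D1169
def n2404 : Q := act 5 n1169
theorem D2404 : act 5 n1169 = n2404 := rfl
def n2406 : Q := act 2 n1170
theorem D2406 : act 2 n1170 = n2406 := rfl
def n2407 : Q := act 4 n1170
theorem D2407 : act 4 n1170 = n2407 := rfl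
theorem F3787 : act 1 n2407 = n1173 := d8_1 D2407 (iv D1173) (iv F1982)
def n2408 : Q := act 5 n1170
theorem D2408 : act 5 n1170 = n2408 := rfl
def n2409 : Q := act 6 n1170
theorem D2409 : act 6 n1170 = n2409 := rfl
def n2418 : Q := act 1 n1176
theorem D2418 : act 1 n1176 = n2418 := rfl
theorem F3796 : act 3 n2418 = n1989 := d7_2 (iv F1986) D2418 (iv D1989)
def n2419 : Q := act 1 n1177
theorem D2419 : act 1 n1177 = n2419 := rfl
theorem F3797 : act 4 n2419 = n1178 := d8_2 (iv F1987) D2419 (iv D1178)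
def n2420 : Q := act 6 n1177
theorem D2420 : act 6 n1177 = n2420 := rfl
theorem F3798 : act 0 n2420 = n1984 := d5_1 D2420 F3165 F3149
theorem F3799 : act 4 n2420 = n1179 := d19_1 D2420 (iv D1179) (iv F1987)
theorem F3800 : act 5 n2420 = n1980 := d20_1 D2420 F3157 (iv F3150) (iv F3165) (iv D1984) F1705 D1177
def n2421 : Q := act 0 n1178
theorem D2421 : act 0 n1178 = n2421 := rfl
theorem F3801 : act 3 n2421 = n1180 := d2_2 (iv F1988) D2421 (iv D1180)
def n2422 : Q := act 2 n1178
theorem D2422 : act 2 n1178 = n2422 := rfl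
def n2423 : Q := act 6 n1178
theorem D2423 : act 6 n1178 = n2423 := rfl
def n2424 : Q := act 1 n1179
theorem D2424 : act 1 n1179 = n2424 := rfl
theorem F3803 : act 3 n2424 = n1182 := d7_2 (iv F1990) D2424 (iv D1182)
def n2425 : Q := act 1 n1180
theorem D2425 : act 1 n1180 = n2425 := rfl
def n2426 : Q := act 6 n1180
theorem D2426 : act 6 n1180 = n2426 := rfl
theorem F3804 : act 0 n2426 = n1181 := d5_1 D2426 (iv D1181) D1180
theorem F3805 : act 5 n2426 = n2332 := d22_2 F3684 D2426 (iv D2332) D2331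
def n2427 : Q := act 1 n1181
theorem D2427 : act 1 n1181 = n2427 := rfl
theorem F3806 : act 6 n2427 = n1182 := d10_2 D1181 D2427 (iv D1182) (iv D594) D593
theorem F3807 : act 2 n1437 = n2427 := d14_3 F3806 F1992 D1437
def n2428 : Q := act 5 n1181
theorem D2428 : act 5 n1181 = n2428 := rfl
theorem F3809 : act 6 n2428 = n2331 := d20_2 D1181 D2428 F3684 D2426 F3805 (iv D2332) F1933
def n2430 : Q := act 5 n1182
theorem D2430 : act 5 n1182 = n2430 := rfl
def n2431 : Q := act 3 n1183
theorem D2431 : act 3 n1183 = n2431 := rfl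
theorem F3813 : act 0 n2431 = n1184 := d2_1 D2431 (iv D1184) D1183
theorem F3814 : act 1 n2431 = n2381 := d7_1 D2431 F3752 F1995
theorem F3815 : act 5 n2431 = n1184 := d16_2 (iv F1994) D2431 (iv D1184)
def n2432 : Q := act 4 n1183
theorem D2432 : act 4 n1183 = n2432 := rfl
theorem F3816 : act 0 n2432 = n1185 := d3_1 D2432 (iv D1185) D1183
theorem F3817 : act 1 n2432 = n2340 := d8_1 D2432 F3695 F1995
theorem F3819 : act 5 n2432 = n1185 := d18_2 (iv F1994) D2432 (iv D1185)
def n2433 : Q := act 6 n1183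
theorem D2433 : act 6 n1183 = n2433 := rfl
theorem F3820 : act 0 n2433 = n1186 := d5_1 D2433 (iv D1186) D1183
def n2434 : Q := act 2 n1184
theorem D2434 : act 2 n1184 = n2434 := rfl
theorem F3823 : act 1 n2434 = n2379 := d6_1 D2434 (iv D2379) F1968 (iv F1107) (iv F1996)
def n2435 : Q := act 4 n1184
theorem D2435 : act 4 n1184 = n2435 := rfl
theorem F3824 : act 1 n2435 = n1187 := d8_1 D2435 (iv D1187) (iv F1996)
def n2436 : Q := act 6 n1184
theorem D2436 : act 6 n1184 = n2436 := rfl
theorem F3825 : act 3 n2436 = n1186 := d17_1 D2436 (iv D1186) D1184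
def n2437 : Q := act 3 n1185
theorem D2437 : act 3 n1185 = n2437 := rfl
theorem F3827 : act 1 n2437 = n1188 := d7_1 D2437 (iv D1188) (iv F1997)
def n2438 : Q := act 6 n1185
theorem D2438 : act 6 n1185 = n2438 := rfl
theorem F3828 : act 2 n2438 = n2438 := d14_1 D2438 (iv D2438) F1998
theorem F3829 : act 4 n2438 = n1186 := d19_1 D2438 (iv D1186) D1185
theorem F3830 : act 5 n2438 = n2438 := d22_2 F3819 D2438 (iv D2438) (iv F3816)
def n2439 : Q := act 3 n1187
theorem D2439 : act 3 n1187 = n2439 := rfl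
theorem F3831 : act 0 n2439 = n1960 := d2_1 D2439 F3124 (iv F2001)
theorem F3832 : act 4 n2439 = n1188 := d15_2 D1187 D2439 (iv D1188) (iv D597) D596
theorem F3833 : act 5 n2439 = n2343 := d16_2 (iv F2003) D2439 F3700
def n2440 : Q := act 2 n1188
theorem D2440 : act 2 n1188 = n2440 := rfl
theorem F3834 : act 0 n2440 = n1959 := d1_1 D2440 (iv D1959) (iv F2004)
theorem F3835 : act 5 n2440 = n2342 := d13_2 (iv F2005) D2440 (iv D2342)
theorem F3836 : act 3 n2440 = n1959 := d21_1 D2440 (iv D1959) (iv D961) (iv D483) F486 D483 D961 (iv F2004)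
def n2446 : Q := act 1 n1191
theorem D2446 : act 1 n1191 = n2446 := rfl
def n2447 : Q := act 3 n1191
theorem D2447 : act 3 n1191 = n2447 := rfl
theorem F3847 : act 0 n2447 = n1192 := d2_1 D2447 (iv D1192) D1191
def n2448 : Q := act 4 n1191
theorem D2448 : act 4 n1191 = n2448 := rfl
theorem F3848 : act 0 n2448 = n1193 := d3_1 D2448 (iv D1193) D1191
def n2449 : Q := act 5 n1191
theorem D2449 : act 5 n1191 = n2449 := rfl
theorem F3850 : act 0 n2449 = n1194 := d4_1 D2449 (iv D1194) D1191
def n2450 : Q := act 6 n1191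
theorem D2450 : act 6 n1191 = n2450 := rfl
theorem F3852 : act 0 n2450 = n1195 := d5_1 D2450 (iv D1195) D1191
def n2451 : Q := act 2 n1192
theorem D2451 : act 2 n1192 = n2451 := rfl
theorem F3854 : act 1 n2451 = n2406 := d6_1 D2451 (iv D2406) F1982 (iv F1119) (iv F2011)
def n2452 : Q := act 4 n1192
theorem D2452 : act 4 n1192 = n2452 := rfl
theorem F3855 : act 1 n2452 = n1196 := d8_1 D2452 (iv D1196) (iv F2011)
def n2454 : Q := act 6 n1192
theorem D2454 : act 6 n1192 = n2454 := rfl
theorem F3857 : act 3 n2454 = n1195 := d17_1 D2454 (iv D1195) D1192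
def n2455 : Q := act 3 n1193
theorem D2455 : act 3 n1193 = n2455 := rfl
theorem F3858 : act 1 n2455 = n1198 := d7_1 D2455 (iv D1198) (iv F2012)
def n2456 : Q := act 5 n1193
theorem D2456 : act 5 n1193 = n2456 := rfl
theorem F3859 : act 2 n2456 = n2456 := d13_1 D2456 (iv D2456) F2013
theorem F3860 : act 4 n2456 = n1194 := d18_1 D2456 (iv D1194) D1193
def n2457 : Q := act 6 n1193
theorem D2457 : act 6 n1193 = n2457 := rfl
theorem F3862 : act 4 n2457 = n1195 := d19_1 D2457 (iv D1195) D1193
def n2458 : Q := act 1 n1194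
theorem D2458 : act 1 n1194 = n2458 := rfl
theorem F3863 : act 5 n2458 = n1200 := d9_2 D1194 D2458 (iv D1200) (iv D603) D600
def n2459 : Q := act 6 n1194
theorem D2459 : act 6 n1194 = n2459 := rfl
theorem F3865 : act 5 n2459 = n2450 := d22_2 D1194 D2459 (iv D2450) (iv D1191)
def n2461 : Q := act 3 n1196
theorem D2461 : act 3 n1196 = n2461 := rfl
theorem F3870 : act 4 n2461 = n1198 := d15_2 D1196 D2461 (iv D1198) (iv D602) D601
def n2462 : Q := act 5 n1196
theorem D2462 : act 5 n1196 = n2462 := rfl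
theorem F3872 : act 2 n2462 = n1975 := d13_1 D2462 F3150 (iv F2017)
theorem F3873 : act 4 n2462 = n1197 := d18_1 D2462 (iv D1197) D1196
def n2463 : Q := act 1 n1197
theorem D2463 : act 1 n1197 = n2463 := rfl
def n2464 : Q := act 2 n1198
theorem D2464 : act 2 n1198 = n2464 := rfl
def n2465 : Q := act 5 n1198
theorem D2465 : act 5 n1198 = n2465 := rfl
theorem F3875 : act 3 n2465 = n1199 := d16_1 D2465 (iv D1199) D1198
def n2466 : Q := act 1 n1199
theorem D2466 : act 1 n1199 = n2466 := rfl
def n2481 : Q := act 1 n1209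
theorem D2481 : act 1 n1209 = n2481 := rfl
theorem F3899 : act 4 n2481 = n1285 := d8_2 (iv F2044) D2481 (iv D1285)
def n2482 : Q := act 3 n1209
theorem D2482 : act 3 n1209 = n2482 := rfl
theorem F3900 : act 0 n2482 = n1210 := d2_1 D2482 (iv D1210) D1209
def n2483 : Q := act 5 n1209
theorem D2483 : act 5 n1209 = n2483 := rfl
theorem F3901 : act 0 n2483 = n1211 := d4_1 D2483 (iv D1211) D1209
theorem F3902 : act 2 n2483 = n2483 := d13_1 D2483 (iv D2483) F2043
theorem F3903 : act 4 n2483 = n1286 := d18_1 D2483 (iv D1286) (iv F2044)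
def n2484 : Q := act 6 n1209
theorem D2484 : act 6 n1209 = n2484 := rfl
theorem F3904 : act 0 n2484 = n1212 := d5_1 D2484 (iv D1212) D1209
theorem F3905 : act 2 n2484 = n2484 := d14_1 D2484 (iv D2484) F2043
theorem F3906 : act 4 n2484 = n1287 := d19_1 D2484 (iv D1287) (iv F2044)
def n2485 : Q := act 2 n1210
theorem D2485 : act 2 n1210 = n2485 := rfl
theorem F3907 : act 1 n2485 = n2485 := d6_1 D2485 (iv D2485) F2045 F1137 (iv F2045)
def n2486 : Q := act 5 n1210
theorem D2486 : act 5 n1210 = n2486 := rfl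
theorem F3908 : act 3 n2486 = n1211 := d16_1 D2486 (iv D1211) D1210
def n2487 : Q := act 6 n1210
theorem D2487 : act 6 n1210 = n2487 := rfl
theorem F3909 : act 3 n2487 = n1212 := d17_1 D2487 (iv D1212) D1210
def n2488 : Q := act 1 n1211
theorem D2488 : act 1 n1211 = n2488 := rfl
theorem F3910 : act 4 n2488 = n1288 := d8_2 (iv F2047) D2488 (iv D1288)
theorem F3911 : act 5 n2488 = n1215 := d9_2 D1211 D2488 (iv D1215) (iv D612) D610
def n2489 : Q := act 6 n1211
theorem D2489 : act 6 n1211 = n2489 := rfl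
theorem F3912 : act 2 n2489 = n2489 := d14_1 D2489 (iv D2489) F2046
theorem F3913 : act 4 n2489 = n1289 := d19_1 D2489 (iv D1289) (iv F2047)
theorem F3914 : act 5 n2489 = n2484 := d22_2 D1211 D2489 (iv D2484) (iv D1209)
def n2490 : Q := act 1 n1212
theorem D2490 : act 1 n1212 = n2490 := rfl
theorem F3915 : act 4 n2490 = n1290 := d8_2 (iv F2049) D2490 (iv D1290)
theorem F3916 : act 6 n2490 = n1217 := d10_2 D1212 D2490 (iv D1217) (iv D613) D610
def n2491 : Q := act 5 n1212
theorem D2491 : act 5 n1212 = n2491 := rfl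
theorem F3917 : act 0 n2491 = n2489 := d4_1 D2491 F3914 F3904
theorem F3918 : act 2 n2491 = n2491 := d13_1 D2491 (iv D2491) F2048
theorem F3919 : act 4 n2491 = n1291 := d18_1 D2491 (iv D1291) (iv F2049)
theorem F3920 : act 6 n2491 = n2483 := d20_2 D1212 D2491 (iv D2483) D2484 (iv F3914) (iv D2489) (iv D1211)
def n2492 : Q := act 1 n1213
theorem D2492 : act 1 n1213 = n2492 := rfl
theorem F3921 : act 3 n2492 = n1215 := d7_2 (iv F2051) D2492 (iv D1215)
def n2493 : Q := act 6 n1213
theorem D2493 : act 6 n1213 = n2493 := rfl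
theorem F3922 : act 2 n2493 = n2493 := d14_1 D2493 (iv D2493) F2050
theorem F3923 : act 3 n2493 = n1216 := d17_1 D2493 (iv D1216) (iv F2051)
theorem F3924 : act 5 n2493 = n2174 := d22_2 D1213 D2493 (iv D2174) F1840
def n2494 : Q := act 1 n1214
theorem D2494 : act 1 n1214 = n2494 := rfl
theorem F3925 : act 3 n2494 = n1217 := d7_2 (iv F2053) D2494 (iv D1217)
def n2495 : Q := act 5 n1214
theorem D2495 : act 5 n1214 = n2495 := rfl
theorem F3926 : act 0 n2495 = n2493 := d4_1 D2495 F3924 F3449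
theorem F3927 : act 2 n2495 = n2495 := d13_1 D2495 (iv D2495) F2052
theorem F3928 : act 3 n2495 = n1218 := d16_1 D2495 (iv D1218) (iv F2053)
theorem F3929 : act 4 n2495 = n2493 := d18_1 D2495 F3924 F3452
theorem F3930 : act 6 n2495 = n2173 := d20_2 D1214 D2495 (iv D2173) D2174 (iv F3924) (iv D2493) (iv D1213)
def n2496 : Q := act 0 n1215
theorem D2496 : act 0 n1215 = n2496 := rfl
theorem F3931 : act 4 n2496 = n1292 := d3_2 (iv F2054) D2496 (iv D1292)
def n2497 : Q := act 2 n1215
theorem D2497 : act 2 n1215 = n2497 := rfl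
theorem F3932 : act 1 n2497 = n1220 := d6_1 D2497 (iv D1220) (iv D614) (iv F1138) D1215
theorem F3933 : act 4 n2497 = n1293 := d12_2 (iv F2054) D2497 (iv D1293)
def n2498 : Q := act 6 n1215
theorem D2498 : act 6 n1215 = n2498 := rfl
theorem F3934 : act 4 n2498 = n1294 := d19_1 D2498 (iv D1294) (iv F2054)
def n2499 : Q := act 1 n1216
theorem D2499 : act 1 n1216 = n2499 := rfl
theorem F3935 : act 4 n2499 = n1295 := d8_2 (iv F2056) D2499 (iv D1295)
def n2500 : Q := act 0 n1217
theorem D2500 : act 0 n1217 = n2500 := rfl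
theorem F3936 : act 4 n2500 = n1296 := d3_2 (iv F2058) D2500 (iv D1296)
def n2501 : Q := act 2 n1217
theorem D2501 : act 2 n1217 = n2501 := rfl
theorem F3937 : act 1 n2501 = n1224 := d6_1 D2501 (iv D1224) (iv D616) (iv F1140) D1217
theorem F3938 : act 4 n2501 = n1297 := d12_2 (iv F2058) D2501 (iv D1297)
def n2502 : Q := act 5 n1217
theorem D2502 : act 5 n1217 = n2502 := rfl
theorem F3939 : act 4 n2502 = n1298 := d18_1 D2502 (iv D1298) (iv F2058)
def n2503 : Q := act 1 n1218
theorem D2503 : act 1 n1218 = n2503 := rfl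
theorem F3940 : act 4 n2503 = n1299 := d8_2 (iv F2061) D2503 (iv D1299)
def n2505 : Q := act 2 n1219
theorem D2505 : act 2 n1219 = n2505 := rfl
theorem F3943 : act 0 n2505 = n1220 := d1_1 D2505 (iv D1220) D1219
theorem F3945 : act 5 n2505 = n2505 := d13_2 F2065 D2505 (iv D2505)
def n2506 : Q := act 6 n1219
theorem D2506 : act 6 n1219 = n2506 := rfl
theorem F3946 : act 0 n2506 = n1221 := d5_1 D2506 (iv D1221) D1219
theorem F3949 : act 5 n2506 = n1221 := d22_2 F2065 D2506 (iv D1221) D1219
def n2507 : Q := act 3 n1220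
theorem D2507 : act 3 n1220 = n2507 := rfl
theorem F3950 : act 5 n2507 = n2507 := d16_2 F2067 D2507 (iv D2507)
def n2508 : Q := act 6 n1220
theorem D2508 : act 6 n1220 = n2508 := rfl
theorem F3951 : act 2 n2508 = n1221 := d14_1 D2508 (iv D1221) D1220
theorem F3952 : act 4 n2508 = n1304 := d19_1 D2508 (iv D1304) (iv F2066)
def n2509 : Q := act 1 n1221
theorem D2509 : act 1 n1221 = n2509 := rfl
theorem F3954 : act 4 n2509 = n1305 := d8_2 (iv F2069) D2509 (iv D1305)
theorem F3955 : act 6 n2509 = n1222 := d10_2 D1221 D2509 (iv D1222) (iv D615) D614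
def n2510 : Q := act 0 n1222
theorem D2510 : act 0 n1222 = n2510 := rfl
theorem F3956 : act 3 n2510 = n1233 := d2_2 (iv F2070) D2510 (iv D1233)
theorem F3957 : act 4 n2510 = n1306 := d3_2 (iv F2071) D2510 (iv D1306)
def n2511 : Q := act 2 n1222
theorem D2511 : act 2 n1222 = n2511 := rfl
theorem F3958 : act 4 n2511 = n1307 := d12_2 (iv F2071) D2511 (iv D1307)
def n2512 : Q := act 5 n1222
theorem D2512 : act 5 n1222 = n2512 := rfl
theorem F3959 : act 1 n2512 = n2182 := d9_1 D2512 (iv D2182) (iv D1068) (iv F1147) D1222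
theorem F3960 : act 3 n2512 = n1235 := d16_1 D2512 (iv D1235) (iv F2070)
def n2514 : Q := act 2 n1223
theorem D2514 : act 2 n1223 = n2514 := rfl
theorem F3964 : act 0 n2514 = n1224 := d1_1 D2514 (iv D1224) D1223
def n2515 : Q := act 5 n1223
theorem D2515 : act 5 n1223 = n2515 := rfl
theorem F3967 : act 0 n2515 = n1225 := d4_1 D2515 (iv D1225) D1223
theorem F3968 : act 3 n2515 = n1238 := d16_1 D2515 (iv D1238) (iv F2072)
theorem F3970 : act 6 n2515 = n1225 := d22_1 D2515 (iv D1225) F1150 D1223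
def n2516 : Q := act 3 n1224
theorem D2516 : act 3 n1224 = n2516 := rfl
theorem F3971 : act 6 n2516 = n2516 := d17_2 F2076 D2516 (iv D2516)
def n2517 : Q := act 5 n1224
theorem D2517 : act 5 n1224 = n2517 := rfl
theorem F3972 : act 2 n2517 = n1225 := d13_1 D2517 (iv D1225) D1224
theorem F3973 : act 4 n2517 = n1313 := d18_1 D2517 (iv D1313) (iv F2075)
def n2518 : Q := act 1 n1225
theorem D2518 : act 1 n1225 = n2518 := rfl
theorem F3974 : act 3 n2518 = n1241 := d7_2 (iv F2077) D2518 (iv D1241)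
theorem F3975 : act 4 n2518 = n1314 := d8_2 (iv F2078) D2518 (iv D1314)
theorem F3976 : act 5 n2518 = n1226 := d9_2 D1225 D2518 (iv D1226) (iv D617) D616
def n2519 : Q := act 0 n1226
theorem D2519 : act 0 n1226 = n2519 := rfl
theorem F3977 : act 3 n2519 = n1242 := d2_2 (iv F2079) D2519 (iv D1242)
theorem F3978 : act 4 n2519 = n1315 := d3_2 (iv F2080) D2519 (iv D1315)
def n2520 : Q := act 2 n1226
theorem D2520 : act 2 n1226 = n2520 := rfl
theorem F3979 : act 4 n2520 = n1316 := d12_2 (iv F2080) D2520 (iv D1316)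
def n2521 : Q := act 6 n1226
theorem D2521 : act 6 n1226 = n2521 := rfl
def n2523 : Q := act 2 n1227
theorem D2523 : act 2 n1227 = n2523 := rfl
def n2526 : Q := act 1 n1228
theorem D2526 : act 1 n1228 = n2526 := rfl
theorem F3988 : act 4 n2526 = n1249 := d8_2 (iv F2083) D2526 (iv D1249)
def n2527 : Q := act 3 n1228
theorem D2527 : act 3 n1228 = n2527 := rfl
theorem F3989 : act 0 n2527 = n1230 := d2_1 D2527 (iv D1230) (iv F2082)
def n2530 : Q := act 2 n1230
theorem D2530 : act 2 n1230 = n2530 := rfl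
def n2534 : Q := act 0 n1232
theorem D2534 : act 0 n1232 = n2534 := rfl
theorem F4002 : act 6 n2534 = n1233 := d5_2 (iv F2092) D2534 (iv D1233)
def n2536 : Q := act 5 n1232
theorem D2536 : act 5 n1232 = n2536 := rfl
def n2537 : Q := act 1 n1233
theorem D2537 : act 1 n1233 = n2537 := rfl
theorem F4006 : act 4 n2537 = n1259 := d8_2 (iv F2093) D2537 (iv D1259)
def n2539 : Q := act 5 n1233
theorem D2539 : act 5 n1233 = n2539 := rfl
theorem F4010 : act 4 n2539 = n1261 := d18_1 D2539 (iv D1261) (iv F2093)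
theorem F4011 : act 6 n2539 = n2536 := d22_1 D2539 (iv D2536) F2092 D1233
def n2542 : Q := act 6 n1235
theorem D2542 : act 6 n1235 = n2542 := rfl
theorem F4016 : act 5 n2542 = n2534 := d20_1 D2542 F4002 D2539 F4011 (iv D2536) F2092 D1235
def n2543 : Q := act 0 n1236
theorem D2543 : act 0 n1236 = n2543 := rfl
theorem F4017 : act 4 n2543 = n1265 := d3_2 (iv F2097) D2543 (iv D1265)
def n2544 : Q := act 2 n1236
theorem D2544 : act 2 n1236 = n2544 := rfl
theorem F4018 : act 4 n2544 = n1266 := d12_2 (iv F2097) D2544 (iv D1266)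
def n2545 : Q := act 5 n1236
theorem D2545 : act 5 n1236 = n2545 := rfl
theorem F4019 : act 4 n2545 = n1267 := d18_1 D2545 (iv D1267) (iv F2097)
def n2547 : Q := act 1 n1237
theorem D2547 : act 1 n1237 = n2547 := rfl
theorem F4022 : act 4 n2547 = n1269 := d8_2 (iv F2099) D2547 (iv D1269)
def n2548 : Q := act 3 n1237
theorem D2548 : act 3 n1237 = n2548 := rfl
theorem F4023 : act 0 n2548 = n1239 := d2_1 D2548 (iv D1239) (iv F2098)
def n2549 : Q := act 5 n1237
theorem D2549 : act 5 n1237 = n2549 := rfl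
theorem F4025 : act 0 n2549 = n1240 := d4_1 D2549 (iv D1240) (iv F2098)
theorem F4027 : act 4 n2549 = n1271 := d18_1 D2549 (iv D1271) (iv F2099)
def n2550 : Q := act 1 n1238
theorem D2550 : act 1 n1238 = n2550 := rfl
def n2551 : Q := act 2 n1239
theorem D2551 : act 2 n1239 = n2551 := rfl
def n2554 : Q := act 1 n1240
theorem D2554 : act 1 n1240 = n2554 := rfl
theorem F4034 : act 4 n2554 = n1275 := d8_2 (iv F2106) D2554 (iv D1275)
def n2555 : Q := act 0 n1241
theorem D2555 : act 0 n1241 = n2555 := rfl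
theorem F4035 : act 4 n2555 = n1276 := d3_2 (iv F2107) D2555 (iv D1276)
theorem F4036 : act 5 n2555 = n1242 := d4_2 (iv F2108) D2555 (iv D1242)
def n2556 : Q := act 2 n1241
theorem D2556 : act 2 n1241 = n2556 := rfl
theorem F4037 : act 4 n2556 = n1277 := d12_2 (iv F2107) D2556 (iv D1277)
def n2557 : Q := act 6 n1241
theorem D2557 : act 6 n1241 = n2557 := rfl
theorem F4039 : act 4 n2557 = n1278 := d19_1 D2557 (iv D1278) (iv F2107)
def n2558 : Q := act 1 n1242
theorem D2558 : act 1 n1242 = n2558 := rfl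
theorem F4040 : act 4 n2558 = n1279 := d8_2 (iv F2109) D2558 (iv D1279)
def n2559 : Q := act 2 n1242
theorem D2559 : act 2 n1242 = n2559 := rfl
theorem F4041 : act 0 n2559 = n1243 := d1_1 D2559 (iv D1243) D1242
def n2560 : Q := act 6 n1242
theorem D2560 : act 6 n1242 = n2560 := rfl
theorem F4044 : act 4 n2560 = n1281 := d19_1 D2560 (iv D1281) (iv F2109)
theorem F4045 : act 5 n2560 = n2557 := d22_2 F4036 D2560 (iv D2557) D2555
def n2562 : Q := act 6 n1243
theorem D2562 : act 6 n1243 = n2562 := rfl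
theorem F4047 : act 2 n2562 = n1244 := d14_1 D2562 (iv D1244) D1243
def n2567 : Q := act 1 n1246
theorem D2567 : act 1 n1246 = n2567 := rfl
theorem F4057 : act 2 n2567 = n1249 := d6_2 D1246 D2567 (iv D1249) (iv D627) D626
def n2574 : Q := act 0 n1249
theorem D2574 : act 0 n1249 = n2574 := rfl
theorem F4067 : act 5 n2574 = n2567 := d23_4 F627 D627 D1249 D2574 F4057 (iv D1249) F1168 F628 (iv D320) (iv D159) (iv F269) (iv D133) F126 F79 (iv F125) D133 F270 D159 D319
def n2575 : Q := act 3 n1249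
theorem D2575 : act 3 n1249 = n2575 := rfl
theorem F4068 : act 1 n2575 = n1250 := d7_1 D2575 (iv D1250) D1249
def n2576 : Q := act 5 n1249
theorem D2576 : act 5 n1249 = n2576 := rfl
theorem F4071 : act 2 n2576 = n2574 := d13_1 D2576 F4067 F4057
def n2577 : Q := act 6 n1249
theorem D2577 : act 6 n1249 = n2577 := rfl
def n2578 : Q := act 4 n1250
theorem D2578 : act 4 n1250 = n2578 := rfl
def n2584 : Q := act 6 n1253
theorem D2584 : act 6 n1253 = n2584 := rfl
theorem F4082 : act 4 n2584 = n1254 := d19_1 D2584 (iv D1254) D1253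
def n2585 : Q := act 1 n1254
theorem D2585 : act 1 n1254 = n2585 := rfl
theorem F4083 : act 3 n2585 = n1255 := d7_2 (iv F2126) D2585 (iv D1255)
def n2587 : Q := act 2 n1255
theorem D2587 : act 2 n1255 = n2587 := rfl
theorem F4084 : act 1 n2587 = n1257 := d6_1 D2587 (iv D1257) (iv D631) (iv F1174) D1255
def n2590 : Q := act 2 n1256
theorem D2590 : act 2 n1256 = n2590 := rfl
theorem F4086 : act 0 n2590 = n1257 := d1_1 D2590 (iv D1257) D1256
def n2591 : Q := act 3 n1257
theorem D2591 : act 3 n1257 = n2591 := rfl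
def n2593 : Q := act 0 n1259
theorem D2593 : act 0 n1259 = n2593 := rfl
theorem F4090 : act 3 n2593 = n1362 := d2_2 (iv F2131) D2593 (iv D1362)
def n2594 : Q := act 2 n1259
theorem D2594 : act 2 n1259 = n2594 := rfl
def n2595 : Q := act 5 n1259
theorem D2595 : act 5 n1259 = n2595 := rfl
theorem F4091 : act 3 n2595 = n1364 := d16_1 D2595 (iv D1364) (iv F2131)
theorem F4092 : act 6 n2216 = n2595 := d17_0 F4091 (iv F3432) (iv F3513)
def n2596 : Q := act 6 n1259
theorem D2596 : act 6 n1259 = n2596 := rfl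
def n2599 : Q := act 5 n1260
theorem D2599 : act 5 n1260 = n2599 := rfl
theorem F4096 : act 2 n2599 = n1261 := d13_1 D2599 (iv D1261) D1260
def n2600 : Q := act 1 n1261
theorem D2600 : act 1 n1261 = n2600 := rfl
theorem F4098 : act 3 n2600 = n1369 := d7_2 (iv F2134) D2600 (iv D1369)
theorem F4100 : act 6 n2097 = n2600 := d17_0 F4098 (iv F3430) (iv F3339)
def n2601 : Q := act 2 n1262
theorem D2601 : act 2 n1262 = n2601 := rfl
def n2604 : Q := act 1 n1263
theorem D2604 : act 1 n1263 = n2604 := rfl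
theorem F4102 : act 2 n2604 = n2220 := d6_2 (iv F2136) D2604 (iv D2220) F1877 (iv F1178)
def n2609 : Q := act 6 n1265
theorem D2609 : act 6 n1265 = n2609 := rfl
theorem F4112 : act 3 n2609 = n1378 := d17_1 D2609 (iv D1378) (iv F2140)
def n2610 : Q := act 1 n1266
theorem D2610 : act 1 n1266 = n2610 := rfl
theorem F4113 : act 2 n2610 = n1269 := d6_2 D1266 D2610 (iv D1269) (iv D636) D635
def n2611 : Q := act 3 n1266
theorem D2611 : act 3 n1266 = n2611 := rfl
def n2612 : Q := act 5 n1266
theorem D2612 : act 5 n1266 = n2612 := rfl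
theorem F4114 : act 2 n2612 = n1267 := d13_1 D2612 (iv D1267) D1266
def n2613 : Q := act 6 n1266
theorem D2613 : act 6 n1266 = n2613 := rfl
theorem F4115 : act 2 n2613 = n1268 := d14_1 D2613 (iv D1268) D1266
def n2616 : Q := act 5 n1268
theorem D2616 : act 5 n1268 = n2616 := rfl
theorem F4121 : act 3 n2616 = n1384 := d16_1 D2616 (iv D1384) (iv F2143)
def n2617 : Q := act 0 n1269
theorem D2617 : act 0 n1269 = n2617 := rfl
def n2618 : Q := act 3 n1269
theorem D2618 : act 3 n1269 = n2618 := rfl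
theorem F4123 : act 1 n2618 = n1270 := d7_1 D2618 (iv D1270) D1269
def n2619 : Q := act 5 n1269
theorem D2619 : act 5 n1269 = n2619 := rfl
def n2620 : Q := act 6 n1269
theorem D2620 : act 6 n1269 = n2620 := rfl
def n2621 : Q := act 4 n1270
theorem D2621 : act 4 n1270 = n2621 := rfl
def n2622 : Q := act 5 n1270
theorem D2622 : act 5 n1270 = n2622 := rfl
theorem F4130 : act 3 n2622 = n1271 := d16_1 D2622 (iv D1271) D1270
def n2623 : Q := act 1 n1271
theorem D2623 : act 1 n1271 = n2623 := rfl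
def n2629 : Q := act 0 n1275
theorem D2629 : act 0 n1275 = n2629 := rfl
def n2630 : Q := act 2 n1275
theorem D2630 : act 2 n1275 = n2630 := rfl
theorem F4138 : act 5 n2630 = n2604 := d13_2 F3516 D2630 F4102
def n2631 : Q := act 6 n1275
theorem D2631 : act 6 n1275 = n2631 := rfl
def n2635 : Q := act 6 n1277
theorem D2635 : act 6 n1277 = n2635 := rfl
theorem F4143 : act 2 n2635 = n1278 := d14_1 D2635 (iv D1278) D1277
def n2636 : Q := act 0 n1279
theorem D2636 : act 0 n1279 = n2636 := rfl
theorem F4144 : act 1 n2636 = n2593 := d0_2 D1279 D2636 (iv D2593) (iv D1259) (iv D632) (iv D322) (iv F327) D326 D641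
theorem F4145 : act 3 n2636 = n1392 := d2_2 (iv F2157) D2636 (iv D1392)
def n2637 : Q := act 2 n1279
theorem D2637 : act 2 n1279 = n2637 := rfl
def n2638 : Q := act 5 n1279
theorem D2638 : act 5 n1279 = n2638 := rfl
def n2639 : Q := act 6 n1279
theorem D2639 : act 6 n1279 = n2639 := rfl
theorem F4147 : act 3 n2639 = n1395 := d17_1 D2639 (iv D1395) (iv F2157)
theorem F4148 : act 5 n2202 = n2639 := d16_0 F4147 F3414 (iv F3497)
def n2643 : Q := act 1 n1281
theorem D2643 : act 1 n1281 = n2643 := rfl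
theorem F4153 : act 3 n2643 = n1399 := d7_2 (iv F2160) D2643 (iv D1399)
theorem F4154 : act 0 n2091 = n2643 := d2_3 F4153 F3413 (iv F3330)
theorem F4155 : act 5 n2089 = n2643 := d16_0 F4153 (iv F3412) (iv F3327)
def n2644 : Q := act 2 n1282
theorem D2644 : act 2 n1282 = n2644 := rfl
def n2647 : Q := act 1 n1283
theorem D2647 : act 1 n1283 = n2647 := rfl
theorem F4158 : act 2 n2647 = n2206 := d6_2 (iv F2163) D2647 (iv D2206) F1867 (iv F1192)
def n2649 : Q := act 1 n1284
theorem D2649 : act 1 n1284 = n2649 := rfl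
theorem F4164 : act 5 n2649 = n2208 := d9_2 D1284 D2649 (iv D2208) (iv D1080) (iv F1192)
def n2650 : Q := act 0 n1285
theorem D2650 : act 0 n1285 = n2650 := rfl
def n2651 : Q := act 2 n1285
theorem D2651 : act 2 n1285 = n2651 := rfl
theorem F4165 : act 1 n2651 = n2651 := d6_1 D2651 (iv D2651) (iv D1285) F1194 D1285
def n2652 : Q := act 5 n1285
theorem D2652 : act 5 n1285 = n2652 := rfl
def n2653 : Q := act 6 n1285
theorem D2653 : act 6 n1285 = n2653 := rfl
def n2654 : Q := act 1 n1286
theorem D2654 : act 1 n1286 = n2654 := rfl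
def n2655 : Q := act 1 n1287
theorem D2655 : act 1 n1287 = n2655 := rfl
def n2656 : Q := act 0 n1288
theorem D2656 : act 0 n1288 = n2656 := rfl
theorem F4166 : act 5 n2656 = n1292 := d4_2 (iv F2171) D2656 (iv D1292)
def n2657 : Q := act 2 n1288
theorem D2657 : act 2 n1288 = n2657 := rfl
theorem F4167 : act 1 n2657 = n2657 := d6_1 D2657 (iv D2657) (iv D1288) F1195 D1288
theorem F4168 : act 5 n2657 = n1293 := d13_2 (iv F2171) D2657 (iv D1293)
def n2658 : Q := act 6 n1288
theorem D2658 : act 6 n1288 = n2658 := rfl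
def n2659 : Q := act 1 n1289
theorem D2659 : act 1 n1289 = n2659 := rfl
def n2660 : Q := act 0 n1290
theorem D2660 : act 0 n1290 = n2660 := rfl
theorem F4169 : act 6 n2660 = n1296 := d5_2 (iv F2174) D2660 (iv D1296)
def n2661 : Q := act 2 n1290
theorem D2661 : act 2 n1290 = n2661 := rfl
theorem F4170 : act 1 n2661 = n2661 := d6_1 D2661 (iv D2661) (iv D1290) F1196 D1290
theorem F4171 : act 6 n2661 = n1297 := d14_2 (iv F2174) D2661 (iv D1297)
def n2662 : Q := act 5 n1290
theorem D2662 : act 5 n1290 = n2662 := rfl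
def n2663 : Q := act 1 n1291
theorem D2663 : act 1 n1291 = n2663 := rfl
def n2664 : Q := act 1 n1292
theorem D2664 : act 1 n1292 = n2664 := rfl
def n2665 : Q := act 2 n1292
theorem D2665 : act 2 n1292 = n2665 := rfl
theorem F4172 : act 0 n2665 = n1293 := d1_1 D2665 (iv D1293) D1292
def n2666 : Q := act 6 n1292
theorem D2666 : act 6 n1292 = n2666 := rfl
theorem F4173 : act 0 n2666 = n1294 := d5_1 D2666 (iv D1294) D1292
theorem F4174 : act 5 n2666 = n2658 := d22_2 F4166 D2666 (iv D2658) D2656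
def n2667 : Q := act 3 n1293
theorem D2667 : act 3 n1293 = n2667 := rfl
theorem F4175 : act 1 n2667 = n1303 := d7_1 D2667 (iv D1303) (iv F2178)
def n2668 : Q := act 6 n1293
theorem D2668 : act 6 n1293 = n2668 := rfl
theorem F4176 : act 2 n2668 = n1294 := d14_1 D2668 (iv D1294) D1293
def n2669 : Q := act 1 n1294
theorem D2669 : act 1 n1294 = n2669 := rfl
theorem F4177 : act 6 n2669 = n1295 := d10_2 D1294 D2669 (iv D1295) (iv D648) D647
def n2670 : Q := act 5 n1294
theorem D2670 : act 5 n1294 = n2670 := rfl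
theorem F4178 : act 0 n2670 = n2658 := d4_1 D2670 (iv F4174) F4173
theorem F4179 : act 6 n2670 = n2656 := d20_2 D1294 D2670 F4166 D2666 F4174 (iv D2658) F2171
def n2671 : Q := act 0 n1295
theorem D2671 : act 0 n1295 = n2671 := rfl
def n2672 : Q := act 2 n1295
theorem D2672 : act 2 n1295 = n2672 := rfl
theorem F4180 : act 1 n2672 = n1307 := d6_1 D2672 (iv D1307) (iv D654) (iv F1197) D1295
def n2673 : Q := act 5 n1295
theorem D2673 : act 5 n1295 = n2673 := rfl
theorem F4181 : act 1 n2673 = n2235 := d9_1 D2673 (iv D2235) (iv D1091) (iv F1198) D1295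
def n2674 : Q := act 1 n1296
theorem D2674 : act 1 n1296 = n2674 := rfl
def n2675 : Q := act 2 n1296
theorem D2675 : act 2 n1296 = n2675 := rfl
theorem F4182 : act 0 n2675 = n1297 := d1_1 D2675 (iv D1297) D1296
def n2676 : Q := act 5 n1296
theorem D2676 : act 5 n1296 = n2676 := rfl
theorem F4183 : act 0 n2676 = n1298 := d4_1 D2676 (iv D1298) D1296
theorem F4184 : act 6 n2676 = n2662 := d22_1 D2676 (iv D2662) F2174 D1296
def n2677 : Q := act 3 n1297
theorem D2677 : act 3 n1297 = n2677 := rfl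
theorem F4185 : act 1 n2677 = n1312 := d7_1 D2677 (iv D1312) (iv F2179)
def n2678 : Q := act 5 n1297
theorem D2678 : act 5 n1297 = n2678 := rfl
theorem F4186 : act 2 n2678 = n1298 := d13_1 D2678 (iv D1298) D1297
def n2679 : Q := act 1 n1298
theorem D2679 : act 1 n1298 = n2679 := rfl
theorem F4187 : act 3 n2679 = n2673 := d7_2 F3541 D2679 F4181
theorem F4188 : act 5 n2679 = n1299 := d9_2 D1298 D2679 (iv D1299) (iv D650) D649
def n2680 : Q := act 6 n1298
theorem D2680 : act 6 n1298 = n2680 := rfl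
theorem F4189 : act 0 n2680 = n2662 := d5_1 D2680 (iv F4184) F4183
theorem F4190 : act 5 n2680 = n2660 := d20_1 D2680 F4169 D2676 F4184 (iv D2662) F2174 D1298
def n2681 : Q := act 0 n1299
theorem D2681 : act 0 n1299 = n2681 := rfl
theorem F4191 : act 3 n2681 = n2671 := d2_2 (iv F2180) D2681 (iv D2671)
def n2682 : Q := act 2 n1299
theorem D2682 : act 2 n1299 = n2682 := rfl
theorem F4192 : act 1 n2682 = n1316 := d6_1 D2682 (iv D1316) (iv D658) (iv F1200) D1299
def n2683 : Q := act 6 n1299
theorem D2683 : act 6 n1299 = n2683 := rfl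
theorem F4193 : act 1 n2683 = n2232 := d10_1 D2683 (iv D2232) (iv D1090) (iv F1202) D1299
theorem F4194 : act 3 n2683 = n2669 := d17_1 D2683 F4177 (iv F2180)
def n2684 : Q := act 0 n1300
theorem D2684 : act 0 n1300 = n2684 := rfl
theorem F4195 : act 3 n2684 = n1318 := d2_2 (iv F2181) D2684 (iv D1318)
def n2689 : Q := act 3 n1301
theorem D2689 : act 3 n1301 = n2689 := rfl
theorem F4199 : act 0 n2689 = n1303 := d2_1 D2689 (iv D1303) (iv F2182)
theorem F4200 : act 5 n2689 = n2689 := d16_2 F2183 D2689 (iv D2689)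
theorem F4201 : act 2 n2689 = n1303 := d21_2 D1301 D2689 (iv D1303) (iv D652) F639 F333 (iv F639) D651
def n2690 : Q := act 6 n1301
theorem D2690 : act 6 n1301 = n2690 := rfl
theorem F4202 : act 0 n2690 = n1304 := d5_1 D2690 (iv D1304) (iv F2182)
theorem F4204 : act 5 n2690 = n1304 := d22_2 F2183 D2690 (iv D1304) (iv F2182)
def n2691 : Q := act 1 n1302
theorem D2691 : act 1 n1302 = n2691 := rfl
theorem F4205 : act 3 n2691 = n1322 := d7_2 (iv F2185) D2691 (iv D1322)
def n2692 : Q := act 4 n1303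
theorem D2692 : act 4 n1303 = n2692 := rfl
theorem F4206 : act 5 n2692 = n2692 := d18_2 F2187 D2692 (iv D2692)
def n2693 : Q := act 6 n1303
theorem D2693 : act 6 n1303 = n2693 := rfl
theorem F4207 : act 3 n2693 = n1304 := d17_1 D2693 (iv D1304) D1303
def n2694 : Q := act 1 n1304
theorem D2694 : act 1 n1304 = n2694 := rfl
def n2695 : Q := act 0 n1305
theorem D2695 : act 0 n1305 = n2695 := rfl
theorem F4209 : act 6 n2695 = n1306 := d5_2 (iv F2190) D2695 (iv D1306)
def n2696 : Q := act 2 n1305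
theorem D2696 : act 2 n1305 = n2696 := rfl
theorem F4210 : act 6 n2696 = n1307 := d14_2 (iv F2190) D2696 (iv D1307)
def n2697 : Q := act 5 n1305
theorem D2697 : act 5 n1305 = n2697 := rfl
theorem F4211 : act 3 n2697 = n1325 := d16_1 D2697 (iv D1325) (iv F2189)
def n2698 : Q := act 1 n1306
theorem D2698 : act 1 n1306 = n2698 := rfl
theorem F4212 : act 3 n2698 = n1326 := d7_2 (iv F2191) D2698 (iv D1326)
def n2699 : Q := act 2 n1306
theorem D2699 : act 2 n1306 = n2699 := rfl
theorem F4213 : act 0 n2699 = n1307 := d1_1 D2699 (iv D1307) D1306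
def n2700 : Q := act 5 n1306
theorem D2700 : act 5 n1306 = n2700 := rfl
theorem F4214 : act 0 n2700 = n1308 := d4_1 D2700 (iv D1308) D1306
theorem F4215 : act 3 n2700 = n1328 := d16_1 D2700 (iv D1328) (iv F2191)
theorem F4216 : act 6 n2700 = n2697 := d22_1 D2700 (iv D2697) F2190 D1306
def n2701 : Q := act 3 n1307
theorem D2701 : act 3 n1307 = n2701 := rfl
def n2702 : Q := act 5 n1307
theorem D2702 : act 5 n1307 = n2702 := rfl
theorem F4217 : act 2 n2702 = n1308 := d13_1 D2702 (iv D1308) D1307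
def n2703 : Q := act 6 n1308
theorem D2703 : act 6 n1308 = n2703 := rfl
theorem F4220 : act 5 n2703 = n2695 := d20_1 D2703 F4209 D2700 F4216 (iv D2697) F2190 D1308
def n2704 : Q := act 0 n1309
theorem D2704 : act 0 n1309 = n2704 := rfl
theorem F4221 : act 3 n2704 = n1332 := d2_2 (iv F2194) D2704 (iv D1332)
def n2709 : Q := act 3 n1310
theorem D2709 : act 3 n1310 = n2709 := rfl
theorem F4225 : act 0 n2709 = n1312 := d2_1 D2709 (iv D1312) (iv F2195)
theorem F4227 : act 2 n2709 = n1312 := d21_2 D1310 D2709 (iv D1312) (iv D656) F643 F339 (iv F643) D655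
def n2710 : Q := act 5 n1310
theorem D2710 : act 5 n1310 = n2710 := rfl
theorem F4228 : act 0 n2710 = n1313 := d4_1 D2710 (iv D1313) (iv F2195)
theorem F4229 : act 2 n2710 = n1311 := d13_1 D2710 (iv D1311) D1310
theorem F4230 : act 6 n2710 = n1313 := d22_1 D2710 (iv D1313) F1210 (iv F2195)
def n2712 : Q := act 4 n1312
theorem D2712 : act 4 n1312 = n2712 := rfl
theorem F4232 : act 6 n2712 = n2712 := d19_2 F2200 D2712 (iv D2712)
def n2713 : Q := act 5 n1312
theorem D2713 : act 5 n1312 = n2713 := rfl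
theorem F4233 : act 3 n2713 = n1313 := d16_1 D2713 (iv D1313) D1312
def n2714 : Q := act 1 n1313
theorem D2714 : act 1 n1313 = n2714 := rfl
def n2715 : Q := act 0 n1314
theorem D2715 : act 0 n1314 = n2715 := rfl
theorem F4234 : act 3 n2715 = n1337 := d2_2 (iv F2202) D2715 (iv D1337)
theorem F4235 : act 5 n2715 = n1315 := d4_2 (iv F2203) D2715 (iv D1315)
def n2716 : Q := act 2 n1314
theorem D2716 : act 2 n1314 = n2716 := rfl
theorem F4236 : act 5 n2716 = n1316 := d13_2 (iv F2203) D2716 (iv D1316)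
def n2717 : Q := act 6 n1314
theorem D2717 : act 6 n1314 = n2717 := rfl
def n2718 : Q := act 1 n1315
theorem D2718 : act 1 n1315 = n2718 := rfl
theorem F4238 : act 3 n2718 = n1340 := d7_2 (iv F2204) D2718 (iv D1340)
def n2719 : Q := act 2 n1315
theorem D2719 : act 2 n1315 = n2719 := rfl
theorem F4239 : act 0 n2719 = n1316 := d1_1 D2719 (iv D1316) D1315
def n2720 : Q := act 6 n1315
theorem D2720 : act 6 n1315 = n2720 := rfl
theorem F4240 : act 0 n2720 = n1317 := d5_1 D2720 (iv D1317) D1315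
theorem F4241 : act 3 n2720 = n1342 := d17_1 D2720 (iv D1342) (iv F2204)
theorem F4242 : act 5 n2720 = n2717 := d22_2 F4235 D2720 (iv D2717) D2715
def n2721 : Q := act 3 n1316
theorem D2721 : act 3 n1316 = n2721 := rfl
def n2722 : Q := act 6 n1316
theorem D2722 : act 6 n1316 = n2722 := rfl
theorem F4243 : act 2 n2722 = n1317 := d14_1 D2722 (iv D1317) D1316
def n2723 : Q := act 5 n1317
theorem D2723 : act 5 n1317 = n2723 := rfl
theorem F4245 : act 3 n2723 = n1345 := d16_1 D2723 (iv D1345) (iv F2206)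
def n2724 : Q := act 2 n1318
theorem D2724 : act 2 n1318 = n2724 := rfl
theorem F4248 : act 4 n2724 = n1346 := d12_2 (iv F2207) D2724 (iv D1346)
def n2725 : Q := act 5 n1318
theorem D2725 : act 5 n1318 = n2725 := rfl
theorem F4250 : act 4 n2725 = n1347 := d18_1 D2725 (iv D1347) (iv F2207)
def n2726 : Q := act 6 n1318
theorem D2726 : act 6 n1318 = n2726 := rfl
def n2731 : Q := act 1 n1321
theorem D2731 : act 1 n1321 = n2731 := rfl
theorem F4261 : act 6 n2731 = n1322 := d10_2 D1321 D2731 (iv D1322) (iv D660) D659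
def n2733 : Q := act 0 n1322
theorem D2733 : act 0 n1322 = n2733 := rfl
theorem F4265 : act 4 n2733 = n1355 := d3_2 (iv F2213) D2733 (iv D1355)
def n2735 : Q := act 5 n1322
theorem D2735 : act 5 n1322 = n2735 := rfl
theorem F4268 : act 1 n2735 = n1325 := d9_1 D2735 (iv D1325) (iv D661) (iv F1217) D1322
def n2736 : Q := act 1 n1323
theorem D2736 : act 1 n1323 = n2736 := rfl
theorem F4270 : act 4 n2736 = n1358 := d8_2 (iv F2214) D2736 (iv D1358)
def n2737 : Q := act 2 n1323
theorem D2737 : act 2 n1323 = n2737 := rfl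
theorem F4271 : act 0 n2737 = n1324 := d1_1 D2737 (iv D1324) D1323
theorem F4273 : act 6 n2737 = n1327 := d14_2 (iv F2215) D2737 (iv D1327)
def n2738 : Q := act 3 n1324
theorem D2738 : act 3 n1324 = n2738 := rfl
theorem F4274 : act 1 n2738 = n2738 := d7_1 D2738 (iv D2738) F2216
theorem F4275 : act 6 n2738 = n1329 := d17_2 (iv F2218) D2738 (iv D1329)
def n2739 : Q := act 5 n1324
theorem D2739 : act 5 n1324 = n2739 := rfl
def n2740 : Q := act 0 n1326
theorem D2740 : act 0 n1326 = n2740 := rfl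
theorem F4278 : act 4 n2740 = n1362 := d3_2 (iv F2220) D2740 (iv D1362)
def n2741 : Q := act 2 n1326
theorem D2741 : act 2 n1326 = n2741 := rfl
theorem F4279 : act 4 n2741 = n1363 := d12_2 (iv F2220) D2741 (iv D1363)
def n2742 : Q := act 5 n1326
theorem D2742 : act 5 n1326 = n2742 := rfl
theorem F4280 : act 4 n2742 = n1364 := d18_1 D2742 (iv D1364) (iv F2220)
theorem F4281 : act 6 n2269 = n2742 := d19_0 F4280 (iv F3432) (iv F3594)
def n2743 : Q := act 6 n1326
theorem D2743 : act 6 n1326 = n2743 := rfl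
def n2744 : Q := act 1 n1327
theorem D2744 : act 1 n1327 = n2744 := rfl
theorem F4283 : act 4 n2744 = n1366 := d8_2 (iv F2222) D2744 (iv D1366)
def n2745 : Q := act 3 n1327
theorem D2745 : act 3 n1327 = n2745 := rfl
theorem F4284 : act 0 n2745 = n1329 := d2_1 D2745 (iv D1329) (iv F2221)
def n2746 : Q := act 5 n1327
theorem D2746 : act 5 n1327 = n2746 := rfl
theorem F4286 : act 2 n2746 = n1328 := d13_1 D2746 (iv D1328) D1327
theorem F4288 : act 6 n2746 = n2739 := d22_1 D2746 (iv D2739) F2218 (iv F2221)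
def n2747 : Q := act 1 n1328
theorem D2747 : act 1 n1328 = n2747 := rfl
theorem F4289 : act 4 n2747 = n1369 := d8_2 (iv F2224) D2747 (iv D1369)
theorem F4291 : act 6 n2133 = n2747 := d19_0 F4289 (iv F3430) (iv F3390)
def n2748 : Q := act 2 n1329
theorem D2748 : act 2 n1329 = n2748 := rfl
def n2749 : Q := act 4 n1329
theorem D2749 : act 4 n1329 = n2749 := rfl
theorem F4292 : act 1 n2749 = n1410 := d8_1 D2749 (iv D1410) (iv F2226)
theorem F4293 : act 3 n2749 = n1371 := d15_1 D2749 (iv D1371) (iv D682) (iv F1222) D1329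
def n2750 : Q := act 5 n1329
theorem D2750 : act 5 n1329 = n2750 := rfl
theorem F4294 : act 3 n2750 = n1330 := d16_1 D2750 (iv D1330) D1329
def n2751 : Q := act 1 n1330
theorem D2751 : act 1 n1330 = n2751 := rfl
theorem F4295 : act 2 n2751 = n2273 := d6_2 (iv F2227) D2751 (iv D2273) F1909 (iv F1223)
theorem F4297 : act 5 n2751 = n1412 := d9_2 D1330 D2751 (iv D1412) (iv D702) (iv F1221)
def n2752 : Q := act 6 n1330
theorem D2752 : act 6 n1330 = n2752 := rfl
theorem F4301 : act 5 n2752 = n2737 := d20_1 D2752 F4273 D2746 F4288 (iv D2739) F2218 D1330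
def n2753 : Q := act 1 n1331
theorem D2753 : act 1 n1331 = n2753 := rfl
theorem F4303 : act 6 n2753 = n2275 := d10_2 D1331 D2753 (iv D2275) (iv D1109) (iv F1223)
def n2755 : Q := act 5 n1332
theorem D2755 : act 5 n1332 = n2755 := rfl
def n2756 : Q := act 6 n1332
theorem D2756 : act 6 n1332 = n2756 := rfl
theorem F4308 : act 0 n2756 = n1335 := d5_1 D2756 (iv D1335) D1332
theorem F4309 : act 4 n2756 = n1378 := d19_1 D2756 (iv D1378) (iv F2232)
def n2761 : Q := act 6 n1334
theorem D2761 : act 6 n1334 = n2761 := rfl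
theorem F4318 : act 5 n2761 = n2756 := d22_2 D1334 D2761 (iv D2756) (iv D1332)
def n2762 : Q := act 5 n1335
theorem D2762 : act 5 n1335 = n2762 := rfl
theorem F4319 : act 0 n2762 = n2761 := d4_1 D2762 F4318 F4308
theorem F4320 : act 4 n2762 = n1384 := d18_1 D2762 (iv D1384) (iv F2237)
def n2766 : Q := act 1 n1337
theorem D2766 : act 1 n1337 = n2766 := rfl
def n2767 : Q := act 2 n1337
theorem D2767 : act 2 n1337 = n2767 := rfl
theorem F4328 : act 0 n2767 = n1338 := d1_1 D2767 (iv D1338) D1337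
theorem F4330 : act 5 n2767 = n1341 := d13_2 (iv F2240) D2767 (iv D1341)
def n2768 : Q := act 3 n1338
theorem D2768 : act 3 n1338 = n2768 := rfl
theorem F4331 : act 1 n2768 = n2768 := d7_1 D2768 (iv D2768) F2241
theorem F4332 : act 5 n2768 = n1343 := d16_2 (iv F2243) D2768 (iv D1343)
def n2769 : Q := act 6 n1338
theorem D2769 : act 6 n1338 = n2769 := rfl
def n2770 : Q := act 0 n1340
theorem D2770 : act 0 n1340 = n2770 := rfl
theorem F4335 : act 1 n2770 = n2740 := d0_2 D1340 D2770 (iv D2740) (iv D1326) (iv D662) (iv D336) (iv F342) D339 D668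
theorem F4336 : act 4 n2770 = n1392 := d3_2 (iv F2245) D2770 (iv D1392)
def n2771 : Q := act 2 n1340
theorem D2771 : act 2 n1340 = n2771 := rfl
theorem F4337 : act 4 n2771 = n1393 := d12_2 (iv F2245) D2771 (iv D1393)
def n2772 : Q := act 5 n1340
theorem D2772 : act 5 n1340 = n2772 := rfl
def n2773 : Q := act 6 n1340
theorem D2773 : act 6 n1340 = n2773 := rfl
theorem F4339 : act 4 n2773 = n1395 := d19_1 D2773 (iv D1395) (iv F2245)
theorem F4340 : act 5 n2255 = n2773 := d18_0 F4339 F3414 (iv F3572)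
def n2774 : Q := act 1 n1341
theorem D2774 : act 1 n1341 = n2774 := rfl
theorem F4341 : act 4 n2774 = n1396 := d8_2 (iv F2247) D2774 (iv D1396)
def n2775 : Q := act 3 n1341
theorem D2775 : act 3 n1341 = n2775 := rfl
theorem F4342 : act 0 n2775 = n1343 := d2_1 D2775 (iv D1343) (iv F2246)
def n2776 : Q := act 6 n1341
theorem D2776 : act 6 n1341 = n2776 := rfl
theorem F4344 : act 2 n2776 = n1342 := d14_1 D2776 (iv D1342) D1341
theorem F4346 : act 5 n2776 = n2769 := d22_2 F4330 D2776 (iv D2769) (iv F4328)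
def n2777 : Q := act 1 n1342
theorem D2777 : act 1 n1342 = n2777 := rfl
theorem F4347 : act 4 n2777 = n1399 := d8_2 (iv F2249) D2777 (iv D1399)
theorem F4348 : act 0 n2127 = n2777 := d3_3 F4347 F3413 (iv F3380)
theorem F4349 : act 5 n2125 = n2777 := d18_0 F4347 (iv F3412) (iv F3377)
def n2778 : Q := act 2 n1343
theorem D2778 : act 2 n1343 = n2778 := rfl
def n2779 : Q := act 4 n1343
theorem D2779 : act 4 n1343 = n2779 := rfl
theorem F4351 : act 3 n2779 = n1401 := d15_1 D2779 (iv D1401) (iv D696) (iv F1234) D1343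
def n2780 : Q := act 6 n1343
theorem D2780 : act 6 n1343 = n2780 := rfl
theorem F4352 : act 3 n2780 = n1344 := d17_1 D2780 (iv D1344) D1343
def n2781 : Q := act 1 n1344
theorem D2781 : act 1 n1344 = n2781 := rfl
theorem F4353 : act 2 n2781 = n2259 := d6_2 (iv F2252) D2781 (iv D2259) F1897 (iv F1235)
theorem F4355 : act 6 n2781 = n1419 := d10_2 D1344 D2781 (iv D1419) (iv D706) (iv F1233)
def n2782 : Q := act 5 n1344
theorem D2782 : act 5 n1344 = n2782 := rfl
theorem F4358 : act 4 n2782 = n1404 := d18_1 D2782 (iv D1404) (iv F2253)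
theorem F4359 : act 6 n2782 = n2767 := d20_2 D1344 D2782 F4330 D2776 F4346 (iv D2769) F2243
def n2783 : Q := act 1 n1345
theorem D2783 : act 1 n1345 = n2783 := rfl
theorem F4361 : act 5 n2783 = n2261 := d9_2 D1345 D2783 (iv D2261) (iv D1103) (iv F1235)
def n2784 : Q := act 1 n1346
theorem D2784 : act 1 n1346 = n2784 := rfl
def n2786 : Q := act 5 n1346
theorem D2786 : act 5 n1346 = n2786 := rfl
theorem F4364 : act 2 n2786 = n1347 := d13_1 D2786 (iv D1347) D1346
def n2796 : Q := act 1 n1352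
theorem D2796 : act 1 n1352 = n2796 := rfl
theorem F4378 : act 5 n2796 = n2151 := d9_2 (iv F2263) D2796 F3634 D2313 F3663
theorem F4379 : act 6 n2796 = n2796 := d10_2 D1352 D2796 (iv D2796) (iv D1352) F1238
theorem F4380 : act 0 n2796 = n2153 := d22_4 (iv D2153) (iv F3635) (iv F4378) F4379
def n2797 : Q := act 0 n1353
theorem D2797 : act 0 n1353 = n2797 := rfl
theorem F4381 : act 6 n2797 = n1355 := d5_2 (iv F2264) D2797 (iv D1355)
theorem F4382 : act 5 n2797 = n2164 := d22_0 F3433 (iv D1357) (iv F2264) D2797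
theorem F4384 : act 1 n2067 = n1355 := d24_14 (iv F4381) F4382 (iv D2164) F3430 (iv F3428) (iv F3431) (iv F3432) (iv F3657) (iv D2311) D2312 F3660 (iv D2062) (iv F3242) (iv F3285)
def n2800 : Q := act 1 n1354
theorem D2800 : act 1 n1354 = n2800 := rfl
theorem F4387 : act 0 n2800 = n1387 := d0_1 D2800 F2297 (iv F1259) D1405 (iv F3686) F3687 (iv F4380) (iv D2796) (iv F2265)
theorem F4388 : act 6 n1385 = n2800 := d5_0 F4387 (iv D1387) D1385
theorem F4389 : act 1 n2061 = n1385 := d10_5 F4388 (iv D2800) F2266 (iv F3399) (iv F3279)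
def n2802 : Q := act 5 n1355
theorem D2802 : act 5 n1355 = n2802 := rfl
theorem F4391 : act 0 n2802 = n1357 := d4_1 D2802 (iv D1357) D1355
theorem F4392 : act 1 n2802 = n1383 := d9_1 D2802 F2293 F3630 (iv F3285) F4384
def n2805 : Q := act 0 n1358
theorem D2805 : act 0 n1358 = n2805 := rfl
theorem F4396 : act 1 n2805 = n2032 := d0_2 D1358 D2805 (iv F3284) F4384 (iv D1355) (iv D675) F660 D342 D676
theorem F4397 : act 5 n2029 = n2805 := d9_0 F4396 (iv D2032) (iv D999) (iv F1754) D2029
def n2806 : Q := act 2 n1358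
theorem D2806 : act 2 n1358 = n2806 := rfl
def n2807 : Q := act 5 n1358
theorem D2807 : act 5 n1358 = n2807 := rfl
theorem F4398 : act 0 n2807 = n2029 := d4_1 D2807 F4397 (iv D2805)
theorem F4399 : act 6 n1388 = n2807 := d24_0 (iv D2807) (iv D1358) F1239 D681 D1369 (iv F3430) (iv F3426) (iv F3438) F3408 F3412 (iv D1399) (iv D695) (iv F1251) D1388
def n2808 : Q := act 6 n1358
theorem D2808 : act 6 n1358 = n2808 := rfl
theorem F4400 : act 1 n2808 = n1365 := d10_1 D2808 (iv D1365) (iv D679) (iv F1239) D1358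
def n2810 : Q := act 3 n1359
theorem D2810 : act 3 n1359 = n2810 := rfl
theorem F4401 : act 0 n2810 = n1360 := d2_1 D2810 (iv D1360) (iv F2269)
theorem F4402 : act 6 n2810 = n1367 := d17_2 (iv F2270) D2810 (iv D1367)
def n2811 : Q := act 2 n1360
theorem D2811 : act 2 n1360 = n2811 := rfl
theorem F4403 : act 6 n2811 = n1370 := d14_2 (iv F2272) D2811 (iv D1370)
def n2812 : Q := act 4 n1360
theorem D2812 : act 4 n1360 = n2812 := rfl
theorem F4404 : act 1 n2812 = n2812 := d8_1 D2812 (iv D2812) F2271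
theorem F4405 : act 6 n2812 = n1371 := d19_2 (iv F2272) D2812 (iv D1371)
def n2813 : Q := act 5 n1360
theorem D2813 : act 5 n1360 = n2813 := rfl
def n2815 : Q := act 2 n1362
theorem D2815 : act 2 n1362 = n2815 := rfl
theorem F4408 : act 0 n2815 = n1363 := d1_1 D2815 (iv D1363) D1362
def n2816 : Q := act 5 n1362
theorem D2816 : act 5 n1362 = n2816 := rfl
theorem F4409 : act 0 n2816 = n1364 := d4_1 D2816 (iv D1364) D1362
theorem F4410 : act 1 n2816 = n2284 := d9_1 D2816 (iv D2284) D2283 (iv F3615) F2303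
theorem F4411 : act 6 n2816 = n2322 := d20_2 (iv F3659) D2816 F3672 (iv D1365) D1364 (iv F3432) (iv F3657)
def n2817 : Q := act 1 n1363
theorem D2817 : act 1 n1363 = n2817 := rfl
theorem F4412 : act 2 n2817 = n1366 := d6_2 D1363 D2817 (iv D1366) (iv D680) D679
def n2818 : Q := act 3 n1363
theorem D2818 : act 3 n1363 = n2818 := rfl
def n2819 : Q := act 5 n1363
theorem D2819 : act 5 n1363 = n2819 := rfl
theorem F4413 : act 2 n2819 = n1364 := d13_1 D2819 (iv D1364) D1363
theorem F4414 : act 6 n2323 = n2819 := d14_0 F4413 (iv F3432) D2323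
def n2820 : Q := act 6 n1363
theorem D2820 : act 6 n1363 = n2820 := rfl
theorem F4415 : act 2 n2820 = n1365 := d14_1 D2820 (iv D1365) D1363
theorem F4416 : act 1 n2820 = n1942 := d23_2 F3672 (iv F4415) F3104 (iv D955) (iv D480) (iv D241) (iv F417) (iv F482) F481 D249 (iv F502) (iv D147) D146 (iv F563) (iv F1054) D1130 F1929 D1131 D2322
theorem F4417 : act 2 n1943 = n2808 := d6_4 (iv F4415) F4416 F3105 D1943 F4400
theorem F4418 : act 6 n2806 = n1943 := d14_0 F4417 (iv D2808) D2806
def n2821 : Q := act 0 n1366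
theorem D2821 : act 0 n1366 = n2821 := rfl
def n2822 : Q := act 3 n1366
theorem D2822 : act 3 n1366 = n2822 := rfl
theorem F4419 : act 1 n2822 = n1367 := d7_1 D2822 (iv D1367) D1366
def n2823 : Q := act 5 n1366
theorem D2823 : act 5 n1366 = n2823 := rfl
def n2824 : Q := act 6 n1366
theorem D2824 : act 6 n1366 = n2824 := rfl
def n2825 : Q := act 2 n1367
theorem D2825 : act 2 n1367 = n2825 := rfl
theorem F4420 : act 0 n2825 = n1370 := d1_1 D2825 (iv D1370) (iv F2274)
theorem F4421 : act 3 n2825 = n2601 := d21_1 D2825 (iv D2601) (iv D1262) (iv D633) F630 D344 D682 (iv F2274)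
def n2826 : Q := act 4 n1367
theorem D2826 : act 4 n1367 = n2826 := rfl
theorem F4422 : act 0 n2826 = n1371 := d3_1 D2826 (iv D1371) (iv F2274)
def n2827 : Q := act 5 n1367
theorem D2827 : act 5 n1367 = n2827 := rfl
theorem F4424 : act 3 n2827 = n1368 := d16_1 D2827 (iv D1368) D1367
theorem F4425 : act 6 n2827 = n2813 := d22_1 D2827 (iv D2813) F2272 (iv F2274)
def n2828 : Q := act 1 n1368
theorem D2828 : act 1 n1368 = n2828 := rfl
def n2830 : Q := act 1 n1370
theorem D2830 : act 1 n1370 = n2830 := rfl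
theorem F4428 : act 2 n2830 = n1427 := d6_2 D1370 D2830 (iv D1427) (iv D710) (iv F1245)
def n2831 : Q := act 3 n1370
theorem D2831 : act 3 n1370 = n2831 := rfl
theorem F4429 : act 0 n2831 = n2601 := d2_1 D2831 (iv F4421) F4420
def n2832 : Q := act 4 n1370
theorem D2832 : act 4 n1370 = n2832 := rfl
theorem F4431 : act 2 n2832 = n1371 := d12_1 D2832 (iv D1371) D1370
def n2833 : Q := act 5 n1370
theorem D2833 : act 5 n1370 = n2833 := rfl
theorem F4432 : act 2 n2833 = n1372 := d13_1 D2833 (iv D1372) D1370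
def n2834 : Q := act 5 n1371
theorem D2834 : act 5 n1371 = n2834 := rfl
theorem F4433 : act 4 n2834 = n1372 := d18_1 D2834 (iv D1372) D1371
def n2835 : Q := act 1 n1372
theorem D2835 : act 1 n1372 = n2835 := rfl
theorem F4434 : act 3 n2835 = n1373 := d7_2 (iv F2279) D2835 (iv D1373)
theorem F4435 : act 5 n2835 = n1431 := d9_2 D1372 D2835 (iv D1431) (iv D712) (iv F1245)
def n2837 : Q := act 0 n1373
theorem D2837 : act 0 n1373 = n2837 := rfl
theorem F4439 : act 2 n2837 = n2331 := d1_2 (iv F2280) D2837 (iv D2331)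
theorem F4440 : act 5 n2837 = n1432 := d4_2 (iv F2281) D2837 (iv D1432)
def n2838 : Q := act 6 n1373
theorem D2838 : act 6 n1373 = n2838 := rfl
def n2840 : Q := act 2 n1375
theorem D2840 : act 2 n1375 = n2840 := rfl
def n2841 : Q := act 5 n1375
theorem D2841 : act 5 n1375 = n2841 := rfl
theorem F4443 : act 1 n2841 = n2807 := d9_1 D2841 (iv D2807) (iv D1358) (iv F1248) D1375
def n2842 : Q := act 1 n1376
theorem D2842 : act 1 n1376 = n2842 := rfl
def n2844 : Q := act 5 n1376
theorem D2844 : act 5 n1376 = n2844 := rfl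
theorem F4447 : act 2 n2844 = n1377 := d13_1 D2844 (iv D1377) D1376
def n2845 : Q := act 6 n1376
theorem D2845 : act 6 n1376 = n2845 := rfl
theorem F4448 : act 0 n2845 = n1381 := d5_1 D2845 (iv D1381) (iv F2286)
theorem F4449 : act 2 n2845 = n1378 := d14_1 D2845 (iv D1378) D1376
def n2853 : Q := act 5 n1381
theorem D2853 : act 5 n1381 = n2853 := rfl
theorem F4459 : act 2 n2853 = n1384 := d13_1 D2853 (iv D1384) (iv F2291)
def n2854 : Q := act 0 n1382
theorem D2854 : act 0 n1382 = n2854 := rfl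
theorem F4461 : act 1 n2854 = n2168 := d0_2 D1382 D2854 F3436 (iv F3431) (iv F4409) F4410 F3617 (iv F3632) F2287
def n2855 : Q := act 2 n1382
theorem D2855 : act 2 n1382 = n2855 := rfl
theorem F4464 : act 5 n2855 = n1386 := d13_2 (iv F2292) D2855 (iv D1386)
def n2857 : Q := act 1 n1384
theorem D2857 : act 1 n1384 = n2857 := rfl
theorem F4468 : act 0 n2857 = n2137 := d0_1 D2857 (iv F3650) F3649 (iv D1375) F1247 (iv F2268) (iv F4391) F4392 (iv F2294)
theorem F4470 : act 6 n2857 = n2136 := d10_2 (iv F2295) D2857 (iv F3396) D2282 (iv F3632)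
def n2859 : Q := act 3 n1386
theorem D2859 : act 3 n1386 = n2859 := rfl
theorem F4476 : act 1 n2859 = n2859 := d7_1 D2859 (iv D2859) F2296
def n2860 : Q := act 6 n1386
theorem D2860 : act 6 n1386 = n2860 := rfl
theorem F4477 : act 2 n2860 = n1387 := d14_1 D2860 (iv D1387) D1386
def n2861 : Q := act 0 n1388
theorem D2861 : act 0 n1388 = n2861 := rfl
theorem F4478 : act 1 n2861 = n2028 := d0_2 D1388 D2861 (iv F3278) F4389 (iv D1385) (iv D689) F666 D348 D690
theorem F4479 : act 6 n2861 = n2029 := d5_2 (iv F4399) D2861 (iv F4398)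
theorem F4480 : act 5 n2861 = n2808 := d22_0 (iv D2808) D2807 (iv F4399) D2861
def n2862 : Q := act 2 n1388
theorem D2862 : act 2 n1388 = n2862 := rfl
def n2863 : Q := act 5 n1388
theorem D2863 : act 5 n1388 = n2863 := rfl
theorem F4481 : act 0 n2863 = n2808 := d4_1 D2863 (iv F4480) (iv D2861)
theorem F4482 : act 1 n2863 = n1394 := d9_1 D2863 (iv D1394) (iv D693) (iv F1251) D1388
theorem F4483 : act 6 n2863 = n2805 := d20_2 (iv F4399) D2863 (iv F4397) (iv F4479) F4480 (iv D2808) D2807
def n2864 : Q := act 1 n1389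
theorem D2864 : act 1 n1389 = n2864 := rfl
def n2865 : Q := act 3 n1389
theorem D2865 : act 3 n1389 = n2865 := rfl
theorem F4484 : act 0 n2865 = n1390 := d2_1 D2865 (iv D1390) (iv F2298)
theorem F4485 : act 5 n2865 = n1397 := d16_2 (iv F2299) D2865 (iv D1397)
def n2866 : Q := act 2 n1390
theorem D2866 : act 2 n1390 = n2866 := rfl
theorem F4486 : act 5 n2866 = n1400 := d13_2 (iv F2301) D2866 (iv D1400)
def n2867 : Q := act 4 n1390
theorem D2867 : act 4 n1390 = n2867 := rfl
theorem F4487 : act 1 n2867 = n2867 := d8_1 D2867 (iv D2867) F2300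
theorem F4488 : act 5 n2867 = n1401 := d18_2 (iv F2301) D2867 (iv D1401)
def n2868 : Q := act 6 n1390
theorem D2868 : act 6 n1390 = n2868 := rfl
def n2870 : Q := act 2 n1392
theorem D2870 : act 2 n1392 = n2870 := rfl
theorem F4491 : act 0 n2870 = n1393 := d1_1 D2870 (iv D1393) D1392
def n2871 : Q := act 6 n1392
theorem D2871 : act 6 n1392 = n2871 := rfl
theorem F4494 : act 5 n2871 = n2292 := d20_1 D2871 F3629 (iv D1394) D1395 F3414 (iv F3614) (iv F3615)
def n2872 : Q := act 1 n1393
theorem D2872 : act 1 n1393 = n2872 := rfl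
theorem F4495 : act 2 n2872 = n1396 := d6_2 D1393 D2872 (iv D1396) (iv D694) D693
def n2873 : Q := act 3 n1393
theorem D2873 : act 3 n1393 = n2873 := rfl
def n2874 : Q := act 5 n1393
theorem D2874 : act 5 n1393 = n2874 := rfl
theorem F4496 : act 2 n2874 = n1394 := d13_1 D2874 (iv D1394) D1393
def n2875 : Q := act 6 n1393
theorem D2875 : act 6 n1393 = n2875 := rfl
theorem F4497 : act 2 n2875 = n1395 := d14_1 D2875 (iv D1395) D1393
theorem F4498 : act 5 n2293 = n2875 := d13_0 F4497 F3414 D2293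
def n2876 : Q := act 0 n1396
theorem D2876 : act 0 n1396 = n2876 := rfl
def n2877 : Q := act 3 n1396
theorem D2877 : act 3 n1396 = n2877 := rfl
theorem F4499 : act 1 n2877 = n1397 := d7_1 D2877 (iv D1397) D1396
def n2878 : Q := act 5 n1396
theorem D2878 : act 5 n1396 = n2878 := rfl
def n2879 : Q := act 6 n1396
theorem D2879 : act 6 n1396 = n2879 := rfl
def n2880 : Q := act 2 n1397
theorem D2880 : act 2 n1397 = n2880 := rfl
theorem F4501 : act 3 n2880 = n2644 := d21_1 D2880 (iv D2644) (iv D1282) (iv D642) F635 D350 D696 (iv F2304)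
def n2881 : Q := act 4 n1397
theorem D2881 : act 4 n1397 = n2881 := rfl
theorem F4502 : act 0 n2881 = n1401 := d3_1 D2881 (iv D1401) (iv F2304)
def n2882 : Q := act 6 n1397
theorem D2882 : act 6 n1397 = n2882 := rfl
theorem F4503 : act 0 n2882 = n1402 := d5_1 D2882 (iv D1402) (iv F2304)
theorem F4504 : act 3 n2882 = n1398 := d17_1 D2882 (iv D1398) D1397
theorem F4505 : act 5 n2882 = n2868 := d22_2 F4485 D2882 (iv D2868) (iv F4484)
def n2884 : Q := act 2 n1399
theorem D2884 : act 2 n1399 = n2884 := rfl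
theorem F4507 : act 5 n2884 = n2147 := d13_2 F3412 D2884 (iv D2147)
def n2885 : Q := act 1 n1400
theorem D2885 : act 1 n1400 = n2885 := rfl
theorem F4508 : act 2 n2885 = n1441 := d6_2 D1400 D2885 (iv D1441) (iv D717) (iv F1257)
def n2886 : Q := act 3 n1400
theorem D2886 : act 3 n1400 = n2886 := rfl
def n2887 : Q := act 4 n1400
theorem D2887 : act 4 n1400 = n2887 := rfl
theorem F4511 : act 2 n2887 = n1401 := d12_1 D2887 (iv D1401) D1400
def n2888 : Q := act 6 n1400
theorem D2888 : act 6 n1400 = n2888 := rfl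
theorem F4512 : act 2 n2888 = n1402 := d14_1 D2888 (iv D1402) D1400
def n2889 : Q := act 6 n1401
theorem D2889 : act 6 n1401 = n2889 := rfl
theorem F4513 : act 4 n2889 = n1402 := d19_1 D2889 (iv D1402) D1401
def n2890 : Q := act 1 n1402
theorem D2890 : act 1 n1402 = n2890 := rfl
theorem F4515 : act 6 n2890 = n1445 := d10_2 D1402 D2890 (iv D1445) (iv D719) (iv F1257)
def n2891 : Q := act 5 n1402
theorem D2891 : act 5 n1402 = n2891 := rfl
theorem F4516 : act 0 n2891 = n2868 := d4_1 D2891 (iv F4505) F4503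
theorem F4517 : act 3 n2891 = n1404 := d16_1 D2891 (iv D1404) (iv F2309)
theorem F4518 : act 6 n2891 = n2865 := d20_2 D1402 D2891 F4485 D2882 F4505 (iv D2868) F2301
def n2892 : Q := act 0 n1403
theorem D2892 : act 0 n1403 = n2892 := rfl
theorem F4519 : act 2 n2892 = n2300 := d1_2 (iv F2310) D2892 (iv D2300)
theorem F4520 : act 6 n2892 = n1446 := d5_2 (iv F2311) D2892 (iv D1446)
def n2893 : Q := act 5 n1403
theorem D2893 : act 5 n1403 = n2893 := rfl
theorem F4521 : act 2 n2893 = n2301 := d13_1 D2893 (iv D2301) (iv F2310)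
def n2894 : Q := act 1 n1404
theorem D2894 : act 1 n1404 = n2894 := rfl
def n2895 : Q := act 2 n1405
theorem D2895 : act 2 n1405 = n2895 := rfl
theorem F4522 : act 5 n2895 = n2303 := d13_2 (iv F2315) D2895 (iv D2303)
def n2896 : Q := act 0 n1406
theorem D2896 : act 0 n1406 = n2896 := rfl
theorem F4523 : act 4 n2896 = n1420 := d3_2 (iv F2316) D2896 (iv D1420)
def n2897 : Q := act 3 n1406
theorem D2897 : act 3 n1406 = n2897 := rfl
theorem F4524 : act 1 n2897 = n1407 := d7_1 D2897 (iv D1407) D1406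
def n2898 : Q := act 5 n1406
theorem D2898 : act 5 n1406 = n2898 := rfl
theorem F4525 : act 4 n2898 = n1422 := d18_1 D2898 (iv D1422) (iv F2316)
def n2899 : Q := act 6 n1406
theorem D2899 : act 6 n1406 = n2899 := rfl
theorem F4527 : act 4 n2899 = n1423 := d19_1 D2899 (iv D1423) (iv F2316)
def n2900 : Q := act 2 n1407
theorem D2900 : act 2 n1407 = n2900 := rfl
theorem F4528 : act 0 n2900 = n1409 := d1_1 D2900 (iv D1409) (iv F2317)
theorem F4529 : act 6 n2900 = n2900 := d14_2 F2318 D2900 (iv D2900)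
theorem F4530 : act 3 n2900 = n1409 := d21_1 D2900 (iv D1409) (iv D701) (iv D353) F352 D353 D701 (iv F2317)
def n2901 : Q := act 4 n1407
theorem D2901 : act 4 n1407 = n2901 := rfl
theorem F4531 : act 0 n2901 = n1410 := d3_1 D2901 (iv D1410) (iv F2317)
def n2902 : Q := act 5 n1407
theorem D2902 : act 5 n1407 = n2902 := rfl
theorem F4534 : act 0 n2902 = n1411 := d4_1 D2902 (iv D1411) (iv F2317)
theorem F4535 : act 3 n2902 = n1408 := d16_1 D2902 (iv D1408) D1407
theorem F4536 : act 6 n2902 = n1411 := d22_1 D2902 (iv D1411) F1268 (iv F2317)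
def n2903 : Q := act 1 n1408
theorem D2903 : act 1 n1408 = n2903 := rfl
theorem F4537 : act 4 n2903 = n1426 := d8_2 (iv F2321) D2903 (iv D1426)
def n2904 : Q := act 1 n1409
theorem D2904 : act 1 n1409 = n2904 := rfl
def n2905 : Q := act 4 n1409
theorem D2905 : act 4 n1409 = n2905 := rfl
theorem F4538 : act 2 n2905 = n1410 := d12_1 D2905 (iv D1410) D1409
def n2906 : Q := act 5 n1409
theorem D2906 : act 5 n1409 = n2906 := rfl
theorem F4540 : act 2 n2906 = n1411 := d13_1 D2906 (iv D1411) D1409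
def n2907 : Q := act 5 n1410
theorem D2907 : act 5 n1410 = n2907 := rfl
theorem F4541 : act 3 n2907 = n1430 := d16_1 D2907 (iv D1430) (iv F2324)
theorem F4542 : act 4 n2907 = n1411 := d18_1 D2907 (iv D1411) D1410
def n2908 : Q := act 1 n1411
theorem D2908 : act 1 n1411 = n2908 := rfl
theorem F4543 : act 3 n2908 = n1412 := d7_2 (iv F2326) D2908 (iv D1412)
def n2909 : Q := act 0 n1412
theorem D2909 : act 0 n1412 = n2909 := rfl
theorem F4544 : act 2 n2909 = n2367 := d1_2 (iv F2327) D2909 (iv D2367)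
theorem F4545 : act 4 n2909 = n1432 := d3_2 (iv F2328) D2909 (iv D1432)
def n2910 : Q := act 6 n1412
theorem D2910 : act 6 n1412 = n2910 := rfl
theorem F4546 : act 2 n2910 = n2368 := d14_1 D2910 (iv D2368) (iv F2327)
theorem F4547 : act 4 n2910 = n1433 := d19_1 D2910 (iv D1433) (iv F2328)
def n2911 : Q := act 0 n1413
theorem D2911 : act 0 n1413 = n2911 := rfl
theorem F4548 : act 4 n2911 = n1434 := d3_2 (iv F2329) D2911 (iv D1434)
def n2912 : Q := act 3 n1413
theorem D2912 : act 3 n1413 = n2912 := rfl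
theorem F4549 : act 1 n2912 = n1414 := d7_1 D2912 (iv D1414) D1413
def n2913 : Q := act 5 n1413
theorem D2913 : act 5 n1413 = n2913 := rfl
theorem F4550 : act 1 n2913 = n2913 := d9_1 D2913 (iv D2913) (iv D1413) F1273 D1413
def n2914 : Q := act 6 n1413
theorem D2914 : act 6 n1413 = n2914 := rfl
def n2915 : Q := act 2 n1414
theorem D2915 : act 2 n1414 = n2915 := rfl
theorem F4553 : act 0 n2915 = n1416 := d1_1 D2915 (iv D1416) (iv F2330)
theorem F4554 : act 5 n2915 = n2915 := d13_2 F2331 D2915 (iv D2915)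
theorem F4555 : act 3 n2915 = n1416 := d21_1 D2915 (iv D1416) (iv D705) (iv D356) F355 D356 D705 (iv F2330)
def n2916 : Q := act 4 n1414
theorem D2916 : act 4 n1414 = n2916 := rfl
theorem F4557 : act 3 n2916 = n1438 := d15_1 D2916 (iv D1438) (iv D715) (iv F1272) D1414
theorem F4558 : act 5 n2916 = n2916 := d18_2 F2331 D2916 (iv D2916)
def n2917 : Q := act 6 n1414
theorem D2917 : act 6 n1414 = n2917 := rfl
theorem F4559 : act 0 n2917 = n1418 := d5_1 D2917 (iv D1418) (iv F2330)
theorem F4560 : act 3 n2917 = n1415 := d17_1 D2917 (iv D1415) D1414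
theorem F4561 : act 5 n2917 = n1418 := d22_2 F2331 D2917 (iv D1418) (iv F2330)
def n2918 : Q := act 1 n1415
theorem D2918 : act 1 n1415 = n2918 := rfl
theorem F4562 : act 2 n2918 = n2903 := d6_2 (iv F2333) D2918 (iv D2903) F2320 (iv F1275)
theorem F4563 : act 4 n2918 = n1440 := d8_2 (iv F2334) D2918 (iv D1440)
def n2919 : Q := act 1 n1416
theorem D2919 : act 1 n1416 = n2919 := rfl
def n2920 : Q := act 4 n1416
theorem D2920 : act 4 n1416 = n2920 := rfl
theorem F4564 : act 2 n2920 = n1417 := d12_1 D2920 (iv D1417) D1416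
def n2921 : Q := act 6 n1416
theorem D2921 : act 6 n1416 = n2921 := rfl
theorem F4566 : act 2 n2921 = n1418 := d14_1 D2921 (iv D1418) D1416
def n2922 : Q := act 6 n1417
theorem D2922 : act 6 n1417 = n2922 := rfl
theorem F4567 : act 3 n2922 = n1444 := d17_1 D2922 (iv D1444) (iv F2337)
theorem F4568 : act 4 n2922 = n1418 := d19_1 D2922 (iv D1418) D1417
def n2923 : Q := act 1 n1418
theorem D2923 : act 1 n1418 = n2923 := rfl
theorem F4569 : act 3 n2923 = n1419 := d7_2 (iv F2339) D2923 (iv D1419)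
def n2924 : Q := act 0 n1419
theorem D2924 : act 0 n1419 = n2924 := rfl
theorem F4570 : act 2 n2924 = n2350 := d1_2 (iv F2340) D2924 (iv D2350)
theorem F4571 : act 4 n2924 = n1446 := d3_2 (iv F2341) D2924 (iv D1446)
def n2925 : Q := act 5 n1419
theorem D2925 : act 5 n1419 = n2925 := rfl
theorem F4572 : act 2 n2925 = n2351 := d13_1 D2925 (iv D2351) (iv F2340)
theorem F4573 : act 4 n2925 = n1447 := d18_1 D2925 (iv D1447) (iv F2341)
def n2926 : Q := act 1 n1420
theorem D2926 : act 1 n1420 = n2926 := rfl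
def n2927 : Q := act 3 n1420
theorem D2927 : act 3 n1420 = n2927 := rfl
theorem F4574 : act 0 n2927 = n1421 := d2_1 D2927 (iv D1421) D1420
def n2928 : Q := act 5 n1420
theorem D2928 : act 5 n1420 = n2928 := rfl
theorem F4575 : act 0 n2928 = n1422 := d4_1 D2928 (iv D1422) D1420
def n2929 : Q := act 6 n1420
theorem D2929 : act 6 n1420 = n2929 := rfl
def n2930 : Q := act 2 n1421
theorem D2930 : act 2 n1421 = n2930 := rfl
def n2931 : Q := act 4 n1421
theorem D2931 : act 4 n1421 = n2931 := rfl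
def n2932 : Q := act 5 n1421
theorem D2932 : act 5 n1421 = n2932 := rfl
theorem F4578 : act 3 n2932 = n1422 := d16_1 D2932 (iv D1422) D1421
def n2933 : Q := act 6 n1421
theorem D2933 : act 6 n1421 = n2933 := rfl
theorem F4580 : act 3 n2933 = n1423 := d17_1 D2933 (iv D1423) D1421
def n2934 : Q := act 1 n1422
theorem D2934 : act 1 n1422 = n2934 := rfl
theorem F4581 : act 5 n2934 = n1426 := d9_2 D1422 D2934 (iv D1426) (iv D709) D707
def n2935 : Q := act 6 n1422
theorem D2935 : act 6 n1422 = n2935 := rfl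
theorem F4582 : act 5 n2935 = n2929 := d22_2 D1422 D2935 (iv D2929) (iv D1420)
def n2938 : Q := act 1 n1425
theorem D2938 : act 1 n1425 = n2938 := rfl
theorem F4588 : act 3 n2938 = n1426 := d7_2 (iv F2347) D2938 (iv D1426)
def n2939 : Q := act 0 n1426
theorem D2939 : act 0 n1426 = n2939 := rfl
def n2940 : Q := act 6 n1426
theorem D2940 : act 6 n1426 = n2940 := rfl
theorem F4589 : act 1 n2940 = n1433 := d10_1 D2940 (iv D1433) (iv D713) (iv F1286) D1426
def n2941 : Q := act 0 n1427
theorem D2941 : act 0 n1427 = n2941 := rfl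
def n2942 : Q := act 4 n1427
theorem D2942 : act 4 n1427 = n2942 := rfl
def n2943 : Q := act 5 n1427
theorem D2943 : act 5 n1427 = n2943 := rfl
def n2947 : Q := act 1 n1429
theorem D2947 : act 1 n1429 = n2947 := rfl
def n2948 : Q := act 1 n1430
theorem D2948 : act 1 n1430 = n2948 := rfl
theorem F4595 : act 4 n2948 = n1431 := d8_2 (iv F2352) D2948 (iv D1431)
def n2949 : Q := act 0 n1431
theorem D2949 : act 0 n1431 = n2949 := rfl
theorem F4596 : act 3 n2949 = n1432 := d2_2 (iv F2353) D2949 (iv D1432)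
def n2950 : Q := act 2 n1431
theorem D2950 : act 2 n1431 = n2950 := rfl
def n2951 : Q := act 6 n1431
theorem D2951 : act 6 n1431 = n2951 := rfl
theorem F4597 : act 3 n2951 = n1433 := d17_1 D2951 (iv D1433) (iv F2353)
def n2952 : Q := act 1 n1432
theorem D2952 : act 1 n1432 = n2952 := rfl
def n2953 : Q := act 6 n1432
theorem D2953 : act 6 n1432 = n2953 := rfl
theorem F4598 : act 0 n2953 = n1433 := d5_1 D2953 (iv D1433) D1432
theorem F4599 : act 2 n2953 = n2426 := d14_1 D2953 (iv D2426) (iv F2354)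
theorem F4600 : act 5 n2953 = n2838 := d22_2 F4440 D2953 (iv D2838) D2837
def n2954 : Q := act 5 n1433
theorem D2954 : act 5 n1433 = n2954 := rfl
theorem F4603 : act 6 n2954 = n2837 := d20_2 D1433 D2954 F4440 D2953 F4600 (iv D2838) F2281
def n2955 : Q := act 1 n1434
theorem D2955 : act 1 n1434 = n2955 := rfl
def n2956 : Q := act 3 n1434
theorem D2956 : act 3 n1434 = n2956 := rfl
theorem F4604 : act 0 n2956 = n1435 := d2_1 D2956 (iv D1435) D1434
def n2957 : Q := act 5 n1434
theorem D2957 : act 5 n1434 = n2957 := rfl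
def n2958 : Q := act 6 n1434
theorem D2958 : act 6 n1434 = n2958 := rfl
def n2959 : Q := act 2 n1435
theorem D2959 : act 2 n1435 = n2959 := rfl
def n2961 : Q := act 5 n1435
theorem D2961 : act 5 n1435 = n2961 := rfl
theorem F4608 : act 1 n2961 = n2961 := d9_1 D2961 (iv D2961) F2356 F1292 (iv F2356)
def n2962 : Q := act 6 n1435
theorem D2962 : act 6 n1435 = n2962 := rfl
theorem F4610 : act 3 n2962 = n1437 := d17_1 D2962 (iv D1437) D1435
def n2963 : Q := act 6 n1436
theorem D2963 : act 6 n1436 = n2963 := rfl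
theorem F4611 : act 5 n2963 = n2958 := d22_2 D1436 D2963 (iv D2958) (iv D1434)
def n2964 : Q := act 1 n1437
theorem D2964 : act 1 n1437 = n2964 := rfl
theorem F4612 : act 2 n2964 = n2940 := d6_2 (iv F3807) D2964 F4589 F2355 D2427
theorem F4613 : act 6 n2964 = n1440 := d10_2 D1437 D2964 (iv D1440) (iv D716) D714
def n2965 : Q := act 5 n1437
theorem D2965 : act 5 n1437 = n2965 := rfl
theorem F4615 : act 6 n2965 = n2957 := d20_2 D1437 D2965 (iv D2957) D2958 (iv F4611) (iv D2963) (iv D1436)
def n2966 : Q := act 6 n1438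
theorem D2966 : act 6 n1438 = n2966 := rfl
theorem F4617 : act 4 n2966 = n1439 := d19_1 D2966 (iv D1439) D1438
def n2967 : Q := act 1 n1439
theorem D2967 : act 1 n1439 = n2967 := rfl
theorem F4619 : act 3 n2967 = n1440 := d7_2 (iv F2361) D2967 (iv D1440)
def n2968 : Q := act 0 n1440
theorem D2968 : act 0 n1440 = n2968 := rfl
theorem F4620 : act 2 n2968 = n2939 := d1_2 (iv F2363) D2968 (iv D2939)
def n2969 : Q := act 5 n1440
theorem D2969 : act 5 n1440 = n2969 := rfl
theorem F4621 : act 1 n2969 = n1447 := d9_1 D2969 (iv D1447) (iv D720) (iv F1295) D1440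
theorem F4622 : act 2 n2969 = n2934 := d13_1 D2969 F4581 (iv F2363)
def n2970 : Q := act 0 n1441
theorem D2970 : act 0 n1441 = n2970 := rfl
def n2972 : Q := act 5 n1441
theorem D2972 : act 5 n1441 = n2972 := rfl
def n2973 : Q := act 6 n1441
theorem D2973 : act 6 n1441 = n2973 := rfl
def n2976 : Q := act 1 n1443
theorem D2976 : act 1 n1443 = n2976 := rfl
def n2977 : Q := act 1 n1444
theorem D2977 : act 1 n1444 = n2977 := rfl
theorem F4628 : act 4 n2977 = n1445 := d8_2 (iv F2367) D2977 (iv D1445)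
def n2978 : Q := act 0 n1445
theorem D2978 : act 0 n1445 = n2978 := rfl
theorem F4629 : act 3 n2978 = n1446 := d2_2 (iv F2368) D2978 (iv D1446)
def n2979 : Q := act 2 n1445
theorem D2979 : act 2 n1445 = n2979 := rfl
def n2980 : Q := act 5 n1445
theorem D2980 : act 5 n1445 = n2980 := rfl
theorem F4630 : act 3 n2980 = n1447 := d16_1 D2980 (iv D1447) (iv F2368)
def n2981 : Q := act 1 n1446
theorem D2981 : act 1 n1446 = n2981 := rfl
def n2982 : Q := act 5 n1446
theorem D2982 : act 5 n1446 = n2982 := rfl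
theorem F4631 : act 0 n2982 = n1447 := d4_1 D2982 (iv D1447) D1446
theorem F4633 : act 6 n2982 = n2893 := d22_1 D2982 (iv D2893) F2311 D1446
def n2983 : Q := act 6 n1447
theorem D2983 : act 6 n1447 = n2983 := rfl
theorem F4634 : act 0 n2983 = n2893 := d5_1 D2983 (iv F4633) F4631
theorem F4635 : act 2 n2983 = n2394 := d14_1 D2983 (iv D2394) (iv F2370)
theorem F4636 : act 5 n2983 = n2892 := d20_1 D2983 F4520 D2982 F4633 (iv D2893) F2311 D1447
def n2984 : Q := act 0 n1448
theorem D2984 : act 0 n1448 = n2984 := rfl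
theorem F4637 : act 3 n2984 = n2941 := d2_2 (iv F2371) D2984 (iv D2941)
def n2995 : Q := act 3 n1454
theorem D2995 : act 3 n1454 = n2995 := rfl
theorem F4657 : act 0 n2995 = n1455 := d2_1 D2995 (iv D1455) D1454
def n2999 : Q := act 2 n1455
theorem D2999 : act 2 n1455 = n2999 := rfl
theorem F4664 : act 1 n2999 = n2930 := d6_1 D2999 (iv D2930) F2342 (iv F1312) (iv F2389)
def n3001 : Q := act 5 n1455
theorem D3001 : act 5 n1455 = n3001 := rfl
def n3011 : Q := act 1 n1460
theorem D3011 : act 1 n1460 = n3011 := rfl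
def n3034 : Q := act 0 n1475
theorem D3034 : act 0 n1475 = n3034 := rfl
theorem F4729 : act 3 n3034 = n2970 := d2_2 (iv F2433) D3034 (iv D2970)
def n3043 : Q := act 1 n1480
theorem D3043 : act 1 n1480 = n3043 := rfl
def n3048 : Q := act 2 n1481
theorem D3048 : act 2 n1481 = n3048 := rfl
def n3050 : Q := act 5 n1481
theorem D3050 : act 5 n1481 = n3050 := rfl
theorem F4757 : act 1 n3050 = n3050 := d9_1 D3050 (iv D3050) F2449 F1349 (iv F2449)
def n3059 : Q := act 6 n1485
theorem D3059 : act 6 n1485 = n3059 := rfl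
theorem F4777 : act 2 n3059 = n2966 := d14_1 D3059 (iv D2966) (iv F2456)
theorem F4778 : act 4 n3059 = n1486 := d19_1 D3059 (iv D1486) D1485
def n3060 : Q := act 1 n1486
theorem D3060 : act 1 n1486 = n3060 := rfl
theorem F4780 : act 3 n3060 = n1489 := d7_2 (iv F2460) D3060 (iv D1489)
def n3064 : Q := act 0 n1489
theorem D3064 : act 0 n1489 = n3064 := rfl
theorem F4785 : act 2 n3064 = n2984 := d1_2 (iv F2465) D3064 (iv D2984)
def n3178 : Q := act 1 n1548
theorem D3178 : act 1 n1548 = n3178 := rfl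
theorem F4947 : act 2 n3178 = n1989 := d6_2 (iv F2562) D3178 (iv D1989) (iv D979) (iv F1407)
def n3193 : Q := act 5 n1553
theorem D3193 : act 5 n1553 = n3193 := rfl
theorem F4970 : act 3 n3193 = n1555 := d16_1 D3193 (iv D1555) D1553
def n3196 : Q := act 5 n1554
theorem D3196 : act 5 n1554 = n3196 := rfl
theorem F4973 : act 4 n3196 = n1555 := d18_1 D3196 (iv D1555) D1554
def n3198 : Q := act 1 n1555
theorem D3198 : act 1 n1555 = n3198 := rfl
theorem F4975 : act 5 n3198 = n1564 := d9_2 D1555 D3198 (iv D1564) (iv D781) D778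
def n3200 : Q := act 1 n1556
theorem D3200 : act 1 n1556 = n3200 := rfl
theorem F4977 : act 6 n3200 = n1565 := d10_2 D1556 D3200 (iv D1565) (iv D782) D778
def n3203 : Q := act 3 n1557
theorem D3203 : act 3 n1557 = n3203 := rfl
theorem F4980 : act 0 n3203 = n1566 := d2_1 D3203 (iv D1566) (iv F2576)
theorem F4981 : act 2 n3203 = n1566 := d21_2 D1557 D3203 (iv D1566) (iv D783) (iv D400) F411 D400 (iv F1418)
def n3204 : Q := act 4 n1557
theorem D3204 : act 4 n1557 = n3204 := rfl
theorem F4982 : act 0 n3204 = n1567 := d3_1 D3204 (iv D1567) (iv F2576)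
def n3207 : Q := act 3 n1558
theorem D3207 : act 3 n1558 = n3207 := rfl
theorem F4988 : act 0 n3207 = n1570 := d2_1 D3207 (iv D1570) (iv F2577)
theorem F4989 : act 4 n3207 = n1561 := d15_2 D1558 D3207 (iv D1561) (iv D780) D779
def n3208 : Q := act 5 n1558
theorem D3208 : act 5 n1558 = n3208 := rfl
theorem F4991 : act 4 n3208 = n1559 := d18_1 D3208 (iv D1559) D1558
def n3209 : Q := act 6 n1558
theorem D3209 : act 6 n1558 = n3209 := rfl
def n3210 : Q := act 1 n1559
theorem D3210 : act 1 n1559 = n3210 := rfl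
def n3212 : Q := act 2 n1561
theorem D3212 : act 2 n1561 = n3212 := rfl
theorem F4996 : act 0 n3212 = n1577 := d1_1 D3212 (iv D1577) (iv F2582)
def n3213 : Q := act 5 n1561
theorem D3213 : act 5 n1561 = n3213 := rfl
theorem F4998 : act 3 n3213 = n1562 := d16_1 D3213 (iv D1562) D1561
def n3214 : Q := act 6 n1561
theorem D3214 : act 6 n1561 = n3214 := rfl
def n3215 : Q := act 1 n1562
theorem D3215 : act 1 n1562 = n3215 := rfl
def n3217 : Q := act 0 n1564
theorem D3217 : act 0 n1564 = n3217 := rfl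
def n3219 : Q := act 6 n1564
theorem D3219 : act 6 n1564 = n3219 := rfl
def n3220 : Q := act 0 n1565
theorem D3220 : act 0 n1565 = n3220 := rfl
def n3222 : Q := act 5 n1565
theorem D3222 : act 5 n1565 = n3222 := rfl
def n3223 : Q := act 4 n1566
theorem D3223 : act 4 n1566 = n3223 := rfl
def n3224 : Q := act 5 n1566
theorem D3224 : act 5 n1566 = n3224 := rfl
theorem F5005 : act 3 n3224 = n1568 := d16_1 D3224 (iv D1568) D1566
def n3225 : Q := act 6 n1566
theorem D3225 : act 6 n1566 = n3225 := rfl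
def n3226 : Q := act 3 n1567
theorem D3226 : act 3 n1567 = n3226 := rfl
def n3227 : Q := act 5 n1567
theorem D3227 : act 5 n1567 = n3227 := rfl
theorem F5008 : act 4 n3227 = n1568 := d18_1 D3227 (iv D1568) D1567
def n3228 : Q := act 6 n1567
theorem D3228 : act 6 n1567 = n3228 := rfl
theorem F5009 : act 2 n3228 = n1572 := d14_1 D3228 (iv D1572) (iv F2589)
def n3229 : Q := act 1 n1568
theorem D3229 : act 1 n1568 = n3229 := rfl
def n3233 : Q := act 2 n1570
theorem D3233 : act 2 n1570 = n3233 := rfl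
theorem F5016 : act 4 n3233 = n1577 := d12_2 (iv F2593) D3233 (iv D1577)
def n3234 : Q := act 5 n1570
theorem D3234 : act 5 n1570 = n3234 := rfl
theorem F5018 : act 4 n3234 = n1578 := d18_1 D3234 (iv D1578) (iv F2593)
def n3235 : Q := act 6 n1570
theorem D3235 : act 6 n1570 = n3235 := rfl
theorem F5019 : act 3 n3235 = n1572 := d17_1 D3235 (iv D1572) D1570
def n3236 : Q := act 1 n1571
theorem D3236 : act 1 n1571 = n3236 := rfl
theorem F5021 : act 4 n3236 = n1573 := d8_2 (iv F2594) D3236 (iv D1573)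
def n3237 : Q := act 6 n1571
theorem D3237 : act 6 n1571 = n3237 := rfl
theorem F5024 : act 5 n3237 = n3209 := d22_2 D1571 D3237 (iv D3209) F2577
def n3238 : Q := act 1 n1572
theorem D3238 : act 1 n1572 = n3238 := rfl
theorem F5026 : act 6 n3238 = n1596 := d10_2 D1572 D3238 (iv D1596) (iv D796) (iv F1425)
def n3239 : Q := act 5 n1572
theorem D3239 : act 5 n1572 = n3239 := rfl
theorem F5029 : act 6 n3239 = n3208 := d20_2 D1572 D3239 (iv D3208) D3209 (iv F5024) (iv D3237) (iv D1571)
def n3240 : Q := act 0 n1573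
theorem D3240 : act 0 n1573 = n3240 := rfl
theorem F5030 : act 3 n3240 = n1584 := d2_2 (iv F2596) D3240 (iv D1584)
theorem F5031 : act 5 n3240 = n1597 := d4_2 (iv F2597) D3240 (iv D1597)
def n3241 : Q := act 2 n1573
theorem D3241 : act 2 n1573 = n3241 := rfl
theorem F5032 : act 5 n3241 = n1598 := d13_2 (iv F2597) D3241 (iv D1598)
def n3242 : Q := act 6 n1573
theorem D3242 : act 6 n1573 = n3242 := rfl
def n3244 : Q := act 0 n1575
theorem D3244 : act 0 n1575 = n3244 := rfl
theorem F5035 : act 3 n3244 = n1588 := d2_2 (iv F2600) D3244 (iv D1588)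
def n3248 : Q := act 1 n1577
theorem D3248 : act 1 n1577 = n3248 := rfl
theorem F5040 : act 2 n3248 = n1603 := d6_2 D1577 D3248 (iv D1603) (iv D799) (iv F1428)
def n3249 : Q := act 3 n1577
theorem D3249 : act 3 n1577 = n3249 := rfl
def n3250 : Q := act 5 n1577
theorem D3250 : act 5 n1577 = n3250 := rfl
theorem F5041 : act 2 n3250 = n1578 := d13_1 D3250 (iv D1578) D1577
def n3251 : Q := act 6 n1577
theorem D3251 : act 6 n1577 = n3251 := rfl
theorem F5042 : act 2 n3251 = n1579 := d14_1 D3251 (iv D1579) D1577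
def n3253 : Q := act 6 n1578
theorem D3253 : act 6 n1578 = n3253 := rfl
theorem F5046 : act 5 n3253 = n3214 := d22_2 D1578 D3253 (iv D3214) F2582
def n3254 : Q := act 1 n1579
theorem D3254 : act 1 n1579 = n3254 := rfl
theorem F5048 : act 6 n3254 = n1607 := d10_2 D1579 D3254 (iv D1607) (iv D801) (iv F1428)
def n3255 : Q := act 5 n1579
theorem D3255 : act 5 n1579 = n3255 := rfl
theorem F5051 : act 6 n3255 = n3213 := d20_2 D1579 D3255 (iv D3213) D3214 (iv F5046) (iv D3253) (iv D1578)
def n3256 : Q := act 0 n1580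
theorem D3256 : act 0 n1580 = n3256 := rfl
theorem F5053 : act 5 n3256 = n1608 := d4_2 (iv F2608) D3256 (iv D1608)
def n3257 : Q := act 2 n1580
theorem D3257 : act 2 n1580 = n3257 := rfl
def n3260 : Q := act 0 n1582
theorem D3260 : act 0 n1582 = n3260 := rfl
theorem F5059 : act 4 n3260 = n1588 := d3_2 (iv F2612) D3260 (iv D1588)
def n3264 : Q := act 1 n1584
theorem D3264 : act 1 n1584 = n3264 := rfl
theorem F5066 : act 2 n2026 = n3264 := d23_1 (iv F3240) (iv D3264) (iv D1584) F1433 D805 F1456 F807 F808 (iv D414) (iv D209) F207 (iv D51) D49 D110 D227 D445 F867 D512 D1010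
theorem F5067 : act 0 n3264 = n2027 := d1_1 F5066 (iv D2027) D2026
theorem F5068 : act 5 n3264 = n2057 := d13_2 (iv F3240) F5066 (iv D2057)
def n3265 : Q := act 2 n1584
theorem D3265 : act 2 n1584 = n3265 := rfl
theorem F5069 : act 0 n3265 = n1585 := d1_1 D3265 (iv D1585) D1584
theorem F5070 : act 1 n3265 = n2786 := d6_1 D3265 F4364 (iv F3399) F5066 (iv D3264)
theorem F5071 : act 5 n3265 = n1615 := d13_2 (iv F2618) D3265 (iv D1615)
def n3268 : Q := act 1 n1586
theorem D3268 : act 1 n1586 = n3268 := rfl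
theorem F5076 : act 6 n3268 = n1587 := d10_2 D1586 D3268 (iv D1587) (iv D791) D790
def n3269 : Q := act 0 n1587
theorem D3269 : act 0 n1587 = n3269 := rfl
def n3270 : Q := act 2 n1587
theorem D3270 : act 2 n1587 = n3270 := rfl
def n3271 : Q := act 5 n1587
theorem D3271 : act 5 n1587 = n3271 := rfl
theorem F5078 : act 1 n3271 = n3222 := d9_1 D3271 (iv D3222) (iv D1565) (iv F1435) D1587
def n3272 : Q := act 1 n1588
theorem D3272 : act 1 n1588 = n3272 := rfl
def n3276 : Q := act 1 n1590
theorem D3276 : act 1 n1590 = n3276 := rfl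
theorem F5084 : act 5 n3276 = n1591 := d9_2 D1590 D3276 (iv D1591) (iv D793) D792
def n3277 : Q := act 0 n1591
theorem D3277 : act 0 n1591 = n3277 := rfl
def n3279 : Q := act 6 n1591
theorem D3279 : act 6 n1591 = n3279 := rfl
theorem F5086 : act 1 n3279 = n3219 := d10_1 D3279 (iv D3219) (iv D1564) (iv F1439) D1591
def n3280 : Q := act 1 n1592
theorem D3280 : act 1 n1592 = n3280 := rfl
theorem F5087 : act 4 n3280 = n1603 := d8_2 (iv F2625) D3280 (iv D1603)
def n3281 : Q := act 3 n1592
theorem D3281 : act 3 n1592 = n3281 := rfl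
theorem F5088 : act 0 n3281 = n1843 := d2_1 D3281 (iv D1843) (iv F2624)
theorem F5089 : act 4 n3281 = n1843 := d15_2 (iv F2625) D3281 (iv D1843) F1621 (iv F1449)
def n3282 : Q := act 5 n1592
theorem D3282 : act 5 n1592 = n3282 := rfl
theorem F5090 : act 0 n3282 = n1844 := d4_1 D3282 (iv D1844) (iv F2624)
theorem F5091 : act 2 n3282 = n1593 := d13_1 D3282 (iv D1593) D1592
theorem F5092 : act 4 n3282 = n1604 := d18_1 D3282 (iv D1604) (iv F2625)
def n3283 : Q := act 6 n1592
theorem D3283 : act 6 n1592 = n3283 := rfl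
theorem F5093 : act 0 n3283 = n1845 := d5_1 D3283 (iv D1845) (iv F2624)
theorem F5094 : act 2 n3283 = n1594 := d14_1 D3283 (iv D1594) D1592
theorem F5095 : act 4 n3283 = n1605 := d19_1 D3283 (iv D1605) (iv F2625)
def n3284 : Q := act 1 n1593
theorem D3284 : act 1 n1593 = n3284 := rfl
theorem F5097 : act 4 n3284 = n1606 := d8_2 (iv F2628) D3284 (iv D1606)
def n3285 : Q := act 1 n1594
theorem D3285 : act 1 n1594 = n3285 := rfl
theorem F5099 : act 4 n3285 = n1607 := d8_2 (iv F2631) D3285 (iv D1607)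
def n3287 : Q := act 2 n1595
theorem D3287 : act 2 n1595 = n3287 := rfl
theorem F5101 : act 4 n3287 = n1598 := d12_2 (iv F2632) D3287 (iv D1598)
def n3288 : Q := act 6 n1595
theorem D3288 : act 6 n1595 = n3288 := rfl
theorem F5102 : act 4 n3288 = n1599 := d19_1 D3288 (iv D1599) (iv F2632)
def n3291 : Q := act 5 n1596
theorem D3291 : act 5 n1596 = n3291 := rfl
def n3293 : Q := act 2 n1597
theorem D3293 : act 2 n1597 = n3293 := rfl
def n3294 : Q := act 6 n1597
theorem D3294 : act 6 n1597 = n3294 := rfl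
theorem F5110 : act 5 n3294 = n3242 := d22_2 F5031 D3294 (iv D3242) D3240
def n3296 : Q := act 6 n1598
theorem D3296 : act 6 n1598 = n3296 := rfl
theorem F5111 : act 2 n3296 = n1599 := d14_1 D3296 (iv D1599) D1598
def n3297 : Q := act 5 n1599
theorem D3297 : act 5 n1599 = n3297 := rfl
theorem F5114 : act 6 n3297 = n3240 := d20_2 D1599 D3297 F5031 D3294 F5110 (iv D3242) F2597
def n3298 : Q := act 1 n1600
theorem D3298 : act 1 n1600 = n3298 := rfl
theorem F5115 : act 3 n3298 = n1620 := d7_2 (iv F2636) D3298 (iv D1620)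
def n3304 : Q := act 0 n1603
theorem D3304 : act 0 n1603 = n3304 := rfl
theorem F5124 : act 3 n3304 = n1878 := d2_2 (iv F2638) D3304 (iv D1878)
def n3305 : Q := act 5 n1603
theorem D3305 : act 5 n1603 = n3305 := rfl
theorem F5125 : act 3 n3305 = n1879 := d16_1 D3305 (iv D1879) (iv F2638)
def n3306 : Q := act 6 n1603
theorem D3306 : act 6 n1603 = n3306 := rfl
theorem F5126 : act 3 n3306 = n1880 := d17_1 D3306 (iv D1880) (iv F2638)
def n3307 : Q := act 1 n1604
theorem D3307 : act 1 n1604 = n3307 := rfl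
theorem F5127 : act 3 n3307 = n1881 := d7_2 (iv F2641) D3307 (iv D1881)
def n3308 : Q := act 1 n1605
theorem D3308 : act 1 n1605 = n3308 := rfl
theorem F5128 : act 3 n3308 = n1883 := d7_2 (iv F2644) D3308 (iv D1883)
def n3310 : Q := act 2 n1606
theorem D3310 : act 2 n1606 = n3310 := rfl
def n3313 : Q := act 2 n1607
theorem D3313 : act 2 n1607 = n3313 := rfl
def n3314 : Q := act 5 n1607
theorem D3314 : act 5 n1607 = n3314 := rfl
def n3316 : Q := act 2 n1608
theorem D3316 : act 2 n1608 = n3316 := rfl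
theorem F5134 : act 0 n3316 = n1609 := d1_1 D3316 (iv D1609) D1608
def n3321 : Q := act 1 n1611
theorem D3321 : act 1 n1611 = n3321 := rfl
theorem F5145 : act 4 n3321 = n1620 := d8_2 (iv F2651) D3321 (iv D1620)
def n3322 : Q := act 2 n1611
theorem D3322 : act 2 n1611 = n3322 := rfl
theorem F5146 : act 0 n3322 = n1612 := d1_1 D3322 (iv D1612) D1611
def n3327 : Q := act 0 n1614
theorem D3327 : act 0 n1614 = n3327 := rfl
theorem F5157 : act 1 n3327 = n1913 := d0_2 D1614 D3327 (iv D1913) (iv D941) (iv D475) (iv D239) (iv F415) D410 D804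
def n3328 : Q := act 2 n1614
theorem D3328 : act 2 n1614 = n3328 := rfl
def n3329 : Q := act 5 n1614
theorem D3329 : act 5 n1614 = n3329 := rfl
theorem F5158 : act 1 n3329 = n2057 := d9_1 D3329 (iv F5068) (iv D3264) F2618 D1614
def n3331 : Q := act 1 n1615
theorem D3331 : act 1 n1615 = n3331 := rfl
theorem F5159 : act 5 n3331 = n2784 := d9_2 F5071 D3331 (iv D2784) D2786 (iv F5070)
def n3339 : Q := act 1 n1619
theorem D3339 : act 1 n1619 = n3339 := rfl
def n3340 : Q := act 0 n1620
theorem D3340 : act 0 n1620 = n3340 := rfl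
theorem F5169 : act 1 n3340 = n1936 := d0_2 D1620 D3340 (iv D1936) (iv D951) (iv D479) (iv D241) (iv F417) D411 D807
def n3341 : Q := act 2 n1620
theorem D3341 : act 2 n1620 = n3341 := rfl
def n3342 : Q := act 5 n1620
theorem D3342 : act 5 n1620 = n3342 := rfl
def n3343 : Q := act 6 n1620
theorem D3343 : act 6 n1620 = n3343 := rfl
def n3344 : Q := act 1 n1621
theorem D3344 : act 1 n1621 = n3344 := rfl
def n3346 : Q := act 5 n1621
theorem D3346 : act 5 n1621 = n3346 := rfl
theorem F5171 : act 0 n3346 = n1624 := d4_1 D3346 (iv D1624) (iv F2662)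
theorem F5172 : act 2 n3346 = n1622 := d13_1 D3346 (iv D1622) D1621
def n3347 : Q := act 1 n1622
theorem D3347 : act 1 n1622 = n3347 := rfl
def n3352 : Q := act 1 n1625
theorem D3352 : act 1 n1625 = n3352 := rfl
def n3463 : Q := act 3 n1674
theorem D3463 : act 3 n1674 = n3463 := rfl
theorem F5330 : act 2 n3463 = n1843 := d21_2 D1674 D3463 (iv D1843) (iv D911) (iv D461) (iv F887) D906 F1611
def n3464 : Q := act 5 n1674
theorem D3464 : act 5 n1674 = n3464 := rfl
theorem F5331 : act 2 n3464 = n1675 := d13_1 D3464 (iv D1675) D1674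
def n3465 : Q := act 6 n1674
theorem D3465 : act 6 n1674 = n3465 := rfl
def n3473 : Q := act 1 n1678
theorem D3473 : act 1 n1678 = n3473 := rfl
def n3477 : Q := act 1 n1680
theorem D3477 : act 1 n1680 = n3477 := rfl
def n3486 : Q := act 2 n1684
theorem D3486 : act 2 n1684 = n3486 := rfl
theorem F5369 : act 1 n3486 = n1876 := d6_1 D3486 (iv D1876) (iv D925) (iv F1504) D1684
def n3496 : Q := act 2 n1688
theorem D3496 : act 2 n1688 = n3496 := rfl
theorem F5385 : act 1 n3496 = n1866 := d6_1 D3496 (iv D1866) (iv D921) (iv F1509) D1688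
def n3575 : Q := act 3 n1722
theorem D3575 : act 3 n1722 = n3575 := rfl
theorem F5473 : act 1 n3575 = n1737 := d7_1 D3575 (iv D1737) (iv F2797)
def n3614 : Q := act 5 n1744
theorem D3614 : act 5 n1744 = n3614 := rfl
theorem F5547 : act 2 n3614 = n1751 := d13_1 D3614 (iv D1751) (iv F2839)
theorem F5548 : act 4 n3614 = n1745 := d18_1 D3614 (iv D1745) D1744
def n3616 : Q := act 1 n1745
theorem D3616 : act 1 n1745 = n3616 := rfl
theorem F5551 : act 5 n3616 = n2007 := d9_2 D1745 D3616 (iv D2007) (iv D988) (iv F1555)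
def n3620 : Q := act 3 n1747
theorem D3620 : act 3 n1747 = n3620 := rfl
theorem F5558 : act 1 n3620 = n1757 := d7_1 D3620 (iv D1757) (iv F2842)
theorem F5559 : act 4 n3620 = n1750 := d15_2 D1747 D3620 (iv D1750) (iv D869) D868
def n3621 : Q := act 5 n1747
theorem D3621 : act 5 n1747 = n3621 := rfl
theorem F5561 : act 4 n3621 = n1748 := d18_1 D3621 (iv D1748) D1747
def n3622 : Q := act 6 n1747
theorem D3622 : act 6 n1747 = n3622 := rfl
theorem F5563 : act 4 n3622 = n1749 := d19_1 D3622 (iv D1749) D1747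
def n3623 : Q := act 1 n1748
theorem D3623 : act 1 n1748 = n3623 := rfl
theorem F5564 : act 3 n3623 = n1753 := d7_2 (iv F2845) D3623 (iv D1753)
theorem F5565 : act 5 n3623 = n1760 := d9_2 D1748 D3623 (iv D1760) (iv D873) (iv F1556)
def n3625 : Q := act 1 n1749
theorem D3625 : act 1 n1749 = n3625 := rfl
theorem F5570 : act 6 n3625 = n1761 := d10_2 D1749 D3625 (iv D1761) (iv D874) (iv F1556)
def n3627 : Q := act 2 n1750
theorem D3627 : act 2 n1750 = n3627 := rfl
def n3628 : Q := act 5 n1750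
theorem D3628 : act 5 n1750 = n3628 := rfl
theorem F5575 : act 3 n3628 = n1751 := d16_1 D3628 (iv D1751) D1750
def n3629 : Q := act 6 n1750
theorem D3629 : act 6 n1750 = n3629 := rfl
theorem F5576 : act 3 n3629 = n1752 := d17_1 D3629 (iv D1752) D1750
def n3630 : Q := act 1 n1751
theorem D3630 : act 1 n1751 = n3630 := rfl
theorem F5577 : act 4 n3630 = n1753 := d8_2 (iv F2849) D3630 (iv D1753)
theorem F5578 : act 5 n3630 = n1765 := d9_2 D1751 D3630 (iv D1765) (iv D876) (iv F1558)
def n3632 : Q := act 1 n1752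
theorem D3632 : act 1 n1752 = n3632 := rfl
theorem F5582 : act 6 n3632 = n1766 := d10_2 D1752 D3632 (iv D1766) (iv D877) (iv F1558)
def n3634 : Q := act 6 n1753
theorem D3634 : act 6 n1753 = n3634 := rfl
def n3639 : Q := act 1 n1756
theorem D3639 : act 1 n1756 = n3639 := rfl
def n3640 : Q := act 2 n1757
theorem D3640 : act 2 n1757 = n3640 := rfl
theorem F5588 : act 0 n3640 = n1773 := d1_1 D3640 (iv D1773) (iv F2856)
theorem F5589 : act 4 n3640 = n1762 := d12_2 (iv F2857) D3640 (iv D1762)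
def n3641 : Q := act 5 n1757
theorem D3641 : act 5 n1757 = n3641 := rfl
theorem F5590 : act 0 n3641 = n1774 := d4_1 D3641 (iv D1774) (iv F2856)
theorem F5591 : act 3 n3641 = n1758 := d16_1 D3641 (iv D1758) D1757
theorem F5592 : act 4 n3641 = n1763 := d18_1 D3641 (iv D1763) (iv F2857)
def n3642 : Q := act 6 n1757
theorem D3642 : act 6 n1757 = n3642 := rfl
theorem F5593 : act 0 n3642 = n1775 := d5_1 D3642 (iv D1775) (iv F2856)
theorem F5594 : act 3 n3642 = n1759 := d17_1 D3642 (iv D1759) D1757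
theorem F5595 : act 4 n3642 = n1764 := d19_1 D3642 (iv D1764) (iv F2857)
def n3643 : Q := act 1 n1758
theorem D3643 : act 1 n1758 = n3643 := rfl
theorem F5596 : act 4 n3643 = n1760 := d8_2 (iv F2860) D3643 (iv D1760)
def n3644 : Q := act 1 n1759
theorem D3644 : act 1 n1759 = n3644 := rfl
theorem F5597 : act 4 n3644 = n1761 := d8_2 (iv F2863) D3644 (iv D1761)
def n3645 : Q := act 0 n1760
theorem D3645 : act 0 n1760 = n3645 := rfl
theorem F5598 : act 3 n3645 = n1767 := d2_2 (iv F2864) D3645 (iv D1767)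
def n3646 : Q := act 2 n1760
theorem D3646 : act 2 n1760 = n3646 := rfl
theorem F5599 : act 1 n3646 = n1781 := d6_1 D3646 (iv D1781) (iv D883) (iv F1562) D1760
def n3647 : Q := act 6 n1760
theorem D3647 : act 6 n1760 = n3647 := rfl
def n3648 : Q := act 0 n1761
theorem D3648 : act 0 n1761 = n3648 := rfl
theorem F5601 : act 3 n3648 = n1770 := d2_2 (iv F2865) D3648 (iv D1770)
def n3649 : Q := act 2 n1761
theorem D3649 : act 2 n1761 = n3649 := rfl
theorem F5602 : act 1 n3649 = n1785 := d6_1 D3649 (iv D1785) (iv D885) (iv F1565) D1761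
def n3650 : Q := act 5 n1761
theorem D3650 : act 5 n1761 = n3650 := rfl
theorem F5603 : act 3 n3650 = n1772 := d16_1 D3650 (iv D1772) (iv F2865)
def n3651 : Q := act 1 n1762
theorem D3651 : act 1 n1762 = n3651 := rfl
def n3652 : Q := act 5 n1762
theorem D3652 : act 5 n1762 = n3652 := rfl
theorem F5604 : act 0 n3652 = n1790 := d4_1 D3652 (iv D1790) (iv F2866)
theorem F5605 : act 2 n3652 = n1763 := d13_1 D3652 (iv D1763) D1762
def n3653 : Q := act 6 n1762
theorem D3653 : act 6 n1762 = n3653 := rfl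
theorem F5606 : act 0 n3653 = n1791 := d5_1 D3653 (iv D1791) (iv F2866)
theorem F5607 : act 2 n3653 = n1764 := d14_1 D3653 (iv D1764) D1762
def n3654 : Q := act 1 n1763
theorem D3654 : act 1 n1763 = n3654 := rfl
theorem F5608 : act 3 n3654 = n1765 := d7_2 (iv F2868) D3654 (iv D1765)
def n3655 : Q := act 1 n1764
theorem D3655 : act 1 n1764 = n3655 := rfl
theorem F5609 : act 3 n3655 = n1766 := d7_2 (iv F2870) D3655 (iv D1766)
def n3656 : Q := act 0 n1765
theorem D3656 : act 0 n1765 = n3656 := rfl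
theorem F5610 : act 4 n3656 = n1767 := d3_2 (iv F2871) D3656 (iv D1767)
theorem F5611 : act 2 n3630 = n3656 := d12_3 F5610 (iv F2876) (iv F5577)
def n3657 : Q := act 2 n1765
theorem D3657 : act 2 n1765 = n3657 := rfl
theorem F5612 : act 0 n3657 = n3630 := d1_1 D3657 F5611 (iv D3656)
theorem F5613 : act 1 n3657 = n2051 := d6_1 D3657 (iv D2051) (iv D1008) (iv F1569) D1765
theorem F5615 : act 5 n3657 = n3656 := d13_2 F5578 D3657 (iv F5611)
def n3658 : Q := act 6 n1765
theorem D3658 : act 6 n1765 = n3658 := rfl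
def n3659 : Q := act 0 n1766
theorem D3659 : act 0 n1766 = n3659 := rfl
theorem F5617 : act 4 n3659 = n1770 := d3_2 (iv F2872) D3659 (iv D1770)
def n3660 : Q := act 2 n1766
theorem D3660 : act 2 n1766 = n3660 := rfl
theorem F5619 : act 4 n3660 = n1771 := d12_2 (iv F2872) D3660 (iv D1771)
def n3661 : Q := act 5 n1766
theorem D3661 : act 5 n1766 = n3661 := rfl
theorem F5620 : act 4 n3661 = n1772 := d18_1 D3661 (iv D1772) (iv F2872)
def n3662 : Q := act 1 n1767
theorem D3662 : act 1 n1767 = n3662 := rfl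
theorem F5621 : act 2 n3662 = n3616 := d6_2 F2876 D3662 (iv D3616) F2840 D1753
def n3663 : Q := act 6 n1767
theorem D3663 : act 6 n1767 = n3663 := rfl
theorem F5624 : act 5 n3663 = n3634 := d22_2 (iv F2874) D3663 (iv D3634) (iv F2875)
def n3664 : Q := act 3 n1768
theorem D3664 : act 3 n1768 = n3664 := rfl
theorem F5625 : act 0 n3664 = n3623 := d2_1 D3664 F5564 (iv F2875)
theorem F5626 : act 1 n3664 = n2059 := d7_1 D3664 (iv D2059) (iv F2873)
theorem F5627 : act 5 n3664 = n3645 := d16_2 F2874 D3664 F5598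
def n3665 : Q := act 6 n1768
theorem D3665 : act 6 n1768 = n3665 := rfl
theorem F5630 : act 5 n3665 = n1769 := d20_1 D3665 (iv D1769) (iv F2851) D3634 (iv F5624) (iv D3663) F2874
def n3666 : Q := act 1 n1770
theorem D3666 : act 1 n1770 = n3666 := rfl
def n3667 : Q := act 2 n1770
theorem D3667 : act 2 n1770 = n3667 := rfl
theorem F5631 : act 0 n3667 = n1771 := d1_1 D3667 (iv D1771) D1770
def n3668 : Q := act 5 n1770
theorem D3668 : act 5 n1770 = n3668 := rfl
theorem F5632 : act 0 n3668 = n1772 := d4_1 D3668 (iv D1772) D1770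
def n3670 : Q := act 5 n1771
theorem D3670 : act 5 n1771 = n3670 := rfl
def n3671 : Q := act 6 n1772
theorem D3671 : act 6 n1772 = n3671 := rfl
def n3672 : Q := act 1 n1773
theorem D3672 : act 1 n1773 = n3672 := rfl
theorem F5638 : act 2 n3672 = n1842 := d6_2 D1773 D3672 (iv D1842) (iv D911) (iv F1574)
theorem F5639 : act 4 n3672 = n1788 := d8_2 (iv F2878) D3672 (iv D1788)
def n3673 : Q := act 3 n1773
theorem D3673 : act 3 n1773 = n3673 := rfl
theorem F5640 : act 2 n3673 = n3673 := d21_2 D1773 D3673 (iv D3673) (iv D1773) (iv D880) (iv F1560) D1757 F2856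
def n3674 : Q := act 5 n1773
theorem D3674 : act 5 n1773 = n3674 := rfl
theorem F5641 : act 2 n3674 = n1774 := d13_1 D3674 (iv D1774) D1773
theorem F5642 : act 4 n3674 = n1790 := d18_1 D3674 (iv D1790) (iv F2878)
def n3675 : Q := act 6 n1773
theorem D3675 : act 6 n1773 = n3675 := rfl
theorem F5643 : act 2 n3675 = n1775 := d14_1 D3675 (iv D1775) D1773
theorem F5644 : act 4 n3675 = n1791 := d19_1 D3675 (iv D1791) (iv F2878)
def n3676 : Q := act 1 n1774
theorem D3676 : act 1 n1774 = n3676 := rfl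
theorem F5645 : act 3 n3676 = n1776 := d7_2 (iv F2879) D3676 (iv D1776)
theorem F5646 : act 4 n3676 = n1792 := d8_2 (iv F2880) D3676 (iv D1792)
theorem F5647 : act 5 n3676 = n1846 := d9_2 D1774 D3676 (iv D1846) (iv D912) (iv F1574)
def n3677 : Q := act 6 n1774
theorem D3677 : act 6 n1774 = n3677 := rfl
theorem F5648 : act 3 n3677 = n1777 := d17_1 D3677 (iv D1777) (iv F2879)
theorem F5649 : act 4 n3677 = n1793 := d19_1 D3677 (iv D1793) (iv F2880)
theorem F5650 : act 5 n3677 = n3642 := d22_2 D1774 D3677 (iv D3642) F2856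
def n3678 : Q := act 1 n1775
theorem D3678 : act 1 n1775 = n3678 := rfl
theorem F5651 : act 3 n3678 = n1778 := d7_2 (iv F2881) D3678 (iv D1778)
theorem F5652 : act 4 n3678 = n1794 := d8_2 (iv F2882) D3678 (iv D1794)
theorem F5653 : act 6 n3678 = n1848 := d10_2 D1775 D3678 (iv D1848) (iv D913) (iv F1574)
def n3679 : Q := act 5 n1775
theorem D3679 : act 5 n1775 = n3679 := rfl
theorem F5654 : act 0 n3679 = n3677 := d4_1 D3679 F5650 F5593
theorem F5655 : act 3 n3679 = n1779 := d16_1 D3679 (iv D1779) (iv F2881)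
theorem F5656 : act 4 n3679 = n1795 := d18_1 D3679 (iv D1795) (iv F2882)
theorem F5657 : act 6 n3679 = n3641 := d20_2 D1775 D3679 (iv D3641) D3642 (iv F5650) (iv D3677) (iv D1774)
def n3680 : Q := act 0 n1776
theorem D3680 : act 0 n1776 = n3680 := rfl
theorem F5658 : act 4 n3680 = n1780 := d3_2 (iv F2883) D3680 (iv D1780)
theorem F5659 : act 5 n3680 = n1850 := d4_2 (iv F2884) D3680 (iv D1850)
def n3681 : Q := act 2 n1776
theorem D3681 : act 2 n1776 = n3681 := rfl
theorem F5660 : act 4 n3681 = n1781 := d12_2 (iv F2883) D3681 (iv D1781)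
theorem F5661 : act 5 n3681 = n1851 := d13_2 (iv F2884) D3681 (iv D1851)
def n3682 : Q := act 6 n1776
theorem D3682 : act 6 n1776 = n3682 := rfl
theorem F5662 : act 4 n3682 = n1782 := d19_1 D3682 (iv D1782) (iv F2883)
def n3683 : Q := act 1 n1777
theorem D3683 : act 1 n1777 = n3683 := rfl
theorem F5663 : act 4 n3683 = n1783 := d8_2 (iv F2885) D3683 (iv D1783)
def n3684 : Q := act 0 n1778
theorem D3684 : act 0 n1778 = n3684 := rfl
theorem F5664 : act 4 n3684 = n1784 := d3_2 (iv F2887) D3684 (iv D1784)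
theorem F5665 : act 6 n3684 = n1854 := d5_2 (iv F2888) D3684 (iv D1854)
def n3685 : Q := act 2 n1778
theorem D3685 : act 2 n1778 = n3685 := rfl
theorem F5666 : act 4 n3685 = n1785 := d12_2 (iv F2887) D3685 (iv D1785)
theorem F5667 : act 6 n3685 = n1855 := d14_2 (iv F2888) D3685 (iv D1855)
def n3686 : Q := act 5 n1778
theorem D3686 : act 5 n1778 = n3686 := rfl
theorem F5668 : act 4 n3686 = n1786 := d18_1 D3686 (iv D1786) (iv F2887)
def n3687 : Q := act 1 n1779
theorem D3687 : act 1 n1779 = n3687 := rfl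
theorem F5669 : act 4 n3687 = n1787 := d8_2 (iv F2891) D3687 (iv D1787)
def n3689 : Q := act 2 n1780
theorem D3689 : act 2 n1780 = n3689 := rfl
theorem F5671 : act 0 n3689 = n1781 := d1_1 D3689 (iv D1781) D1780
theorem F5672 : act 5 n3689 = n1859 := d13_2 (iv F2894) D3689 (iv D1859)
def n3690 : Q := act 3 n1781
theorem D3690 : act 3 n1781 = n3690 := rfl
def n3691 : Q := act 6 n1781
theorem D3691 : act 6 n1781 = n3691 := rfl
theorem F5674 : act 2 n3691 = n1782 := d14_1 D3691 (iv D1782) D1781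
def n3692 : Q := act 1 n1782
theorem D3692 : act 1 n1782 = n3692 := rfl
theorem F5675 : act 3 n3692 = n1808 := d7_2 (iv F2896) D3692 (iv D1808)
theorem F5676 : act 6 n3692 = n1783 := d10_2 D1782 D3692 (iv D1783) (iv D884) D883
def n3693 : Q := act 0 n1783
theorem D3693 : act 0 n1783 = n3693 := rfl
def n3694 : Q := act 2 n1783
theorem D3694 : act 2 n1783 = n3694 := rfl
def n3695 : Q := act 5 n1783
theorem D3695 : act 5 n1783 = n3695 := rfl
def n3696 : Q := act 1 n1784
theorem D3696 : act 1 n1784 = n3696 := rfl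
theorem F5680 : act 3 n3696 = n1812 := d7_2 (iv F2898) D3696 (iv D1812)
def n3697 : Q := act 2 n1784
theorem D3697 : act 2 n1784 = n3697 := rfl
theorem F5682 : act 6 n3697 = n1869 := d14_2 (iv F2899) D3697 (iv D1869)
def n3698 : Q := act 3 n1785
theorem D3698 : act 3 n1785 = n3698 := rfl
def n3699 : Q := act 5 n1785
theorem D3699 : act 5 n1785 = n3699 := rfl
theorem F5684 : act 2 n3699 = n1786 := d13_1 D3699 (iv D1786) D1785
def n3700 : Q := act 1 n1786
theorem D3700 : act 1 n1786 = n3700 := rfl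
theorem F5686 : act 5 n3700 = n1787 := d9_2 D1786 D3700 (iv D1787) (iv D886) D885
def n3701 : Q := act 0 n1787
theorem D3701 : act 0 n1787 = n3701 := rfl
def n3702 : Q := act 2 n1787
theorem D3702 : act 2 n1787 = n3702 := rfl
def n3703 : Q := act 6 n1787
theorem D3703 : act 6 n1787 = n3703 := rfl
theorem F5689 : act 1 n3703 = n3647 := d10_1 D3703 (iv D3647) (iv D1760) (iv F1587) D1787
def n3704 : Q := act 0 n1788
theorem D3704 : act 0 n1788 = n3704 := rfl
theorem F5691 : act 2 n3704 = n1878 := d1_2 (iv F2903) D3704 (iv D1878)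
def n3705 : Q := act 3 n1788
theorem D3705 : act 3 n1788 = n3705 := rfl
theorem F5692 : act 1 n3705 = n1789 := d7_1 D3705 (iv D1789) D1788
def n3706 : Q := act 5 n1788
theorem D3706 : act 5 n1788 = n3706 := rfl
theorem F5693 : act 2 n3706 = n1879 := d13_1 D3706 (iv D1879) (iv F2903)
def n3707 : Q := act 6 n1788
theorem D3707 : act 6 n1788 = n3707 := rfl
theorem F5694 : act 2 n3707 = n1880 := d14_1 D3707 (iv D1880) (iv F2903)
def n3708 : Q := act 4 n1789
theorem D3708 : act 4 n1789 = n3708 := rfl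
def n3709 : Q := act 5 n1789
theorem D3709 : act 5 n1789 = n3709 := rfl
theorem F5695 : act 3 n3709 = n1790 := d16_1 D3709 (iv D1790) D1789
def n3710 : Q := act 6 n1789
theorem D3710 : act 6 n1789 = n3710 := rfl
theorem F5696 : act 3 n3710 = n1791 := d17_1 D3710 (iv D1791) D1789
def n3711 : Q := act 1 n1790
theorem D3711 : act 1 n1790 = n3711 := rfl
def n3712 : Q := act 6 n1790
theorem D3712 : act 6 n1790 = n3712 := rfl
theorem F5697 : act 2 n3712 = n1793 := d14_1 D3712 (iv D1793) (iv F2904)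
theorem F5698 : act 5 n3712 = n3653 := d22_2 D1790 D3712 (iv D3653) F2866
def n3713 : Q := act 1 n1791
theorem D3713 : act 1 n1791 = n3713 := rfl
def n3714 : Q := act 5 n1791
theorem D3714 : act 5 n1791 = n3714 := rfl
theorem F5699 : act 0 n3714 = n3712 := d4_1 D3714 F5698 F5606
theorem F5700 : act 2 n3714 = n1795 := d13_1 D3714 (iv D1795) (iv F2905)
theorem F5701 : act 6 n3714 = n3652 := d20_2 D1791 D3714 (iv D3652) D3653 (iv F5698) (iv D3712) (iv D1790)
def n3715 : Q := act 0 n1792
theorem D3715 : act 0 n1792 = n3715 := rfl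
theorem F5702 : act 3 n3715 = n1796 := d2_2 (iv F2906) D3715 (iv D1796)
theorem F5703 : act 5 n3715 = n1885 := d4_2 (iv F2907) D3715 (iv D1885)
def n3716 : Q := act 2 n1792
theorem D3716 : act 2 n1792 = n3716 := rfl
theorem F5704 : act 5 n3716 = n1886 := d13_2 (iv F2907) D3716 (iv D1886)
def n3717 : Q := act 6 n1792
theorem D3717 : act 6 n1792 = n3717 := rfl
theorem F5705 : act 3 n3717 = n1798 := d17_1 D3717 (iv D1798) (iv F2906)
def n3718 : Q := act 1 n1793
theorem D3718 : act 1 n1793 = n3718 := rfl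
theorem F5706 : act 3 n3718 = n1799 := d7_2 (iv F2908) D3718 (iv D1799)
def n3719 : Q := act 0 n1794
theorem D3719 : act 0 n1794 = n3719 := rfl
theorem F5707 : act 3 n3719 = n1800 := d2_2 (iv F2910) D3719 (iv D1800)
theorem F5708 : act 6 n3719 = n1889 := d5_2 (iv F2911) D3719 (iv D1889)
def n3720 : Q := act 2 n1794
theorem D3720 : act 2 n1794 = n3720 := rfl
theorem F5709 : act 6 n3720 = n1890 := d14_2 (iv F2911) D3720 (iv D1890)
def n3721 : Q := act 5 n1794
theorem D3721 : act 5 n1794 = n3721 := rfl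
theorem F5710 : act 3 n3721 = n1802 := d16_1 D3721 (iv D1802) (iv F2910)
def n3722 : Q := act 1 n1795
theorem D3722 : act 1 n1795 = n3722 := rfl
theorem F5711 : act 3 n3722 = n1803 := d7_2 (iv F2913) D3722 (iv D1803)
def n3723 : Q := act 1 n1796
theorem D3723 : act 1 n1796 = n3723 := rfl
def n3724 : Q := act 2 n1796
theorem D3724 : act 2 n1796 = n3724 := rfl
theorem F5713 : act 0 n3724 = n1797 := d1_1 D3724 (iv D1797) D1796
theorem F5714 : act 4 n3724 = n1805 := d12_2 (iv F2915) D3724 (iv D1805)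
theorem F5715 : act 5 n3724 = n1894 := d13_2 (iv F2916) D3724 (iv D1894)
def n3725 : Q := act 3 n1797
theorem D3725 : act 3 n1797 = n3725 := rfl
theorem F5716 : act 1 n3725 = n2122 := d7_1 D3725 (iv D2122) (iv F2917)
theorem F5717 : act 5 n3725 = n1896 := d16_2 (iv F2919) D3725 (iv D1896)
def n3726 : Q := act 6 n1797
theorem D3726 : act 6 n1797 = n3726 := rfl
theorem F5718 : act 2 n3726 = n1798 := d14_1 D3726 (iv D1798) D1797
theorem F5719 : act 4 n3726 = n1807 := d19_1 D3726 (iv D1807) (iv F2918)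
def n3727 : Q := act 1 n1798
theorem D3727 : act 1 n1798 = n3727 := rfl
theorem F5720 : act 4 n3727 = n1808 := d8_2 (iv F2920) D3727 (iv D1808)
theorem F5721 : act 6 n3727 = n1799 := d10_2 D1798 D3727 (iv D1799) (iv D891) D890
def n3728 : Q := act 0 n1799
theorem D3728 : act 0 n1799 = n3728 := rfl
def n3729 : Q := act 2 n1799
theorem D3729 : act 2 n1799 = n3729 := rfl
theorem F5723 : act 1 n3729 = n2126 := d6_1 D3729 (iv D2126) (iv D1042) (iv F1592) D1799
theorem F5724 : act 4 n3729 = n1810 := d12_2 (iv F2921) D3729 (iv D1810)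
def n3730 : Q := act 5 n1799
theorem D3730 : act 5 n1799 = n3730 := rfl
def n3731 : Q := act 1 n1800
theorem D3731 : act 1 n1800 = n3731 := rfl
theorem F5727 : act 4 n3731 = n1812 := d8_2 (iv F2922) D3731 (iv D1812)
def n3732 : Q := act 2 n1800
theorem D3732 : act 2 n1800 = n3732 := rfl
theorem F5728 : act 0 n3732 = n1801 := d1_1 D3732 (iv D1801) D1800
theorem F5729 : act 4 n3732 = n1813 := d12_2 (iv F2922) D3732 (iv D1813)
theorem F5730 : act 6 n3732 = n1904 := d14_2 (iv F2923) D3732 (iv D1904)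
def n3733 : Q := act 3 n1801
theorem D3733 : act 3 n1801 = n3733 := rfl
theorem F5731 : act 1 n3733 = n2130 := d7_1 D3733 (iv D2130) (iv F2924)
theorem F5732 : act 6 n3733 = n1906 := d17_2 (iv F2926) D3733 (iv D1906)
def n3734 : Q := act 5 n1801
theorem D3734 : act 5 n1801 = n3734 := rfl
theorem F5733 : act 2 n3734 = n1802 := d13_1 D3734 (iv D1802) D1801
theorem F5734 : act 4 n3734 = n1815 := d18_1 D3734 (iv D1815) (iv F2925)
def n3735 : Q := act 1 n1802
theorem D3735 : act 1 n1802 = n3735 := rfl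
theorem F5736 : act 5 n3735 = n1803 := d9_2 D1802 D3735 (iv D1803) (iv D893) D892
def n3736 : Q := act 0 n1803
theorem D3736 : act 0 n1803 = n3736 := rfl
def n3737 : Q := act 2 n1803
theorem D3737 : act 2 n1803 = n3737 := rfl
theorem F5738 : act 1 n3737 = n2134 := d6_1 D3737 (iv D2134) (iv D1046) (iv F1598) D1803
theorem F5739 : act 4 n3737 = n1818 := d12_2 (iv F2928) D3737 (iv D1818)
def n3738 : Q := act 6 n1803
theorem D3738 : act 6 n1803 = n3738 := rfl
theorem F5740 : act 1 n3738 = n3658 := d10_1 D3738 (iv D3658) (iv D1765) (iv F1600) D1803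
def n3739 : Q := act 0 n1804
theorem D3739 : act 0 n1804 = n3739 := rfl
def n3740 : Q := act 2 n1804
theorem D3740 : act 2 n1804 = n3740 := rfl
def n3741 : Q := act 5 n1804
theorem D3741 : act 5 n1804 = n3741 := rfl
theorem F5742 : act 1 n3741 = n1915 := d9_1 D3741 (iv D1915) (iv D941) (iv F1601) D1804
def n3742 : Q := act 6 n1804
theorem D3742 : act 6 n1804 = n3742 := rfl
def n3743 : Q := act 1 n1805
theorem D3743 : act 1 n1805 = n3743 := rfl
theorem F5743 : act 0 n3743 = n3743 := d0_1 D3743 (iv D3743) F2929 F1602 (iv F1825) F1827 F1825 (iv F1602) (iv F2929)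
def n3744 : Q := act 3 n1805
theorem D3744 : act 3 n1805 = n3744 := rfl
theorem F5744 : act 0 n3744 = n1806 := d2_1 D3744 (iv D1806) (iv F2929)
theorem F5745 : act 5 n3744 = n1918 := d16_2 (iv F2930) D3744 (iv D1918)
def n3745 : Q := act 2 n1806
theorem D3745 : act 2 n1806 = n3745 := rfl
def n3746 : Q := act 4 n1806
theorem D3746 : act 4 n1806 = n3746 := rfl
theorem F5747 : act 1 n3746 = n2140 := d8_1 D3746 (iv D2140) (iv F2931)
theorem F5748 : act 5 n3746 = n1922 := d18_2 (iv F2932) D3746 (iv D1922)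
def n3747 : Q := act 6 n1806
theorem D3747 : act 6 n1806 = n3747 := rfl
theorem F5749 : act 3 n3747 = n1807 := d17_1 D3747 (iv D1807) D1806
def n3748 : Q := act 1 n1807
theorem D3748 : act 1 n1807 = n3748 := rfl
theorem F5750 : act 6 n3748 = n2142 := d10_2 D1807 D3748 (iv D2142) (iv D1050) (iv F1602)
def n3749 : Q := act 0 n1808
theorem D3749 : act 0 n1808 = n3749 := rfl
theorem F5751 : act 6 n3749 = n1809 := d5_2 (iv F2934) D3749 (iv D1809)
def n3750 : Q := act 2 n1808
theorem D3750 : act 2 n1808 = n3750 := rfl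
theorem F5752 : act 6 n3750 = n1810 := d14_2 (iv F2934) D3750 (iv D1810)
def n3751 : Q := act 5 n1808
theorem D3751 : act 5 n1808 = n3751 := rfl
def n3752 : Q := act 1 n1809
theorem D3752 : act 1 n1809 = n3752 := rfl
def n3753 : Q := act 2 n1809
theorem D3753 : act 2 n1809 = n3753 := rfl
theorem F5753 : act 0 n3753 = n1810 := d1_1 D3753 (iv D1810) D1809
def n3754 : Q := act 5 n1809
theorem D3754 : act 5 n1809 = n3754 := rfl
theorem F5755 : act 6 n3754 = n3751 := d22_1 D3754 (iv D3751) F2934 D1809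
def n3755 : Q := act 3 n1810
theorem D3755 : act 3 n1810 = n3755 := rfl
theorem F5756 : act 1 n3755 = n2148 := d7_1 D3755 (iv D2148) (iv F2935)
def n3756 : Q := act 5 n1810
theorem D3756 : act 5 n1810 = n3756 := rfl
theorem F5757 : act 2 n3756 = n1811 := d13_1 D3756 (iv D1811) D1810
def n3757 : Q := act 6 n1811
theorem D3757 : act 6 n1811 = n3757 := rfl
theorem F5759 : act 5 n3757 = n3749 := d20_1 D3757 F5751 D3754 F5755 (iv D3751) F2934 D1811
def n3758 : Q := act 0 n1812
theorem D3758 : act 0 n1812 = n3758 := rfl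
def n3759 : Q := act 2 n1812
theorem D3759 : act 2 n1812 = n3759 := rfl
def n3760 : Q := act 5 n1812
theorem D3760 : act 5 n1812 = n3760 := rfl
def n3761 : Q := act 6 n1812
theorem D3761 : act 6 n1812 = n3761 := rfl
theorem F5760 : act 1 n3761 = n1939 := d10_1 D3761 (iv D1939) (iv D951) (iv F1604) D1812
def n3762 : Q := act 1 n1813
theorem D3762 : act 1 n1813 = n3762 := rfl
def n3763 : Q := act 3 n1813
theorem D3763 : act 3 n1813 = n3763 := rfl
theorem F5761 : act 0 n3763 = n1814 := d2_1 D3763 (iv D1814) (iv F2937)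
theorem F5762 : act 6 n3763 = n1941 := d17_2 (iv F2938) D3763 (iv D1941)
def n3764 : Q := act 2 n1814
theorem D3764 : act 2 n1814 = n3764 := rfl
def n3765 : Q := act 4 n1814
theorem D3765 : act 4 n1814 = n3765 := rfl
theorem F5764 : act 1 n3765 = n2158 := d8_1 D3765 (iv D2158) (iv F2939)
theorem F5765 : act 6 n3765 = n1945 := d19_2 (iv F2940) D3765 (iv D1945)
def n3766 : Q := act 5 n1814
theorem D3766 : act 5 n1814 = n3766 := rfl
theorem F5766 : act 3 n3766 = n1815 := d16_1 D3766 (iv D1815) D1814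
def n3767 : Q := act 1 n1815
theorem D3767 : act 1 n1815 = n3767 := rfl
theorem F5767 : act 5 n3767 = n2160 := d9_2 D1815 D3767 (iv D2160) (iv D1058) (iv F1605)
theorem F5768 : act 6 n3767 = n2817 := d10_2 F3106 D3767 (iv D2817) D2820 F4416
theorem F5769 : act 2 n2824 = n3767 := d14_3 F5768 F4412 D2824
def n3768 : Q := act 0 n1816
theorem D3768 : act 0 n1816 = n3768 := rfl
theorem F5770 : act 5 n3768 = n1817 := d4_2 (iv F2942) D3768 (iv D1817)
def n3769 : Q := act 2 n1816
theorem D3769 : act 2 n1816 = n3769 := rfl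
theorem F5771 : act 1 n3769 = n2824 := d6_1 D3769 F5769 (iv D3767) F2941 D1816
def n3770 : Q := act 6 n1816
theorem D3770 : act 6 n1816 = n3770 := rfl
theorem F5774 : act 1 n3770 = n2806 := d10_1 D3770 F4418 (iv D1943) F1670 D1816
def n3772 : Q := act 2 n1817
theorem D3772 : act 2 n1817 = n3772 := rfl
theorem F5776 : act 0 n3772 = n1818 := d1_1 D3772 (iv D1818) D1817
def n3773 : Q := act 6 n1817
theorem D3773 : act 6 n1817 = n3773 := rfl
theorem F5777 : act 0 n3773 = n1819 := d5_1 D3773 (iv D1819) D1817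
theorem F5778 : act 5 n3773 = n3770 := d22_2 F5770 D3773 (iv D3770) D3768
def n3774 : Q := act 3 n1818
theorem D3774 : act 3 n1818 = n3774 := rfl
theorem F5779 : act 1 n3774 = n2166 := d7_1 D3774 (iv D2166) (iv F2943)
def n3775 : Q := act 6 n1818
theorem D3775 : act 6 n1818 = n3775 := rfl
def n3776 : Q := act 5 n1819
theorem D3776 : act 5 n1819 = n3776 := rfl
theorem F5781 : act 0 n3776 = n3770 := d4_1 D3776 (iv F5778) F5777
def n3795 : Q := act 2 n1827
theorem D3795 : act 2 n1827 = n3795 := rfl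
theorem F5812 : act 5 n3795 = n1837 := d13_2 (iv F2956) D3795 (iv D1837)
def n3804 : Q := act 5 n1831
theorem D3804 : act 5 n1831 = n3804 := rfl
theorem F5825 : act 2 n3804 = n1832 := d13_1 D3804 (iv D1832) D1831
def n3805 : Q := act 6 n1831
theorem D3805 : act 6 n1831 = n3805 := rfl
def n3809 : Q := act 2 n1834
theorem D3809 : act 2 n1834 = n3809 := rfl
theorem F5835 : act 1 n3809 = n1851 := d6_1 D3809 (iv D1851) (iv D914) (iv F1614) D1834
theorem F5836 : act 4 n3809 = n1837 := d12_2 (iv F2972) D3809 (iv D1837)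
def n3812 : Q := act 2 n1835
theorem D3812 : act 2 n1835 = n3812 := rfl
theorem F5839 : act 1 n3812 = n1855 := d6_1 D3812 (iv D1855) (iv D916) (iv F1617) D1835
theorem F5840 : act 4 n3812 = n1840 := d12_2 (iv F2973) D3812 (iv D1840)
def n3817 : Q := act 3 n1837
theorem D3817 : act 3 n1837 = n3817 := rfl
theorem F5847 : act 1 n3817 = n1861 := d7_1 D3817 (iv D1861) (iv F2975)
def n3823 : Q := act 3 n1840
theorem D3823 : act 3 n1840 = n3823 := rfl
theorem F5857 : act 1 n3823 = n1871 := d7_1 D3823 (iv D1871) (iv F2978)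
def n3826 : Q := act 0 n1842
theorem D3826 : act 0 n1842 = n3826 := rfl
theorem F5862 : act 4 n3826 = n1878 := d3_2 (iv F2980) D3826 (iv D1878)
def n3827 : Q := act 3 n1842
theorem D3827 : act 3 n1842 = n3827 := rfl
theorem F5863 : act 1 n3827 = n1843 := d7_1 D3827 (iv D1843) D1842
def n3828 : Q := act 5 n1842
theorem D3828 : act 5 n1842 = n3828 := rfl
theorem F5864 : act 4 n3828 = n1879 := d18_1 D3828 (iv D1879) (iv F2980)
def n3829 : Q := act 6 n1842
theorem D3829 : act 6 n1842 = n3829 := rfl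
theorem F5865 : act 4 n3829 = n1880 := d19_1 D3829 (iv D1880) (iv F2980)
def n3830 : Q := act 5 n1843
theorem D3830 : act 5 n1843 = n3830 := rfl
theorem F5866 : act 3 n3830 = n1844 := d16_1 D3830 (iv D1844) D1843
def n3831 : Q := act 6 n1843
theorem D3831 : act 6 n1843 = n3831 := rfl
theorem F5867 : act 3 n3831 = n1845 := d17_1 D3831 (iv D1845) D1843
def n3832 : Q := act 1 n1844
theorem D3832 : act 1 n1844 = n3832 := rfl
theorem F5868 : act 4 n3832 = n1881 := d8_2 (iv F2982) D3832 (iv D1881)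
def n3833 : Q := act 6 n1844
theorem D3833 : act 6 n1844 = n3833 := rfl
theorem F5869 : act 2 n3833 = n1847 := d14_1 D3833 (iv D1847) (iv F2981)
theorem F5870 : act 4 n3833 = n1882 := d19_1 D3833 (iv D1882) (iv F2982)
theorem F5871 : act 5 n3833 = n3283 := d22_2 D1844 D3833 (iv D3283) F2624
def n3834 : Q := act 1 n1845
theorem D3834 : act 1 n1845 = n3834 := rfl
theorem F5872 : act 4 n3834 = n1883 := d8_2 (iv F2984) D3834 (iv D1883)
def n3835 : Q := act 5 n1845
theorem D3835 : act 5 n1845 = n3835 := rfl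
theorem F5873 : act 0 n3835 = n3833 := d4_1 D3835 F5871 F5093
theorem F5874 : act 2 n3835 = n1849 := d13_1 D3835 (iv D1849) (iv F2983)
theorem F5875 : act 4 n3835 = n1884 := d18_1 D3835 (iv D1884) (iv F2984)
theorem F5876 : act 6 n3835 = n3282 := d20_2 D1845 D3835 (iv D3282) D3283 (iv F5871) (iv D3833) (iv D1844)
def n3836 : Q := act 0 n1846
theorem D3836 : act 0 n1846 = n3836 := rfl
theorem F5877 : act 3 n3836 = n1850 := d2_2 (iv F2985) D3836 (iv D1850)
theorem F5878 : act 4 n3836 = n1885 := d3_2 (iv F2986) D3836 (iv D1885)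
def n3837 : Q := act 2 n1846
theorem D3837 : act 2 n1846 = n3837 := rfl
theorem F5879 : act 4 n3837 = n1886 := d12_2 (iv F2986) D3837 (iv D1886)
def n3838 : Q := act 6 n1846
theorem D3838 : act 6 n1846 = n3838 := rfl
theorem F5880 : act 3 n3838 = n1852 := d17_1 D3838 (iv D1852) (iv F2985)
theorem F5881 : act 4 n3838 = n1887 := d19_1 D3838 (iv D1887) (iv F2986)
def n3839 : Q := act 1 n1847
theorem D3839 : act 1 n1847 = n3839 := rfl
theorem F5882 : act 3 n3839 = n1853 := d7_2 (iv F2987) D3839 (iv D1853)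
theorem F5883 : act 4 n3839 = n1888 := d8_2 (iv F2988) D3839 (iv D1888)
def n3840 : Q := act 0 n1848
theorem D3840 : act 0 n1848 = n3840 := rfl
theorem F5884 : act 3 n3840 = n1854 := d2_2 (iv F2990) D3840 (iv D1854)
theorem F5885 : act 4 n3840 = n1889 := d3_2 (iv F2991) D3840 (iv D1889)
def n3841 : Q := act 2 n1848
theorem D3841 : act 2 n1848 = n3841 := rfl
theorem F5886 : act 4 n3841 = n1890 := d12_2 (iv F2991) D3841 (iv D1890)
def n3842 : Q := act 5 n1848
theorem D3842 : act 5 n1848 = n3842 := rfl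
theorem F5887 : act 3 n3842 = n1856 := d16_1 D3842 (iv D1856) (iv F2990)
theorem F5888 : act 4 n3842 = n1891 := d18_1 D3842 (iv D1891) (iv F2991)
def n3843 : Q := act 1 n1849
theorem D3843 : act 1 n1849 = n3843 := rfl
theorem F5889 : act 3 n3843 = n1857 := d7_2 (iv F2993) D3843 (iv D1857)
theorem F5890 : act 4 n3843 = n1892 := d8_2 (iv F2994) D3843 (iv D1892)
def n3844 : Q := act 1 n1850
theorem D3844 : act 1 n1850 = n3844 := rfl
theorem F5891 : act 4 n3844 = n1858 := d8_2 (iv F2996) D3844 (iv D1858)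
def n3845 : Q := act 2 n1850
theorem D3845 : act 2 n1850 = n3845 := rfl
def n3846 : Q := act 6 n1850
theorem D3846 : act 6 n1850 = n3846 := rfl
theorem F5894 : act 0 n3846 = n1852 := d5_1 D3846 (iv D1852) D1850
theorem F5896 : act 5 n3846 = n3682 := d22_2 F5659 D3846 (iv D3682) D3680
def n3847 : Q := act 3 n1851
theorem D3847 : act 3 n1851 = n3847 := rfl
def n3848 : Q := act 6 n1851
theorem D3848 : act 6 n1851 = n3848 := rfl
theorem F5897 : act 2 n3848 = n1852 := d14_1 D3848 (iv D1852) D1851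
theorem F5898 : act 4 n3848 = n1862 := d19_1 D3848 (iv D1862) (iv F2997)
def n3849 : Q := act 1 n1852
theorem D3849 : act 1 n1852 = n3849 := rfl
theorem F5899 : act 4 n3849 = n1863 := d8_2 (iv F2998) D3849 (iv D1863)
theorem F5900 : act 6 n3849 = n1853 := d10_2 D1852 D3849 (iv D1853) (iv D915) D914
def n3850 : Q := act 5 n1852
theorem D3850 : act 5 n1852 = n3850 := rfl
theorem F5901 : act 0 n3850 = n3682 := d4_1 D3850 (iv F5896) F5894
theorem F5903 : act 6 n3850 = n3680 := d20_2 D1852 D3850 F5659 D3846 F5896 (iv D3682) F2884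
def n3851 : Q := act 0 n1853
theorem D3851 : act 0 n1853 = n3851 := rfl
theorem F5904 : act 4 n3851 = n1865 := d3_2 (iv F2999) D3851 (iv D1865)
def n3852 : Q := act 2 n1853
theorem D3852 : act 2 n1853 = n3852 := rfl
theorem F5905 : act 4 n3852 = n1866 := d12_2 (iv F2999) D3852 (iv D1866)
def n3853 : Q := act 5 n1853
theorem D3853 : act 5 n1853 = n3853 := rfl
theorem F5906 : act 1 n3853 = n3291 := d9_1 D3853 (iv D3291) (iv D1596) (iv F1628) D1853
theorem F5907 : act 4 n3853 = n1867 := d18_1 D3853 (iv D1867) (iv F2999)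
def n3854 : Q := act 1 n1854
theorem D3854 : act 1 n1854 = n3854 := rfl
theorem F5908 : act 4 n3854 = n1868 := d8_2 (iv F3000) D3854 (iv D1868)
def n3855 : Q := act 2 n1854
theorem D3855 : act 2 n1854 = n3855 := rfl
theorem F5909 : act 0 n3855 = n1855 := d1_1 D3855 (iv D1855) D1854
def n3856 : Q := act 5 n1854
theorem D3856 : act 5 n1854 = n3856 := rfl
theorem F5911 : act 0 n3856 = n1856 := d4_1 D3856 (iv D1856) D1854
theorem F5912 : act 4 n3856 = n1870 := d18_1 D3856 (iv D1870) (iv F3000)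
theorem F5913 : act 6 n3856 = n3686 := d22_1 D3856 (iv D3686) F2888 D1854
def n3857 : Q := act 3 n1855
theorem D3857 : act 3 n1855 = n3857 := rfl
def n3858 : Q := act 5 n1855
theorem D3858 : act 5 n1855 = n3858 := rfl
theorem F5914 : act 2 n3858 = n1856 := d13_1 D3858 (iv D1856) D1855
theorem F5915 : act 4 n3858 = n1872 := d18_1 D3858 (iv D1872) (iv F3001)
def n3859 : Q := act 1 n1856
theorem D3859 : act 1 n1856 = n3859 := rfl
theorem F5916 : act 4 n3859 = n1873 := d8_2 (iv F3002) D3859 (iv D1873)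
theorem F5917 : act 5 n3859 = n1857 := d9_2 D1856 D3859 (iv D1857) (iv D917) D916
def n3860 : Q := act 6 n1856
theorem D3860 : act 6 n1856 = n3860 := rfl
theorem F5918 : act 0 n3860 = n3686 := d5_1 D3860 (iv F5913) F5911
theorem F5919 : act 4 n3860 = n1874 := d19_1 D3860 (iv D1874) (iv F3002)
theorem F5920 : act 5 n3860 = n3684 := d20_1 D3860 F5665 D3856 F5913 (iv D3686) F2888 D1856
def n3861 : Q := act 0 n1857
theorem D3861 : act 0 n1857 = n3861 := rfl
theorem F5921 : act 4 n3861 = n1875 := d3_2 (iv F3003) D3861 (iv D1875)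
def n3862 : Q := act 2 n1857
theorem D3862 : act 2 n1857 = n3862 := rfl
theorem F5922 : act 4 n3862 = n1876 := d12_2 (iv F3003) D3862 (iv D1876)
def n3863 : Q := act 6 n1857
theorem D3863 : act 6 n1857 = n3863 := rfl
theorem F5924 : act 4 n3863 = n1877 := d19_1 D3863 (iv D1877) (iv F3003)
def n3864 : Q := act 0 n1858
theorem D3864 : act 0 n1858 = n3864 := rfl
theorem F5925 : act 3 n3864 = n1913 := d2_2 (iv F3004) D3864 (iv D1913)
def n3865 : Q := act 2 n1858
theorem D3865 : act 2 n1858 = n3865 := rfl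
def n3866 : Q := act 5 n1858
theorem D3866 : act 5 n1858 = n3866 := rfl
def n3868 : Q := act 1 n1859
theorem D3868 : act 1 n1859 = n3868 := rfl
def n3869 : Q := act 3 n1859
theorem D3869 : act 3 n1859 = n3869 := rfl
def n3870 : Q := act 6 n1859
theorem D3870 : act 6 n1859 = n3870 := rfl
theorem F5931 : act 5 n3870 = n3691 := d22_2 F5672 D3870 (iv D3691) (iv F5671)
def n3871 : Q := act 1 n1860
theorem D3871 : act 1 n1860 = n3871 := rfl
theorem F5932 : act 3 n3871 = n1920 := d7_2 (iv F3007) D3871 (iv D1920)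
def n3872 : Q := act 2 n1861
theorem D3872 : act 2 n1861 = n3872 := rfl
def n3873 : Q := act 4 n1861
theorem D3873 : act 4 n1861 = n3873 := rfl
def n3875 : Q := act 1 n1862
theorem D3875 : act 1 n1862 = n3875 := rfl
def n3876 : Q := act 5 n1862
theorem D3876 : act 5 n1862 = n3876 := rfl
theorem F5936 : act 6 n3876 = n3689 := d20_2 D1862 D3876 F5672 D3870 F5931 (iv D3691) F2895
def n3877 : Q := act 0 n1863
theorem D3877 : act 0 n1863 = n3877 := rfl
theorem F5937 : act 3 n3877 = n1926 := d2_2 (iv F3010) D3877 (iv D1926)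
theorem F5938 : act 6 n3877 = n1865 := d5_2 (iv F3011) D3877 (iv D1865)
def n3878 : Q := act 2 n1863
theorem D3878 : act 2 n1863 = n3878 := rfl
theorem F5939 : act 6 n3878 = n1866 := d14_2 (iv F3011) D3878 (iv D1866)
def n3879 : Q := act 5 n1863
theorem D3879 : act 5 n1863 = n3879 := rfl
theorem F5940 : act 3 n3879 = n1928 := d16_1 D3879 (iv D1928) (iv F3010)
def n3880 : Q := act 1 n1864
theorem D3880 : act 1 n1864 = n3880 := rfl
def n3881 : Q := act 1 n1865
theorem D3881 : act 1 n1865 = n3881 := rfl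
theorem F5942 : act 3 n3881 = n1930 := d7_2 (iv F3015) D3881 (iv D1930)
def n3882 : Q := act 2 n1865
theorem D3882 : act 2 n1865 = n3882 := rfl
theorem F5943 : act 0 n3882 = n1866 := d1_1 D3882 (iv D1866) D1865
def n3883 : Q := act 5 n1865
theorem D3883 : act 5 n1865 = n3883 := rfl
theorem F5945 : act 3 n3883 = n1932 := d16_1 D3883 (iv D1932) (iv F3015)
theorem F5946 : act 6 n3883 = n3879 := d22_1 D3883 (iv D3879) F3011 D1865
def n3884 : Q := act 3 n1866
theorem D3884 : act 3 n1866 = n3884 := rfl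
def n3885 : Q := act 5 n1866
theorem D3885 : act 5 n1866 = n3885 := rfl
theorem F5947 : act 2 n3885 = n1867 := d13_1 D3885 (iv D1867) D1866
def n3886 : Q := act 6 n1867
theorem D3886 : act 6 n1867 = n3886 := rfl
theorem F5950 : act 5 n3886 = n3877 := d20_1 D3886 F5938 D3883 F5946 (iv D3879) F3011 D1867
def n3887 : Q := act 0 n1868
theorem D3887 : act 0 n1868 = n3887 := rfl
theorem F5951 : act 3 n3887 = n1936 := d2_2 (iv F3018) D3887 (iv D1936)
def n3888 : Q := act 2 n1868
theorem D3888 : act 2 n1868 = n3888 := rfl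
def n3889 : Q := act 5 n1868
theorem D3889 : act 5 n1868 = n3889 := rfl
theorem F5952 : act 3 n3889 = n1938 := d16_1 D3889 (iv D1938) (iv F3018)
def n3890 : Q := act 6 n1868
theorem D3890 : act 6 n1868 = n3890 := rfl
def n3891 : Q := act 1 n1869
theorem D3891 : act 1 n1869 = n3891 := rfl
def n3892 : Q := act 3 n1869
theorem D3892 : act 3 n1869 = n3892 := rfl
def n3893 : Q := act 5 n1869
theorem D3893 : act 5 n1869 = n3893 := rfl
theorem F5957 : act 6 n3893 = n3699 := d22_1 D3893 (iv D3699) F2900 (iv F3019)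
def n3894 : Q := act 1 n1870
theorem D3894 : act 1 n1870 = n3894 := rfl
theorem F5958 : act 3 n3894 = n1943 := d7_2 (iv F3021) D3894 (iv D1943)
def n3895 : Q := act 2 n1871
theorem D3895 : act 2 n1871 = n3895 := rfl
def n3898 : Q := act 1 n1872
theorem D3898 : act 1 n1872 = n3898 := rfl
def n3899 : Q := act 6 n1872
theorem D3899 : act 6 n1872 = n3899 := rfl
theorem F5961 : act 2 n3899 = n1874 := d14_1 D3899 (iv D1874) (iv F3023)
theorem F5962 : act 5 n3899 = n3697 := d20_1 D3899 F5682 D3893 F5957 (iv D3699) F2900 D1872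
def n3900 : Q := act 0 n1873
theorem D3900 : act 0 n1873 = n3900 := rfl
theorem F5963 : act 3 n3900 = n1949 := d2_2 (iv F3024) D3900 (iv D1949)
theorem F5964 : act 5 n3900 = n1875 := d4_2 (iv F3025) D3900 (iv D1875)
def n3901 : Q := act 2 n1873
theorem D3901 : act 2 n1873 = n3901 := rfl
theorem F5965 : act 5 n3901 = n1876 := d13_2 (iv F3025) D3901 (iv D1876)
def n3902 : Q := act 6 n1873
theorem D3902 : act 6 n1873 = n3902 := rfl
theorem F5966 : act 3 n3902 = n1951 := d17_1 D3902 (iv D1951) (iv F3024)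
def n3905 : Q := act 2 n1875
theorem D3905 : act 2 n1875 = n3905 := rfl
theorem F5969 : act 0 n3905 = n1876 := d1_1 D3905 (iv D1876) D1875
def n3906 : Q := act 6 n1875
theorem D3906 : act 6 n1875 = n3906 := rfl
theorem F5971 : act 3 n3906 = n1955 := d17_1 D3906 (iv D1955) (iv F3029)
theorem F5972 : act 5 n3906 = n3902 := d22_2 F5964 D3906 (iv D3902) D3900
def n3907 : Q := act 3 n1876
theorem D3907 : act 3 n1876 = n3907 := rfl
def n3908 : Q := act 6 n1876
theorem D3908 : act 6 n1876 = n3908 := rfl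
theorem F5973 : act 2 n3908 = n1877 := d14_1 D3908 (iv D1877) D1876
def n3910 : Q := act 1 n1878
theorem D3910 : act 1 n1878 = n3910 := rfl
def n3911 : Q := act 5 n1878
theorem D3911 : act 5 n1878 = n3911 := rfl
theorem F5977 : act 0 n3911 = n1879 := d4_1 D3911 (iv D1879) D1878
def n3912 : Q := act 6 n1878
theorem D3912 : act 6 n1878 = n3912 := rfl
theorem F5978 : act 0 n3912 = n1880 := d5_1 D3912 (iv D1880) D1878
def n3913 : Q := act 1 n1879
theorem D3913 : act 1 n1879 = n3913 := rfl
theorem F5979 : act 5 n3913 = n1881 := d9_2 D1879 D3913 (iv D1881) (iv D927) D926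
def n3914 : Q := act 6 n1879
theorem D3914 : act 6 n1879 = n3914 := rfl
theorem F5980 : act 5 n3914 = n3912 := d22_2 D1879 D3914 (iv D3912) (iv D1878)
def n3915 : Q := act 1 n1880
theorem D3915 : act 1 n1880 = n3915 := rfl
theorem F5981 : act 6 n3915 = n1883 := d10_2 D1880 D3915 (iv D1883) (iv D928) D926
def n3916 : Q := act 5 n1880
theorem D3916 : act 5 n1880 = n3916 := rfl
theorem F5982 : act 0 n3916 = n3914 := d4_1 D3916 F5980 F5978
theorem F5983 : act 6 n3916 = n3911 := d20_2 D1880 D3916 (iv D3911) D3912 (iv F5980) (iv D3914) (iv D1879)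
def n3917 : Q := act 0 n1881
theorem D3917 : act 0 n1881 = n3917 := rfl
def n3918 : Q := act 2 n1881
theorem D3918 : act 2 n1881 = n3918 := rfl
theorem F5984 : act 1 n3918 = n1886 := d6_1 D3918 (iv D1886) (iv D929) (iv F1639) D1881
def n3919 : Q := act 6 n1881
theorem D3919 : act 6 n1881 = n3919 := rfl
def n3920 : Q := act 1 n1882
theorem D3920 : act 1 n1882 = n3920 := rfl
def n3921 : Q := act 0 n1883
theorem D3921 : act 0 n1883 = n3921 := rfl
def n3922 : Q := act 2 n1883
theorem D3922 : act 2 n1883 = n3922 := rfl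
theorem F5985 : act 1 n3922 = n1890 := d6_1 D3922 (iv D1890) (iv D931) (iv F1640) D1883
def n3923 : Q := act 5 n1883
theorem D3923 : act 5 n1883 = n3923 := rfl
def n3924 : Q := act 1 n1884
theorem D3924 : act 1 n1884 = n3924 := rfl
theorem F5986 : act 3 n3924 = n3920 := d7_2 (iv F3036) D3924 (iv D3920)
def n3925 : Q := act 1 n1885
theorem D3925 : act 1 n1885 = n3925 := rfl
theorem F5987 : act 3 n3925 = n1893 := d7_2 (iv F3038) D3925 (iv D1893)
def n3926 : Q := act 2 n1885
theorem D3926 : act 2 n1885 = n3926 := rfl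
theorem F5988 : act 0 n3926 = n1886 := d1_1 D3926 (iv D1886) D1885
def n3927 : Q := act 6 n1885
theorem D3927 : act 6 n1885 = n3927 := rfl
theorem F5989 : act 0 n3927 = n1887 := d5_1 D3927 (iv D1887) D1885
theorem F5991 : act 5 n3927 = n3717 := d22_2 F5703 D3927 (iv D3717) D3715
def n3928 : Q := act 3 n1886
theorem D3928 : act 3 n1886 = n3928 := rfl
def n3929 : Q := act 6 n1886
theorem D3929 : act 6 n1886 = n3929 := rfl
theorem F5992 : act 2 n3929 = n1887 := d14_1 D3929 (iv D1887) D1886
def n3930 : Q := act 1 n1887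
theorem D3930 : act 1 n1887 = n3930 := rfl
theorem F5993 : act 3 n3930 = n1898 := d7_2 (iv F3039) D3930 (iv D1898)
theorem F5994 : act 6 n3930 = n1888 := d10_2 D1887 D3930 (iv D1888) (iv D930) D929
def n3931 : Q := act 5 n1887
theorem D3931 : act 5 n1887 = n3931 := rfl
theorem F5995 : act 0 n3931 = n3717 := d4_1 D3931 (iv F5991) F5989
theorem F5996 : act 3 n3931 = n1899 := d16_1 D3931 (iv D1899) (iv F3039)
theorem F5997 : act 6 n3931 = n3715 := d20_2 D1887 D3931 F5703 D3927 F5991 (iv D3717) F2907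
def n3932 : Q := act 0 n1888
theorem D3932 : act 0 n1888 = n3932 := rfl
theorem F5998 : act 3 n3932 = n1900 := d2_2 (iv F3040) D3932 (iv D1900)
def n3933 : Q := act 2 n1888
theorem D3933 : act 2 n1888 = n3933 := rfl
def n3934 : Q := act 5 n1888
theorem D3934 : act 5 n1888 = n3934 := rfl
theorem F5999 : act 1 n3934 = n3314 := d9_1 D3934 (iv D3314) (iv D1607) (iv F1643) D1888
theorem F6000 : act 3 n3934 = n1902 := d16_1 D3934 (iv D1902) (iv F3040)
def n3935 : Q := act 1 n1889
theorem D3935 : act 1 n1889 = n3935 := rfl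
theorem F6001 : act 3 n3935 = n1903 := d7_2 (iv F3041) D3935 (iv D1903)
def n3936 : Q := act 2 n1889
theorem D3936 : act 2 n1889 = n3936 := rfl
theorem F6002 : act 0 n3936 = n1890 := d1_1 D3936 (iv D1890) D1889
def n3937 : Q := act 5 n1889
theorem D3937 : act 5 n1889 = n3937 := rfl
theorem F6003 : act 0 n3937 = n1891 := d4_1 D3937 (iv D1891) D1889
theorem F6004 : act 3 n3937 = n1905 := d16_1 D3937 (iv D1905) (iv F3041)
theorem F6005 : act 6 n3937 = n3721 := d22_1 D3937 (iv D3721) F2911 D1889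
def n3938 : Q := act 3 n1890
theorem D3938 : act 3 n1890 = n3938 := rfl
def n3939 : Q := act 5 n1890
theorem D3939 : act 5 n1890 = n3939 := rfl
theorem F6006 : act 2 n3939 = n1891 := d13_1 D3939 (iv D1891) D1890
def n3940 : Q := act 1 n1891
theorem D3940 : act 1 n1891 = n3940 := rfl
theorem F6007 : act 3 n3940 = n1908 := d7_2 (iv F3042) D3940 (iv D1908)
theorem F6008 : act 5 n3940 = n1892 := d9_2 D1891 D3940 (iv D1892) (iv D932) D931
def n3941 : Q := act 6 n1891
theorem D3941 : act 6 n1891 = n3941 := rfl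
theorem F6009 : act 0 n3941 = n3721 := d5_1 D3941 (iv F6005) F6003
theorem F6010 : act 3 n3941 = n1909 := d17_1 D3941 (iv D1909) (iv F3042)
theorem F6011 : act 5 n3941 = n3719 := d20_1 D3941 F5708 D3937 F6005 (iv D3721) F2911 D1891
def n3942 : Q := act 0 n1892
theorem D3942 : act 0 n1892 = n3942 := rfl
theorem F6012 : act 3 n3942 = n1910 := d2_2 (iv F3043) D3942 (iv D1910)
def n3943 : Q := act 2 n1892
theorem D3943 : act 2 n1892 = n3943 := rfl
def n3944 : Q := act 6 n1892
theorem D3944 : act 6 n1892 = n3944 := rfl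
theorem F6014 : act 3 n3944 = n1912 := d17_1 D3944 (iv D1912) (iv F3043)
def n3945 : Q := act 0 n1893
theorem D3945 : act 0 n1893 = n3945 := rfl
theorem F6015 : act 4 n3945 = n1913 := d3_2 (iv F3044) D3945 (iv D1913)
def n3946 : Q := act 2 n1893
theorem D3946 : act 2 n1893 = n3946 := rfl
theorem F6016 : act 4 n3946 = n1914 := d12_2 (iv F3044) D3946 (iv D1914)
def n3947 : Q := act 5 n1893
theorem D3947 : act 5 n1893 = n3947 := rfl
theorem F6017 : act 4 n3947 = n1915 := d18_1 D3947 (iv D1915) (iv F3044)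
def n3949 : Q := act 1 n1894
theorem D3949 : act 1 n1894 = n3949 := rfl
def n3950 : Q := act 3 n1894
theorem D3950 : act 3 n1894 = n3950 := rfl
theorem F6020 : act 0 n3950 = n1896 := d2_1 D3950 (iv D1896) (iv F3045)
def n3951 : Q := act 6 n1894
theorem D3951 : act 6 n1894 = n3951 := rfl
theorem F6021 : act 0 n3951 = n1897 := d5_1 D3951 (iv D1897) (iv F3045)
theorem F6023 : act 4 n3951 = n1919 := d19_1 D3951 (iv D1919) (iv F3046)
theorem F6024 : act 5 n3951 = n3726 := d22_2 F5715 D3951 (iv D3726) (iv F5713)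
def n3952 : Q := act 1 n1895
theorem D3952 : act 1 n1895 = n3952 := rfl
theorem F6025 : act 4 n3952 = n1920 := d8_2 (iv F3048) D3952 (iv D1920)
def n3953 : Q := act 2 n1896
theorem D3953 : act 2 n1896 = n3953 := rfl
def n3954 : Q := act 4 n1896
theorem D3954 : act 4 n1896 = n3954 := rfl
theorem F6026 : act 1 n3954 = n1960 := d8_1 D3954 (iv D1960) (iv F3050)
theorem F6027 : act 3 n3954 = n1922 := d15_1 D3954 (iv D1922) (iv D944) (iv F1650) D1896
def n3955 : Q := act 6 n1896
theorem D3955 : act 6 n1896 = n3955 := rfl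
theorem F6028 : act 3 n3955 = n1897 := d17_1 D3955 (iv D1897) D1896
def n3956 : Q := act 1 n1897
theorem D3956 : act 1 n1897 = n3956 := rfl
theorem F6029 : act 4 n3956 = n1924 := d8_2 (iv F3052) D3956 (iv D1924)
theorem F6030 : act 6 n3956 = n1962 := d10_2 D1897 D3956 (iv D1962) (iv D962) (iv F1649)
def n3957 : Q := act 5 n1897
theorem D3957 : act 5 n1897 = n3957 := rfl
theorem F6031 : act 0 n3957 = n3726 := d4_1 D3957 (iv F6024) F6021
theorem F6032 : act 2 n3957 = n1899 := d13_1 D3957 (iv D1899) (iv F3051)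
theorem F6033 : act 4 n3957 = n1925 := d18_1 D3957 (iv D1925) (iv F3052)
theorem F6034 : act 6 n3957 = n3724 := d20_2 D1897 D3957 F5715 D3951 F6024 (iv D3726) F2919
def n3958 : Q := act 0 n1898
theorem D3958 : act 0 n1898 = n3958 := rfl
theorem F6035 : act 4 n3958 = n1926 := d3_2 (iv F3053) D3958 (iv D1926)
theorem F6036 : act 6 n3958 = n1900 := d5_2 (iv F3054) D3958 (iv D1900)
def n3959 : Q := act 2 n1898
theorem D3959 : act 2 n1898 = n3959 := rfl
theorem F6037 : act 4 n3959 = n1927 := d12_2 (iv F3053) D3959 (iv D1927)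
theorem F6038 : act 6 n3959 = n1901 := d14_2 (iv F3054) D3959 (iv D1901)
def n3960 : Q := act 5 n1898
theorem D3960 : act 5 n1898 = n3960 := rfl
def n3961 : Q := act 1 n1899
theorem D3961 : act 1 n1899 = n3961 := rfl
def n3962 : Q := act 1 n1900
theorem D3962 : act 1 n1900 = n3962 := rfl
theorem F6041 : act 4 n3962 = n1930 := d8_2 (iv F3058) D3962 (iv D1930)
def n3963 : Q := act 2 n1900
theorem D3963 : act 2 n1900 = n3963 := rfl
theorem F6042 : act 0 n3963 = n1901 := d1_1 D3963 (iv D1901) D1900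
theorem F6043 : act 4 n3963 = n1931 := d12_2 (iv F3058) D3963 (iv D1931)
def n3964 : Q := act 5 n1900
theorem D3964 : act 5 n1900 = n3964 := rfl
theorem F6045 : act 4 n3964 = n1932 := d18_1 D3964 (iv D1932) (iv F3058)
theorem F6046 : act 6 n3964 = n3960 := d22_1 D3964 (iv D3960) F3054 D1900
def n3965 : Q := act 3 n1901
theorem D3965 : act 3 n1901 = n3965 := rfl
theorem F6047 : act 1 n3965 = n1963 := d7_1 D3965 (iv D1963) (iv F3059)
def n3966 : Q := act 5 n1901
theorem D3966 : act 5 n1901 = n3966 := rfl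
theorem F6048 : act 1 n3966 = n2357 := d9_1 D3966 (iv D2357) (iv D1147) (iv F1683) (iv F3059)
theorem F6049 : act 2 n3966 = n1902 := d13_1 D3966 (iv D1902) D1901
def n3967 : Q := act 6 n1902
theorem D3967 : act 6 n1902 = n3967 := rfl
theorem F6053 : act 5 n3967 = n3958 := d20_1 D3967 F6036 D3964 F6046 (iv D3960) F3054 D1902
def n3968 : Q := act 0 n1903
theorem D3968 : act 0 n1903 = n3968 := rfl
theorem F6054 : act 4 n3968 = n1936 := d3_2 (iv F3063) D3968 (iv D1936)
def n3969 : Q := act 2 n1903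
theorem D3969 : act 2 n1903 = n3969 := rfl
theorem F6055 : act 4 n3969 = n1937 := d12_2 (iv F3063) D3969 (iv D1937)
def n3970 : Q := act 5 n1903
theorem D3970 : act 5 n1903 = n3970 := rfl
def n3971 : Q := act 6 n1903
theorem D3971 : act 6 n1903 = n3971 := rfl
theorem F6057 : act 4 n3971 = n1939 := d19_1 D3971 (iv D1939) (iv F3063)
def n3972 : Q := act 1 n1904
theorem D3972 : act 1 n1904 = n3972 := rfl
theorem F6058 : act 4 n3972 = n1940 := d8_2 (iv F3065) D3972 (iv D1940)
def n3973 : Q := act 3 n1904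
theorem D3973 : act 3 n1904 = n3973 := rfl
theorem F6059 : act 0 n3973 = n1906 := d2_1 D3973 (iv D1906) (iv F3064)
def n3974 : Q := act 5 n1904
theorem D3974 : act 5 n1904 = n3974 := rfl
theorem F6060 : act 0 n3974 = n1907 := d4_1 D3974 (iv D1907) (iv F3064)
theorem F6062 : act 4 n3974 = n1942 := d18_1 D3974 (iv D1942) (iv F3065)
theorem F6063 : act 6 n3974 = n3734 := d22_1 D3974 (iv D3734) F2926 (iv F3064)
def n3975 : Q := act 1 n1905
theorem D3975 : act 1 n1905 = n3975 := rfl
theorem F6064 : act 4 n3975 = n1943 := d8_2 (iv F3067) D3975 (iv D1943)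
def n3976 : Q := act 2 n1906
theorem D3976 : act 2 n1906 = n3976 := rfl
def n3977 : Q := act 4 n1906
theorem D3977 : act 4 n1906 = n3977 := rfl
theorem F6065 : act 1 n3977 = n1967 := d8_1 D3977 (iv D1967) (iv F3069)
theorem F6066 : act 3 n3977 = n1945 := d15_1 D3977 (iv D1945) (iv D954) (iv F1655) D1906
def n3978 : Q := act 5 n1906
theorem D3978 : act 5 n1906 = n3978 := rfl
theorem F6067 : act 3 n3978 = n1907 := d16_1 D3978 (iv D1907) D1906
def n3979 : Q := act 1 n1907
theorem D3979 : act 1 n1907 = n3979 := rfl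
theorem F6068 : act 4 n3979 = n1947 := d8_2 (iv F3071) D3979 (iv D1947)
theorem F6069 : act 5 n3979 = n1969 := d9_2 D1907 D3979 (iv D1969) (iv D966) (iv F1654)
def n3980 : Q := act 6 n1907
theorem D3980 : act 6 n1907 = n3980 := rfl
theorem F6070 : act 0 n3980 = n3734 := d5_1 D3980 (iv F6063) F6060
theorem F6071 : act 2 n3980 = n1909 := d14_1 D3980 (iv D1909) (iv F3070)
theorem F6072 : act 4 n3980 = n1948 := d19_1 D3980 (iv D1948) (iv F3071)
theorem F6073 : act 5 n3980 = n3732 := d20_1 D3980 F5730 D3974 F6063 (iv D3734) F2926 D1907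
def n3981 : Q := act 0 n1908
theorem D3981 : act 0 n1908 = n3981 := rfl
theorem F6074 : act 4 n3981 = n1949 := d3_2 (iv F3072) D3981 (iv D1949)
theorem F6075 : act 5 n3981 = n1910 := d4_2 (iv F3073) D3981 (iv D1910)
def n3982 : Q := act 2 n1908
theorem D3982 : act 2 n1908 = n3982 := rfl
theorem F6076 : act 4 n3982 = n1950 := d12_2 (iv F3072) D3982 (iv D1950)
theorem F6077 : act 5 n3982 = n1911 := d13_2 (iv F3073) D3982 (iv D1911)
def n3983 : Q := act 6 n1908
theorem D3983 : act 6 n1908 = n3983 := rfl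
theorem F6078 : act 4 n3983 = n1951 := d19_1 D3983 (iv D1951) (iv F3072)
def n3986 : Q := act 2 n1910
theorem D3986 : act 2 n1910 = n3986 := rfl
theorem F6081 : act 0 n3986 = n1911 := d1_1 D3986 (iv D1911) D1910
theorem F6082 : act 4 n3986 = n1954 := d12_2 (iv F3077) D3986 (iv D1954)
def n3987 : Q := act 6 n1910
theorem D3987 : act 6 n1910 = n3987 := rfl
theorem F6085 : act 5 n3987 = n3983 := d22_2 F6075 D3987 (iv D3983) D3981
def n3988 : Q := act 3 n1911
theorem D3988 : act 3 n1911 = n3988 := rfl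
theorem F6086 : act 1 n3988 = n1970 := d7_1 D3988 (iv D1970) (iv F3078)
def n3989 : Q := act 6 n1911
theorem D3989 : act 6 n1911 = n3989 := rfl
theorem F6087 : act 1 n3989 = n2341 := d10_1 D3989 (iv D2341) (iv D1139) (iv F1694) (iv F3078)
theorem F6088 : act 2 n3989 = n1912 := d14_1 D3989 (iv D1912) D1911
def n3991 : Q := act 2 n1913
theorem D3991 : act 2 n1913 = n3991 := rfl
theorem F6093 : act 0 n3991 = n1914 := d1_1 D3991 (iv D1914) D1913
def n3992 : Q := act 5 n1913
theorem D3992 : act 5 n1913 = n3992 := rfl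
theorem F6094 : act 0 n3992 = n1915 := d4_1 D3992 (iv D1915) D1913
def n3993 : Q := act 6 n1913
theorem D3993 : act 6 n1913 = n3993 := rfl
theorem F6095 : act 0 n3993 = n1916 := d5_1 D3993 (iv D1916) D1913
def n3994 : Q := act 1 n1914
theorem D3994 : act 1 n1914 = n3994 := rfl
theorem F6096 : act 2 n3994 = n1917 := d6_2 D1914 D3994 (iv D1917) (iv D942) D941
def n3996 : Q := act 5 n1914
theorem D3996 : act 5 n1914 = n3996 := rfl
theorem F6097 : act 2 n3996 = n1915 := d13_1 D3996 (iv D1915) D1914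
def n3997 : Q := act 6 n1914
theorem D3997 : act 6 n1914 = n3997 := rfl
theorem F6098 : act 2 n3997 = n1916 := d14_1 D3997 (iv D1916) D1914
def n3998 : Q := act 6 n1915
theorem D3998 : act 6 n1915 = n3998 := rfl
theorem F6099 : act 5 n3998 = n3993 := d22_2 D1915 D3998 (iv D3993) (iv D1913)
def n4000 : Q := act 5 n1916
theorem D4000 : act 5 n1916 = n4000 := rfl
theorem F6101 : act 0 n4000 = n3998 := d4_1 D4000 F6099 F6095
theorem F6102 : act 6 n4000 = n3992 := d20_2 D1916 D4000 (iv D3992) D3993 (iv F6099) (iv D3998) (iv D1915)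
def n4001 : Q := act 0 n1917
theorem D4001 : act 0 n1917 = n4001 := rfl
theorem F6103 : act 1 n4001 = n2377 := d0_2 D1917 D4001 F3749 F1995 (iv D1183) (iv D595) F594 (iv F915) (iv F1658)
def n4002 : Q := act 3 n1917
theorem D4002 : act 3 n1917 = n4002 := rfl
theorem F6104 : act 1 n4002 = n1918 := d7_1 D4002 (iv D1918) D1917
def n4003 : Q := act 5 n1917
theorem D4003 : act 5 n1917 = n4003 := rfl
def n4005 : Q := act 2 n1918
theorem D4005 : act 2 n1918 = n4005 := rfl
theorem F6105 : act 0 n4005 = n1921 := d1_1 D4005 (iv D1921) (iv F3082)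
theorem F6106 : act 3 n4005 = n3872 := d21_1 D4005 (iv D3872) (iv D1861) (iv D919) F897 D476 D944 (iv F3082)
def n4006 : Q := act 4 n1918
theorem D4006 : act 4 n1918 = n4006 := rfl
theorem F6107 : act 0 n4006 = n1922 := d3_1 D4006 (iv D1922) (iv F3082)
def n4007 : Q := act 6 n1918
theorem D4007 : act 6 n1918 = n4007 := rfl
theorem F6108 : act 0 n4007 = n1923 := d5_1 D4007 (iv D1923) (iv F3082)
theorem F6109 : act 3 n4007 = n1919 := d17_1 D4007 (iv D1919) D1918
theorem F6110 : act 5 n4007 = n3747 := d22_2 F5745 D4007 (iv D3747) (iv F5744)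
def n4008 : Q := act 1 n1919
theorem D4008 : act 1 n1919 = n4008 := rfl
def n4009 : Q := act 0 n1920
theorem D4009 : act 0 n1920 = n4009 := rfl
def n4011 : Q := act 5 n1920
theorem D4011 : act 5 n1920 = n4011 := rfl
theorem F6111 : act 1 n4011 = n3751 := d9_1 D4011 (iv D3751) (iv D1808) (iv F1660) D1920
def n4012 : Q := act 3 n1921
theorem D4012 : act 3 n1921 = n4012 := rfl
theorem F6114 : act 2 n4012 = n3869 := d11_1 D4012 (iv D3869) (iv D1859) F1633 D942 D1918 D4005 F6106 (iv D3872) (iv D1861) (iv D919) F897 D476 D944 D1921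
def n4013 : Q := act 4 n1921
theorem D4013 : act 4 n1921 = n4013 := rfl
theorem F6116 : act 2 n4013 = n1922 := d12_1 D4013 (iv D1922) D1921
def n4014 : Q := act 6 n1921
theorem D4014 : act 6 n1921 = n4014 := rfl
theorem F6117 : act 2 n4014 = n1923 := d14_1 D4014 (iv D1923) D1921
def n4015 : Q := act 6 n1922
theorem D4015 : act 6 n1922 = n4015 := rfl
theorem F6118 : act 4 n4015 = n1923 := d19_1 D4015 (iv D1923) D1922
def n4016 : Q := act 1 n1923
theorem D4016 : act 1 n1923 = n4016 := rfl
theorem F6119 : act 3 n4016 = n1924 := d7_2 (iv F3088) D4016 (iv D1924)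
theorem F6120 : act 6 n4016 = n1972 := d10_2 D1923 D4016 (iv D1972) (iv D969) (iv F1661)
def n4017 : Q := act 5 n1923
theorem D4017 : act 5 n1923 = n4017 := rfl
theorem F6122 : act 3 n4017 = n1925 := d16_1 D4017 (iv D1925) (iv F3088)
theorem F6123 : act 6 n4017 = n3744 := d20_2 D1923 D4017 F5745 D4007 F6110 (iv D3747) F2932
def n4018 : Q := act 0 n1924
theorem D4018 : act 0 n1924 = n4018 := rfl
theorem F6124 : act 6 n4018 = n1973 := d5_2 (iv F3089) D4018 (iv D1973)
def n4019 : Q := act 5 n1924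
theorem D4019 : act 5 n1924 = n4019 := rfl
def n4020 : Q := act 1 n1925
theorem D4020 : act 1 n1925 = n4020 := rfl
def n4021 : Q := act 1 n1926
theorem D4021 : act 1 n1926 = n4021 := rfl
def n4022 : Q := act 2 n1926
theorem D4022 : act 2 n1926 = n4022 := rfl
theorem F6126 : act 6 n4022 = n1931 := d14_2 (iv F3093) D4022 (iv D1931)
def n4023 : Q := act 3 n1927
theorem D4023 : act 3 n1927 = n4023 := rfl
theorem F6127 : act 6 n4023 = n1933 := d17_2 (iv F3094) D4023 (iv D1933)
def n4024 : Q := act 5 n1927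
theorem D4024 : act 5 n1927 = n4024 := rfl
theorem F6128 : act 2 n4024 = n1928 := d13_1 D4024 (iv D1928) D1927
def n4025 : Q := act 1 n1928
theorem D4025 : act 1 n1928 = n4025 := rfl
theorem F6129 : act 5 n4025 = n1929 := d9_2 D1928 D4025 (iv D1929) (iv D947) D946
def n4026 : Q := act 0 n1929
theorem D4026 : act 0 n1929 = n4026 := rfl
def n4027 : Q := act 2 n1929
theorem D4027 : act 2 n1929 = n4027 := rfl
def n4028 : Q := act 6 n1929
theorem D4028 : act 6 n1929 = n4028 := rfl
theorem F6130 : act 1 n4028 = n3742 := d10_1 D4028 (iv D3742) (iv D1804) (iv F1665) D1929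
def n4029 : Q := act 0 n1930
theorem D4029 : act 0 n1930 = n4029 := rfl
def n4031 : Q := act 5 n1930
theorem D4031 : act 5 n1930 = n4031 := rfl
def n4032 : Q := act 6 n1930
theorem D4032 : act 6 n1930 = n4032 := rfl
def n4033 : Q := act 1 n1931
theorem D4033 : act 1 n1931 = n4033 := rfl
def n4034 : Q := act 3 n1931
theorem D4034 : act 3 n1931 = n4034 := rfl
def n4035 : Q := act 5 n1931
theorem D4035 : act 5 n1931 = n4035 := rfl
theorem F6132 : act 0 n4035 = n1934 := d4_1 D4035 (iv D1934) (iv F3095)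
theorem F6133 : act 2 n4035 = n1932 := d13_1 D4035 (iv D1932) D1931
theorem F6134 : act 6 n4035 = n4024 := d22_1 D4035 (iv D4024) F3094 (iv F3095)
def n4036 : Q := act 1 n1932
theorem D4036 : act 1 n1932 = n4036 := rfl
def n4037 : Q := act 2 n1933
theorem D4037 : act 2 n1933 = n4037 := rfl
def n4038 : Q := act 4 n1933
theorem D4038 : act 4 n1933 = n4038 := rfl
theorem F6135 : act 1 n4038 = n1975 := d8_1 D4038 (iv D1975) (iv F3098)
def n4039 : Q := act 5 n1933
theorem D4039 : act 5 n1933 = n4039 := rfl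
theorem F6136 : act 1 n4039 = n2408 := d9_1 D4039 (iv D2408) F1982 (iv F1700) (iv F3098)
def n4041 : Q := act 1 n1935
theorem D4041 : act 1 n1935 = n4041 := rfl
theorem F6141 : act 6 n4041 = n3352 := d10_2 D1935 D4041 (iv D3352) (iv D1625) (iv F1667)
def n4042 : Q := act 2 n1936
theorem D4042 : act 2 n1936 = n4042 := rfl
theorem F6142 : act 0 n4042 = n1937 := d1_1 D4042 (iv D1937) D1936
def n4043 : Q := act 5 n1936
theorem D4043 : act 5 n1936 = n4043 := rfl
def n4044 : Q := act 6 n1936
theorem D4044 : act 6 n1936 = n4044 := rfl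
theorem F6144 : act 0 n4044 = n1939 := d5_1 D4044 (iv D1939) D1936
def n4045 : Q := act 1 n1937
theorem D4045 : act 1 n1937 = n4045 := rfl
theorem F6145 : act 2 n4045 = n1940 := d6_2 D1937 D4045 (iv D1940) (iv D952) D951
def n4047 : Q := act 5 n1937
theorem D4047 : act 5 n1937 = n4047 := rfl
theorem F6146 : act 2 n4047 = n1938 := d13_1 D4047 (iv D1938) D1937
def n4048 : Q := act 6 n1937
theorem D4048 : act 6 n1937 = n4048 := rfl
theorem F6147 : act 2 n4048 = n1939 := d14_1 D4048 (iv D1939) D1937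
def n4049 : Q := act 1 n1938
theorem D4049 : act 1 n1938 = n4049 := rfl
theorem F6148 : act 5 n4049 = n1943 := d9_2 D1938 D4049 (iv D1943) (iv D953) D951
theorem F6149 : act 2 n2861 = n4049 := d13_3 F6148 F4417 (iv F4480)
theorem F6150 : act 0 n4049 = n2862 := d1_1 F6149 (iv D2862) D2861
def n4050 : Q := act 6 n1938
theorem D4050 : act 6 n1938 = n4050 := rfl
theorem F6151 : act 5 n4050 = n4044 := d22_2 D1938 D4050 (iv D4044) (iv D1936)
def n4051 : Q := act 5 n1939
theorem D4051 : act 5 n1939 = n4051 := rfl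
theorem F6153 : act 6 n4051 = n4043 := d20_2 D1939 D4051 (iv D4043) D4044 (iv F6151) (iv D4050) (iv D1938)
def n4052 : Q := act 0 n1940
theorem D4052 : act 0 n1940 = n4052 := rfl
def n4053 : Q := act 3 n1940
theorem D4053 : act 3 n1940 = n4053 := rfl
theorem F6154 : act 1 n4053 = n1941 := d7_1 D4053 (iv D1941) D1940
def n4054 : Q := act 5 n1940
theorem D4054 : act 5 n1940 = n4054 := rfl
def n4055 : Q := act 6 n1940
theorem D4055 : act 6 n1940 = n4055 := rfl
def n4056 : Q := act 2 n1941
theorem D4056 : act 2 n1941 = n4056 := rfl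
theorem F6155 : act 0 n4056 = n1944 := d1_1 D4056 (iv D1944) (iv F3103)
theorem F6156 : act 3 n4056 = n3895 := d21_1 D4056 (iv D3895) (iv D1871) (iv D923) F900 D480 D954 (iv F3103)
def n4057 : Q := act 4 n1941
theorem D4057 : act 4 n1941 = n4057 := rfl
theorem F6157 : act 0 n4057 = n1945 := d3_1 D4057 (iv D1945) (iv F3103)
def n4058 : Q := act 5 n1941
theorem D4058 : act 5 n1941 = n4058 := rfl
theorem F6158 : act 0 n4058 = n1946 := d4_1 D4058 (iv D1946) (iv F3103)
theorem F6159 : act 3 n4058 = n1942 := d16_1 D4058 (iv D1942) D1941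
theorem F6160 : act 6 n4058 = n3766 := d22_1 D4058 (iv D3766) F2940 (iv F3103)
def n4059 : Q := act 0 n1943
theorem D4059 : act 0 n1943 = n4059 := rfl
theorem F6161 : act 2 n4059 = n2863 := d1_2 (iv F4417) D4059 F4481
theorem F6162 : act 5 n4059 = n2862 := d4_2 F6148 D4059 (iv F6150)
def n4060 : Q := act 1 n1944
theorem D4060 : act 1 n1944 = n4060 := rfl
def n4061 : Q := act 3 n1944
theorem D4061 : act 3 n1944 = n4061 := rfl
theorem F6165 : act 2 n4061 = n3892 := d11_1 D4061 (iv D3892) (iv D1869) F1636 D952 D1941 D4056 F6156 (iv D3895) (iv D1871) (iv D923) F900 D480 D954 D1944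
def n4063 : Q := act 5 n1944
theorem D4063 : act 5 n1944 = n4063 := rfl
theorem F6167 : act 2 n4063 = n1946 := d13_1 D4063 (iv D1946) D1944
def n4064 : Q := act 5 n1945
theorem D4064 : act 5 n1945 = n4064 := rfl
theorem F6168 : act 4 n4064 = n1946 := d18_1 D4064 (iv D1946) D1945
def n4065 : Q := act 1 n1946
theorem D4065 : act 1 n1946 = n4065 := rfl
theorem F6169 : act 3 n4065 = n1947 := d7_2 (iv F3108) D4065 (iv D1947)
theorem F6170 : act 5 n4065 = n1985 := d9_2 D1946 D4065 (iv D1985) (iv D976) (iv F1671)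
def n4066 : Q := act 6 n1946
theorem D4066 : act 6 n1946 = n4066 := rfl
theorem F6171 : act 0 n4066 = n3766 := d5_1 D4066 (iv F6160) F6158
theorem F6172 : act 3 n4066 = n1948 := d17_1 D4066 (iv D1948) (iv F3108)
theorem F6173 : act 5 n4066 = n3763 := d20_1 D4066 F5762 D4058 F6160 (iv D3766) F2940 D1946
def n4067 : Q := act 0 n1947
theorem D4067 : act 0 n1947 = n4067 := rfl
theorem F6174 : act 5 n4067 = n1986 := d4_2 (iv F3109) D4067 (iv D1986)
def n4068 : Q := act 6 n1947
theorem D4068 : act 6 n1947 = n4068 := rfl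
def n4069 : Q := act 1 n1948
theorem D4069 : act 1 n1948 = n4069 := rfl
def n4070 : Q := act 1 n1949
theorem D4070 : act 1 n1949 = n4070 := rfl
def n4071 : Q := act 2 n1949
theorem D4071 : act 2 n1949 = n4071 := rfl
theorem F6175 : act 0 n4071 = n1950 := d1_1 D4071 (iv D1950) D1949
theorem F6176 : act 5 n4071 = n1954 := d13_2 (iv F3113) D4071 (iv D1954)
def n4072 : Q := act 3 n1950
theorem D4072 : act 3 n1950 = n4072 := rfl
theorem F6177 : act 5 n4072 = n1956 := d16_2 (iv F3114) D4072 (iv D1956)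
def n4073 : Q := act 6 n1950
theorem D4073 : act 6 n1950 = n4073 := rfl
theorem F6178 : act 2 n4073 = n1951 := d14_1 D4073 (iv D1951) D1950
theorem F6179 : act 1 n2300 = n4073 := d24_14 (iv D4073) F3114 F1676 F952 (iv F595) D595 D1186 F2000 (iv F3772) (iv D2396) (iv F3767) (iv D2393) D2394 F3770
theorem F6180 : act 6 n1974 = n2391 := d10_4 (iv F3647) F6179 (iv D4073) (iv F3147) (iv D2391)
theorem F6181 : act 2 n2391 = n4068 := d14_1 F6180 (iv D4068) (iv F3148)
theorem F6182 : act 5 n2391 = n4018 := d22_2 D1974 F6180 F6124 (iv D1973)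
theorem F6183 : act 0 n2391 = n4019 := d22_4 (iv D4019) F3089 D1974 F6180
def n4074 : Q := act 1 n1951
theorem D4074 : act 1 n1951 = n4074 := rfl
theorem F6184 : act 6 n4074 = n1952 := d10_2 D1951 D4074 (iv D1952) (iv D957) D956
def n4075 : Q := act 0 n1952
theorem D4075 : act 0 n1952 = n4075 := rfl
def n4076 : Q := act 2 n1952
theorem D4076 : act 2 n1952 = n4076 := rfl
def n4077 : Q := act 5 n1952
theorem D4077 : act 5 n1952 = n4077 := rfl
theorem F6185 : act 1 n4077 = n3760 := d9_1 D4077 (iv D3760) (iv D1812) (iv F1675) D1952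
def n4078 : Q := act 0 n1953
theorem D4078 : act 0 n1953 = n4078 := rfl
def n4079 : Q := act 2 n1953
theorem D4079 : act 2 n1953 = n4079 := rfl
def n4080 : Q := act 5 n1953
theorem D4080 : act 5 n1953 = n4080 := rfl
def n4081 : Q := act 6 n1953
theorem D4081 : act 6 n1953 = n4081 := rfl
def n4082 : Q := act 1 n1954
theorem D4082 : act 1 n1954 = n4082 := rfl
def n4083 : Q := act 3 n1954
theorem D4083 : act 3 n1954 = n4083 := rfl
theorem F6187 : act 0 n4083 = n1956 := d2_1 D4083 (iv D1956) (iv F3115)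
def n4084 : Q := act 6 n1954
theorem D4084 : act 6 n1954 = n4084 := rfl
theorem F6188 : act 0 n4084 = n1957 := d5_1 D4084 (iv D1957) (iv F3115)
theorem F6189 : act 2 n4084 = n1955 := d14_1 D4084 (iv D1955) D1954
theorem F6190 : act 5 n4084 = n4073 := d22_2 F6176 D4084 (iv D4073) (iv F6175)
def n4086 : Q := act 2 n1956
theorem D4086 : act 2 n1956 = n4086 := rfl
def n4087 : Q := act 4 n1956
theorem D4087 : act 4 n1956 = n4087 := rfl
theorem F6191 : act 1 n4087 = n1988 := d8_1 D4087 (iv D1988) (iv F3118)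
def n4088 : Q := act 6 n1956
theorem D4088 : act 6 n1956 = n4088 := rfl
theorem F6192 : act 1 n4088 = n2382 := d10_1 D4088 (iv D2382) F1968 (iv F1711) (iv F3118)
def n4090 : Q := act 1 n1958
theorem D4090 : act 1 n1958 = n4090 := rfl
theorem F6197 : act 5 n4090 = n3339 := d9_2 D1958 D4090 (iv D3339) (iv D1619) (iv F1677)
def n4091 : Q := act 1 n1959
theorem D4091 : act 1 n1959 = n4091 := rfl
def n4092 : Q := act 4 n1959
theorem D4092 : act 4 n1959 = n4092 := rfl
theorem F6198 : act 2 n4092 = n1960 := d12_1 D4092 (iv D1960) D1959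
theorem F6199 : act 5 n4092 = n2345 := d18_2 (iv F3123) D4092 (iv D2345)
def n4093 : Q := act 6 n1959
theorem D4093 : act 6 n1959 = n4093 := rfl
theorem F6200 : act 2 n4093 = n1961 := d14_1 D4093 (iv D1961) D1959
def n4094 : Q := act 6 n1960
theorem D4094 : act 6 n1960 = n4094 := rfl
theorem F6201 : act 3 n4094 = n1971 := d17_1 D4094 (iv D1971) (iv F3124)
theorem F6202 : act 4 n4094 = n1961 := d19_1 D4094 (iv D1961) D1960
def n4095 : Q := act 1 n1961
theorem D4095 : act 1 n1961 = n4095 := rfl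
theorem F6203 : act 3 n4095 = n1962 := d7_2 (iv F3126) D4095 (iv D1962)
def n4096 : Q := act 0 n1962
theorem D4096 : act 0 n1962 = n4096 := rfl
theorem F6204 : act 4 n4096 = n1973 := d3_2 (iv F3127) D4096 (iv D1973)
def n4097 : Q := act 5 n1962
theorem D4097 : act 5 n1962 = n4097 := rfl
theorem F6205 : act 1 n4097 = n3982 := d9_1 D4097 F6077 F3078 F1693 D1962
theorem F6206 : act 2 n4097 = n3979 := d13_1 D4097 F6069 F3139
theorem F6207 : act 4 n4097 = n1974 := d18_1 D4097 (iv D1974) (iv F3127)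
def n4098 : Q := act 2 n1963
theorem D4098 : act 2 n1963 = n4098 := rfl
theorem F6208 : act 0 n4098 = n2363 := d1_1 D4098 F3727 (iv F3128)
theorem F6209 : act 5 n4098 = n2359 := d13_2 (iv F3129) D4098 (iv D2359)
theorem F6210 : act 3 n4098 = n2363 := d21_1 D4098 F3727 F1957 F1082 F572 (iv F1082) (iv F1957) (iv F3128)
def n4099 : Q := act 4 n1963
theorem D4099 : act 4 n1963 = n4099 := rfl
theorem F6211 : act 0 n4099 = n2364 := d3_1 D4099 F3729 (iv F3128)
theorem F6212 : act 3 n4099 = n1975 := d15_1 D4099 (iv D1975) (iv D971) (iv F1682) D1963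
theorem F6213 : act 5 n4099 = n2360 := d18_2 (iv F3129) D4099 (iv D2360)
def n4101 : Q := act 3 n1964
theorem D4101 : act 3 n1964 = n4101 := rfl
theorem F6216 : act 1 n4101 = n1965 := d7_1 D4101 (iv D1965) D1964
def n4103 : Q := act 6 n1964
theorem D4103 : act 6 n1964 = n4103 := rfl
theorem F6219 : act 1 n4103 = n2358 := d10_1 D4103 (iv D2358) (iv D1147) (iv F1686) D1964
def n4104 : Q := act 2 n1965
theorem D4104 : act 2 n1965 = n4104 := rfl
theorem F6222 : act 0 n4104 = n1966 := d1_1 D4104 (iv D1966) (iv F3132)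
theorem F6223 : act 6 n4104 = n2359 := d14_2 (iv F3133) D4104 (iv D2359)
theorem F6224 : act 3 n4104 = n1966 := d21_1 D4104 (iv D1966) (iv D965) (iv D487) F492 D487 D965 (iv F3132)
def n4105 : Q := act 4 n1965
theorem D4105 : act 4 n1965 = n4105 := rfl
theorem F6225 : act 0 n4105 = n1967 := d3_1 D4105 (iv D1967) (iv F3132)
theorem F6226 : act 3 n4105 = n1980 := d15_1 D4105 (iv D1980) (iv D973) (iv F1685) D1965
theorem F6227 : act 6 n4105 = n2360 := d19_2 (iv F3133) D4105 (iv D2360)
def n4106 : Q := act 1 n1966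
theorem D4106 : act 1 n1966 = n4106 := rfl
def n4107 : Q := act 4 n1966
theorem D4107 : act 4 n1966 = n4107 := rfl
theorem F6228 : act 2 n4107 = n1967 := d12_1 D4107 (iv D1967) D1966
theorem F6229 : act 6 n4107 = n2362 := d19_2 (iv F3134) D4107 (iv D2362)
def n4108 : Q := act 5 n1966
theorem D4108 : act 5 n1966 = n4108 := rfl
theorem F6230 : act 2 n4108 = n1968 := d13_1 D4108 (iv D1968) D1966
theorem F6231 : act 6 n4108 = n4098 := d22_1 D4108 F6209 (iv F6223) F6222
def n4109 : Q := act 5 n1967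
theorem D4109 : act 5 n1967 = n4109 := rfl
theorem F6232 : act 3 n4109 = n1984 := d16_1 D4109 (iv D1984) (iv F3135)
theorem F6233 : act 4 n4109 = n1968 := d18_1 D4109 (iv D1968) D1967
theorem F6234 : act 6 n4109 = n4099 := d22_1 D4109 F6213 (iv F6227) F6225
def n4110 : Q := act 1 n1968
theorem D4110 : act 1 n1968 = n4110 := rfl
theorem F6235 : act 3 n4110 = n1969 := d7_2 (iv F3137) D4110 (iv D1969)
def n4111 : Q := act 0 n1969
theorem D4111 : act 0 n1969 = n4111 := rfl
theorem F6236 : act 2 n4111 = n4096 := d1_2 (iv F3139) D4111 (iv D4096)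
theorem F6237 : act 4 n4111 = n1986 := d3_2 (iv F3140) D4111 (iv D1986)
def n4112 : Q := act 6 n1969
theorem D4112 : act 6 n1969 = n4112 := rfl
theorem F6238 : act 1 n4112 = n3959 := d10_1 D4112 F6038 F3059 (iv F1690) D1969
theorem F6239 : act 2 n4112 = n3956 := d14_1 D4112 F6030 (iv F3139)
theorem F6240 : act 4 n4112 = n1987 := d19_1 D4112 (iv D1987) (iv F3140)
def n4113 : Q := act 2 n1970
theorem D4113 : act 2 n1970 = n4113 := rfl
theorem F6241 : act 0 n4113 = n2346 := d1_1 D4113 F3702 (iv F3141)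
theorem F6242 : act 5 n4113 = n4093 := d13_2 (iv F3142) D4113 F6200
theorem F6243 : act 6 n4113 = n2342 := d14_2 (iv F3143) D4113 (iv D2342)
theorem F6244 : act 3 n4113 = n2346 := d21_1 D4113 F3702 F1944 F1068 F567 (iv F1068) (iv F1944) (iv F3141)
def n4114 : Q := act 4 n1970
theorem D4114 : act 4 n1970 = n4114 := rfl
theorem F6245 : act 0 n4114 = n2347 := d3_1 D4114 F3704 (iv F3141)
theorem F6246 : act 3 n4114 = n1988 := d15_1 D4114 (iv D1988) (iv D978) (iv F1692) D1970
theorem F6247 : act 5 n4114 = n4094 := d18_2 (iv F3142) D4114 F6202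
theorem F6248 : act 6 n4114 = n2343 := d19_2 (iv F3143) D4114 (iv D2343)
def n4115 : Q := act 1 n1971
theorem D4115 : act 1 n1971 = n4115 := rfl
theorem F6249 : act 4 n4115 = n1972 := d8_2 (iv F3145) D4115 (iv D1972)
def n4116 : Q := act 0 n1972
theorem D4116 : act 0 n1972 = n4116 := rfl
theorem F6250 : act 3 n4116 = n1973 := d2_2 (iv F3146) D4116 (iv D1973)
def n4117 : Q := act 2 n1972
theorem D4117 : act 2 n1972 = n4117 := rfl
theorem F6251 : act 1 n4117 = n2388 := d6_1 D4117 (iv D2388) (iv D1162) (iv F1697) D1972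
def n4118 : Q := act 5 n1972
theorem D4118 : act 5 n1972 = n4118 := rfl
theorem F6252 : act 1 n4118 = n4072 := d9_1 D4118 F6177 F3118 F1710 D1972
theorem F6253 : act 3 n4118 = n1974 := d16_1 D4118 (iv D1974) (iv F3146)
def n4119 : Q := act 1 n1973
theorem D4119 : act 1 n1973 = n4119 := rfl
def n4120 : Q := act 5 n1973
theorem D4120 : act 5 n1973 = n4120 := rfl
theorem F6255 : act 2 n4120 = n4067 := d13_1 D4120 F6174 F3167
def n4121 : Q := act 1 n1976
theorem D4121 : act 1 n1976 = n4121 := rfl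
def n4126 : Q := act 4 n1977
theorem D4126 : act 4 n1977 = n4126 := rfl
theorem F6262 : act 1 n4126 = n1980 := d8_1 D4126 (iv D1980) (iv F3152)
def n4128 : Q := act 6 n1977
theorem D4128 : act 6 n1977 = n4128 := rfl
theorem F6264 : act 1 n4128 = n2409 := d10_1 D4128 (iv D2409) F1982 (iv F1703) (iv F3152)
def n4136 : Q := act 5 n1982
theorem D4136 : act 5 n1982 = n4136 := rfl
theorem F6275 : act 2 n4136 = n1984 := d13_1 D4136 (iv D1984) (iv F3158)
theorem F6276 : act 4 n4136 = n1983 := d18_1 D4136 (iv D1983) D1982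
def n4137 : Q := act 1 n1983
theorem D4137 : act 1 n1983 = n4137 := rfl
def n4138 : Q := act 1 n1984
theorem D4138 : act 1 n1984 = n4138 := rfl
theorem F6279 : act 4 n4138 = n1985 := d8_2 (iv F3164) D4138 (iv D1985)
def n4139 : Q := act 0 n1985
theorem D4139 : act 0 n1985 = n4139 := rfl
theorem F6280 : act 3 n4139 = n1986 := d2_2 (iv F3166) D4139 (iv D1986)
def n4140 : Q := act 2 n1985
theorem D4140 : act 2 n1985 = n4140 := rfl
def n4141 : Q := act 6 n1985
theorem D4141 : act 6 n1985 = n4141 := rfl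
theorem F6281 : act 1 n4141 = n4023 := d10_1 D4141 F6127 F3098 (iv F1707) D1985
theorem F6282 : act 3 n4141 = n1987 := d17_1 D4141 (iv D1987) (iv F3166)
def n4142 : Q := act 1 n1986
theorem D4142 : act 1 n1986 = n4142 := rfl
def n4143 : Q := act 6 n1986
theorem D4143 : act 6 n1986 = n4143 := rfl
theorem F6283 : act 0 n4143 = n1987 := d5_1 D4143 (iv D1987) D1986
theorem F6284 : act 2 n4143 = n4018 := d14_1 D4143 F6124 (iv F3167)
theorem F6285 : act 5 n4143 = n4068 := d22_2 F6174 D4143 (iv D4068) D4067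
def n4144 : Q := act 5 n1987
theorem D4144 : act 5 n1987 = n4144 := rfl
theorem F6286 : act 0 n4144 = n4068 := d4_1 D4144 (iv F6285) F6283
theorem F6287 : act 2 n4144 = n4019 := d13_1 D4144 (iv D4019) (iv F3169)
theorem F6288 : act 6 n4144 = n4067 := d20_2 D1987 D4144 F6174 D4143 F6285 (iv D4068) F3109
def n4172 : Q := act 3 n2000
theorem D4172 : act 3 n2000 = n4172 := rfl
theorem F6328 : act 2 n4172 = n2010 := d21_2 D2000 D4172 (iv D2010) (iv D990) (iv D502) D501 D986 F1731
def n4182 : Q := act 2 n2004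
theorem D4182 : act 2 n2004 = n4182 := rfl
def n4185 : Q := act 1 n2005
theorem D4185 : act 1 n2005 = n4185 := rfl
def n4189 : Q := act 2 n2007
theorem D4189 : act 2 n2007 = n4189 := rfl
theorem F6357 : act 1 n4189 = n2027 := d6_1 D4189 (iv D2027) (iv D997) (iv F1735) D2007
theorem F6358 : act 5 n4189 = n3662 := d13_2 F5551 D4189 F5621
def n4193 : Q := act 2 n2009
theorem D4193 : act 2 n2009 = n4193 := rfl
theorem F6359 : act 1 n4193 = n2031 := d6_1 D4193 (iv D2031) (iv D999) (iv F1737) D2009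
def n4195 : Q := act 4 n2010
theorem D4195 : act 4 n2010 = n4195 := rfl
theorem F6361 : act 1 n4195 = n4195 := d8_1 D4195 (iv D4195) F3206
def n4196 : Q := act 5 n2010
theorem D4196 : act 5 n2010 = n4196 := rfl
theorem F6363 : act 3 n4196 = n2012 := d16_1 D4196 (iv D2012) D2010
def n4197 : Q := act 6 n2010
theorem D4197 : act 6 n2010 = n4197 := rfl
theorem F6365 : act 3 n4197 = n2013 := d17_1 D4197 (iv D2013) D2010
def n4198 : Q := act 3 n2011
theorem D4198 : act 3 n2011 = n4198 := rfl
def n4199 : Q := act 5 n2011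
theorem D4199 : act 5 n2011 = n4199 := rfl
theorem F6369 : act 2 n4199 = n2015 := d13_1 D4199 (iv D2015) (iv F3209)
def n4200 : Q := act 6 n2011
theorem D4200 : act 6 n2011 = n4200 := rfl
theorem F6372 : act 2 n4200 = n2016 := d14_1 D4200 (iv D2016) (iv F3209)
def n4204 : Q := act 2 n2014
theorem D4204 : act 2 n2014 = n4204 := rfl
theorem F6379 : act 0 n4204 = n4204 := d1_1 D4204 (iv D4204) F3214
theorem F6380 : act 4 n4204 = n2020 := d12_2 (iv F3216) D4204 (iv D2020)
def n4205 : Q := act 5 n2014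
theorem D4205 : act 5 n2014 = n4205 := rfl
def n4206 : Q := act 6 n2014
theorem D4206 : act 6 n2014 = n4206 := rfl
theorem F6385 : act 3 n4206 = n2016 := d17_1 D4206 (iv D2016) D2014
def n4207 : Q := act 1 n2015
theorem D4207 : act 1 n2015 = n4207 := rfl
theorem F6388 : act 5 n4207 = n2036 := d9_2 D2015 D4207 (iv D2036) (iv D1001) (iv F1741)
def n4209 : Q := act 1 n2016
theorem D4209 : act 1 n2016 = n4209 := rfl
theorem F6392 : act 4 n4209 = n2019 := d8_2 (iv F3220) D4209 (iv D2019)
theorem F6393 : act 6 n4209 = n2037 := d10_2 D2016 D4209 (iv D2037) (iv D1002) (iv F1741)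
def n4214 : Q := act 0 n2019
theorem D4214 : act 0 n2019 = n4214 := rfl
theorem F6400 : act 3 n4214 = n2030 := d2_2 (iv F3226) D4214 (iv D2030)
theorem F6402 : act 1 n2609 = n4214 := d7_3 F6400 (iv F3630) (iv F4112)
def n4217 : Q := act 1 n2020
theorem D4217 : act 1 n2020 = n4217 := rfl
theorem F6405 : act 2 n4217 = n2044 := d6_2 D2020 D4217 (iv D2044) (iv D1005) (iv F1747)
def n4218 : Q := act 3 n2020
theorem D4218 : act 3 n2020 = n4218 := rfl
theorem F6406 : act 0 n4218 = n4218 := d2_1 D4218 (iv D4218) F3228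
def n4219 : Q := act 5 n2020
theorem D4219 : act 5 n2020 = n4219 := rfl
theorem F6408 : act 2 n4219 = n2021 := d13_1 D4219 (iv D2021) D2020
def n4220 : Q := act 6 n2020
theorem D4220 : act 6 n2020 = n4220 := rfl
theorem F6410 : act 2 n4220 = n2022 := d14_1 D4220 (iv D2022) D2020
def n4221 : Q := act 1 n2021
theorem D4221 : act 1 n2021 = n4221 := rfl
theorem F6411 : act 3 n4221 = n2023 := d7_2 (iv F3230) D4221 (iv D2023)
theorem F6412 : act 5 n4221 = n2048 := d9_2 D2021 D4221 (iv D2048) (iv D1006) (iv F1747)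
def n4223 : Q := act 1 n2022
theorem D4223 : act 1 n2022 = n4223 := rfl
theorem F6416 : act 3 n4223 = n2025 := d7_2 (iv F3232) D4223 (iv D2025)
theorem F6417 : act 6 n4223 = n2049 := d10_2 D2022 D4223 (iv D2049) (iv D1007) (iv F1747)
def n4224 : Q := act 0 n2023
theorem D4224 : act 0 n2023 = n4224 := rfl
theorem F6418 : act 4 n4224 = n2026 := d3_2 (iv F3233) D4224 (iv D2026)
theorem F6419 : act 5 n4224 = n2050 := d4_2 (iv F3234) D4224 (iv D2050)
theorem F6420 : act 1 n2725 = n4224 := d8_3 F6418 F3399 (iv F4250)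
def n4225 : Q := act 2 n2023
theorem D4225 : act 2 n2023 = n4225 := rfl
theorem F6422 : act 5 n4225 = n2051 := d13_2 (iv F3234) D4225 (iv D2051)
def n4226 : Q := act 6 n2023
theorem D4226 : act 6 n2023 = n4226 := rfl
def n4228 : Q := act 0 n2025
theorem D4228 : act 0 n2025 = n4228 := rfl
theorem F6425 : act 4 n4228 = n2030 := d3_2 (iv F3238) D4228 (iv D2030)
theorem F6426 : act 6 n4228 = n2053 := d5_2 (iv F3239) D4228 (iv D2053)
theorem F6427 : act 1 n2756 = n4228 := d8_3 F6425 (iv F3630) (iv F4309)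
def n4230 : Q := act 5 n2025
theorem D4230 : act 5 n2025 = n4230 := rfl
def n4231 : Q := act 3 n2027
theorem D4231 : act 3 n2027 = n4231 := rfl
theorem F6431 : act 5 n4231 = n2059 := d16_2 (iv F3241) D4231 (iv D2059)
def n4232 : Q := act 6 n2027
theorem D4232 : act 6 n2027 = n4232 := rfl
theorem F6432 : act 2 n4232 = n2028 := d14_1 D4232 (iv D2028) D2027
theorem F6433 : act 1 n4051 = n4232 := d24_14 (iv D4232) F3241 (iv F2873) D3665 F5630 (iv F2944) (iv D1819) (iv F2942) (iv D1816) (iv F1670) (iv D953) D951 D1939 D4051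
theorem E5 : n4051 = n4047 := ((c6_1 (iv F6146) F6433 F6432 (iv F4478) F6149 (iv D4049))).symm
theorem F6435 : act 1 n4047 = n4232 := (sb E5 F6433)
theorem E6 : n1939 = n1937 := ((((iv D4047)).symm.trans (sb E5 (iv D4051)))).symm
theorem F6436 : act 6 n4047 = n4043 := (sb E5 F6153)
theorem E7 : n4044 = n4042 := ((((iv F6142)).symm.trans (sb E6 (iv F6144)))).symm
theorem E8 : n4045 = n3761 := ((D4045).symm.trans (sb E6 (iv F5760)))
theorem E9 : n4048 = n951 := ((((iv D1937)).symm.trans (sb E6 (iv F6147)))).symm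
theorem E11 : n3971 = n3969 := ((((iv F6055)).symm.trans (sb E6 (iv F6057)))).symm
theorem F6438 : act 6 n4042 = n1936 := (sb E7 (iv D4044))
theorem F6439 : act 1 n3761 = n1937 := (sb E8 (iv D4045))
theorem F6440 : act 2 n3761 = n1940 := (sb E8 F6145)
theorem F6441 : act 6 n951 = n1937 := (sb E9 (iv D4048))
theorem F6443 : act 6 n3969 = n1903 := (sb E11 (iv D3971))
theorem E12 : n4055 = n3759 := (c14_3 D3761 F6440 D4055 (iv D3759))
theorem F6444 : act 6 n3759 = n1940 := (sb E12 (iv D4055))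
def n4233 : Q := act 2 n2029
theorem D4233 : act 2 n2029 = n4233 := rfl
theorem F6446 : act 6 n4233 = n4049 := d14_2 F4479 D4233 (iv F6149)
def n4234 : Q := act 2 n2030
theorem D4234 : act 2 n2030 = n4234 := rfl
theorem F6447 : act 0 n4234 = n2031 := d1_1 D4234 (iv D2031) D2030
theorem F6448 : act 6 n4234 = n2063 := d14_2 (iv F3242) D4234 (iv D2063)
def n4236 : Q := act 5 n2031
theorem D4236 : act 5 n2031 = n4236 := rfl
theorem F6450 : act 2 n4236 = n2032 := d13_1 D4236 (iv D2032) D2031
def n4237 : Q := act 1 n2033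
theorem D4237 : act 1 n2033 = n4237 := rfl
theorem F6451 : act 4 n4237 = n2044 := d8_2 (iv F3245) D4237 (iv D2044)
def n4238 : Q := act 3 n2033
theorem D4238 : act 3 n2033 = n4238 := rfl
theorem F6452 : act 0 n4238 = n2069 := d2_1 D4238 (iv D2069) (iv F3244)
theorem F6453 : act 2 n4238 = n2069 := d21_2 D2033 D4238 (iv D2069) (iv D1016) (iv D514) F531 D514 (iv F1756)
def n4239 : Q := act 5 n2033
theorem D4239 : act 5 n2033 = n4239 := rfl
theorem F6454 : act 0 n4239 = n2070 := d4_1 D4239 (iv D2070) (iv F3244)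
theorem F6455 : act 2 n4239 = n2034 := d13_1 D4239 (iv D2034) D2033
theorem F6456 : act 4 n4239 = n2046 := d18_1 D4239 (iv D2046) (iv F3245)
def n4240 : Q := act 6 n2033
theorem D4240 : act 6 n2033 = n4240 := rfl
theorem F6457 : act 0 n4240 = n2071 := d5_1 D4240 (iv D2071) (iv F3244)
theorem F6458 : act 2 n4240 = n2035 := d14_1 D4240 (iv D2035) D2033
theorem F6459 : act 4 n4240 = n2047 := d19_1 D4240 (iv D2047) (iv F3245)
def n4241 : Q := act 1 n2034
theorem D4241 : act 1 n2034 = n4241 := rfl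
theorem F6460 : act 3 n4241 = n2036 := d7_2 (iv F3247) D4241 (iv D2036)
def n4242 : Q := act 1 n2035
theorem D4242 : act 1 n2035 = n4242 := rfl
theorem F6462 : act 3 n4242 = n2037 := d7_2 (iv F3250) D4242 (iv D2037)
def n4245 : Q := act 6 n2036
theorem D4245 : act 6 n2036 = n4245 := rfl
def n4246 : Q := act 0 n2037
theorem D4246 : act 0 n2037 = n4246 := rfl
def n4248 : Q := act 5 n2037
theorem D4248 : act 5 n2037 = n4248 := rfl
def n4261 : Q := act 0 n2044
theorem D4261 : act 0 n2044 = n4261 := rfl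
def n4262 : Q := act 3 n2044
theorem D4262 : act 3 n2044 = n4262 := rfl
theorem F6498 : act 1 n4262 = n2045 := d7_1 D4262 (iv D2045) D2044
def n4263 : Q := act 5 n2044
theorem D4263 : act 5 n2044 = n4263 := rfl
def n4264 : Q := act 6 n2044
theorem D4264 : act 6 n2044 = n4264 := rfl
def n4265 : Q := act 4 n2045
theorem D4265 : act 4 n2045 = n4265 := rfl
theorem F6499 : act 0 n4265 = n2105 := d3_1 D4265 (iv D2105) (iv F3260)
theorem F6500 : act 2 n4265 = n3708 := d12_1 D4265 (iv D3708) (iv F3261)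
def n4266 : Q := act 5 n2045
theorem D4266 : act 5 n2045 = n4266 := rfl
theorem F6501 : act 0 n4266 = n2106 := d4_1 D4266 (iv D2106) (iv F3260)
theorem F6502 : act 2 n4266 = n3709 := d13_1 D4266 (iv D3709) (iv F3261)
theorem F6503 : act 3 n4266 = n2046 := d16_1 D4266 (iv D2046) D2045
def n4267 : Q := act 6 n2045
theorem D4267 : act 6 n2045 = n4267 := rfl
theorem F6504 : act 0 n4267 = n2107 := d5_1 D4267 (iv D2107) (iv F3260)
theorem F6505 : act 2 n4267 = n3710 := d14_1 D4267 (iv D3710) (iv F3261)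
theorem F6506 : act 3 n4267 = n2047 := d17_1 D4267 (iv D2047) D2045
def n4268 : Q := act 1 n2046
theorem D4268 : act 1 n2046 = n4268 := rfl
def n4269 : Q := act 1 n2047
theorem D4269 : act 1 n2047 = n4269 := rfl
def n4270 : Q := act 0 n2048
theorem D4270 : act 0 n2048 = n4270 := rfl
def n4271 : Q := act 2 n2048
theorem D4271 : act 2 n2048 = n4271 := rfl
def n4272 : Q := act 6 n2048
theorem D4272 : act 6 n2048 = n4272 := rfl
def n4273 : Q := act 0 n2049
theorem D4273 : act 0 n2049 = n4273 := rfl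
def n4274 : Q := act 2 n2049
theorem D4274 : act 2 n2049 = n4274 := rfl
def n4275 : Q := act 5 n2049
theorem D4275 : act 5 n2049 = n4275 := rfl
def n4276 : Q := act 1 n2050
theorem D4276 : act 1 n2050 = n4276 := rfl
theorem F6512 : act 5 n4276 = n2248 := d9_2 F6419 D4276 F3560 D2725 F6420
def n4277 : Q := act 2 n2050
theorem D4277 : act 2 n2050 = n4277 := rfl
def n4278 : Q := act 6 n2050
theorem D4278 : act 6 n2050 = n4278 := rfl
theorem F6518 : act 5 n4278 = n4226 := d22_2 F6419 D4278 (iv D4226) D4224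
def n4281 : Q := act 5 n2052
theorem D4281 : act 5 n2052 = n4281 := rfl
theorem F6523 : act 6 n4281 = n4224 := d20_2 D2052 D4281 F6419 D4278 F6518 (iv D4226) F3234
def n4282 : Q := act 1 n2053
theorem D4282 : act 1 n2053 = n4282 := rfl
theorem F6526 : act 6 n4282 = n2262 := d10_2 F6426 D4282 F3583 D2756 F6427
theorem F6527 : act 0 n2265 = n4282 := d5_3 F6526 (iv D2262) D2265
def n4283 : Q := act 2 n2053
theorem D4283 : act 2 n2053 = n4283 := rfl
theorem F6528 : act 0 n4283 = n2054 := d1_1 D4283 (iv D2054) D2053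
theorem F6529 : act 4 n4283 = n2063 := d12_2 (iv F3271) D4283 (iv D2063)
def n4284 : Q := act 5 n2053
theorem D4284 : act 5 n2053 = n4284 := rfl
theorem F6530 : act 0 n4284 = n2055 := d4_1 D4284 (iv D2055) D2053
theorem F6532 : act 6 n4284 = n4230 := d22_1 D4284 (iv D4230) F3239 D2053
def n4285 : Q := act 3 n2054
theorem D4285 : act 3 n2054 = n4285 := rfl
def n4286 : Q := act 5 n2054
theorem D4286 : act 5 n2054 = n4286 := rfl
theorem F6533 : act 2 n4286 = n2055 := d13_1 D4286 (iv D2055) D2054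
theorem F6534 : act 4 n4286 = n2066 := d18_1 D4286 (iv D2066) (iv F3272)
def n4287 : Q := act 6 n2055
theorem D4287 : act 6 n2055 = n4287 := rfl
theorem F6536 : act 4 n4287 = n2067 := d19_1 D4287 (iv D2067) (iv F3273)
theorem F6537 : act 5 n4287 = n4228 := d20_1 D4287 F6426 D4284 F6532 (iv D4230) F3239 D2055
theorem F6538 : act 1 n2733 = n4287 := d8_3 F6536 F4384 (iv F4265)
def n4288 : Q := act 2 n2056
theorem D4288 : act 2 n2056 = n4288 := rfl
theorem F6540 : act 5 n4288 = n2276 := d13_2 F3398 D4288 (iv D2276)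
def n4289 : Q := act 3 n2057
theorem D4289 : act 3 n2057 = n4289 := rfl
def n4290 : Q := act 6 n2057
theorem D4290 : act 6 n2057 = n4290 := rfl
theorem F6542 : act 0 n4290 = n2060 := d5_1 D4290 (iv D2060) (iv F3274)
theorem F6544 : act 5 n4290 = n4232 := d22_2 F5068 D4290 (iv D4232) (iv F5067)
def n4294 : Q := act 1 n2060
theorem D4294 : act 1 n2060 = n4294 := rfl
def n4295 : Q := act 5 n2060
theorem D4295 : act 5 n2060 = n4295 := rfl
theorem F6548 : act 6 n4295 = n3264 := d20_2 D2060 D4295 F5068 D4290 F6544 (iv D4232) F3241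
def n4296 : Q := act 2 n2062
theorem D4296 : act 2 n2062 = n4296 := rfl
theorem F6550 : act 6 n4296 = n2305 := d14_2 (iv F3631) D4296 (iv D2305)
def n4297 : Q := act 1 n2063
theorem D4297 : act 1 n2063 = n4297 := rfl
def n4298 : Q := act 3 n2063
theorem D4298 : act 3 n2063 = n4298 := rfl
theorem F6551 : act 0 n4298 = n2065 := d2_1 D4298 (iv D2065) (iv F3280)
def n4299 : Q := act 5 n2063
theorem D4299 : act 5 n2063 = n4299 := rfl
theorem F6553 : act 2 n4299 = n2064 := d13_1 D4299 (iv D2064) D2063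
theorem F6554 : act 6 n4299 = n4236 := d22_1 D4299 (iv D4236) F3243 (iv F3280)
def n4301 : Q := act 4 n2065
theorem D4301 : act 4 n2065 = n4301 := rfl
def n4302 : Q := act 5 n2065
theorem D4302 : act 5 n2065 = n4302 := rfl
theorem F6555 : act 3 n4302 = n2066 := d16_1 D4302 (iv D2066) D2065
def n4303 : Q := act 1 n2066
theorem D4303 : act 1 n2066 = n4303 := rfl
def n4304 : Q := act 6 n2066
theorem D4304 : act 6 n2066 = n4304 := rfl
theorem F6558 : act 5 n4304 = n4234 := d20_1 D4304 F6448 D4299 F6554 (iv D4236) F3243 D2066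
def n4305 : Q := act 0 n2068
theorem D4305 : act 0 n2068 = n4305 := rfl
theorem F6559 : act 2 n4305 = n2169 := d1_2 (iv F3286) D4305 (iv D2169)
theorem F6560 : act 4 n4305 = n2100 := d3_2 (iv F3287) D4305 (iv D2100)
def n4306 : Q := act 3 n2068
theorem D4306 : act 3 n2068 = n4306 := rfl
theorem F6561 : act 1 n4306 = n2069 := d7_1 D4306 (iv D2069) D2068
def n4307 : Q := act 5 n2068
theorem D4307 : act 5 n2068 = n4307 := rfl
theorem F6562 : act 2 n4307 = n2171 := d13_1 D4307 (iv D2171) (iv F3286)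
theorem F6563 : act 4 n4307 = n2102 := d18_1 D4307 (iv D2102) (iv F3287)
def n4308 : Q := act 6 n2068
theorem D4308 : act 6 n2068 = n4308 := rfl
theorem F6564 : act 2 n4308 = n2172 := d14_1 D4308 (iv D2172) (iv F3286)
theorem F6565 : act 4 n4308 = n2103 := d19_1 D4308 (iv D2103) (iv F3287)
def n4309 : Q := act 4 n2069
theorem D4309 : act 4 n2069 = n4309 := rfl
theorem F6566 : act 3 n4309 = n2105 := d15_1 D4309 (iv D2105) (iv D1032) (iv F1773) D2069
def n4310 : Q := act 5 n2069
theorem D4310 : act 5 n2069 = n4310 := rfl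
theorem F6567 : act 3 n4310 = n2070 := d16_1 D4310 (iv D2070) D2069
def n4311 : Q := act 6 n2069
theorem D4311 : act 6 n2069 = n4311 := rfl
theorem F6568 : act 3 n4311 = n2071 := d17_1 D4311 (iv D2071) D2069
def n4312 : Q := act 1 n2070
theorem D4312 : act 1 n2070 = n4312 := rfl
theorem F6569 : act 4 n4312 = n2108 := d8_2 (iv F3289) D4312 (iv D2108)
def n4313 : Q := act 6 n2070
theorem D4313 : act 6 n2070 = n4313 := rfl
theorem F6570 : act 2 n4313 = n2073 := d14_1 D4313 (iv D2073) (iv F3288)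
theorem F6571 : act 4 n4313 = n2109 := d19_1 D4313 (iv D2109) (iv F3289)
theorem F6572 : act 5 n4313 = n4240 := d22_2 D2070 D4313 (iv D4240) F3244
def n4314 : Q := act 1 n2071
theorem D4314 : act 1 n2071 = n4314 := rfl
theorem F6573 : act 4 n4314 = n2110 := d8_2 (iv F3291) D4314 (iv D2110)
def n4315 : Q := act 5 n2071
theorem D4315 : act 5 n2071 = n4315 := rfl
theorem F6574 : act 0 n4315 = n4313 := d4_1 D4315 F6572 F6457
theorem F6575 : act 2 n4315 = n2075 := d13_1 D4315 (iv D2075) (iv F3290)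
theorem F6576 : act 4 n4315 = n2111 := d18_1 D4315 (iv D2111) (iv F3291)
theorem F6577 : act 6 n4315 = n4239 := d20_2 D2071 D4315 (iv D4239) D4240 (iv F6572) (iv D4313) (iv D2070)
def n4316 : Q := act 0 n2072
theorem D4316 : act 0 n2072 = n4316 := rfl
theorem F6578 : act 3 n4316 = n2076 := d2_2 (iv F3292) D4316 (iv D2076)
theorem F6579 : act 4 n4316 = n2112 := d3_2 (iv F3293) D4316 (iv D2112)
theorem F6580 : act 5 n4316 = n2177 := d4_2 (iv F3294) D4316 (iv D2177)
def n4317 : Q := act 2 n2072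
theorem D4317 : act 2 n2072 = n4317 := rfl
theorem F6581 : act 4 n4317 = n2113 := d12_2 (iv F3293) D4317 (iv D2113)
theorem F6582 : act 5 n4317 = n2178 := d13_2 (iv F3294) D4317 (iv D2178)
def n4318 : Q := act 6 n2072
theorem D4318 : act 6 n2072 = n4318 := rfl
theorem F6583 : act 3 n4318 = n2078 := d17_1 D4318 (iv D2078) (iv F3292)
def n4319 : Q := act 1 n2073
theorem D4319 : act 1 n2073 = n4319 := rfl
theorem F6585 : act 3 n4319 = n2079 := d7_2 (iv F3295) D4319 (iv D2079)
theorem F6586 : act 4 n4319 = n2115 := d8_2 (iv F3296) D4319 (iv D2115)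
def n4320 : Q := act 0 n2074
theorem D4320 : act 0 n2074 = n4320 := rfl
theorem F6587 : act 3 n4320 = n2080 := d2_2 (iv F3298) D4320 (iv D2080)
theorem F6589 : act 6 n4320 = n2180 := d5_2 (iv F3300) D4320 (iv D2180)
def n4321 : Q := act 2 n2074
theorem D4321 : act 2 n2074 = n4321 := rfl
theorem F6590 : act 4 n4321 = n2117 := d12_2 (iv F3299) D4321 (iv D2117)
theorem F6591 : act 6 n4321 = n2181 := d14_2 (iv F3300) D4321 (iv D2181)
def n4322 : Q := act 5 n2074
theorem D4322 : act 5 n2074 = n4322 := rfl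
def n4323 : Q := act 1 n2075
theorem D4323 : act 1 n2075 = n4323 := rfl
theorem F6594 : act 3 n4323 = n2083 := d7_2 (iv F3302) D4323 (iv D2083)
theorem F6595 : act 4 n4323 = n2119 := d8_2 (iv F3303) D4323 (iv D2119)
def n4325 : Q := act 2 n2076
theorem D4325 : act 2 n2076 = n4325 := rfl
theorem F6597 : act 0 n4325 = n2077 := d1_1 D4325 (iv D2077) D2076
theorem F6598 : act 4 n4325 = n2085 := d12_2 (iv F3305) D4325 (iv D2085)
theorem F6599 : act 5 n4325 = n2184 := d13_2 (iv F3306) D4325 (iv D2184)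
def n4327 : Q := act 6 n2077
theorem D4327 : act 6 n2077 = n4327 := rfl
def n4328 : Q := act 1 n2078
theorem D4328 : act 1 n2078 = n4328 := rfl
theorem F6604 : act 4 n4328 = n2088 := d8_2 (iv F3310) D4328 (iv D2088)
theorem F6605 : act 6 n4328 = n2079 := d10_2 D2078 D4328 (iv D2079) (iv D1020) D1019
def n4329 : Q := act 0 n2079
theorem D4329 : act 0 n2079 = n4329 := rfl
theorem F6606 : act 4 n4329 = n2089 := d3_2 (iv F3311) D4329 (iv D2089)
def n4330 : Q := act 2 n2079
theorem D4330 : act 2 n2079 = n4330 := rfl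
theorem F6607 : act 1 n4330 = n4330 := d6_1 D4330 (iv D4330) (iv D2079) F1780 D2079
theorem F6608 : act 4 n4330 = n2090 := d12_2 (iv F3311) D4330 (iv D2090)
def n4331 : Q := act 5 n2079
theorem D4331 : act 5 n2079 = n4331 := rfl
theorem F6609 : act 1 n4331 = n4248 := d9_1 D4331 (iv D4248) (iv D2037) (iv F1782) D2079
theorem F6610 : act 4 n4331 = n2091 := d18_1 D4331 (iv D2091) (iv F3311)
def n4332 : Q := act 1 n2080
theorem D4332 : act 1 n2080 = n4332 := rfl
def n4333 : Q := act 2 n2080
theorem D4333 : act 2 n2080 = n4333 := rfl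
theorem F6613 : act 4 n4333 = n2093 := d12_2 (iv F3312) D4333 (iv D2093)
theorem F6614 : act 6 n4333 = n2190 := d14_2 (iv F3313) D4333 (iv D2190)
def n4334 : Q := act 3 n2081
theorem D4334 : act 3 n2081 = n4334 := rfl
theorem F6616 : act 6 n4334 = n2192 := d17_2 (iv F3316) D4334 (iv D2192)
def n4335 : Q := act 5 n2081
theorem D4335 : act 5 n2081 = n4335 := rfl
def n4336 : Q := act 1 n2082
theorem D4336 : act 1 n2082 = n4336 := rfl
theorem F6619 : act 4 n4336 = n2096 := d8_2 (iv F3317) D4336 (iv D2096)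
theorem F6620 : act 5 n4336 = n2083 := d9_2 D2082 D4336 (iv D2083) (iv D1022) D1021
def n4337 : Q := act 0 n2083
theorem D4337 : act 0 n2083 = n4337 := rfl
theorem F6621 : act 4 n4337 = n2097 := d3_2 (iv F3318) D4337 (iv D2097)
def n4338 : Q := act 2 n2083
theorem D4338 : act 2 n2083 = n4338 := rfl
theorem F6622 : act 1 n4338 = n4338 := d6_1 D4338 (iv D4338) (iv D2083) F1786 D2083
theorem F6623 : act 4 n4338 = n2098 := d12_2 (iv F3318) D4338 (iv D2098)
def n4339 : Q := act 6 n2083
theorem D4339 : act 6 n2083 = n4339 := rfl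
theorem F6624 : act 1 n4339 = n4245 := d10_1 D4339 (iv D4245) (iv D2036) (iv F1788) D2083
def n4344 : Q := act 3 n2085
theorem D4344 : act 3 n2085 = n4344 := rfl
def n4345 : Q := act 2 n2086
theorem D4345 : act 2 n2086 = n4345 := rfl
def n4348 : Q := act 1 n2087
theorem D4348 : act 1 n2087 = n4348 := rfl
def n4349 : Q := act 0 n2088
theorem D4349 : act 0 n2088 = n4349 := rfl
theorem F6639 : act 6 n4349 = n2089 := d5_2 (iv F3326) D4349 (iv D2089)
def n4350 : Q := act 2 n2088
theorem D4350 : act 2 n2088 = n4350 := rfl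
theorem F6640 : act 6 n4350 = n2090 := d14_2 (iv F3326) D4350 (iv D2090)
def n4351 : Q := act 5 n2088
theorem D4351 : act 5 n2088 = n4351 := rfl
theorem F6643 : act 6 n4351 = n2643 := d22_1 D4351 (iv F4155) (iv F6639) (iv D4349)
def n4352 : Q := act 1 n2089
theorem D4352 : act 1 n2089 = n4352 := rfl
def n4353 : Q := act 2 n2089
theorem D4353 : act 2 n2089 = n4353 := rfl
theorem F6646 : act 0 n4353 = n2090 := d1_1 D4353 (iv D2090) D2089
def n4354 : Q := act 3 n2090
theorem D4354 : act 3 n2090 = n4354 := rfl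
def n4355 : Q := act 5 n2090
theorem D4355 : act 5 n2090 = n4355 := rfl
theorem F6648 : act 2 n4355 = n2091 := d13_1 D4355 (iv D2091) D2090
def n4361 : Q := act 3 n2093
theorem D4361 : act 3 n2093 = n4361 := rfl
theorem F6658 : act 6 n4361 = n2214 := d17_2 (iv F3333) D4361 (iv D2214)
def n4362 : Q := act 2 n2094
theorem D4362 : act 2 n2094 = n4362 := rfl
def n4363 : Q := act 4 n2094
theorem D4363 : act 4 n2094 = n4363 := rfl
theorem F6661 : act 6 n4363 = n2218 := d19_2 (iv F3335) D4363 (iv D2218)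
def n4364 : Q := act 5 n2094
theorem D4364 : act 5 n2094 = n4364 := rfl
def n4365 : Q := act 1 n2095
theorem D4365 : act 1 n2095 = n4365 := rfl
def n4366 : Q := act 0 n2096
theorem D4366 : act 0 n2096 = n4366 := rfl
theorem F6664 : act 1 n4366 = n4349 := d0_2 D2096 D4366 (iv D4349) (iv D2088) (iv F1868) D2208 F3521 (iv D2222) F1878
theorem F6666 : act 5 n4366 = n2097 := d4_2 (iv F3338) D4366 (iv D2097)
def n4367 : Q := act 2 n2096
theorem D4367 : act 2 n2096 = n4367 := rfl
theorem F6667 : act 5 n4367 = n2098 := d13_2 (iv F3338) D4367 (iv D2098)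
def n4368 : Q := act 6 n2096
theorem D4368 : act 6 n2096 = n4368 := rfl
theorem F6668 : act 1 n4368 = n2595 := d10_1 D4368 (iv F4092) (iv D2216) F1875 D2096
theorem F6670 : act 5 n4368 = n2600 := d22_2 (iv F3338) D4368 (iv F4100) (iv D2097)
def n4370 : Q := act 2 n2097
theorem D4370 : act 2 n2097 = n4370 := rfl
theorem F6673 : act 0 n4370 = n2098 := d1_1 D4370 (iv D2098) D2097
def n4371 : Q := act 3 n2098
theorem D4371 : act 3 n2098 = n4371 := rfl
def n4372 : Q := act 6 n2098
theorem D4372 : act 6 n2098 = n4372 := rfl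
theorem F6675 : act 2 n4372 = n2099 := d14_1 D4372 (iv D2099) D2098
def n4374 : Q := act 1 n2100
theorem D4374 : act 1 n2100 = n4374 := rfl
def n4375 : Q := act 3 n2100
theorem D4375 : act 3 n2100 = n4375 := rfl
theorem F6679 : act 0 n4375 = n2101 := d2_1 D4375 (iv D2101) D2100
theorem F6680 : act 2 n4375 = n2101 := d21_2 (iv F3343) D4375 (iv D2101) F1801 F1030 F636 (iv F1030) D1087
def n4376 : Q := act 5 n2100
theorem D4376 : act 5 n2100 = n4376 := rfl
theorem F6681 : act 0 n4376 = n2102 := d4_1 D4376 (iv D2102) D2100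
theorem F6682 : act 2 n4376 = n2224 := d13_1 D4376 (iv D2224) (iv F3343)
def n4377 : Q := act 6 n2100
theorem D4377 : act 6 n2100 = n4377 := rfl
theorem F6683 : act 0 n4377 = n2103 := d5_1 D4377 (iv D2103) D2100
theorem F6684 : act 2 n4377 = n2225 := d14_1 D4377 (iv D2225) (iv F3343)
def n4378 : Q := act 4 n2101
theorem D4378 : act 4 n2101 = n4378 := rfl
theorem F6685 : act 1 n4378 = n2105 := d8_1 D4378 (iv D2105) (iv F3344)
def n4379 : Q := act 5 n2101
theorem D4379 : act 5 n2101 = n4379 := rfl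
theorem F6686 : act 3 n4379 = n2102 := d16_1 D4379 (iv D2102) D2101
def n4380 : Q := act 6 n2101
theorem D4380 : act 6 n2101 = n4380 := rfl
theorem F6687 : act 3 n4380 = n2103 := d17_1 D4380 (iv D2103) D2101
def n4381 : Q := act 1 n2102
theorem D4381 : act 1 n2102 = n4381 := rfl
theorem F6688 : act 5 n4381 = n2108 := d9_2 D2102 D4381 (iv D2108) (iv D1033) D1031
def n4382 : Q := act 6 n2102
theorem D4382 : act 6 n2102 = n4382 := rfl
theorem F6689 : act 2 n4382 = n2227 := d14_1 D4382 (iv D2227) (iv F3345)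
theorem F6690 : act 5 n4382 = n4377 := d22_2 D2102 D4382 (iv D4377) (iv D2100)
def n4383 : Q := act 1 n2103
theorem D4383 : act 1 n2103 = n4383 := rfl
theorem F6691 : act 6 n4383 = n2110 := d10_2 D2103 D4383 (iv D2110) (iv D1034) D1031
def n4384 : Q := act 5 n2103
theorem D4384 : act 5 n2103 = n4384 := rfl
theorem F6692 : act 0 n4384 = n4382 := d4_1 D4384 F6690 F6683
theorem F6693 : act 2 n4384 = n2229 := d13_1 D4384 (iv D2229) (iv F3346)
theorem F6694 : act 6 n4384 = n4376 := d20_2 D2103 D4384 (iv D4376) D4377 (iv F6690) (iv D4382) (iv D2102)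
def n4385 : Q := act 1 n2104
theorem D4385 : act 1 n2104 = n4385 := rfl
theorem F6695 : act 3 n4385 = n3651 := d7_2 (iv F3348) D4385 (iv D3651)
def n4386 : Q := act 4 n2104
theorem D4386 : act 4 n2104 = n4386 := rfl
theorem F6696 : act 0 n4386 = n3708 := d3_1 D4386 (iv D3708) (iv F3347)
theorem F6697 : act 2 n4386 = n2105 := d12_1 D4386 (iv D2105) D2104
def n4387 : Q := act 5 n2104
theorem D4387 : act 5 n2104 = n4387 := rfl
theorem F6698 : act 0 n4387 = n3709 := d4_1 D4387 (iv D3709) (iv F3347)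
theorem F6699 : act 2 n4387 = n2106 := d13_1 D4387 (iv D2106) D2104
theorem F6700 : act 3 n4387 = n3652 := d16_1 D4387 (iv D3652) (iv F3348)
def n4388 : Q := act 6 n2104
theorem D4388 : act 6 n2104 = n4388 := rfl
theorem F6701 : act 0 n4388 = n3710 := d5_1 D4388 (iv D3710) (iv F3347)
theorem F6702 : act 2 n4388 = n2107 := d14_1 D4388 (iv D2107) D2104
theorem F6703 : act 3 n4388 = n3653 := d17_1 D4388 (iv D3653) (iv F3348)
def n4389 : Q := act 5 n2105
theorem D4389 : act 5 n2105 = n4389 := rfl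
theorem F6704 : act 4 n4389 = n2106 := d18_1 D4389 (iv D2106) D2105
def n4390 : Q := act 6 n2105
theorem D4390 : act 6 n2105 = n4390 := rfl
theorem F6705 : act 4 n4390 = n2107 := d19_1 D4390 (iv D2107) D2105
def n4391 : Q := act 1 n2106
theorem D4391 : act 1 n2106 = n4391 := rfl
theorem F6706 : act 3 n4391 = n2108 := d7_2 (iv F3349) D4391 (iv D2108)
def n4392 : Q := act 6 n2106
theorem D4392 : act 6 n2106 = n4392 := rfl
theorem F6707 : act 3 n4392 = n2109 := d17_1 D4392 (iv D2109) (iv F3349)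
theorem F6708 : act 5 n4392 = n4267 := d22_2 D2106 D4392 (iv D4267) F3260
def n4393 : Q := act 1 n2107
theorem D4393 : act 1 n2107 = n4393 := rfl
theorem F6709 : act 3 n4393 = n2110 := d7_2 (iv F3350) D4393 (iv D2110)
def n4394 : Q := act 5 n2107
theorem D4394 : act 5 n2107 = n4394 := rfl
theorem F6710 : act 0 n4394 = n4392 := d4_1 D4394 F6708 F6504
theorem F6711 : act 3 n4394 = n2111 := d16_1 D4394 (iv D2111) (iv F3350)
theorem F6712 : act 6 n4394 = n4266 := d20_2 D2107 D4394 (iv D4266) D4267 (iv F6708) (iv D4392) (iv D2106)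
def n4395 : Q := act 0 n2108
theorem D4395 : act 0 n2108 = n4395 := rfl
def n4396 : Q := act 2 n2108
theorem D4396 : act 2 n2108 = n4396 := rfl
theorem F6713 : act 1 n4396 = n2113 := d6_1 D4396 (iv D2113) (iv D1035) (iv F1802) D2108
def n4397 : Q := act 6 n2108
theorem D4397 : act 6 n2108 = n4397 := rfl
def n4398 : Q := act 1 n2109
theorem D4398 : act 1 n2109 = n4398 := rfl
def n4399 : Q := act 0 n2110
theorem D4399 : act 0 n2110 = n4399 := rfl
def n4400 : Q := act 2 n2110
theorem D4400 : act 2 n2110 = n4400 := rfl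
theorem F6714 : act 1 n4400 = n2117 := d6_1 D4400 (iv D2117) (iv D1037) (iv F1803) D2110
def n4401 : Q := act 5 n2110
theorem D4401 : act 5 n2110 = n4401 := rfl
def n4402 : Q := act 1 n2111
theorem D4402 : act 1 n2111 = n4402 := rfl
def n4404 : Q := act 2 n2112
theorem D4404 : act 2 n2112 = n4404 := rfl
theorem F6716 : act 0 n4404 = n2113 := d1_1 D4404 (iv D2113) D2112
theorem F6717 : act 5 n4404 = n2237 := d13_2 (iv F3357) D4404 (iv D2237)
def n4405 : Q := act 3 n2113
theorem D4405 : act 3 n2113 = n4405 := rfl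
theorem F6718 : act 5 n4405 = n2239 := d16_2 (iv F3358) D4405 (iv D2239)
def n4406 : Q := act 6 n2113
theorem D4406 : act 6 n2113 = n4406 := rfl
theorem F6719 : act 2 n4406 = n2114 := d14_1 D4406 (iv D2114) D2113
def n4407 : Q := act 1 n2114
theorem D4407 : act 1 n2114 = n4407 := rfl
theorem F6720 : act 3 n4407 = n2124 := d7_2 (iv F3359) D4407 (iv D2124)
theorem F6721 : act 6 n4407 = n2115 := d10_2 D2114 D4407 (iv D2115) (iv D1036) D1035
def n4408 : Q := act 0 n2115
theorem D4408 : act 0 n2115 = n4408 := rfl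
theorem F6722 : act 3 n4408 = n2125 := d2_2 (iv F3360) D4408 (iv D2125)
def n4409 : Q := act 2 n2115
theorem D4409 : act 2 n2115 = n4409 := rfl
def n4410 : Q := act 5 n2115
theorem D4410 : act 5 n2115 = n4410 := rfl
theorem F6723 : act 1 n4410 = n4275 := d9_1 D4410 (iv D4275) (iv D2049) (iv F1807) D2115
theorem F6724 : act 3 n4410 = n2127 := d16_1 D4410 (iv D2127) (iv F3360)
def n4412 : Q := act 2 n2116
theorem D4412 : act 2 n2116 = n4412 := rfl
theorem F6726 : act 0 n4412 = n2117 := d1_1 D4412 (iv D2117) D2116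
theorem F6727 : act 6 n4412 = n2243 := d14_2 (iv F3362) D4412 (iv D2243)
def n4413 : Q := act 3 n2117
theorem D4413 : act 3 n2117 = n4413 := rfl
theorem F6728 : act 6 n4413 = n2245 := d17_2 (iv F3363) D4413 (iv D2245)
def n4414 : Q := act 5 n2117
theorem D4414 : act 5 n2117 = n4414 := rfl
theorem F6729 : act 2 n4414 = n2118 := d13_1 D4414 (iv D2118) D2117
def n4415 : Q := act 1 n2118
theorem D4415 : act 1 n2118 = n4415 := rfl
theorem F6730 : act 3 n4415 = n2132 := d7_2 (iv F3364) D4415 (iv D2132)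
theorem F6731 : act 5 n4415 = n2119 := d9_2 D2118 D4415 (iv D2119) (iv D1038) D1037
def n4416 : Q := act 0 n2119
theorem D4416 : act 0 n2119 = n4416 := rfl
theorem F6732 : act 3 n4416 = n2133 := d2_2 (iv F3365) D4416 (iv D2133)
def n4417 : Q := act 2 n2119
theorem D4417 : act 2 n2119 = n4417 := rfl
def n4418 : Q := act 6 n2119
theorem D4418 : act 6 n2119 = n4418 := rfl
theorem F6733 : act 1 n4418 = n4272 := d10_1 D4418 (iv D4272) (iv D2048) (iv F1812) D2119
def n4420 : Q := act 6 n2120
theorem D4420 : act 6 n2120 = n4420 := rfl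
def n4421 : Q := act 3 n2121
theorem D4421 : act 3 n2121 = n4421 := rfl
theorem F6742 : act 0 n4421 = n2122 := d2_1 D4421 (iv D2122) (iv F3368)
theorem F6744 : act 5 n4421 = n2253 := d16_2 (iv F3371) D4421 (iv D2253)
def n4422 : Q := act 2 n2122
theorem D4422 : act 2 n2122 = n4422 := rfl
theorem F6745 : act 5 n4422 = n2256 := d13_2 (iv F3372) D4422 (iv D2256)
def n4423 : Q := act 4 n2122
theorem D4423 : act 4 n2122 = n4423 := rfl
theorem F6746 : act 3 n4423 = n2140 := d15_1 D4423 (iv D2140) (iv D1049) (iv F1815) D2122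
theorem F6747 : act 5 n4423 = n2257 := d18_2 (iv F3372) D4423 (iv D2257)
def n4424 : Q := act 6 n2122
theorem D4424 : act 6 n2122 = n4424 := rfl
theorem F6748 : act 3 n4424 = n2123 := d17_1 D4424 (iv D2123) D2122
def n4425 : Q := act 1 n2123
theorem D4425 : act 1 n2123 = n4425 := rfl
theorem F6749 : act 4 n4425 = n2142 := d8_2 (iv F3374) D4425 (iv D2142)
def n4426 : Q := act 0 n2124
theorem D4426 : act 0 n2124 = n4426 := rfl
theorem F6751 : act 6 n4426 = n2125 := d5_2 (iv F3376) D4426 (iv D2125)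
def n4427 : Q := act 2 n2124
theorem D4427 : act 2 n2124 = n4427 := rfl
theorem F6753 : act 6 n4427 = n2126 := d14_2 (iv F3376) D4427 (iv D2126)
def n4428 : Q := act 5 n2124
theorem D4428 : act 5 n2124 = n4428 := rfl
theorem F6754 : act 1 n4428 = n2773 := d9_1 D4428 (iv F4340) (iv D2255) F1895 D2124
def n4429 : Q := act 1 n2125
theorem D4429 : act 1 n2125 = n4429 := rfl
def n4430 : Q := act 2 n2125
theorem D4430 : act 2 n2125 = n4430 := rfl
theorem F6759 : act 0 n4430 = n2126 := d1_1 D4430 (iv D2126) D2125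
def n4431 : Q := act 3 n2126
theorem D4431 : act 3 n2126 = n4431 := rfl
def n4432 : Q := act 5 n2126
theorem D4432 : act 5 n2126 = n4432 := rfl
theorem F6761 : act 2 n4432 = n2127 := d13_1 D4432 (iv D2127) D2126
def n4434 : Q := act 0 n2128
theorem D4434 : act 0 n2128 = n4434 := rfl
theorem F6766 : act 1 n4434 = n2265 := d0_2 D2128 D4434 F6527 (iv D4282) (iv D2053) (iv D1009) F980 D526 D1043
def n4438 : Q := act 3 n2129
theorem D4438 : act 3 n2129 = n4438 := rfl
theorem F6773 : act 0 n4438 = n2130 := d2_1 D4438 (iv D2130) (iv F3382)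
theorem F6774 : act 6 n4438 = n2267 := d17_2 (iv F3384) D4438 (iv D2267)
def n4439 : Q := act 2 n2130
theorem D4439 : act 2 n2130 = n4439 := rfl
theorem F6775 : act 6 n4439 = n2270 := d14_2 (iv F3385) D4439 (iv D2270)
def n4440 : Q := act 4 n2130
theorem D4440 : act 4 n2130 = n4440 := rfl
theorem F6776 : act 3 n4440 = n2158 := d15_1 D4440 (iv D2158) (iv D1057) (iv F1821) D2130
theorem F6777 : act 6 n4440 = n2271 := d19_2 (iv F3385) D4440 (iv D2271)
def n4441 : Q := act 5 n2130
theorem D4441 : act 5 n2130 = n4441 := rfl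
theorem F6778 : act 3 n4441 = n2131 := d16_1 D4441 (iv D2131) D2130
def n4442 : Q := act 1 n2131
theorem D4442 : act 1 n2131 = n4442 := rfl
theorem F6779 : act 4 n4442 = n2160 := d8_2 (iv F3387) D4442 (iv D2160)
def n4443 : Q := act 0 n2132
theorem D4443 : act 0 n2132 = n4443 := rfl
theorem F6780 : act 1 n4443 = n4426 := d0_2 D2132 D4443 (iv D4426) (iv D2124) (iv F1899) D2261 F3605 (iv D2275) F1911
theorem F6782 : act 5 n4443 = n2133 := d4_2 (iv F3389) D4443 (iv D2133)
def n4444 : Q := act 2 n2132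
theorem D4444 : act 2 n2132 = n4444 := rfl
theorem F6784 : act 5 n4444 = n2134 := d13_2 (iv F3389) D4444 (iv D2134)
def n4445 : Q := act 6 n2132
theorem D4445 : act 6 n2132 = n4445 := rfl
theorem F6785 : act 1 n4445 = n2742 := d10_1 D4445 (iv F4281) (iv D2269) F1907 D2132
theorem F6787 : act 5 n4445 = n2747 := d22_2 (iv F3389) D4445 (iv F4291) (iv D2133)
def n4446 : Q := act 1 n2133
theorem D4446 : act 1 n2133 = n4446 := rfl
theorem F6789 : act 6 n4446 = n2735 := d10_2 (iv F4291) D4446 F4268 (iv F2225) D2747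
def n4447 : Q := act 2 n2133
theorem D4447 : act 2 n2133 = n4447 := rfl
theorem F6790 : act 0 n4447 = n2134 := d1_1 D4447 (iv D2134) D2133
theorem F6791 : act 4 n4447 = n2165 := d12_2 (iv F3390) D4447 (iv D2165)
def n4448 : Q := act 3 n2134
theorem D4448 : act 3 n2134 = n4448 := rfl
def n4449 : Q := act 6 n2134
theorem D4449 : act 6 n2134 = n4449 := rfl
theorem F6792 : act 2 n4449 = n2135 := d14_1 D4449 (iv D2135) D2134
def n4451 : Q := act 2 n2138
theorem D4451 : act 2 n2138 = n4451 := rfl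
theorem F6797 : act 0 n4451 = n2139 := d1_1 D4451 (iv D2139) (iv F3402)
theorem F6798 : act 5 n4451 = n2288 := d13_2 (iv F3404) D4451 (iv D2288)
theorem F6799 : act 3 n4451 = n4345 := d21_1 D4451 (iv D4345) (iv D2086) (iv D1024) F988 D529 D1049 (iv F3402)
def n4452 : Q := act 4 n2138
theorem D4452 : act 4 n2138 = n4452 := rfl
theorem F6800 : act 0 n4452 = n2140 := d3_1 D4452 (iv D2140) (iv F3402)
theorem F6802 : act 5 n4452 = n2289 := d18_2 (iv F3404) D4452 (iv D2289)
def n4454 : Q := act 3 n2139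
theorem D4454 : act 3 n2139 = n4454 := rfl
theorem F6803 : act 0 n4454 = n4345 := d2_1 D4454 (iv F6799) F6797
theorem F6804 : act 2 n4454 = n4344 := d11_1 D4454 (iv D4344) (iv D2085) F1789 D1048 D2138 D4451 F6799 (iv D4345) (iv D2086) (iv D1024) F988 D529 D1049 D2139
def n4456 : Q := act 6 n2139
theorem D4456 : act 6 n2139 = n4456 := rfl
def n4457 : Q := act 6 n2140
theorem D4457 : act 6 n2140 = n4457 := rfl
theorem F6809 : act 4 n4457 = n2141 := d19_1 D4457 (iv D2141) D2140
def n4458 : Q := act 1 n2141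
theorem D4458 : act 1 n2141 = n4458 := rfl
theorem F6810 : act 3 n4458 = n2142 := d7_2 (iv F3407) D4458 (iv D2142)
def n4459 : Q := act 0 n2142
theorem D4459 : act 0 n2142 = n4459 := rfl
def n4460 : Q := act 2 n2142
theorem D4460 : act 2 n2142 = n4460 := rfl
theorem F6811 : act 1 n4460 = n2144 := d6_1 D4460 (iv D2144) (iv D1051) (iv F1830) D2142
def n4461 : Q := act 5 n2142
theorem D4461 : act 5 n2142 = n4461 := rfl
def n4462 : Q := act 2 n2143
theorem D4462 : act 2 n2143 = n4462 := rfl
theorem F6812 : act 0 n4462 = n2144 := d1_1 D4462 (iv D2144) D2143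
theorem F6813 : act 6 n4462 = n2147 := d14_2 (iv F3408) D4462 (iv D2147)
def n4463 : Q := act 3 n2144
theorem D4463 : act 3 n2144 = n4463 := rfl
theorem F6814 : act 6 n4463 = n2148 := d17_2 (iv F3409) D4463 (iv D2148)
def n4464 : Q := act 5 n2144
theorem D4464 : act 5 n2144 = n4464 := rfl
theorem F6815 : act 2 n4464 = n2145 := d13_1 D4464 (iv D2145) D2144
def n4467 : Q := act 3 n2147
theorem D4467 : act 3 n2147 = n4467 := rfl
def n4469 : Q := act 4 n2148
theorem D4469 : act 4 n2148 = n4469 := rfl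
def n4470 : Q := act 5 n2148
theorem D4470 : act 5 n2148 = n4470 := rfl
theorem F6819 : act 3 n4470 = n2149 := d16_1 D4470 (iv D2149) D2148
def n4471 : Q := act 1 n2149
theorem D4471 : act 1 n2149 = n4471 := rfl
def n4478 : Q := act 3 n2155
theorem D4478 : act 3 n2155 = n4478 := rfl
theorem F6829 : act 1 n4478 = n2156 := d7_1 D4478 (iv D2156) D2155
def n4481 : Q := act 2 n2156
theorem D4481 : act 2 n2156 = n4481 := rfl
theorem F6831 : act 0 n4481 = n2157 := d1_1 D4481 (iv D2157) (iv F3421)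
theorem F6832 : act 6 n4481 = n2318 := d14_2 (iv F3422) D4481 (iv D2318)
theorem F6833 : act 3 n4481 = n4362 := d21_1 D4481 (iv D4362) (iv D2094) (iv D1028) F993 D533 D1057 (iv F3421)
def n4482 : Q := act 4 n2156
theorem D4482 : act 4 n2156 = n4482 := rfl
theorem F6835 : act 6 n4482 = n2319 := d19_2 (iv F3422) D4482 (iv D2319)
def n4484 : Q := act 3 n2157
theorem D4484 : act 3 n2157 = n4484 := rfl
theorem F6836 : act 0 n4484 = n4362 := d2_1 D4484 (iv F6833) F6831
theorem F6837 : act 2 n4484 = n4361 := d11_1 D4484 (iv D4361) (iv D2093) F1795 D1056 D2156 D4481 F6833 (iv D4362) (iv D2094) (iv D1028) F993 D533 D1057 D2157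
theorem F6838 : act 6 n4484 = n2325 := d17_2 (iv F3423) D4484 (iv D2325)
def n4486 : Q := act 5 n2157
theorem D4486 : act 5 n2157 = n4486 := rfl
def n4487 : Q := act 5 n2158
theorem D4487 : act 5 n2158 = n4487 := rfl
def n4488 : Q := act 1 n2159
theorem D4488 : act 1 n2159 = n4488 := rfl
theorem F6843 : act 3 n4488 = n2160 := d7_2 (iv F3425) D4488 (iv D2160)
def n4489 : Q := act 0 n2160
theorem D4489 : act 0 n2160 = n4489 := rfl
def n4490 : Q := act 2 n2160
theorem D4490 : act 2 n2160 = n4490 := rfl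
theorem F6844 : act 1 n4490 = n2162 := d6_1 D4490 (iv D2162) (iv D1059) (iv F1836) D2160
theorem F6845 : act 5 n4490 = n2824 := d13_2 F5767 D4490 F5769
def n4491 : Q := act 6 n2160
theorem D4491 : act 6 n2160 = n4491 := rfl
def n4492 : Q := act 2 n2161
theorem D4492 : act 2 n2161 = n4492 := rfl
theorem F6847 : act 5 n4492 = n2165 := d13_2 (iv F3426) D4492 (iv D2165)
def n4493 : Q := act 3 n2162
theorem D4493 : act 3 n2162 = n4493 := rfl
theorem F6848 : act 5 n4493 = n2166 := d16_2 (iv F3427) D4493 (iv D2166)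
def n4496 : Q := act 1 n2165
theorem D4496 : act 1 n2165 = n4496 := rfl
def n4497 : Q := act 3 n2165
theorem D4497 : act 3 n2165 = n4497 := rfl
theorem F6852 : act 0 n4497 = n2166 := d2_1 D4497 (iv D2166) (iv F3434)
def n4498 : Q := act 2 n2166
theorem D4498 : act 2 n2166 = n4498 := rfl
def n4499 : Q := act 4 n2166
theorem D4499 : act 4 n2166 = n4499 := rfl
def n4502 : Q := act 5 n2167
theorem D4502 : act 5 n2167 = n4502 := rfl
theorem F6856 : act 2 n4502 = n2168 := d13_1 D4502 (iv D2168) (iv F3435)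
def n4503 : Q := act 1 n2169
theorem D4503 : act 1 n2169 = n4503 := rfl
theorem F6858 : act 4 n4503 = n2223 := d8_2 (iv F3440) D4503 (iv D2223)
def n4504 : Q := act 3 n2169
theorem D4504 : act 3 n2169 = n4504 := rfl
theorem F6859 : act 0 n4504 = n2170 := d2_1 D4504 (iv D2170) D2169
theorem F6860 : act 4 n4504 = n2482 := d15_2 (iv F3440) D4504 (iv D2482) F2044 (iv F1881)
def n4505 : Q := act 5 n2169
theorem D4505 : act 5 n2169 = n4505 := rfl
theorem F6861 : act 0 n4505 = n2171 := d4_1 D4505 (iv D2171) D2169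
theorem F6862 : act 4 n4505 = n2224 := d18_1 D4505 (iv D2224) (iv F3440)
def n4506 : Q := act 6 n2169
theorem D4506 : act 6 n2169 = n4506 := rfl
theorem F6863 : act 0 n4506 = n2172 := d5_1 D4506 (iv D2172) D2169
theorem F6864 : act 4 n4506 = n2225 := d19_1 D4506 (iv D2225) (iv F3440)
def n4507 : Q := act 2 n2170
theorem D4507 : act 2 n2170 = n4507 := rfl
theorem F6865 : act 1 n4507 = n4507 := d6_1 D4507 (iv D4507) F3441 F1841 (iv F3441)
theorem F6866 : act 4 n4507 = n2485 := d12_2 (iv F3442) D4507 (iv D2485)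
def n4508 : Q := act 5 n2170
theorem D4508 : act 5 n2170 = n4508 := rfl
theorem F6867 : act 3 n4508 = n2171 := d16_1 D4508 (iv D2171) D2170
theorem F6868 : act 4 n4508 = n2486 := d18_1 D4508 (iv D2486) (iv F3442)
def n4509 : Q := act 6 n2170
theorem D4509 : act 6 n2170 = n4509 := rfl
theorem F6869 : act 3 n4509 = n2172 := d17_1 D4509 (iv D2172) D2170
theorem F6870 : act 4 n4509 = n2487 := d19_1 D4509 (iv D2487) (iv F3442)
def n4510 : Q := act 1 n2171
theorem D4510 : act 1 n2171 = n4510 := rfl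
theorem F6871 : act 4 n4510 = n2226 := d8_2 (iv F3443) D4510 (iv D2226)
theorem F6872 : act 5 n4510 = n2175 := d9_2 D2171 D4510 (iv D2175) (iv D1065) D1063
def n4511 : Q := act 6 n2171
theorem D4511 : act 6 n2171 = n4511 := rfl
theorem F6873 : act 4 n4511 = n2227 := d19_1 D4511 (iv D2227) (iv F3443)
theorem F6874 : act 5 n4511 = n4506 := d22_2 D2171 D4511 (iv D4506) (iv D2169)
def n4512 : Q := act 1 n2172
theorem D4512 : act 1 n2172 = n4512 := rfl
theorem F6875 : act 4 n4512 = n2228 := d8_2 (iv F3444) D4512 (iv D2228)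
theorem F6876 : act 6 n4512 = n2176 := d10_2 D2172 D4512 (iv D2176) (iv D1066) D1063
def n4513 : Q := act 5 n2172
theorem D4513 : act 5 n2172 = n4513 := rfl
theorem F6877 : act 0 n4513 = n4511 := d4_1 D4513 F6874 F6863
theorem F6878 : act 4 n4513 = n2229 := d18_1 D4513 (iv D2229) (iv F3444)
theorem F6879 : act 6 n4513 = n4505 := d20_2 D2172 D4513 (iv D4505) D4506 (iv F6874) (iv D4511) (iv D2171)
def n4514 : Q := act 1 n2173
theorem D4514 : act 1 n2173 = n4514 := rfl
theorem F6880 : act 3 n4514 = n2175 := d7_2 (iv F3447) D4514 (iv D2175)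
theorem F6881 : act 4 n4514 = n2492 := d8_2 (iv F3448) D4514 (iv D2492)
def n4515 : Q := act 1 n2174
theorem D4515 : act 1 n2174 = n4515 := rfl
theorem F6882 : act 3 n4515 = n2176 := d7_2 (iv F3451) D4515 (iv D2176)
theorem F6883 : act 4 n4515 = n2494 := d8_2 (iv F3452) D4515 (iv D2494)
def n4516 : Q := act 0 n2175
theorem D4516 : act 0 n2175 = n4516 := rfl
theorem F6884 : act 4 n4516 = n2230 := d3_2 (iv F3453) D4516 (iv D2230)
def n4517 : Q := act 2 n2175
theorem D4517 : act 2 n2175 = n4517 := rfl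
theorem F6885 : act 1 n4517 = n2178 := d6_1 D4517 (iv D2178) (iv D1067) (iv F1844) D2175
theorem F6886 : act 4 n4517 = n2231 := d12_2 (iv F3453) D4517 (iv D2231)
def n4518 : Q := act 6 n2175
theorem D4518 : act 6 n2175 = n4518 := rfl
theorem F6887 : act 4 n4518 = n2232 := d19_1 D4518 (iv D2232) (iv F3453)
def n4519 : Q := act 0 n2176
theorem D4519 : act 0 n2176 = n4519 := rfl
theorem F6888 : act 4 n4519 = n2233 := d3_2 (iv F3454) D4519 (iv D2233)
def n4520 : Q := act 2 n2176
theorem D4520 : act 2 n2176 = n4520 := rfl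
theorem F6889 : act 1 n4520 = n2181 := d6_1 D4520 (iv D2181) (iv D1068) (iv F1847) D2176
theorem F6890 : act 4 n4520 = n2234 := d12_2 (iv F3454) D4520 (iv D2234)
def n4521 : Q := act 5 n2176
theorem D4521 : act 5 n2176 = n4521 := rfl
theorem F6891 : act 4 n4521 = n2235 := d18_1 D4521 (iv D2235) (iv F3454)
def n4522 : Q := act 1 n2177
theorem D4522 : act 1 n2177 = n4522 := rfl
theorem F6892 : act 3 n4522 = n2183 := d7_2 (iv F3455) D4522 (iv D2183)
def n4523 : Q := act 2 n2177
theorem D4523 : act 2 n2177 = n4523 := rfl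
theorem F6894 : act 0 n4523 = n2178 := d1_1 D4523 (iv D2178) D2177
theorem F6895 : act 4 n4523 = n2237 := d12_2 (iv F3456) D4523 (iv D2237)
def n4524 : Q := act 6 n2177
theorem D4524 : act 6 n2177 = n4524 := rfl
theorem F6896 : act 0 n4524 = n2179 := d5_1 D4524 (iv D2179) D2177
theorem F6897 : act 3 n4524 = n2185 := d17_1 D4524 (iv D2185) (iv F3455)
theorem F6898 : act 4 n4524 = n2238 := d19_1 D4524 (iv D2238) (iv F3456)
theorem F6899 : act 5 n4524 = n4318 := d22_2 F6580 D4524 (iv D4318) D4316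
def n4525 : Q := act 3 n2178
theorem D4525 : act 3 n2178 = n4525 := rfl
def n4526 : Q := act 6 n2178
theorem D4526 : act 6 n2178 = n4526 := rfl
theorem F6900 : act 2 n4526 = n2179 := d14_1 D4526 (iv D2179) D2178
theorem F6901 : act 4 n4526 = n2240 := d19_1 D4526 (iv D2240) (iv F3457)
def n4527 : Q := act 5 n2179
theorem D4527 : act 5 n2179 = n4527 := rfl
theorem F6903 : act 3 n4527 = n2188 := d16_1 D4527 (iv D2188) (iv F3458)
def n4528 : Q := act 1 n2180
theorem D4528 : act 1 n2180 = n4528 := rfl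
theorem F6906 : act 3 n4528 = n2189 := d7_2 (iv F3460) D4528 (iv D2189)
def n4529 : Q := act 2 n2180
theorem D4529 : act 2 n2180 = n4529 := rfl
theorem F6908 : act 0 n4529 = n2181 := d1_1 D4529 (iv D2181) D2180
theorem F6909 : act 4 n4529 = n2243 := d12_2 (iv F3461) D4529 (iv D2243)
def n4530 : Q := act 5 n2180
theorem D4530 : act 5 n2180 = n4530 := rfl
theorem F6910 : act 0 n4530 = n2182 := d4_1 D4530 (iv D2182) D2180
theorem F6911 : act 3 n4530 = n2191 := d16_1 D4530 (iv D2191) (iv F3460)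
theorem F6912 : act 4 n4530 = n2244 := d18_1 D4530 (iv D2244) (iv F3461)
theorem F6913 : act 6 n4530 = n4322 := d22_1 D4530 (iv D4322) F3300 D2180
def n4531 : Q := act 3 n2181
theorem D4531 : act 3 n2181 = n4531 := rfl
def n4532 : Q := act 5 n2181
theorem D4532 : act 5 n2181 = n4532 := rfl
theorem F6914 : act 2 n4532 = n2182 := d13_1 D4532 (iv D2182) D2181
theorem F6915 : act 4 n4532 = n2246 := d18_1 D4532 (iv D2246) (iv F3462)
def n4536 : Q := act 5 n2183
theorem D4536 : act 5 n2183 = n4536 := rfl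
def n4537 : Q := act 6 n2183
theorem D4537 : act 6 n2183 = n4537 := rfl
def n4539 : Q := act 3 n2184
theorem D4539 : act 3 n2184 = n4539 := rfl
theorem F6926 : act 0 n4539 = n2186 := d2_1 D4539 (iv D2186) (iv F3466)
def n4540 : Q := act 6 n2184
theorem D4540 : act 6 n2184 = n4540 := rfl
theorem F6928 : act 2 n4540 = n2185 := d14_1 D4540 (iv D2185) D2184
theorem F6930 : act 5 n4540 = n4327 := d22_2 F6599 D4540 (iv D4327) (iv F6597)
def n4541 : Q := act 1 n2185
theorem D4541 : act 1 n2185 = n4541 := rfl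
theorem F6931 : act 4 n4541 = n2202 := d8_2 (iv F3469) D4541 (iv D2202)
def n4542 : Q := act 2 n2186
theorem D4542 : act 2 n2186 = n4542 := rfl
def n4544 : Q := act 6 n2186
theorem D4544 : act 6 n2186 = n4544 := rfl
theorem F6934 : act 3 n4544 = n2187 := d17_1 D4544 (iv D2187) D2186
def n4545 : Q := act 1 n2187
theorem D4545 : act 1 n2187 = n4545 := rfl
theorem F6935 : act 4 n4545 = n2206 := d8_2 (iv F3473) D4545 (iv D2206)
def n4546 : Q := act 5 n2187
theorem D4546 : act 5 n2187 = n4546 := rfl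
theorem F6940 : act 6 n4546 = n4325 := d20_2 D2187 D4546 F6599 D4540 F6930 (iv D4327) F3309
def n4547 : Q := act 1 n2188
theorem D4547 : act 1 n2188 = n4547 := rfl
theorem F6941 : act 4 n4547 = n2208 := d8_2 (iv F3475) D4547 (iv D2208)
def n4549 : Q := act 2 n2189
theorem D4549 : act 2 n2189 = n4549 := rfl
theorem F6944 : act 4 n4549 = n2210 := d12_2 (iv F3477) D4549 (iv D2210)
def n4550 : Q := act 5 n2189
theorem D4550 : act 5 n2189 = n4550 := rfl
def n4553 : Q := act 3 n2190
theorem D4553 : act 3 n2190 = n4553 := rfl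
theorem F6948 : act 0 n4553 = n2192 := d2_1 D4553 (iv D2192) (iv F3478)
def n4554 : Q := act 5 n2190
theorem D4554 : act 5 n2190 = n4554 := rfl
theorem F6950 : act 2 n4554 = n2191 := d13_1 D4554 (iv D2191) D2190
theorem F6951 : act 4 n4554 = n2215 := d18_1 D4554 (iv D2215) (iv F3479)
theorem F6952 : act 6 n4554 = n4335 := d22_1 D4554 (iv D4335) F3316 (iv F3478)
def n4555 : Q := act 1 n2191
theorem D4555 : act 1 n2191 = n4555 := rfl
theorem F6953 : act 4 n4555 = n2216 := d8_2 (iv F3481) D4555 (iv D2216)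
def n4556 : Q := act 2 n2192
theorem D4556 : act 2 n2192 = n4556 := rfl
def n4558 : Q := act 5 n2192
theorem D4558 : act 5 n2192 = n4558 := rfl
theorem F6956 : act 3 n4558 = n2193 := d16_1 D4558 (iv D2193) D2192
def n4559 : Q := act 1 n2193
theorem D4559 : act 1 n2193 = n4559 := rfl
theorem F6958 : act 5 n4559 = n2554 := d9_2 D2193 D4559 (iv D2554) (iv D1240) (iv F1858)
def n4560 : Q := act 6 n2193
theorem D4560 : act 6 n2193 = n4560 := rfl
theorem F6961 : act 4 n4560 = n2221 := d19_1 D4560 (iv D2221) (iv F3485)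
theorem F6962 : act 5 n4560 = n4333 := d20_1 D4560 F6614 D4554 F6952 (iv D4335) F3316 D2193
def n4561 : Q := act 1 n2194
theorem D4561 : act 1 n2194 = n4561 := rfl
theorem F6963 : act 4 n4561 = n2222 := d8_2 (iv F3487) D4561 (iv D2222)
theorem F6964 : act 0 n4547 = n4561 := d3_3 F6963 (iv F3521) (iv F6941)
def n4569 : Q := act 1 n2198
theorem D4569 : act 1 n2198 = n4569 := rfl
theorem F6975 : act 6 n4569 = n2202 := d10_2 D2198 D4569 (iv D2202) (iv D1077) D1075
theorem F6976 : act 5 n2636 = n4569 := d22_0 F6975 F4148 (iv D2639) D2636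
theorem F6977 : act 0 n4569 = n2638 := d22_4 (iv D2638) D2639 (iv F4148) (iv F6975)
def n4570 : Q := act 5 n2198
theorem D4570 : act 5 n2198 = n4570 := rfl
def n4571 : Q := act 0 n2199
theorem D4571 : act 0 n2199 = n4571 := rfl
def n4577 : Q := act 1 n2201
theorem D4577 : act 1 n2201 = n4577 := rfl
def n4578 : Q := act 0 n2202
theorem D4578 : act 0 n2202 = n4578 := rfl
theorem F6988 : act 6 n4578 = n2638 := d5_2 F6975 D4578 (iv F6977)
def n4579 : Q := act 2 n2202
theorem D4579 : act 2 n2202 = n4579 := rfl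
def n4580 : Q := act 1 n2203
theorem D4580 : act 1 n2203 = n4580 := rfl
theorem F6989 : act 2 n4580 = n2575 := d6_2 D2203 D4580 F4068 F2120 (iv F1866)
def n4584 : Q := act 1 n2205
theorem D4584 : act 1 n2205 = n4584 := rfl
theorem F6993 : act 3 n4584 = n2206 := d7_2 (iv F3499) D4584 (iv D2206)
def n4586 : Q := act 0 n2206
theorem D4586 : act 0 n2206 = n4586 := rfl
def n4587 : Q := act 5 n2206
theorem D4587 : act 5 n2206 = n4587 := rfl
def n4588 : Q := act 1 n2207
theorem D4588 : act 1 n2207 = n4588 := rfl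
def n4589 : Q := act 2 n2208
theorem D4589 : act 2 n2208 = n4589 := rfl
def n4597 : Q := act 1 n2211
theorem D4597 : act 1 n2211 = n4597 := rfl
theorem F7010 : act 5 n4597 = n2216 := d9_2 D2211 D4597 (iv D2216) (iv D1083) D1081
theorem F7011 : act 0 n2596 = n4597 := d22_4 F7010 F4092 (iv D2595) D2596
theorem F7012 : act 6 n2593 = n4597 := d24_0 F7010 (iv D2216) F1875 (iv D1029) (iv D519) (iv D264) D263 D517 D1025 (iv F1865) D2202 (iv F6975) (iv F6976) F4144
def n4600 : Q := act 0 n2213
theorem D4600 : act 0 n2213 = n4600 := rfl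
def n4602 : Q := act 5 n2213
theorem D4602 : act 5 n2213 = n4602 := rfl
def n4604 : Q := act 4 n2214
theorem D4604 : act 4 n2214 = n4604 := rfl
theorem F7020 : act 0 n4604 = n2218 := d3_1 D4604 (iv D2218) (iv F3509)
def n4605 : Q := act 5 n2214
theorem D4605 : act 5 n2214 = n4605 := rfl
theorem F7022 : act 3 n4605 = n2215 := d16_1 D4605 (iv D2215) D2214
theorem F7023 : act 6 n4605 = n4364 := d22_1 D4605 (iv D4364) F3335 (iv F3509)
def n4606 : Q := act 1 n2215
theorem D4606 : act 1 n2215 = n4606 := rfl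
def n4607 : Q := act 0 n2216
theorem D4607 : act 0 n2216 = n4607 := rfl
theorem F7026 : act 5 n4607 = n2596 := d4_2 F7010 D4607 F7011
def n4608 : Q := act 2 n2216
theorem D4608 : act 2 n2216 = n4608 := rfl
def n4609 : Q := act 1 n2217
theorem D4609 : act 1 n2217 = n4609 := rfl
theorem F7027 : act 2 n4609 = n2618 := d6_2 D2217 D4609 F4123 F2146 (iv F1876)
def n4610 : Q := act 4 n2217
theorem D4610 : act 4 n2217 = n4610 := rfl
theorem F7028 : act 2 n4610 = n2218 := d12_1 D4610 (iv D2218) D2217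
def n4611 : Q := act 5 n2217
theorem D4611 : act 5 n2217 = n4611 := rfl
theorem F7029 : act 2 n4611 = n2219 := d13_1 D4611 (iv D2219) D2217
def n4614 : Q := act 6 n2219
theorem D4614 : act 6 n2219 = n4614 := rfl
theorem F7034 : act 3 n4614 = n2221 := d17_1 D4614 (iv D2221) (iv F3515)
theorem F7035 : act 5 n4614 = n4361 := d20_1 D4614 F6658 D4605 F7023 (iv D4364) F3335 D2219
def n4615 : Q := act 0 n2220
theorem D4615 : act 0 n2220 = n4615 := rfl
theorem F7036 : act 5 n4615 = n2629 := d4_2 (iv F3516) D4615 (iv D2629)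
def n4616 : Q := act 6 n2220
theorem D4616 : act 6 n2220 = n4616 := rfl
def n4617 : Q := act 1 n2221
theorem D4617 : act 1 n2221 = n4617 := rfl
def n4618 : Q := act 2 n2222
theorem D4618 : act 2 n2222 = n4618 := rfl
theorem F7037 : act 0 n4618 = n4589 := d1_1 D4618 (iv D4589) F3521
def n4620 : Q := act 0 n2223
theorem D4620 : act 0 n2223 = n4620 := rfl
theorem F7041 : act 1 n4620 = n2650 := d0_2 D2223 D4620 (iv D2650) (iv D1285) (iv D644) (iv D327) (iv F554) D547 D1087
theorem F7042 : act 3 n4620 = n2650 := d2_2 (iv F3522) D4620 (iv D2650)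
def n4621 : Q := act 2 n2223
theorem D4621 : act 2 n2223 = n4621 := rfl
def n4622 : Q := act 5 n2223
theorem D4622 : act 5 n2223 = n4622 := rfl
theorem F7043 : act 3 n4622 = n2652 := d16_1 D4622 (iv D2652) (iv F3522)
def n4623 : Q := act 6 n2223
theorem D4623 : act 6 n2223 = n4623 := rfl
theorem F7044 : act 3 n4623 = n2653 := d17_1 D4623 (iv D2653) (iv F3522)
def n4624 : Q := act 1 n2224
theorem D4624 : act 1 n2224 = n4624 := rfl
theorem F7045 : act 3 n4624 = n2654 := d7_2 (iv F3524) D4624 (iv D2654)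
def n4625 : Q := act 1 n2225
theorem D4625 : act 1 n2225 = n4625 := rfl
theorem F7046 : act 3 n4625 = n2655 := d7_2 (iv F3526) D4625 (iv D2655)
def n4626 : Q := act 0 n2226
theorem D4626 : act 0 n2226 = n4626 := rfl
theorem F7047 : act 3 n4626 = n2656 := d2_2 (iv F3527) D4626 (iv D2656)
theorem F7048 : act 5 n4626 = n2230 := d4_2 (iv F3528) D4626 (iv D2230)
def n4627 : Q := act 2 n2226
theorem D4627 : act 2 n2226 = n4627 := rfl
theorem F7049 : act 5 n4627 = n2231 := d13_2 (iv F3528) D4627 (iv D2231)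
def n4628 : Q := act 6 n2226
theorem D4628 : act 6 n2226 = n4628 := rfl
theorem F7050 : act 3 n4628 = n2658 := d17_1 D4628 (iv D2658) (iv F3527)
def n4629 : Q := act 1 n2227
theorem D4629 : act 1 n2227 = n4629 := rfl
theorem F7051 : act 3 n4629 = n2659 := d7_2 (iv F3529) D4629 (iv D2659)
def n4630 : Q := act 0 n2228
theorem D4630 : act 0 n2228 = n4630 := rfl
theorem F7052 : act 3 n4630 = n2660 := d2_2 (iv F3531) D4630 (iv D2660)
theorem F7053 : act 6 n4630 = n2233 := d5_2 (iv F3532) D4630 (iv D2233)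
def n4631 : Q := act 2 n2228
theorem D4631 : act 2 n2228 = n4631 := rfl
theorem F7054 : act 6 n4631 = n2234 := d14_2 (iv F3532) D4631 (iv D2234)
def n4632 : Q := act 5 n2228
theorem D4632 : act 5 n2228 = n4632 := rfl
theorem F7055 : act 3 n4632 = n2662 := d16_1 D4632 (iv D2662) (iv F3531)
def n4633 : Q := act 1 n2229
theorem D4633 : act 1 n2229 = n4633 := rfl
theorem F7056 : act 3 n4633 = n2663 := d7_2 (iv F3534) D4633 (iv D2663)
def n4634 : Q := act 1 n2230
theorem D4634 : act 1 n2230 = n4634 := rfl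
theorem F7057 : act 3 n4634 = n2664 := d7_2 (iv F3536) D4634 (iv D2664)
def n4635 : Q := act 2 n2230
theorem D4635 : act 2 n2230 = n4635 := rfl
theorem F7058 : act 0 n4635 = n2231 := d1_1 D4635 (iv D2231) D2230
def n4636 : Q := act 6 n2230
theorem D4636 : act 6 n2230 = n4636 := rfl
theorem F7059 : act 0 n4636 = n2232 := d5_1 D4636 (iv D2232) D2230
theorem F7060 : act 3 n4636 = n2666 := d17_1 D4636 (iv D2666) (iv F3536)
theorem F7061 : act 5 n4636 = n4628 := d22_2 F7048 D4636 (iv D4628) D4626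
def n4637 : Q := act 3 n2231
theorem D4637 : act 3 n2231 = n4637 := rfl
theorem F7062 : act 1 n4637 = n2239 := d7_1 D4637 (iv D2239) (iv F3537)
def n4638 : Q := act 6 n2231
theorem D4638 : act 6 n2231 = n4638 := rfl
theorem F7063 : act 2 n4638 = n2232 := d14_1 D4638 (iv D2232) D2231
def n4639 : Q := act 5 n2232
theorem D4639 : act 5 n2232 = n4639 := rfl
theorem F7064 : act 0 n4639 = n4628 := d4_1 D4639 (iv F7061) F7059
theorem F7065 : act 3 n4639 = n2670 := d16_1 D4639 (iv D2670) (iv F3538)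
theorem F7066 : act 6 n4639 = n4626 := d20_2 D2232 D4639 F7048 D4636 F7061 (iv D4628) F3528
def n4640 : Q := act 1 n2233
theorem D4640 : act 1 n2233 = n4640 := rfl
theorem F7067 : act 3 n4640 = n2674 := d7_2 (iv F3539) D4640 (iv D2674)
def n4641 : Q := act 2 n2233
theorem D4641 : act 2 n2233 = n4641 := rfl
theorem F7068 : act 0 n4641 = n2234 := d1_1 D4641 (iv D2234) D2233
def n4642 : Q := act 5 n2233
theorem D4642 : act 5 n2233 = n4642 := rfl
theorem F7069 : act 0 n4642 = n2235 := d4_1 D4642 (iv D2235) D2233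
theorem F7070 : act 3 n4642 = n2676 := d16_1 D4642 (iv D2676) (iv F3539)
theorem F7071 : act 6 n4642 = n4632 := d22_1 D4642 (iv D4632) F3532 D2233
def n4643 : Q := act 3 n2234
theorem D4643 : act 3 n2234 = n4643 := rfl
theorem F7072 : act 1 n4643 = n2245 := d7_1 D4643 (iv D2245) (iv F3540)
def n4644 : Q := act 5 n2234
theorem D4644 : act 5 n2234 = n4644 := rfl
theorem F7073 : act 2 n4644 = n2235 := d13_1 D4644 (iv D2235) D2234
def n4645 : Q := act 6 n2235
theorem D4645 : act 6 n2235 = n4645 := rfl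
theorem F7074 : act 0 n4645 = n4632 := d5_1 D4645 (iv F7071) F7069
theorem F7075 : act 3 n4645 = n2680 := d17_1 D4645 (iv D2680) (iv F3541)
theorem F7076 : act 5 n4645 = n4630 := d20_1 D4645 F7053 D4642 F7071 (iv D4632) F3532 D2235
def n4646 : Q := act 0 n2236
theorem D4646 : act 0 n2236 = n4646 := rfl
theorem F7077 : act 1 n4646 = n2684 := d0_2 D2236 D4646 (iv D2684) (iv D1300) (iv D651) (iv D330) (iv F556) D550 D1092
theorem F7078 : act 3 n4646 = n2248 := d2_2 (iv F3542) D4646 (iv D2248)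
def n4647 : Q := act 2 n2236
theorem D4647 : act 2 n2236 = n4647 := rfl
def n4648 : Q := act 5 n2236
theorem D4648 : act 5 n2236 = n4648 := rfl
def n4649 : Q := act 6 n2236
theorem D4649 : act 6 n2236 = n4649 := rfl
def n4650 : Q := act 1 n2237
theorem D4650 : act 1 n2237 = n4650 := rfl
def n4651 : Q := act 3 n2237
theorem D4651 : act 3 n2237 = n4651 := rfl
theorem F7081 : act 0 n4651 = n2239 := d2_1 D4651 (iv D2239) (iv F3543)
def n4652 : Q := act 6 n2237
theorem D4652 : act 6 n2237 = n4652 := rfl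
theorem F7082 : act 0 n4652 = n2240 := d5_1 D4652 (iv D2240) (iv F3543)
theorem F7083 : act 2 n4652 = n2238 := d14_1 D4652 (iv D2238) D2237
theorem F7084 : act 5 n4652 = n4406 := d22_2 F6717 D4652 (iv D4406) (iv F6716)
def n4653 : Q := act 1 n2238
theorem D4653 : act 1 n2238 = n4653 := rfl
theorem F7085 : act 3 n4653 = n2255 := d7_2 (iv F3545) D4653 (iv D2255)
def n4654 : Q := act 2 n2239
theorem D4654 : act 2 n2239 = n4654 := rfl
def n4655 : Q := act 4 n2239
theorem D4655 : act 4 n2239 = n4655 := rfl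
def n4656 : Q := act 6 n2239
theorem D4656 : act 6 n2239 = n4656 := rfl
theorem F7086 : act 3 n4656 = n2240 := d17_1 D4656 (iv D2240) D2239
def n4657 : Q := act 1 n2240
theorem D4657 : act 1 n2240 = n4657 := rfl
def n4658 : Q := act 5 n2240
theorem D4658 : act 5 n2240 = n4658 := rfl
theorem F7088 : act 2 n4658 = n2241 := d13_1 D4658 (iv D2241) (iv F3547)
theorem F7089 : act 6 n4658 = n4404 := d20_2 D2240 D4658 F6717 D4652 F7084 (iv D4406) F3358
def n4659 : Q := act 1 n2241
theorem D4659 : act 1 n2241 = n4659 := rfl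
def n4660 : Q := act 0 n2242
theorem D4660 : act 0 n2242 = n4660 := rfl
theorem F7091 : act 1 n4660 = n2704 := d0_2 D2242 D4660 (iv D2704) (iv D1309) (iv D655) (iv D332) (iv F558) D551 D1095
def n4661 : Q := act 2 n2242
theorem D4661 : act 2 n2242 = n4661 := rfl
def n4662 : Q := act 5 n2242
theorem D4662 : act 5 n2242 = n4662 := rfl
def n4664 : Q := act 1 n2243
theorem D4664 : act 1 n2243 = n4664 := rfl
def n4665 : Q := act 3 n2243
theorem D4665 : act 3 n2243 = n4665 := rfl
theorem F7095 : act 0 n4665 = n2245 := d2_1 D4665 (iv D2245) (iv F3552)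
def n4666 : Q := act 5 n2243
theorem D4666 : act 5 n2243 = n4666 := rfl
theorem F7096 : act 0 n4666 = n2246 := d4_1 D4666 (iv D2246) (iv F3552)
theorem F7097 : act 2 n4666 = n2244 := d13_1 D4666 (iv D2244) D2243
theorem F7098 : act 6 n4666 = n4414 := d22_1 D4666 (iv D4414) F3363 (iv F3552)
def n4667 : Q := act 1 n2244
theorem D4667 : act 1 n2244 = n4667 := rfl
theorem F7099 : act 3 n4667 = n2269 := d7_2 (iv F3554) D4667 (iv D2269)
def n4668 : Q := act 2 n2245
theorem D4668 : act 2 n2245 = n4668 := rfl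
def n4669 : Q := act 4 n2245
theorem D4669 : act 4 n2245 = n4669 := rfl
def n4670 : Q := act 5 n2245
theorem D4670 : act 5 n2245 = n4670 := rfl
theorem F7100 : act 3 n4670 = n2246 := d16_1 D4670 (iv D2246) D2245
def n4671 : Q := act 1 n2246
theorem D4671 : act 1 n2246 = n4671 := rfl
def n4675 : Q := act 6 n2248
theorem D4675 : act 6 n2248 = n4675 := rfl
def n4676 : Q := act 1 n2249
theorem D4676 : act 1 n2249 = n4676 := rfl
theorem F7110 : act 2 n4676 = n2252 := d6_2 D2249 D4676 (iv D2252) (iv D1099) D1098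
theorem F7111 : act 4 n4676 = n2278 := d8_2 (iv F3562) D4676 (iv D2278)
def n4680 : Q := act 6 n2250
theorem D4680 : act 6 n2250 = n4680 := rfl
theorem F7119 : act 5 n4680 = n4675 := d22_2 D2250 D4680 (iv D4675) (iv D2248)
theorem F7120 : act 1 n2755 = n4680 := d24_14 (iv D4680) (iv D2250) (iv D1098) D1100 F1895 D2124 F3376 D2127 F3379 D4287 F6537 (iv F6427) (iv D2756) D2755
def n4681 : Q := act 1 n2251
theorem D4681 : act 1 n2251 = n4681 := rfl
theorem F7122 : act 6 n4681 = n2255 := d10_2 D2251 D4681 (iv D2255) (iv D1100) D1098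
theorem F7123 : act 5 n2770 = n4681 := d22_0 F7122 F4340 (iv D2773) D2770
theorem F7124 : act 0 n4681 = n2772 := d22_4 (iv D2772) D2773 (iv F4340) (iv F7122)
def n4682 : Q := act 5 n2251
theorem D4682 : act 5 n2251 = n4682 := rfl
def n4683 : Q := act 0 n2252
theorem D4683 : act 0 n2252 = n4683 := rfl
theorem F7128 : act 4 n4683 = n2285 := d3_2 (iv F3565) D4683 (iv D2285)
def n4684 : Q := act 3 n2252
theorem D4684 : act 3 n2252 = n4684 := rfl
theorem F7130 : act 1 n4684 = n2253 := d7_1 D4684 (iv D2253) D2252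
theorem F7131 : act 5 n4684 = n4684 := d16_2 F3566 D4684 (iv D4684)
def n4685 : Q := act 6 n2252
theorem D4685 : act 6 n2252 = n4685 := rfl
theorem F7132 : act 4 n4685 = n2287 := d19_1 D4685 (iv D2287) (iv F3565)
def n4686 : Q := act 2 n2253
theorem D4686 : act 2 n2253 = n4686 := rfl
theorem F7133 : act 0 n4686 = n2256 := d1_1 D4686 (iv D2256) (iv F3567)
theorem F7134 : act 3 n4686 = n4654 := d21_1 D4686 (iv D4654) (iv D2239) (iv D1093) F1037 D553 D1101 (iv F3567)
def n4687 : Q := act 4 n2253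
theorem D4687 : act 4 n2253 = n4687 := rfl
theorem F7135 : act 0 n4687 = n2257 := d3_1 D4687 (iv D2257) (iv F3567)
theorem F7136 : act 3 n4687 = n2289 := d15_1 D4687 (iv D2289) (iv D1115) (iv F1892) D2253
def n4688 : Q := act 6 n2253
theorem D4688 : act 6 n2253 = n4688 := rfl
theorem F7137 : act 0 n4688 = n2258 := d5_1 D4688 (iv D2258) (iv F3567)
theorem F7138 : act 3 n4688 = n2254 := d17_1 D4688 (iv D2254) D2253
theorem F7139 : act 5 n4688 = n4424 := d22_2 F6744 D4688 (iv D4424) (iv F6742)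
def n4689 : Q := act 1 n2254
theorem D4689 : act 1 n2254 = n4689 := rfl
theorem F7140 : act 4 n4689 = n2291 := d8_2 (iv F3570) D4689 (iv D2291)
def n4690 : Q := act 0 n2255
theorem D4690 : act 0 n2255 = n4690 := rfl
theorem F7141 : act 1 n4690 = n4284 := d0_2 D2255 D4690 F6530 (iv F3379) F4348 (iv D2777) F2248 F1235 (iv F1893)
theorem F7143 : act 6 n4690 = n2772 := d5_2 F7122 D4690 (iv F7124)
def n4691 : Q := act 2 n2255
theorem D4691 : act 2 n2255 = n4691 := rfl
theorem F7144 : act 4 n4691 = n2293 := d12_2 (iv F3572) D4691 (iv D2293)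
def n4692 : Q := act 1 n2256
theorem D4692 : act 1 n2256 = n4692 := rfl
theorem F7145 : act 2 n4692 = n2344 := d6_2 D2256 D4692 (iv D2344) (iv D1141) (iv F1896)
def n4693 : Q := act 3 n2256
theorem D4693 : act 3 n2256 = n4693 := rfl
theorem F7146 : act 0 n4693 = n4654 := d2_1 D4693 (iv F7134) F7133
theorem F7147 : act 2 n4693 = n4651 := d11_1 D4693 (iv D4651) (iv D2237) F1886 D1099 D2253 D4686 F7134 (iv D4654) (iv D2239) (iv D1093) F1037 D553 D1101 D2256
def n4694 : Q := act 4 n2256
theorem D4694 : act 4 n2256 = n4694 := rfl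
theorem F7148 : act 2 n4694 = n2257 := d12_1 D4694 (iv D2257) D2256
def n4695 : Q := act 6 n2256
theorem D4695 : act 6 n2256 = n4695 := rfl
theorem F7149 : act 2 n4695 = n2258 := d14_1 D4695 (iv D2258) D2256
def n4696 : Q := act 6 n2257
theorem D4696 : act 6 n2257 = n4696 := rfl
theorem F7150 : act 3 n4696 = n2297 := d17_1 D4696 (iv D2297) (iv F3574)
theorem F7151 : act 4 n4696 = n2258 := d19_1 D4696 (iv D2258) D2257
def n4697 : Q := act 1 n2258
theorem D4697 : act 1 n2258 = n4697 := rfl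
theorem F7152 : act 3 n4697 = n2259 := d7_2 (iv F3575) D4697 (iv D2259)
theorem F7153 : act 6 n4697 = n2348 := d10_2 D2258 D4697 (iv D2348) (iv D1143) (iv F1896)
def n4698 : Q := act 5 n2258
theorem D4698 : act 5 n2258 = n4698 := rfl
theorem F7155 : act 3 n4698 = n2260 := d16_1 D4698 (iv D2260) (iv F3575)
def n4699 : Q := act 0 n2259
theorem D4699 : act 0 n2259 = n4699 := rfl
theorem F7157 : act 4 n4699 = n2300 := d3_2 (iv F3576) D4699 (iv D2300)
theorem F7158 : act 6 n4699 = n2350 := d5_2 (iv F3577) D4699 (iv D2350)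
def n4700 : Q := act 5 n2259
theorem D4700 : act 5 n2259 = n4700 := rfl
def n4703 : Q := act 6 n2261
theorem D4703 : act 6 n2261 = n4703 := rfl
theorem F7163 : act 0 n4703 = n2753 := d5_1 D4703 F4303 (iv F3605)
theorem F7164 : act 1 n4703 = n4420 := d10_1 D4703 (iv D4420) (iv D2120) (iv F1901) D2261
def n4705 : Q := act 5 n2262
theorem D4705 : act 5 n2262 = n4705 := rfl
theorem F7168 : act 0 n4705 = n2264 := d4_1 D4705 (iv D2264) D2262
theorem F7169 : act 1 n4705 = n4675 := d9_1 D4705 (iv F7119) (iv F7120) (iv D2755) (iv F3583)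
def n4706 : Q := act 1 n2263
theorem D4706 : act 1 n2263 = n4706 := rfl
theorem F7171 : act 2 n4706 = n2266 := d6_2 D2263 D4706 (iv D2266) (iv D1105) D1104
theorem F7172 : act 4 n4706 = n2307 := d8_2 (iv F3585) D4706 (iv D2307)
def n4707 : Q := act 3 n2263
theorem D4707 : act 3 n2263 = n4707 := rfl
def n4708 : Q := act 5 n2263
theorem D4708 : act 5 n2263 = n4708 := rfl
theorem F7173 : act 2 n4708 = n2264 := d13_1 D4708 (iv D2264) D2263
def n4710 : Q := act 1 n2264
theorem D4710 : act 1 n2264 = n4710 := rfl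
theorem F7178 : act 5 n4710 = n2269 := d9_2 D2264 D4710 (iv D2269) (iv D1106) D1104
theorem F7179 : act 0 n2743 = n4710 := d22_4 F7178 F4281 (iv D2742) D2743
theorem F7180 : act 6 n2740 = n4710 := d24_0 F7178 (iv D2269) F1907 (iv D1045) (iv D526) (iv D267) D266 D524 D1041 (iv F1895) D2255 (iv F7122) (iv F7123) F4335
def n4712 : Q := act 5 n2265
theorem D4712 : act 5 n2265 = n4712 := rfl
theorem F7186 : act 1 n4712 = n2726 := d24_2 D2265 D4712 (iv D2726) D2725 F6420 (iv F6523) (iv D4281) (iv F3392) (iv D2135) (iv F3389) (iv D2132) (iv F1907) (iv D1106) D1104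
def n4713 : Q := act 0 n2266
theorem D4713 : act 0 n2266 = n4713 := rfl
theorem F7187 : act 4 n4713 = n2314 := d3_2 (iv F3588) D4713 (iv D2314)
def n4714 : Q := act 3 n2266
theorem D4714 : act 3 n2266 = n4714 := rfl
theorem F7188 : act 1 n4714 = n2267 := d7_1 D4714 (iv D2267) D2266
def n4715 : Q := act 5 n2266
theorem D4715 : act 5 n2266 = n4715 := rfl
def n4716 : Q := act 6 n2266
theorem D4716 : act 6 n2266 = n4716 := rfl
theorem F7190 : act 4 n4716 = n2317 := d19_1 D4716 (iv D2317) (iv F3588)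
def n4717 : Q := act 2 n2267
theorem D4717 : act 2 n2267 = n4717 := rfl
theorem F7191 : act 0 n4717 = n2270 := d1_1 D4717 (iv D2270) (iv F3589)
theorem F7192 : act 3 n4717 = n4668 := d21_1 D4717 (iv D4668) (iv D2245) (iv D1096) F1038 D556 D1107 (iv F3589)
def n4718 : Q := act 4 n2267
theorem D4718 : act 4 n2267 = n4718 := rfl
theorem F7193 : act 0 n4718 = n2271 := d3_1 D4718 (iv D2271) (iv F3589)
theorem F7194 : act 3 n4718 = n2319 := d15_1 D4718 (iv D2319) (iv D1129) (iv F1904) D2267
def n4719 : Q := act 5 n2267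
theorem D4719 : act 5 n2267 = n4719 := rfl
theorem F7195 : act 0 n4719 = n2272 := d4_1 D4719 (iv D2272) (iv F3589)
theorem F7196 : act 3 n4719 = n2268 := d16_1 D4719 (iv D2268) D2267
theorem F7197 : act 6 n4719 = n4441 := d22_1 D4719 (iv D4441) F3385 (iv F3589)
def n4720 : Q := act 1 n2268
theorem D4720 : act 1 n2268 = n4720 := rfl
def n4721 : Q := act 0 n2269
theorem D4721 : act 0 n2269 = n4721 := rfl
theorem F7201 : act 5 n4721 = n2743 := d4_2 F7178 D4721 F7179
def n4722 : Q := act 2 n2269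
theorem D4722 : act 2 n2269 = n4722 := rfl
theorem F7202 : act 4 n4722 = n2323 := d12_2 (iv F3594) D4722 (iv D2323)
def n4723 : Q := act 1 n2270
theorem D4723 : act 1 n2270 = n4723 := rfl
theorem F7203 : act 2 n4723 = n2361 := d6_2 D2270 D4723 (iv D2361) (iv D1149) (iv F1908)
def n4724 : Q := act 3 n2270
theorem D4724 : act 3 n2270 = n4724 := rfl
theorem F7204 : act 0 n4724 = n4668 := d2_1 D4724 (iv F7192) F7191
theorem F7205 : act 2 n4724 = n4665 := d11_1 D4724 (iv D4665) (iv D2243) F1888 D1105 D2267 D4717 F7192 (iv D4668) (iv D2245) (iv D1096) F1038 D556 D1107 D2270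
def n4725 : Q := act 4 n2270
theorem D4725 : act 4 n2270 = n4725 := rfl
theorem F7206 : act 2 n4725 = n2271 := d12_1 D4725 (iv D2271) D2270
def n4726 : Q := act 5 n2270
theorem D4726 : act 5 n2270 = n4726 := rfl
theorem F7207 : act 2 n4726 = n2272 := d13_1 D4726 (iv D2272) D2270
def n4727 : Q := act 5 n2271
theorem D4727 : act 5 n2271 = n4727 := rfl
theorem F7208 : act 3 n4727 = n2328 := d16_1 D4727 (iv D2328) (iv F3596)
theorem F7209 : act 4 n4727 = n2272 := d18_1 D4727 (iv D2272) D2271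
def n4728 : Q := act 1 n2272
theorem D4728 : act 1 n2272 = n4728 := rfl
theorem F7210 : act 3 n4728 = n2273 := d7_2 (iv F3597) D4728 (iv D2273)
theorem F7211 : act 5 n4728 = n2365 := d9_2 D2272 D4728 (iv D2365) (iv D1151) (iv F1908)
def n4729 : Q := act 6 n2272
theorem D4729 : act 6 n2272 = n4729 := rfl
theorem F7214 : act 5 n4729 = n4438 := d20_1 D4729 F6774 D4719 F7197 (iv D4441) F3385 D2272
def n4730 : Q := act 0 n2273
theorem D4730 : act 0 n2273 = n4730 := rfl
theorem F7215 : act 4 n4730 = n2331 := d3_2 (iv F3598) D4730 (iv D2331)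
theorem F7216 : act 5 n4730 = n2367 := d4_2 (iv F3599) D4730 (iv D2367)
def n4731 : Q := act 6 n2273
theorem D4731 : act 6 n2273 = n4731 := rfl
def n4735 : Q := act 1 n2276
theorem D4735 : act 1 n2276 = n4735 := rfl
theorem F7224 : act 2 n4735 = n2784 := d6_2 D2276 D4735 (iv D2784) (iv D1346) (iv F1914)
def n4737 : Q := act 6 n2276
theorem D4737 : act 6 n2276 = n4737 := rfl
theorem F7226 : act 0 n4737 = n2281 := d5_1 D4737 (iv D2281) (iv F3606)
def n4745 : Q := act 6 n2280
theorem D4745 : act 6 n2280 = n4745 := rfl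
theorem F7236 : act 2 n4745 = n2282 := d14_1 D4745 (iv D2282) (iv F3611)
theorem F7237 : act 5 n4745 = n4737 := d22_2 D2280 D4745 (iv D4737) F3606
def n4746 : Q := act 1 n2281
theorem D4746 : act 1 n2281 = n4746 := rfl
def n4748 : Q := act 2 n2283
theorem D4748 : act 2 n2283 = n4748 := rfl
theorem F7242 : act 5 n4748 = n2870 := d13_2 F3615 D4748 (iv D2870)
theorem F7243 : act 6 n4748 = n2293 := d14_2 (iv F3614) D4748 (iv D2293)
def n4749 : Q := act 1 n2285
theorem D4749 : act 1 n2285 = n4749 := rfl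
theorem F7244 : act 0 n4749 = n2375 := d0_1 D4749 (iv D2375) (iv D1156) (iv D581) F578 (iv F562) (iv F1047) D1114 D2285
def n4750 : Q := act 3 n2285
theorem D4750 : act 3 n2285 = n4750 := rfl
theorem F7245 : act 0 n4750 = n2286 := d2_1 D4750 (iv D2286) D2285
def n4752 : Q := act 2 n2286
theorem D4752 : act 2 n2286 = n4752 := rfl
theorem F7249 : act 5 n4752 = n4752 := d13_2 F3621 D4752 (iv D4752)
def n4753 : Q := act 4 n2286
theorem D4753 : act 4 n2286 = n4753 := rfl
theorem F7250 : act 1 n4753 = n2289 := d8_1 D4753 (iv D2289) (iv F3620)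
theorem F7251 : act 5 n4753 = n4753 := d18_2 F3621 D4753 (iv D4753)
def n4754 : Q := act 6 n2286
theorem D4754 : act 6 n2286 = n4754 := rfl
def n4755 : Q := act 1 n2287
theorem D4755 : act 1 n2287 = n4755 := rfl
theorem F7253 : act 6 n4755 = n2291 := d10_2 D2287 D4755 (iv D2291) (iv D1116) D1114
def n4756 : Q := act 1 n2288
theorem D4756 : act 1 n2288 = n4756 := rfl
theorem F7254 : act 3 n4756 = n4580 := d7_2 (iv F3623) D4756 (iv D4580)
def n4757 : Q := act 4 n2288
theorem D4757 : act 4 n2288 = n4757 := rfl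
theorem F7256 : act 2 n4757 = n2289 := d12_1 D4757 (iv D2289) D2288
def n4758 : Q := act 6 n2288
theorem D4758 : act 6 n2288 = n4758 := rfl
theorem F7260 : act 5 n4758 = n4456 := d22_2 F6798 D4758 (iv D4456) (iv F6797)
def n4759 : Q := act 6 n2289
theorem D4759 : act 6 n2289 = n4759 := rfl
theorem F7261 : act 0 n4759 = n2297 := d5_1 D4759 (iv D2297) (iv F3624)
theorem F7263 : act 5 n4759 = n4457 := d22_2 F6802 D4759 (iv D4457) (iv F6800)
def n4760 : Q := act 1 n2290
theorem D4760 : act 1 n2290 = n4760 := rfl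
theorem F7264 : act 3 n4760 = n2291 := d7_2 (iv F3626) D4760 (iv D2291)
def n4761 : Q := act 0 n2291
theorem D4761 : act 0 n2291 = n4761 := rfl
def n4762 : Q := act 2 n2291
theorem D4762 : act 2 n2291 = n4762 := rfl
theorem F7265 : act 1 n4762 = n2293 := d6_1 D4762 (iv D2293) (iv D1117) (iv F1918) D2291
def n4763 : Q := act 5 n2291
theorem D4763 : act 5 n2291 = n4763 := rfl
theorem F7266 : act 1 n4763 = n4461 := d9_1 D4763 (iv D4461) (iv D2142) (iv F1919) D2291
def n4764 : Q := act 2 n2292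
theorem D4764 : act 2 n2292 = n4764 := rfl
theorem F7267 : act 0 n4764 = n2293 := d1_1 D4764 (iv D2293) D2292
theorem F7268 : act 6 n4764 = n2874 := d14_2 (iv F3629) D4764 F4496
def n4765 : Q := act 3 n2293
theorem D4765 : act 3 n2293 = n4765 := rfl
def n4769 : Q := act 6 n2295
theorem D4769 : act 6 n2295 = n4769 := rfl
theorem F7274 : act 2 n4769 = n2297 := d14_1 D4769 (iv D2297) (iv F3639)
theorem F7275 : act 4 n4769 = n2296 := d19_1 D4769 (iv D2296) D2295
def n4771 : Q := act 5 n2296
theorem D4771 : act 5 n2296 = n4771 := rfl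
theorem F7278 : act 6 n4771 = n4451 := d20_2 D2296 D4771 F6798 D4758 F7260 (iv D4456) F3405
def n4772 : Q := act 1 n2297
theorem D4772 : act 1 n2297 = n4772 := rfl
theorem F7279 : act 4 n4772 = n2298 := d8_2 (iv F3641) D4772 (iv D2298)
theorem F7280 : act 6 n4772 = n2385 := d10_2 D2297 D4772 (iv D2385) (iv D1161) (iv F1920)
def n4773 : Q := act 5 n2297
theorem D4773 : act 5 n2297 = n4773 := rfl
theorem F7282 : act 4 n4773 = n2299 := d18_1 D4773 (iv D2299) (iv F3641)
theorem F7283 : act 6 n4773 = n4452 := d20_2 D2297 D4773 F6802 D4759 F7263 (iv D4457) F3406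
def n4774 : Q := act 0 n2298
theorem D4774 : act 0 n2298 = n4774 := rfl
theorem F7284 : act 3 n4774 = n2300 := d2_2 (iv F3642) D4774 (iv D2300)
theorem F7285 : act 6 n4774 = n2387 := d5_2 (iv F3643) D4774 (iv D2387)
def n4775 : Q := act 2 n2298
theorem D4775 : act 2 n2298 = n4775 := rfl
theorem F7286 : act 6 n4775 = n2388 := d14_2 (iv F3643) D4775 (iv D2388)
def n4776 : Q := act 5 n2298
theorem D4776 : act 5 n2298 = n4776 := rfl
theorem F7287 : act 3 n4776 = n2301 := d16_1 D4776 (iv D2301) (iv F3642)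
def n4784 : Q := act 1 n2305
theorem D4784 : act 1 n2305 = n4784 := rfl
theorem F7300 : act 2 n4784 = n2842 := d6_2 D2305 D4784 (iv D2842) (iv D1376) (iv F1926)
def n4786 : Q := act 5 n2305
theorem D4786 : act 5 n2305 = n4786 := rfl
theorem F7303 : act 2 n4786 = n2306 := d13_1 D4786 (iv D2306) D2305
def n4787 : Q := act 0 n2307
theorem D4787 : act 0 n2307 = n4787 := rfl
def n4788 : Q := act 3 n2307
theorem D4788 : act 3 n2307 = n4788 := rfl
theorem F7305 : act 1 n4788 = n2308 := d7_1 D4788 (iv D2308) D2307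
def n4791 : Q := act 2 n2308
theorem D4791 : act 2 n2308 = n4791 := rfl
def n4792 : Q := act 4 n2308
theorem D4792 : act 4 n2308 = n4792 := rfl
def n4793 : Q := act 5 n2308
theorem D4793 : act 5 n2308 = n4793 := rfl
theorem F7308 : act 3 n4793 = n2309 := d16_1 D4793 (iv D2309) D2308
def n4799 : Q := act 2 n2311
theorem D4799 : act 2 n2311 = n4799 := rfl
theorem F7316 : act 5 n4799 = n2323 := d13_2 (iv F3657) D4799 (iv D2323)
theorem F7317 : act 6 n4799 = n2815 := d14_2 F3659 D4799 (iv D2815)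
def n4800 : Q := act 1 n2314
theorem D4800 : act 1 n2314 = n4800 := rfl
theorem F7318 : act 0 n4800 = n2402 := d0_1 D4800 (iv D2402) (iv D1169) (iv D588) F588 (iv F563) (iv F1054) D1128 D2314
def n4801 : Q := act 3 n2314
theorem D4801 : act 3 n2314 = n4801 := rfl
theorem F7319 : act 0 n4801 = n2315 := d2_1 D4801 (iv D2315) D2314
def n4803 : Q := act 6 n2314
theorem D4803 : act 6 n2314 = n4803 := rfl
theorem F7321 : act 0 n4803 = n2317 := d5_1 D4803 (iv D2317) D2314
def n4804 : Q := act 2 n2315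
theorem D4804 : act 2 n2315 = n4804 := rfl
def n4805 : Q := act 4 n2315
theorem D4805 : act 4 n2315 = n4805 := rfl
theorem F7322 : act 1 n4805 = n2319 := d8_1 D4805 (iv D2319) (iv F3664)
def n4806 : Q := act 5 n2315
theorem D4806 : act 5 n2315 = n4806 := rfl
def n4807 : Q := act 6 n2315
theorem D4807 : act 6 n2315 = n4807 := rfl
theorem F7324 : act 3 n4807 = n2317 := d17_1 D4807 (iv D2317) D2315
def n4808 : Q := act 1 n2316
theorem D4808 : act 1 n2316 = n4808 := rfl
theorem F7325 : act 5 n4808 = n2321 := d9_2 D2316 D4808 (iv D2321) (iv D1130) D1128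
def n4811 : Q := act 1 n2318
theorem D4811 : act 1 n2318 = n4811 := rfl
theorem F7329 : act 3 n4811 = n4609 := d7_2 (iv F3666) D4811 (iv D4609)
def n4812 : Q := act 4 n2318
theorem D4812 : act 4 n2318 = n4812 := rfl
theorem F7331 : act 2 n4812 = n2319 := d12_1 D4812 (iv D2319) D2318
def n4813 : Q := act 5 n2318
theorem D4813 : act 5 n2318 = n4813 := rfl
theorem F7333 : act 2 n4813 = n2320 := d13_1 D4813 (iv D2320) D2318
theorem F7335 : act 6 n4813 = n4486 := d22_1 D4813 (iv D4486) F3423 (iv F3665)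
def n4814 : Q := act 5 n2319
theorem D4814 : act 5 n2319 = n4814 := rfl
theorem F7336 : act 0 n4814 = n2328 := d4_1 D4814 (iv D2328) (iv F3667)
theorem F7338 : act 6 n4814 = n4487 := d22_1 D4814 (iv D4487) F3424 (iv F3667)
def n4818 : Q := act 6 n2321
theorem D4818 : act 6 n2321 = n4818 := rfl
theorem F7341 : act 1 n4818 = n4491 := d10_1 D4818 (iv D4491) (iv D2160) (iv F1930) D2321
def n4819 : Q := act 2 n2322
theorem D4819 : act 2 n2322 = n4819 := rfl
theorem F7343 : act 5 n4819 = n2820 := d13_2 (iv F3672) D4819 F4415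
theorem F7344 : act 1 n4054 = n4819 := d9_5 F7343 F4416 (iv D1942) D1940 D4054
def n4820 : Q := act 3 n2323
theorem D4820 : act 3 n2323 = n4820 := rfl
def n4827 : Q := act 5 n2325
theorem D4827 : act 5 n2325 = n4827 := rfl
theorem F7354 : act 2 n4827 = n4605 := d13_1 D4827 (iv D4605) (iv F3675)
theorem F7355 : act 3 n4827 = n2327 := d16_1 D4827 (iv D2327) D2325
def n4829 : Q := act 5 n2326
theorem D4829 : act 5 n2326 = n4829 := rfl
theorem F7357 : act 4 n4829 = n2327 := d18_1 D4829 (iv D2327) D2326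
def n4830 : Q := act 1 n2327
theorem D4830 : act 1 n2327 = n4830 := rfl
def n4831 : Q := act 6 n2327
theorem D4831 : act 6 n2327 = n4831 := rfl
theorem F7360 : act 5 n4831 = n4481 := d20_1 D4831 F6832 D4813 F7335 (iv D4486) F3423 D2327
def n4832 : Q := act 1 n2328
theorem D4832 : act 1 n2328 = n4832 := rfl
theorem F7361 : act 4 n4832 = n2329 := d8_2 (iv F3678) D4832 (iv D2329)
theorem F7362 : act 5 n4832 = n2419 := d9_2 D2328 D4832 (iv D2419) (iv D1177) (iv F1931)
def n4833 : Q := act 6 n2328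
theorem D4833 : act 6 n2328 = n4833 := rfl
theorem F7365 : act 5 n4833 = n4482 := d20_1 D4833 F6835 D4814 F7338 (iv D4487) F3424 D2328
def n4834 : Q := act 0 n2329
theorem D4834 : act 0 n2329 = n4834 := rfl
theorem F7366 : act 3 n4834 = n2331 := d2_2 (iv F3679) D4834 (iv D2331)
theorem F7367 : act 5 n4834 = n2421 := d4_2 (iv F3680) D4834 (iv D2421)
def n4835 : Q := act 2 n2329
theorem D4835 : act 2 n2329 = n4835 := rfl
theorem F7368 : act 5 n4835 = n2422 := d13_2 (iv F3680) D4835 (iv D2422)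
def n4836 : Q := act 6 n2329
theorem D4836 : act 6 n2329 = n4836 := rfl
def n4838 : Q := act 1 n2331
theorem D4838 : act 1 n2331 = n4838 := rfl
def n4853 : Q := act 5 n2338
theorem D4853 : act 5 n2338 = n4853 := rfl
theorem F7396 : act 0 n4853 = n2340 := d4_1 D4853 (iv D2340) D2338
def n4856 : Q := act 4 n2339
theorem D4856 : act 4 n2339 = n4856 := rfl
theorem F7400 : act 1 n4856 = n2343 := d8_1 D4856 (iv D2343) (iv F3694)
theorem F7401 : act 3 n4856 = n2380 := d15_1 D4856 (iv D2380) (iv D1157) (iv F1941) D2339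
def n4857 : Q := act 5 n2339
theorem D4857 : act 5 n2339 = n4857 := rfl
theorem F7402 : act 3 n4857 = n2340 := d16_1 D4857 (iv D2340) D2339
def n4858 : Q := act 6 n2339
theorem D4858 : act 6 n2339 = n4858 := rfl
def n4861 : Q := act 1 n2342
theorem D4861 : act 1 n2342 = n4861 := rfl
theorem F7409 : act 3 n4861 = n2344 := d7_2 (iv F3698) D4861 (iv D2344)
def n4862 : Q := act 4 n2342
theorem D4862 : act 4 n2342 = n4862 := rfl
theorem F7410 : act 0 n4862 = n2345 := d3_1 D4862 (iv D2345) (iv F3697)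
theorem F7411 : act 2 n4862 = n2343 := d12_1 D4862 (iv D2343) D2342
def n4863 : Q := act 0 n2344
theorem D4863 : act 0 n2344 = n4863 := rfl
def n4864 : Q := act 4 n2344
theorem D4864 : act 4 n2344 = n4864 := rfl
theorem F7412 : act 1 n4864 = n2345 := d8_1 D4864 (iv D2345) D2344
def n4865 : Q := act 5 n2344
theorem D4865 : act 5 n2344 = n4865 := rfl
def n4866 : Q := act 6 n2344
theorem D4866 : act 6 n2344 = n4866 := rfl
def n4867 : Q := act 3 n2345
theorem D4867 : act 3 n2345 = n4867 := rfl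
def n4868 : Q := act 6 n2345
theorem D4868 : act 6 n2345 = n4868 := rfl
theorem F7413 : act 2 n4868 = n2347 := d14_1 D4868 (iv D2347) (iv F3701)
theorem F7414 : act 4 n4868 = n2346 := d19_1 D4868 (iv D2346) D2345
def n4869 : Q := act 1 n2346
theorem D4869 : act 1 n2346 = n4869 := rfl
def n4870 : Q := act 5 n2346
theorem D4870 : act 5 n2346 = n4870 := rfl
theorem F7415 : act 0 n4870 = n4093 := d4_1 D4870 (iv F6242) F6241
theorem F7416 : act 2 n4870 = n2349 := d13_1 D4870 (iv D2349) (iv F3702)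
theorem F7417 : act 3 n4870 = n4093 := d16_1 D4870 (iv F6242) F6244
theorem F7418 : act 6 n4870 = n2440 := d20_2 D2346 D4870 F3835 (iv F6243) F6242 (iv D4093) F3123
def n4871 : Q := act 1 n2347
theorem D4871 : act 1 n2347 = n4871 := rfl
theorem F7419 : act 3 n4871 = n2385 := d7_2 (iv F3703) D4871 (iv D2385)
theorem F7420 : act 4 n4871 = n2348 := d8_2 (iv F3704) D4871 (iv D2348)
def n4872 : Q := act 5 n2347
theorem D4872 : act 5 n2347 = n4872 := rfl
theorem F7421 : act 0 n4872 = n4094 := d4_1 D4872 (iv F6247) F6245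
theorem F7422 : act 3 n4872 = n2386 := d16_1 D4872 (iv D2386) (iv F3703)
theorem F7423 : act 4 n4872 = n2349 := d18_1 D4872 (iv D2349) (iv F3704)
theorem F7424 : act 6 n4872 = n2439 := d20_2 D2347 D4872 F3833 (iv F6248) F6247 (iv D4094) F3125
def n4873 : Q := act 0 n2348
theorem D4873 : act 0 n2348 = n4873 := rfl
theorem F7425 : act 3 n4873 = n2350 := d2_2 (iv F3705) D4873 (iv D2350)
def n4874 : Q := act 2 n2348
theorem D4874 : act 2 n2348 = n4874 := rfl
def n4875 : Q := act 5 n2348
theorem D4875 : act 5 n2348 = n4875 := rfl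
theorem F7426 : act 3 n4875 = n2351 := d16_1 D4875 (iv D2351) (iv F3705)
def n4876 : Q := act 1 n2349
theorem D4876 : act 1 n2349 = n4876 := rfl
theorem F7427 : act 3 n4876 = n2352 := d7_2 (iv F3707) D4876 (iv D2352)
def n4877 : Q := act 1 n2350
theorem D4877 : act 1 n2350 = n4877 := rfl
theorem F7428 : act 4 n4877 = n2391 := d8_2 (iv F3709) D4877 (iv D2391)
theorem F7429 : act 6 n4097 = n4877 := d19_0 F7428 (iv F6180) (iv F6207)
def n4878 : Q := act 5 n2350
theorem D4878 : act 5 n2350 = n4878 := rfl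
theorem F7430 : act 0 n4878 = n2351 := d4_1 D4878 (iv D2351) D2350
theorem F7432 : act 6 n4878 = n4700 := d22_1 D4878 (iv D4700) F3577 D2350
def n4879 : Q := act 1 n2351
theorem D4879 : act 1 n2351 = n4879 := rfl
theorem F7433 : act 4 n4879 = n2393 := d8_2 (iv F3710) D4879 (iv D2393)
theorem F7434 : act 5 n4879 = n2352 := d9_2 D2351 D4879 (iv D2352) (iv D1145) D1144
theorem F7435 : act 2 n2898 = n4879 := d13_3 F7434 F3711 D2898
def n4880 : Q := act 6 n2351
theorem D4880 : act 6 n2351 = n4880 := rfl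
theorem F7438 : act 5 n4880 = n4699 := d20_1 D4880 F7158 D4878 F7432 (iv D4700) F3577 D2351
def n4882 : Q := act 6 n2352
theorem D4882 : act 6 n2352 = n4882 := rfl
theorem F7441 : act 1 n4882 = n2438 := d10_1 D4882 (iv D2438) F1997 (iv F1949) D2352
theorem F7442 : act 2 n4882 = n2899 := d14_1 D4882 (iv D2899) (iv F3711)
theorem F7443 : act 4 n4882 = n2396 := d19_1 D4882 (iv D2396) (iv F3712)
def n4883 : Q := act 0 n2353
theorem D4883 : act 0 n2353 = n4883 := rfl
theorem F7444 : act 2 n4883 = n2355 := d1_2 (iv F3713) D4883 (iv D2355)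
theorem F7445 : act 4 n4883 = n2397 := d3_2 (iv F3714) D4883 (iv D2397)
def n4889 : Q := act 1 n2355
theorem D4889 : act 1 n2355 = n4889 := rfl
theorem F7461 : act 4 n4889 = n2402 := d8_2 (iv F3718) D4889 (iv D2402)
def n4891 : Q := act 5 n2355
theorem D4891 : act 5 n2355 = n4891 := rfl
def n4892 : Q := act 6 n2355
theorem D4892 : act 6 n2355 = n4892 := rfl
theorem F7465 : act 0 n4892 = n2358 := d5_1 D4892 (iv D2358) D2355
def n4894 : Q := act 4 n2356
theorem D4894 : act 4 n2356 = n4894 := rfl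
theorem F7467 : act 1 n4894 = n2360 := d8_1 D4894 (iv D2360) (iv F3719)
theorem F7468 : act 3 n4894 = n2407 := d15_1 D4894 (iv D2407) (iv D1170) (iv F1954) D2356
def n4895 : Q := act 5 n2356
theorem D4895 : act 5 n2356 = n4895 := rfl
def n4896 : Q := act 6 n2356
theorem D4896 : act 6 n2356 = n4896 := rfl
def n4897 : Q := act 6 n2357
theorem D4897 : act 6 n2357 = n4897 := rfl
theorem F7472 : act 5 n4897 = n4892 := d22_2 D2357 D4897 (iv D4892) (iv D2355)
def n4898 : Q := act 5 n2358
theorem D4898 : act 5 n2358 = n4898 := rfl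
theorem F7475 : act 6 n4898 = n4891 := d20_2 D2358 D4898 (iv D4891) D4892 (iv F7472) (iv D4897) (iv D2357)
def n4899 : Q := act 1 n2359
theorem D4899 : act 1 n2359 = n4899 := rfl
theorem F7476 : act 3 n4899 = n2361 := d7_2 (iv F3723) D4899 (iv D2361)
def n4900 : Q := act 4 n2359
theorem D4900 : act 4 n2359 = n4900 := rfl
theorem F7477 : act 0 n4900 = n2362 := d3_1 D4900 (iv D2362) (iv F3722)
theorem F7478 : act 2 n4900 = n2360 := d12_1 D4900 (iv D2360) D2359
def n4901 : Q := act 0 n2361
theorem D4901 : act 0 n2361 = n4901 := rfl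
def n4902 : Q := act 4 n2361
theorem D4902 : act 4 n2361 = n4902 := rfl
theorem F7479 : act 1 n4902 = n2362 := d8_1 D4902 (iv D2362) D2361
def n4903 : Q := act 5 n2361
theorem D4903 : act 5 n2361 = n4903 := rfl
def n4904 : Q := act 6 n2361
theorem D4904 : act 6 n2361 = n4904 := rfl
def n4905 : Q := act 3 n2362
theorem D4905 : act 3 n2362 = n4905 := rfl
def n4906 : Q := act 5 n2362
theorem D4906 : act 5 n2362 = n4906 := rfl
theorem F7480 : act 2 n4906 = n2364 := d13_1 D4906 (iv D2364) (iv F3726)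
theorem F7481 : act 4 n4906 = n2363 := d18_1 D4906 (iv D2363) D2362
def n4907 : Q := act 1 n2363
theorem D4907 : act 1 n2363 = n4907 := rfl
def n4908 : Q := act 6 n2363
theorem D4908 : act 6 n2363 = n4908 := rfl
theorem F7482 : act 0 n4908 = n4108 := d5_1 D4908 F6231 F6208
theorem F7483 : act 2 n4908 = n2366 := d14_1 D4908 (iv D2366) (iv F3727)
theorem F7484 : act 3 n4908 = n4108 := d17_1 D4908 F6231 F6210
def n4909 : Q := act 1 n2364
theorem D4909 : act 1 n2364 = n4909 := rfl
theorem F7486 : act 3 n4909 = n2419 := d7_2 (iv F3728) D4909 (iv D2419)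
theorem F7487 : act 4 n4909 = n2365 := d8_2 (iv F3729) D4909 (iv D2365)
def n4910 : Q := act 6 n2364
theorem D4910 : act 6 n2364 = n4910 := rfl
theorem F7488 : act 0 n4910 = n4109 := d5_1 D4910 F6234 F6211
theorem F7489 : act 3 n4910 = n2420 := d17_1 D4910 (iv D2420) (iv F3728)
theorem F7490 : act 4 n4910 = n2366 := d19_1 D4910 (iv D2366) (iv F3729)
theorem F7491 : act 5 n4910 = n4105 := d20_1 D4910 F6227 (iv F6213) (iv F6234) (iv D4109) F3136 D2364
def n4911 : Q := act 0 n2365
theorem D4911 : act 0 n2365 = n4911 := rfl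
theorem F7492 : act 3 n4911 = n2367 := d2_2 (iv F3730) D4911 (iv D2367)
def n4912 : Q := act 2 n2365
theorem D4912 : act 2 n2365 = n4912 := rfl
def n4913 : Q := act 6 n2365
theorem D4913 : act 6 n2365 = n4913 := rfl
theorem F7493 : act 3 n4913 = n2368 := d17_1 D4913 (iv D2368) (iv F3730)
def n4914 : Q := act 1 n2366
theorem D4914 : act 1 n2366 = n4914 := rfl
theorem F7494 : act 3 n4914 = n2369 := d7_2 (iv F3732) D4914 (iv D2369)
def n4915 : Q := act 1 n2367
theorem D4915 : act 1 n2367 = n4915 := rfl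
theorem F7495 : act 4 n4915 = n2425 := d8_2 (iv F3734) D4915 (iv D2425)
def n4916 : Q := act 6 n2367
theorem D4916 : act 6 n2367 = n4916 := rfl
theorem F7497 : act 4 n4916 = n2426 := d19_1 D4916 (iv D2426) (iv F3734)
theorem F7498 : act 5 n4916 = n4731 := d22_2 F7216 D4916 (iv D4731) D4730
def n4917 : Q := act 1 n2368
theorem D4917 : act 1 n2368 = n4917 := rfl
theorem F7500 : act 6 n4917 = n2369 := d10_2 D2368 D4917 (iv D2369) (iv D1153) D1152
theorem F7501 : act 2 n2914 = n4917 := d14_3 F7500 F3736 D2914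
def n4918 : Q := act 5 n2368
theorem D4918 : act 5 n2368 = n4918 := rfl
theorem F7504 : act 6 n4918 = n4730 := d20_2 D2368 D4918 F7216 D4916 F7498 (iv D4731) F3599
def n4920 : Q := act 5 n2369
theorem D4920 : act 5 n2369 = n4920 := rfl
def n4923 : Q := act 5 n2370
theorem D4923 : act 5 n2370 = n4923 := rfl
theorem F7512 : act 2 n4923 = n2377 := d13_1 D4923 (iv D2377) (iv F3738)
theorem E13 : n4003 = n3740 := (c23_5 D4923 F7512 (iv F6103) (iv D4001) D4003 (iv D3740) (iv D1804) (iv D894) F878 D476 F915 (iv F594) F595 (iv D295) D294 F574 F576 D580 D1154 D2370)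
theorem F7513 : act 5 n3740 = n1917 := (sb E13 (iv D4003))
theorem E14 : n3994 = n3741 := (c13_2 F7513 (iv F6096) (iv D3741) D3740)
theorem E15 : n1915 = n1914 := ((F5742).symm.trans (sb E14 (iv D3994)))
theorem F7514 : act 2 n3741 = n1917 := (sb E14 F6096)
theorem E16 : n3992 = n3991 := ((((iv F6093)).symm.trans (sb E15 (iv F6094)))).symm
theorem F7515 : act 1 n1914 = n3741 := (sb E15 (iv F5742))
theorem E17 : n3996 = n941 := ((((iv D1914)).symm.trans (sb E15 (iv F6097)))).symm
theorem E19 : n3947 = n3946 := ((((iv F6016)).symm.trans (sb E15 (iv F6017)))).symm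
theorem E20 : n3998 = n3997 := (((D3997).symm.trans (sb E15 D3998))).symm
theorem F7516 : act 5 n3991 = n1913 := (sb E16 (iv D3992))
theorem F7517 : act 6 n3991 = n4000 := (sb E16 (iv F6102))
theorem F7518 : act 5 n941 = n1914 := (sb E17 (iv D3996))
theorem F7520 : act 5 n3946 = n1893 := (sb E19 (iv D3947))
theorem F7521 : act 0 n3997 = n4000 := (sb E20 (iv F6101))
theorem F7522 : act 5 n3997 = n3993 := (sb E20 F6099)
theorem F7523 : act 2 n3993 = n4000 := d13_1 F7522 (iv D4000) (iv F6098)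
def n4932 : Q := act 3 n2375
theorem D4932 : act 3 n2375 = n4932 := rfl
theorem F7537 : act 1 n4932 = n2376 := d7_1 D4932 (iv D2376) D2375
def n4933 : Q := act 5 n2375
theorem D4933 : act 5 n2375 = n4933 := rfl
def n4937 : Q := act 5 n2376
theorem D4937 : act 5 n2376 = n4937 := rfl
theorem F7541 : act 3 n4937 = n2377 := d16_1 D4937 (iv D2377) D2376
def n4944 : Q := act 5 n2380
theorem D4944 : act 5 n2380 = n4944 := rfl
theorem F7547 : act 4 n4944 = n2381 := d18_1 D4944 (iv D2381) D2380
def n4945 : Q := act 6 n2380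
theorem D4945 : act 6 n2380 = n4945 := rfl
def n4950 : Q := act 0 n2385
theorem D4950 : act 0 n2385 = n4950 := rfl
theorem F7554 : act 4 n4950 = n2387 := d3_2 (iv F3757) D4950 (iv D2387)
def n4951 : Q := act 2 n2385
theorem D4951 : act 2 n2385 = n4951 := rfl
theorem F7555 : act 4 n4951 = n2388 := d12_2 (iv F3757) D4951 (iv D2388)
def n4952 : Q := act 5 n2385
theorem D4952 : act 5 n2385 = n4952 := rfl
def n4953 : Q := act 1 n2386
theorem D4953 : act 1 n2386 = n4953 := rfl
theorem F7557 : act 4 n4953 = n2390 := d8_2 (iv F3760) D4953 (iv D2390)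
def n4954 : Q := act 1 n2387
theorem D4954 : act 1 n2387 = n4954 := rfl
theorem F7558 : act 3 n4954 = n2391 := d7_2 (iv F3762) D4954 (iv D2391)
theorem F7559 : act 6 n4118 = n4954 := d17_0 F7558 (iv F6180) (iv F6253)
def n4955 : Q := act 2 n2387
theorem D4955 : act 2 n2387 = n4955 := rfl
theorem F7560 : act 0 n4955 = n2388 := d1_1 D4955 (iv D2388) D2387
def n4956 : Q := act 5 n2387
theorem D4956 : act 5 n2387 = n4956 := rfl
theorem F7561 : act 0 n4956 = n2389 := d4_1 D4956 (iv D2389) D2387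
theorem F7563 : act 6 n4956 = n4776 := d22_1 D4956 (iv D4776) F3643 D2387
def n4957 : Q := act 3 n2388
theorem D4957 : act 3 n2388 = n4957 := rfl
def n4958 : Q := act 5 n2388
theorem D4958 : act 5 n2388 = n4958 := rfl
theorem F7564 : act 2 n4958 = n2389 := d13_1 D4958 (iv D2389) D2388
def n4959 : Q := act 1 n2389
theorem D4959 : act 1 n2389 = n4959 := rfl
theorem F7565 : act 3 n4959 = n2393 := d7_2 (iv F3763) D4959 (iv D2393)
def n4960 : Q := act 6 n2389
theorem D4960 : act 6 n2389 = n4960 := rfl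
theorem F7568 : act 3 n4960 = n2394 := d17_1 D4960 (iv D2394) (iv F3763)
theorem F7569 : act 5 n4960 = n4774 := d20_1 D4960 F7285 D4956 F7563 (iv D4776) F3643 D2389
def n4962 : Q := act 2 n2390
theorem D4962 : act 2 n2390 = n4962 := rfl
theorem F7571 : act 1 n4962 = n4086 := d6_1 D4962 (iv D4086) F3118 (iv F1973) D2390
def n4963 : Q := act 6 n2390
theorem D4963 : act 6 n2390 = n4963 := rfl
theorem F7573 : act 3 n4963 = n2396 := d17_1 D4963 (iv D2396) (iv F3764)
def n4965 : Q := act 0 n2393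
theorem D4965 : act 0 n2393 = n4965 := rfl
theorem F7575 : act 5 n4965 = n2395 := d4_2 (iv F3767) D4965 (iv D2395)
def n4966 : Q := act 6 n2393
theorem D4966 : act 6 n2393 = n4966 := rfl
def n4967 : Q := act 1 n2394
theorem D4967 : act 1 n2394 = n4967 := rfl
def n4968 : Q := act 1 n2395
theorem D4968 : act 1 n2395 = n4968 := rfl
def n4969 : Q := act 6 n2395
theorem D4969 : act 6 n2395 = n4969 := rfl
theorem F7579 : act 5 n4969 = n4966 := d22_2 F7575 D4969 (iv D4966) D4965
def n4970 : Q := act 5 n2396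
theorem D4970 : act 5 n2396 = n4970 := rfl
theorem F7581 : act 1 n4970 = n4970 := d9_1 D4970 (iv D4970) F3772 F2000 (iv F3772)
theorem F7583 : act 6 n4970 = n4965 := d20_2 D2396 D4970 F7575 D4969 F7579 (iv D4966) F3767
theorem F7584 : act 6 n4968 = n4461 := d24_6 D2396 D4970 F7581 F7583 F7575 D4968 (iv D4461) (iv D2142) (iv D1050) F1011 F562 D297 D586 D1166
def n4974 : Q := act 6 n2397
theorem D4974 : act 6 n2397 = n4974 := rfl
def n4982 : Q := act 3 n2402
theorem D4982 : act 3 n2402 = n4982 := rfl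
theorem F7601 : act 1 n4982 = n2403 := d7_1 D4982 (iv D2403) D2402
def n4988 : Q := act 6 n2403
theorem D4988 : act 6 n2403 = n4988 := rfl
theorem F7606 : act 0 n4988 = n2409 := d5_1 D4988 (iv D2409) (iv F3784)
def n4989 : Q := act 1 n2404
theorem D4989 : act 1 n2404 = n4989 := rfl
def n4995 : Q := act 5 n2407
theorem D4995 : act 5 n2407 = n4995 := rfl
def n4996 : Q := act 6 n2407
theorem D4996 : act 6 n2407 = n4996 := rfl
def n5015 : Q := act 2 n2418
theorem D5015 : act 2 n2418 = n5015 := rfl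
theorem F7633 : act 1 n5015 = n2422 := d6_1 D5015 (iv D2422) (iv D1178) (iv F1985) D2418
def n5017 : Q := act 0 n2419
theorem D5017 : act 0 n2419 = n5017 := rfl
theorem F7635 : act 4 n5017 = n2421 := d3_2 (iv F3797) D5017 (iv D2421)
def n5018 : Q := act 2 n2419
theorem D5018 : act 2 n2419 = n5018 := rfl
theorem F7636 : act 4 n5018 = n2422 := d12_2 (iv F3797) D5018 (iv D2422)
def n5020 : Q := act 1 n2420
theorem D5020 : act 1 n2420 = n5020 := rfl
theorem F7638 : act 4 n5020 = n2424 := d8_2 (iv F3799) D5020 (iv D2424)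
def n5021 : Q := act 1 n2421
theorem D5021 : act 1 n2421 = n5021 := rfl
theorem F7639 : act 3 n5021 = n2425 := d7_2 (iv F3801) D5021 (iv D2425)
def n5023 : Q := act 6 n2421
theorem D5023 : act 6 n2421 = n5023 := rfl
theorem F7641 : act 0 n5023 = n2423 := d5_1 D5023 (iv D2423) D2421
theorem F7642 : act 3 n5023 = n2426 := d17_1 D5023 (iv D2426) (iv F3801)
theorem F7643 : act 5 n5023 = n4836 := d22_2 F7367 D5023 (iv D4836) D4834
def n5026 : Q := act 1 n2423
theorem D5026 : act 1 n2423 = n5026 := rfl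
theorem F7646 : act 6 n5026 = n2424 := d10_2 D2423 D5026 (iv D2424) (iv D1179) D1178
def n5029 : Q := act 2 n2424
theorem D5029 : act 2 n2424 = n5029 := rfl
def n5030 : Q := act 5 n2424
theorem D5030 : act 5 n2424 = n5030 := rfl
def n5031 : Q := act 0 n2425
theorem D5031 : act 0 n2425 = n5031 := rfl
def n5032 : Q := act 2 n2425
theorem D5032 : act 2 n2425 = n5032 := rfl
def n5033 : Q := act 5 n2425
theorem D5033 : act 5 n2425 = n5033 := rfl
def n5034 : Q := act 6 n2425
theorem D5034 : act 6 n2425 = n5034 := rfl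
def n5035 : Q := act 1 n2426
theorem D5035 : act 1 n2426 = n5035 := rfl
def n5038 : Q := act 1 n2428
theorem D5038 : act 1 n2428 = n5038 := rfl
def n5043 : Q := act 4 n2431
theorem D5043 : act 4 n2431 = n5043 := rfl
theorem F7664 : act 0 n5043 = n2435 := d3_1 D5043 (iv D2435) (iv F3813)
theorem F7665 : act 1 n5043 = n4944 := d8_1 D5043 F7547 (iv F3814)
theorem F7666 : act 5 n5043 = n2435 := d18_2 (iv F3815) D5043 (iv D2435)
def n5045 : Q := act 3 n2432
theorem D5045 : act 3 n2432 = n5045 := rfl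
theorem F7670 : act 0 n5045 = n2437 := d2_1 D5045 (iv D2437) (iv F3816)
theorem F7671 : act 1 n5045 = n4857 := d7_1 D5045 F7402 (iv F3817)
theorem F7672 : act 5 n5045 = n2437 := d16_2 (iv F3819) D5045 (iv D2437)
def n5046 : Q := act 6 n2432
theorem D5046 : act 6 n2432 = n5046 := rfl
theorem F7673 : act 0 n5046 = n2438 := d5_1 D5046 (iv D2438) (iv F3816)
def n5049 : Q := act 4 n2434
theorem D5049 : act 4 n2434 = n5049 := rfl
theorem F7680 : act 2 n5049 = n2435 := d12_1 D5049 (iv D2435) D2434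
def n5051 : Q := act 3 n2435
theorem D5051 : act 3 n2435 = n5051 := rfl
theorem F7683 : act 1 n5051 = n2439 := d7_1 D5051 (iv D2439) (iv F3824)
theorem F7684 : act 4 n5051 = n2437 := d15_2 D2435 D5051 (iv D2437) (iv D1185) D1184
def n5052 : Q := act 6 n2435
theorem D5052 : act 6 n2435 = n5052 := rfl
def n5053 : Q := act 2 n2437
theorem D5053 : act 2 n2437 = n5053 := rfl
def n5054 : Q := act 6 n2437
theorem D5054 : act 6 n2437 = n5054 := rfl
theorem F7687 : act 3 n5054 = n2438 := d17_1 D5054 (iv D2438) D2437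
theorem F7688 : act 5 n5054 = n5054 := d22_2 F7672 D5054 (iv D5054) (iv F7670)
def n5055 : Q := act 2 n2439
theorem D5055 : act 2 n2439 = n5055 := rfl
theorem F7689 : act 0 n5055 = n4092 := d1_1 D5055 F6198 (iv F3831)
theorem F7690 : act 4 n5055 = n2440 := d12_2 (iv F3832) D5055 (iv D2440)
theorem F7691 : act 5 n5055 = n4862 := d13_2 (iv F3833) D5055 F7411
def n5056 : Q := act 1 n2440
theorem D5056 : act 1 n2440 = n5056 := rfl
theorem F7692 : act 3 n5056 = n4091 := d7_2 (iv F3836) D5056 (iv D4091)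
def n5072 : Q := act 6 n2446
theorem D5072 : act 6 n2446 = n5072 := rfl
def n5074 : Q := act 4 n2447
theorem D5074 : act 4 n2447 = n5074 := rfl
theorem F7722 : act 0 n5074 = n2452 := d3_1 D5074 (iv D2452) (iv F3847)
def n5076 : Q := act 6 n2447
theorem D5076 : act 6 n2447 = n5076 := rfl
theorem F7726 : act 3 n5076 = n2450 := d17_1 D5076 (iv D2450) D2447
def n5077 : Q := act 3 n2448
theorem D5077 : act 3 n2448 = n5077 := rfl
theorem F7727 : act 0 n5077 = n2455 := d2_1 D5077 (iv D2455) (iv F3848)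
def n5078 : Q := act 5 n2448
theorem D5078 : act 5 n2448 = n5078 := rfl
theorem F7728 : act 0 n5078 = n2456 := d4_1 D5078 (iv D2456) (iv F3848)
def n5079 : Q := act 6 n2448
theorem D5079 : act 6 n2448 = n5079 := rfl
theorem F7733 : act 4 n5079 = n2450 := d19_1 D5079 (iv D2450) D2448
def n5083 : Q := act 4 n2451
theorem D5083 : act 4 n2451 = n5083 := rfl
theorem F7736 : act 2 n5083 = n2452 := d12_1 D5083 (iv D2452) D2451
def n5086 : Q := act 3 n2452
theorem D5086 : act 3 n2452 = n5086 := rfl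
theorem F7739 : act 1 n5086 = n2461 := d7_1 D5086 (iv D2461) (iv F3855)
theorem F7740 : act 4 n5086 = n2455 := d15_2 D2452 D5086 (iv D2455) (iv D1193) D1192
def n5088 : Q := act 6 n2452
theorem D5088 : act 6 n2452 = n5088 := rfl
theorem F7742 : act 4 n5088 = n2454 := d19_1 D5088 (iv D2454) D2452
def n5092 : Q := act 2 n2455
theorem D5092 : act 2 n2455 = n5092 := rfl
def n5093 : Q := act 5 n2455
theorem D5093 : act 5 n2455 = n5093 := rfl
theorem F7750 : act 3 n5093 = n2456 := d16_1 D5093 (iv D2456) D2455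
def n5094 : Q := act 6 n2455
theorem D5094 : act 6 n2455 = n5094 := rfl
theorem F7751 : act 3 n5094 = n2457 := d17_1 D5094 (iv D2457) D2455
def n5095 : Q := act 1 n2456
theorem D5095 : act 1 n2456 = n5095 := rfl
theorem F7753 : act 5 n5095 = n2466 := d9_2 D2456 D5095 (iv D2466) (iv D1199) (iv F2012)
def n5096 : Q := act 6 n2456
theorem D5096 : act 6 n2456 = n5096 := rfl
theorem F7756 : act 5 n5096 = n5079 := d22_2 D2456 D5096 (iv D5079) F3848
def n5103 : Q := act 2 n2461
theorem D5103 : act 2 n2461 = n5103 := rfl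
theorem F7765 : act 4 n5103 = n2464 := d12_2 (iv F3870) D5103 (iv D2464)
def n5107 : Q := act 2 n2463
theorem D5107 : act 2 n2463 = n5107 := rfl
theorem F7771 : act 1 n5107 = n4037 := d6_1 D5107 (iv D4037) F3098 (iv F2019) D2463
def n5109 : Q := act 1 n2464
theorem D5109 : act 1 n2464 = n5109 := rfl
def n5110 : Q := act 5 n2464
theorem D5110 : act 5 n2464 = n5110 := rfl
theorem F7773 : act 2 n5110 = n2465 := d13_1 D5110 (iv D2465) D2464
def n5140 : Q := act 0 n2481
theorem D5140 : act 0 n2481 = n5140 := rfl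
theorem F7815 : act 4 n5140 = n2650 := d3_2 (iv F3899) D5140 (iv D2650)
def n5141 : Q := act 2 n2481
theorem D5141 : act 2 n2481 = n5141 := rfl
theorem F7816 : act 1 n5141 = n5141 := d6_1 D5141 (iv D5141) (iv D2481) F2043 D2481
theorem F7817 : act 4 n5141 = n2651 := d12_2 (iv F3899) D5141 (iv D2651)
def n5142 : Q := act 3 n2481
theorem D5142 : act 3 n2481 = n5142 := rfl
theorem F7818 : act 1 n5142 = n2482 := d7_1 D5142 (iv D2482) D2481
def n5143 : Q := act 5 n2481
theorem D5143 : act 5 n2481 = n5143 := rfl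
theorem F7819 : act 4 n5143 = n2652 := d18_1 D5143 (iv D2652) (iv F3899)
def n5144 : Q := act 6 n2481
theorem D5144 : act 6 n2481 = n5144 := rfl
theorem F7820 : act 4 n5144 = n2653 := d19_1 D5144 (iv D2653) (iv F3899)
def n5145 : Q := act 2 n2482
theorem D5145 : act 2 n2482 = n5145 := rfl
theorem F7821 : act 0 n5145 = n2485 := d1_1 D5145 (iv D2485) (iv F3900)
def n5146 : Q := act 5 n2482
theorem D5146 : act 5 n2482 = n5146 := rfl
theorem F7822 : act 0 n5146 = n2486 := d4_1 D5146 (iv D2486) (iv F3900)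
theorem F7823 : act 3 n5146 = n2483 := d16_1 D5146 (iv D2483) D2482
def n5147 : Q := act 6 n2482
theorem D5147 : act 6 n2482 = n5147 := rfl
theorem F7824 : act 0 n5147 = n2487 := d5_1 D5147 (iv D2487) (iv F3900)
theorem F7825 : act 3 n5147 = n2484 := d17_1 D5147 (iv D2484) D2482
def n5148 : Q := act 1 n2483
theorem D5148 : act 1 n2483 = n5148 := rfl
theorem F7826 : act 4 n5148 = n2654 := d8_2 (iv F3903) D5148 (iv D2654)
def n5149 : Q := act 1 n2484
theorem D5149 : act 1 n2484 = n5149 := rfl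
theorem F7827 : act 4 n5149 = n2655 := d8_2 (iv F3906) D5149 (iv D2655)
def n5150 : Q := act 3 n2485
theorem D5150 : act 3 n2485 = n5150 := rfl
theorem F7828 : act 1 n5150 = n5150 := d7_1 D5150 (iv D5150) F3907
def n5151 : Q := act 5 n2485
theorem D5151 : act 5 n2485 = n5151 := rfl
theorem F7829 : act 2 n5151 = n2486 := d13_1 D5151 (iv D2486) D2485
def n5152 : Q := act 6 n2485
theorem D5152 : act 6 n2485 = n5152 := rfl
theorem F7830 : act 2 n5152 = n2487 := d14_1 D5152 (iv D2487) D2485
def n5153 : Q := act 1 n2486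
theorem D5153 : act 1 n2486 = n5153 := rfl
theorem F7831 : act 3 n5153 = n2488 := d7_2 (iv F3908) D5153 (iv D2488)
theorem F7832 : act 5 n5153 = n2492 := d9_2 D2486 D5153 (iv D2492) (iv D1213) (iv F2045)
def n5154 : Q := act 6 n2486
theorem D5154 : act 6 n2486 = n5154 := rfl
theorem F7833 : act 3 n5154 = n2489 := d17_1 D5154 (iv D2489) (iv F3908)
theorem F7834 : act 5 n5154 = n5147 := d22_2 D2486 D5154 (iv D5147) F3900
def n5155 : Q := act 1 n2487
theorem D5155 : act 1 n2487 = n5155 := rfl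
theorem F7835 : act 3 n5155 = n2490 := d7_2 (iv F3909) D5155 (iv D2490)
theorem F7836 : act 6 n5155 = n2494 := d10_2 D2487 D5155 (iv D2494) (iv D1214) (iv F2045)
def n5156 : Q := act 5 n2487
theorem D5156 : act 5 n2487 = n5156 := rfl
theorem F7837 : act 0 n5156 = n5154 := d4_1 D5156 F7834 F7824
theorem F7838 : act 3 n5156 = n2491 := d16_1 D5156 (iv D2491) (iv F3909)
theorem F7839 : act 6 n5156 = n5146 := d20_2 D2487 D5156 (iv D5146) D5147 (iv F7834) (iv D5154) (iv D2486)
def n5157 : Q := act 0 n2488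
theorem D5157 : act 0 n2488 = n5157 := rfl
theorem F7840 : act 4 n5157 = n2656 := d3_2 (iv F3910) D5157 (iv D2656)
theorem F7841 : act 5 n5157 = n2496 := d4_2 (iv F3911) D5157 (iv D2496)
def n5158 : Q := act 2 n2488
theorem D5158 : act 2 n2488 = n5158 := rfl
theorem F7842 : act 1 n5158 = n5158 := d6_1 D5158 (iv D5158) (iv D2488) F2046 D2488
theorem F7843 : act 4 n5158 = n2657 := d12_2 (iv F3910) D5158 (iv D2657)
theorem F7844 : act 5 n5158 = n2497 := d13_2 (iv F3911) D5158 (iv D2497)
def n5159 : Q := act 6 n2488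
theorem D5159 : act 6 n2488 = n5159 := rfl
theorem F7845 : act 4 n5159 = n2658 := d19_1 D5159 (iv D2658) (iv F3910)
def n5160 : Q := act 1 n2489
theorem D5160 : act 1 n2489 = n5160 := rfl
theorem F7846 : act 4 n5160 = n2659 := d8_2 (iv F3913) D5160 (iv D2659)
def n5161 : Q := act 0 n2490
theorem D5161 : act 0 n2490 = n5161 := rfl
theorem F7847 : act 4 n5161 = n2660 := d3_2 (iv F3915) D5161 (iv D2660)
theorem F7848 : act 6 n5161 = n2500 := d5_2 (iv F3916) D5161 (iv D2500)
def n5162 : Q := act 2 n2490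
theorem D5162 : act 2 n2490 = n5162 := rfl
theorem F7849 : act 1 n5162 = n5162 := d6_1 D5162 (iv D5162) (iv D2490) F2048 D2490
theorem F7850 : act 4 n5162 = n2661 := d12_2 (iv F3915) D5162 (iv D2661)
theorem F7851 : act 6 n5162 = n2501 := d14_2 (iv F3916) D5162 (iv D2501)
def n5163 : Q := act 5 n2490
theorem D5163 : act 5 n2490 = n5163 := rfl
theorem F7852 : act 4 n5163 = n2662 := d18_1 D5163 (iv D2662) (iv F3915)
def n5164 : Q := act 1 n2491
theorem D5164 : act 1 n2491 = n5164 := rfl
theorem F7853 : act 4 n5164 = n2663 := d8_2 (iv F3919) D5164 (iv D2663)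
def n5165 : Q := act 0 n2492
theorem D5165 : act 0 n2492 = n5165 := rfl
theorem F7854 : act 3 n5165 = n2496 := d2_2 (iv F3921) D5165 (iv D2496)
def n5166 : Q := act 2 n2492
theorem D5166 : act 2 n2492 = n5166 := rfl
theorem F7855 : act 1 n5166 = n5166 := d6_1 D5166 (iv D5166) (iv D2492) F2050 D2492
def n5167 : Q := act 6 n2492
theorem D5167 : act 6 n2492 = n5167 := rfl
theorem F7856 : act 3 n5167 = n2498 := d17_1 D5167 (iv D2498) (iv F3921)
def n5168 : Q := act 1 n2493
theorem D5168 : act 1 n2493 = n5168 := rfl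
theorem F7857 : act 3 n5168 = n2499 := d7_2 (iv F3923) D5168 (iv D2499)
def n5169 : Q := act 0 n2494
theorem D5169 : act 0 n2494 = n5169 := rfl
theorem F7858 : act 3 n5169 = n2500 := d2_2 (iv F3925) D5169 (iv D2500)
def n5170 : Q := act 2 n2494
theorem D5170 : act 2 n2494 = n5170 := rfl
theorem F7859 : act 1 n5170 = n5170 := d6_1 D5170 (iv D5170) (iv D2494) F2052 D2494
def n5171 : Q := act 5 n2494
theorem D5171 : act 5 n2494 = n5171 := rfl
theorem F7860 : act 3 n5171 = n2502 := d16_1 D5171 (iv D2502) (iv F3925)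
def n5172 : Q := act 1 n2495
theorem D5172 : act 1 n2495 = n5172 := rfl
theorem F7861 : act 3 n5172 = n2503 := d7_2 (iv F3928) D5172 (iv D2503)
theorem F7862 : act 4 n5172 = n5168 := d8_2 (iv F3929) D5172 (iv D5168)
def n5173 : Q := act 1 n2496
theorem D5173 : act 1 n2496 = n5173 := rfl
theorem F7863 : act 4 n5173 = n2664 := d8_2 (iv F3931) D5173 (iv D2664)
def n5174 : Q := act 2 n2496
theorem D5174 : act 2 n2496 = n5174 := rfl
theorem F7864 : act 0 n5174 = n2497 := d1_1 D5174 (iv D2497) D2496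
theorem F7865 : act 4 n5174 = n2665 := d12_2 (iv F3931) D5174 (iv D2665)
def n5175 : Q := act 6 n2496
theorem D5175 : act 6 n2496 = n5175 := rfl
theorem F7866 : act 0 n5175 = n2498 := d5_1 D5175 (iv D2498) D2496
theorem F7867 : act 4 n5175 = n2666 := d19_1 D5175 (iv D2666) (iv F3931)
theorem F7868 : act 5 n5175 = n5159 := d22_2 F7841 D5175 (iv D5159) D5157
def n5176 : Q := act 3 n2497
theorem D5176 : act 3 n2497 = n5176 := rfl
theorem F7869 : act 1 n5176 = n2507 := d7_1 D5176 (iv D2507) (iv F3932)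
def n5177 : Q := act 6 n2497
theorem D5177 : act 6 n2497 = n5177 := rfl
theorem F7870 : act 2 n5177 = n2498 := d14_1 D5177 (iv D2498) D2497
theorem F7871 : act 4 n5177 = n2668 := d19_1 D5177 (iv D2668) (iv F3933)
def n5178 : Q := act 1 n2498
theorem D5178 : act 1 n2498 = n5178 := rfl
theorem F7872 : act 4 n5178 = n2669 := d8_2 (iv F3934) D5178 (iv D2669)
theorem F7873 : act 6 n5178 = n2499 := d10_2 D2498 D5178 (iv D2499) (iv D1216) D1215
def n5179 : Q := act 5 n2498
theorem D5179 : act 5 n2498 = n5179 := rfl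
theorem F7874 : act 0 n5179 = n5159 := d4_1 D5179 (iv F7868) F7866
theorem F7875 : act 4 n5179 = n2670 := d18_1 D5179 (iv D2670) (iv F3934)
theorem F7876 : act 6 n5179 = n5157 := d20_2 D2498 D5179 F7841 D5175 F7868 (iv D5159) F3911
def n5180 : Q := act 0 n2499
theorem D5180 : act 0 n2499 = n5180 := rfl
theorem F7877 : act 4 n5180 = n2671 := d3_2 (iv F3935) D5180 (iv D2671)
def n5181 : Q := act 2 n2499
theorem D5181 : act 2 n2499 = n5181 := rfl
theorem F7878 : act 1 n5181 = n2511 := d6_1 D5181 (iv D2511) (iv D1222) (iv F2055) D2499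
theorem F7879 : act 4 n5181 = n2672 := d12_2 (iv F3935) D5181 (iv D2672)
def n5182 : Q := act 5 n2499
theorem D5182 : act 5 n2499 = n5182 := rfl
theorem F7880 : act 1 n5182 = n4521 := d9_1 D5182 (iv D4521) (iv D2176) (iv F2057) D2499
theorem F7881 : act 4 n5182 = n2673 := d18_1 D5182 (iv D2673) (iv F3935)
def n5183 : Q := act 1 n2500
theorem D5183 : act 1 n2500 = n5183 := rfl
theorem F7882 : act 4 n5183 = n2674 := d8_2 (iv F3936) D5183 (iv D2674)
def n5184 : Q := act 2 n2500
theorem D5184 : act 2 n2500 = n5184 := rfl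
theorem F7883 : act 0 n5184 = n2501 := d1_1 D5184 (iv D2501) D2500
theorem F7884 : act 4 n5184 = n2675 := d12_2 (iv F3936) D5184 (iv D2675)
def n5185 : Q := act 5 n2500
theorem D5185 : act 5 n2500 = n5185 := rfl
theorem F7885 : act 0 n5185 = n2502 := d4_1 D5185 (iv D2502) D2500
theorem F7886 : act 4 n5185 = n2676 := d18_1 D5185 (iv D2676) (iv F3936)
theorem F7887 : act 6 n5185 = n5163 := d22_1 D5185 (iv D5163) F3916 D2500
def n5186 : Q := act 3 n2501
theorem D5186 : act 3 n2501 = n5186 := rfl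
theorem F7888 : act 1 n5186 = n2516 := d7_1 D5186 (iv D2516) (iv F3937)
def n5187 : Q := act 5 n2501
theorem D5187 : act 5 n2501 = n5187 := rfl
theorem F7889 : act 2 n5187 = n2502 := d13_1 D5187 (iv D2502) D2501
theorem F7890 : act 4 n5187 = n2678 := d18_1 D5187 (iv D2678) (iv F3938)
def n5188 : Q := act 1 n2502
theorem D5188 : act 1 n2502 = n5188 := rfl
theorem F7891 : act 4 n5188 = n2679 := d8_2 (iv F3939) D5188 (iv D2679)
theorem F7892 : act 5 n5188 = n2503 := d9_2 D2502 D5188 (iv D2503) (iv D1218) D1217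
def n5189 : Q := act 6 n2502
theorem D5189 : act 6 n2502 = n5189 := rfl
theorem F7893 : act 0 n5189 = n5163 := d5_1 D5189 (iv F7887) F7885
theorem F7894 : act 4 n5189 = n2680 := d19_1 D5189 (iv D2680) (iv F3939)
theorem F7895 : act 5 n5189 = n5161 := d20_1 D5189 F7848 D5185 F7887 (iv D5163) F3916 D2502
def n5190 : Q := act 0 n2503
theorem D5190 : act 0 n2503 = n5190 := rfl
theorem F7896 : act 4 n5190 = n2681 := d3_2 (iv F3940) D5190 (iv D2681)
def n5191 : Q := act 2 n2503
theorem D5191 : act 2 n2503 = n5191 := rfl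
theorem F7897 : act 1 n5191 = n2520 := d6_1 D5191 (iv D2520) (iv D1226) (iv F2060) D2503
theorem F7898 : act 4 n5191 = n2682 := d12_2 (iv F3940) D5191 (iv D2682)
def n5192 : Q := act 6 n2503
theorem D5192 : act 6 n2503 = n5192 := rfl
theorem F7899 : act 1 n5192 = n4518 := d10_1 D5192 (iv D4518) (iv D2175) (iv F2062) D2503
theorem F7900 : act 4 n5192 = n2683 := d19_1 D5192 (iv D2683) (iv F3940)
def n5198 : Q := act 3 n2505
theorem D5198 : act 3 n2505 = n5198 := rfl
theorem F7910 : act 0 n5198 = n2507 := d2_1 D5198 (iv D2507) (iv F3943)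
def n5199 : Q := act 6 n2505
theorem D5199 : act 6 n2505 = n5199 := rfl
theorem F7912 : act 0 n5199 = n2508 := d5_1 D5199 (iv D2508) (iv F3943)
theorem F7915 : act 5 n5199 = n2508 := d22_2 F3945 D5199 (iv D2508) (iv F3943)
def n5201 : Q := act 2 n2507
theorem D5201 : act 2 n2507 = n5201 := rfl
theorem F7918 : act 5 n5201 = n5201 := d13_2 F3950 D5201 (iv D5201)
def n5202 : Q := act 4 n2507
theorem D5202 : act 4 n2507 = n5202 := rfl
theorem F7919 : act 3 n5202 = n2692 := d15_1 D5202 (iv D2692) (iv D1303) (iv F2066) D2507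
theorem F7920 : act 5 n5202 = n5202 := d18_2 F3950 D5202 (iv D5202)
def n5203 : Q := act 6 n2507
theorem D5203 : act 6 n2507 = n5203 := rfl
theorem F7921 : act 3 n5203 = n2508 := d17_1 D5203 (iv D2508) D2507
def n5204 : Q := act 1 n2508
theorem D5204 : act 1 n2508 = n5204 := rfl
theorem F7922 : act 4 n5204 = n2694 := d8_2 (iv F3952) D5204 (iv D2694)
def n5205 : Q := act 0 n2509
theorem D5205 : act 0 n2509 = n5205 := rfl
theorem F7925 : act 6 n5205 = n2510 := d5_2 (iv F3955) D5205 (iv D2510)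
def n5206 : Q := act 2 n2509
theorem D5206 : act 2 n2509 = n5206 := rfl
theorem F7926 : act 4 n5206 = n2696 := d12_2 (iv F3954) D5206 (iv D2696)
theorem F7927 : act 6 n5206 = n2511 := d14_2 (iv F3955) D5206 (iv D2511)
def n5207 : Q := act 5 n2509
theorem D5207 : act 5 n2509 = n5207 := rfl
theorem F7929 : act 4 n5207 = n2697 := d18_1 D5207 (iv D2697) (iv F3954)
def n5208 : Q := act 1 n2510
theorem D5208 : act 1 n2510 = n5208 := rfl
theorem F7930 : act 3 n5208 = n2537 := d7_2 (iv F3956) D5208 (iv D2537)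
theorem F7931 : act 4 n5208 = n2698 := d8_2 (iv F3957) D5208 (iv D2698)
def n5209 : Q := act 2 n2510
theorem D5209 : act 2 n2510 = n5209 := rfl
theorem F7932 : act 0 n5209 = n2511 := d1_1 D5209 (iv D2511) D2510
theorem F7933 : act 4 n5209 = n2699 := d12_2 (iv F3957) D5209 (iv D2699)
def n5210 : Q := act 5 n2510
theorem D5210 : act 5 n2510 = n5210 := rfl
theorem F7936 : act 4 n5210 = n2700 := d18_1 D5210 (iv D2700) (iv F3957)
theorem F7937 : act 6 n5210 = n5207 := d22_1 D5210 (iv D5207) F3955 D2510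
def n5211 : Q := act 3 n2511
theorem D5211 : act 3 n2511 = n5211 := rfl
def n5213 : Q := act 6 n2512
theorem D5213 : act 6 n2512 = n5213 := rfl
theorem F7943 : act 5 n5213 = n5205 := d20_1 D5213 F7925 D5210 F7937 (iv D5207) F3955 D2512
def n5219 : Q := act 3 n2514
theorem D5219 : act 3 n2514 = n5219 := rfl
theorem F7953 : act 0 n5219 = n2516 := d2_1 D5219 (iv D2516) (iv F3964)
def n5220 : Q := act 5 n2514
theorem D5220 : act 5 n2514 = n5220 := rfl
theorem F7955 : act 0 n5220 = n2517 := d4_1 D5220 (iv D2517) (iv F3964)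
theorem F7956 : act 2 n5220 = n2515 := d13_1 D5220 (iv D2515) D2514
theorem F7958 : act 6 n5220 = n2517 := d22_1 D5220 (iv D2517) F2076 (iv F3964)
def n5222 : Q := act 2 n2516
theorem D5222 : act 2 n2516 = n5222 := rfl
theorem F7961 : act 6 n5222 = n5222 := d14_2 F3971 D5222 (iv D5222)
def n5223 : Q := act 4 n2516
theorem D5223 : act 4 n2516 = n5223 := rfl
theorem F7962 : act 3 n5223 = n2712 := d15_1 D5223 (iv D2712) (iv D1312) (iv F2075) D2516
theorem F7963 : act 6 n5223 = n5223 := d19_2 F3971 D5223 (iv D5223)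
def n5224 : Q := act 5 n2516
theorem D5224 : act 5 n2516 = n5224 := rfl
theorem F7964 : act 3 n5224 = n2517 := d16_1 D5224 (iv D2517) D2516
def n5225 : Q := act 1 n2517
theorem D5225 : act 1 n2517 = n5225 := rfl
theorem F7965 : act 4 n5225 = n2714 := d8_2 (iv F3973) D5225 (iv D2714)
def n5226 : Q := act 0 n2518
theorem D5226 : act 0 n2518 = n5226 := rfl
theorem F7966 : act 3 n5226 = n2555 := d2_2 (iv F3974) D5226 (iv D2555)
theorem F7968 : act 5 n5226 = n2519 := d4_2 (iv F3976) D5226 (iv D2519)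
def n5227 : Q := act 2 n2518
theorem D5227 : act 2 n2518 = n5227 := rfl
theorem F7969 : act 4 n5227 = n2716 := d12_2 (iv F3975) D5227 (iv D2716)
def n5229 : Q := act 1 n2519
theorem D5229 : act 1 n2519 = n5229 := rfl
theorem F7973 : act 3 n5229 = n2558 := d7_2 (iv F3977) D5229 (iv D2558)
theorem F7974 : act 4 n5229 = n2718 := d8_2 (iv F3978) D5229 (iv D2718)
def n5230 : Q := act 2 n2519
theorem D5230 : act 2 n2519 = n5230 := rfl
theorem F7975 : act 0 n5230 = n2520 := d1_1 D5230 (iv D2520) D2519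
theorem F7976 : act 4 n5230 = n2719 := d12_2 (iv F3978) D5230 (iv D2719)
def n5232 : Q := act 3 n2520
theorem D5232 : act 3 n2520 = n5232 := rfl
def n5233 : Q := act 6 n2520
theorem D5233 : act 6 n2520 = n5233 := rfl
theorem F7981 : act 2 n5233 = n2521 := d14_1 D5233 (iv D2521) D2520
def n5238 : Q := act 1 n2523
theorem D5238 : act 1 n2523 = n5238 := rfl
theorem F7993 : act 2 n5238 = n2526 := d6_2 D2523 D5238 (iv D2526) (iv D1228) D1227
def n5245 : Q := act 0 n2526
theorem D5245 : act 0 n2526 = n5245 := rfl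
theorem F8006 : act 4 n5245 = n2574 := d3_2 (iv F3988) D5245 (iv D2574)
theorem F8007 : act 5 n5245 = n5238 := d23_4 F1156 D1228 D2526 D5245 F7993 (iv D2526) F2082 F1158 (iv D619) (iv D315) (iv F546) (iv D273) F268 F152 (iv F267) D273 F547 D315 D618
def n5247 : Q := act 5 n2526
theorem D5247 : act 5 n2526 = n5247 := rfl
theorem F8011 : act 2 n5247 = n5245 := d13_1 D5247 F8007 F7993
theorem F8012 : act 4 n5247 = n2576 := d18_1 D5247 (iv D2576) (iv F3988)
def n5249 : Q := act 2 n2527
theorem D5249 : act 2 n2527 = n5249 := rfl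
theorem F8014 : act 0 n5249 = n2530 := d1_1 D5249 (iv D2530) (iv F3989)
theorem F8016 : act 3 n5249 = n5201 := d21_1 D5249 (iv D5201) (iv D2507) (iv D1220) F1142 D619 D1230 (iv F3989)
def n5256 : Q := act 1 n2530
theorem D5256 : act 1 n2530 = n5256 := rfl
def n5257 : Q := act 3 n2530
theorem D5257 : act 3 n2530 = n5257 := rfl
theorem F8028 : act 0 n5257 = n5201 := d2_1 D5257 (iv F8016) F8014
def n5269 : Q := act 0 n2537
theorem D5269 : act 0 n2537 = n5269 := rfl
theorem F8048 : act 4 n5269 = n2593 := d3_2 (iv F4006) D5269 (iv D2593)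
def n5270 : Q := act 2 n2537
theorem D5270 : act 2 n2537 = n5270 := rfl
theorem F8049 : act 4 n5270 = n2594 := d12_2 (iv F4006) D5270 (iv D2594)
def n5271 : Q := act 5 n2537
theorem D5271 : act 5 n2537 = n5271 := rfl
theorem F8050 : act 4 n5271 = n2595 := d18_1 D5271 (iv D2595) (iv F4006)
theorem F8051 : act 6 n4555 = n5271 := d19_0 F8050 (iv F4092) (iv F6953)
def n5272 : Q := act 6 n2537
theorem D5272 : act 6 n2537 = n5272 := rfl
def n5276 : Q := act 1 n2539
theorem D5276 : act 1 n2539 = n5276 := rfl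
theorem F8059 : act 4 n5276 = n2600 := d8_2 (iv F4010) D5276 (iv D2600)
theorem F8061 : act 6 n4337 = n5276 := d19_0 F8059 (iv F4100) (iv F6621)
def n5284 : Q := act 5 n2543
theorem D5284 : act 5 n2543 = n5284 := rfl
def n5285 : Q := act 6 n2543
theorem D5285 : act 6 n2543 = n5285 := rfl
theorem F8077 : act 4 n5285 = n2609 := d19_1 D5285 (iv D2609) (iv F4017)
def n5286 : Q := act 1 n2544
theorem D5286 : act 1 n2544 = n5286 := rfl
theorem F8078 : act 2 n5286 = n2547 := d6_2 D2544 D5286 (iv D2547) (iv D1237) D1236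
theorem F8079 : act 4 n5286 = n2610 := d8_2 (iv F4018) D5286 (iv D2610)
def n5290 : Q := act 1 n2545
theorem D5290 : act 1 n2545 = n5290 := rfl
theorem F8085 : act 5 n5290 = n2550 := d9_2 D2545 D5290 (iv D2550) (iv D1238) D1236
def n5293 : Q := act 0 n2547
theorem D5293 : act 0 n2547 = n5293 := rfl
theorem F8091 : act 4 n5293 = n2617 := d3_2 (iv F4022) D5293 (iv D2617)
def n5295 : Q := act 5 n2547
theorem D5295 : act 5 n2547 = n5295 := rfl
theorem F8093 : act 4 n5295 = n2619 := d18_1 D5295 (iv D2619) (iv F4022)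
def n5296 : Q := act 6 n2547
theorem D5296 : act 6 n2547 = n5296 := rfl
theorem F8095 : act 4 n5296 = n2620 := d19_1 D5296 (iv D2620) (iv F4022)
def n5297 : Q := act 2 n2548
theorem D5297 : act 2 n2548 = n5297 := rfl
theorem F8096 : act 0 n5297 = n2551 := d1_1 D5297 (iv D2551) (iv F4023)
theorem F8098 : act 3 n5297 = n5222 := d21_1 D5297 (iv D5222) (iv D2516) (iv D1224) F1148 D623 D1239 (iv F4023)
def n5298 : Q := act 4 n2548
theorem D5298 : act 4 n2548 = n5298 := rfl
theorem F8100 : act 3 n5298 = n2621 := d15_1 D5298 (iv D2621) (iv D1270) (iv F2099) D2548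
def n5304 : Q := act 1 n2551
theorem D5304 : act 1 n2551 = n5304 := rfl
def n5305 : Q := act 3 n2551
theorem D5305 : act 3 n2551 = n5305 := rfl
theorem F8110 : act 0 n5305 = n5222 := d2_1 D5305 (iv F8098) F8096
def n5310 : Q := act 0 n2554
theorem D5310 : act 0 n2554 = n5310 := rfl
theorem F8119 : act 4 n5310 = n2629 := d3_2 (iv F4034) D5310 (iv D2629)
def n5311 : Q := act 2 n2554
theorem D5311 : act 2 n2554 = n5311 := rfl
theorem F8121 : act 4 n5311 = n2630 := d12_2 (iv F4034) D5311 (iv D2630)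
def n5314 : Q := act 2 n2555
theorem D5314 : act 2 n2555 = n5314 := rfl
theorem F8125 : act 0 n5314 = n2556 := d1_1 D5314 (iv D2556) D2555
theorem F8127 : act 5 n5314 = n2559 := d13_2 (iv F4036) D5314 (iv D2559)
def n5316 : Q := act 6 n2556
theorem D5316 : act 6 n2556 = n5316 := rfl
theorem F8130 : act 4 n5316 = n2635 := d19_1 D5316 (iv D2635) (iv F4037)
def n5317 : Q := act 0 n2558
theorem D5317 : act 0 n2558 = n5317 := rfl
theorem F8131 : act 1 n5317 = n5269 := d0_2 D2558 D5317 (iv D5269) (iv D2537) (iv D1233) (iv D621) (iv F622) D625 D1242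
theorem F8132 : act 4 n5317 = n2636 := d3_2 (iv F4040) D5317 (iv D2636)
def n5318 : Q := act 2 n2558
theorem D5318 : act 2 n2558 = n5318 := rfl
theorem F8133 : act 4 n5318 = n2637 := d12_2 (iv F4040) D5318 (iv D2637)
def n5319 : Q := act 5 n2558
theorem D5319 : act 5 n2558 = n5319 := rfl
def n5320 : Q := act 6 n2558
theorem D5320 : act 6 n2558 = n5320 := rfl
theorem F8135 : act 4 n5320 = n2639 := d19_1 D5320 (iv D2639) (iv F4040)
theorem F8136 : act 5 n4541 = n5320 := d18_0 F8135 (iv F4148) (iv F6931)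
def n5323 : Q := act 6 n2559
theorem D5323 : act 6 n2559 = n5323 := rfl
theorem F8139 : act 0 n5323 = n2562 := d5_1 D5323 (iv D2562) (iv F4041)
theorem F8142 : act 5 n5323 = n5316 := d22_2 F8127 D5323 (iv D5316) (iv F8125)
def n5324 : Q := act 1 n2560
theorem D5324 : act 1 n2560 = n5324 := rfl
theorem F8143 : act 4 n5324 = n2643 := d8_2 (iv F4044) D5324 (iv D2643)
theorem F8144 : act 0 n4331 = n5324 := d3_3 F8143 (iv F4154) (iv F6610)
theorem F8145 : act 5 n4329 = n5324 := d18_0 F8143 (iv F4155) (iv F6606)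
def n5328 : Q := act 1 n2562
theorem D5328 : act 1 n2562 = n5328 := rfl
theorem F8149 : act 2 n5328 = n4545 := d6_2 (iv F4047) D5328 (iv D4545) F3472 (iv F2112)
def n5335 : Q := act 3 n2567
theorem D5335 : act 3 n2567 = n5335 := rfl
def n5350 : Q := act 1 n2574
theorem D5350 : act 1 n2574 = n5350 := rfl
def n5351 : Q := act 3 n2574
theorem D5351 : act 3 n2574 = n5351 := rfl
theorem F8191 : act 0 n5351 = n2575 := d2_1 D5351 (iv D2575) D2574
theorem F8192 : act 5 n5351 = n5335 := d16_2 (iv F4067) D5351 (iv D5335)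
def n5352 : Q := act 6 n2574
theorem D5352 : act 6 n2574 = n5352 := rfl
def n5353 : Q := act 4 n2575
theorem D5353 : act 4 n2575 = n5353 := rfl
theorem F8194 : act 1 n5353 = n2578 := d8_1 D5353 (iv D2578) (iv F4068)
def n5354 : Q := act 5 n2575
theorem D5354 : act 5 n2575 = n5354 := rfl
theorem F8195 : act 0 n5354 = n5335 := d4_1 D5354 (iv F8192) F8191
theorem F8196 : act 1 n5354 = n5354 := d9_1 D5354 (iv D5354) F4068 F2119 (iv F4068)
theorem F8197 : act 3 n5354 = n2576 := d16_1 D5354 (iv D2576) D2575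
def n5355 : Q := act 6 n2575
theorem D5355 : act 6 n2575 = n5355 := rfl
theorem F8198 : act 3 n5355 = n2577 := d17_1 D5355 (iv D2577) D2575
def n5356 : Q := act 6 n2576
theorem D5356 : act 6 n2576 = n5356 := rfl
theorem F8200 : act 2 n5356 = n5352 := d14_1 D5356 (iv D5352) (iv F4071)
def n5367 : Q := act 1 n2584
theorem D5367 : act 1 n2584 = n5367 := rfl
theorem F8216 : act 4 n5367 = n2585 := d8_2 (iv F4082) D5367 (iv D2585)
def n5374 : Q := act 3 n2587
theorem D5374 : act 3 n2587 = n5374 := rfl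
theorem F8222 : act 1 n5374 = n2591 := d7_1 D5374 (iv D2591) (iv F4084)
def n5375 : Q := act 5 n2587
theorem D5375 : act 5 n2587 = n5375 := rfl
def n5382 : Q := act 3 n2590
theorem D5382 : act 3 n2590 = n5382 := rfl
theorem F8234 : act 0 n5382 = n2591 := d2_1 D5382 (iv D2591) (iv F4086)
def n5383 : Q := act 2 n2591
theorem D5383 : act 2 n2591 = n5383 := rfl
def n5387 : Q := act 2 n2593
theorem D5387 : act 2 n2593 = n5387 := rfl
theorem F8239 : act 0 n5387 = n2594 := d1_1 D5387 (iv D2594) D2593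
def n5388 : Q := act 5 n2593
theorem D5388 : act 5 n2593 = n5388 := rfl
theorem F8240 : act 0 n5388 = n2595 := d4_1 D5388 (iv D2595) D2593
theorem F8241 : act 1 n5388 = n4570 := d9_1 D5388 (iv D4570) D4569 (iv F6976) F4144
theorem F8243 : act 6 n5388 = n4607 := d20_2 (iv F7012) D5388 F7026 (iv D2596) D2595 (iv F4092) (iv F7010)
def n5390 : Q := act 3 n2594
theorem D5390 : act 3 n2594 = n5390 := rfl
def n5391 : Q := act 5 n2594
theorem D5391 : act 5 n2594 = n5391 := rfl
theorem F8245 : act 2 n5391 = n2595 := d13_1 D5391 (iv D2595) D2594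
theorem F8246 : act 6 n4608 = n5391 := d14_0 F8245 (iv F4092) D4608
def n5392 : Q := act 6 n2594
theorem D5392 : act 6 n2594 = n5392 := rfl
theorem F8247 : act 2 n5392 = n2596 := d14_1 D5392 (iv D2596) D2594
def n5399 : Q := act 1 n2599
theorem D5399 : act 1 n2599 = n5399 := rfl
def n5400 : Q := act 2 n2600
theorem D5400 : act 2 n2600 = n5400 := rfl
theorem F8254 : act 6 n5400 = n4370 := d14_2 F4100 D5400 (iv D4370)
def n5401 : Q := act 1 n2601
theorem D5401 : act 1 n2601 = n5401 := rfl
def n5408 : Q := act 6 n2604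
theorem D5408 : act 6 n2604 = n5408 := rfl
def n5417 : Q := act 3 n2610
theorem D5417 : act 3 n2610 = n5417 := rfl
theorem F8274 : act 1 n5417 = n2611 := d7_1 D5417 (iv D2611) D2610
def n5418 : Q := act 5 n2610
theorem D5418 : act 5 n2610 = n5418 := rfl
theorem F8275 : act 2 n5418 = n2619 := d13_1 D5418 (iv D2619) (iv F4113)
def n5419 : Q := act 6 n2610
theorem D5419 : act 6 n2610 = n5419 := rfl
theorem F8276 : act 2 n5419 = n2620 := d14_1 D5419 (iv D2620) (iv F4113)
def n5423 : Q := act 6 n2611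
theorem D5423 : act 6 n2611 = n5423 := rfl
theorem F8278 : act 3 n5423 = n2613 := d17_1 D5423 (iv D2613) D2611
def n5424 : Q := act 1 n2612
theorem D5424 : act 1 n2612 = n5424 := rfl
def n5427 : Q := act 5 n2613
theorem D5427 : act 5 n2613 = n5427 := rfl
theorem F8283 : act 2 n5427 = n2616 := d13_1 D5427 (iv D2616) (iv F4115)
def n5432 : Q := act 1 n2617
theorem D5432 : act 1 n2617 = n5432 := rfl
def n5433 : Q := act 3 n2617
theorem D5433 : act 3 n2617 = n5433 := rfl
theorem F8298 : act 0 n5433 = n2618 := d2_1 D5433 (iv D2618) D2617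
def n5434 : Q := act 5 n2617
theorem D5434 : act 5 n2617 = n5434 := rfl
def n5435 : Q := act 6 n2617
theorem D5435 : act 6 n2617 = n5435 := rfl
def n5437 : Q := act 5 n2618
theorem D5437 : act 5 n2618 = n5437 := rfl
theorem F8302 : act 3 n5437 = n2619 := d16_1 D5437 (iv D2619) D2618
def n5438 : Q := act 6 n2618
theorem D5438 : act 6 n2618 = n5438 := rfl
theorem F8303 : act 1 n5438 = n5438 := d10_1 D5438 (iv D5438) F4123 F2145 (iv F4123)
theorem F8304 : act 3 n5438 = n2620 := d17_1 D5438 (iv D2620) D2618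
def n5439 : Q := act 1 n2619
theorem D5439 : act 1 n2619 = n5439 := rfl
theorem F8305 : act 5 n5439 = n2623 := d9_2 D2619 D5439 (iv D2623) (iv D1271) D1269
def n5440 : Q := act 6 n2619
theorem D5440 : act 6 n2619 = n5440 := rfl
theorem F8306 : act 5 n5440 = n5435 := d22_2 D2619 D5440 (iv D5435) (iv D2617)
def n5441 : Q := act 5 n2620
theorem D5441 : act 5 n2620 = n5441 := rfl
def n5446 : Q := act 6 n2623
theorem D5446 : act 6 n2623 = n5446 := rfl
theorem F8315 : act 1 n5446 = n2631 := d10_1 D5446 (iv D2631) (iv D1275) (iv F2149) D2623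
def n5456 : Q := act 6 n2629
theorem D5456 : act 6 n2629 = n5456 := rfl
theorem F8324 : act 5 n5456 = n4616 := d22_2 F7036 D5456 (iv D4616) D4615
def n5459 : Q := act 5 n2631
theorem D5459 : act 5 n2631 = n5459 := rfl
theorem F8329 : act 6 n5459 = n4615 := d20_2 D2631 D5459 F7036 D5456 F8324 (iv D4616) F3516
def n5469 : Q := act 2 n2636
theorem D5469 : act 2 n2636 = n5469 := rfl
theorem F8343 : act 0 n5469 = n2637 := d1_1 D5469 (iv D2637) D2636
def n5470 : Q := act 6 n2636
theorem D5470 : act 6 n2636 = n5470 := rfl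
theorem F8347 : act 5 n5470 = n4578 := d20_1 D5470 F6988 (iv D2638) D2639 (iv F4148) (iv F6975) (iv F6976)
def n5471 : Q := act 1 n2637
theorem D5471 : act 1 n2637 = n5471 := rfl
def n5472 : Q := act 3 n2637
theorem D5472 : act 3 n2637 = n5472 := rfl
def n5473 : Q := act 5 n2637
theorem D5473 : act 5 n2637 = n5473 := rfl
theorem F8349 : act 2 n5473 = n2638 := d13_1 D5473 (iv D2638) D2637
def n5474 : Q := act 6 n2637
theorem D5474 : act 6 n2637 = n5474 := rfl
theorem F8350 : act 2 n5474 = n2639 := d14_1 D5474 (iv D2639) D2637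
theorem F8351 : act 5 n4579 = n5474 := d13_0 F8350 (iv F4148) D4579
def n5482 : Q := act 2 n2643
theorem D5482 : act 2 n2643 = n5482 := rfl
theorem F8358 : act 5 n5482 = n4353 := d13_2 F4155 D5482 (iv D4353)
def n5483 : Q := act 1 n2644
theorem D5483 : act 1 n2644 = n5483 := rfl
theorem F8359 : act 2 n5483 = n5401 := d6_2 D2644 D5483 (iv D5401) (iv D2601) (iv F2162)
def n5489 : Q := act 0 n2647
theorem D5489 : act 0 n2647 = n5489 := rfl
theorem F8368 : act 2 n5489 = n4586 := d1_2 (iv F4158) D5489 (iv D4586)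
def n5493 : Q := act 2 n2650
theorem D5493 : act 2 n2650 = n5493 := rfl
theorem F8372 : act 0 n5493 = n2651 := d1_1 D5493 (iv D2651) D2650
def n5494 : Q := act 5 n2650
theorem D5494 : act 5 n2650 = n5494 := rfl
theorem F8373 : act 0 n5494 = n2652 := d4_1 D5494 (iv D2652) D2650
def n5495 : Q := act 6 n2650
theorem D5495 : act 6 n2650 = n5495 := rfl
theorem F8374 : act 0 n5495 = n2653 := d5_1 D5495 (iv D2653) D2650
def n5496 : Q := act 3 n2651
theorem D5496 : act 3 n2651 = n5496 := rfl
theorem F8375 : act 1 n5496 = n5496 := d7_1 D5496 (iv D5496) F4165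
def n5497 : Q := act 5 n2651
theorem D5497 : act 5 n2651 = n5497 := rfl
theorem F8376 : act 2 n5497 = n2652 := d13_1 D5497 (iv D2652) D2651
def n5498 : Q := act 6 n2651
theorem D5498 : act 6 n2651 = n5498 := rfl
theorem F8377 : act 2 n5498 = n2653 := d14_1 D5498 (iv D2653) D2651
def n5499 : Q := act 1 n2652
theorem D5499 : act 1 n2652 = n5499 := rfl
theorem F8378 : act 5 n5499 = n2654 := d9_2 D2652 D5499 (iv D2654) (iv D1286) D1285
def n5500 : Q := act 6 n2652
theorem D5500 : act 6 n2652 = n5500 := rfl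
theorem F8379 : act 5 n5500 = n5495 := d22_2 D2652 D5500 (iv D5495) (iv D2650)
def n5501 : Q := act 1 n2653
theorem D5501 : act 1 n2653 = n5501 := rfl
theorem F8380 : act 6 n5501 = n2655 := d10_2 D2653 D5501 (iv D2655) (iv D1287) D1285
def n5502 : Q := act 5 n2653
theorem D5502 : act 5 n2653 = n5502 := rfl
theorem F8381 : act 0 n5502 = n5500 := d4_1 D5502 F8379 F8374
theorem F8382 : act 6 n5502 = n5494 := d20_2 D2653 D5502 (iv D5494) D5495 (iv F8379) (iv D5500) (iv D2652)
def n5503 : Q := act 0 n2654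
theorem D5503 : act 0 n2654 = n5503 := rfl
def n5504 : Q := act 2 n2654
theorem D5504 : act 2 n2654 = n5504 := rfl
theorem F8383 : act 1 n5504 = n5504 := d6_1 D5504 (iv D5504) (iv D2654) F2168 D2654
def n5505 : Q := act 6 n2654
theorem D5505 : act 6 n2654 = n5505 := rfl
def n5506 : Q := act 0 n2655
theorem D5506 : act 0 n2655 = n5506 := rfl
def n5507 : Q := act 2 n2655
theorem D5507 : act 2 n2655 = n5507 := rfl
theorem F8384 : act 1 n5507 = n5507 := d6_1 D5507 (iv D5507) (iv D2655) F2170 D2655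
def n5508 : Q := act 5 n2655
theorem D5508 : act 5 n2655 = n5508 := rfl
def n5509 : Q := act 1 n2656
theorem D5509 : act 1 n2656 = n5509 := rfl
def n5510 : Q := act 2 n2656
theorem D5510 : act 2 n2656 = n5510 := rfl
theorem F8385 : act 0 n5510 = n2657 := d1_1 D5510 (iv D2657) D2656
theorem F8386 : act 5 n5510 = n2665 := d13_2 (iv F4166) D5510 (iv D2665)
def n5511 : Q := act 3 n2657
theorem D5511 : act 3 n2657 = n5511 := rfl
theorem F8387 : act 1 n5511 = n5511 := d7_1 D5511 (iv D5511) F4167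
theorem F8388 : act 5 n5511 = n2667 := d16_2 (iv F4168) D5511 (iv D2667)
def n5512 : Q := act 6 n2657
theorem D5512 : act 6 n2657 = n5512 := rfl
theorem F8389 : act 2 n5512 = n2658 := d14_1 D5512 (iv D2658) D2657
def n5513 : Q := act 1 n2658
theorem D5513 : act 1 n2658 = n5513 := rfl
theorem F8390 : act 6 n5513 = n2659 := d10_2 D2658 D5513 (iv D2659) (iv D1289) D1288
def n5514 : Q := act 0 n2659
theorem D5514 : act 0 n2659 = n5514 := rfl
def n5515 : Q := act 2 n2659
theorem D5515 : act 2 n2659 = n5515 := rfl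
theorem F8391 : act 1 n5515 = n5515 := d6_1 D5515 (iv D5515) (iv D2659) F2172 D2659
def n5516 : Q := act 5 n2659
theorem D5516 : act 5 n2659 = n5516 := rfl
theorem F8392 : act 1 n5516 = n5508 := d9_1 D5516 (iv D5508) (iv D2655) (iv F2173) D2659
def n5517 : Q := act 1 n2660
theorem D5517 : act 1 n2660 = n5517 := rfl
def n5518 : Q := act 2 n2660
theorem D5518 : act 2 n2660 = n5518 := rfl
theorem F8393 : act 0 n5518 = n2661 := d1_1 D5518 (iv D2661) D2660
theorem F8394 : act 6 n5518 = n2675 := d14_2 (iv F4169) D5518 (iv D2675)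
def n5519 : Q := act 3 n2661
theorem D5519 : act 3 n2661 = n5519 := rfl
theorem F8395 : act 1 n5519 = n5519 := d7_1 D5519 (iv D5519) F4170
theorem F8396 : act 6 n5519 = n2677 := d17_2 (iv F4171) D5519 (iv D2677)
def n5520 : Q := act 5 n2661
theorem D5520 : act 5 n2661 = n5520 := rfl
theorem F8397 : act 2 n5520 = n2662 := d13_1 D5520 (iv D2662) D2661
def n5521 : Q := act 1 n2662
theorem D5521 : act 1 n2662 = n5521 := rfl
theorem F8398 : act 5 n5521 = n2663 := d9_2 D2662 D5521 (iv D2663) (iv D1291) D1290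
def n5522 : Q := act 0 n2663
theorem D5522 : act 0 n2663 = n5522 := rfl
def n5523 : Q := act 2 n2663
theorem D5523 : act 2 n2663 = n5523 := rfl
theorem F8399 : act 1 n5523 = n5523 := d6_1 D5523 (iv D5523) (iv D2663) F2176 D2663
def n5524 : Q := act 6 n2663
theorem D5524 : act 6 n2663 = n5524 := rfl
theorem F8400 : act 1 n5524 = n5505 := d10_1 D5524 (iv D5505) (iv D2654) (iv F2177) D2663
def n5525 : Q := act 0 n2664
theorem D5525 : act 0 n2664 = n5525 := rfl
def n5526 : Q := act 2 n2664
theorem D5526 : act 2 n2664 = n5526 := rfl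
def n5527 : Q := act 5 n2664
theorem D5527 : act 5 n2664 = n5527 := rfl
def n5528 : Q := act 6 n2664
theorem D5528 : act 6 n2664 = n5528 := rfl
def n5529 : Q := act 1 n2665
theorem D5529 : act 1 n2665 = n5529 := rfl
def n5530 : Q := act 3 n2665
theorem D5530 : act 3 n2665 = n5530 := rfl
theorem F8401 : act 0 n5530 = n2667 := d2_1 D5530 (iv D2667) (iv F4172)
def n5531 : Q := act 6 n2665
theorem D5531 : act 6 n2665 = n5531 := rfl
theorem F8402 : act 0 n5531 = n2668 := d5_1 D5531 (iv D2668) (iv F4172)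
theorem F8403 : act 2 n5531 = n2666 := d14_1 D5531 (iv D2666) D2665
theorem F8404 : act 5 n5531 = n5512 := d22_2 F8386 D5531 (iv D5512) (iv F8385)
def n5532 : Q := act 1 n2666
theorem D5532 : act 1 n2666 = n5532 := rfl
def n5533 : Q := act 2 n2667
theorem D5533 : act 2 n2667 = n5533 := rfl
def n5534 : Q := act 4 n2667
theorem D5534 : act 4 n2667 = n5534 := rfl
theorem F8405 : act 1 n5534 = n2692 := d8_1 D5534 (iv D2692) (iv F4175)
def n5535 : Q := act 6 n2667
theorem D5535 : act 6 n2667 = n5535 := rfl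
theorem F8406 : act 3 n5535 = n2668 := d17_1 D5535 (iv D2668) D2667
def n5536 : Q := act 1 n2668
theorem D5536 : act 1 n2668 = n5536 := rfl
theorem F8407 : act 6 n5536 = n2694 := d10_2 D2668 D5536 (iv D2694) (iv D1304) (iv F2178)
def n5537 : Q := act 5 n2668
theorem D5537 : act 5 n2668 = n5537 := rfl
theorem F8408 : act 0 n5537 = n5512 := d4_1 D5537 (iv F8404) F8402
theorem F8409 : act 2 n5537 = n2670 := d13_1 D5537 (iv D2670) (iv F4176)
theorem F8410 : act 6 n5537 = n5510 := d20_2 D2668 D5537 F8386 D5531 F8404 (iv D5512) F4168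
def n5538 : Q := act 0 n2669
theorem D5538 : act 0 n2669 = n5538 := rfl
theorem F8411 : act 6 n5538 = n2671 := d5_2 (iv F4177) D5538 (iv D2671)
def n5539 : Q := act 2 n2669
theorem D5539 : act 2 n2669 = n5539 := rfl
theorem F8412 : act 6 n5539 = n2672 := d14_2 (iv F4177) D5539 (iv D2672)
def n5540 : Q := act 5 n2669
theorem D5540 : act 5 n2669 = n5540 := rfl
def n5541 : Q := act 1 n2670
theorem D5541 : act 1 n2670 = n5541 := rfl
def n5542 : Q := act 1 n2671
theorem D5542 : act 1 n2671 = n5542 := rfl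
def n5543 : Q := act 2 n2671
theorem D5543 : act 2 n2671 = n5543 := rfl
theorem F8413 : act 0 n5543 = n2672 := d1_1 D5543 (iv D2672) D2671
def n5544 : Q := act 5 n2671
theorem D5544 : act 5 n2671 = n5544 := rfl
theorem F8414 : act 0 n5544 = n2673 := d4_1 D5544 (iv D2673) D2671
theorem F8415 : act 6 n5544 = n5540 := d22_1 D5544 (iv D5540) F4177 D2671
def n5545 : Q := act 3 n2672
theorem D5545 : act 3 n2672 = n5545 := rfl
theorem F8416 : act 1 n5545 = n2701 := d7_1 D5545 (iv D2701) (iv F4180)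
def n5546 : Q := act 5 n2672
theorem D5546 : act 5 n2672 = n5546 := rfl
theorem F8417 : act 2 n5546 = n2673 := d13_1 D5546 (iv D2673) D2672
def n5547 : Q := act 6 n2673
theorem D5547 : act 6 n2673 = n5547 := rfl
theorem F8418 : act 0 n5547 = n5540 := d5_1 D5547 (iv F8415) F8414
theorem F8419 : act 5 n5547 = n5538 := d20_1 D5547 F8411 D5544 F8415 (iv D5540) F4177 D2673
def n5548 : Q := act 0 n2674
theorem D5548 : act 0 n2674 = n5548 := rfl
def n5549 : Q := act 2 n2674
theorem D5549 : act 2 n2674 = n5549 := rfl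
def n5550 : Q := act 5 n2674
theorem D5550 : act 5 n2674 = n5550 := rfl
def n5551 : Q := act 6 n2674
theorem D5551 : act 6 n2674 = n5551 := rfl
def n5552 : Q := act 1 n2675
theorem D5552 : act 1 n2675 = n5552 := rfl
def n5553 : Q := act 3 n2675
theorem D5553 : act 3 n2675 = n5553 := rfl
theorem F8420 : act 0 n5553 = n2677 := d2_1 D5553 (iv D2677) (iv F4182)
def n5554 : Q := act 5 n2675
theorem D5554 : act 5 n2675 = n5554 := rfl
theorem F8421 : act 0 n5554 = n2678 := d4_1 D5554 (iv D2678) (iv F4182)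
theorem F8422 : act 2 n5554 = n2676 := d13_1 D5554 (iv D2676) D2675
theorem F8423 : act 6 n5554 = n5520 := d22_1 D5554 (iv D5520) F4171 (iv F4182)
def n5555 : Q := act 1 n2676
theorem D5555 : act 1 n2676 = n5555 := rfl
def n5556 : Q := act 2 n2677
theorem D5556 : act 2 n2677 = n5556 := rfl
def n5557 : Q := act 4 n2677
theorem D5557 : act 4 n2677 = n5557 := rfl
theorem F8424 : act 1 n5557 = n2712 := d8_1 D5557 (iv D2712) (iv F4185)
def n5558 : Q := act 5 n2677
theorem D5558 : act 5 n2677 = n5558 := rfl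
theorem F8425 : act 3 n5558 = n2678 := d16_1 D5558 (iv D2678) D2677
def n5559 : Q := act 1 n2678
theorem D5559 : act 1 n2678 = n5559 := rfl
theorem F8426 : act 5 n5559 = n2714 := d9_2 D2678 D5559 (iv D2714) (iv D1313) (iv F2179)
def n5560 : Q := act 6 n2678
theorem D5560 : act 6 n2678 = n5560 := rfl
theorem F8427 : act 0 n5560 = n5520 := d5_1 D5560 (iv F8423) F8421
theorem F8428 : act 2 n5560 = n2680 := d14_1 D5560 (iv D2680) (iv F4186)
theorem F8429 : act 5 n5560 = n5518 := d20_1 D5560 F8394 D5554 F8423 (iv D5520) F4171 D2678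
def n5561 : Q := act 0 n2679
theorem D5561 : act 0 n2679 = n5561 := rfl
theorem F8430 : act 3 n5561 = n5544 := d2_2 (iv F4187) D5561 F8414
theorem F8431 : act 5 n5561 = n2681 := d4_2 (iv F4188) D5561 (iv D2681)
def n5562 : Q := act 2 n2679
theorem D5562 : act 2 n2679 = n5562 := rfl
theorem F8432 : act 5 n5562 = n2682 := d13_2 (iv F4188) D5562 (iv D2682)
def n5563 : Q := act 6 n2679
theorem D5563 : act 6 n2679 = n5563 := rfl
theorem F8433 : act 3 n5563 = n5547 := d17_1 D5563 (iv D5547) (iv F4187)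
def n5564 : Q := act 1 n2680
theorem D5564 : act 1 n2680 = n5564 := rfl
def n5565 : Q := act 1 n2681
theorem D5565 : act 1 n2681 = n5565 := rfl
theorem F8434 : act 3 n5565 = n5542 := d7_2 (iv F4191) D5565 (iv D5542)
def n5566 : Q := act 2 n2681
theorem D5566 : act 2 n2681 = n5566 := rfl
theorem F8435 : act 0 n5566 = n2682 := d1_1 D5566 (iv D2682) D2681
def n5567 : Q := act 6 n2681
theorem D5567 : act 6 n2681 = n5567 := rfl
theorem F8436 : act 0 n5567 = n2683 := d5_1 D5567 (iv D2683) D2681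
theorem F8437 : act 3 n5567 = n5538 := d17_1 D5567 F8411 (iv F4191)
theorem F8438 : act 5 n5567 = n5563 := d22_2 F8431 D5567 (iv D5563) D5561
def n5568 : Q := act 3 n2682
theorem D5568 : act 3 n2682 = n5568 := rfl
theorem F8439 : act 1 n5568 = n2721 := d7_1 D5568 (iv D2721) (iv F4192)
def n5569 : Q := act 6 n2682
theorem D5569 : act 6 n2682 = n5569 := rfl
theorem F8440 : act 2 n5569 = n2683 := d14_1 D5569 (iv D2683) D2682
def n5570 : Q := act 5 n2683
theorem D5570 : act 5 n2683 = n5570 := rfl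
theorem F8441 : act 0 n5570 = n5563 := d4_1 D5570 (iv F8438) F8436
theorem F8442 : act 3 n5570 = n5540 := d16_1 D5570 (iv D5540) (iv F4194)
theorem F8443 : act 6 n5570 = n5561 := d20_2 D2683 D5570 F8431 D5567 F8438 (iv D5563) F4188
def n5572 : Q := act 5 n2684
theorem D5572 : act 5 n2684 = n5572 := rfl
theorem F8446 : act 3 n5572 = n2725 := d16_1 D5572 (iv D2725) (iv F4195)
def n5585 : Q := act 4 n2689
theorem D5585 : act 4 n2689 = n5585 := rfl
theorem F8461 : act 0 n5585 = n2692 := d3_1 D5585 (iv D2692) (iv F4199)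
theorem F8462 : act 2 n5585 = n2692 := d12_1 D5585 (iv D2692) (iv F4201)
def n5586 : Q := act 6 n2689
theorem D5586 : act 6 n2689 = n5586 := rfl
theorem F8464 : act 0 n5586 = n2693 := d5_1 D5586 (iv D2693) (iv F4199)
theorem F8465 : act 2 n5586 = n2693 := d14_1 D5586 (iv D2693) (iv F4201)
theorem F8467 : act 5 n5586 = n2693 := d22_2 F4200 D5586 (iv D2693) (iv F4199)
def n5590 : Q := act 5 n2691
theorem D5590 : act 5 n2691 = n5590 := rfl
theorem F8469 : act 1 n5590 = n2697 := d9_1 D5590 (iv D2697) (iv D1305) (iv F2186) D2691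
theorem F8470 : act 3 n5590 = n2735 := d16_1 D5590 (iv D2735) (iv F4205)
def n5591 : Q := act 6 n2692
theorem D5591 : act 6 n2692 = n5591 := rfl
theorem F8471 : act 4 n5591 = n2693 := d19_1 D5591 (iv D2693) D2692
def n5592 : Q := act 1 n2693
theorem D5592 : act 1 n2693 = n5592 := rfl
theorem F8472 : act 3 n5592 = n2694 := d7_2 (iv F4207) D5592 (iv D2694)
def n5593 : Q := act 0 n2694
theorem D5593 : act 0 n2694 = n5593 := rfl
def n5594 : Q := act 2 n2694
theorem D5594 : act 2 n2694 = n5594 := rfl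
theorem F8473 : act 1 n5594 = n2696 := d6_1 D5594 (iv D2696) (iv D1305) (iv F2188) D2694
def n5595 : Q := act 5 n2694
theorem D5595 : act 5 n2694 = n5595 := rfl
def n5597 : Q := act 2 n2695
theorem D5597 : act 2 n2695 = n5597 := rfl
theorem F8475 : act 0 n5597 = n2696 := d1_1 D5597 (iv D2696) D2695
theorem F8476 : act 6 n5597 = n2699 := d14_2 (iv F4209) D5597 (iv D2699)
def n5598 : Q := act 3 n2696
theorem D5598 : act 3 n2696 = n5598 := rfl
theorem F8477 : act 6 n5598 = n2701 := d17_2 (iv F4210) D5598 (iv D2701)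
def n5599 : Q := act 5 n2696
theorem D5599 : act 5 n2696 = n5599 := rfl
def n5600 : Q := act 0 n2698
theorem D5600 : act 0 n2698 = n5600 := rfl
theorem F8479 : act 3 n5600 = n2740 := d2_2 (iv F4212) D5600 (iv D2740)
def n5601 : Q := act 2 n2698
theorem D5601 : act 2 n2698 = n5601 := rfl
def n5602 : Q := act 5 n2698
theorem D5602 : act 5 n2698 = n5602 := rfl
theorem F8480 : act 3 n5602 = n2742 := d16_1 D5602 (iv D2742) (iv F4212)
theorem F8481 : act 6 n4667 = n5602 := d17_0 F8480 (iv F4281) (iv F7099)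
def n5603 : Q := act 6 n2698
theorem D5603 : act 6 n2698 = n5603 := rfl
def n5604 : Q := act 1 n2699
theorem D5604 : act 1 n2699 = n5604 := rfl
def n5605 : Q := act 3 n2699
theorem D5605 : act 3 n2699 = n5605 := rfl
theorem F8483 : act 0 n5605 = n2701 := d2_1 D5605 (iv D2701) (iv F4213)
def n5606 : Q := act 5 n2699
theorem D5606 : act 5 n2699 = n5606 := rfl
theorem F8485 : act 2 n5606 = n2700 := d13_1 D5606 (iv D2700) D2699
theorem F8486 : act 6 n5606 = n5599 := d22_1 D5606 (iv D5599) F4210 (iv F4213)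
def n5607 : Q := act 1 n2700
theorem D5607 : act 1 n2700 = n5607 := rfl
theorem F8487 : act 3 n5607 = n2747 := d7_2 (iv F4215) D5607 (iv D2747)
theorem F8489 : act 6 n4416 = n5607 := d17_0 F8487 (iv F4291) (iv F6732)
def n5608 : Q := act 2 n2701
theorem D5608 : act 2 n2701 = n5608 := rfl
def n5609 : Q := act 4 n2701
theorem D5609 : act 4 n2701 = n5609 := rfl
def n5611 : Q := act 1 n2702
theorem D5611 : act 1 n2702 = n5611 := rfl
theorem F8491 : act 2 n5611 = n4671 := d6_2 (iv F4217) D5611 (iv D4671) F3556 (iv F2192)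
def n5612 : Q := act 6 n2702
theorem D5612 : act 6 n2702 = n5612 := rfl
theorem F8494 : act 5 n5612 = n5597 := d20_1 D5612 F8476 D5606 F8486 (iv D5599) F4210 D2702
def n5615 : Q := act 5 n2704
theorem D5615 : act 5 n2704 = n5615 := rfl
def n5616 : Q := act 6 n2704
theorem D5616 : act 6 n2704 = n5616 := rfl
theorem F8501 : act 3 n5616 = n2756 := d17_1 D5616 (iv D2756) (iv F4221)
def n5628 : Q := act 4 n2709
theorem D5628 : act 4 n2709 = n5628 := rfl
theorem F8514 : act 0 n5628 = n2712 := d3_1 D5628 (iv D2712) (iv F4225)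
theorem F8515 : act 2 n5628 = n2712 := d12_1 D5628 (iv D2712) (iv F4227)
def n5629 : Q := act 5 n2709
theorem D5629 : act 5 n2709 = n5629 := rfl
theorem F8517 : act 0 n5629 = n2713 := d4_1 D5629 (iv D2713) (iv F4225)
theorem F8518 : act 2 n5629 = n2713 := d13_1 D5629 (iv D2713) (iv F4227)
theorem F8519 : act 3 n5629 = n2710 := d16_1 D5629 (iv D2710) D2709
theorem F8520 : act 6 n5629 = n2713 := d22_1 D5629 (iv D2713) F2200 (iv F4225)
def n5634 : Q := act 5 n2712
theorem D5634 : act 5 n2712 = n5634 := rfl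
theorem F8524 : act 4 n5634 = n2713 := d18_1 D5634 (iv D2713) D2712
def n5635 : Q := act 1 n2713
theorem D5635 : act 1 n2713 = n5635 := rfl
theorem F8525 : act 3 n5635 = n2714 := d7_2 (iv F4233) D5635 (iv D2714)
def n5636 : Q := act 0 n2714
theorem D5636 : act 0 n2714 = n5636 := rfl
def n5637 : Q := act 2 n2714
theorem D5637 : act 2 n2714 = n5637 := rfl
theorem F8526 : act 1 n5637 = n2716 := d6_1 D5637 (iv D2716) (iv D1314) (iv F2201) D2714
def n5638 : Q := act 6 n2714
theorem D5638 : act 6 n2714 = n5638 := rfl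
def n5640 : Q := act 2 n2715
theorem D5640 : act 2 n2715 = n5640 := rfl
theorem F8528 : act 0 n5640 = n2716 := d1_1 D5640 (iv D2716) D2715
def n5641 : Q := act 3 n2716
theorem D5641 : act 3 n2716 = n5641 := rfl
theorem F8530 : act 5 n5641 = n2721 := d16_2 (iv F4236) D5641 (iv D2721)
def n5643 : Q := act 0 n2718
theorem D5643 : act 0 n2718 = n5643 := rfl
theorem F8532 : act 1 n5643 = n5600 := d0_2 D2718 D5643 (iv D5600) (iv D2698) (iv D1306) (iv D654) (iv F645) D658 D1315
theorem F8533 : act 3 n5643 = n2770 := d2_2 (iv F4238) D5643 (iv D2770)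
def n5644 : Q := act 2 n2718
theorem D5644 : act 2 n2718 = n5644 := rfl
def n5645 : Q := act 5 n2718
theorem D5645 : act 5 n2718 = n5645 := rfl
def n5646 : Q := act 6 n2718
theorem D5646 : act 6 n2718 = n5646 := rfl
theorem F8535 : act 3 n5646 = n2773 := d17_1 D5646 (iv D2773) (iv F4238)
theorem F8536 : act 5 n4653 = n5646 := d16_0 F8535 (iv F4340) (iv F7085)
def n5647 : Q := act 1 n2719
theorem D5647 : act 1 n2719 = n5647 := rfl
def n5648 : Q := act 3 n2719
theorem D5648 : act 3 n2719 = n5648 := rfl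
theorem F8537 : act 0 n5648 = n2721 := d2_1 D5648 (iv D2721) (iv F4239)
def n5650 : Q := act 1 n2720
theorem D5650 : act 1 n2720 = n5650 := rfl
theorem F8541 : act 3 n5650 = n2777 := d7_2 (iv F4241) D5650 (iv D2777)
theorem F8542 : act 0 n4410 = n5650 := d2_3 F8541 (iv F4348) (iv F6724)
theorem F8543 : act 5 n4408 = n5650 := d16_0 F8541 (iv F4349) (iv F6722)
def n5651 : Q := act 2 n2721
theorem D5651 : act 2 n2721 = n5651 := rfl
def n5652 : Q := act 4 n2721
theorem D5652 : act 4 n2721 = n5652 := rfl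
def n5653 : Q := act 6 n2721
theorem D5653 : act 6 n2721 = n5653 := rfl
theorem F8544 : act 3 n5653 = n2722 := d17_1 D5653 (iv D2722) D2721
def n5654 : Q := act 1 n2722
theorem D5654 : act 1 n2722 = n5654 := rfl
theorem F8545 : act 2 n5654 = n4657 := d6_2 (iv F4243) D5654 (iv D4657) F3547 (iv F2205)
def n5655 : Q := act 5 n2722
theorem D5655 : act 5 n2722 = n5655 := rfl
theorem F8547 : act 2 n5655 = n2723 := d13_1 D5655 (iv D2723) (iv F4243)
def n5656 : Q := act 1 n2723
theorem D5656 : act 1 n2723 = n5656 := rfl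
theorem F8550 : act 5 n5656 = n4659 := d9_2 D2723 D5656 (iv D4659) (iv D2241) (iv F2205)
def n5657 : Q := act 1 n2724
theorem D5657 : act 1 n2724 = n5657 := rfl
theorem F8551 : act 4 n5657 = n2784 := d8_2 (iv F4248) D5657 (iv D2784)
def n5659 : Q := act 5 n2724
theorem D5659 : act 5 n2724 = n5659 := rfl
theorem F8554 : act 2 n5659 = n2725 := d13_1 D5659 (iv D2725) D2724
def n5670 : Q := act 0 n2731
theorem D5670 : act 0 n2731 = n5670 := rfl
theorem F8582 : act 5 n5670 = n4446 := d22_0 F6789 (iv D2735) (iv F4261) D5670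
def n5675 : Q := act 5 n2733
theorem D5675 : act 5 n2733 = n5675 := rfl
theorem F8593 : act 0 n5675 = n2735 := d4_1 D5675 (iv D2735) D2733
theorem F8594 : act 1 n5675 = n2761 := d9_1 D5675 F4318 F6427 (iv F6537) (iv F6538)
def n5679 : Q := act 2 n2736
theorem D5679 : act 2 n2736 = n5679 := rfl
theorem F8603 : act 4 n5679 = n2806 := d12_2 (iv F4270) D5679 (iv D2806)
theorem F8604 : act 6 n3975 = n5679 := d19_0 F8603 F4418 (iv F6064)
def n5680 : Q := act 5 n2736
theorem D5680 : act 5 n2736 = n5680 := rfl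
theorem F8607 : act 6 n2766 = n5680 := d24_0 (iv D5680) (iv D2736) F2215 D1328 D2747 (iv F4291) (iv F6782) F6780 F6751 F4349 (iv D2777) (iv D1342) (iv F2240) D2766
def n5681 : Q := act 6 n2736
theorem D5681 : act 6 n2736 = n5681 := rfl
theorem F8609 : act 2 n5681 = n3975 := d14_1 D5681 F8604 (iv D5679)
def n5683 : Q := act 3 n2737
theorem D5683 : act 3 n2737 = n5683 := rfl
theorem F8612 : act 0 n5683 = n2738 := d2_1 D5683 (iv D2738) (iv F4271)
theorem F8613 : act 6 n5683 = n2745 := d17_2 (iv F4273) D5683 (iv D2745)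
def n5684 : Q := act 2 n2738
theorem D5684 : act 2 n2738 = n5684 := rfl
theorem F8614 : act 6 n5684 = n2748 := d14_2 (iv F4275) D5684 (iv D2748)
def n5685 : Q := act 4 n2738
theorem D5685 : act 4 n2738 = n5685 := rfl
theorem F8615 : act 1 n5685 = n5685 := d8_1 D5685 (iv D5685) F4274
theorem F8616 : act 3 n5685 = n2812 := d15_1 D5685 (iv D2812) (iv D1360) (iv F2217) D2738
theorem F8617 : act 6 n5685 = n2749 := d19_2 (iv F4275) D5685 (iv D2749)
def n5686 : Q := act 5 n2738
theorem D5686 : act 5 n2738 = n5686 := rfl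
def n5688 : Q := act 2 n2740
theorem D5688 : act 2 n2740 = n5688 := rfl
theorem F8621 : act 0 n5688 = n2741 := d1_1 D5688 (iv D2741) D2740
theorem F8622 : act 4 n5688 = n2815 := d12_2 (iv F4278) D5688 (iv D2815)
def n5689 : Q := act 5 n2740
theorem D5689 : act 5 n2740 = n5689 := rfl
theorem F8623 : act 0 n5689 = n2742 := d4_1 D5689 (iv D2742) D2740
theorem F8624 : act 1 n5689 = n4682 := d9_1 D5689 (iv D4682) D4681 (iv F7123) F4335
theorem F8626 : act 6 n5689 = n4721 := d20_2 (iv F7180) D5689 F7201 (iv D2743) D2742 (iv F4281) (iv F7178)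
def n5690 : Q := act 1 n2741
theorem D5690 : act 1 n2741 = n5690 := rfl
theorem F8627 : act 2 n5690 = n2744 := d6_2 D2741 D5690 (iv D2744) (iv D1327) D1326
theorem F8628 : act 4 n5690 = n2817 := d8_2 (iv F4279) D5690 (iv D2817)
def n5691 : Q := act 3 n2741
theorem D5691 : act 3 n2741 = n5691 := rfl
def n5692 : Q := act 5 n2741
theorem D5692 : act 5 n2741 = n5692 := rfl
theorem F8629 : act 2 n5692 = n2742 := d13_1 D5692 (iv D2742) D2741
theorem F8630 : act 4 n5692 = n2819 := d18_1 D5692 (iv D2819) (iv F4279)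
theorem F8631 : act 6 n4722 = n5692 := d19_0 F8630 (iv F4414) (iv F7202)
def n5693 : Q := act 6 n2741
theorem D5693 : act 6 n2741 = n5693 := rfl
theorem F8632 : act 2 n5693 = n2743 := d14_1 D5693 (iv D2743) D2741
theorem F8633 : act 4 n5693 = n2820 := d19_1 D5693 (iv D2820) (iv F4279)
theorem F8634 : act 1 n3974 = n5693 := d8_3 F8633 F4416 (iv F6062)
def n5694 : Q := act 0 n2744
theorem D5694 : act 0 n2744 = n5694 := rfl
theorem F8635 : act 4 n5694 = n2821 := d3_2 (iv F4283) D5694 (iv D2821)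
def n5695 : Q := act 3 n2744
theorem D5695 : act 3 n2744 = n5695 := rfl
theorem F8636 : act 1 n5695 = n2745 := d7_1 D5695 (iv D2745) D2744
def n5696 : Q := act 5 n2744
theorem D5696 : act 5 n2744 = n5696 := rfl
theorem F8637 : act 4 n5696 = n2823 := d18_1 D5696 (iv D2823) (iv F4283)
def n5697 : Q := act 6 n2744
theorem D5697 : act 6 n2744 = n5697 := rfl
theorem F8638 : act 4 n5697 = n2824 := d19_1 D5697 (iv D2824) (iv F4283)
def n5698 : Q := act 2 n2745
theorem D5698 : act 2 n2745 = n5698 := rfl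
theorem F8639 : act 0 n5698 = n2748 := d1_1 D5698 (iv D2748) (iv F4284)
theorem F8640 : act 3 n5698 = n5608 := d21_1 D5698 (iv D5608) (iv D2701) (iv D1307) F1207 D663 D1329 (iv F4284)
def n5699 : Q := act 4 n2745
theorem D5699 : act 4 n2745 = n5699 := rfl
theorem F8641 : act 0 n5699 = n2749 := d3_1 D5699 (iv D2749) (iv F4284)
theorem F8642 : act 3 n5699 = n2826 := d15_1 D5699 (iv D2826) (iv D1367) (iv F2222) D2745
def n5700 : Q := act 5 n2745
theorem D5700 : act 5 n2745 = n5700 := rfl
theorem F8644 : act 3 n5700 = n2746 := d16_1 D5700 (iv D2746) D2745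
theorem F8645 : act 6 n5700 = n5686 := d22_1 D5700 (iv D5686) F4275 (iv F4284)
def n5703 : Q := act 1 n2748
theorem D5703 : act 1 n2748 = n5703 := rfl
theorem F8650 : act 2 n5703 = n2904 := d6_2 D2748 D5703 (iv D2904) (iv D1409) (iv F2226)
def n5704 : Q := act 3 n2748
theorem D5704 : act 3 n2748 = n5704 := rfl
theorem F8651 : act 0 n5704 = n5608 := d2_1 D5704 (iv F8640) F8639
theorem F8652 : act 2 n5704 = n5605 := d11_1 D5704 (iv D5605) (iv D2699) F2191 D1327 D2745 D5698 F8640 (iv D5608) (iv D2701) (iv D1307) F1207 D663 D1329 D2748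
def n5705 : Q := act 4 n2748
theorem D5705 : act 4 n2748 = n5705 := rfl
theorem F8653 : act 2 n5705 = n2749 := d12_1 D5705 (iv D2749) D2748
def n5709 : Q := act 6 n2750
theorem D5709 : act 6 n2750 = n5709 := rfl
theorem F8661 : act 5 n5709 = n5683 := d20_1 D5709 F8613 D5700 F8645 (iv D5686) F4275 D2750
def n5710 : Q := act 0 n2751
theorem D5710 : act 0 n2751 = n5710 := rfl
theorem F8662 : act 2 n5710 = n4730 := d1_2 (iv F4295) D5710 (iv D4730)
theorem F8664 : act 5 n5710 = n2909 := d4_2 (iv F4297) D5710 (iv D2909)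
def n5711 : Q := act 6 n2751
theorem D5711 : act 6 n2751 = n5711 := rfl
def n5734 : Q := act 0 n2766
theorem D5734 : act 0 n2766 = n5734 := rfl
theorem F8723 : act 5 n5734 = n5681 := d22_0 (iv D5681) D5680 (iv F8607) D5734
def n5736 : Q := act 5 n2766
theorem D5736 : act 5 n2766 = n5736 := rfl
theorem F8725 : act 0 n5736 = n5681 := d4_1 D5736 (iv F8723) (iv D5734)
theorem F8726 : act 1 n5736 = n2772 := d9_1 D5736 (iv D2772) (iv D1340) (iv F2240) D2766
def n5737 : Q := act 1 n2767
theorem D5737 : act 1 n2767 = n5737 := rfl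
def n5738 : Q := act 3 n2767
theorem D5738 : act 3 n2767 = n5738 := rfl
theorem F8730 : act 0 n5738 = n2768 := d2_1 D5738 (iv D2768) (iv F4328)
theorem F8731 : act 5 n5738 = n2775 := d16_2 (iv F4330) D5738 (iv D2775)
def n5739 : Q := act 2 n2768
theorem D5739 : act 2 n2768 = n5739 := rfl
theorem F8732 : act 5 n5739 = n2778 := d13_2 (iv F4332) D5739 (iv D2778)
def n5740 : Q := act 4 n2768
theorem D5740 : act 4 n2768 = n5740 := rfl
theorem F8733 : act 1 n5740 = n5740 := d8_1 D5740 (iv D5740) F4331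
theorem F8734 : act 3 n5740 = n2867 := d15_1 D5740 (iv D2867) (iv D1390) (iv F2242) D2768
theorem F8735 : act 5 n5740 = n2779 := d18_2 (iv F4332) D5740 (iv D2779)
def n5741 : Q := act 6 n2768
theorem D5741 : act 6 n2768 = n5741 := rfl
def n5743 : Q := act 2 n2770
theorem D5743 : act 2 n2770 = n5743 := rfl
theorem F8739 : act 0 n5743 = n2771 := d1_1 D5743 (iv D2771) D2770
theorem F8740 : act 4 n5743 = n2870 := d12_2 (iv F4336) D5743 (iv D2870)
def n5744 : Q := act 6 n2770
theorem D5744 : act 6 n2770 = n5744 := rfl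
theorem F8744 : act 5 n5744 = n4690 := d20_1 D5744 F7143 (iv D2772) D2773 (iv F4340) (iv F7122) (iv F7123)
def n5745 : Q := act 1 n2771
theorem D5745 : act 1 n2771 = n5745 := rfl
theorem F8745 : act 2 n5745 = n2774 := d6_2 D2771 D5745 (iv D2774) (iv D1341) D1340
theorem F8746 : act 4 n5745 = n2872 := d8_2 (iv F4337) D5745 (iv D2872)
def n5746 : Q := act 3 n2771
theorem D5746 : act 3 n2771 = n5746 := rfl
def n5747 : Q := act 5 n2771
theorem D5747 : act 5 n2771 = n5747 := rfl
theorem F8748 : act 4 n5747 = n2874 := d18_1 D5747 (iv D2874) (iv F4337)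
def n5748 : Q := act 6 n2771
theorem D5748 : act 6 n2771 = n5748 := rfl
theorem F8750 : act 4 n5748 = n2875 := d19_1 D5748 (iv D2875) (iv F4337)
theorem F8751 : act 5 n4691 = n5748 := d18_0 F8750 (iv F4498) (iv F7144)
def n5749 : Q := act 0 n2774
theorem D5749 : act 0 n2774 = n5749 := rfl
theorem F8752 : act 4 n5749 = n2876 := d3_2 (iv F4341) D5749 (iv D2876)
def n5750 : Q := act 3 n2774
theorem D5750 : act 3 n2774 = n5750 := rfl
theorem F8753 : act 1 n5750 = n2775 := d7_1 D5750 (iv D2775) D2774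
def n5751 : Q := act 5 n2774
theorem D5751 : act 5 n2774 = n5751 := rfl
theorem F8754 : act 4 n5751 = n2878 := d18_1 D5751 (iv D2878) (iv F4341)
def n5752 : Q := act 6 n2774
theorem D5752 : act 6 n2774 = n5752 := rfl
def n5753 : Q := act 2 n2775
theorem D5753 : act 2 n2775 = n5753 := rfl
theorem F8756 : act 0 n5753 = n2778 := d1_1 D5753 (iv D2778) (iv F4342)
theorem F8757 : act 3 n5753 = n5651 := d21_1 D5753 (iv D5651) (iv D2721) (iv D1316) F1212 D669 D1343 (iv F4342)
def n5754 : Q := act 4 n2775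
theorem D5754 : act 4 n2775 = n5754 := rfl
theorem F8758 : act 0 n5754 = n2779 := d3_1 D5754 (iv D2779) (iv F4342)
theorem F8759 : act 3 n5754 = n2881 := d15_1 D5754 (iv D2881) (iv D1397) (iv F2247) D2775
def n5755 : Q := act 6 n2775
theorem D5755 : act 6 n2775 = n5755 := rfl
theorem F8761 : act 3 n5755 = n2776 := d17_1 D5755 (iv D2776) D2775
theorem F8762 : act 5 n5755 = n5741 := d22_2 F8731 D5755 (iv D5741) (iv F8730)
def n5757 : Q := act 2 n2777
theorem D5757 : act 2 n2777 = n5757 := rfl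
def n5758 : Q := act 1 n2778
theorem D5758 : act 1 n2778 = n5758 := rfl
theorem F8767 : act 2 n5758 = n2919 := d6_2 D2778 D5758 (iv D2919) (iv D1416) (iv F2251)
def n5759 : Q := act 3 n2778
theorem D5759 : act 3 n2778 = n5759 := rfl
theorem F8768 : act 0 n5759 = n5651 := d2_1 D5759 (iv F8757) F8756
theorem F8769 : act 2 n5759 = n5648 := d11_1 D5759 (iv D5648) (iv D2719) F2204 D1341 D2775 D5753 F8757 (iv D5651) (iv D2721) (iv D1316) F1212 D669 D1343 D2778
def n5760 : Q := act 4 n2778
theorem D5760 : act 4 n2778 = n5760 := rfl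
theorem F8770 : act 2 n5760 = n2779 := d12_1 D5760 (iv D2779) D2778
def n5763 : Q := act 1 n2780
theorem D5763 : act 1 n2780 = n5763 := rfl
theorem F8775 : act 6 n5763 = n2923 := d10_2 D2780 D5763 (iv D2923) (iv D1418) (iv F2251)
def n5764 : Q := act 5 n2780
theorem D5764 : act 5 n2780 = n5764 := rfl
theorem F8777 : act 3 n5764 = n2782 := d16_1 D5764 (iv D2782) (iv F4352)
theorem F8778 : act 6 n5764 = n5738 := d20_2 D2780 D5764 F8731 D5755 F8762 (iv D5741) F4332
def n5765 : Q := act 0 n2781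
theorem D5765 : act 0 n2781 = n5765 := rfl
theorem F8779 : act 2 n5765 = n4699 := d1_2 (iv F4353) D5765 (iv D4699)
theorem F8781 : act 6 n5765 = n2924 := d5_2 (iv F4355) D5765 (iv D2924)
def n5766 : Q := act 5 n2781
theorem D5766 : act 5 n2781 = n5766 := rfl
theorem F8782 : act 2 n5766 = n4700 := d13_1 D5766 (iv D4700) (iv F4353)
def n5806 : Q := act 2 n2805
theorem D5806 : act 2 n2805 = n5806 := rfl
theorem F8838 : act 0 n5806 = n2806 := d1_1 D5806 (iv D2806) D2805
theorem F8839 : act 5 n5806 = n4233 := d13_2 F4397 D5806 (iv D4233)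
theorem F8840 : act 6 n5806 = n4059 := d14_2 F4483 D5806 F6161
def n5808 : Q := act 5 n2806
theorem D5808 : act 5 n2806 = n5808 := rfl
theorem F8843 : act 2 n5808 = n2807 := d13_1 D5808 (iv D2807) D2806
theorem F8844 : act 6 n5808 = n2862 := d20_2 (iv F4418) D5808 (iv F6162) (iv F8840) F8839 F6446 F6148
def n5812 : Q := act 2 n2810
theorem D5812 : act 2 n2810 = n5812 := rfl
theorem F8853 : act 3 n5812 = n5383 := d21_1 D5812 (iv D5383) (iv D2591) (iv D1257) F1175 D677 D1360 (iv F4401)
def n5813 : Q := act 4 n2810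
theorem D5813 : act 4 n2810 = n5813 := rfl
theorem F8855 : act 6 n5813 = n2826 := d19_2 (iv F4402) D5813 (iv D2826)
def n5815 : Q := act 3 n2811
theorem D5815 : act 3 n2811 = n5815 := rfl
theorem F8858 : act 2 n5815 = n5382 := d11_1 D5815 (iv D5382) (iv D2590) F2127 D1359 D2810 D5812 F8853 (iv D5383) (iv D2591) (iv D1257) F1175 D677 D1360 D2811
def n5816 : Q := act 4 n2811
theorem D5816 : act 4 n2811 = n5816 := rfl
theorem F8861 : act 6 n5816 = n2832 := d19_2 (iv F4403) D5816 (iv D2832)
def n5818 : Q := act 5 n2812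
theorem D5818 : act 5 n2812 = n5818 := rfl
def n5822 : Q := act 1 n2815
theorem D5822 : act 1 n2815 = n5822 := rfl
def n5823 : Q := act 3 n2815
theorem D5823 : act 3 n2815 = n5823 := rfl
theorem F8867 : act 0 n5823 = n2818 := d2_1 D5823 (iv D2818) (iv F4408)
def n5824 : Q := act 5 n2815
theorem D5824 : act 5 n2815 = n5824 := rfl
theorem F8869 : act 2 n5824 = n2816 := d13_1 D5824 (iv D2816) D2815
theorem F8870 : act 6 n5824 = n4819 := d20_2 F7317 D5824 F7343 (iv D2820) D2819 (iv F4414) (iv F7316)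
def n5825 : Q := act 0 n2817
theorem D5825 : act 0 n2817 = n5825 := rfl
theorem F8872 : act 5 n5825 = n4491 := d22_0 (iv D4491) (iv F5767) F5768 D5825
def n5826 : Q := act 3 n2817
theorem D5826 : act 3 n2817 = n5826 := rfl
theorem F8873 : act 1 n5826 = n2818 := d7_1 D5826 (iv D2818) D2817
def n5827 : Q := act 5 n2817
theorem D5827 : act 5 n2817 = n5827 := rfl
theorem F8875 : act 2 n5827 = n2823 := d13_1 D5827 (iv D2823) (iv F4412)
theorem F8876 : act 6 n5827 = n4489 := d22_3 (iv F5767) F5768 D5827 (iv D4489)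
def n5828 : Q := act 2 n2818
theorem D5828 : act 2 n2818 = n5828 := rfl
def n5829 : Q := act 4 n2818
theorem D5829 : act 4 n2818 = n5829 := rfl
def n5830 : Q := act 5 n2818
theorem D5830 : act 5 n2818 = n5830 := rfl
theorem F8877 : act 3 n5830 = n2819 := d16_1 D5830 (iv D2819) D2818
theorem F8878 : act 6 n4820 = n5830 := d17_0 F8877 (iv F4414) D4820
def n5831 : Q := act 6 n2818
theorem D5831 : act 6 n2818 = n5831 := rfl
theorem F8879 : act 3 n5831 = n2820 := d17_1 D5831 (iv D2820) D2818
theorem F8880 : act 1 n4058 = n5831 := d7_3 F8879 F4416 (iv F6159)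
def n5833 : Q := act 1 n2821
theorem D5833 : act 1 n2821 = n5833 := rfl
theorem F8881 : act 0 n5833 = n2926 := d0_1 D5833 (iv D2926) (iv D1420) (iv D707) F688 (iv F664) (iv F1242) D1366 D2821
def n5834 : Q := act 3 n2821
theorem D5834 : act 3 n2821 = n5834 := rfl
theorem F8882 : act 0 n5834 = n2822 := d2_1 D5834 (iv D2822) D2821
def n5835 : Q := act 5 n2821
theorem D5835 : act 5 n2821 = n5835 := rfl
theorem F8883 : act 0 n5835 = n2823 := d4_1 D5835 (iv D2823) D2821
theorem F8885 : act 6 n5835 = n4490 := d22_1 D5835 F6845 (iv D2824) D2821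
def n5836 : Q := act 6 n2821
theorem D5836 : act 6 n2821 = n5836 := rfl
theorem F8886 : act 0 n5836 = n2824 := d5_1 D5836 (iv D2824) D2821
def n5837 : Q := act 2 n2822
theorem D5837 : act 2 n2822 = n5837 := rfl
def n5838 : Q := act 4 n2822
theorem D5838 : act 4 n2822 = n5838 := rfl
theorem F8887 : act 1 n5838 = n2826 := d8_1 D5838 (iv D2826) (iv F4419)
def n5839 : Q := act 5 n2822
theorem D5839 : act 5 n2822 = n5839 := rfl
theorem F8888 : act 3 n5839 = n2823 := d16_1 D5839 (iv D2823) D2822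
def n5840 : Q := act 6 n2822
theorem D5840 : act 6 n2822 = n5840 := rfl
theorem F8889 : act 3 n5840 = n2824 := d17_1 D5840 (iv D2824) D2822
def n5841 : Q := act 1 n2823
theorem D5841 : act 1 n2823 = n5841 := rfl
def n5842 : Q := act 6 n2823
theorem D5842 : act 6 n2823 = n5842 := rfl
theorem F8891 : act 0 n5842 = n4490 := d5_1 D5842 (iv F8885) F8883
theorem F8893 : act 5 n5842 = n5836 := d20_1 D5842 (iv D5836) D5835 F8885 F6845 (iv D2824) D2823
def n5846 : Q := act 5 n2826
theorem D5846 : act 5 n2826 = n5846 := rfl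
theorem F8901 : act 0 n5846 = n2834 := d4_1 D5846 (iv D2834) (iv F4422)
theorem F8902 : act 4 n5846 = n2827 := d18_1 D5846 (iv D2827) D2826
theorem F8903 : act 6 n5846 = n5818 := d22_1 D5846 (iv D5818) F4405 (iv F4422)
def n5847 : Q := act 1 n2827
theorem D5847 : act 1 n2827 = n5847 := rfl
theorem F8904 : act 3 n5847 = n2828 := d7_2 (iv F4424) D5847 (iv D2828)
def n5852 : Q := act 0 n2830
theorem D5852 : act 0 n2830 = n5852 := rfl
theorem F8912 : act 2 n5852 = n2941 := d1_2 (iv F4428) D5852 (iv D2941)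
def n5854 : Q := act 4 n2830
theorem D5854 : act 4 n2830 = n5854 := rfl
theorem F8914 : act 1 n5854 = n2832 := d8_1 D5854 (iv D2832) D2830
theorem F8915 : act 2 n5854 = n2942 := d12_1 D5854 (iv D2942) (iv F4428)
def n5855 : Q := act 5 n2830
theorem D5855 : act 5 n2830 = n5855 := rfl
theorem F8916 : act 2 n5855 = n2943 := d13_1 D5855 (iv D2943) (iv F4428)
def n5856 : Q := act 6 n2830
theorem D5856 : act 6 n2830 = n5856 := rfl
def n5859 : Q := act 3 n2832
theorem D5859 : act 3 n2832 = n5859 := rfl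
def n5860 : Q := act 5 n2832
theorem D5860 : act 5 n2832 = n5860 := rfl
theorem F8923 : act 2 n5860 = n2834 := d13_1 D5860 (iv D2834) (iv F4431)
theorem F8924 : act 4 n5860 = n2833 := d18_1 D5860 (iv D2833) D2832
def n5865 : Q := act 0 n2835
theorem D5865 : act 0 n2835 = n5865 := rfl
theorem F8933 : act 3 n5865 = n2837 := d2_2 (iv F4434) D5865 (iv D2837)
theorem F8934 : act 5 n5865 = n2949 := d4_2 (iv F4435) D5865 (iv D2949)
def n5867 : Q := act 6 n2835
theorem D5867 : act 6 n2835 = n5867 := rfl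
def n5869 : Q := act 1 n2837
theorem D5869 : act 1 n2837 = n5869 := rfl
def n5875 : Q := act 5 n2840
theorem D5875 : act 5 n2840 = n5875 := rfl
theorem F8942 : act 2 n5875 = n2841 := d13_1 D5875 (iv D2841) D2840
def n5879 : Q := act 6 n2842
theorem D5879 : act 6 n2842 = n5879 := rfl
def n5885 : Q := act 1 n2845
theorem D5885 : act 1 n2845 = n5885 := rfl
def n5901 : Q := act 2 n2854
theorem D5901 : act 2 n2854 = n5901 := rfl
def n5902 : Q := act 3 n2855
theorem D5902 : act 3 n2855 = n5902 := rfl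
theorem F8979 : act 5 n5902 = n2859 := d16_2 (iv F4464) D5902 (iv D2859)
def n5909 : Q := act 1 n2860
theorem D5909 : act 1 n2860 = n5909 := rfl
theorem F8987 : act 6 n5909 = n5909 := d10_2 D2860 D5909 (iv D5909) (iv D2860) F2296
def n5910 : Q := act 1 n2862
theorem D5910 : act 1 n2862 = n5910 := rfl
theorem F8988 : act 2 n5910 = n2864 := d6_2 D2862 D5910 (iv D2864) (iv D1389) D1388
def n5911 : Q := act 3 n2862
theorem D5911 : act 3 n2862 = n5911 := rfl
def n5912 : Q := act 0 n2864
theorem D5912 : act 0 n2864 = n5912 := rfl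
def n5913 : Q := act 3 n2864
theorem D5913 : act 3 n2864 = n5913 := rfl
theorem F8989 : act 1 n5913 = n2865 := d7_1 D5913 (iv D2865) D2864
def n5914 : Q := act 5 n2864
theorem D5914 : act 5 n2864 = n5914 := rfl
theorem F8990 : act 1 n5914 = n2878 := d9_1 D5914 (iv D2878) (iv D1396) (iv F2299) D2864
def n5915 : Q := act 6 n2864
theorem D5915 : act 6 n2864 = n5915 := rfl
def n5916 : Q := act 2 n2865
theorem D5916 : act 2 n2865 = n5916 := rfl
theorem F8991 : act 0 n5916 = n2866 := d1_1 D5916 (iv D2866) (iv F4484)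
theorem F8992 : act 5 n5916 = n2880 := d13_2 (iv F4485) D5916 (iv D2880)
def n5917 : Q := act 4 n2865
theorem D5917 : act 4 n2865 = n5917 := rfl
theorem F8994 : act 0 n5917 = n2867 := d3_1 D5917 (iv D2867) (iv F4484)
theorem F8995 : act 5 n5917 = n2881 := d18_2 (iv F4485) D5917 (iv D2881)
def n5919 : Q := act 3 n2866
theorem D5919 : act 3 n2866 = n5919 := rfl
theorem F8999 : act 5 n5919 = n2886 := d16_2 (iv F4486) D5919 (iv D2886)
def n5920 : Q := act 4 n2866
theorem D5920 : act 4 n2866 = n5920 := rfl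
theorem F9000 : act 2 n5920 = n2867 := d12_1 D5920 (iv D2867) D2866
theorem F9001 : act 5 n5920 = n2887 := d18_2 (iv F4486) D5920 (iv D2887)
def n5921 : Q := act 6 n2866
theorem D5921 : act 6 n2866 = n5921 := rfl
theorem F9002 : act 2 n5921 = n2868 := d14_1 D5921 (iv D2868) D2866
def n5922 : Q := act 6 n2867
theorem D5922 : act 6 n2867 = n5922 := rfl
def n5926 : Q := act 1 n2870
theorem D5926 : act 1 n2870 = n5926 := rfl
theorem F9007 : act 2 n5926 = n5822 := d6_2 D2870 D5926 (iv D5822) (iv D2815) (iv F2303)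
def n5927 : Q := act 3 n2870
theorem D5927 : act 3 n2870 = n5927 := rfl
theorem F9008 : act 0 n5927 = n2873 := d2_1 D5927 (iv D2873) (iv F4491)
def n5928 : Q := act 6 n2870
theorem D5928 : act 6 n2870 = n5928 := rfl
theorem F9011 : act 5 n5928 = n4764 := d20_1 D5928 F7268 (iv D2874) D2875 (iv F4498) (iv F7243) F7242
def n5929 : Q := act 0 n2872
theorem D5929 : act 0 n2872 = n5929 := rfl
theorem F9012 : act 2 n5929 = n2876 := d1_2 (iv F4495) D5929 (iv D2876)
def n5930 : Q := act 3 n2872
theorem D5930 : act 3 n2872 = n5930 := rfl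
theorem F9013 : act 1 n5930 = n2873 := d7_1 D5930 (iv D2873) D2872
def n5931 : Q := act 5 n2872
theorem D5931 : act 5 n2872 = n5931 := rfl
theorem F9014 : act 2 n5931 = n2878 := d13_1 D5931 (iv D2878) (iv F4495)
def n5932 : Q := act 6 n2872
theorem D5932 : act 6 n2872 = n5932 := rfl
theorem F9015 : act 2 n5932 = n2879 := d14_1 D5932 (iv D2879) (iv F4495)
def n5933 : Q := act 2 n2873
theorem D5933 : act 2 n2873 = n5933 := rfl
def n5934 : Q := act 4 n2873
theorem D5934 : act 4 n2873 = n5934 := rfl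
def n5935 : Q := act 5 n2873
theorem D5935 : act 5 n2873 = n5935 := rfl
theorem F9016 : act 3 n5935 = n2874 := d16_1 D5935 (iv D2874) D2873
def n5936 : Q := act 6 n2873
theorem D5936 : act 6 n2873 = n5936 := rfl
theorem F9017 : act 3 n5936 = n2875 := d17_1 D5936 (iv D2875) D2873
theorem F9018 : act 5 n4765 = n5936 := d16_0 F9017 (iv F4498) D4765
def n5937 : Q := act 1 n2874
theorem D5937 : act 1 n2874 = n5937 := rfl
def n5939 : Q := act 1 n2876
theorem D5939 : act 1 n2876 = n5939 := rfl
theorem F9019 : act 0 n5939 = n2955 := d0_1 D5939 (iv D2955) (iv D1434) (iv D714) F695 (iv F670) (iv F1254) D1396 D2876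
def n5940 : Q := act 3 n2876
theorem D5940 : act 3 n2876 = n5940 := rfl
theorem F9020 : act 0 n5940 = n2877 := d2_1 D5940 (iv D2877) D2876
def n5941 : Q := act 5 n2876
theorem D5941 : act 5 n2876 = n5941 := rfl
theorem F9021 : act 0 n5941 = n2878 := d4_1 D5941 (iv D2878) D2876
def n5942 : Q := act 6 n2876
theorem D5942 : act 6 n2876 = n5942 := rfl
theorem F9022 : act 0 n5942 = n2879 := d5_1 D5942 (iv D2879) D2876
def n5943 : Q := act 2 n2877
theorem D5943 : act 2 n2877 = n5943 := rfl
def n5944 : Q := act 4 n2877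
theorem D5944 : act 4 n2877 = n5944 := rfl
theorem F9023 : act 1 n5944 = n2881 := d8_1 D5944 (iv D2881) (iv F4499)
def n5945 : Q := act 5 n2877
theorem D5945 : act 5 n2877 = n5945 := rfl
theorem F9024 : act 3 n5945 = n2878 := d16_1 D5945 (iv D2878) D2877
def n5946 : Q := act 6 n2877
theorem D5946 : act 6 n2877 = n5946 := rfl
def n5947 : Q := act 6 n2878
theorem D5947 : act 6 n2878 = n5947 := rfl
theorem F9026 : act 5 n5947 = n5942 := d22_2 D2878 D5947 (iv D5942) (iv D2876)
def n5949 : Q := act 5 n2879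
theorem D5949 : act 5 n2879 = n5949 := rfl
theorem F9028 : act 0 n5949 = n5947 := d4_1 D5949 F9026 F9022
def n5950 : Q := act 1 n2880
theorem D5950 : act 1 n2880 = n5950 := rfl
theorem F9030 : act 3 n5950 = n5483 := d7_2 (iv F4501) D5950 (iv D5483)
def n5951 : Q := act 4 n2880
theorem D5951 : act 4 n2880 = n5951 := rfl
theorem F9032 : act 2 n5951 = n2881 := d12_1 D5951 (iv D2881) D2880
def n5952 : Q := act 6 n2880
theorem D5952 : act 6 n2880 = n5952 := rfl
theorem F9034 : act 2 n5952 = n2882 := d14_1 D5952 (iv D2882) D2880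
theorem F9036 : act 5 n5952 = n5921 := d22_2 F8992 D5952 (iv D5921) (iv F8991)
def n5953 : Q := act 6 n2881
theorem D5953 : act 6 n2881 = n5953 := rfl
theorem F9039 : act 5 n5953 = n5922 := d22_2 F8995 D5953 (iv D5922) (iv F8994)
def n5958 : Q := act 3 n2884
theorem D5958 : act 3 n2884 = n5958 := rfl
theorem F9044 : act 5 n5958 = n4467 := d16_2 (iv F4507) D5958 (iv D4467)
def n5962 : Q := act 5 n2885
theorem D5962 : act 5 n2885 = n5962 := rfl
theorem F9049 : act 2 n5962 = n2972 := d13_1 D5962 (iv D2972) (iv F4508)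
def n5963 : Q := act 6 n2885
theorem D5963 : act 6 n2885 = n5963 := rfl
theorem F9050 : act 2 n5963 = n2973 := d14_1 D5963 (iv D2973) (iv F4508)
def n5966 : Q := act 3 n2887
theorem D5966 : act 3 n2887 = n5966 := rfl
def n5969 : Q := act 5 n2888
theorem D5969 : act 5 n2888 = n5969 := rfl
theorem F9059 : act 2 n5969 = n2891 := d13_1 D5969 (iv D2891) (iv F4512)
def n5970 : Q := act 1 n2889
theorem D5970 : act 1 n2889 = n5970 := rfl
theorem F9062 : act 6 n5970 = n2977 := d10_2 D2889 D5970 (iv D2977) (iv D1444) (iv F2308)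
def n5971 : Q := act 5 n2889
theorem D5971 : act 5 n2889 = n5971 := rfl
theorem F9064 : act 4 n5971 = n2891 := d18_1 D5971 (iv D2891) (iv F4513)
theorem F9065 : act 6 n5971 = n5917 := d20_2 D2889 D5971 F8995 D5953 F9039 (iv D5922) F4488
def n5972 : Q := act 0 n2890
theorem D5972 : act 0 n2890 = n5972 := rfl
theorem F9067 : act 6 n5972 = n2978 := d5_2 (iv F4515) D5972 (iv D2978)
def n5973 : Q := act 2 n2890
theorem D5973 : act 2 n2890 = n5973 := rfl
theorem F9068 : act 6 n5973 = n2979 := d14_2 (iv F4515) D5973 (iv D2979)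
def n5976 : Q := act 1 n2892
theorem D5976 : act 1 n2892 = n5976 := rfl
theorem F9071 : act 2 n5976 = n4074 := d6_2 (iv F4519) D5976 (iv D4074) (iv F6178) (iv F6179)
theorem F9072 : act 6 n4076 = n5976 := d14_0 F9071 F6184 D4076
def n5977 : Q := act 1 n2893
theorem D5977 : act 1 n2893 = n5977 := rfl
theorem F9073 : act 5 n5977 = n2894 := d9_2 D2893 D5977 (iv D2894) (iv D1404) D1403
def n5978 : Q := act 0 n2894
theorem D5978 : act 0 n2894 = n5978 := rfl
def n5979 : Q := act 2 n2894
theorem D5979 : act 2 n2894 = n5979 := rfl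
theorem F9074 : act 1 n5979 = n2895 := d6_1 D5979 (iv D2895) (iv D1405) (iv F2313) D2894
def n5980 : Q := act 6 n2894
theorem D5980 : act 6 n2894 = n5980 := rfl
theorem F9075 : act 1 n5980 = n5915 := d10_1 D5980 (iv D5915) (iv D2864) (iv F2314) D2894
def n5983 : Q := act 3 n2896
theorem D5983 : act 3 n2896 = n5983 := rfl
theorem F9078 : act 0 n5983 = n2897 := d2_1 D5983 (iv D2897) D2896
def n5984 : Q := act 5 n2896
theorem D5984 : act 5 n2896 = n5984 := rfl
theorem F9079 : act 0 n5984 = n2898 := d4_1 D5984 (iv D2898) D2896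
theorem F9080 : act 4 n5984 = n2928 := d18_1 D5984 (iv D2928) (iv F4523)
def n5985 : Q := act 6 n2896
theorem D5985 : act 6 n2896 = n5985 := rfl
theorem F9081 : act 0 n5985 = n2899 := d5_1 D5985 (iv D2899) D2896
theorem F9082 : act 4 n5985 = n2929 := d19_1 D5985 (iv D2929) (iv F4523)
def n5986 : Q := act 2 n2897
theorem D5986 : act 2 n2897 = n5986 := rfl
def n5987 : Q := act 4 n2897
theorem D5987 : act 4 n2897 = n5987 := rfl
theorem F9083 : act 1 n5987 = n2901 := d8_1 D5987 (iv D2901) (iv F4524)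
theorem F9084 : act 3 n5987 = n2931 := d15_1 D5987 (iv D2931) (iv D1421) (iv F2316) D2897
def n5988 : Q := act 5 n2897
theorem D5988 : act 5 n2897 = n5988 := rfl
theorem F9085 : act 3 n5988 = n2898 := d16_1 D5988 (iv D2898) D2897
def n5989 : Q := act 6 n2897
theorem D5989 : act 6 n2897 = n5989 := rfl
theorem F9086 : act 1 n5989 = n5989 := d10_1 D5989 (iv D5989) F4524 F2318 (iv F4524)
def n5990 : Q := act 1 n2898
theorem D5990 : act 1 n2898 = n5990 := rfl
theorem F9089 : act 5 n5990 = n2903 := d9_2 D2898 D5990 (iv D2903) (iv D1408) D1406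
def n5991 : Q := act 6 n2898
theorem D5991 : act 6 n2898 = n5991 := rfl
theorem F9090 : act 4 n5991 = n2935 := d19_1 D5991 (iv D2935) (iv F4525)
theorem F9091 : act 5 n5991 = n5985 := d22_2 D2898 D5991 (iv D5985) (iv D2896)
def n5992 : Q := act 5 n2899
theorem D5992 : act 5 n2899 = n5992 := rfl
theorem F9092 : act 0 n5992 = n5991 := d4_1 D5992 F9091 F9081
theorem F9094 : act 6 n5992 = n5984 := d20_2 D2899 D5992 (iv D5984) D5985 (iv F9091) (iv D5991) (iv D2898)
def n5993 : Q := act 1 n2900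
theorem D5993 : act 1 n2900 = n5993 := rfl
theorem F9095 : act 3 n5993 = n2904 := d7_2 (iv F4530) D5993 (iv D2904)
def n5994 : Q := act 4 n2900
theorem D5994 : act 4 n2900 = n5994 := rfl
theorem F9097 : act 2 n5994 = n2901 := d12_1 D5994 (iv D2901) D2900
def n5995 : Q := act 5 n2900
theorem D5995 : act 5 n2900 = n5995 := rfl
theorem F9099 : act 0 n5995 = n2906 := d4_1 D5995 (iv D2906) (iv F4528)
theorem F9100 : act 2 n5995 = n2902 := d13_1 D5995 (iv D2902) D2900
theorem F9101 : act 3 n5995 = n2906 := d16_1 D5995 (iv D2906) (iv F4530)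
theorem F9102 : act 6 n5995 = n2906 := d22_1 D5995 (iv D2906) F2323 (iv F4528)
def n5996 : Q := act 5 n2901
theorem D5996 : act 5 n2901 = n5996 := rfl
theorem F9103 : act 0 n5996 = n2907 := d4_1 D5996 (iv D2907) (iv F4531)
theorem F9105 : act 4 n5996 = n2902 := d18_1 D5996 (iv D2902) D2901
def n5997 : Q := act 1 n2902
theorem D5997 : act 1 n2902 = n5997 := rfl
theorem F9107 : act 3 n5997 = n2903 := d7_2 (iv F4535) D5997 (iv D2903)
def n5998 : Q := act 0 n2903
theorem D5998 : act 0 n2903 = n5998 := rfl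
theorem F9108 : act 4 n5998 = n2939 := d3_2 (iv F4537) D5998 (iv D2939)
def n5999 : Q := act 6 n2903
theorem D5999 : act 6 n2903 = n5999 := rfl
theorem F9109 : act 1 n5999 = n2910 := d10_1 D5999 (iv D2910) (iv D1412) (iv F2322) D2903
theorem F9110 : act 4 n5999 = n2940 := d19_1 D5999 (iv D2940) (iv F4537)
def n6000 : Q := act 0 n2904
theorem D6000 : act 0 n2904 = n6000 := rfl
def n6001 : Q := act 4 n2904
theorem D6001 : act 4 n2904 = n6001 := rfl
theorem F9111 : act 1 n6001 = n2905 := d8_1 D6001 (iv D2905) D2904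
def n6002 : Q := act 5 n2904
theorem D6002 : act 5 n2904 = n6002 := rfl
def n6003 : Q := act 6 n2904
theorem D6003 : act 6 n2904 = n6003 := rfl
theorem F9112 : act 1 n6003 = n6003 := d10_1 D6003 (iv D6003) (iv D2904) F2323 D2904
def n6005 : Q := act 5 n2905
theorem D6005 : act 5 n2905 = n6005 := rfl
theorem F9114 : act 2 n6005 = n2907 := d13_1 D6005 (iv D2907) (iv F4538)
theorem F9115 : act 4 n6005 = n2906 := d18_1 D6005 (iv D2906) D2905
def n6006 : Q := act 1 n2906
theorem D6006 : act 1 n2906 = n6006 := rfl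
def n6007 : Q := act 1 n2907
theorem D6007 : act 1 n2907 = n6007 := rfl
theorem F9116 : act 3 n6007 = n2948 := d7_2 (iv F4541) D6007 (iv D2948)
theorem F9117 : act 4 n6007 = n2908 := d8_2 (iv F4542) D6007 (iv D2908)
def n6008 : Q := act 0 n2908
theorem D6008 : act 0 n2908 = n6008 := rfl
theorem F9118 : act 3 n6008 = n2909 := d2_2 (iv F4543) D6008 (iv D2909)
def n6009 : Q := act 2 n2908
theorem D6009 : act 2 n2908 = n6009 := rfl
def n6010 : Q := act 6 n2908
theorem D6010 : act 6 n2908 = n6010 := rfl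
theorem F9119 : act 3 n6010 = n2910 := d17_1 D6010 (iv D2910) (iv F4543)
def n6011 : Q := act 1 n2909
theorem D6011 : act 1 n2909 = n6011 := rfl
theorem F9120 : act 4 n6011 = n2952 := d8_2 (iv F4545) D6011 (iv D2952)
def n6012 : Q := act 6 n2909
theorem D6012 : act 6 n2909 = n6012 := rfl
theorem F9124 : act 5 n6012 = n5711 := d22_2 F8664 D6012 (iv D5711) D5710
def n6013 : Q := act 5 n2910
theorem D6013 : act 5 n2910 = n6013 := rfl
theorem F9128 : act 6 n6013 = n5710 := d20_2 D2910 D6013 F8664 D6012 F9124 (iv D5711) F4297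
def n6014 : Q := act 1 n2911
theorem D6014 : act 1 n2911 = n6014 := rfl
def n6015 : Q := act 3 n2911
theorem D6015 : act 3 n2911 = n6015 := rfl
theorem F9130 : act 0 n6015 = n2912 := d2_1 D6015 (iv D2912) D2911
def n6016 : Q := act 5 n2911
theorem D6016 : act 5 n2911 = n6016 := rfl
def n6017 : Q := act 6 n2911
theorem D6017 : act 6 n2911 = n6017 := rfl
theorem F9134 : act 4 n6017 = n2958 := d19_1 D6017 (iv D2958) (iv F4548)
def n6018 : Q := act 2 n2912
theorem D6018 : act 2 n2912 = n6018 := rfl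
def n6019 : Q := act 4 n2912
theorem D6019 : act 4 n2912 = n6019 := rfl
theorem F9135 : act 1 n6019 = n2916 := d8_1 D6019 (iv D2916) (iv F4549)
def n6020 : Q := act 5 n2912
theorem D6020 : act 5 n2912 = n6020 := rfl
theorem F9137 : act 1 n6020 = n6020 := d9_1 D6020 (iv D6020) F4549 F2331 (iv F4549)
def n6021 : Q := act 6 n2912
theorem D6021 : act 6 n2912 = n6021 := rfl
theorem F9139 : act 3 n6021 = n2914 := d17_1 D6021 (iv D2914) D2912
def n6022 : Q := act 6 n2913
theorem D6022 : act 6 n2913 = n6022 := rfl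
theorem F9141 : act 5 n6022 = n6017 := d22_2 D2913 D6022 (iv D6017) (iv D2911)
def n6023 : Q := act 1 n2914
theorem D6023 : act 1 n2914 = n6023 := rfl
theorem F9142 : act 2 n6023 = n5999 := d6_2 (iv F7501) D6023 F9109 F4546 D4917
theorem F9144 : act 6 n6023 = n2918 := d10_2 D2914 D6023 (iv D2918) (iv D1415) D1413
def n6025 : Q := act 1 n2915
theorem D6025 : act 1 n2915 = n6025 := rfl
theorem F9148 : act 3 n6025 = n2919 := d7_2 (iv F4555) D6025 (iv D2919)
def n6026 : Q := act 4 n2915
theorem D6026 : act 4 n2915 = n6026 := rfl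
theorem F9150 : act 2 n6026 = n2916 := d12_1 D6026 (iv D2916) D2915
def n6027 : Q := act 6 n2915
theorem D6027 : act 6 n2915 = n6027 := rfl
theorem F9152 : act 0 n6027 = n2921 := d5_1 D6027 (iv D2921) (iv F4553)
theorem F9153 : act 2 n6027 = n2917 := d14_1 D6027 (iv D2917) D2915
theorem F9154 : act 3 n6027 = n2921 := d17_1 D6027 (iv D2921) (iv F4555)
theorem F9155 : act 5 n6027 = n2921 := d22_2 F4554 D6027 (iv D2921) (iv F4553)
def n6028 : Q := act 6 n2916
theorem D6028 : act 6 n2916 = n6028 := rfl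
theorem F9157 : act 3 n6028 = n2966 := d17_1 D6028 (iv D2966) (iv F4557)
theorem F9158 : act 4 n6028 = n2917 := d19_1 D6028 (iv D2917) D2916
def n6029 : Q := act 1 n2917
theorem D6029 : act 1 n2917 = n6029 := rfl
theorem F9160 : act 3 n6029 = n2918 := d7_2 (iv F4560) D6029 (iv D2918)
def n6030 : Q := act 0 n2918
theorem D6030 : act 0 n2918 = n6030 := rfl
theorem F9162 : act 4 n6030 = n2968 := d3_2 (iv F4563) D6030 (iv D2968)
def n6031 : Q := act 5 n2918
theorem D6031 : act 5 n2918 = n6031 := rfl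
theorem F9164 : act 2 n6031 = n5990 := d13_1 D6031 F9089 (iv F4562)
theorem F9165 : act 4 n6031 = n2969 := d18_1 D6031 (iv D2969) (iv F4563)
def n6032 : Q := act 0 n2919
theorem D6032 : act 0 n2919 = n6032 := rfl
def n6033 : Q := act 4 n2919
theorem D6033 : act 4 n2919 = n6033 := rfl
theorem F9166 : act 1 n6033 = n2920 := d8_1 D6033 (iv D2920) D2919
def n6034 : Q := act 5 n2919
theorem D6034 : act 5 n2919 = n6034 := rfl
theorem F9167 : act 1 n6034 = n6034 := d9_1 D6034 (iv D6034) (iv D2919) F2336 D2919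
def n6035 : Q := act 6 n2919
theorem D6035 : act 6 n2919 = n6035 := rfl
def n6037 : Q := act 6 n2920
theorem D6037 : act 6 n2920 = n6037 := rfl
theorem F9169 : act 2 n6037 = n2922 := d14_1 D6037 (iv D2922) (iv F4564)
theorem F9170 : act 4 n6037 = n2921 := d19_1 D6037 (iv D2921) D2920
def n6038 : Q := act 1 n2921
theorem D6038 : act 1 n2921 = n6038 := rfl
def n6039 : Q := act 1 n2922
theorem D6039 : act 1 n2922 = n6039 := rfl
theorem F9171 : act 3 n6039 = n2977 := d7_2 (iv F4567) D6039 (iv D2977)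
theorem F9172 : act 4 n6039 = n2923 := d8_2 (iv F4568) D6039 (iv D2923)
def n6040 : Q := act 0 n2923
theorem D6040 : act 0 n2923 = n6040 := rfl
theorem F9173 : act 3 n6040 = n2924 := d2_2 (iv F4569) D6040 (iv D2924)
def n6041 : Q := act 2 n2923
theorem D6041 : act 2 n2923 = n6041 := rfl
def n6042 : Q := act 5 n2923
theorem D6042 : act 5 n2923 = n6042 := rfl
theorem F9174 : act 3 n6042 = n2925 := d16_1 D6042 (iv D2925) (iv F4569)
def n6043 : Q := act 1 n2924
theorem D6043 : act 1 n2924 = n6043 := rfl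
theorem F9175 : act 4 n6043 = n2981 := d8_2 (iv F4571) D6043 (iv D2981)
def n6044 : Q := act 5 n2924
theorem D6044 : act 5 n2924 = n6044 := rfl
theorem F9176 : act 0 n6044 = n2925 := d4_1 D6044 (iv D2925) D2924
theorem F9179 : act 6 n6044 = n5766 := d22_1 D6044 (iv D5766) F4355 D2924
def n6045 : Q := act 6 n2925
theorem D6045 : act 6 n2925 = n6045 := rfl
theorem F9180 : act 0 n6045 = n5766 := d5_1 D6045 (iv F9179) F9176
theorem F9181 : act 2 n6045 = n4880 := d14_1 D6045 (iv D4880) (iv F4572)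
def n6046 : Q := act 2 n2926
theorem D6046 : act 2 n2926 = n6046 := rfl
def n6050 : Q := act 2 n2927
theorem D6050 : act 2 n2927 = n6050 := rfl
theorem F9185 : act 0 n6050 = n2930 := d1_1 D6050 (iv D2930) (iv F4574)
def n6051 : Q := act 4 n2927
theorem D6051 : act 4 n2927 = n6051 := rfl
theorem F9186 : act 0 n6051 = n2931 := d3_1 D6051 (iv D2931) (iv F4574)
def n6052 : Q := act 5 n2927
theorem D6052 : act 5 n2927 = n6052 := rfl
theorem F9187 : act 0 n6052 = n2932 := d4_1 D6052 (iv D2932) (iv F4574)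
theorem F9188 : act 3 n6052 = n2928 := d16_1 D6052 (iv D2928) D2927
def n6053 : Q := act 6 n2927
theorem D6053 : act 6 n2927 = n6053 := rfl
theorem F9190 : act 3 n6053 = n2929 := d17_1 D6053 (iv D2929) D2927
def n6055 : Q := act 1 n2929
theorem D6055 : act 1 n2929 = n6055 := rfl
def n6057 : Q := act 4 n2930
theorem D6057 : act 4 n2930 = n6057 := rfl
theorem F9191 : act 2 n6057 = n2931 := d12_1 D6057 (iv D2931) D2930
def n6058 : Q := act 5 n2930
theorem D6058 : act 5 n2930 = n6058 := rfl
theorem F9192 : act 2 n6058 = n2932 := d13_1 D6058 (iv D2932) D2930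
def n6060 : Q := act 5 n2931
theorem D6060 : act 5 n2931 = n6060 := rfl
def n6062 : Q := act 1 n2932
theorem D6062 : act 1 n2932 = n6062 := rfl
theorem F9198 : act 5 n6062 = n2938 := d9_2 D2932 D6062 (iv D2938) (iv D1425) (iv F2342)
def n6063 : Q := act 6 n2932
theorem D6063 : act 6 n2932 = n6063 := rfl
theorem F9199 : act 3 n6063 = n2935 := d17_1 D6063 (iv D2935) (iv F4578)
def n6065 : Q := act 0 n2934
theorem D6065 : act 0 n2934 = n6065 := rfl
theorem F9204 : act 5 n6065 = n2939 := d4_2 (iv F4581) D6065 (iv D2939)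
theorem F9205 : act 1 n4502 = n6065 := d23_2 D2168 (iv F6856) (iv D6065) F4581 (iv F2363) (iv D1440) F1293 (iv F1295) F1294 F698 F690 (iv D180) D179 (iv F664) (iv F1242) D1368 F2276 D1369 (iv F3429)
def n6066 : Q := act 6 n2934
theorem D6066 : act 6 n2934 = n6066 := rfl
def n6067 : Q := act 1 n2935
theorem D6067 : act 1 n2935 = n6067 := rfl
def n6071 : Q := act 2 n2938
theorem D6071 : act 2 n2938 = n6071 := rfl
def n6072 : Q := act 6 n2938
theorem D6072 : act 6 n2938 = n6072 := rfl
theorem F9210 : act 1 n6072 = n2951 := d10_1 D6072 (iv D2951) (iv D1431) (iv F2348) D2938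
theorem F9211 : act 3 n6072 = n2940 := d17_1 D6072 (iv D2940) (iv F4588)
def n6074 : Q := act 6 n2939
theorem D6074 : act 6 n2939 = n6074 := rfl
theorem F9214 : act 5 n6074 = n6066 := d22_2 F9204 D6074 (iv D6066) D6065
def n6075 : Q := act 5 n2940
theorem D6075 : act 5 n2940 = n6075 := rfl
theorem F9216 : act 6 n6075 = n6065 := d20_2 D2940 D6075 F9204 D6074 F9214 (iv D6066) F4581
def n6076 : Q := act 1 n2941
theorem D6076 : act 1 n2941 = n6076 := rfl
def n6081 : Q := act 5 n2942
theorem D6081 : act 5 n2942 = n6081 := rfl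
theorem F9221 : act 4 n6081 = n2943 := d18_1 D6081 (iv D2943) D2942
def n6083 : Q := act 1 n2943
theorem D6083 : act 1 n2943 = n6083 := rfl
theorem F9224 : act 5 n6083 = n2947 := d9_2 D2943 D6083 (iv D2947) (iv D1429) D1427
def n6090 : Q := act 2 n2947
theorem D6090 : act 2 n2947 = n6090 := rfl
theorem F9231 : act 1 n6090 = n2950 := d6_1 D6090 (iv D2950) (iv D1431) (iv F2351) D2947
def n6094 : Q := act 6 n2948
theorem D6094 : act 6 n2948 = n6094 := rfl
def n6095 : Q := act 1 n2949
theorem D6095 : act 1 n2949 = n6095 := rfl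
theorem F9235 : act 3 n6095 = n2952 := d7_2 (iv F4596) D6095 (iv D2952)
def n6097 : Q := act 6 n2949
theorem D6097 : act 6 n2949 = n6097 := rfl
theorem F9239 : act 5 n6097 = n5867 := d22_2 F8934 D6097 (iv D5867) D5865
def n6100 : Q := act 5 n2951
theorem D6100 : act 5 n2951 = n6100 := rfl
theorem F9243 : act 6 n6100 = n5865 := d20_2 D2951 D6100 F8934 D6097 F9239 (iv D5867) F4435
def n6101 : Q := act 0 n2952
theorem D6101 : act 0 n2952 = n6101 := rfl
def n6102 : Q := act 2 n2952
theorem D6102 : act 2 n2952 = n6102 := rfl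
theorem F9244 : act 1 n6102 = n5032 := d6_1 D6102 (iv D5032) (iv D2425) (iv F2354) D2952
def n6103 : Q := act 5 n2952
theorem D6103 : act 5 n2952 = n6103 := rfl
def n6104 : Q := act 6 n2952
theorem D6104 : act 6 n2952 = n6104 := rfl
def n6111 : Q := act 2 n2956
theorem D6111 : act 2 n2956 = n6111 := rfl
theorem F9246 : act 0 n6111 = n2959 := d1_1 D6111 (iv D2959) (iv F4604)
def n6114 : Q := act 6 n2956
theorem D6114 : act 6 n2956 = n6114 := rfl
theorem F9251 : act 3 n6114 = n2958 := d17_1 D6114 (iv D2958) D2956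
def n6115 : Q := act 1 n2957
theorem D6115 : act 1 n2957 = n6115 := rfl
def n6118 : Q := act 4 n2959
theorem D6118 : act 4 n2959 = n6118 := rfl
def n6120 : Q := act 6 n2959
theorem D6120 : act 6 n2959 = n6120 := rfl
theorem F9254 : act 2 n6120 = n2962 := d14_1 D6120 (iv D2962) D2959
def n6123 : Q := act 6 n2961
theorem D6123 : act 6 n2961 = n6123 := rfl
theorem F9259 : act 5 n6123 = n6114 := d22_2 D2961 D6123 (iv D6114) F4604
def n6124 : Q := act 1 n2962
theorem D6124 : act 1 n2962 = n6124 := rfl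
theorem F9260 : act 3 n6124 = n2964 := d7_2 (iv F4610) D6124 (iv D2964)
theorem F9261 : act 6 n6124 = n2967 := d10_2 D2962 D6124 (iv D2967) (iv D1439) (iv F2356)
def n6127 : Q := act 0 n2964
theorem D6127 : act 0 n2964 = n6127 := rfl
theorem F9267 : act 6 n6127 = n2968 := d5_2 (iv F4613) D6127 (iv D2968)
def n6128 : Q := act 5 n2964
theorem D6128 : act 5 n2964 = n6128 := rfl
def n6130 : Q := act 1 n2966
theorem D6130 : act 1 n2966 = n6130 := rfl
theorem F9269 : act 4 n6130 = n2967 := d8_2 (iv F4617) D6130 (iv D2967)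
def n6131 : Q := act 0 n2967
theorem D6131 : act 0 n2967 = n6131 := rfl
theorem F9270 : act 3 n6131 = n2968 := d2_2 (iv F4619) D6131 (iv D2968)
def n6132 : Q := act 2 n2967
theorem D6132 : act 2 n2967 = n6132 := rfl
def n6133 : Q := act 5 n2967
theorem D6133 : act 5 n2967 = n6133 := rfl
theorem F9272 : act 3 n6133 = n2969 := d16_1 D6133 (iv D2969) (iv F4619)
def n6135 : Q := act 5 n2968
theorem D6135 : act 5 n2968 = n6135 := rfl
theorem F9273 : act 0 n6135 = n2969 := d4_1 D6135 (iv D2969) D2968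
theorem F9274 : act 2 n6135 = n6065 := d13_1 D6135 F9204 (iv F4620)
theorem F9275 : act 6 n6135 = n6128 := d22_1 D6135 (iv D6128) F4613 D2968
theorem F9276 : act 1 n5901 = n6135 := d6_5 F9274 (iv F9205) F6856 (iv F4461) D5901
def n6136 : Q := act 6 n2969
theorem D6136 : act 6 n2969 = n6136 := rfl
def n6137 : Q := act 1 n2970
theorem D6137 : act 1 n2970 = n6137 := rfl
def n6145 : Q := act 1 n2973
theorem D6145 : act 1 n2973 = n6145 := rfl
theorem F9289 : act 6 n6145 = n2976 := d10_2 D2973 D6145 (iv D2976) (iv D1443) D1441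
def n6151 : Q := act 2 n2976
theorem D6151 : act 2 n2976 = n6151 := rfl
theorem F9295 : act 1 n6151 = n2979 := d6_1 D6151 (iv D2979) (iv D1445) (iv F2366) D2976
def n6154 : Q := act 2 n2977
theorem D6154 : act 2 n2977 = n6154 := rfl
theorem F9297 : act 4 n6154 = n2979 := d12_2 (iv F4628) D6154 (iv D2979)
def n6155 : Q := act 5 n2977
theorem D6155 : act 5 n2977 = n6155 := rfl
theorem F9298 : act 4 n6155 = n2980 := d18_1 D6155 (iv D2980) (iv F4628)
def n6156 : Q := act 1 n2978
theorem D6156 : act 1 n2978 = n6156 := rfl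
theorem F9299 : act 3 n6156 = n2981 := d7_2 (iv F4629) D6156 (iv D2981)
def n6160 : Q := act 5 n2979
theorem D6160 : act 5 n2979 = n6160 := rfl
theorem F9304 : act 2 n6160 = n2980 := d13_1 D6160 (iv D2980) D2979
def n6162 : Q := act 0 n2981
theorem D6162 : act 0 n2981 = n6162 := rfl
def n6163 : Q := act 2 n2981
theorem D6163 : act 2 n2981 = n6163 := rfl
theorem F9308 : act 1 n6163 = n4068 := d6_1 D6163 (iv F6181) (iv D2391) (iv F2369) D2981
theorem F9309 : act 6 n4069 = n6163 := d10_0 F9308 (iv D4068) (iv D1947) D1948 D4069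
def n6164 : Q := act 5 n2981
theorem D6164 : act 5 n2981 = n6164 := rfl
def n6165 : Q := act 6 n2981
theorem D6165 : act 6 n2981 = n6165 := rfl
theorem F9310 : act 1 n6165 = n4076 := d10_1 D6165 F9072 (iv D5976) F4520 D2981
theorem F9311 : act 2 n6165 = n4069 := d14_1 D6165 F9309 (iv D6163)
def n6194 : Q := act 2 n2995
theorem D6194 : act 2 n2995 = n6194 := rfl
theorem F9355 : act 0 n6194 = n2999 := d1_1 D6194 (iv D2999) (iv F4657)
def n6196 : Q := act 5 n2995
theorem D6196 : act 5 n2995 = n6196 := rfl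
theorem F9357 : act 0 n6196 = n3001 := d4_1 D6196 (iv D3001) (iv F4657)
def n6228 : Q := act 2 n3011
theorem D6228 : act 2 n3011 = n6228 := rfl
theorem F9410 : act 1 n6228 = n6071 := d6_1 D6228 (iv D6071) (iv D2938) (iv F2399) D3011
def n6269 : Q := act 1 n3034
theorem D6269 : act 1 n3034 = n6269 := rfl
theorem F9479 : act 3 n6269 = n6137 := d7_2 (iv F4729) D6269 (iv D6137)
def n6287 : Q := act 0 n3043
theorem D6287 : act 0 n3043 = n6287 := rfl
def n6304 : Q := act 5 n3048
theorem D6304 : act 5 n3048 = n6304 := rfl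
theorem F9535 : act 2 n6304 = n3050 := d13_1 D6304 (iv D3050) D3048
def n6324 : Q := act 1 n3059
theorem D6324 : act 1 n3059 = n6324 := rfl
theorem F9573 : act 4 n6324 = n3060 := d8_2 (iv F4778) D6324 (iv D3060)
def n6325 : Q := act 0 n3060
theorem D6325 : act 0 n3060 = n6325 := rfl
theorem F9574 : act 3 n6325 = n3064 := d2_2 (iv F4780) D6325 (iv D3064)
def n6326 : Q := act 2 n3060
theorem D6326 : act 2 n3060 = n6326 := rfl
theorem F9575 : act 1 n6326 = n6132 := d6_1 D6326 (iv D6132) (iv D2967) (iv F2459) D3060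
def n6616 : Q := act 1 n3193
theorem D6616 : act 1 n3193 = n6616 := rfl
theorem F9963 : act 3 n6616 = n3198 := d7_2 (iv F4970) D6616 (iv D3198)
theorem F9964 : act 5 n6616 = n3210 := d9_2 D3193 D6616 (iv D3210) (iv D1559) (iv F2574)
def n6623 : Q := act 1 n3196
theorem D6623 : act 1 n3196 = n6623 := rfl
theorem F9974 : act 4 n6623 = n3198 := d8_2 (iv F4973) D6623 (iv D3198)
theorem F9975 : act 5 n6623 = n3215 := d9_2 D3196 D6623 (iv D3215) (iv D1562) (iv F2575)
def n6627 : Q := act 0 n3198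
theorem D6627 : act 0 n3198 = n6627 := rfl
theorem F9983 : act 5 n6627 = n3217 := d4_2 (iv F4975) D6627 (iv D3217)
def n6629 : Q := act 6 n3198
theorem D6629 : act 6 n3198 = n6629 := rfl
def n6631 : Q := act 0 n3200
theorem D6631 : act 0 n3200 = n6631 := rfl
theorem F9985 : act 6 n6631 = n3220 := d5_2 (iv F4977) D6631 (iv D3220)
def n6633 : Q := act 5 n3200
theorem D6633 : act 5 n3200 = n6633 := rfl
def n6648 : Q := act 2 n3207
theorem D6648 : act 2 n3207 = n6648 := rfl
theorem F10004 : act 0 n6648 = n3233 := d1_1 D6648 (iv D3233) (iv F4988)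
theorem F10005 : act 4 n6648 = n3212 := d12_2 (iv F4989) D6648 (iv D3212)
def n6660 : Q := act 3 n3212
theorem D6660 : act 3 n3212 = n6660 := rfl
theorem F10018 : act 0 n6660 = n3249 := d2_1 D6660 (iv D3249) (iv F4996)
theorem F10019 : act 2 n6660 = n3249 := d21_2 D3212 D6660 (iv D3249) (iv D1577) (iv D787) F784 D787 (iv F2582)
def n6671 : Q := act 1 n3217
theorem D6671 : act 1 n3217 = n6671 := rfl
theorem F10034 : act 0 n6671 = n4189 := d0_1 D6671 F6357 (iv F5067) (iv D3264) (iv D1584) (iv D790) (iv F1421) D1564 D3217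
def n6673 : Q := act 6 n3217
theorem D6673 : act 6 n3217 = n6673 := rfl
theorem F10038 : act 5 n6673 = n6629 := d22_2 F9983 D6673 (iv D6629) D6627
def n6676 : Q := act 5 n3219
theorem D6676 : act 5 n3219 = n6676 := rfl
theorem F10042 : act 6 n6676 = n6627 := d20_2 D3219 D6676 F9983 D6673 F10038 (iv D6629) F4975
def n6677 : Q := act 1 n3220
theorem D6677 : act 1 n3220 = n6677 := rfl
def n6678 : Q := act 2 n3220
theorem D6678 : act 2 n3220 = n6678 := rfl
def n6679 : Q := act 5 n3220
theorem D6679 : act 5 n3220 = n6679 := rfl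
theorem F10044 : act 0 n6679 = n3222 := d4_1 D6679 (iv D3222) D3220
theorem F10045 : act 6 n6679 = n6633 := d22_1 D6679 (iv D6633) F4977 D3220
def n6682 : Q := act 6 n3222
theorem D6682 : act 6 n3222 = n6682 := rfl
theorem F10049 : act 5 n6682 = n6631 := d20_1 D6682 F9985 D6679 F10045 (iv D6633) F4977 D3222
def n6685 : Q := act 6 n3223
theorem D6685 : act 6 n3223 = n6685 := rfl
theorem F10052 : act 4 n6685 = n3225 := d19_1 D6685 (iv D3225) D3223
def n6686 : Q := act 1 n3224
theorem D6686 : act 1 n3224 = n6686 := rfl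
theorem F10053 : act 3 n6686 = n3229 := d7_2 (iv F5005) D6686 (iv D3229)
def n6692 : Q := act 6 n3226
theorem D6692 : act 6 n3226 = n6692 := rfl
theorem F10062 : act 3 n6692 = n3228 := d17_1 D6692 (iv D3228) D3226
def n6693 : Q := act 1 n3227
theorem D6693 : act 1 n3227 = n6693 := rfl
theorem F10063 : act 4 n6693 = n3229 := d8_2 (iv F5008) D6693 (iv D3229)
def n6698 : Q := act 2 n3229
theorem D6698 : act 2 n3229 = n6698 := rfl
theorem F10072 : act 1 n6698 = n3241 := d6_1 D6698 (iv D3241) (iv D1573) (iv F2590) D3229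
def n6705 : Q := act 1 n3233
theorem D6705 : act 1 n3233 = n6705 := rfl
theorem F10074 : act 2 n6705 = n3280 := d6_2 D3233 D6705 (iv D3280) (iv D1592) (iv F2592)
theorem F10075 : act 4 n6705 = n3248 := d8_2 (iv F5016) D6705 (iv D3248)
def n6706 : Q := act 3 n3233
theorem D6706 : act 3 n3233 = n6706 := rfl
def n6707 : Q := act 5 n3233
theorem D6707 : act 5 n3233 = n6707 := rfl
theorem F10077 : act 4 n6707 = n3250 := d18_1 D6707 (iv D3250) (iv F5016)
def n6708 : Q := act 6 n3233
theorem D6708 : act 6 n3233 = n6708 := rfl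
theorem F10078 : act 2 n6708 = n3235 := d14_1 D6708 (iv D3235) D3233
theorem F10079 : act 4 n6708 = n3251 := d19_1 D6708 (iv D3251) (iv F5016)
def n6714 : Q := act 2 n3236
theorem D6714 : act 2 n3236 = n6714 := rfl
theorem F10095 : act 4 n6714 = n3241 := d12_2 (iv F5021) D6714 (iv D3241)
def n6721 : Q := act 1 n3240
theorem D6721 : act 1 n3240 = n6721 := rfl
theorem F10105 : act 3 n6721 = n3264 := d7_2 (iv F5030) D6721 (iv D3264)
theorem F10106 : act 0 n4231 = n6721 := d2_3 F10105 F5067 D4231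
theorem F10107 : act 5 n4289 = n6721 := d16_0 F10105 F5068 D4289
def n6722 : Q := act 2 n3240
theorem D6722 : act 2 n3240 = n6722 := rfl
theorem F10108 : act 0 n6722 = n3241 := d1_1 D6722 (iv D3241) D3240
theorem F10109 : act 5 n6722 = n3293 := d13_2 (iv F5031) D6722 (iv D3293)
def n6724 : Q := act 6 n3241
theorem D6724 : act 6 n3241 = n6724 := rfl
def n6729 : Q := act 1 n3244
theorem D6729 : act 1 n3244 = n6729 := rfl
theorem F10117 : act 3 n6729 = n3272 := d7_2 (iv F5035) D6729 (iv D3272)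
def n6737 : Q := act 0 n3248
theorem D6737 : act 0 n3248 = n6737 := rfl
theorem F10127 : act 2 n6737 = n3304 := d1_2 (iv F5040) D6737 (iv D3304)
def n6738 : Q := act 3 n3248
theorem D6738 : act 3 n3248 = n6738 := rfl
theorem F10128 : act 1 n6738 = n3249 := d7_1 D6738 (iv D3249) D3248
def n6739 : Q := act 5 n3248
theorem D6739 : act 5 n3248 = n6739 := rfl
theorem F10129 : act 2 n6739 = n3305 := d13_1 D6739 (iv D3305) (iv F5040)
def n6740 : Q := act 6 n3248
theorem D6740 : act 6 n3248 = n6740 := rfl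
theorem F10130 : act 2 n6740 = n3306 := d14_1 D6740 (iv D3306) (iv F5040)
def n6741 : Q := act 4 n3249
theorem D6741 : act 4 n3249 = n6741 := rfl
def n6742 : Q := act 5 n3249
theorem D6742 : act 5 n3249 = n6742 := rfl
theorem F10131 : act 3 n6742 = n3250 := d16_1 D6742 (iv D3250) D3249
def n6743 : Q := act 6 n3249
theorem D6743 : act 6 n3249 = n6743 := rfl
theorem F10132 : act 3 n6743 = n3251 := d17_1 D6743 (iv D3251) D3249
def n6756 : Q := act 1 n3256
theorem D6756 : act 1 n3256 = n6756 := rfl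
theorem F10149 : act 2 n4224 = n6756 := d23_1 (iv F6419) (iv D6756) (iv D3256) F2608 D1609 F2648 F1458 F1460 (iv D810) (iv D412) F419 (iv D115) (iv F232) (iv F469) (iv F864) D876 F1569 D1008 D2050
theorem F10150 : act 0 n6756 = n4225 := d1_1 F10149 (iv D4225) D4224
theorem F10151 : act 5 n6756 = n4277 := d13_2 (iv F6419) F10149 (iv D4277)
def n6757 : Q := act 2 n3256
theorem D6757 : act 2 n3256 = n6757 := rfl
theorem F10152 : act 0 n6757 = n3257 := d1_1 D6757 (iv D3257) D3256
theorem F10153 : act 1 n6757 = n5659 := d6_1 D6757 F8554 F6420 F10149 (iv D6756)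
theorem F10155 : act 5 n6757 = n3316 := d13_2 (iv F5053) D6757 (iv D3316)
def n6764 : Q := act 1 n3260
theorem D6764 : act 1 n3260 = n6764 := rfl
theorem F10167 : act 4 n6764 = n3272 := d8_2 (iv F5059) D6764 (iv D3272)
def n6779 : Q := act 5 n3268
theorem D6779 : act 5 n3268 = n6779 := rfl
def n6780 : Q := act 1 n3269
theorem D6780 : act 1 n3269 = n6780 := rfl
def n6781 : Q := act 2 n3269
theorem D6781 : act 2 n3269 = n6781 := rfl
theorem F10192 : act 0 n6781 = n3270 := d1_1 D6781 (iv D3270) D3269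
def n6782 : Q := act 5 n3269
theorem D6782 : act 5 n3269 = n6782 := rfl
theorem F10194 : act 6 n6782 = n6779 := d22_1 D6782 (iv D6779) F5076 D3269
theorem F10195 : act 1 n3773 = n6782 := d24_14 F10194 (iv D6779) (iv D3268) (iv D1586) F1433 (iv D410) (iv F485) (iv D242) D241 (iv F881) D900 D1816 D3770 (iv F5778)
theorem E21 : n6780 = n5808 := (c9_4 (iv F5778) F10195 (iv D6782) D6780 (iv D5808) (iv F5774))
theorem F10196 : act 1 n5808 = n3269 := (sb E21 (iv D6780))
theorem F10197 : act 1 n6781 = n5875 := d6_3 (iv F8843) F10196 D6781 F8942 F4443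
def n6784 : Q := act 5 n3270
theorem D6784 : act 5 n3270 = n6784 := rfl
theorem F10199 : act 2 n6784 = n3271 := d13_1 D6784 (iv D3271) D3270
theorem E22 : n6678 = n5885 := (c23_6 D6784 F10199 F5078 (iv F10044) (iv D6679) D6678 (iv D5885) F4448 D2853 F4459 D2857 F4468 F3401 F3400 (iv F3650) F3649 D2841 (iv F8942) (iv F10197) F10192)
theorem F10201 : act 2 n5885 = n3220 := (sb E22 (iv D6678))
theorem E23 : n6677 = n4234 := (c6_2 F10201 D6677 (iv D4234) (iv F3630) (iv F4449) D5885)
theorem F10202 : act 1 n4234 = n3220 := (sb E23 (iv D6677))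
theorem F10203 : act 0 n3272 = n4193 := d0_7 F10202 (iv D3220) (iv D1565) F1423 D792 D1588 D3272 F6359 (iv F6447)
def n6786 : Q := act 5 n3272
theorem D6786 : act 5 n3272 = n6786 := rfl
def n6787 : Q := act 6 n3272
theorem D6787 : act 6 n3272 = n6787 := rfl
theorem F10207 : act 1 n6787 = n3343 := d10_1 D6787 (iv D3343) (iv D1620) (iv F2621) D3272
def n6794 : Q := act 0 n3276
theorem D6794 : act 0 n3276 = n6794 := rfl
theorem F10215 : act 5 n6794 = n3277 := d4_2 (iv F5084) D6794 (iv D3277)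
def n6796 : Q := act 6 n3276
theorem D6796 : act 6 n3276 = n6796 := rfl
def n6797 : Q := act 1 n3277
theorem D6797 : act 1 n3277 = n6797 := rfl
def n6799 : Q := act 6 n3277
theorem D6799 : act 6 n3277 = n6799 := rfl
theorem F10219 : act 5 n6799 = n6796 := d22_2 F10215 D6799 (iv D6796) D6794
theorem F10220 : act 1 n6799 = n3754 := d24_2 D6796 (iv F10219) F5755 (iv D3751) (iv D1808) (iv D896) F878 (iv D239) D240 F482 D411 (iv F1436) D1590 D3276
theorem F10221 : act 6 n4011 = n6797 := d10_4 D6799 F10220 F5755 (iv F6111) (iv D6797)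
def n6802 : Q := act 5 n3279
theorem D6802 : act 5 n3279 = n6802 := rfl
theorem F10225 : act 6 n6802 = n6794 := d20_2 D3279 D6802 F10215 D6799 F10219 (iv D6796) F5084
def n6803 : Q := act 0 n3280
theorem D6803 : act 0 n3280 = n6803 := rfl
theorem F10226 : act 4 n6803 = n3304 := d3_2 (iv F5087) D6803 (iv D3304)
def n6804 : Q := act 3 n3280
theorem D6804 : act 3 n3280 = n6804 := rfl
theorem F10227 : act 1 n6804 = n3281 := d7_1 D6804 (iv D3281) D3280
theorem F10228 : act 4 n6804 = n3827 := d15_2 (iv F5087) D6804 (iv D3827) F2980 (iv F2638)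
def n6805 : Q := act 5 n3280
theorem D6805 : act 5 n3280 = n6805 := rfl
theorem F10229 : act 4 n6805 = n3305 := d18_1 D6805 (iv D3305) (iv F5087)
def n6806 : Q := act 6 n3280
theorem D6806 : act 6 n3280 = n6806 := rfl
theorem F10230 : act 4 n6806 = n3306 := d19_1 D6806 (iv D3306) (iv F5087)
def n6807 : Q := act 5 n3281
theorem D6807 : act 5 n3281 = n6807 := rfl
theorem F10231 : act 0 n6807 = n3830 := d4_1 D6807 (iv D3830) (iv F5088)
theorem F10232 : act 3 n6807 = n3282 := d16_1 D6807 (iv D3282) D3281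
theorem F10233 : act 4 n6807 = n3830 := d18_1 D6807 (iv D3830) (iv F5089)
def n6808 : Q := act 6 n3281
theorem D6808 : act 6 n3281 = n6808 := rfl
theorem F10234 : act 0 n6808 = n3831 := d5_1 D6808 (iv D3831) (iv F5088)
theorem F10235 : act 3 n6808 = n3283 := d17_1 D6808 (iv D3283) D3281
theorem F10236 : act 4 n6808 = n3831 := d19_1 D6808 (iv D3831) (iv F5089)
def n6809 : Q := act 1 n3282
theorem D6809 : act 1 n3282 = n6809 := rfl
theorem F10237 : act 4 n6809 = n3307 := d8_2 (iv F5092) D6809 (iv D3307)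
def n6810 : Q := act 1 n3283
theorem D6810 : act 1 n3283 = n6810 := rfl
theorem F10238 : act 4 n6810 = n3308 := d8_2 (iv F5095) D6810 (iv D3308)
def n6821 : Q := act 6 n3287
theorem D6821 : act 6 n3287 = n6821 := rfl
theorem F10255 : act 2 n6821 = n3288 := d14_1 D6821 (iv D3288) D3287
theorem F10256 : act 4 n6821 = n3296 := d19_1 D6821 (iv D3296) (iv F5101)
def n6835 : Q := act 6 n3293
theorem D6835 : act 6 n3293 = n6835 := rfl
theorem F10279 : act 5 n6835 = n6724 := d22_2 F10109 D6835 (iv D6724) (iv F10108)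
def n6840 : Q := act 1 n3296
theorem D6840 : act 1 n3296 = n6840 := rfl
def n6841 : Q := act 5 n3296
theorem D6841 : act 5 n3296 = n6841 := rfl
theorem F10283 : act 2 n6841 = n3297 := d13_1 D6841 (iv D3297) (iv F5111)
theorem F10284 : act 6 n6841 = n6722 := d20_2 D3296 D6841 F10109 D6835 F10279 (iv D6724) F5032
def n6846 : Q := act 6 n3298
theorem D6846 : act 6 n3298 = n6846 := rfl
theorem F10289 : act 3 n6846 = n3343 := d17_1 D6846 (iv D3343) (iv F5115)
def n6857 : Q := act 1 n3304
theorem D6857 : act 1 n3304 = n6857 := rfl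
theorem F10300 : act 3 n6857 = n3910 := d7_2 (iv F5124) D6857 (iv D3910)
def n6858 : Q := act 5 n3304
theorem D6858 : act 5 n3304 = n6858 := rfl
theorem F10301 : act 0 n6858 = n3305 := d4_1 D6858 (iv D3305) D3304
theorem F10302 : act 3 n6858 = n3911 := d16_1 D6858 (iv D3911) (iv F5124)
def n6859 : Q := act 6 n3304
theorem D6859 : act 6 n3304 = n6859 := rfl
theorem F10303 : act 0 n6859 = n3306 := d5_1 D6859 (iv D3306) D3304
theorem F10304 : act 3 n6859 = n3912 := d17_1 D6859 (iv D3912) (iv F5124)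
def n6860 : Q := act 1 n3305
theorem D6860 : act 1 n3305 = n6860 := rfl
theorem F10305 : act 3 n6860 = n3913 := d7_2 (iv F5125) D6860 (iv D3913)
theorem F10306 : act 5 n6860 = n3307 := d9_2 D3305 D6860 (iv D3307) (iv D1604) D1603
def n6861 : Q := act 6 n3305
theorem D6861 : act 6 n3305 = n6861 := rfl
theorem F10307 : act 3 n6861 = n3914 := d17_1 D6861 (iv D3914) (iv F5125)
theorem F10308 : act 5 n6861 = n6859 := d22_2 D3305 D6861 (iv D6859) (iv D3304)
def n6862 : Q := act 1 n3306
theorem D6862 : act 1 n3306 = n6862 := rfl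
theorem F10309 : act 3 n6862 = n3915 := d7_2 (iv F5126) D6862 (iv D3915)
theorem F10310 : act 6 n6862 = n3308 := d10_2 D3306 D6862 (iv D3308) (iv D1605) D1603
def n6863 : Q := act 5 n3306
theorem D6863 : act 5 n3306 = n6863 := rfl
theorem F10311 : act 0 n6863 = n6861 := d4_1 D6863 F10308 F10303
theorem F10312 : act 3 n6863 = n3916 := d16_1 D6863 (iv D3916) (iv F5126)
theorem F10313 : act 6 n6863 = n6858 := d20_2 D3306 D6863 (iv D6858) D6859 (iv F10308) (iv D6861) (iv D3305)
def n6864 : Q := act 0 n3307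
theorem D6864 : act 0 n3307 = n6864 := rfl
theorem F10314 : act 3 n6864 = n3917 := d2_2 (iv F5127) D6864 (iv D3917)
def n6865 : Q := act 2 n3307
theorem D6865 : act 2 n3307 = n6865 := rfl
theorem F10315 : act 1 n6865 = n3310 := d6_1 D6865 (iv D3310) (iv D1606) (iv F2640) D3307
def n6866 : Q := act 6 n3307
theorem D6866 : act 6 n3307 = n6866 := rfl
theorem F10316 : act 3 n6866 = n3919 := d17_1 D6866 (iv D3919) (iv F5127)
def n6867 : Q := act 0 n3308
theorem D6867 : act 0 n3308 = n6867 := rfl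
theorem F10317 : act 3 n6867 = n3921 := d2_2 (iv F5128) D6867 (iv D3921)
def n6868 : Q := act 2 n3308
theorem D6868 : act 2 n3308 = n6868 := rfl
theorem F10318 : act 1 n6868 = n3313 := d6_1 D6868 (iv D3313) (iv D1607) (iv F2643) D3308
def n6869 : Q := act 5 n3308
theorem D6869 : act 5 n3308 = n6869 := rfl
theorem F10319 : act 3 n6869 = n3923 := d16_1 D6869 (iv D3923) (iv F5128)
def n6886 : Q := act 1 n3316
theorem D6886 : act 1 n3316 = n6886 := rfl
theorem F10345 : act 5 n6886 = n5657 := d9_2 F10155 D6886 (iv D5657) D5659 (iv F10153)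
def n6896 : Q := act 2 n3321
theorem D6896 : act 2 n3321 = n6896 := rfl
theorem F10362 : act 4 n6896 = n3341 := d12_2 (iv F5145) D6896 (iv D3341)
def n6898 : Q := act 6 n3321
theorem D6898 : act 6 n3321 = n6898 := rfl
theorem F10364 : act 4 n6898 = n3343 := d19_1 D6898 (iv D3343) (iv F5145)
def n6899 : Q := act 1 n3322
theorem D6899 : act 1 n3322 = n6899 := rfl
def n6908 : Q := act 2 n3327
theorem D6908 : act 2 n3327 = n6908 := rfl
theorem F10380 : act 0 n6908 = n3328 := d1_1 D6908 (iv D3328) D3327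
def n6910 : Q := act 6 n3327
theorem D6910 : act 6 n3327 = n6910 := rfl
def n6911 : Q := act 1 n3328
theorem D6911 : act 1 n3328 = n6911 := rfl
theorem F10383 : act 2 n6911 = n3331 := d6_2 D3328 D6911 (iv D3331) (iv D1615) D1614
theorem F10384 : act 5 n4735 = n6911 := d13_0 F10383 F5159 (iv F7224)
def n6913 : Q := act 5 n3328
theorem D6913 : act 5 n3328 = n6913 := rfl
theorem F10385 : act 1 n6913 = n4288 := d9_1 D6913 F6540 D4735 F10384 (iv D6911)
theorem F10386 : act 2 n6913 = n3329 := d13_1 D6913 (iv D3329) D3328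
def n6915 : Q := act 6 n3329
theorem D6915 : act 6 n3329 = n6915 := rfl
theorem F10388 : act 5 n6915 = n6910 := d22_2 D3329 D6915 (iv D6910) (iv D3327)
def n6937 : Q := act 6 n3339
theorem D6937 : act 6 n3339 = n6937 := rfl
theorem F10414 : act 1 n6937 = n4295 := d10_1 D6937 F6548 (iv D3264) (iv F2661) D3339
def n6939 : Q := act 5 n3340
theorem D6939 : act 5 n3340 = n6939 := rfl
def n6940 : Q := act 6 n3340
theorem D6940 : act 6 n3340 = n6940 := rfl
def n6941 : Q := act 1 n3341
theorem D6941 : act 1 n3341 = n6941 := rfl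
theorem F10420 : act 2 n6941 = n3344 := d6_2 D3341 D6941 (iv D3344) (iv D1621) D1620
def n6942 : Q := act 3 n3341
theorem D6942 : act 3 n3341 = n6942 := rfl
def n6944 : Q := act 6 n3341
theorem D6944 : act 6 n3341 = n6944 := rfl
theorem F10422 : act 2 n6944 = n3343 := d14_1 D6944 (iv D3343) D3341
def n6946 : Q := act 6 n3342
theorem D6946 : act 6 n3342 = n6946 := rfl
theorem F10424 : act 5 n6946 = n6940 := d22_2 D3342 D6946 (iv D6940) (iv D3340)
def n6947 : Q := act 5 n3343
theorem D6947 : act 5 n3343 = n6947 := rfl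
theorem F10426 : act 6 n6947 = n6939 := d20_2 D3343 D6947 (iv D6939) D6940 (iv F10424) (iv D6946) (iv D3342)
def n6951 : Q := act 6 n3344
theorem D6951 : act 6 n3344 = n6951 := rfl
def n6956 : Q := act 0 n3347
theorem D6956 : act 0 n3347 = n6956 := rfl
def n6958 : Q := act 6 n3347
theorem D6958 : act 6 n3347 = n6958 := rfl
theorem F10435 : act 1 n6958 = n6796 := d10_1 D6958 (iv D6796) (iv D3276) (iv F2664) D3347
theorem F10436 : act 5 n3752 = n6958 := d9_0 F10435 (iv F10219) F10220 (iv D3754) D3752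
def n6965 : Q := act 0 n3352
theorem D6965 : act 0 n3352 = n6965 := rfl
def n6967 : Q := act 5 n3352
theorem D6967 : act 5 n3352 = n6967 := rfl
theorem F10445 : act 1 n6967 = n6786 := d9_1 D6967 (iv D6786) (iv D3272) (iv F2668) D3352
def n7218 : Q := act 5 n3463
theorem D7218 : act 5 n3463 = n7218 := rfl
theorem F10779 : act 2 n7218 = n3830 := d13_1 D7218 (iv D3830) (iv F5330)
theorem F10780 : act 3 n7218 = n3464 := d16_1 D7218 (iv D3464) D3463
def n7219 : Q := act 6 n3463
theorem D7219 : act 6 n3463 = n7219 := rfl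
theorem F10781 : act 2 n7219 = n3831 := d14_1 D7219 (iv D3831) (iv F5330)
theorem F10782 : act 3 n7219 = n3465 := d17_1 D7219 (iv D3465) D3463
def n7221 : Q := act 6 n3464
theorem D7221 : act 6 n3464 = n7221 := rfl
theorem F10786 : act 5 n7221 = n3805 := d22_2 D3464 D7221 (iv D3805) F2964
def n7223 : Q := act 5 n3465
theorem D7223 : act 5 n3465 = n7223 := rfl
theorem F10791 : act 6 n7223 = n3804 := d20_2 D3465 D7223 (iv D3804) D3805 (iv F10786) (iv D7221) (iv D3464)
def n7240 : Q := act 2 n3473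
theorem D7240 : act 2 n3473 = n7240 := rfl
theorem F10821 : act 1 n7240 = n3862 := d6_1 D7240 (iv D3862) (iv D1857) (iv F2744) D3473
def n7250 : Q := act 2 n3477
theorem D7250 : act 2 n3477 = n7250 := rfl
theorem F10840 : act 1 n7250 = n3852 := d6_1 D7250 (iv D3852) (iv D1853) (iv F2749) D3477
def n7473 : Q := act 2 n3575
theorem D7473 : act 2 n3575 = n7473 := rfl
theorem F11104 : act 1 n7473 = n5029 := d6_1 D7473 (iv D5029) (iv D2424) (iv F2830) (iv F5473)
def n7544 : Q := act 1 n3614
theorem D7544 : act 1 n3614 = n7544 := rfl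
theorem F11215 : act 4 n7544 = n3616 := d8_2 (iv F5548) D7544 (iv D3616)
theorem F11216 : act 5 n7544 = n4185 := d9_2 D3614 D7544 (iv D4185) (iv D2005) (iv F2838)
def n7558 : Q := act 1 n3621
theorem D7558 : act 1 n3621 = n7558 := rfl
theorem F11237 : act 4 n7558 = n3623 := d8_2 (iv F5561) D7558 (iv D3623)
theorem F11238 : act 5 n7558 = n3643 := d9_2 D3621 D7558 (iv D3643) (iv D1758) (iv F2842)
def n7560 : Q := act 1 n3622
theorem D7560 : act 1 n3622 = n7560 := rfl
theorem F11242 : act 4 n7560 = n3625 := d8_2 (iv F5563) D7560 (iv D3625)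
theorem F11243 : act 6 n7560 = n3644 := d10_2 D3622 D7560 (iv D3644) (iv D1759) (iv F2842)
def n7562 : Q := act 2 n3623
theorem D7562 : act 2 n3623 = n7562 := rfl
theorem F11248 : act 1 n7562 = n3795 := d6_1 D7562 (iv D3795) (iv D1827) (iv F2844) D3623
theorem F11249 : act 5 n7562 = n3646 := d13_2 (iv F5565) D7562 (iv D3646)
def n7563 : Q := act 6 n3623
theorem D7563 : act 6 n3623 = n7563 := rfl
def n7566 : Q := act 2 n3625
theorem D7566 : act 2 n3625 = n7566 := rfl
theorem F11255 : act 6 n7566 = n3649 := d14_2 (iv F5570) D7566 (iv D3649)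
def n7569 : Q := act 1 n3627
theorem D7569 : act 1 n3627 = n7569 := rfl
theorem F11258 : act 2 n7569 = n3651 := d6_2 D3627 D7569 (iv D3651) (iv D1762) (iv F2848)
def n7573 : Q := act 1 n3628
theorem D7573 : act 1 n3628 = n7573 := rfl
theorem F11261 : act 3 n7573 = n3630 := d7_2 (iv F5575) D7573 (iv D3630)
theorem F11262 : act 5 n7573 = n3654 := d9_2 D3628 D7573 (iv D3654) (iv D1763) (iv F2848)
def n7575 : Q := act 1 n3629
theorem D7575 : act 1 n3629 = n7575 := rfl
theorem F11265 : act 3 n7575 = n3632 := d7_2 (iv F5576) D7575 (iv D3632)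
theorem F11266 : act 6 n7575 = n3655 := d10_2 D3629 D7575 (iv D3655) (iv D1764) (iv F2848)
def n7577 : Q := act 6 n3630
theorem D7577 : act 6 n3630 = n7577 := rfl
def n7592 : Q := act 0 n3639
theorem D7592 : act 0 n3639 = n7592 := rfl
def n7594 : Q := act 6 n3639
theorem D7594 : act 6 n3639 = n7594 := rfl
theorem F11286 : act 5 n7594 = n5910 := d24_1 D7594 (iv D5910) (iv F8844) (iv D5808) (iv F5774) (iv D3770) F2942 (iv D901) F884 (iv D445) D442 D871 D1756 D3639
theorem F11288 : act 0 n4036 = n7594 := d23_19 F11286 F8988 (iv D2864) F2298 F1253 (iv D350) (iv D175) F166 F163 F132 D65 D145 F503 D492 (iv F1666) (iv F3095) D4035 F6133 D4036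
theorem F11289 : act 6 n7592 = n4036 := d5_0 F11288 (iv D7594) D7592
def n7595 : Q := act 1 n3640
theorem D7595 : act 1 n3640 = n7595 := rfl
theorem F11291 : act 4 n7595 = n3651 := d8_2 (iv F5589) D7595 (iv D3651)
def n7596 : Q := act 3 n3640
theorem D7596 : act 3 n3640 = n7596 := rfl
theorem F11292 : act 0 n7596 = n3673 := d2_1 D7596 (iv D3673) (iv F5588)
theorem F11293 : act 2 n7596 = n7596 := d11_1 D7596 (iv D7596) (iv D3640) (iv D1757) F1560 D880 D1773 D3673 F5640 (iv D3673) (iv D1773) (iv D880) (iv F1560) D1757 D3640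
def n7597 : Q := act 5 n3640
theorem D7597 : act 5 n3640 = n7597 := rfl
theorem F11294 : act 0 n7597 = n3674 := d4_1 D7597 (iv D3674) (iv F5588)
theorem F11295 : act 2 n7597 = n3641 := d13_1 D7597 (iv D3641) D3640
theorem F11296 : act 4 n7597 = n3652 := d18_1 D7597 (iv D3652) (iv F5589)
def n7598 : Q := act 6 n3640
theorem D7598 : act 6 n3640 = n7598 := rfl
theorem F11297 : act 0 n7598 = n3675 := d5_1 D7598 (iv D3675) (iv F5588)
theorem F11298 : act 2 n7598 = n3642 := d14_1 D7598 (iv D3642) D3640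
theorem F11299 : act 4 n7598 = n3653 := d19_1 D7598 (iv D3653) (iv F5589)
def n7599 : Q := act 1 n3641
theorem D7599 : act 1 n3641 = n7599 := rfl
theorem F11300 : act 3 n7599 = n3643 := d7_2 (iv F5591) D7599 (iv D3643)
theorem F11301 : act 4 n7599 = n3654 := d8_2 (iv F5592) D7599 (iv D3654)
def n7600 : Q := act 1 n3642
theorem D7600 : act 1 n3642 = n7600 := rfl
theorem F11302 : act 3 n7600 = n3644 := d7_2 (iv F5594) D7600 (iv D3644)
theorem F11303 : act 4 n7600 = n3655 := d8_2 (iv F5595) D7600 (iv D3655)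
def n7601 : Q := act 0 n3643
theorem D7601 : act 0 n3643 = n7601 := rfl
theorem F11304 : act 4 n7601 = n3645 := d3_2 (iv F5596) D7601 (iv D3645)
def n7603 : Q := act 6 n3643
theorem D7603 : act 6 n3643 = n7603 := rfl
def n7604 : Q := act 0 n3644
theorem D7604 : act 0 n3644 = n7604 := rfl
theorem F11308 : act 4 n7604 = n3648 := d3_2 (iv F5597) D7604 (iv D3648)
def n7605 : Q := act 2 n3644
theorem D7605 : act 2 n3644 = n7605 := rfl
theorem F11309 : act 1 n7605 = n3685 := d6_1 D7605 (iv D3685) (iv D1778) (iv F2862) D3644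
theorem F11310 : act 4 n7605 = n3649 := d12_2 (iv F5597) D7605 (iv D3649)
def n7606 : Q := act 5 n3644
theorem D7606 : act 5 n3644 = n7606 := rfl
theorem F11311 : act 4 n7606 = n3650 := d18_1 D7606 (iv D3650) (iv F5597)
def n7609 : Q := act 6 n3645
theorem D7609 : act 6 n3645 = n7609 := rfl
theorem F11316 : act 5 n7609 = n7563 := d22_2 F5627 D7609 (iv D7563) (iv F5625)
def n7612 : Q := act 5 n3647
theorem D7612 : act 5 n3647 = n7612 := rfl
theorem F11321 : act 6 n7612 = n3664 := d20_2 D3647 D7612 F5627 D7609 F11316 (iv D7563) F5565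
def n7615 : Q := act 5 n3648
theorem D7615 : act 5 n3648 = n7615 := rfl
theorem F11324 : act 0 n7615 = n3650 := d4_1 D7615 (iv D3650) D3648
def n7616 : Q := act 3 n3649
theorem D7616 : act 3 n3649 = n7616 := rfl
theorem F11327 : act 1 n7616 = n3698 := d7_1 D7616 (iv D3698) (iv F5602)
def n7618 : Q := act 6 n3650
theorem D7618 : act 6 n3650 = n7618 := rfl
def n7619 : Q := act 0 n3651
theorem D7619 : act 0 n3651 = n7619 := rfl
def n7620 : Q := act 5 n3651
theorem D7620 : act 5 n3651 = n7620 := rfl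
def n7621 : Q := act 6 n3651
theorem D7621 : act 6 n3651 = n7621 := rfl
def n7622 : Q := act 1 n3652
theorem D7622 : act 1 n3652 = n7622 := rfl
def n7623 : Q := act 1 n3653
theorem D7623 : act 1 n3653 = n7623 := rfl
def n7624 : Q := act 0 n3654
theorem D7624 : act 0 n3654 = n7624 := rfl
theorem F11332 : act 3 n7624 = n3656 := d2_2 (iv F5608) D7624 (iv D3656)
def n7625 : Q := act 2 n3654
theorem D7625 : act 2 n3654 = n7625 := rfl
def n7626 : Q := act 6 n3654
theorem D7626 : act 6 n3654 = n7626 := rfl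
def n7627 : Q := act 0 n3655
theorem D7627 : act 0 n3655 = n7627 := rfl
theorem F11334 : act 3 n7627 = n3659 := d2_2 (iv F5609) D7627 (iv D3659)
def n7628 : Q := act 2 n3655
theorem D7628 : act 2 n3655 = n7628 := rfl
def n7629 : Q := act 5 n3655
theorem D7629 : act 5 n3655 = n7629 := rfl
theorem F11335 : act 3 n7629 = n3661 := d16_1 D7629 (iv D3661) (iv F5609)
def n7630 : Q := act 1 n3656
theorem D7630 : act 1 n3656 = n7630 := rfl
theorem F11336 : act 2 n7630 = n7544 := d6_2 F5611 D7630 (iv D7544) F5547 D3630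
theorem F11337 : act 4 n7630 = n3662 := d8_2 (iv F5610) D7630 (iv D3662)
def n7631 : Q := act 6 n3656
theorem D7631 : act 6 n3656 = n7631 := rfl
theorem F11341 : act 5 n7631 = n7577 := d22_2 F5615 D7631 (iv D7577) (iv F5612)
def n7633 : Q := act 6 n3657
theorem D7633 : act 6 n3657 = n7633 := rfl
theorem F11348 : act 5 n7633 = n3658 := d20_1 D7633 (iv D3658) (iv F5578) D7577 (iv F11341) (iv D7631) (iv F5615)
def n7635 : Q := act 2 n3659
theorem D7635 : act 2 n3659 = n7635 := rfl
theorem F11351 : act 4 n7635 = n3667 := d12_2 (iv F5617) D7635 (iv D3667)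
def n7636 : Q := act 5 n3659
theorem D7636 : act 5 n3659 = n7636 := rfl
theorem F11352 : act 0 n7636 = n3661 := d4_1 D7636 (iv D3661) D3659
def n7638 : Q := act 5 n3660
theorem D7638 : act 5 n3660 = n7638 := rfl
theorem F11356 : act 2 n7638 = n3661 := d13_1 D7638 (iv D3661) D3660
def n7639 : Q := act 6 n3661
theorem D7639 : act 6 n3661 = n7639 := rfl
def n7640 : Q := act 0 n3662
theorem D7640 : act 0 n3662 = n7640 := rfl
theorem F11361 : act 1 n7640 = n3739 := d0_2 D3662 D7640 (iv D3739) (iv D1804) (iv D894) (iv D453) (iv F866) D878 D1767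
theorem F11363 : act 5 n7640 = n6671 := d4_2 F6358 D7640 F10034
def n7641 : Q := act 6 n3662
theorem D7641 : act 6 n3662 = n7641 := rfl
def n7642 : Q := act 1 n3663
theorem D7642 : act 1 n3663 = n7642 := rfl
theorem F11365 : act 5 n4081 = n7642 := d24_1 D4081 (iv D7642) (iv D3663) F2874 F2873 D2060 D4295 (iv F10414) (iv D6937) (iv F6197) (iv D4090) F3122 F3113 D1953
def n7645 : Q := act 1 n3665
theorem D7645 : act 1 n3665 = n7645 := rfl
theorem F11371 : act 6 n7645 = n4294 := d10_2 D3665 D7645 (iv D4294) (iv D2060) (iv F2873)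
def n7646 : Q := act 0 n3666
theorem D7646 : act 0 n3666 = n7646 := rfl
theorem F11372 : act 1 n7646 = n3758 := d0_2 D3666 D7646 (iv D3758) (iv D1812) (iv D898) (iv D455) (iv F868) D879 D1770
def n7652 : Q := act 5 n3667
theorem D7652 : act 5 n3667 = n7652 := rfl
theorem F11375 : act 2 n7652 = n3668 := d13_1 D7652 (iv D3668) D3667
def n7653 : Q := act 1 n3668
theorem D7653 : act 1 n3668 = n7653 := rfl
def n7657 : Q := act 1 n3670
theorem D7657 : act 1 n3670 = n7657 := rfl
theorem F11379 : act 5 n7657 = n4303 := d9_2 D3670 D7657 (iv D4303) (iv D2066) (iv F2877)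
def n7660 : Q := act 0 n3672
theorem D7660 : act 0 n3672 = n7660 := rfl
theorem F11383 : act 2 n7660 = n3826 := d1_2 (iv F5638) D7660 (iv D3826)
theorem F11384 : act 4 n7660 = n3704 := d3_2 (iv F5639) D7660 (iv D3704)
def n7661 : Q := act 3 n3672
theorem D7661 : act 3 n3672 = n7661 := rfl
theorem F11385 : act 1 n7661 = n3673 := d7_1 D7661 (iv D3673) D3672
def n7662 : Q := act 5 n3672
theorem D7662 : act 5 n3672 = n7662 := rfl
theorem F11386 : act 2 n7662 = n3828 := d13_1 D7662 (iv D3828) (iv F5638)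
theorem F11387 : act 4 n7662 = n3706 := d18_1 D7662 (iv D3706) (iv F5639)
def n7663 : Q := act 6 n3672
theorem D7663 : act 6 n3672 = n7663 := rfl
theorem F11388 : act 2 n7663 = n3829 := d14_1 D7663 (iv D3829) (iv F5638)
theorem F11389 : act 4 n7663 = n3707 := d19_1 D7663 (iv D3707) (iv F5639)
def n7664 : Q := act 4 n3673
theorem D7664 : act 4 n3673 = n7664 := rfl
theorem F11390 : act 2 n7664 = n7664 := d12_1 D7664 (iv D7664) F5640
theorem F11391 : act 3 n7664 = n3708 := d15_1 D7664 (iv D3708) (iv D1789) (iv F2878) D3673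
def n7665 : Q := act 5 n3673
theorem D7665 : act 5 n3673 = n7665 := rfl
theorem F11392 : act 2 n7665 = n7665 := d13_1 D7665 (iv D7665) F5640
theorem F11393 : act 3 n7665 = n3674 := d16_1 D7665 (iv D3674) D3673
def n7666 : Q := act 6 n3673
theorem D7666 : act 6 n3673 = n7666 := rfl
theorem F11394 : act 2 n7666 = n7666 := d14_1 D7666 (iv D7666) F5640
theorem F11395 : act 3 n7666 = n3675 := d17_1 D7666 (iv D3675) D3673
def n7667 : Q := act 1 n3674
theorem D7667 : act 1 n3674 = n7667 := rfl
theorem F11396 : act 4 n7667 = n3711 := d8_2 (iv F5642) D7667 (iv D3711)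
def n7668 : Q := act 6 n3674
theorem D7668 : act 6 n3674 = n7668 := rfl
theorem F11397 : act 2 n7668 = n3677 := d14_1 D7668 (iv D3677) (iv F5641)
theorem F11398 : act 4 n7668 = n3712 := d19_1 D7668 (iv D3712) (iv F5642)
theorem F11399 : act 5 n7668 = n7598 := d22_2 D3674 D7668 (iv D7598) F5588
def n7669 : Q := act 1 n3675
theorem D7669 : act 1 n3675 = n7669 := rfl
theorem F11400 : act 4 n7669 = n3713 := d8_2 (iv F5644) D7669 (iv D3713)
def n7670 : Q := act 5 n3675
theorem D7670 : act 5 n3675 = n7670 := rfl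
theorem F11401 : act 0 n7670 = n7668 := d4_1 D7670 F11399 F11297
theorem F11402 : act 2 n7670 = n3679 := d13_1 D7670 (iv D3679) (iv F5643)
theorem F11403 : act 4 n7670 = n3714 := d18_1 D7670 (iv D3714) (iv F5644)
theorem F11404 : act 6 n7670 = n7597 := d20_2 D3675 D7670 (iv D7597) D7598 (iv F11399) (iv D7668) (iv D3674)
def n7671 : Q := act 0 n3676
theorem D7671 : act 0 n3676 = n7671 := rfl
theorem F11405 : act 3 n7671 = n3680 := d2_2 (iv F5645) D7671 (iv D3680)
theorem F11406 : act 4 n7671 = n3715 := d3_2 (iv F5646) D7671 (iv D3715)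
theorem F11407 : act 5 n7671 = n3836 := d4_2 (iv F5647) D7671 (iv D3836)
def n7672 : Q := act 2 n3676
theorem D7672 : act 2 n3676 = n7672 := rfl
theorem F11408 : act 4 n7672 = n3716 := d12_2 (iv F5646) D7672 (iv D3716)
theorem F11409 : act 5 n7672 = n3837 := d13_2 (iv F5647) D7672 (iv D3837)
def n7673 : Q := act 6 n3676
theorem D7673 : act 6 n3676 = n7673 := rfl
theorem F11410 : act 3 n7673 = n3682 := d17_1 D7673 (iv D3682) (iv F5645)
theorem F11411 : act 4 n7673 = n3717 := d19_1 D7673 (iv D3717) (iv F5646)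
def n7674 : Q := act 1 n3677
theorem D7674 : act 1 n3677 = n7674 := rfl
theorem F11412 : act 3 n7674 = n3683 := d7_2 (iv F5648) D7674 (iv D3683)
theorem F11413 : act 4 n7674 = n3718 := d8_2 (iv F5649) D7674 (iv D3718)
def n7675 : Q := act 0 n3678
theorem D7675 : act 0 n3678 = n7675 := rfl
theorem F11414 : act 3 n7675 = n3684 := d2_2 (iv F5651) D7675 (iv D3684)
theorem F11415 : act 4 n7675 = n3719 := d3_2 (iv F5652) D7675 (iv D3719)
theorem F11416 : act 6 n7675 = n3840 := d5_2 (iv F5653) D7675 (iv D3840)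
def n7676 : Q := act 2 n3678
theorem D7676 : act 2 n3678 = n7676 := rfl
theorem F11417 : act 4 n7676 = n3720 := d12_2 (iv F5652) D7676 (iv D3720)
theorem F11418 : act 6 n7676 = n3841 := d14_2 (iv F5653) D7676 (iv D3841)
def n7677 : Q := act 5 n3678
theorem D7677 : act 5 n3678 = n7677 := rfl
theorem F11419 : act 3 n7677 = n3686 := d16_1 D7677 (iv D3686) (iv F5651)
theorem F11420 : act 4 n7677 = n3721 := d18_1 D7677 (iv D3721) (iv F5652)
def n7678 : Q := act 1 n3679
theorem D7678 : act 1 n3679 = n7678 := rfl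
theorem F11421 : act 3 n7678 = n3687 := d7_2 (iv F5655) D7678 (iv D3687)
theorem F11422 : act 4 n7678 = n3722 := d8_2 (iv F5656) D7678 (iv D3722)
def n7680 : Q := act 2 n3680
theorem D7680 : act 2 n3680 = n7680 := rfl
theorem F11424 : act 0 n7680 = n3681 := d1_1 D7680 (iv D3681) D3680
theorem F11425 : act 4 n7680 = n3689 := d12_2 (iv F5658) D7680 (iv D3689)
theorem F11426 : act 5 n7680 = n3845 := d13_2 (iv F5659) D7680 (iv D3845)
def n7681 : Q := act 3 n3681
theorem D7681 : act 3 n3681 = n7681 := rfl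
theorem F11427 : act 5 n7681 = n3847 := d16_2 (iv F5661) D7681 (iv D3847)
def n7682 : Q := act 6 n3681
theorem D7682 : act 6 n3681 = n7682 := rfl
theorem F11428 : act 2 n7682 = n3682 := d14_1 D7682 (iv D3682) D3681
def n7683 : Q := act 1 n3682
theorem D7683 : act 1 n3682 = n7683 := rfl
theorem F11430 : act 4 n7683 = n3692 := d8_2 (iv F5662) D7683 (iv D3692)
theorem F11431 : act 6 n7683 = n3683 := d10_2 D3682 D7683 (iv D3683) (iv D1777) D1776
def n7685 : Q := act 2 n3683
theorem D7685 : act 2 n3683 = n7685 := rfl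
def n7688 : Q := act 2 n3684
theorem D7688 : act 2 n3684 = n7688 := rfl
theorem F11438 : act 4 n7688 = n3697 := d12_2 (iv F5664) D7688 (iv D3697)
theorem F11439 : act 6 n7688 = n3855 := d14_2 (iv F5665) D7688 (iv D3855)
def n7689 : Q := act 3 n3685
theorem D7689 : act 3 n3685 = n7689 := rfl
theorem F11440 : act 6 n7689 = n3857 := d17_2 (iv F5667) D7689 (iv D3857)
def n7690 : Q := act 5 n3685
theorem D7690 : act 5 n3685 = n7690 := rfl
theorem F11441 : act 2 n7690 = n3686 := d13_1 D7690 (iv D3686) D3685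
def n7691 : Q := act 1 n3686
theorem D7691 : act 1 n3686 = n7691 := rfl
theorem F11443 : act 4 n7691 = n3700 := d8_2 (iv F5668) D7691 (iv D3700)
theorem F11444 : act 5 n7691 = n3687 := d9_2 D3686 D7691 (iv D3687) (iv D1779) D1778
def n7692 : Q := act 0 n3687
theorem D7692 : act 0 n3687 = n7692 := rfl
def n7693 : Q := act 2 n3687
theorem D7693 : act 2 n3687 = n7693 := rfl
def n7694 : Q := act 6 n3687
theorem D7694 : act 6 n3687 = n7694 := rfl
theorem F11448 : act 1 n7694 = n7603 := d10_1 D7694 (iv D7603) (iv D3643) (iv F2892) D3687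
def n7700 : Q := act 3 n3689
theorem D7700 : act 3 n3689 = n7700 := rfl
def n7701 : Q := act 2 n3690
theorem D7701 : act 2 n3690 = n7701 := rfl
def n7705 : Q := act 0 n3692
theorem D7705 : act 0 n3692 = n7705 := rfl
theorem F11459 : act 3 n7705 = n3749 := d2_2 (iv F5675) D7705 (iv D3749)
theorem F11460 : act 6 n7705 = n3693 := d5_2 (iv F5676) D7705 (iv D3693)
def n7706 : Q := act 2 n3692
theorem D7706 : act 2 n3692 = n7706 := rfl
theorem F11461 : act 6 n7706 = n3694 := d14_2 (iv F5676) D7706 (iv D3694)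
def n7707 : Q := act 5 n3692
theorem D7707 : act 5 n3692 = n7707 := rfl
theorem F11462 : act 3 n7707 = n3751 := d16_1 D7707 (iv D3751) (iv F5675)
def n7710 : Q := act 5 n3693
theorem D7710 : act 5 n3693 = n7710 := rfl
theorem F11467 : act 6 n7710 = n7707 := d22_1 D7710 (iv D7707) F5676 D3693
def n7713 : Q := act 6 n3695
theorem D7713 : act 6 n3695 = n7713 := rfl
theorem F11471 : act 5 n7713 = n7705 := d20_1 D7713 F11460 D7710 F11467 (iv D7707) F5676 D3695
def n7716 : Q := act 5 n3696
theorem D7716 : act 5 n3696 = n7716 := rfl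
theorem F11473 : act 3 n7716 = n3760 := d16_1 D7716 (iv D3760) (iv F5680)
def n7719 : Q := act 3 n3697
theorem D7719 : act 3 n3697 = n7719 := rfl
def n7720 : Q := act 2 n3698
theorem D7720 : act 2 n3698 = n7720 := rfl
def n7725 : Q := act 2 n3700
theorem D7725 : act 2 n3700 = n7725 := rfl
def n7733 : Q := act 1 n3704
theorem D7733 : act 1 n3704 = n7733 := rfl
def n7734 : Q := act 3 n3704
theorem D7734 : act 3 n3704 = n7734 := rfl
theorem F11496 : act 0 n7734 = n3705 := d2_1 D7734 (iv D3705) D3704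
def n7735 : Q := act 5 n3704
theorem D7735 : act 5 n3704 = n7735 := rfl
theorem F11497 : act 0 n7735 = n3706 := d4_1 D7735 (iv D3706) D3704
theorem F11498 : act 2 n7735 = n3911 := d13_1 D7735 (iv D3911) (iv F5691)
def n7736 : Q := act 6 n3704
theorem D7736 : act 6 n3704 = n7736 := rfl
theorem F11499 : act 0 n7736 = n3707 := d5_1 D7736 (iv D3707) D3704
theorem F11500 : act 2 n7736 = n3912 := d14_1 D7736 (iv D3912) (iv F5691)
def n7737 : Q := act 2 n3705
theorem D7737 : act 2 n3705 = n7737 := rfl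
def n7738 : Q := act 4 n3705
theorem D7738 : act 4 n3705 = n7738 := rfl
theorem F11501 : act 1 n7738 = n3708 := d8_1 D7738 (iv D3708) (iv F5692)
def n7739 : Q := act 5 n3705
theorem D7739 : act 5 n3705 = n7739 := rfl
theorem F11502 : act 3 n7739 = n3706 := d16_1 D7739 (iv D3706) D3705
def n7740 : Q := act 6 n3705
theorem D7740 : act 6 n3705 = n7740 := rfl
theorem F11503 : act 3 n7740 = n3707 := d17_1 D7740 (iv D3707) D3705
def n7741 : Q := act 1 n3706
theorem D7741 : act 1 n3706 = n7741 := rfl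
theorem F11504 : act 5 n7741 = n3711 := d9_2 D3706 D7741 (iv D3711) (iv D1790) D1788
def n7742 : Q := act 6 n3706
theorem D7742 : act 6 n3706 = n7742 := rfl
theorem F11505 : act 2 n7742 = n3914 := d14_1 D7742 (iv D3914) (iv F5693)
theorem F11506 : act 5 n7742 = n7736 := d22_2 D3706 D7742 (iv D7736) (iv D3704)
def n7743 : Q := act 1 n3707
theorem D7743 : act 1 n3707 = n7743 := rfl
theorem F11507 : act 6 n7743 = n3713 := d10_2 D3707 D7743 (iv D3713) (iv D1791) D1788
def n7744 : Q := act 5 n3707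
theorem D7744 : act 5 n3707 = n7744 := rfl
theorem F11508 : act 0 n7744 = n7742 := d4_1 D7744 F11506 F11499
theorem F11509 : act 2 n7744 = n3916 := d13_1 D7744 (iv D3916) (iv F5694)
theorem F11510 : act 6 n7744 = n7735 := d20_2 D3707 D7744 (iv D7735) D7736 (iv F11506) (iv D7742) (iv D3706)
def n7745 : Q := act 5 n3708
theorem D7745 : act 5 n3708 = n7745 := rfl
theorem F11511 : act 4 n7745 = n3709 := d18_1 D7745 (iv D3709) D3708
def n7746 : Q := act 6 n3708
theorem D7746 : act 6 n3708 = n7746 := rfl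
theorem F11512 : act 4 n7746 = n3710 := d19_1 D7746 (iv D3710) D3708
def n7747 : Q := act 1 n3709
theorem D7747 : act 1 n3709 = n7747 := rfl
theorem F11513 : act 3 n7747 = n3711 := d7_2 (iv F5695) D7747 (iv D3711)
def n7748 : Q := act 6 n3709
theorem D7748 : act 6 n3709 = n7748 := rfl
theorem F11514 : act 2 n7748 = n4394 := d14_1 D7748 F6712 F6502
theorem F11515 : act 3 n7748 = n3712 := d17_1 D7748 (iv D3712) (iv F5695)
theorem F11516 : act 5 n7748 = n4388 := d22_2 D3709 D7748 (iv D4388) F3347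
def n7749 : Q := act 1 n3710
theorem D7749 : act 1 n3710 = n7749 := rfl
theorem F11517 : act 3 n7749 = n3713 := d7_2 (iv F5696) D7749 (iv D3713)
def n7750 : Q := act 5 n3710
theorem D7750 : act 5 n3710 = n7750 := rfl
theorem F11518 : act 0 n7750 = n7748 := d4_1 D7750 F11516 F6701
theorem F11519 : act 2 n7750 = n4392 := d13_1 D7750 F6708 F6505
theorem F11520 : act 3 n7750 = n3714 := d16_1 D7750 (iv D3714) (iv F5696)
theorem F11521 : act 6 n7750 = n4387 := d20_2 D3710 D7750 (iv D4387) D4388 (iv F11516) (iv D7748) (iv D3709)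
def n7751 : Q := act 0 n3711
theorem D7751 : act 0 n3711 = n7751 := rfl
def n7752 : Q := act 2 n3711
theorem D7752 : act 2 n3711 = n7752 := rfl
theorem F11522 : act 1 n7752 = n3716 := d6_1 D7752 (iv D3716) (iv D1792) (iv F2904) D3711
def n7753 : Q := act 6 n3711
theorem D7753 : act 6 n3711 = n7753 := rfl
def n7754 : Q := act 1 n3712
theorem D7754 : act 1 n3712 = n7754 := rfl
def n7755 : Q := act 0 n3713
theorem D7755 : act 0 n3713 = n7755 := rfl
def n7756 : Q := act 2 n3713
theorem D7756 : act 2 n3713 = n7756 := rfl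
theorem F11523 : act 1 n7756 = n3720 := d6_1 D7756 (iv D3720) (iv D1794) (iv F2905) D3713
def n7757 : Q := act 5 n3713
theorem D7757 : act 5 n3713 = n7757 := rfl
def n7758 : Q := act 1 n3714
theorem D7758 : act 1 n3714 = n7758 := rfl
def n7759 : Q := act 1 n3715
theorem D7759 : act 1 n3715 = n7759 := rfl
theorem F11524 : act 3 n7759 = n3723 := d7_2 (iv F5702) D7759 (iv D3723)
def n7760 : Q := act 2 n3715
theorem D7760 : act 2 n3715 = n7760 := rfl
theorem F11525 : act 0 n7760 = n3716 := d1_1 D7760 (iv D3716) D3715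
theorem F11526 : act 5 n7760 = n3926 := d13_2 (iv F5703) D7760 (iv D3926)
def n7761 : Q := act 3 n3716
theorem D7761 : act 3 n3716 = n7761 := rfl
theorem F11527 : act 5 n7761 = n3928 := d16_2 (iv F5704) D7761 (iv D3928)
def n7762 : Q := act 6 n3716
theorem D7762 : act 6 n3716 = n7762 := rfl
theorem F11528 : act 2 n7762 = n3717 := d14_1 D7762 (iv D3717) D3716
def n7763 : Q := act 1 n3717
theorem D7763 : act 1 n3717 = n7763 := rfl
theorem F11529 : act 3 n7763 = n3727 := d7_2 (iv F5705) D7763 (iv D3727)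
theorem F11530 : act 6 n7763 = n3718 := d10_2 D3717 D7763 (iv D3718) (iv D1793) D1792
def n7765 : Q := act 2 n3718
theorem D7765 : act 2 n3718 = n7765 := rfl
def n7767 : Q := act 1 n3719
theorem D7767 : act 1 n3719 = n7767 := rfl
theorem F11534 : act 3 n7767 = n3731 := d7_2 (iv F5707) D7767 (iv D3731)
def n7768 : Q := act 2 n3719
theorem D7768 : act 2 n3719 = n7768 := rfl
theorem F11535 : act 0 n7768 = n3720 := d1_1 D7768 (iv D3720) D3719
theorem F11536 : act 6 n7768 = n3936 := d14_2 (iv F5708) D7768 (iv D3936)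
def n7769 : Q := act 3 n3720
theorem D7769 : act 3 n3720 = n7769 := rfl
theorem F11537 : act 6 n7769 = n3938 := d17_2 (iv F5709) D7769 (iv D3938)
def n7770 : Q := act 5 n3720
theorem D7770 : act 5 n3720 = n7770 := rfl
theorem F11538 : act 2 n7770 = n3721 := d13_1 D7770 (iv D3721) D3720
def n7771 : Q := act 1 n3721
theorem D7771 : act 1 n3721 = n7771 := rfl
theorem F11539 : act 3 n7771 = n3735 := d7_2 (iv F5710) D7771 (iv D3735)
theorem F11540 : act 5 n7771 = n3722 := d9_2 D3721 D7771 (iv D3722) (iv D1795) D1794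
def n7772 : Q := act 0 n3722
theorem D7772 : act 0 n3722 = n7772 := rfl
def n7773 : Q := act 2 n3722
theorem D7773 : act 2 n3722 = n7773 := rfl
def n7774 : Q := act 6 n3722
theorem D7774 : act 6 n3722 = n7774 := rfl
theorem F11542 : act 1 n7774 = n7626 := d10_1 D7774 (iv D7626) (iv D3654) (iv F2914) D3722
def n7777 : Q := act 5 n3723
theorem D7777 : act 5 n3723 = n7777 := rfl
theorem F11547 : act 1 n7777 = n3946 := d9_1 D7777 F7520 (iv D1893) (iv F2916) D3723
def n7779 : Q := act 1 n3724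
theorem D7779 : act 1 n3724 = n7779 := rfl
theorem F11551 : act 0 n7779 = n7779 := d0_1 D7779 (iv D7779) F5713 F2917 (iv F3368) F3369 F3368 (iv F2917) (iv F5713)
theorem F11552 : act 4 n7779 = n3743 := d8_2 (iv F5714) D7779 (iv D3743)
def n7780 : Q := act 3 n3724
theorem D7780 : act 3 n3724 = n7780 := rfl
theorem F11553 : act 0 n7780 = n3725 := d2_1 D7780 (iv D3725) (iv F5713)
theorem F11554 : act 5 n7780 = n3950 := d16_2 (iv F5715) D7780 (iv D3950)
def n7781 : Q := act 2 n3725
theorem D7781 : act 2 n3725 = n7781 := rfl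
theorem F11555 : act 5 n7781 = n3953 := d13_2 (iv F5717) D7781 (iv D3953)
def n7782 : Q := act 4 n3725
theorem D7782 : act 4 n3725 = n7782 := rfl
theorem F11556 : act 1 n7782 = n4423 := d8_1 D7782 (iv D4423) (iv F5716)
theorem F11557 : act 3 n7782 = n3746 := d15_1 D7782 (iv D3746) (iv D1806) (iv F2918) D3725
theorem F11558 : act 5 n7782 = n3954 := d18_2 (iv F5717) D7782 (iv D3954)
def n7783 : Q := act 6 n3725
theorem D7783 : act 6 n3725 = n7783 := rfl
theorem F11559 : act 3 n7783 = n3726 := d17_1 D7783 (iv D3726) D3725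
def n7784 : Q := act 1 n3726
theorem D7784 : act 1 n3726 = n7784 := rfl
theorem F11561 : act 6 n7784 = n4425 := d10_2 D3726 D7784 (iv D4425) (iv D2123) (iv F2917)
def n7785 : Q := act 0 n3727
theorem D7785 : act 0 n3727 = n7785 := rfl
theorem F11562 : act 4 n7785 = n3749 := d3_2 (iv F5720) D7785 (iv D3749)
theorem F11563 : act 6 n7785 = n3728 := d5_2 (iv F5721) D7785 (iv D3728)
def n7786 : Q := act 2 n3727
theorem D7786 : act 2 n3727 = n7786 := rfl
theorem F11565 : act 6 n7786 = n3729 := d14_2 (iv F5721) D7786 (iv D3729)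
def n7787 : Q := act 5 n3727
theorem D7787 : act 5 n3727 = n7787 := rfl
theorem F11566 : act 4 n7787 = n3751 := d18_1 D7787 (iv D3751) (iv F5720)
def n7790 : Q := act 5 n3728
theorem D7790 : act 5 n3728 = n7790 := rfl
theorem F11572 : act 6 n7790 = n7787 := d22_1 D7790 (iv D7787) F5721 D3728
def n7791 : Q := act 3 n3729
theorem D7791 : act 3 n3729 = n7791 := rfl
theorem F11573 : act 1 n7791 = n4431 := d7_1 D7791 (iv D4431) (iv F5723)
def n7792 : Q := act 5 n3729
theorem D7792 : act 5 n3729 = n7792 := rfl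
def n7793 : Q := act 6 n3730
theorem D7793 : act 6 n3730 = n7793 := rfl
theorem F11578 : act 5 n7793 = n7785 := d20_1 D7793 F11563 D7790 F11572 (iv D7787) F5721 D3730
def n7796 : Q := act 5 n3731
theorem D7796 : act 5 n3731 = n7796 := rfl
theorem F11582 : act 4 n7796 = n3760 := d18_1 D7796 (iv D3760) (iv F5727)
def n7798 : Q := act 1 n3732
theorem D7798 : act 1 n3732 = n7798 := rfl
theorem F11586 : act 4 n7798 = n3762 := d8_2 (iv F5729) D7798 (iv D3762)
def n7799 : Q := act 3 n3732
theorem D7799 : act 3 n3732 = n7799 := rfl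
theorem F11587 : act 0 n7799 = n3733 := d2_1 D7799 (iv D3733) (iv F5728)
theorem F11588 : act 6 n7799 = n3973 := d17_2 (iv F5730) D7799 (iv D3973)
def n7800 : Q := act 2 n3733
theorem D7800 : act 2 n3733 = n7800 := rfl
theorem F11589 : act 6 n7800 = n3976 := d14_2 (iv F5732) D7800 (iv D3976)
def n7801 : Q := act 4 n3733
theorem D7801 : act 4 n3733 = n7801 := rfl
theorem F11590 : act 1 n7801 = n4440 := d8_1 D7801 (iv D4440) (iv F5731)
theorem F11591 : act 3 n7801 = n3765 := d15_1 D7801 (iv D3765) (iv D1814) (iv F2925) D3733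
theorem F11592 : act 6 n7801 = n3977 := d19_2 (iv F5732) D7801 (iv D3977)
def n7802 : Q := act 5 n3733
theorem D7802 : act 5 n3733 = n7802 := rfl
theorem F11593 : act 3 n7802 = n3734 := d16_1 D7802 (iv D3734) D3733
def n7803 : Q := act 1 n3734
theorem D7803 : act 1 n3734 = n7803 := rfl
theorem F11594 : act 4 n7803 = n3767 := d8_2 (iv F5734) D7803 (iv D3767)
theorem F11595 : act 5 n7803 = n4442 := d9_2 D3734 D7803 (iv D4442) (iv D2131) (iv F2924)
theorem F11596 : act 6 n7803 = n5690 := d10_2 F6063 D7803 (iv D5690) D5693 (iv F8634)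
theorem F11597 : act 2 n5697 = n7803 := d14_3 F11596 F8627 D5697
def n7805 : Q := act 2 n3735
theorem D7805 : act 2 n3735 = n7805 := rfl
theorem F11600 : act 1 n7805 = n5697 := d6_1 D7805 F11597 (iv D7803) F5733 D3735
def n7808 : Q := act 2 n3736
theorem D7808 : act 2 n3736 = n7808 := rfl
theorem F11608 : act 0 n7808 = n3737 := d1_1 D7808 (iv D3737) D3736
def n7810 : Q := act 3 n3737
theorem D7810 : act 3 n3737 = n7810 := rfl
theorem F11613 : act 1 n7810 = n4448 := d7_1 D7810 (iv D4448) (iv F5738)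
def n7811 : Q := act 6 n3737
theorem D7811 : act 6 n3737 = n7811 := rfl
def n7813 : Q := act 2 n3739
theorem D7813 : act 2 n3739 = n7813 := rfl
theorem F11619 : act 0 n7813 = n3740 := d1_1 D7813 (iv D3740) D3739
theorem F11620 : act 5 n4001 = n7813 := d23_0 (iv D7813) (iv F11361) (iv D7640) (iv F6358) (iv D4189) (iv D2007) F1734 (iv D988) (iv D501) (iv D257) (iv D127) D130 (iv F471) D453 D894 F1601 D942 D1917 D4001
theorem F11621 : act 1 n7813 = n4933 := d9_1 F11620 (iv D4933) (iv D2375) D2377 (iv F6103)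
def n7814 : Q := act 5 n3739
theorem D7814 : act 5 n3739 = n7814 := rfl
theorem F11623 : act 1 n7814 = n6627 := d9_1 D7814 F9983 D6671 (iv F11363) F11361
theorem F11624 : act 2 n7814 = n4001 := d13_1 D7814 F11620 (iv D7813)
def n7815 : Q := act 6 n3739
theorem D7815 : act 6 n3739 = n7815 := rfl
theorem F11626 : act 1 n6947 = n7815 := d24_14 (iv D7815) D7814 F11623 (iv F10042) (iv D6676) (iv F5086) (iv D3279) (iv F5084) (iv D3276) (iv F2664) (iv D1622) D1620 D3343 D6947
def n7816 : Q := act 1 n3740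
theorem D7816 : act 1 n3740 = n7816 := rfl
theorem F11627 : act 2 n7816 = n3743 := d6_2 D3740 D7816 (iv D3743) (iv D1805) D1804
theorem F11628 : act 5 n7816 = n3743 := d9_2 (iv F7513) D7816 (iv D3743) F2930 D1917
def n7819 : Q := act 6 n3741
theorem D7819 : act 6 n3741 = n7819 := rfl
theorem F11633 : act 5 n7819 = n7815 := d22_2 D3741 D7819 (iv D7815) (iv D3739)
def n7820 : Q := act 5 n3742
theorem D7820 : act 5 n3742 = n7820 := rfl
theorem F11635 : act 6 n7820 = n7814 := d20_2 D3742 D7820 (iv D7814) D7815 (iv F11633) (iv D7819) (iv D3741)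
def n7821 : Q := act 3 n3743
theorem D7821 : act 3 n3743 = n7821 := rfl
theorem F11636 : act 0 n7821 = n7821 := d2_1 D7821 (iv D7821) F5743
theorem F11637 : act 1 n7821 = n3744 := d7_1 D7821 (iv D3744) D3743
def n7822 : Q := act 6 n3743
theorem D7822 : act 6 n3743 = n7822 := rfl
def n7823 : Q := act 2 n3744
theorem D7823 : act 2 n3744 = n7823 := rfl
theorem F11641 : act 3 n7823 = n7701 := d21_1 D7823 (iv D7701) (iv D3690) (iv D1781) F1578 D895 D1806 (iv F5744)
def n7824 : Q := act 4 n3744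
theorem D7824 : act 4 n3744 = n7824 := rfl
theorem F11642 : act 0 n7824 = n3746 := d3_1 D7824 (iv D3746) (iv F5744)
theorem F11643 : act 5 n7824 = n4006 := d18_2 (iv F5745) D7824 (iv D4006)
def n7826 : Q := act 3 n3745
theorem D7826 : act 3 n3745 = n7826 := rfl
theorem F11647 : act 2 n7826 = n7700 := d11_1 D7826 (iv D7700) (iv D3689) F2893 D1805 D3744 D7823 F11641 (iv D7701) (iv D3690) (iv D1781) F1578 D895 D1806 D3745
def n7827 : Q := act 4 n3745
theorem D7827 : act 4 n3745 = n7827 := rfl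
theorem F11649 : act 2 n7827 = n3746 := d12_1 D7827 (iv D3746) D3745
def n7829 : Q := act 6 n3746
theorem D7829 : act 6 n3746 = n7829 := rfl
def n7830 : Q := act 1 n3747
theorem D7830 : act 1 n3747 = n7830 := rfl
theorem F11653 : act 3 n7830 = n3748 := d7_2 (iv F5749) D7830 (iv D3748)
theorem F11654 : act 6 n7830 = n4458 := d10_2 D3747 D7830 (iv D4458) (iv D2141) (iv F2931)
def n7831 : Q := act 0 n3748
theorem D7831 : act 0 n3748 = n7831 := rfl
theorem F11656 : act 5 n7831 = n4968 := d22_0 F7584 (iv D4461) (iv F5750) D7831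
def n7832 : Q := act 2 n3748
theorem D7832 : act 2 n3748 = n7832 := rfl
theorem F11657 : act 1 n7832 = n3750 := d6_1 D7832 (iv D3750) (iv D1808) (iv F2933) D3748
theorem F11658 : act 6 n7832 = n4460 := d14_2 (iv F5750) D7832 (iv D4460)
def n7833 : Q := act 5 n3748
theorem D7833 : act 5 n3748 = n7833 := rfl
theorem F11659 : act 0 n7833 = n4968 := d4_1 D7833 (iv F11656) (iv D7831)
def n7834 : Q := act 1 n3749
theorem D7834 : act 1 n3749 = n7834 := rfl
def n7836 : Q := act 3 n3750
theorem D7836 : act 3 n3750 = n7836 := rfl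
theorem F11662 : act 6 n7836 = n3755 := d17_2 (iv F5752) D7836 (iv D3755)
def n7837 : Q := act 5 n3750
theorem D7837 : act 5 n3750 = n7837 := rfl
theorem F11663 : act 2 n7837 = n3751 := d13_1 D7837 (iv D3751) D3750
def n7840 : Q := act 6 n3752
theorem D7840 : act 6 n3752 = n7840 := rfl
theorem F11666 : act 5 n6956 = n7840 := d22_0 (iv D7840) F10436 (iv D6958) D6956
theorem F11667 : act 2 n7840 = n5869 := d23_1 F11666 (iv D5869) (iv D2837) F2281 F1290 (iv D593) (iv F943) F944 (iv D300) D299 F584 F586 D415 (iv F1457) (iv F2662) D3346 F5172 D3347 D6956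
def n7843 : Q := act 5 n3753
theorem D7843 : act 5 n3753 = n7843 := rfl
theorem F11671 : act 2 n7843 = n3754 := d13_1 D7843 (iv D3754) D3753
def n7844 : Q := act 2 n3755
theorem D7844 : act 2 n3755 = n7844 := rfl
def n7845 : Q := act 4 n3755
theorem D7845 : act 4 n3755 = n7845 := rfl
def n7846 : Q := act 5 n3755
theorem D7846 : act 5 n3755 = n7846 := rfl
def n7850 : Q := act 2 n3758
theorem D7850 : act 2 n3758 = n7850 := rfl
theorem F11681 : act 0 n7850 = n3759 := d1_1 D7850 (iv D3759) D3758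
theorem F11682 : act 6 n4052 = n7850 := d5_0 F11681 F6444 D4052
def n7851 : Q := act 5 n3758
theorem D7851 : act 5 n3758 = n7851 := rfl
theorem F11683 : act 0 n7851 = n3760 := d4_1 D7851 (iv D3760) D3758
def n7852 : Q := act 6 n3758
theorem D7852 : act 6 n3758 = n7852 := rfl
theorem F11684 : act 0 n7852 = n3761 := d5_1 D7852 (iv D3761) D3758
def n7853 : Q := act 1 n3759
theorem D7853 : act 1 n3759 = n7853 := rfl
theorem F11686 : act 2 n7853 = n3762 := d6_2 D3759 D7853 (iv D3762) (iv D1813) D1812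
theorem F11687 : act 6 n7853 = n3762 := d10_2 (iv F6444) D7853 (iv D3762) F2938 D1940
def n7855 : Q := act 5 n3759
theorem D7855 : act 5 n3759 = n7855 := rfl
def n7856 : Q := act 6 n3760
theorem D7856 : act 6 n3760 = n7856 := rfl
theorem F11690 : act 5 n7856 = n7852 := d22_2 D3760 D7856 (iv D7852) (iv D3758)
def n7857 : Q := act 5 n3761
theorem D7857 : act 5 n3761 = n7857 := rfl
theorem F11691 : act 0 n7857 = n7856 := d4_1 D7857 F11690 F11684
theorem F11692 : act 1 n7857 = n4290 := d9_1 D7857 F6544 (iv F6435) (iv D4047) (iv F6439)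
theorem F11693 : act 2 n7857 = n4054 := d13_1 D7857 (iv D4054) (iv F6440)
theorem F11694 : act 6 n7857 = n7851 := d20_2 D3761 D7857 (iv D7851) D7852 (iv F11690) (iv D7856) (iv D3760)
theorem F11695 : act 1 n7851 = n6915 := d10_1 F11694 (iv D6915) F5158 D4290 (iv F11692)
theorem F11696 : act 1 n5806 = n4000 := d24_8 (iv F11694) (iv D7857) F6439 (iv F6441) D1938 D4049 (iv F6446) (iv F8839) (iv F7517) F7516 (iv F5157) D6910 (iv F10388) (iv F11695)
theorem F11697 : act 1 n3993 = n4236 := d6_3 D5806 F11696 (iv F7523) F6450 (iv F4396)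
theorem F11698 : act 1 n4299 = n6910 := d10_3 D3993 F11697 (iv F6554) (iv D6910) F5157
theorem E24 : n7646 = n2063 := (c9_6 D4299 F11698 (iv F10388) (iv F11695) (iv D7851) (iv F11372))
theorem E25 : n3666 = n1014 := (((F3280).symm.trans (sb E24 (iv D7646)))).symm
theorem E26 : n4297 = n3758 := ((D4297).symm.trans (sb E24 F11372))
theorem E27 : n1771 = n1770 := (((iv F2877)).symm.trans (sb E25 (iv D3666)))
theorem F11699 : act 1 n3758 = n2063 := (sb E26 (iv D4297))
theorem E33 : n3667 = n879 := ((((iv D1770)).symm.trans (sb E27 (iv F5631)))).symm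
theorem F11700 : act 1 n1770 = n1014 := (sb E27 F2877)
theorem E35 : n3660 = n3659 := ((((iv F5617)).symm.trans (sb E27 (iv F5619)))).symm
theorem E36 : n3670 = n3668 := (((D3668).symm.trans (sb E27 D3670))).symm
theorem F11701 : act 2 n879 = n1770 := (sb E33 (iv D3667))
theorem E40 : n7635 = n1766 := ((((iv F2872)).symm.trans (sb E33 (iv F11351)))).symm
theorem E41 : n7652 = n1772 := (((D1772).symm.trans (sb E33 D7652))).symm
theorem E48 : n7638 = n7636 := (((D7636).symm.trans (sb E35 D7638))).symm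
theorem E50 : n7657 = n7653 := (((D7653).symm.trans (sb E36 D7657))).symm
theorem F11704 : act 2 n1766 = n3659 := (sb E40 (iv D7635))
theorem F11705 : act 2 n1772 = n3668 := (sb E41 F11375)
theorem F11709 : act 2 n7636 = n3661 := (sb E48 F11356)
theorem F11712 : act 5 n7653 = n4303 := (sb E50 F11379)
theorem F11719 : act 2 n7616 = n7616 := d21_2 D3649 D7616 (iv D7616) (iv D3649) F2865 F11701 (iv F5601) (iv D3648)
theorem F11720 : act 1 n7720 = n7720 := d6_3 F11719 F11327 D7720 (iv D7720) (iv F11327)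
theorem F11721 : act 1 n4296 = n7850 := d6_5 (iv D7850) F11699 (iv D2063) D2062 D4296
theorem F11722 : act 1 n6631 = n7852 := d10_5 (iv D7852) F11699 (iv F6448) F10202 (iv F9985)
def n7858 : Q := act 0 n3762
theorem D7858 : act 0 n3762 = n7858 := rfl
def n7859 : Q := act 3 n3762
theorem D7859 : act 3 n3762 = n7859 := rfl
theorem F11723 : act 1 n7859 = n3763 := d7_1 D7859 (iv D3763) D3762
def n7860 : Q := act 5 n3762
theorem D7860 : act 5 n3762 = n7860 := rfl
def n7861 : Q := act 2 n3763
theorem D7861 : act 2 n3763 = n7861 := rfl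
theorem F11725 : act 6 n7861 = n4056 := d14_2 (iv F5762) D7861 (iv D4056)
theorem F11726 : act 3 n7861 = n7720 := d21_1 D7861 (iv D7720) (iv D3698) (iv D1785) F1582 D899 D1814 (iv F5761)
theorem F11727 : act 1 n7861 = n7861 := d7_3 F11726 F11720 (iv F11726)
theorem F11728 : act 2 n7859 = n7859 := d6_4 D7861 F11727 (iv D7861) (iv F11723) F11723
def n7862 : Q := act 4 n3763
theorem D7862 : act 4 n3763 = n7862 := rfl
theorem F11729 : act 0 n7862 = n3765 := d3_1 D7862 (iv D3765) (iv F5761)
theorem F11730 : act 6 n7862 = n4057 := d19_2 (iv F5762) D7862 (iv D4057)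
def n7864 : Q := act 3 n3764
theorem D7864 : act 3 n3764 = n7864 := rfl
theorem F11733 : act 2 n7864 = n7719 := d11_1 D7864 (iv D7719) (iv D3697) F2898 D1813 D3763 D7861 F11726 (iv D7720) (iv D3698) (iv D1785) F1582 D899 D1814 D3764
def n7865 : Q := act 4 n3764
theorem D7865 : act 4 n3764 = n7865 := rfl
theorem F11735 : act 2 n7865 = n3765 := d12_1 D7865 (iv D3765) D3764
def n7867 : Q := act 5 n3765
theorem D7867 : act 5 n3765 = n7867 := rfl
def n7868 : Q := act 1 n3766
theorem D7868 : act 1 n3766 = n7868 := rfl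
theorem F11739 : act 3 n7868 = n3767 := d7_2 (iv F5766) D7868 (iv D3767)
theorem F11740 : act 5 n7868 = n4488 := d9_2 D3766 D7868 (iv D4488) (iv D2159) (iv F2939)
theorem F11741 : act 6 n7868 = n5826 := d10_2 F6160 D7868 F8873 D5831 (iv F8880)
def n7871 : Q := act 2 n3768
theorem D7871 : act 2 n3768 = n7871 := rfl
theorem F11745 : act 0 n7871 = n3769 := d1_1 D7871 (iv D3769) D3768
theorem F11746 : act 5 n7871 = n3772 := d13_2 (iv F5770) D7871 (iv D3772)
def n7877 : Q := act 3 n3772
theorem D7877 : act 3 n3772 = n7877 := rfl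
theorem F11755 : act 0 n7877 = n3774 := d2_1 D7877 (iv D3774) (iv F5776)
def n7878 : Q := act 2 n3774
theorem D7878 : act 2 n3774 = n7878 := rfl
def n7879 : Q := act 4 n3774
theorem D7879 : act 4 n3774 = n7879 := rfl
theorem F11756 : act 1 n7879 = n4499 := d8_1 D7879 (iv D4499) (iv F5779)
def n7880 : Q := act 6 n3774
theorem D7880 : act 6 n3774 = n7880 := rfl
def n7882 : Q := act 1 n3776
theorem D7882 : act 1 n3776 = n7882 := rfl
theorem F11760 : act 5 n7882 = n7645 := d9_2 D3776 D7882 (iv D7645) F5630 (iv F2944)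
def n7958 : Q := act 3 n3809
theorem D7958 : act 3 n3809 = n7958 := rfl
theorem F11880 : act 1 n7958 = n3847 := d7_1 D7958 (iv D3847) (iv F5835)
def n7964 : Q := act 3 n3812
theorem D7964 : act 3 n3812 = n7964 := rfl
theorem F11892 : act 1 n7964 = n3857 := d7_1 D7964 (iv D3857) (iv F5839)
def n7976 : Q := act 4 n3817
theorem D7976 : act 4 n3817 = n7976 := rfl
theorem F11907 : act 1 n7976 = n3873 := d8_1 D7976 (iv D3873) (iv F5847)
def n7995 : Q := act 1 n3826
theorem D7995 : act 1 n3826 = n7995 := rfl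
theorem F11933 : act 4 n7995 = n3910 := d8_2 (iv F5862) D7995 (iv D3910)
def n7996 : Q := act 3 n3826
theorem D7996 : act 3 n3826 = n7996 := rfl
theorem F11934 : act 0 n7996 = n3827 := d2_1 D7996 (iv D3827) D3826
def n7997 : Q := act 5 n3826
theorem D7997 : act 5 n3826 = n7997 := rfl
theorem F11935 : act 0 n7997 = n3828 := d4_1 D7997 (iv D3828) D3826
theorem F11936 : act 4 n7997 = n3911 := d18_1 D7997 (iv D3911) (iv F5862)
def n7998 : Q := act 6 n3826
theorem D7998 : act 6 n3826 = n7998 := rfl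
theorem F11937 : act 0 n7998 = n3829 := d5_1 D7998 (iv D3829) D3826
theorem F11938 : act 4 n7998 = n3912 := d19_1 D7998 (iv D3912) (iv F5862)
def n7999 : Q := act 2 n3827
theorem D7999 : act 2 n3827 = n7999 := rfl
def n8000 : Q := act 5 n3827
theorem D8000 : act 5 n3827 = n8000 := rfl
theorem F11939 : act 3 n8000 = n3828 := d16_1 D8000 (iv D3828) D3827
def n8001 : Q := act 6 n3827
theorem D8001 : act 6 n3827 = n8001 := rfl
theorem F11940 : act 3 n8001 = n3829 := d17_1 D8001 (iv D3829) D3827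
def n8002 : Q := act 1 n3828
theorem D8002 : act 1 n3828 = n8002 := rfl
theorem F11941 : act 4 n8002 = n3913 := d8_2 (iv F5864) D8002 (iv D3913)
theorem F11942 : act 5 n8002 = n3832 := d9_2 D3828 D8002 (iv D3832) (iv D1844) D1842
def n8003 : Q := act 6 n3828
theorem D8003 : act 6 n3828 = n8003 := rfl
theorem F11943 : act 4 n8003 = n3914 := d19_1 D8003 (iv D3914) (iv F5864)
theorem F11944 : act 5 n8003 = n7998 := d22_2 D3828 D8003 (iv D7998) (iv D3826)
def n8004 : Q := act 1 n3829
theorem D8004 : act 1 n3829 = n8004 := rfl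
theorem F11945 : act 4 n8004 = n3915 := d8_2 (iv F5865) D8004 (iv D3915)
theorem F11946 : act 6 n8004 = n3834 := d10_2 D3829 D8004 (iv D3834) (iv D1845) D1842
def n8005 : Q := act 5 n3829
theorem D8005 : act 5 n3829 = n8005 := rfl
theorem F11947 : act 0 n8005 = n8003 := d4_1 D8005 F11944 F11937
theorem F11948 : act 4 n8005 = n3916 := d18_1 D8005 (iv D3916) (iv F5865)
theorem F11949 : act 6 n8005 = n7997 := d20_2 D3829 D8005 (iv D7997) D7998 (iv F11944) (iv D8003) (iv D3828)
def n8006 : Q := act 1 n3830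
theorem D8006 : act 1 n3830 = n8006 := rfl
theorem F11950 : act 3 n8006 = n3832 := d7_2 (iv F5866) D8006 (iv D3832)
def n8007 : Q := act 6 n3830
theorem D8007 : act 6 n3830 = n8007 := rfl
theorem F11951 : act 3 n8007 = n3833 := d17_1 D8007 (iv D3833) (iv F5866)
theorem F11952 : act 5 n8007 = n6808 := d22_2 D3830 D8007 (iv D6808) F5088
def n8008 : Q := act 1 n3831
theorem D8008 : act 1 n3831 = n8008 := rfl
theorem F11953 : act 3 n8008 = n3834 := d7_2 (iv F5867) D8008 (iv D3834)
def n8009 : Q := act 5 n3831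
theorem D8009 : act 5 n3831 = n8009 := rfl
theorem F11954 : act 0 n8009 = n8007 := d4_1 D8009 F11952 F10234
theorem F11955 : act 3 n8009 = n3835 := d16_1 D8009 (iv D3835) (iv F5867)
theorem F11956 : act 4 n8009 = n8007 := d18_1 D8009 F11952 F10236
theorem F11957 : act 6 n8009 = n6807 := d20_2 D3831 D8009 (iv D6807) D6808 (iv F11952) (iv D8007) (iv D3830)
def n8010 : Q := act 0 n3832
theorem D8010 : act 0 n3832 = n8010 := rfl
theorem F11958 : act 4 n8010 = n3917 := d3_2 (iv F5868) D8010 (iv D3917)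
def n8011 : Q := act 2 n3832
theorem D8011 : act 2 n3832 = n8011 := rfl
theorem F11959 : act 1 n8011 = n3837 := d6_1 D8011 (iv D3837) (iv D1846) (iv F2981) D3832
theorem F11960 : act 4 n8011 = n3918 := d12_2 (iv F5868) D8011 (iv D3918)
def n8012 : Q := act 6 n3832
theorem D8012 : act 6 n3832 = n8012 := rfl
theorem F11961 : act 4 n8012 = n3919 := d19_1 D8012 (iv D3919) (iv F5868)
def n8013 : Q := act 1 n3833
theorem D8013 : act 1 n3833 = n8013 := rfl
theorem F11962 : act 4 n8013 = n3920 := d8_2 (iv F5870) D8013 (iv D3920)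
def n8014 : Q := act 0 n3834
theorem D8014 : act 0 n3834 = n8014 := rfl
theorem F11963 : act 4 n8014 = n3921 := d3_2 (iv F5872) D8014 (iv D3921)
def n8015 : Q := act 2 n3834
theorem D8015 : act 2 n3834 = n8015 := rfl
theorem F11964 : act 1 n8015 = n3841 := d6_1 D8015 (iv D3841) (iv D1848) (iv F2983) D3834
theorem F11965 : act 4 n8015 = n3922 := d12_2 (iv F5872) D8015 (iv D3922)
def n8016 : Q := act 5 n3834
theorem D8016 : act 5 n3834 = n8016 := rfl
theorem F11966 : act 4 n8016 = n3923 := d18_1 D8016 (iv D3923) (iv F5872)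
def n8017 : Q := act 1 n3835
theorem D8017 : act 1 n3835 = n8017 := rfl
theorem F11967 : act 4 n8017 = n3924 := d8_2 (iv F5875) D8017 (iv D3924)
def n8018 : Q := act 1 n3836
theorem D8018 : act 1 n3836 = n8018 := rfl
theorem F11968 : act 3 n8018 = n3844 := d7_2 (iv F5877) D8018 (iv D3844)
theorem F11969 : act 4 n8018 = n3925 := d8_2 (iv F5878) D8018 (iv D3925)
def n8019 : Q := act 2 n3836
theorem D8019 : act 2 n3836 = n8019 := rfl
theorem F11970 : act 0 n8019 = n3837 := d1_1 D8019 (iv D3837) D3836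
theorem F11971 : act 4 n8019 = n3926 := d12_2 (iv F5878) D8019 (iv D3926)
def n8020 : Q := act 6 n3836
theorem D8020 : act 6 n3836 = n8020 := rfl
theorem F11972 : act 0 n8020 = n3838 := d5_1 D8020 (iv D3838) D3836
theorem F11973 : act 3 n8020 = n3846 := d17_1 D8020 (iv D3846) (iv F5877)
theorem F11975 : act 5 n8020 = n7673 := d22_2 F11407 D8020 (iv D7673) D7671
def n8021 : Q := act 3 n3837
theorem D8021 : act 3 n3837 = n8021 := rfl
def n8022 : Q := act 6 n3837
theorem D8022 : act 6 n3837 = n8022 := rfl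
theorem F11976 : act 2 n8022 = n3838 := d14_1 D8022 (iv D3838) D3837
theorem F11977 : act 4 n8022 = n3929 := d19_1 D8022 (iv D3929) (iv F5879)
def n8023 : Q := act 1 n3838
theorem D8023 : act 1 n3838 = n8023 := rfl
theorem F11978 : act 3 n8023 = n3849 := d7_2 (iv F5880) D8023 (iv D3849)
theorem F11979 : act 4 n8023 = n3930 := d8_2 (iv F5881) D8023 (iv D3930)
theorem F11980 : act 6 n8023 = n3839 := d10_2 D3838 D8023 (iv D3839) (iv D1847) D1846
def n8024 : Q := act 5 n3838
theorem D8024 : act 5 n3838 = n8024 := rfl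
theorem F11981 : act 0 n8024 = n7673 := d4_1 D8024 (iv F11975) F11972
theorem F11983 : act 4 n8024 = n3931 := d18_1 D8024 (iv D3931) (iv F5881)
theorem F11984 : act 6 n8024 = n7671 := d20_2 D3838 D8024 F11407 D8020 F11975 (iv D7673) F5647
def n8025 : Q := act 0 n3839
theorem D8025 : act 0 n3839 = n8025 := rfl
theorem F11985 : act 3 n8025 = n3851 := d2_2 (iv F5882) D8025 (iv D3851)
theorem F11986 : act 4 n8025 = n3932 := d3_2 (iv F5883) D8025 (iv D3932)
def n8026 : Q := act 2 n3839
theorem D8026 : act 2 n3839 = n8026 := rfl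
theorem F11987 : act 4 n8026 = n3933 := d12_2 (iv F5883) D8026 (iv D3933)
def n8027 : Q := act 5 n3839
theorem D8027 : act 5 n3839 = n8027 := rfl
theorem F11990 : act 4 n8027 = n3934 := d18_1 D8027 (iv D3934) (iv F5883)
def n8028 : Q := act 1 n3840
theorem D8028 : act 1 n3840 = n8028 := rfl
theorem F11991 : act 3 n8028 = n3854 := d7_2 (iv F5884) D8028 (iv D3854)
theorem F11992 : act 4 n8028 = n3935 := d8_2 (iv F5885) D8028 (iv D3935)
def n8029 : Q := act 2 n3840
theorem D8029 : act 2 n3840 = n8029 := rfl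
theorem F11993 : act 0 n8029 = n3841 := d1_1 D8029 (iv D3841) D3840
theorem F11994 : act 4 n8029 = n3936 := d12_2 (iv F5885) D8029 (iv D3936)
def n8030 : Q := act 5 n3840
theorem D8030 : act 5 n3840 = n8030 := rfl
theorem F11995 : act 0 n8030 = n3842 := d4_1 D8030 (iv D3842) D3840
theorem F11997 : act 4 n8030 = n3937 := d18_1 D8030 (iv D3937) (iv F5885)
theorem F11998 : act 6 n8030 = n7677 := d22_1 D8030 (iv D7677) F5653 D3840
def n8031 : Q := act 3 n3841
theorem D8031 : act 3 n3841 = n8031 := rfl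
def n8032 : Q := act 5 n3841
theorem D8032 : act 5 n3841 = n8032 := rfl
theorem F11999 : act 2 n8032 = n3842 := d13_1 D8032 (iv D3842) D3841
theorem F12000 : act 4 n8032 = n3939 := d18_1 D8032 (iv D3939) (iv F5886)
def n8033 : Q := act 1 n3842
theorem D8033 : act 1 n3842 = n8033 := rfl
theorem F12001 : act 3 n8033 = n3859 := d7_2 (iv F5887) D8033 (iv D3859)
theorem F12002 : act 4 n8033 = n3940 := d8_2 (iv F5888) D8033 (iv D3940)
theorem F12003 : act 5 n8033 = n3843 := d9_2 D3842 D8033 (iv D3843) (iv D1849) D1848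
def n8034 : Q := act 6 n3842
theorem D8034 : act 6 n3842 = n8034 := rfl
theorem F12004 : act 0 n8034 = n7677 := d5_1 D8034 (iv F11998) F11995
theorem F12005 : act 3 n8034 = n3860 := d17_1 D8034 (iv D3860) (iv F5887)
theorem F12006 : act 4 n8034 = n3941 := d19_1 D8034 (iv D3941) (iv F5888)
theorem F12007 : act 5 n8034 = n7675 := d20_1 D8034 F11416 D8030 F11998 (iv D7677) F5653 D3842
def n8035 : Q := act 0 n3843
theorem D8035 : act 0 n3843 = n8035 := rfl
theorem F12008 : act 3 n8035 = n3861 := d2_2 (iv F5889) D8035 (iv D3861)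
theorem F12009 : act 4 n8035 = n3942 := d3_2 (iv F5890) D8035 (iv D3942)
def n8036 : Q := act 2 n3843
theorem D8036 : act 2 n3843 = n8036 := rfl
theorem F12010 : act 4 n8036 = n3943 := d12_2 (iv F5890) D8036 (iv D3943)
def n8037 : Q := act 6 n3843
theorem D8037 : act 6 n3843 = n8037 := rfl
theorem F12013 : act 4 n8037 = n3944 := d19_1 D8037 (iv D3944) (iv F5890)
def n8038 : Q := act 0 n3844
theorem D8038 : act 0 n3844 = n8038 := rfl
theorem F12014 : act 4 n8038 = n3864 := d3_2 (iv F5891) D8038 (iv D3864)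
def n8039 : Q := act 2 n3844
theorem D8039 : act 2 n3844 = n8039 := rfl
theorem F12015 : act 4 n8039 = n3865 := d12_2 (iv F5891) D8039 (iv D3865)
def n8040 : Q := act 5 n3844
theorem D8040 : act 5 n3844 = n8040 := rfl
theorem F12016 : act 4 n8040 = n3866 := d18_1 D8040 (iv D3866) (iv F5891)
def n8044 : Q := act 6 n3845
theorem D8044 : act 6 n3845 = n8044 := rfl
theorem F12023 : act 5 n8044 = n7682 := d22_2 F11426 D8044 (iv D7682) (iv F11424)
def n8045 : Q := act 1 n3846
theorem D8045 : act 1 n3846 = n8045 := rfl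
def n8046 : Q := act 2 n3847
theorem D8046 : act 2 n3847 = n8046 := rfl
def n8048 : Q := act 6 n3847
theorem D8048 : act 6 n3847 = n8048 := rfl
theorem F12026 : act 3 n8048 = n3848 := d17_1 D8048 (iv D3848) D3847
def n8049 : Q := act 1 n3848
theorem D8049 : act 1 n3848 = n8049 := rfl
theorem F12027 : act 4 n8049 = n3875 := d8_2 (iv F5898) D8049 (iv D3875)
def n8050 : Q := act 5 n3848
theorem D8050 : act 5 n3848 = n8050 := rfl
theorem F12031 : act 6 n8050 = n7680 := d20_2 D3848 D8050 F11426 D8044 F12023 (iv D7682) F5661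
def n8051 : Q := act 0 n3849
theorem D8051 : act 0 n3849 = n8051 := rfl
theorem F12032 : act 4 n8051 = n3877 := d3_2 (iv F5899) D8051 (iv D3877)
theorem F12033 : act 6 n8051 = n3851 := d5_2 (iv F5900) D8051 (iv D3851)
def n8052 : Q := act 2 n3849
theorem D8052 : act 2 n3849 = n8052 := rfl
theorem F12034 : act 4 n8052 = n3878 := d12_2 (iv F5899) D8052 (iv D3878)
theorem F12035 : act 6 n8052 = n3852 := d14_2 (iv F5900) D8052 (iv D3852)
def n8053 : Q := act 5 n3849
theorem D8053 : act 5 n3849 = n8053 := rfl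
def n8055 : Q := act 1 n3851
theorem D8055 : act 1 n3851 = n8055 := rfl
theorem F12038 : act 4 n8055 = n3881 := d8_2 (iv F5904) D8055 (iv D3881)
def n8056 : Q := act 2 n3851
theorem D8056 : act 2 n3851 = n8056 := rfl
theorem F12039 : act 0 n8056 = n3852 := d1_1 D8056 (iv D3852) D3851
theorem F12040 : act 4 n8056 = n3882 := d12_2 (iv F5904) D8056 (iv D3882)
def n8057 : Q := act 5 n3851
theorem D8057 : act 5 n3851 = n8057 := rfl
theorem F12042 : act 4 n8057 = n3883 := d18_1 D8057 (iv D3883) (iv F5904)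
theorem F12043 : act 6 n8057 = n8053 := d22_1 D8057 (iv D8053) F5900 D3851
def n8058 : Q := act 3 n3852
theorem D8058 : act 3 n3852 = n8058 := rfl
def n8059 : Q := act 5 n3852
theorem D8059 : act 5 n3852 = n8059 := rfl
theorem F12045 : act 4 n8059 = n3885 := d18_1 D8059 (iv D3885) (iv F5905)
def n8060 : Q := act 6 n3853
theorem D8060 : act 6 n3853 = n8060 := rfl
theorem F12048 : act 5 n8060 = n8051 := d20_1 D8060 F12033 D8057 F12043 (iv D8053) F5900 D3853
def n8061 : Q := act 0 n3854
theorem D8061 : act 0 n3854 = n8061 := rfl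
theorem F12049 : act 4 n8061 = n3887 := d3_2 (iv F5908) D8061 (iv D3887)
def n8062 : Q := act 2 n3854
theorem D8062 : act 2 n3854 = n8062 := rfl
theorem F12050 : act 4 n8062 = n3888 := d12_2 (iv F5908) D8062 (iv D3888)
def n8063 : Q := act 5 n3854
theorem D8063 : act 5 n3854 = n8063 := rfl
theorem F12051 : act 4 n8063 = n3889 := d18_1 D8063 (iv D3889) (iv F5908)
def n8064 : Q := act 6 n3854
theorem D8064 : act 6 n3854 = n8064 := rfl
theorem F12052 : act 4 n8064 = n3890 := d19_1 D8064 (iv D3890) (iv F5908)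
def n8067 : Q := act 5 n3855
theorem D8067 : act 5 n3855 = n8067 := rfl
theorem F12058 : act 6 n8067 = n7690 := d22_1 D8067 (iv D7690) F5667 (iv F5909)
def n8068 : Q := act 1 n3856
theorem D8068 : act 1 n3856 = n8068 := rfl
theorem F12059 : act 4 n8068 = n3894 := d8_2 (iv F5912) D8068 (iv D3894)
def n8069 : Q := act 2 n3857
theorem D8069 : act 2 n3857 = n8069 := rfl
def n8071 : Q := act 5 n3857
theorem D8071 : act 5 n3857 = n8071 := rfl
theorem F12061 : act 3 n8071 = n3858 := d16_1 D8071 (iv D3858) D3857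
def n8072 : Q := act 1 n3858
theorem D8072 : act 1 n3858 = n8072 := rfl
def n8073 : Q := act 6 n3858
theorem D8073 : act 6 n3858 = n8073 := rfl
theorem F12066 : act 5 n8073 = n7688 := d20_1 D8073 F11439 D8067 F12058 (iv D7690) F5667 D3858
def n8074 : Q := act 0 n3859
theorem D8074 : act 0 n3859 = n8074 := rfl
theorem F12067 : act 4 n8074 = n3900 := d3_2 (iv F5916) D8074 (iv D3900)
theorem F12068 : act 5 n8074 = n3861 := d4_2 (iv F5917) D8074 (iv D3861)
def n8075 : Q := act 2 n3859
theorem D8075 : act 2 n3859 = n8075 := rfl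
theorem F12069 : act 4 n8075 = n3901 := d12_2 (iv F5916) D8075 (iv D3901)
theorem F12070 : act 5 n8075 = n3862 := d13_2 (iv F5917) D8075 (iv D3862)
def n8076 : Q := act 6 n3859
theorem D8076 : act 6 n3859 = n8076 := rfl
def n8079 : Q := act 2 n3861
theorem D8079 : act 2 n3861 = n8079 := rfl
theorem F12074 : act 0 n8079 = n3862 := d1_1 D8079 (iv D3862) D3861
theorem F12075 : act 4 n8079 = n3905 := d12_2 (iv F5921) D8079 (iv D3905)
def n8080 : Q := act 6 n3861
theorem D8080 : act 6 n3861 = n8080 := rfl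
theorem F12077 : act 4 n8080 = n3906 := d19_1 D8080 (iv D3906) (iv F5921)
theorem F12078 : act 5 n8080 = n8076 := d22_2 F12068 D8080 (iv D8076) D8074
def n8081 : Q := act 3 n3862
theorem D8081 : act 3 n3862 = n8081 := rfl
def n8082 : Q := act 6 n3862
theorem D8082 : act 6 n3862 = n8082 := rfl
theorem F12080 : act 4 n8082 = n3908 := d19_1 D8082 (iv D3908) (iv F5922)
def n8087 : Q := act 1 n3865
theorem D8087 : act 1 n3865 = n8087 := rfl
theorem F12089 : act 2 n8087 = n3868 := d6_2 D3865 D8087 (iv D3868) (iv D1859) D1858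
def n8095 : Q := act 3 n3868
theorem D8095 : act 3 n3868 = n8095 := rfl
theorem F12099 : act 1 n8095 = n3869 := d7_1 D8095 (iv D3869) D3868
def n8103 : Q := act 5 n3871
theorem D8103 : act 5 n3871 = n8103 := rfl
def n8111 : Q := act 2 n3875
theorem D8111 : act 2 n3875 = n8111 := rfl
theorem F12115 : act 1 n8111 = n3878 := d6_1 D8111 (iv D3878) (iv D1863) (iv F3009) D3875
def n8112 : Q := act 5 n3875
theorem D8112 : act 5 n3875 = n8112 := rfl
def n8114 : Q := act 1 n3877
theorem D8114 : act 1 n3877 = n8114 := rfl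
def n8115 : Q := act 2 n3877
theorem D8115 : act 2 n3877 = n8115 := rfl
theorem F12117 : act 0 n8115 = n3878 := d1_1 D8115 (iv D3878) D3877
theorem F12118 : act 6 n8115 = n3882 := d14_2 (iv F5938) D8115 (iv D3882)
def n8116 : Q := act 3 n3878
theorem D8116 : act 3 n3878 = n8116 := rfl
theorem F12119 : act 6 n8116 = n3884 := d17_2 (iv F5939) D8116 (iv D3884)
def n8117 : Q := act 5 n3878
theorem D8117 : act 5 n3878 = n8117 := rfl
def n8118 : Q := act 1 n3879
theorem D8118 : act 1 n3879 = n8118 := rfl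
theorem F12121 : act 3 n8118 = n4025 := d7_2 (iv F5940) D8118 (iv D4025)
theorem F12122 : act 5 n8118 = n3880 := d9_2 D3879 D8118 (iv D3880) (iv D1864) D1863
def n8125 : Q := act 6 n3881
theorem D8125 : act 6 n3881 = n8125 := rfl
theorem F12128 : act 3 n8125 = n4032 := d17_1 D8125 (iv D4032) (iv F5942)
def n8126 : Q := act 1 n3882
theorem D8126 : act 1 n3882 = n8126 := rfl
def n8128 : Q := act 5 n3882
theorem D8128 : act 5 n3882 = n8128 := rfl
theorem F12131 : act 2 n8128 = n3883 := d13_1 D8128 (iv D3883) D3882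
theorem F12132 : act 6 n8128 = n8117 := d22_1 D8128 (iv D8117) F5939 (iv F5943)
def n8129 : Q := act 1 n3883
theorem D8129 : act 1 n3883 = n8129 := rfl
theorem F12133 : act 3 n8129 = n4036 := d7_2 (iv F5945) D8129 (iv D4036)
def n8130 : Q := act 2 n3884
theorem D8130 : act 2 n3884 = n8130 := rfl
def n8134 : Q := act 6 n3885
theorem D8134 : act 6 n3885 = n8134 := rfl
theorem F12138 : act 5 n8134 = n8115 := d20_1 D8134 F12118 D8128 F12132 (iv D8117) F5939 D3885
def n8137 : Q := act 5 n3887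
theorem D8137 : act 5 n3887 = n8137 := rfl
theorem F12143 : act 3 n8137 = n4043 := d16_1 D8137 (iv D4043) (iv F5951)
def n8138 : Q := act 6 n3887
theorem D8138 : act 6 n3887 = n8138 := rfl
theorem F12144 : act 0 n8138 = n3890 := d5_1 D8138 (iv D3890) D3887
theorem F12145 : act 3 n8138 = n4042 := d17_1 D8138 F6438 (iv F5951)
def n8139 : Q := act 1 n3888
theorem D8139 : act 1 n3888 = n8139 := rfl
theorem F12146 : act 2 n8139 = n3891 := d6_2 D3888 D8139 (iv D3891) (iv D1869) D1868
def n8143 : Q := act 1 n3889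
theorem D8143 : act 1 n3889 = n8143 := rfl
theorem F12149 : act 3 n8143 = n4049 := d7_2 (iv F5952) D8143 (iv D4049)
theorem F12150 : act 5 n8143 = n3894 := d9_2 D3889 D8143 (iv D3894) (iv D1870) D1868
theorem F12151 : act 0 n5911 = n8143 := d2_3 F12149 F6150 D5911
def n8144 : Q := act 6 n3889
theorem D8144 : act 6 n3889 = n8144 := rfl
theorem F12153 : act 5 n8144 = n8138 := d22_2 D3889 D8144 (iv D8138) (iv D3887)
def n8145 : Q := act 5 n3890
theorem D8145 : act 5 n3890 = n8145 := rfl
theorem F12154 : act 0 n8145 = n8144 := d4_1 D8145 F12153 F12144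
theorem F12156 : act 6 n8145 = n8137 := d20_2 D3890 D8145 (iv D8137) D8138 (iv F12153) (iv D8144) (iv D3889)
def n8147 : Q := act 3 n3891
theorem D8147 : act 3 n3891 = n8147 := rfl
theorem F12157 : act 1 n8147 = n3892 := d7_1 D8147 (iv D3892) D3891
def n8153 : Q := act 0 n3894
theorem D8153 : act 0 n3894 = n8153 := rfl
theorem F12162 : act 3 n8153 = n4059 := d2_2 (iv F5958) D8153 (iv D4059)
theorem F12163 : act 5 n8153 = n5911 := d4_2 F12150 D8153 F12151
def n8155 : Q := act 1 n3895
theorem D8155 : act 1 n3895 = n8155 := rfl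
def n8164 : Q := act 1 n3899
theorem D8164 : act 1 n3899 = n8164 := rfl
def n8165 : Q := act 1 n3900
theorem D8165 : act 1 n3900 = n8165 := rfl
def n8166 : Q := act 2 n3900
theorem D8166 : act 2 n3900 = n8166 := rfl
theorem F12174 : act 0 n8166 = n3901 := d1_1 D8166 (iv D3901) D3900
theorem F12175 : act 5 n8166 = n3905 := d13_2 (iv F5964) D8166 (iv D3905)
def n8168 : Q := act 6 n3901
theorem D8168 : act 6 n3901 = n8168 := rfl
def n8169 : Q := act 1 n3902
theorem D8169 : act 1 n3902 = n8169 := rfl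
theorem F12178 : act 3 n8169 = n4074 := d7_2 (iv F5966) D8169 (iv D4074)
def n8177 : Q := act 1 n3905
theorem D8177 : act 1 n3905 = n8177 := rfl
def n8178 : Q := act 3 n3905
theorem D8178 : act 3 n3905 = n8178 := rfl
def n8179 : Q := act 6 n3905
theorem D8179 : act 6 n3905 = n8179 := rfl
theorem F12189 : act 2 n8179 = n3906 := d14_1 D8179 (iv D3906) D3905
theorem F12190 : act 5 n8179 = n8168 := d22_2 F12175 D8179 (iv D8168) (iv F12174)
def n8181 : Q := act 2 n3907
theorem D8181 : act 2 n3907 = n8181 := rfl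
def n8184 : Q := act 1 n3908
theorem D8184 : act 1 n3908 = n8184 := rfl
theorem F12193 : act 2 n8184 = n6840 := d6_2 (iv F5973) D8184 (iv D6840) F5111 (iv F3030)
def n8187 : Q := act 0 n3910
theorem D8187 : act 0 n3910 = n8187 := rfl
def n8188 : Q := act 2 n3910
theorem D8188 : act 2 n3910 = n8188 := rfl
def n8189 : Q := act 5 n3910
theorem D8189 : act 5 n3910 = n8189 := rfl
def n8190 : Q := act 6 n3910
theorem D8190 : act 6 n3910 = n8190 := rfl
def n8191 : Q := act 1 n3911
theorem D8191 : act 1 n3911 = n8191 := rfl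
def n8192 : Q := act 1 n3912
theorem D8192 : act 1 n3912 = n8192 := rfl
def n8193 : Q := act 0 n3913
theorem D8193 : act 0 n3913 = n8193 := rfl
theorem F12199 : act 5 n8193 = n3917 := d4_2 (iv F5979) D8193 (iv D3917)
def n8194 : Q := act 2 n3913
theorem D8194 : act 2 n3913 = n8194 := rfl
theorem F12200 : act 5 n8194 = n3918 := d13_2 (iv F5979) D8194 (iv D3918)
def n8195 : Q := act 6 n3913
theorem D8195 : act 6 n3913 = n8195 := rfl
def n8196 : Q := act 1 n3914
theorem D8196 : act 1 n3914 = n8196 := rfl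
def n8197 : Q := act 0 n3915
theorem D8197 : act 0 n3915 = n8197 := rfl
theorem F12201 : act 6 n8197 = n3921 := d5_2 (iv F5981) D8197 (iv D3921)
def n8198 : Q := act 2 n3915
theorem D8198 : act 2 n3915 = n8198 := rfl
theorem F12202 : act 6 n8198 = n3922 := d14_2 (iv F5981) D8198 (iv D3922)
def n8199 : Q := act 5 n3915
theorem D8199 : act 5 n3915 = n8199 := rfl
def n8200 : Q := act 1 n3916
theorem D8200 : act 1 n3916 = n8200 := rfl
def n8201 : Q := act 1 n3917
theorem D8201 : act 1 n3917 = n8201 := rfl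
def n8202 : Q := act 2 n3917
theorem D8202 : act 2 n3917 = n8202 := rfl
theorem F12203 : act 0 n8202 = n3918 := d1_1 D8202 (iv D3918) D3917
def n8203 : Q := act 6 n3917
theorem D8203 : act 6 n3917 = n8203 := rfl
theorem F12204 : act 0 n8203 = n3919 := d5_1 D8203 (iv D3919) D3917
theorem F12205 : act 5 n8203 = n8195 := d22_2 F12199 D8203 (iv D8195) D8193
def n8204 : Q := act 3 n3918
theorem D8204 : act 3 n3918 = n8204 := rfl
theorem F12206 : act 1 n8204 = n3928 := d7_1 D8204 (iv D3928) (iv F5984)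
def n8205 : Q := act 6 n3918
theorem D8205 : act 6 n3918 = n8205 := rfl
theorem F12207 : act 2 n8205 = n3919 := d14_1 D8205 (iv D3919) D3918
def n8206 : Q := act 1 n3919
theorem D8206 : act 1 n3919 = n8206 := rfl
theorem F12208 : act 6 n8206 = n3920 := d10_2 D3919 D8206 (iv D3920) (iv D1882) D1881
def n8207 : Q := act 5 n3919
theorem D8207 : act 5 n3919 = n8207 := rfl
theorem F12209 : act 0 n8207 = n8195 := d4_1 D8207 (iv F12205) F12204
theorem F12210 : act 6 n8207 = n8193 := d20_2 D3919 D8207 F12199 D8203 F12205 (iv D8195) F5979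
def n8208 : Q := act 0 n3920
theorem D8208 : act 0 n3920 = n8208 := rfl
def n8209 : Q := act 2 n3920
theorem D8209 : act 2 n3920 = n8209 := rfl
theorem F12211 : act 1 n8209 = n3933 := d6_1 D8209 (iv D3933) (iv D1888) (iv F3032) D3920
def n8210 : Q := act 5 n3920
theorem D8210 : act 5 n3920 = n8210 := rfl
theorem F12212 : act 1 n8210 = n6869 := d9_1 D8210 (iv D6869) (iv D3308) (iv F3033) D3920
def n8211 : Q := act 1 n3921
theorem D8211 : act 1 n3921 = n8211 := rfl
def n8212 : Q := act 2 n3921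
theorem D8212 : act 2 n3921 = n8212 := rfl
theorem F12213 : act 0 n8212 = n3922 := d1_1 D8212 (iv D3922) D3921
def n8213 : Q := act 5 n3921
theorem D8213 : act 5 n3921 = n8213 := rfl
theorem F12214 : act 0 n8213 = n3923 := d4_1 D8213 (iv D3923) D3921
theorem F12215 : act 6 n8213 = n8199 := d22_1 D8213 (iv D8199) F5981 D3921
def n8214 : Q := act 3 n3922
theorem D8214 : act 3 n3922 = n8214 := rfl
theorem F12216 : act 1 n8214 = n3938 := d7_1 D8214 (iv D3938) (iv F5985)
def n8215 : Q := act 5 n3922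
theorem D8215 : act 5 n3922 = n8215 := rfl
theorem F12217 : act 2 n8215 = n3923 := d13_1 D8215 (iv D3923) D3922
def n8216 : Q := act 1 n3923
theorem D8216 : act 1 n3923 = n8216 := rfl
theorem F12218 : act 3 n8216 = n8210 := d7_2 F10319 D8216 F12212
theorem F12219 : act 5 n8216 = n3924 := d9_2 D3923 D8216 (iv D3924) (iv D1884) D1883
def n8217 : Q := act 6 n3923
theorem D8217 : act 6 n3923 = n8217 := rfl
theorem F12220 : act 0 n8217 = n8199 := d5_1 D8217 (iv F12215) F12214
theorem F12221 : act 5 n8217 = n8197 := d20_1 D8217 F12201 D8213 F12215 (iv D8199) F5981 D3923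
def n8218 : Q := act 0 n3924
theorem D8218 : act 0 n3924 = n8218 := rfl
theorem F12222 : act 3 n8218 = n8208 := d2_2 (iv F5986) D8218 (iv D8208)
def n8219 : Q := act 2 n3924
theorem D8219 : act 2 n3924 = n8219 := rfl
theorem F12223 : act 1 n8219 = n3943 := d6_1 D8219 (iv D3943) (iv D1892) (iv F3035) D3924
def n8220 : Q := act 6 n3924
theorem D8220 : act 6 n3924 = n8220 := rfl
theorem F12224 : act 1 n8220 = n6866 := d10_1 D8220 (iv D6866) (iv D3307) (iv F3037) D3924
theorem F12225 : act 3 n8220 = n8206 := d17_1 D8220 F12208 (iv F5986)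
def n8221 : Q := act 0 n3925
theorem D8221 : act 0 n3925 = n8221 := rfl
theorem F12226 : act 3 n8221 = n3945 := d2_2 (iv F5987) D8221 (iv D3945)
def n8222 : Q := act 2 n3925
theorem D8222 : act 2 n3925 = n8222 := rfl
def n8223 : Q := act 5 n3925
theorem D8223 : act 5 n3925 = n8223 := rfl
theorem F12227 : act 3 n8223 = n3946 := d16_1 D8223 F7520 (iv F5987)
def n8225 : Q := act 1 n3926
theorem D8225 : act 1 n3926 = n8225 := rfl
def n8226 : Q := act 3 n3926
theorem D8226 : act 3 n3926 = n8226 := rfl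
theorem F12229 : act 0 n8226 = n3928 := d2_1 D8226 (iv D3928) (iv F5988)
def n8227 : Q := act 6 n3926
theorem D8227 : act 6 n3926 = n8227 := rfl
theorem F12230 : act 0 n8227 = n3929 := d5_1 D8227 (iv D3929) (iv F5988)
theorem F12231 : act 2 n8227 = n3927 := d14_1 D8227 (iv D3927) D3926
theorem F12232 : act 5 n8227 = n7762 := d22_2 F11526 D8227 (iv D7762) (iv F11525)
def n8228 : Q := act 1 n3927
theorem D8228 : act 1 n3927 = n8228 := rfl
def n8229 : Q := act 2 n3928
theorem D8229 : act 2 n3928 = n8229 := rfl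
def n8230 : Q := act 4 n3928
theorem D8230 : act 4 n3928 = n8230 := rfl
def n8231 : Q := act 6 n3928
theorem D8231 : act 6 n3928 = n8231 := rfl
theorem F12234 : act 3 n8231 = n3929 := d17_1 D8231 (iv D3929) D3928
def n8232 : Q := act 1 n3929
theorem D8232 : act 1 n3929 = n8232 := rfl
def n8233 : Q := act 5 n3929
theorem D8233 : act 5 n3929 = n8233 := rfl
theorem F12235 : act 0 n8233 = n7762 := d4_1 D8233 (iv F12232) F12230
theorem F12236 : act 2 n8233 = n3931 := d13_1 D8233 (iv D3931) (iv F5992)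
theorem F12237 : act 6 n8233 = n7760 := d20_2 D3929 D8233 F11526 D8227 F12232 (iv D7762) F5704
def n8234 : Q := act 0 n3930
theorem D8234 : act 0 n3930 = n8234 := rfl
theorem F12238 : act 3 n8234 = n3958 := d2_2 (iv F5993) D8234 (iv D3958)
theorem F12239 : act 6 n8234 = n3932 := d5_2 (iv F5994) D8234 (iv D3932)
def n8235 : Q := act 2 n3930
theorem D8235 : act 2 n3930 = n8235 := rfl
theorem F12240 : act 6 n8235 = n3933 := d14_2 (iv F5994) D8235 (iv D3933)
def n8236 : Q := act 5 n3930
theorem D8236 : act 5 n3930 = n8236 := rfl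
def n8237 : Q := act 1 n3931
theorem D8237 : act 1 n3931 = n8237 := rfl
theorem F12242 : act 3 n8237 = n3961 := d7_2 (iv F5996) D8237 (iv D3961)
def n8238 : Q := act 1 n3932
theorem D8238 : act 1 n3932 = n8238 := rfl
theorem F12243 : act 3 n8238 = n3962 := d7_2 (iv F5998) D8238 (iv D3962)
def n8239 : Q := act 2 n3932
theorem D8239 : act 2 n3932 = n8239 := rfl
theorem F12244 : act 0 n8239 = n3933 := d1_1 D8239 (iv D3933) D3932
def n8240 : Q := act 5 n3932
theorem D8240 : act 5 n3932 = n8240 := rfl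
theorem F12246 : act 3 n8240 = n3964 := d16_1 D8240 (iv D3964) (iv F5998)
theorem F12247 : act 6 n8240 = n8236 := d22_1 D8240 (iv D8236) F5994 D3932
def n8241 : Q := act 3 n3933
theorem D8241 : act 3 n3933 = n8241 := rfl
def n8242 : Q := act 5 n3933
theorem D8242 : act 5 n3933 = n8242 := rfl
theorem F12248 : act 2 n8242 = n3934 := d13_1 D8242 (iv D3934) D3933
def n8243 : Q := act 6 n3934
theorem D8243 : act 6 n3934 = n8243 := rfl
theorem F12251 : act 5 n8243 = n8234 := d20_1 D8243 F12239 D8240 F12247 (iv D8236) F5994 D3934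
def n8244 : Q := act 0 n3935
theorem D8244 : act 0 n3935 = n8244 := rfl
theorem F12252 : act 3 n8244 = n3968 := d2_2 (iv F6001) D8244 (iv D3968)
def n8245 : Q := act 2 n3935
theorem D8245 : act 2 n3935 = n8245 := rfl
def n8247 : Q := act 6 n3935
theorem D8247 : act 6 n3935 = n8247 := rfl
theorem F12254 : act 3 n8247 = n3969 := d17_1 D8247 F6443 (iv F6001)
def n8248 : Q := act 1 n3936
theorem D8248 : act 1 n3936 = n8248 := rfl
def n8249 : Q := act 3 n3936
theorem D8249 : act 3 n3936 = n8249 := rfl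
theorem F12255 : act 0 n8249 = n3938 := d2_1 D8249 (iv D3938) (iv F6002)
def n8250 : Q := act 5 n3936
theorem D8250 : act 5 n3936 = n8250 := rfl
theorem F12256 : act 0 n8250 = n3939 := d4_1 D8250 (iv D3939) (iv F6002)
theorem F12257 : act 2 n8250 = n3937 := d13_1 D8250 (iv D3937) D3936
theorem F12258 : act 6 n8250 = n7770 := d22_1 D8250 (iv D7770) F5709 (iv F6002)
def n8251 : Q := act 1 n3937
theorem D8251 : act 1 n3937 = n8251 := rfl
theorem F12259 : act 3 n8251 = n3975 := d7_2 (iv F6004) D8251 (iv D3975)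
def n8252 : Q := act 2 n3938
theorem D8252 : act 2 n3938 = n8252 := rfl
def n8253 : Q := act 4 n3938
theorem D8253 : act 4 n3938 = n8253 := rfl
def n8254 : Q := act 5 n3938
theorem D8254 : act 5 n3938 = n8254 := rfl
theorem F12260 : act 3 n8254 = n3939 := d16_1 D8254 (iv D3939) D3938
def n8255 : Q := act 1 n3939
theorem D8255 : act 1 n3939 = n8255 := rfl
def n8256 : Q := act 6 n3939
theorem D8256 : act 6 n3939 = n8256 := rfl
theorem F12261 : act 0 n8256 = n7770 := d5_1 D8256 (iv F12258) F12256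
theorem F12262 : act 2 n8256 = n3941 := d14_1 D8256 (iv D3941) (iv F6006)
theorem F12263 : act 5 n8256 = n7768 := d20_1 D8256 F11536 D8250 F12258 (iv D7770) F5709 D3939
def n8257 : Q := act 0 n3940
theorem D8257 : act 0 n3940 = n8257 := rfl
theorem F12264 : act 3 n8257 = n3981 := d2_2 (iv F6007) D8257 (iv D3981)
theorem F12265 : act 5 n8257 = n3942 := d4_2 (iv F6008) D8257 (iv D3942)
def n8258 : Q := act 2 n3940
theorem D8258 : act 2 n3940 = n8258 := rfl
theorem F12266 : act 5 n8258 = n3943 := d13_2 (iv F6008) D8258 (iv D3943)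
def n8259 : Q := act 6 n3940
theorem D8259 : act 6 n3940 = n8259 := rfl
def n8262 : Q := act 2 n3942
theorem D8262 : act 2 n3942 = n8262 := rfl
theorem F12270 : act 0 n8262 = n3943 := d1_1 D8262 (iv D3943) D3942
def n8263 : Q := act 6 n3942
theorem D8263 : act 6 n3942 = n8263 := rfl
theorem F12272 : act 3 n8263 = n3987 := d17_1 D8263 (iv D3987) (iv F6012)
theorem F12273 : act 5 n8263 = n8259 := d22_2 F12265 D8263 (iv D8259) D8257
def n8264 : Q := act 3 n3943
theorem D8264 : act 3 n3943 = n8264 := rfl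
def n8265 : Q := act 6 n3943
theorem D8265 : act 6 n3943 = n8265 := rfl
theorem F12274 : act 2 n8265 = n3944 := d14_1 D8265 (iv D3944) D3943
def n8272 : Q := act 0 n3949
theorem D8272 : act 0 n3949 = n8272 := rfl
theorem F12292 : act 1 n8272 = n4853 := d0_2 D3949 D8272 F7396 (iv F3817) F3816 F1997 F1109 (iv F1649) (iv F3045)
def n8273 : Q := act 3 n3949
theorem D8273 : act 3 n3949 = n8273 := rfl
theorem F12294 : act 1 n8273 = n3950 := d7_1 D8273 (iv D3950) D3949
def n8275 : Q := act 2 n3950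
theorem D8275 : act 2 n3950 = n8275 := rfl
theorem F12296 : act 0 n8275 = n3953 := d1_1 D8275 (iv D3953) (iv F6020)
theorem F12297 : act 3 n8275 = n8229 := d21_1 D8275 (iv D8229) (iv D3928) (iv D1886) F1641 D934 D1896 (iv F6020)
def n8276 : Q := act 4 n3950
theorem D8276 : act 4 n3950 = n8276 := rfl
theorem F12298 : act 0 n8276 = n3954 := d3_1 D8276 (iv D3954) (iv F6020)
theorem F12299 : act 3 n8276 = n4006 := d15_1 D8276 (iv D4006) (iv D1918) (iv F3046) D3950
def n8277 : Q := act 6 n3950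
theorem D8277 : act 6 n3950 = n8277 := rfl
theorem F12300 : act 0 n8277 = n3955 := d5_1 D8277 (iv D3955) (iv F6020)
theorem F12301 : act 3 n8277 = n3951 := d17_1 D8277 (iv D3951) D3950
theorem F12302 : act 5 n8277 = n7783 := d22_2 F11554 D8277 (iv D7783) (iv F11553)
def n8278 : Q := act 1 n3951
theorem D8278 : act 1 n3951 = n8278 := rfl
theorem F12303 : act 4 n8278 = n4008 := d8_2 (iv F6023) D8278 (iv D4008)
def n8281 : Q := act 5 n3952
theorem D8281 : act 5 n3952 = n8281 := rfl
theorem F12307 : act 4 n8281 = n4011 := d18_1 D8281 (iv D4011) (iv F6025)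
def n8282 : Q := act 1 n3953
theorem D8282 : act 1 n3953 = n8282 := rfl
theorem F12308 : act 2 n8282 = n4091 := d6_2 D3953 D8282 (iv D4091) (iv D1959) (iv F3050)
def n8283 : Q := act 3 n3953
theorem D8283 : act 3 n3953 = n8283 := rfl
theorem F12309 : act 0 n8283 = n8229 := d2_1 D8283 (iv F12297) F12296
theorem F12310 : act 2 n8283 = n8226 := d11_1 D8283 (iv D8226) (iv D3926) F3038 D1894 D3950 D8275 F12297 (iv D8229) (iv D3928) (iv D1886) F1641 D934 D1896 D3953
def n8284 : Q := act 4 n3953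
theorem D8284 : act 4 n3953 = n8284 := rfl
theorem F12311 : act 2 n8284 = n3954 := d12_1 D8284 (iv D3954) D3953
def n8285 : Q := act 6 n3953
theorem D8285 : act 6 n3953 = n8285 := rfl
theorem F12312 : act 2 n8285 = n3955 := d14_1 D8285 (iv D3955) D3953
def n8286 : Q := act 6 n3954
theorem D8286 : act 6 n3954 = n8286 := rfl
theorem F12313 : act 3 n8286 = n4015 := d17_1 D8286 (iv D4015) (iv F6027)
theorem F12314 : act 4 n8286 = n3955 := d19_1 D8286 (iv D3955) D3954
def n8287 : Q := act 1 n3955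
theorem D8287 : act 1 n3955 = n8287 := rfl
theorem F12315 : act 3 n8287 = n3956 := d7_2 (iv F6028) D8287 (iv D3956)
theorem F12316 : act 6 n8287 = n4095 := d10_2 D3955 D8287 (iv D4095) (iv D1961) (iv F3050)
def n8288 : Q := act 5 n3955
theorem D8288 : act 5 n3955 = n8288 := rfl
theorem F12317 : act 0 n8288 = n7783 := d4_1 D8288 (iv F12302) F12300
theorem F12318 : act 3 n8288 = n3957 := d16_1 D8288 (iv D3957) (iv F6028)
theorem F12319 : act 6 n8288 = n7780 := d20_2 D3955 D8288 F11554 D8277 F12302 (iv D7783) F5717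
def n8289 : Q := act 0 n3956
theorem D8289 : act 0 n3956 = n8289 := rfl
theorem F12320 : act 4 n8289 = n4018 := d3_2 (iv F6029) D8289 (iv D4018)
theorem F12321 : act 6 n8289 = n4096 := d5_2 (iv F6030) D8289 (iv D4096)
theorem F12322 : act 5 n8289 = n4877 := d22_0 (iv F7429) (iv D4097) (iv F6030) D8289
def n8290 : Q := act 5 n3956
theorem D8290 : act 5 n3956 = n8290 := rfl
theorem F12323 : act 0 n8290 = n4877 := d4_1 D8290 (iv F12322) (iv D8289)
theorem F12324 : act 4 n8290 = n4019 := d18_1 D8290 (iv D4019) (iv F6029)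
def n8291 : Q := act 1 n3957
theorem D8291 : act 1 n3957 = n8291 := rfl
theorem F12325 : act 4 n8291 = n4020 := d8_2 (iv F6033) D8291 (iv D4020)
def n8292 : Q := act 1 n3958
theorem D8292 : act 1 n3958 = n8292 := rfl
def n8293 : Q := act 2 n3958
theorem D8293 : act 2 n3958 = n8293 := rfl
theorem F12327 : act 0 n8293 = n3959 := d1_1 D8293 (iv D3959) D3958
theorem F12329 : act 6 n8293 = n3963 := d14_2 (iv F6036) D8293 (iv D3963)
def n8294 : Q := act 3 n3959
theorem D8294 : act 3 n3959 = n8294 := rfl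
theorem F12330 : act 6 n8294 = n3965 := d17_2 (iv F6038) D8294 (iv D3965)
def n8295 : Q := act 5 n3959
theorem D8295 : act 5 n3959 = n8295 := rfl
theorem F12331 : act 2 n8295 = n3960 := d13_1 D8295 (iv D3960) D3959
theorem F12332 : act 4 n8295 = n4024 := d18_1 D8295 (iv D4024) (iv F6037)
def n8296 : Q := act 1 n3960
theorem D8296 : act 1 n3960 = n8296 := rfl
theorem F12334 : act 5 n8296 = n3961 := d9_2 D3960 D8296 (iv D3961) (iv D1899) D1898
def n8303 : Q := act 6 n3962
theorem D8303 : act 6 n3962 = n8303 := rfl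
theorem F12342 : act 4 n8303 = n4032 := d19_1 D8303 (iv D4032) (iv F6041)
def n8304 : Q := act 1 n3963
theorem D8304 : act 1 n3963 = n8304 := rfl
theorem F12343 : act 4 n8304 = n4033 := d8_2 (iv F6043) D8304 (iv D4033)
def n8305 : Q := act 3 n3963
theorem D8305 : act 3 n3963 = n8305 := rfl
theorem F12344 : act 0 n8305 = n3965 := d2_1 D8305 (iv D3965) (iv F6042)
def n8306 : Q := act 5 n3963
theorem D8306 : act 5 n3963 = n8306 := rfl
theorem F12345 : act 0 n8306 = n3966 := d4_1 D8306 (iv D3966) (iv F6042)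
theorem F12348 : act 6 n8306 = n8295 := d22_1 D8306 (iv D8295) F6038 (iv F6042)
def n8307 : Q := act 1 n3964
theorem D8307 : act 1 n3964 = n8307 := rfl
theorem F12349 : act 4 n8307 = n4036 := d8_2 (iv F6045) D8307 (iv D4036)
def n8308 : Q := act 2 n3965
theorem D8308 : act 2 n3965 = n8308 := rfl
def n8309 : Q := act 4 n3965
theorem D8309 : act 4 n3965 = n8309 := rfl
theorem F12350 : act 1 n8309 = n4099 := d8_1 D8309 (iv D4099) (iv F6047)
theorem F12351 : act 3 n8309 = n4038 := d15_1 D8309 (iv D4038) (iv D1933) (iv F3060) D3965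
def n8310 : Q := act 5 n3965
theorem D8310 : act 5 n3965 = n8310 := rfl
theorem F12352 : act 1 n8310 = n4895 := d9_1 D8310 (iv D4895) F3719 (iv F3129) (iv F6047)
def n8311 : Q := act 6 n3966
theorem D8311 : act 6 n3966 = n8311 := rfl
theorem F12357 : act 5 n8311 = n8293 := d20_1 D8311 F12329 D8306 F12348 (iv D8295) F6038 D3966
def n8313 : Q := act 2 n3968
theorem D8313 : act 2 n3968 = n8313 := rfl
theorem F12360 : act 0 n8313 = n3969 := d1_1 D8313 (iv D3969) D3968
theorem F12361 : act 4 n8313 = n4042 := d12_2 (iv F6054) D8313 (iv D4042)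
theorem F12362 : act 6 n3968 = n8313 := d19_0 F12361 F6438 (iv F6054)
def n8314 : Q := act 5 n3968
theorem D8314 : act 5 n3968 = n8314 := rfl
theorem F12364 : act 4 n8314 = n4043 := d18_1 D8314 (iv D4043) (iv F6054)
def n8315 : Q := act 5 n3969
theorem D8315 : act 5 n3969 = n8315 := rfl
theorem F12365 : act 2 n8315 = n3970 := d13_1 D8315 (iv D3970) D3969
theorem F12367 : act 6 n8315 = n8314 := d22_1 D8315 (iv D8314) F12362 F12360
def n8318 : Q := act 0 n3972
theorem D8318 : act 0 n3972 = n8318 := rfl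
theorem F12376 : act 4 n8318 = n4052 := d3_2 (iv F6058) D8318 (iv D4052)
def n8319 : Q := act 3 n3972
theorem D8319 : act 3 n3972 = n8319 := rfl
theorem F12377 : act 1 n8319 = n3973 := d7_1 D8319 (iv D3973) D3972
def n8320 : Q := act 5 n3972
theorem D8320 : act 5 n3972 = n8320 := rfl
def n8321 : Q := act 2 n3973
theorem D8321 : act 2 n3973 = n8321 := rfl
theorem F12379 : act 0 n8321 = n3976 := d1_1 D8321 (iv D3976) (iv F6059)
theorem F12380 : act 3 n8321 = n8252 := d21_1 D8321 (iv D8252) (iv D3938) (iv D1890) F1644 D938 D1906 (iv F6059)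
def n8322 : Q := act 4 n3973
theorem D8322 : act 4 n3973 = n8322 := rfl
theorem F12381 : act 0 n8322 = n3977 := d3_1 D8322 (iv D3977) (iv F6059)
theorem F12382 : act 3 n8322 = n4057 := d15_1 D8322 (iv D4057) (iv D1941) (iv F3065) D3973
def n8323 : Q := act 5 n3973
theorem D8323 : act 5 n3973 = n8323 := rfl
theorem F12383 : act 0 n8323 = n3978 := d4_1 D8323 (iv D3978) (iv F6059)
theorem F12384 : act 3 n8323 = n3974 := d16_1 D8323 (iv D3974) D3973
theorem F12385 : act 6 n8323 = n7802 := d22_1 D8323 (iv D7802) F5732 (iv F6059)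
def n8325 : Q := act 1 n3976
theorem D8325 : act 1 n3976 = n8325 := rfl
theorem F12389 : act 2 n8325 = n4106 := d6_2 D3976 D8325 (iv D4106) (iv D1966) (iv F3069)
def n8326 : Q := act 3 n3976
theorem D8326 : act 3 n3976 = n8326 := rfl
theorem F12390 : act 0 n8326 = n8252 := d2_1 D8326 (iv F12380) F12379
theorem F12391 : act 2 n8326 = n8249 := d11_1 D8326 (iv D8249) (iv D3936) F3041 D1904 D3973 D8321 F12380 (iv D8252) (iv D3938) (iv D1890) F1644 D938 D1906 D3976
def n8327 : Q := act 4 n3976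
theorem D8327 : act 4 n3976 = n8327 := rfl
theorem F12392 : act 2 n8327 = n3977 := d12_1 D8327 (iv D3977) D3976
def n8328 : Q := act 5 n3976
theorem D8328 : act 5 n3976 = n8328 := rfl
theorem F12393 : act 2 n8328 = n3978 := d13_1 D8328 (iv D3978) D3976
def n8329 : Q := act 5 n3977
theorem D8329 : act 5 n3977 = n8329 := rfl
theorem F12394 : act 3 n8329 = n4064 := d16_1 D8329 (iv D4064) (iv F6066)
theorem F12395 : act 4 n8329 = n3978 := d18_1 D8329 (iv D3978) D3977
def n8330 : Q := act 1 n3978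
theorem D8330 : act 1 n3978 = n8330 := rfl
theorem F12396 : act 3 n8330 = n3979 := d7_2 (iv F6067) D8330 (iv D3979)
theorem F12397 : act 5 n8330 = n4110 := d9_2 D3978 D8330 (iv D4110) (iv D1968) (iv F3069)
def n8331 : Q := act 6 n3978
theorem D8331 : act 6 n3978 = n8331 := rfl
theorem F12398 : act 0 n8331 = n7802 := d5_1 D8331 (iv F12385) F12383
theorem F12399 : act 3 n8331 = n3980 := d17_1 D8331 (iv D3980) (iv F6067)
theorem F12400 : act 5 n8331 = n7799 := d20_1 D8331 F11588 D8323 F12385 (iv D7802) F5732 D3978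
def n8332 : Q := act 0 n3979
theorem D8332 : act 0 n3979 = n8332 := rfl
theorem F12401 : act 4 n8332 = n4067 := d3_2 (iv F6068) D8332 (iv D4067)
theorem F12402 : act 5 n8332 = n4111 := d4_2 (iv F6069) D8332 (iv D4111)
def n8333 : Q := act 6 n3979
theorem D8333 : act 6 n3979 = n8333 := rfl
theorem F12403 : act 2 n8333 = n4877 := d14_1 D8333 (iv F7429) F6206
theorem F12404 : act 4 n8333 = n4068 := d19_1 D8333 (iv D4068) (iv F6068)
def n8334 : Q := act 1 n3980
theorem D8334 : act 1 n3980 = n8334 := rfl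
theorem F12405 : act 4 n8334 = n4069 := d8_2 (iv F6072) D8334 (iv D4069)
def n8335 : Q := act 1 n3981
theorem D8335 : act 1 n3981 = n8335 := rfl
def n8336 : Q := act 2 n3981
theorem D8336 : act 2 n3981 = n8336 := rfl
theorem F12407 : act 0 n8336 = n3982 := d1_1 D8336 (iv D3982) D3981
theorem F12409 : act 5 n8336 = n3986 := d13_2 (iv F6075) D8336 (iv D3986)
def n8337 : Q := act 3 n3982
theorem D8337 : act 3 n3982 = n8337 := rfl
theorem F12410 : act 5 n8337 = n3988 := d16_2 (iv F6077) D8337 (iv D3988)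
def n8338 : Q := act 6 n3982
theorem D8338 : act 6 n3982 = n8338 := rfl
theorem F12411 : act 1 n8338 = n4699 := d10_1 D8338 F7158 D4877 (iv F7429) F6205
def n8339 : Q := act 1 n3983
theorem D8339 : act 1 n3983 = n8339 := rfl
theorem F12414 : act 4 n8339 = n4074 := d8_2 (iv F6078) D8339 (iv D4074)
def n8347 : Q := act 1 n3986
theorem D8347 : act 1 n3986 = n8347 := rfl
theorem F12425 : act 4 n8347 = n4082 := d8_2 (iv F6082) D8347 (iv D4082)
def n8348 : Q := act 3 n3986
theorem D8348 : act 3 n3986 = n8348 := rfl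
theorem F12426 : act 0 n8348 = n3988 := d2_1 D8348 (iv D3988) (iv F6081)
def n8349 : Q := act 6 n3986
theorem D8349 : act 6 n3986 = n8349 := rfl
theorem F12427 : act 0 n8349 = n3989 := d5_1 D8349 (iv D3989) (iv F6081)
theorem F12428 : act 2 n8349 = n3987 := d14_1 D8349 (iv D3987) D3986
theorem F12430 : act 5 n8349 = n8338 := d22_2 F12409 D8349 (iv D8338) (iv F12407)
def n8351 : Q := act 2 n3988
theorem D8351 : act 2 n3988 = n8351 := rfl
def n8352 : Q := act 4 n3988
theorem D8352 : act 4 n3988 = n8352 := rfl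
theorem F12432 : act 1 n8352 = n4114 := d8_1 D8352 (iv D4114) (iv F6086)
theorem F12433 : act 3 n8352 = n4087 := d15_1 D8352 (iv D4087) (iv D1956) (iv F3079) D3988
def n8353 : Q := act 6 n3988
theorem D8353 : act 6 n3988 = n8353 := rfl
theorem F12434 : act 1 n8353 = n4858 := d10_1 D8353 (iv D4858) F3694 (iv F3143) (iv F6086)
def n8357 : Q := act 1 n3997
theorem D8357 : act 1 n3997 = n8357 := rfl
theorem F12444 : act 5 n8357 = n4193 := d9_2 (iv F7522) D8357 F6359 D4236 (iv F11697)
theorem F12445 : act 0 n6786 = n8357 := d4_3 F12444 (iv F10203) D6786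
theorem F12447 : act 0 n7882 = n6967 := d0_9 F10445 F12445 (iv D8357) F7521 (iv F11696) F8838 (iv F5774) (iv F5781) D7882
theorem E54 : n7645 = n6965 := ((c4_4 (iv F11760) F12447 (iv D6967) D6965)).symm
theorem F12451 : act 6 n6965 = n4294 := (sb E54 F11371)
theorem F12452 : act 0 n4294 = n4041 := d5_1 F12451 F6141 D6965
def n8361 : Q := act 3 n4001
theorem D8361 : act 3 n4001 = n8361 := rfl
theorem F12462 : act 0 n8361 = n4002 := d2_1 D8361 (iv D4002) D4001
theorem F12463 : act 1 n8361 = n4937 := d7_1 D8361 F7541 (iv F6103)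
def n8364 : Q := act 4 n4002
theorem D8364 : act 4 n4002 = n8364 := rfl
theorem F12467 : act 1 n8364 = n4006 := d8_1 D8364 (iv D4006) (iv F6104)
def n8369 : Q := act 4 n4005
theorem D8369 : act 4 n4005 = n8369 := rfl
theorem F12475 : act 2 n8369 = n4006 := d12_1 D8369 (iv D4006) D4005
def n8371 : Q := act 6 n4006
theorem D8371 : act 6 n4006 = n8371 := rfl
theorem F12480 : act 0 n8371 = n4015 := d5_1 D8371 (iv D4015) (iv F6107)
theorem F12481 : act 4 n8371 = n4007 := d19_1 D8371 (iv D4007) D4006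
theorem F12482 : act 5 n8371 = n7829 := d22_2 F11643 D8371 (iv D7829) (iv F11642)
def n8372 : Q := act 1 n4007
theorem D8372 : act 1 n4007 = n8372 := rfl
theorem F12483 : act 3 n8372 = n4008 := d7_2 (iv F6109) D8372 (iv D4008)
def n8373 : Q := act 0 n4008
theorem D8373 : act 0 n4008 = n8373 := rfl
def n8375 : Q := act 5 n4008
theorem D8375 : act 5 n4008 = n8375 := rfl
theorem F12485 : act 1 n8375 = n7833 := d9_1 D8375 (iv D7833) (iv D3748) (iv F3085) D4008
theorem F12486 : act 0 n4119 = n8375 := d0_9 F12485 F11659 (iv D4968) (iv D2395) (iv D1166) F1094 D970 D1973 D4119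
theorem F12487 : act 5 n8373 = n4119 := d4_0 F12486 (iv D8375) D8373
def n8384 : Q := act 6 n4013
theorem D8384 : act 6 n4013 = n8384 := rfl
theorem F12503 : act 2 n8384 = n4015 := d14_1 D8384 (iv D4015) (iv F6116)
def n8386 : Q := act 5 n4014
theorem D8386 : act 5 n4014 = n8386 := rfl
theorem F12507 : act 2 n8386 = n4017 := d13_1 D8386 (iv D4017) (iv F6117)
def n8387 : Q := act 1 n4015
theorem D8387 : act 1 n4015 = n8387 := rfl
theorem F12509 : act 4 n8387 = n4016 := d8_2 (iv F6118) D8387 (iv D4016)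
theorem F12510 : act 6 n8387 = n4115 := d10_2 D4015 D8387 (iv D4115) (iv D1971) (iv F3087)
def n8388 : Q := act 5 n4015
theorem D8388 : act 5 n4015 = n8388 := rfl
theorem F12512 : act 4 n8388 = n4017 := d18_1 D8388 (iv D4017) (iv F6118)
theorem F12513 : act 6 n8388 = n7824 := d20_2 D4015 D8388 F11643 D8371 F12482 (iv D7829) F5748
def n8389 : Q := act 0 n4016
theorem D8389 : act 0 n4016 = n8389 := rfl
theorem F12514 : act 3 n8389 = n4018 := d2_2 (iv F6119) D8389 (iv D4018)
theorem F12515 : act 6 n8389 = n4116 := d5_2 (iv F6120) D8389 (iv D4116)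
theorem F12516 : act 5 n8389 = n4954 := d22_0 (iv F7559) (iv D4118) (iv F6120) D8389
def n8390 : Q := act 2 n4016
theorem D8390 : act 2 n4016 = n8390 := rfl
theorem F12517 : act 6 n8390 = n4117 := d14_2 (iv F6120) D8390 (iv D4117)
def n8391 : Q := act 5 n4016
theorem D8391 : act 5 n4016 = n8391 := rfl
theorem F12518 : act 0 n8391 = n4954 := d4_1 D8391 (iv F12516) (iv D8389)
theorem F12519 : act 3 n8391 = n4019 := d16_1 D8391 (iv D4019) (iv F6119)
def n8392 : Q := act 1 n4017
theorem D8392 : act 1 n4017 = n8392 := rfl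
theorem F12520 : act 3 n8392 = n4020 := d7_2 (iv F6122) D8392 (iv D4020)
def n8393 : Q := act 1 n4018
theorem D8393 : act 1 n4018 = n8393 := rfl
def n8394 : Q := act 1 n4019
theorem D8394 : act 1 n4019 = n8394 := rfl
theorem F12522 : act 0 n8394 = n4082 := d0_1 D8394 (iv D4082) F3115 F1676 F950 D585 D1164 D2391 F6183
theorem F12523 : act 5 n8394 = n4020 := d9_2 D4019 D8394 (iv D4020) (iv D1925) D1924
def n8395 : Q := act 0 n4020
theorem D8395 : act 0 n4020 = n8395 := rfl
theorem F12524 : act 5 n8395 = n4082 := d4_2 F12523 D8395 (iv F12522)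
def n8396 : Q := act 2 n4020
theorem D8396 : act 2 n4020 = n8396 := rfl
theorem F12525 : act 1 n8396 = n4027 := d6_1 D8396 (iv D4027) (iv D1929) (iv F3091) D4020
def n8397 : Q := act 6 n4020
theorem D8397 : act 6 n4020 = n8397 := rfl
def n8402 : Q := act 1 n4022
theorem D8402 : act 1 n4022 = n8402 := rfl
def n8403 : Q := act 3 n4022
theorem D8403 : act 3 n4022 = n8403 := rfl
theorem F12529 : act 6 n8403 = n4034 := d17_2 (iv F6126) D8403 (iv D4034)
def n8404 : Q := act 2 n4023
theorem D8404 : act 2 n4023 = n8404 := rfl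
def n8406 : Q := act 5 n4023
theorem D8406 : act 5 n4023 = n8406 := rfl
theorem F12532 : act 3 n8406 = n4024 := d16_1 D8406 (iv D4024) D4023
def n8407 : Q := act 1 n4024
theorem D8407 : act 1 n4024 = n8407 := rfl
def n8408 : Q := act 0 n4025
theorem D8408 : act 0 n4025 = n8408 := rfl
theorem F12533 : act 1 n8408 = n7856 := d0_2 D4025 D8408 (iv F11691) F11692 F6542 D4294 F12452 (iv D4041) F3101
theorem F12534 : act 5 n8408 = n4026 := d4_2 (iv F6129) D8408 (iv D4026)
theorem F12535 : act 1 n4026 = n6682 := d9_1 F12534 F10049 F11722 (iv F11690) (iv F12533)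
def n8409 : Q := act 2 n4025
theorem D8409 : act 2 n4025 = n8409 := rfl
theorem F12536 : act 5 n8409 = n4027 := d13_2 (iv F6129) D8409 (iv D4027)
def n8410 : Q := act 6 n4025
theorem D8410 : act 6 n4025 = n8410 := rfl
theorem F12537 : act 1 n8410 = n7592 := d10_1 D8410 F11289 (iv D4036) F3097 D4025
def n8412 : Q := act 6 n4026
theorem D8412 : act 6 n4026 = n8412 := rfl
theorem F12539 : act 0 n8412 = n4028 := d5_1 D8412 (iv D4028) D4026
theorem F12541 : act 5 n8412 = n8410 := d22_2 F12534 D8412 (iv D8410) D8408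
def n8414 : Q := act 6 n4027
theorem D8414 : act 6 n4027 = n8414 := rfl
theorem F12542 : act 2 n8414 = n4028 := d14_1 D8414 (iv D4028) D4027
def n8418 : Q := act 6 n4029
theorem D8418 : act 6 n4029 = n8418 := rfl
theorem F12547 : act 0 n8418 = n4032 := d5_1 D8418 (iv D4032) D4029
def n8423 : Q := act 1 n4031
theorem D8423 : act 1 n4031 = n8423 := rfl
theorem F12551 : act 5 n8423 = n4036 := d9_2 D4031 D8423 (iv D4036) (iv D1932) D1930
theorem F12552 : act 6 n4031 = n7653 := d24_3 F11289 (iv F12551) (iv D8423) F11712 (iv D4303) D4304 F6558 F10202 (iv F9985) (iv F10049) (iv F12535) D8412 F12541 F12537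
theorem E56 : n8418 = n4303 := ((c22_3 D4031 F12552 F11712 (iv D8418) (iv D4029))).symm
theorem F12555 : act 0 n4303 = n4032 := (sb E56 F12547)
def n8425 : Q := act 0 n4033
theorem D8425 : act 0 n4033 = n8425 := rfl
theorem F12564 : act 1 n8425 = n5031 := d0_2 D4033 D8425 (iv D5031) (iv D2425) (iv D1180) (iv D593) (iv F943) (iv F1666) (iv F3095)
def n8426 : Q := act 3 n4033
theorem D8426 : act 3 n4033 = n8426 := rfl
theorem F12565 : act 1 n8426 = n4034 := d7_1 D8426 (iv D4034) D4033
def n8427 : Q := act 5 n4033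
theorem D8427 : act 5 n4033 = n8427 := rfl
def n8428 : Q := act 6 n4033
theorem D8428 : act 6 n4033 = n8428 := rfl
def n8432 : Q := act 1 n4035
theorem D8432 : act 1 n4035 = n8432 := rfl
def n8435 : Q := act 4 n4037
theorem D8435 : act 4 n4037 = n8435 := rfl
theorem F12576 : act 2 n8435 = n4038 := d12_1 D8435 (iv D4038) D4037
def n8437 : Q := act 5 n4038
theorem D8437 : act 5 n4038 = n8437 := rfl
theorem F12578 : act 1 n8437 = n4995 := d9_1 D8437 (iv D4995) F3787 (iv F3150) (iv F6135)
def n8443 : Q := act 1 n4043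
theorem D8443 : act 1 n4043 = n8443 := rfl
theorem F12593 : act 6 n8443 = n4189 := d10_2 F6436 D8443 F6357 D4232 (iv F6435)
def n8444 : Q := act 1 n4052
theorem D8444 : act 1 n4052 = n8444 := rfl
theorem F12595 : act 0 n8444 = n4121 := d0_1 D8444 (iv D4121) (iv D1976) (iv D972) F945 (iv F916) (iv F1668) D1940 D4052
theorem F12596 : act 6 n8444 = n4784 := d10_2 (iv F11682) D8444 (iv D4784) (iv F6550) F11721
theorem F12597 : act 2 n5879 = n8444 := d14_3 F12596 F7300 D5879
def n8445 : Q := act 3 n4052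
theorem D8445 : act 3 n4052 = n8445 := rfl
theorem F12598 : act 0 n8445 = n4053 := d2_1 D8445 (iv D4053) D4052
def n8446 : Q := act 5 n4052
theorem D8446 : act 5 n4052 = n8446 := rfl
theorem F12599 : act 0 n8446 = n4054 := d4_1 D8446 (iv D4054) D4052
theorem F12601 : act 6 n8446 = n7855 := d22_1 D8446 (iv D7855) F6444 D4052
def n8448 : Q := act 4 n4053
theorem D8448 : act 4 n4053 = n8448 := rfl
theorem F12602 : act 1 n8448 = n4057 := d8_1 D8448 (iv D4057) (iv F6154)
def n8449 : Q := act 5 n4053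
theorem D8449 : act 5 n4053 = n8449 := rfl
theorem F12603 : act 3 n8449 = n4054 := d16_1 D8449 (iv D4054) D4053
def n8450 : Q := act 6 n4054
theorem D8450 : act 6 n4054 = n8450 := rfl
theorem F12605 : act 2 n8450 = n7851 := d14_1 D8450 (iv F11694) F11693
theorem F12606 : act 5 n8450 = n7850 := d20_1 D8450 (iv F11682) D8446 F12601 (iv D7855) F6444 D4054
def n8451 : Q := act 1 n4056
theorem D8451 : act 1 n4056 = n8451 := rfl
theorem F12607 : act 3 n8451 = n8155 := d7_2 (iv F6156) D8451 (iv D8155)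
theorem F12608 : act 6 n8451 = n8451 := d10_2 F11725 D8451 (iv D8451) (iv F11725) F11727
def n8452 : Q := act 4 n4056
theorem D8452 : act 4 n4056 = n8452 := rfl
theorem F12610 : act 2 n8452 = n4057 := d12_1 D8452 (iv D4057) D4056
def n8454 : Q := act 5 n4057
theorem D8454 : act 5 n4057 = n8454 := rfl
theorem F12615 : act 0 n8454 = n4064 := d4_1 D8454 (iv D4064) (iv F6157)
theorem F12616 : act 4 n8454 = n4058 := d18_1 D8454 (iv D4058) D4057
theorem F12617 : act 6 n8454 = n7867 := d22_1 D8454 (iv D7867) F5765 (iv F6157)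
def n8455 : Q := act 1 n4059
theorem D8455 : act 1 n4059 = n8455 := rfl
theorem F12618 : act 2 n8455 = n5937 := d6_2 (iv F6161) D8455 (iv D5937) F4496 (iv F4482)
def n8465 : Q := act 1 n4063
theorem D8465 : act 1 n4063 = n8465 := rfl
def n8466 : Q := act 6 n4063
theorem D8466 : act 6 n4063 = n8466 := rfl
theorem F12635 : act 2 n8466 = n4066 := d14_1 D8466 (iv D4066) (iv F6167)
def n8467 : Q := act 1 n4064
theorem D8467 : act 1 n4064 = n8467 := rfl
theorem F12638 : act 5 n8467 = n4138 := d9_2 D4064 D8467 (iv D4138) (iv D1984) (iv F3107)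
def n8468 : Q := act 6 n4064
theorem D8468 : act 6 n4064 = n8468 := rfl
theorem F12639 : act 0 n8468 = n7867 := d5_1 D8468 (iv F12617) F12615
theorem F12641 : act 5 n8468 = n7862 := d20_1 D8468 F11730 D8454 F12617 (iv D7867) F5765 D4064
def n8469 : Q := act 0 n4065
theorem D8469 : act 0 n4065 = n8469 := rfl
theorem F12642 : act 3 n8469 = n4067 := d2_2 (iv F6169) D8469 (iv D4067)
theorem F12643 : act 5 n8469 = n4139 := d4_2 (iv F6170) D8469 (iv D4139)
def n8471 : Q := act 6 n4065
theorem D8471 : act 6 n4065 = n8471 := rfl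
def n8473 : Q := act 1 n4067
theorem D8473 : act 1 n4067 = n8473 := rfl
def n8474 : Q := act 0 n4069
theorem D8474 : act 0 n4069 = n8474 := rfl
def n8475 : Q := act 5 n4069
theorem D8475 : act 5 n4069 = n8475 := rfl
theorem F12647 : act 1 n8475 = n7860 := d9_1 D8475 (iv D7860) (iv D3762) (iv F3112) D4069
def n8480 : Q := act 1 n4071
theorem D8480 : act 1 n4071 = n8480 := rfl
def n8481 : Q := act 3 n4071
theorem D8481 : act 3 n4071 = n8481 := rfl
theorem F12649 : act 0 n8481 = n4072 := d2_1 D8481 (iv D4072) (iv F6175)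
theorem F12650 : act 5 n8481 = n4083 := d16_2 (iv F6176) D8481 (iv D4083)
def n8482 : Q := act 2 n4072
theorem D8482 : act 2 n4072 = n8482 := rfl
theorem F12651 : act 5 n8482 = n4086 := d13_2 (iv F6177) D8482 (iv D4086)
def n8483 : Q := act 4 n4072
theorem D8483 : act 4 n4072 = n8483 := rfl
theorem F12652 : act 5 n8483 = n4087 := d18_2 (iv F6177) D8483 (iv D4087)
def n8484 : Q := act 6 n4072
theorem D8484 : act 6 n4072 = n8484 := rfl
theorem F12653 : act 1 n8484 = n4774 := d10_1 D8484 F7285 D4954 (iv F7559) F6252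
def n8485 : Q := act 0 n4074
theorem D8485 : act 0 n4074 = n8485 := rfl
theorem F12655 : act 6 n8485 = n4075 := d5_2 (iv F6184) D8485 (iv D4075)
def n8486 : Q := act 5 n4074
theorem D8486 : act 5 n4074 = n8486 := rfl
def n8487 : Q := act 1 n4075
theorem D8487 : act 1 n4075 = n8487 := rfl
def n8489 : Q := act 5 n4075
theorem D8489 : act 5 n4075 = n8489 := rfl
theorem F12658 : act 6 n8489 = n8486 := d22_1 D8489 (iv D8486) F6184 D4075
theorem F12659 : act 1 n6802 = n8489 := d24_14 F12658 (iv D8486) (iv D4074) (iv D1951) F1673 (iv D482) F485 (iv D205) D202 D403 D793 D1591 D3279 D6802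
theorem E57 : n8487 = n6676 := (c9_4 D6802 F12659 (iv D8489) D8487 (iv D6676) (iv F5086))
theorem F12660 : act 1 n6676 = n4075 := (sb E57 (iv D8487))
theorem F12661 : act 1 n7820 = n8485 := d24_14 F12655 D8489 (iv F12659) F10225 F10215 D6797 (iv F10221) (iv D4011) (iv D1920) (iv D943) (iv F1601) D1804 D3742 D7820
def n8492 : Q := act 6 n4077
theorem D8492 : act 6 n4077 = n8492 := rfl
theorem F12665 : act 5 n8492 = n8485 := d20_1 D8492 F12655 D8489 F12658 (iv D8486) F6184 D4077
def n8494 : Q := act 5 n4078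
theorem D8494 : act 5 n4078 = n8494 := rfl
theorem F12670 : act 0 n8494 = n4080 := d4_1 D8494 (iv D4080) D4078
theorem F12671 : act 6 n8494 = n7642 := d22_1 D8494 (iv F11365) (iv D4081) D4078
theorem F12672 : act 1 n7641 = n8494 := d10_5 F12671 (iv D7642) (iv D3663) D3662 D7641
def n8496 : Q := act 1 n4079
theorem D8496 : act 1 n4079 = n8496 := rfl
def n8498 : Q := act 5 n4079
theorem D8498 : act 5 n4079 = n8498 := rfl
theorem F12678 : act 2 n8498 = n4080 := d13_1 D8498 (iv D4080) D4079
def n8504 : Q := act 2 n4083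
theorem D8504 : act 2 n4083 = n8504 := rfl
theorem F12689 : act 3 n8504 = n8181 := d21_1 D8504 (iv D8181) (iv D3907) (iv D1876) F1638 D959 D1956 (iv F6187)
def n8505 : Q := act 4 n4083
theorem D8505 : act 4 n4083 = n8505 := rfl
theorem F12690 : act 0 n8505 = n4087 := d3_1 D8505 (iv D4087) (iv F6187)
def n8506 : Q := act 6 n4083
theorem D8506 : act 6 n4083 = n8506 := rfl
theorem F12691 : act 0 n8506 = n4088 := d5_1 D8506 (iv D4088) (iv F6187)
theorem F12693 : act 5 n8506 = n8484 := d22_2 F12650 D8506 (iv D8484) (iv F12649)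
def n8507 : Q := act 1 n4084
theorem D8507 : act 1 n4084 = n8507 := rfl
theorem F12694 : act 5 n8507 = n4967 := d9_2 (iv F6190) D8507 (iv D4967) F3770 F6179
def n8509 : Q := act 3 n4086
theorem D8509 : act 3 n4086 = n8509 := rfl
theorem F12696 : act 2 n8509 = n8178 := d11_1 D8509 (iv D8178) (iv D3905) F3029 D1954 D4083 D8504 F12689 (iv D8181) (iv D3907) (iv D1876) F1638 D959 D1956 D4086
def n8512 : Q := act 6 n4087
theorem D8512 : act 6 n4087 = n8512 := rfl
theorem F12699 : act 1 n8512 = n4945 := d10_1 D8512 (iv D4945) F3751 (iv F3172) (iv F6191)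
def n8518 : Q := act 0 n4091
theorem D8518 : act 0 n4091 = n8518 := rfl
def n8519 : Q := act 4 n4091
theorem D8519 : act 4 n4091 = n8519 := rfl
theorem F12710 : act 1 n8519 = n4092 := d8_1 D8519 (iv D4092) D4091
def n8520 : Q := act 5 n4091
theorem D8520 : act 5 n4091 = n8520 := rfl
theorem F12711 : act 1 n8520 = n4865 := d9_1 D8520 (iv D4865) (iv D2344) (iv F3123) D4091
def n8521 : Q := act 6 n4091
theorem D8521 : act 6 n4091 = n8521 := rfl
def n8522 : Q := act 3 n4092
theorem D8522 : act 3 n4092 = n8522 := rfl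
theorem F12712 : act 5 n8522 = n4867 := d16_2 (iv F6199) D8522 (iv D4867)
def n8523 : Q := act 6 n4092
theorem D8523 : act 6 n4092 = n8523 := rfl
theorem F12713 : act 2 n8523 = n4094 := d14_1 D8523 (iv D4094) (iv F6198)
theorem F12714 : act 4 n8523 = n4093 := d19_1 D8523 (iv D4093) D4092
def n8524 : Q := act 1 n4093
theorem D8524 : act 1 n4093 = n8524 := rfl
def n8525 : Q := act 1 n4094
theorem D8525 : act 1 n4094 = n8525 := rfl
theorem F12715 : act 3 n8525 = n4115 := d7_2 (iv F6201) D8525 (iv D4115)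
theorem F12716 : act 4 n8525 = n4095 := d8_2 (iv F6202) D8525 (iv D4095)
def n8526 : Q := act 0 n4095
theorem D8526 : act 0 n4095 = n8526 := rfl
theorem F12717 : act 3 n8526 = n4096 := d2_2 (iv F6203) D8526 (iv D4096)
def n8527 : Q := act 2 n4095
theorem D8527 : act 2 n4095 = n8527 := rfl
def n8528 : Q := act 5 n4095
theorem D8528 : act 5 n4095 = n8528 := rfl
theorem F12718 : act 1 n8528 = n8337 := d9_1 D8528 F12410 F6086 F3142 D4095
theorem F12719 : act 3 n8528 = n4097 := d16_1 D8528 (iv D4097) (iv F6203)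
def n8529 : Q := act 1 n4096
theorem D8529 : act 1 n4096 = n8529 := rfl
theorem F12720 : act 4 n8529 = n4119 := d8_2 (iv F6204) D8529 (iv D4119)
def n8530 : Q := act 5 n4096
theorem D8530 : act 5 n4096 = n8530 := rfl
theorem F12721 : act 0 n8530 = n4097 := d4_1 D8530 (iv D4097) D4096
theorem F12722 : act 2 n8530 = n8332 := d13_1 D8530 F12402 F6236
theorem F12723 : act 4 n8530 = n4120 := d18_1 D8530 (iv D4120) (iv F6204)
def n8531 : Q := act 1 n4098
theorem D8531 : act 1 n4098 = n8531 := rfl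
theorem F12725 : act 3 n8531 = n4907 := d7_2 (iv F6210) D8531 (iv D4907)
def n8532 : Q := act 4 n4098
theorem D8532 : act 4 n4098 = n8532 := rfl
theorem F12726 : act 0 n8532 = n4906 := d3_1 D8532 F7481 (iv F6208)
theorem F12727 : act 2 n8532 = n4099 := d12_1 D8532 (iv D4099) D4098
theorem F12728 : act 5 n8532 = n4900 := d18_2 (iv F6209) D8532 (iv D4900)
def n8540 : Q := act 6 n4101
theorem D8540 : act 6 n4101 = n8540 := rfl
theorem F12740 : act 1 n8540 = n4896 := d10_1 D8540 (iv D4896) F3719 (iv F3133) (iv F6216)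
def n8543 : Q := act 1 n4104
theorem D8543 : act 1 n4104 = n8543 := rfl
theorem F12749 : act 3 n8543 = n4106 := d7_2 (iv F6224) D8543 (iv D4106)
def n8544 : Q := act 4 n4104
theorem D8544 : act 4 n4104 = n8544 := rfl
theorem F12750 : act 0 n8544 = n4107 := d3_1 D8544 (iv D4107) (iv F6222)
theorem F12751 : act 2 n8544 = n4105 := d12_1 D8544 (iv D4105) D4104
theorem F12752 : act 6 n8544 = n4900 := d19_2 (iv F6223) D8544 (iv D4900)
def n8545 : Q := act 0 n4106
theorem D8545 : act 0 n4106 = n8545 := rfl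
def n8546 : Q := act 4 n4106
theorem D8546 : act 4 n4106 = n8546 := rfl
theorem F12753 : act 1 n8546 = n4107 := d8_1 D8546 (iv D4107) D4106
def n8547 : Q := act 5 n4106
theorem D8547 : act 5 n4106 = n8547 := rfl
def n8548 : Q := act 6 n4106
theorem D8548 : act 6 n4106 = n8548 := rfl
theorem F12754 : act 1 n8548 = n4904 := d10_1 D8548 (iv D4904) (iv D2361) (iv F3134) D4106
def n8549 : Q := act 3 n4107
theorem D8549 : act 3 n4107 = n8549 := rfl
theorem F12755 : act 6 n8549 = n4905 := d17_2 (iv F6229) D8549 (iv D4905)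
def n8550 : Q := act 5 n4107
theorem D8550 : act 5 n4107 = n8550 := rfl
theorem F12756 : act 2 n8550 = n4109 := d13_1 D8550 (iv D4109) (iv F6228)
theorem F12757 : act 4 n8550 = n4108 := d18_1 D8550 (iv D4108) D4107
theorem F12758 : act 6 n8550 = n8532 := d22_1 D8550 F12728 (iv F12752) F12750
def n8551 : Q := act 1 n4108
theorem D8551 : act 1 n4108 = n8551 := rfl
def n8552 : Q := act 1 n4109
theorem D8552 : act 1 n4109 = n8552 := rfl
theorem F12759 : act 3 n8552 = n4138 := d7_2 (iv F6232) D8552 (iv D4138)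
theorem F12760 : act 4 n8552 = n4110 := d8_2 (iv F6233) D8552 (iv D4110)
def n8553 : Q := act 0 n4110
theorem D8553 : act 0 n4110 = n8553 := rfl
theorem F12761 : act 3 n8553 = n4111 := d2_2 (iv F6235) D8553 (iv D4111)
def n8554 : Q := act 2 n4110
theorem D8554 : act 2 n4110 = n8554 := rfl
def n8555 : Q := act 6 n4110
theorem D8555 : act 6 n4110 = n8555 := rfl
theorem F12762 : act 1 n8555 = n8294 := d10_1 D8555 F12330 F6047 (iv F3138) D4110
theorem F12763 : act 3 n8555 = n4112 := d17_1 D8555 (iv D4112) (iv F6235)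
def n8556 : Q := act 1 n4111
theorem D8556 : act 1 n4111 = n8556 := rfl
theorem F12764 : act 4 n8556 = n4142 := d8_2 (iv F6237) D8556 (iv D4142)
def n8557 : Q := act 6 n4111
theorem D8557 : act 6 n4111 = n8557 := rfl
theorem F12765 : act 0 n8557 = n4112 := d5_1 D8557 (iv D4112) D4111
theorem F12766 : act 2 n8557 = n8289 := d14_1 D8557 F12321 (iv F6236)
theorem F12768 : act 5 n8557 = n8333 := d22_2 F12402 D8557 (iv D8333) D8332
def n8558 : Q := act 5 n4112
theorem D8558 : act 5 n4112 = n8558 := rfl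
theorem F12769 : act 0 n8558 = n8333 := d4_1 D8558 (iv F12768) F12765
theorem F12770 : act 2 n8558 = n8290 := d13_1 D8558 (iv D8290) (iv F6239)
theorem F12771 : act 4 n8558 = n4144 := d18_1 D8558 (iv D4144) (iv F6240)
theorem F12772 : act 6 n8558 = n8332 := d20_2 D4112 D8558 F12402 D8557 F12768 (iv D8333) F6069
def n8559 : Q := act 1 n4113
theorem D8559 : act 1 n4113 = n8559 := rfl
theorem F12773 : act 3 n8559 = n4869 := d7_2 (iv F6244) D8559 (iv D4869)
def n8560 : Q := act 4 n4113
theorem D8560 : act 4 n4113 = n8560 := rfl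
theorem F12774 : act 0 n8560 = n4868 := d3_1 D8560 F7414 (iv F6241)
theorem F12775 : act 2 n8560 = n4114 := d12_1 D8560 (iv D4114) D4113
theorem F12776 : act 5 n8560 = n8523 := d18_2 (iv F6242) D8560 F12714
theorem F12777 : act 6 n8560 = n4862 := d19_2 (iv F6243) D8560 (iv D4862)
def n8561 : Q := act 0 n4115
theorem D8561 : act 0 n4115 = n8561 := rfl
theorem F12778 : act 4 n8561 = n4116 := d3_2 (iv F6249) D8561 (iv D4116)
def n8562 : Q := act 2 n4115
theorem D8562 : act 2 n4115 = n8562 := rfl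
theorem F12779 : act 1 n8562 = n4951 := d6_1 D8562 (iv D4951) (iv D2385) (iv F3144) D4115
theorem F12780 : act 4 n8562 = n4117 := d12_2 (iv F6249) D8562 (iv D4117)
def n8563 : Q := act 5 n4115
theorem D8563 : act 5 n4115 = n8563 := rfl
theorem F12782 : act 4 n8563 = n4118 := d18_1 D8563 (iv D4118) (iv F6249)
def n8564 : Q := act 1 n4116
theorem D8564 : act 1 n4116 = n8564 := rfl
theorem F12783 : act 3 n8564 = n4119 := d7_2 (iv F6250) D8564 (iv D4119)
def n8565 : Q := act 2 n4116
theorem D8565 : act 2 n4116 = n8565 := rfl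
theorem F12784 : act 0 n8565 = n4117 := d1_1 D8565 (iv D4117) D4116
def n8566 : Q := act 5 n4116
theorem D8566 : act 5 n4116 = n8566 := rfl
theorem F12785 : act 0 n8566 = n4118 := d4_1 D8566 (iv D4118) D4116
theorem F12787 : act 6 n8566 = n8391 := d20_2 F12515 D8566 (iv D8391) F6120 D4118 F7559 (iv F12516)
def n8567 : Q := act 3 n4117
theorem D8567 : act 3 n4117 = n8567 := rfl
theorem F12788 : act 1 n8567 = n4957 := d7_1 D8567 (iv D4957) (iv F6251)
def n8571 : Q := act 1 n4120
theorem D8571 : act 1 n4120 = n8571 := rfl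
def n8575 : Q := act 6 n4121
theorem D8575 : act 6 n4121 = n8575 := rfl
theorem F12795 : act 0 n8575 = n4784 := d5_1 D8575 (iv F12596) F12595
def n8587 : Q := act 6 n4126
theorem D8587 : act 6 n4126 = n8587 := rfl
theorem F12807 : act 1 n8587 = n4996 := d10_1 D8587 (iv D4996) F3787 (iv F3157) (iv F6262)
def n8606 : Q := act 2 n4137
theorem D8606 : act 2 n4137 = n8606 := rfl
theorem F12834 : act 1 n8606 = n4140 := d6_1 D8606 (iv D4140) (iv D1985) (iv F3161) D4137
def n8608 : Q := act 0 n4138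
theorem D8608 : act 0 n4138 = n8608 := rfl
theorem F12837 : act 4 n8608 = n4139 := d3_2 (iv F6279) D8608 (iv D4139)
def n8609 : Q := act 2 n4138
theorem D8609 : act 2 n4138 = n8609 := rfl
theorem F12838 : act 4 n8609 = n4140 := d12_2 (iv F6279) D8609 (iv D4140)
def n8610 : Q := act 6 n4138
theorem D8610 : act 6 n4138 = n8610 := rfl
def n8611 : Q := act 1 n4139
theorem D8611 : act 1 n4139 = n8611 := rfl
theorem F12841 : act 3 n8611 = n4142 := d7_2 (iv F6280) D8611 (iv D4142)
def n8612 : Q := act 2 n4139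
theorem D8612 : act 2 n4139 = n8612 := rfl
theorem F12842 : act 0 n8612 = n4140 := d1_1 D8612 (iv D4140) D4139
def n8613 : Q := act 6 n4139
theorem D8613 : act 6 n4139 = n8613 := rfl
theorem F12843 : act 0 n8613 = n4141 := d5_1 D8613 (iv D4141) D4139
theorem F12844 : act 3 n8613 = n4143 := d17_1 D8613 (iv D4143) (iv F6280)
theorem F12845 : act 5 n8613 = n8471 := d22_2 F12643 D8613 (iv D8471) D8469
def n8614 : Q := act 3 n4140
theorem D8614 : act 3 n4140 = n8614 := rfl
def n8615 : Q := act 6 n4140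
theorem D8615 : act 6 n4140 = n8615 := rfl
theorem F12846 : act 2 n8615 = n4141 := d14_1 D8615 (iv D4141) D4140
def n8616 : Q := act 5 n4141
theorem D8616 : act 5 n4141 = n8616 := rfl
theorem F12847 : act 0 n8616 = n8471 := d4_1 D8616 (iv F12845) F12843
theorem F12848 : act 3 n8616 = n4144 := d16_1 D8616 (iv D4144) (iv F6282)
theorem F12849 : act 6 n8616 = n8469 := d20_2 D4141 D8616 F12643 D8613 F12845 (iv D8471) F6170
def n8622 : Q := act 1 n4144
theorem D8622 : act 1 n4144 = n8622 := rfl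
theorem F12851 : act 5 n8622 = n8407 := d9_2 D4144 D8622 (iv D8407) (iv D4024) (iv F3168)
def n8681 : Q := act 4 n4172
theorem D8681 : act 4 n4172 = n8681 := rfl
theorem F12943 : act 2 n8681 = n4195 := d12_1 D8681 (iv D4195) (iv F6328)
def n8704 : Q := act 3 n4182
theorem D8704 : act 3 n4182 = n8704 := rfl
theorem F12979 : act 2 n8704 = n4218 := d21_2 D4182 D8704 (iv D4218) (iv D2020) (iv D994) (iv F1733) D2004 F3195
def n8711 : Q := act 2 n4185
theorem D8711 : act 2 n4185 = n8711 := rfl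
theorem F12990 : act 1 n8711 = n4225 := d6_1 D8711 (iv D4225) (iv D2023) (iv F3197) D4185
theorem F12992 : act 5 n8711 = n7630 := d13_2 F11216 D8711 F11336
def n8727 : Q := act 3 n4195
theorem D8727 : act 3 n4195 = n8727 := rfl
theorem F13023 : act 4 n8727 = n4198 := d15_2 D4195 D8727 (iv D4198) (iv D2011) D2010
def n8746 : Q := act 1 n4204
theorem D8746 : act 1 n4204 = n8746 := rfl
theorem F13054 : act 2 n8746 = n4237 := d6_2 D4204 D8746 (iv D4237) (iv D2033) (iv F3215)
theorem F13055 : act 4 n8746 = n4217 := d8_2 (iv F6380) D8746 (iv D4217)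
def n8747 : Q := act 3 n4204
theorem D8747 : act 3 n4204 = n8747 := rfl
def n8748 : Q := act 5 n4204
theorem D8748 : act 5 n4204 = n8748 := rfl
theorem F13058 : act 2 n8748 = n4205 := d13_1 D8748 (iv D4205) D4204
def n8749 : Q := act 6 n4204
theorem D8749 : act 6 n4204 = n8749 := rfl
theorem F13061 : act 2 n8749 = n4206 := d14_1 D8749 (iv D4206) D4204
theorem F13062 : act 4 n8749 = n4220 := d19_1 D8749 (iv D4220) (iv F6380)
def n8750 : Q := act 1 n4205
theorem D8750 : act 1 n4205 = n8750 := rfl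
theorem F13065 : act 5 n8750 = n4241 := d9_2 D4205 D8750 (iv D4241) (iv D2034) (iv F3215)
def n8752 : Q := act 1 n4206
theorem D8752 : act 1 n4206 = n8752 := rfl
theorem F13072 : act 6 n8752 = n4242 := d10_2 D4206 D8752 (iv D4242) (iv D2035) (iv F3215)
def n8757 : Q := act 0 n4209
theorem D8757 : act 0 n4209 = n8757 := rfl
theorem F13080 : act 4 n8757 = n4214 := d3_2 (iv F6392) D8757 (iv D4214)
theorem F13081 : act 6 n8757 = n4246 := d5_2 (iv F6393) D8757 (iv D4246)
theorem F13082 : act 1 n5285 = n8757 := d8_3 F13080 (iv F6402) (iv F8077)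
def n8759 : Q := act 5 n4209
theorem D8759 : act 5 n4209 = n8759 := rfl
def n8767 : Q := act 0 n4217
theorem D8767 : act 0 n4217 = n8767 := rfl
theorem F13094 : act 2 n8767 = n4261 := d1_2 (iv F6405) D8767 (iv D4261)
def n8768 : Q := act 3 n4217
theorem D8768 : act 3 n4217 = n8768 := rfl
theorem F13095 : act 1 n8768 = n4218 := d7_1 D8768 (iv D4218) D4217
def n8769 : Q := act 5 n4217
theorem D8769 : act 5 n4217 = n8769 := rfl
theorem F13096 : act 2 n8769 = n4263 := d13_1 D8769 (iv D4263) (iv F6405)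
def n8770 : Q := act 6 n4217
theorem D8770 : act 6 n4217 = n8770 := rfl
theorem F13097 : act 2 n8770 = n4264 := d14_1 D8770 (iv D4264) (iv F6405)
def n8771 : Q := act 4 n4218
theorem D8771 : act 4 n4218 = n8771 := rfl
def n8772 : Q := act 5 n4218
theorem D8772 : act 5 n4218 = n8772 := rfl
theorem F13100 : act 3 n8772 = n4219 := d16_1 D8772 (iv D4219) D4218
def n8773 : Q := act 6 n4218
theorem D8773 : act 6 n4218 = n8773 := rfl
theorem F13102 : act 3 n8773 = n4220 := d17_1 D8773 (iv D4220) D4218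
def n8777 : Q := act 0 n4221
theorem D8777 : act 0 n4221 = n8777 := rfl
theorem F13106 : act 3 n8777 = n4224 := d2_2 (iv F6411) D8777 (iv D4224)
theorem F13107 : act 5 n8777 = n4270 := d4_2 (iv F6412) D8777 (iv D4270)
theorem F13108 : act 1 n5572 = n8777 := d7_3 F13106 (iv F6420) (iv F8446)
def n8781 : Q := act 0 n4223
theorem D8781 : act 0 n4223 = n8781 := rfl
theorem F13112 : act 3 n8781 = n4228 := d2_2 (iv F6416) D8781 (iv D4228)
theorem F13113 : act 6 n8781 = n4273 := d5_2 (iv F6417) D8781 (iv D4273)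
theorem F13114 : act 1 n5616 = n8781 := d7_3 F13112 (iv F6427) (iv F8501)
def n8783 : Q := act 5 n4223
theorem D8783 : act 5 n4223 = n8783 := rfl
def n8785 : Q := act 6 n4225
theorem D8785 : act 6 n4225 = n8785 := rfl
theorem F13120 : act 1 n8315 = n8785 := d24_14 (iv D8785) F6422 (iv F5613) D7633 F11348 (iv F5740) (iv D3738) (iv F5736) (iv D3735) (iv F3068) (iv D1905) D1903 (iv F6443) D8315
def n8787 : Q := act 2 n4228
theorem D8787 : act 2 n4228 = n8787 := rfl
theorem F13124 : act 4 n8787 = n4234 := d12_2 (iv F6425) D8787 (iv D4234)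
theorem F13125 : act 6 n8787 = n4283 := d14_2 (iv F6426) D8787 (iv D4283)
def n8792 : Q := act 6 n4231
theorem D8792 : act 6 n4231 = n8792 := rfl
theorem F13134 : act 1 n8145 = n8792 := d24_14 (iv D8792) F6431 (iv F5626) (iv F11321) (iv D7612) (iv F5689) (iv D3703) (iv F5686) (iv D3700) (iv F3022) (iv D1870) D1868 D3890 D8145
def n8794 : Q := act 3 n4234
theorem D8794 : act 3 n4234 = n8794 := rfl
theorem F13138 : act 6 n8794 = n4298 := d17_2 (iv F6448) D8794 (iv D4298)
def n8798 : Q := act 0 n4237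
theorem D8798 : act 0 n4237 = n8798 := rfl
theorem F13143 : act 4 n8798 = n4261 := d3_2 (iv F6451) D8798 (iv D4261)
def n8799 : Q := act 3 n4237
theorem D8799 : act 3 n4237 = n8799 := rfl
theorem F13144 : act 1 n8799 = n4238 := d7_1 D8799 (iv D4238) D4237
def n8800 : Q := act 5 n4237
theorem D8800 : act 5 n4237 = n8800 := rfl
theorem F13145 : act 4 n8800 = n4263 := d18_1 D8800 (iv D4263) (iv F6451)
def n8801 : Q := act 6 n4237
theorem D8801 : act 6 n4237 = n8801 := rfl
theorem F13146 : act 4 n8801 = n4264 := d19_1 D8801 (iv D4264) (iv F6451)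
def n8802 : Q := act 4 n4238
theorem D8802 : act 4 n4238 = n8802 := rfl
theorem F13147 : act 0 n8802 = n4309 := d3_1 D8802 (iv D4309) (iv F6452)
theorem F13148 : act 2 n8802 = n4309 := d12_1 D8802 (iv D4309) (iv F6453)
theorem F13149 : act 3 n8802 = n4265 := d15_1 D8802 (iv D4265) (iv D2045) (iv F3245) D4238
def n8803 : Q := act 5 n4238
theorem D8803 : act 5 n4238 = n8803 := rfl
theorem F13150 : act 0 n8803 = n4310 := d4_1 D8803 (iv D4310) (iv F6452)
theorem F13151 : act 2 n8803 = n4310 := d13_1 D8803 (iv D4310) (iv F6453)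
theorem F13152 : act 3 n8803 = n4239 := d16_1 D8803 (iv D4239) D4238
def n8804 : Q := act 6 n4238
theorem D8804 : act 6 n4238 = n8804 := rfl
theorem F13153 : act 0 n8804 = n4311 := d5_1 D8804 (iv D4311) (iv F6452)
theorem F13154 : act 2 n8804 = n4311 := d14_1 D8804 (iv D4311) (iv F6453)
theorem F13155 : act 3 n8804 = n4240 := d17_1 D8804 (iv D4240) D4238
def n8805 : Q := act 1 n4239
theorem D8805 : act 1 n4239 = n8805 := rfl
theorem F13156 : act 4 n8805 = n4268 := d8_2 (iv F6456) D8805 (iv D4268)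
def n8806 : Q := act 1 n4240
theorem D8806 : act 1 n4240 = n8806 := rfl
theorem F13157 : act 4 n8806 = n4269 := d8_2 (iv F6459) D8806 (iv D4269)
def n8809 : Q := act 6 n4241
theorem D8809 : act 6 n4241 = n8809 := rfl
def n8821 : Q := act 5 n4246
theorem D8821 : act 5 n4246 = n8821 := rfl
theorem F13190 : act 6 n8821 = n8759 := d22_1 D8821 (iv D8759) F6393 D4246
def n8824 : Q := act 6 n4248
theorem D8824 : act 6 n4248 = n8824 := rfl
theorem F13196 : act 5 n8824 = n8757 := d20_1 D8824 F13081 D8821 F13190 (iv D8759) F6393 D4248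
def n8843 : Q := act 1 n4261
theorem D8843 : act 1 n4261 = n8843 := rfl
def n8844 : Q := act 3 n4261
theorem D8844 : act 3 n4261 = n8844 := rfl
theorem F13222 : act 0 n8844 = n4262 := d2_1 D8844 (iv D4262) D4261
def n8845 : Q := act 5 n4261
theorem D8845 : act 5 n4261 = n8845 := rfl
theorem F13223 : act 0 n8845 = n4263 := d4_1 D8845 (iv D4263) D4261
def n8846 : Q := act 6 n4261
theorem D8846 : act 6 n4261 = n8846 := rfl
theorem F13224 : act 0 n8846 = n4264 := d5_1 D8846 (iv D4264) D4261
def n8847 : Q := act 2 n4262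
theorem D8847 : act 2 n4262 = n8847 := rfl
theorem F13225 : act 1 n8847 = n7737 := d6_1 D8847 (iv D7737) F5692 (iv F3261) (iv F6498)
def n8848 : Q := act 4 n4262
theorem D8848 : act 4 n4262 = n8848 := rfl
theorem F13226 : act 1 n8848 = n4265 := d8_1 D8848 (iv D4265) (iv F6498)
def n8849 : Q := act 5 n4262
theorem D8849 : act 5 n4262 = n8849 := rfl
theorem F13227 : act 3 n8849 = n4263 := d16_1 D8849 (iv D4263) D4262
def n8850 : Q := act 6 n4262
theorem D8850 : act 6 n4262 = n8850 := rfl
theorem F13228 : act 3 n8850 = n4264 := d17_1 D8850 (iv D4264) D4262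
def n8851 : Q := act 1 n4263
theorem D8851 : act 1 n4263 = n8851 := rfl
theorem F13229 : act 5 n8851 = n4268 := d9_2 D4263 D8851 (iv D4268) (iv D2046) D2044
def n8852 : Q := act 6 n4263
theorem D8852 : act 6 n4263 = n8852 := rfl
theorem F13230 : act 5 n8852 = n8846 := d22_2 D4263 D8852 (iv D8846) (iv D4261)
def n8853 : Q := act 1 n4264
theorem D8853 : act 1 n4264 = n8853 := rfl
theorem F13231 : act 6 n8853 = n4269 := d10_2 D4264 D8853 (iv D4269) (iv D2047) D2044
def n8854 : Q := act 5 n4264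
theorem D8854 : act 5 n4264 = n8854 := rfl
theorem F13232 : act 0 n8854 = n8852 := d4_1 D8854 F13230 F13224
theorem F13233 : act 6 n8854 = n8845 := d20_2 D4264 D8854 (iv D8845) D8846 (iv F13230) (iv D8852) (iv D4263)
def n8855 : Q := act 5 n4265
theorem D8855 : act 5 n4265 = n8855 := rfl
theorem F13234 : act 0 n8855 = n4389 := d4_1 D8855 (iv D4389) (iv F6499)
theorem F13235 : act 2 n8855 = n7745 := d13_1 D8855 (iv D7745) (iv F6500)
theorem F13236 : act 4 n8855 = n4266 := d18_1 D8855 (iv D4266) D4265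
def n8856 : Q := act 6 n4265
theorem D8856 : act 6 n4265 = n8856 := rfl
theorem F13237 : act 0 n8856 = n4390 := d5_1 D8856 (iv D4390) (iv F6499)
theorem F13238 : act 2 n8856 = n7746 := d14_1 D8856 (iv D7746) (iv F6500)
theorem F13239 : act 4 n8856 = n4267 := d19_1 D8856 (iv D4267) D4265
def n8857 : Q := act 1 n4266
theorem D8857 : act 1 n4266 = n8857 := rfl
theorem F13240 : act 3 n8857 = n4268 := d7_2 (iv F6503) D8857 (iv D4268)
def n8858 : Q := act 1 n4267
theorem D8858 : act 1 n4267 = n8858 := rfl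
theorem F13241 : act 3 n8858 = n4269 := d7_2 (iv F6506) D8858 (iv D4269)
def n8859 : Q := act 0 n4268
theorem D8859 : act 0 n4268 = n8859 := rfl
def n8860 : Q := act 2 n4268
theorem D8860 : act 2 n4268 = n8860 := rfl
theorem F13242 : act 1 n8860 = n4271 := d6_1 D8860 (iv D4271) (iv D2048) (iv F3263) D4268
def n8861 : Q := act 6 n4268
theorem D8861 : act 6 n4268 = n8861 := rfl
def n8862 : Q := act 0 n4269
theorem D8862 : act 0 n4269 = n8862 := rfl
def n8863 : Q := act 2 n4269
theorem D8863 : act 2 n4269 = n8863 := rfl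
theorem F13243 : act 1 n8863 = n4274 := d6_1 D8863 (iv D4274) (iv D2049) (iv F3265) D4269
def n8864 : Q := act 5 n4269
theorem D8864 : act 5 n4269 = n8864 := rfl
def n8865 : Q := act 1 n4270
theorem D8865 : act 1 n4270 = n8865 := rfl
theorem F13245 : act 5 n8865 = n4646 := d9_2 F13107 D8865 F7077 D5572 F13108
def n8873 : Q := act 5 n4273
theorem D8873 : act 5 n4273 = n8873 := rfl
theorem F13262 : act 6 n8873 = n8783 := d22_1 D8873 (iv D8783) F6417 D4273
def n8876 : Q := act 6 n4275
theorem D8876 : act 6 n4275 = n8876 := rfl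
theorem F13266 : act 5 n8876 = n8781 := d20_1 D8876 F13113 D8873 F13262 (iv D8783) F6417 D4275
def n8879 : Q := act 6 n4277
theorem D8879 : act 6 n4277 = n8879 := rfl
theorem F13275 : act 5 n8879 = n8785 := d22_2 F10151 D8879 (iv D8785) (iv F10150)
def n8886 : Q := act 3 n4283
theorem D8886 : act 3 n4283 = n8886 := rfl
theorem F13287 : act 0 n8886 = n4285 := d2_1 D8886 (iv D4285) (iv F6528)
def n8890 : Q := act 5 n4285
theorem D8890 : act 5 n4285 = n8890 := rfl
theorem F13293 : act 3 n8890 = n4286 := d16_1 D8890 (iv D4286) D4285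
def n8891 : Q := act 1 n4286
theorem D8891 : act 1 n4286 = n8891 := rfl
theorem F13294 : act 4 n8891 = n4303 := d8_2 (iv F6534) D8891 (iv D4303)
theorem F13295 : act 0 n8303 = n8891 := d3_3 F13294 F12555 (iv F12342)
def n8896 : Q := act 6 n4289
theorem D8896 : act 6 n4289 = n8896 := rfl
theorem F13308 : act 5 n8896 = n8792 := d22_2 (iv F10107) D8896 (iv D8792) F10106
def n8907 : Q := act 4 n4298
theorem D8907 : act 4 n4298 = n8907 := rfl
theorem F13326 : act 0 n8907 = n4301 := d3_1 D8907 (iv D4301) (iv F6551)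
def n8908 : Q := act 5 n4298
theorem D8908 : act 5 n4298 = n8908 := rfl
theorem F13328 : act 3 n8908 = n4299 := d16_1 D8908 (iv D4299) D4298
def n8913 : Q := act 5 n4301
theorem D8913 : act 5 n4301 = n8913 := rfl
theorem F13334 : act 4 n8913 = n4302 := d18_1 D8913 (iv D4302) D4301
def n8917 : Q := act 3 n4305
theorem D8917 : act 3 n4305 = n8917 := rfl
theorem F13342 : act 0 n8917 = n4306 := d2_1 D8917 (iv D4306) D4305
def n8918 : Q := act 5 n4305
theorem D8918 : act 5 n4305 = n8918 := rfl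
theorem F13343 : act 0 n8918 = n4307 := d4_1 D8918 (iv D4307) D4305
theorem F13344 : act 2 n8918 = n4505 := d13_1 D8918 (iv D4505) (iv F6559)
theorem F13345 : act 4 n8918 = n4376 := d18_1 D8918 (iv D4376) (iv F6560)
def n8919 : Q := act 6 n4305
theorem D8919 : act 6 n4305 = n8919 := rfl
theorem F13346 : act 0 n8919 = n4308 := d5_1 D8919 (iv D4308) D4305
theorem F13347 : act 2 n8919 = n4506 := d14_1 D8919 (iv D4506) (iv F6559)
theorem F13348 : act 4 n8919 = n4377 := d19_1 D8919 (iv D4377) (iv F6560)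
def n8921 : Q := act 4 n4306
theorem D8921 : act 4 n4306 = n8921 := rfl
theorem F13349 : act 1 n8921 = n4309 := d8_1 D8921 (iv D4309) (iv F6561)
theorem F13350 : act 3 n8921 = n4378 := d15_1 D8921 (iv D4378) (iv D2101) (iv F3287) D4306
def n8922 : Q := act 5 n4306
theorem D8922 : act 5 n4306 = n8922 := rfl
theorem F13351 : act 3 n8922 = n4307 := d16_1 D8922 (iv D4307) D4306
def n8923 : Q := act 6 n4306
theorem D8923 : act 6 n4306 = n8923 := rfl
theorem F13352 : act 3 n8923 = n4308 := d17_1 D8923 (iv D4308) D4306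
def n8924 : Q := act 1 n4307
theorem D8924 : act 1 n4307 = n8924 := rfl
theorem F13353 : act 4 n8924 = n4381 := d8_2 (iv F6563) D8924 (iv D4381)
theorem F13354 : act 5 n8924 = n4312 := d9_2 D4307 D8924 (iv D4312) (iv D2070) D2068
def n8925 : Q := act 6 n4307
theorem D8925 : act 6 n4307 = n8925 := rfl
theorem F13355 : act 2 n8925 = n4511 := d14_1 D8925 (iv D4511) (iv F6562)
theorem F13356 : act 4 n8925 = n4382 := d19_1 D8925 (iv D4382) (iv F6563)
theorem F13357 : act 5 n8925 = n8919 := d22_2 D4307 D8925 (iv D8919) (iv D4305)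
def n8926 : Q := act 1 n4308
theorem D8926 : act 1 n4308 = n8926 := rfl
theorem F13358 : act 4 n8926 = n4383 := d8_2 (iv F6565) D8926 (iv D4383)
theorem F13359 : act 6 n8926 = n4314 := d10_2 D4308 D8926 (iv D4314) (iv D2071) D2068
def n8927 : Q := act 5 n4308
theorem D8927 : act 5 n4308 = n8927 := rfl
theorem F13360 : act 0 n8927 = n8925 := d4_1 D8927 F13357 F13346
theorem F13361 : act 2 n8927 = n4513 := d13_1 D8927 (iv D4513) (iv F6564)
theorem F13362 : act 4 n8927 = n4384 := d18_1 D8927 (iv D4384) (iv F6565)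
theorem F13363 : act 6 n8927 = n8918 := d20_2 D4308 D8927 (iv D8918) D8919 (iv F13357) (iv D8925) (iv D4307)
def n8928 : Q := act 5 n4309
theorem D8928 : act 5 n4309 = n8928 := rfl
theorem F13364 : act 3 n8928 = n4389 := d16_1 D8928 (iv D4389) (iv F6566)
theorem F13365 : act 4 n8928 = n4310 := d18_1 D8928 (iv D4310) D4309
def n8929 : Q := act 6 n4309
theorem D8929 : act 6 n4309 = n8929 := rfl
theorem F13366 : act 3 n8929 = n4390 := d17_1 D8929 (iv D4390) (iv F6566)
theorem F13367 : act 4 n8929 = n4311 := d19_1 D8929 (iv D4311) D4309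
def n8930 : Q := act 1 n4310
theorem D8930 : act 1 n4310 = n8930 := rfl
theorem F13368 : act 3 n8930 = n4312 := d7_2 (iv F6567) D8930 (iv D4312)
def n8931 : Q := act 6 n4310
theorem D8931 : act 6 n4310 = n8931 := rfl
theorem F13369 : act 3 n8931 = n4313 := d17_1 D8931 (iv D4313) (iv F6567)
theorem F13370 : act 5 n8931 = n8804 := d22_2 D4310 D8931 (iv D8804) F6452
def n8932 : Q := act 1 n4311
theorem D8932 : act 1 n4311 = n8932 := rfl
theorem F13371 : act 3 n8932 = n4314 := d7_2 (iv F6568) D8932 (iv D4314)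
def n8933 : Q := act 5 n4311
theorem D8933 : act 5 n4311 = n8933 := rfl
theorem F13372 : act 0 n8933 = n8931 := d4_1 D8933 F13370 F13153
theorem F13373 : act 2 n8933 = n8931 := d13_1 D8933 F13370 F13154
theorem F13374 : act 3 n8933 = n4315 := d16_1 D8933 (iv D4315) (iv F6568)
theorem F13375 : act 6 n8933 = n8803 := d20_2 D4311 D8933 (iv D8803) D8804 (iv F13370) (iv D8931) (iv D4310)
def n8934 : Q := act 0 n4312
theorem D8934 : act 0 n4312 = n8934 := rfl
theorem F13376 : act 4 n8934 = n4395 := d3_2 (iv F6569) D8934 (iv D4395)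
def n8935 : Q := act 2 n4312
theorem D8935 : act 2 n4312 = n8935 := rfl
theorem F13377 : act 1 n8935 = n4317 := d6_1 D8935 (iv D4317) (iv D2072) (iv F3288) D4312
theorem F13378 : act 4 n8935 = n4396 := d12_2 (iv F6569) D8935 (iv D4396)
def n8936 : Q := act 6 n4312
theorem D8936 : act 6 n4312 = n8936 := rfl
theorem F13379 : act 4 n8936 = n4397 := d19_1 D8936 (iv D4397) (iv F6569)
def n8937 : Q := act 1 n4313
theorem D8937 : act 1 n4313 = n8937 := rfl
theorem F13380 : act 4 n8937 = n4398 := d8_2 (iv F6571) D8937 (iv D4398)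
def n8938 : Q := act 0 n4314
theorem D8938 : act 0 n4314 = n8938 := rfl
theorem F13381 : act 4 n8938 = n4399 := d3_2 (iv F6573) D8938 (iv D4399)
def n8939 : Q := act 2 n4314
theorem D8939 : act 2 n4314 = n8939 := rfl
theorem F13382 : act 1 n8939 = n4321 := d6_1 D8939 (iv D4321) (iv D2074) (iv F3290) D4314
theorem F13383 : act 4 n8939 = n4400 := d12_2 (iv F6573) D8939 (iv D4400)
def n8940 : Q := act 5 n4314
theorem D8940 : act 5 n4314 = n8940 := rfl
theorem F13384 : act 4 n8940 = n4401 := d18_1 D8940 (iv D4401) (iv F6573)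
def n8941 : Q := act 1 n4315
theorem D8941 : act 1 n4315 = n8941 := rfl
theorem F13385 : act 4 n8941 = n4402 := d8_2 (iv F6576) D8941 (iv D4402)
def n8943 : Q := act 2 n4316
theorem D8943 : act 2 n4316 = n8943 := rfl
theorem F13388 : act 0 n8943 = n4317 := d1_1 D8943 (iv D4317) D4316
theorem F13389 : act 4 n8943 = n4404 := d12_2 (iv F6579) D8943 (iv D4404)
theorem F13390 : act 5 n8943 = n4523 := d13_2 (iv F6580) D8943 (iv D4523)
def n8944 : Q := act 3 n4317
theorem D8944 : act 3 n4317 = n8944 := rfl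
theorem F13391 : act 5 n8944 = n4525 := d16_2 (iv F6582) D8944 (iv D4525)
def n8945 : Q := act 6 n4317
theorem D8945 : act 6 n4317 = n8945 := rfl
theorem F13392 : act 2 n8945 = n4318 := d14_1 D8945 (iv D4318) D4317
def n8946 : Q := act 1 n4318
theorem D8946 : act 1 n4318 = n8946 := rfl
theorem F13396 : act 6 n8946 = n4319 := d10_2 D4318 D8946 (iv D4319) (iv D2073) D2072
def n8947 : Q := act 0 n4319
theorem D8947 : act 0 n4319 = n8947 := rfl
theorem F13397 : act 3 n8947 = n4329 := d2_2 (iv F6585) D8947 (iv D4329)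
theorem F13398 : act 4 n8947 = n4408 := d3_2 (iv F6586) D8947 (iv D4408)
def n8948 : Q := act 2 n4319
theorem D8948 : act 2 n4319 = n8948 := rfl
theorem F13399 : act 4 n8948 = n4409 := d12_2 (iv F6586) D8948 (iv D4409)
def n8949 : Q := act 5 n4319
theorem D8949 : act 5 n4319 = n8949 := rfl
theorem F13401 : act 3 n8949 = n4331 := d16_1 D8949 (iv D4331) (iv F6585)
def n8951 : Q := act 2 n4320
theorem D8951 : act 2 n4320 = n8951 := rfl
theorem F13405 : act 0 n8951 = n4321 := d1_1 D8951 (iv D4321) D4320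
theorem F13407 : act 6 n8951 = n4529 := d14_2 (iv F6589) D8951 (iv D4529)
def n8952 : Q := act 3 n4321
theorem D8952 : act 3 n4321 = n8952 := rfl
theorem F13408 : act 6 n8952 = n4531 := d17_2 (iv F6591) D8952 (iv D4531)
def n8953 : Q := act 5 n4321
theorem D8953 : act 5 n4321 = n8953 := rfl
theorem F13409 : act 2 n8953 = n4322 := d13_1 D8953 (iv D4322) D4321
def n8954 : Q := act 1 n4322
theorem D8954 : act 1 n4322 = n8954 := rfl
theorem F13413 : act 5 n8954 = n4323 := d9_2 D4322 D8954 (iv D4323) (iv D2075) D2074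
def n8955 : Q := act 0 n4323
theorem D8955 : act 0 n4323 = n8955 := rfl
theorem F13414 : act 3 n8955 = n4337 := d2_2 (iv F6594) D8955 (iv D4337)
theorem F13415 : act 4 n8955 = n4416 := d3_2 (iv F6595) D8955 (iv D4416)
def n8956 : Q := act 2 n4323
theorem D8956 : act 2 n4323 = n8956 := rfl
theorem F13416 : act 4 n8956 = n4417 := d12_2 (iv F6595) D8956 (iv D4417)
def n8957 : Q := act 6 n4323
theorem D8957 : act 6 n4323 = n8957 := rfl
theorem F13417 : act 1 n8957 = n8809 := d10_1 D8957 (iv D8809) (iv D4241) (iv F3304) D4323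
def n8967 : Q := act 0 n4328
theorem D8967 : act 0 n4328 = n8967 := rfl
theorem F13436 : act 4 n8967 = n4349 := d3_2 (iv F6604) D8967 (iv D4349)
theorem F13437 : act 6 n8967 = n4329 := d5_2 (iv F6605) D8967 (iv D4329)
def n8968 : Q := act 2 n4328
theorem D8968 : act 2 n4328 = n8968 := rfl
theorem F13438 : act 4 n8968 = n4350 := d12_2 (iv F6604) D8968 (iv D4350)
theorem F13439 : act 6 n8968 = n4330 := d14_2 (iv F6605) D8968 (iv D4330)
def n8969 : Q := act 5 n4328
theorem D8969 : act 5 n4328 = n8969 := rfl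
theorem F13441 : act 4 n8969 = n4351 := d18_1 D8969 (iv D4351) (iv F6604)
theorem F13442 : act 6 n8969 = n5324 := d22_1 D8969 (iv F8145) (iv F13437) (iv D8967)
def n8970 : Q := act 1 n4329
theorem D8970 : act 1 n4329 = n8970 := rfl
def n8971 : Q := act 2 n4329
theorem D8971 : act 2 n4329 = n8971 := rfl
theorem F13445 : act 0 n8971 = n4330 := d1_1 D8971 (iv D4330) D4329
theorem F13446 : act 4 n8971 = n4353 := d12_2 (iv F6606) D8971 (iv D4353)
def n8972 : Q := act 3 n4330
theorem D8972 : act 3 n4330 = n8972 := rfl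
theorem F13447 : act 1 n8972 = n8972 := d7_1 D8972 (iv D8972) F6607
def n8973 : Q := act 5 n4330
theorem D8973 : act 5 n4330 = n8973 := rfl
theorem F13448 : act 2 n8973 = n4331 := d13_1 D8973 (iv D4331) D4330
def n8979 : Q := act 3 n4333
theorem D8979 : act 3 n4333 = n8979 := rfl
theorem F13461 : act 6 n8979 = n4553 := d17_2 (iv F6614) D8979 (iv D4553)
def n8982 : Q := act 5 n4334
theorem D8982 : act 5 n4334 = n8982 := rfl
def n8984 : Q := act 0 n4336
theorem D8984 : act 0 n4336 = n8984 := rfl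
theorem F13470 : act 4 n8984 = n4366 := d3_2 (iv F6619) D8984 (iv D4366)
theorem F13471 : act 5 n8984 = n4337 := d4_2 (iv F6620) D8984 (iv D4337)
def n8985 : Q := act 2 n4336
theorem D8985 : act 2 n4336 = n8985 := rfl
theorem F13473 : act 5 n8985 = n4338 := d13_2 (iv F6620) D8985 (iv D4338)
def n8986 : Q := act 6 n4336
theorem D8986 : act 6 n4336 = n8986 := rfl
theorem F13475 : act 4 n8986 = n4368 := d19_1 D8986 (iv D4368) (iv F6619)
theorem F13476 : act 5 n8986 = n5276 := d22_2 (iv F6620) D8986 (iv F8061) (iv D4337)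
def n8988 : Q := act 2 n4337
theorem D8988 : act 2 n4337 = n8988 := rfl
theorem F13479 : act 0 n8988 = n4338 := d1_1 D8988 (iv D4338) D4337
theorem F13480 : act 4 n8988 = n4370 := d12_2 (iv F6621) D8988 (iv D4370)
def n8989 : Q := act 3 n4338
theorem D8989 : act 3 n4338 = n8989 := rfl
theorem F13481 : act 1 n8989 = n8989 := d7_1 D8989 (iv D8989) F6622
def n8990 : Q := act 6 n4338
theorem D8990 : act 6 n4338 = n8990 := rfl
theorem F13482 : act 2 n8990 = n4339 := d14_1 D8990 (iv D4339) D4338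
def n9001 : Q := act 1 n4345
theorem D9001 : act 1 n4345 = n9001 := rfl
theorem F13496 : act 2 n9001 = n9001 := d6_2 D4345 D9001 (iv D9001) (iv D4345) F3322
def n9008 : Q := act 5 n4348
theorem D9008 : act 5 n4348 = n9008 := rfl
def n9009 : Q := act 2 n4349
theorem D9009 : act 2 n4349 = n9009 := rfl
theorem F13508 : act 0 n9009 = n4350 := d1_1 D9009 (iv D4350) D4349
theorem F13509 : act 6 n9009 = n4353 := d14_2 (iv F6639) D9009 (iv D4353)
def n9011 : Q := act 5 n4350
theorem D9011 : act 5 n4350 = n9011 := rfl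
theorem F13511 : act 2 n9011 = n4351 := d13_1 D9011 (iv D4351) D4350
theorem F13512 : act 6 n9011 = n5482 := d22_1 D9011 F8358 (iv F13509) F13508
def n9013 : Q := act 1 n4353
theorem D9013 : act 1 n4353 = n9013 := rfl
def n9014 : Q := act 3 n4353
theorem D9014 : act 3 n4353 = n9014 := rfl
def n9016 : Q := act 4 n4354
theorem D9016 : act 4 n4354 = n9016 := rfl
def n9029 : Q := act 1 n4362
theorem D9029 : act 1 n4362 = n9029 := rfl
theorem F13531 : act 2 n9029 = n9029 := d6_2 D4362 D9029 (iv D9029) (iv D4362) F3334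
def n9031 : Q := act 5 n4362
theorem D9031 : act 5 n4362 = n9031 := rfl
theorem F13536 : act 6 n9031 = n4827 := d22_1 D9031 (iv D4827) (iv F6838) F6836
def n9032 : Q := act 5 n4363
theorem D9032 : act 5 n4363 = n9032 := rfl
def n9035 : Q := act 2 n4365
theorem D9035 : act 2 n4365 = n9035 := rfl
theorem F13541 : act 1 n9035 = n4367 := d6_1 D9035 (iv D4367) (iv D2096) (iv F3336) D4365
def n9037 : Q := act 2 n4366
theorem D9037 : act 2 n4366 = n9037 := rfl
theorem F13544 : act 5 n9037 = n4370 := d13_2 (iv F6666) D9037 (iv D4370)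
def n9038 : Q := act 3 n4367
theorem D9038 : act 3 n4367 = n9038 := rfl
theorem F13545 : act 5 n9038 = n4371 := d16_2 (iv F6667) D9038 (iv D4371)
def n9039 : Q := act 6 n4367
theorem D9039 : act 6 n4367 = n9039 := rfl
theorem F13546 : act 2 n9039 = n4368 := d14_1 D9039 (iv D4368) D4367
theorem F13547 : act 5 n9039 = n5400 := d22_2 (iv F6667) D9039 F8254 F6673
def n9041 : Q := act 1 n4370
theorem D9041 : act 1 n4370 = n9041 := rfl
def n9042 : Q := act 3 n4370
theorem D9042 : act 3 n4370 = n9042 := rfl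
def n9043 : Q := act 2 n4371
theorem D9043 : act 2 n4371 = n9043 := rfl
def n9044 : Q := act 4 n4371
theorem D9044 : act 4 n4371 = n9044 := rfl
def n9049 : Q := act 2 n4374
theorem D9049 : act 2 n4374 = n9049 := rfl
theorem F13557 : act 1 n9049 = n4621 := d6_1 D9049 (iv D4621) (iv D2223) (iv F3343) D4374
def n9050 : Q := act 3 n4374
theorem D9050 : act 3 n4374 = n9050 := rfl
theorem F13558 : act 1 n9050 = n4375 := d7_1 D9050 (iv D4375) D4374
theorem F13559 : act 2 n4385 = n9050 := d6_0 F13558 F6680 F3344 D2104 D4385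
def n9053 : Q := act 4 n4375
theorem D9053 : act 4 n4375 = n9053 := rfl
theorem F13560 : act 0 n9053 = n4378 := d3_1 D9053 (iv D4378) (iv F6679)
def n9054 : Q := act 5 n4375
theorem D9054 : act 5 n4375 = n9054 := rfl
theorem F13562 : act 0 n9054 = n4379 := d4_1 D9054 (iv D4379) (iv F6679)
theorem F13563 : act 2 n9054 = n4379 := d13_1 D9054 (iv D4379) (iv F6680)
theorem F13564 : act 3 n9054 = n4376 := d16_1 D9054 (iv D4376) D4375
def n9055 : Q := act 6 n4375
theorem D9055 : act 6 n4375 = n9055 := rfl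
theorem F13565 : act 0 n9055 = n4380 := d5_1 D9055 (iv D4380) (iv F6679)
theorem F13566 : act 2 n9055 = n4380 := d14_1 D9055 (iv D4380) (iv F6680)
theorem F13567 : act 3 n9055 = n4377 := d17_1 D9055 (iv D4377) D4375
def n9056 : Q := act 1 n4376
theorem D9056 : act 1 n4376 = n9056 := rfl
def n9057 : Q := act 1 n4377
theorem D9057 : act 1 n4377 = n9057 := rfl
def n9058 : Q := act 5 n4378
theorem D9058 : act 5 n4378 = n9058 := rfl
theorem F13568 : act 4 n9058 = n4379 := d18_1 D9058 (iv D4379) D4378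
def n9059 : Q := act 6 n4378
theorem D9059 : act 6 n4378 = n9059 := rfl
theorem F13569 : act 4 n9059 = n4380 := d19_1 D9059 (iv D4380) D4378
def n9060 : Q := act 1 n4379
theorem D9060 : act 1 n4379 = n9060 := rfl
theorem F13570 : act 3 n9060 = n4381 := d7_2 (iv F6686) D9060 (iv D4381)
theorem F13571 : act 5 n9060 = n4391 := d9_2 D4379 D9060 (iv D4391) (iv D2106) (iv F3344)
def n9061 : Q := act 6 n4379
theorem D9061 : act 6 n4379 = n9061 := rfl
theorem F13572 : act 3 n9061 = n4382 := d17_1 D9061 (iv D4382) (iv F6686)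
theorem F13573 : act 5 n9061 = n9055 := d22_2 D4379 D9061 (iv D9055) F6679
def n9062 : Q := act 1 n4380
theorem D9062 : act 1 n4380 = n9062 := rfl
theorem F13574 : act 3 n9062 = n4383 := d7_2 (iv F6687) D9062 (iv D4383)
theorem F13575 : act 6 n9062 = n4393 := d10_2 D4380 D9062 (iv D4393) (iv D2107) (iv F3344)
def n9063 : Q := act 5 n4380
theorem D9063 : act 5 n4380 = n9063 := rfl
theorem F13576 : act 0 n9063 = n9061 := d4_1 D9063 F13573 F13565
theorem F13577 : act 2 n9063 = n9061 := d13_1 D9063 F13573 F13566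
theorem F13578 : act 3 n9063 = n4384 := d16_1 D9063 (iv D4384) (iv F6687)
theorem F13579 : act 6 n9063 = n9054 := d20_2 D4380 D9063 (iv D9054) D9055 (iv F13573) (iv D9061) (iv D4379)
def n9064 : Q := act 0 n4381
theorem D9064 : act 0 n4381 = n9064 := rfl
theorem F13580 : act 5 n9064 = n4395 := d4_2 (iv F6688) D9064 (iv D4395)
def n9065 : Q := act 2 n4381
theorem D9065 : act 2 n4381 = n9065 := rfl
theorem F13581 : act 1 n9065 = n4627 := d6_1 D9065 (iv D4627) (iv D2226) (iv F3345) D4381
theorem F13582 : act 5 n9065 = n4396 := d13_2 (iv F6688) D9065 (iv D4396)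
def n9066 : Q := act 6 n4381
theorem D9066 : act 6 n4381 = n9066 := rfl
def n9067 : Q := act 1 n4382
theorem D9067 : act 1 n4382 = n9067 := rfl
def n9068 : Q := act 0 n4383
theorem D9068 : act 0 n4383 = n9068 := rfl
theorem F13583 : act 6 n9068 = n4399 := d5_2 (iv F6691) D9068 (iv D4399)
def n9069 : Q := act 2 n4383
theorem D9069 : act 2 n4383 = n9069 := rfl
theorem F13584 : act 1 n9069 = n4631 := d6_1 D9069 (iv D4631) (iv D2228) (iv F3346) D4383
theorem F13585 : act 6 n9069 = n4400 := d14_2 (iv F6691) D9069 (iv D4400)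
def n9070 : Q := act 5 n4383
theorem D9070 : act 5 n4383 = n9070 := rfl
def n9071 : Q := act 1 n4384
theorem D9071 : act 1 n4384 = n9071 := rfl
def n9072 : Q := act 0 n4385
theorem D9072 : act 0 n4385 = n9072 := rfl
theorem F13586 : act 3 n9072 = n7619 := d2_2 (iv F6695) D9072 (iv D7619)
def n9073 : Q := act 4 n4385
theorem D9073 : act 4 n4385 = n9073 := rfl
theorem F13587 : act 1 n9073 = n4386 := d8_1 D9073 (iv D4386) D4385
def n9074 : Q := act 5 n4385
theorem D9074 : act 5 n4385 = n9074 := rfl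
theorem F13588 : act 3 n9074 = n7620 := d16_1 D9074 (iv D7620) (iv F6695)
def n9075 : Q := act 6 n4385
theorem D9075 : act 6 n4385 = n9075 := rfl
theorem F13589 : act 3 n9075 = n7621 := d17_1 D9075 (iv D7621) (iv F6695)
def n9076 : Q := act 3 n4386
theorem D9076 : act 3 n4386 = n9076 := rfl
theorem F13590 : act 0 n9076 = n7664 := d2_1 D9076 F11391 (iv F6696)
theorem F13592 : act 4 n9076 = n7596 := d15_2 D4386 D9076 (iv D7596) F5589 (iv F3348)
def n9077 : Q := act 5 n4386
theorem D9077 : act 5 n4386 = n9077 := rfl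
theorem F13593 : act 0 n9077 = n7745 := d4_1 D9077 (iv D7745) (iv F6696)
theorem F13594 : act 2 n9077 = n4389 := d13_1 D9077 (iv D4389) (iv F6697)
theorem F13595 : act 4 n9077 = n4387 := d18_1 D9077 (iv D4387) D4386
def n9078 : Q := act 6 n4386
theorem D9078 : act 6 n4386 = n9078 := rfl
theorem F13596 : act 0 n9078 = n7746 := d5_1 D9078 (iv D7746) (iv F6696)
theorem F13597 : act 2 n9078 = n4390 := d14_1 D9078 (iv D4390) (iv F6697)
theorem F13598 : act 4 n9078 = n4388 := d19_1 D9078 (iv D4388) D4386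
def n9079 : Q := act 1 n4387
theorem D9079 : act 1 n4387 = n9079 := rfl
theorem F13599 : act 3 n9079 = n7622 := d7_2 (iv F6700) D9079 (iv D7622)
def n9080 : Q := act 1 n4388
theorem D9080 : act 1 n4388 = n9080 := rfl
theorem F13600 : act 3 n9080 = n7623 := d7_2 (iv F6703) D9080 (iv D7623)
def n9081 : Q := act 1 n4389
theorem D9081 : act 1 n4389 = n9081 := rfl
theorem F13601 : act 4 n9081 = n4391 := d8_2 (iv F6704) D9081 (iv D4391)
def n9082 : Q := act 6 n4389
theorem D9082 : act 6 n4389 = n9082 := rfl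
theorem F13602 : act 4 n9082 = n4392 := d19_1 D9082 (iv D4392) (iv F6704)
theorem F13603 : act 5 n9082 = n8856 := d22_2 D4389 D9082 (iv D8856) F6499
def n9083 : Q := act 1 n4390
theorem D9083 : act 1 n4390 = n9083 := rfl
theorem F13604 : act 4 n9083 = n4393 := d8_2 (iv F6705) D9083 (iv D4393)
def n9084 : Q := act 5 n4390
theorem D9084 : act 5 n4390 = n9084 := rfl
theorem F13605 : act 0 n9084 = n9082 := d4_1 D9084 F13603 F13237
theorem F13606 : act 4 n9084 = n4394 := d18_1 D9084 (iv D4394) (iv F6705)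
theorem F13607 : act 6 n9084 = n8855 := d20_2 D4390 D9084 (iv D8855) D8856 (iv F13603) (iv D9082) (iv D4389)
def n9085 : Q := act 0 n4391
theorem D9085 : act 0 n4391 = n9085 := rfl
theorem F13608 : act 3 n9085 = n4395 := d2_2 (iv F6706) D9085 (iv D4395)
def n9086 : Q := act 2 n4391
theorem D9086 : act 2 n4391 = n9086 := rfl
def n9087 : Q := act 6 n4391
theorem D9087 : act 6 n4391 = n9087 := rfl
theorem F13609 : act 3 n9087 = n4397 := d17_1 D9087 (iv D4397) (iv F6706)
def n9088 : Q := act 1 n4392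
theorem D9088 : act 1 n4392 = n9088 := rfl
theorem F13610 : act 3 n9088 = n4398 := d7_2 (iv F6707) D9088 (iv D4398)
def n9089 : Q := act 0 n4393
theorem D9089 : act 0 n4393 = n9089 := rfl
theorem F13611 : act 3 n9089 = n4399 := d2_2 (iv F6709) D9089 (iv D4399)
def n9090 : Q := act 2 n4393
theorem D9090 : act 2 n4393 = n9090 := rfl
def n9091 : Q := act 5 n4393
theorem D9091 : act 5 n4393 = n9091 := rfl
theorem F13612 : act 3 n9091 = n4401 := d16_1 D9091 (iv D4401) (iv F6709)
def n9092 : Q := act 1 n4394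
theorem D9092 : act 1 n4394 = n9092 := rfl
theorem F13613 : act 3 n9092 = n4402 := d7_2 (iv F6711) D9092 (iv D4402)
def n9093 : Q := act 1 n4395
theorem D9093 : act 1 n4395 = n9093 := rfl
def n9094 : Q := act 2 n4395
theorem D9094 : act 2 n4395 = n9094 := rfl
theorem F13614 : act 0 n9094 = n4396 := d1_1 D9094 (iv D4396) D4395
def n9095 : Q := act 6 n4395
theorem D9095 : act 6 n4395 = n9095 := rfl
theorem F13615 : act 0 n9095 = n4397 := d5_1 D9095 (iv D4397) D4395
theorem F13616 : act 5 n9095 = n9066 := d22_2 F13580 D9095 (iv D9066) D9064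
def n9096 : Q := act 3 n4396
theorem D9096 : act 3 n4396 = n9096 := rfl
theorem F13617 : act 1 n9096 = n4405 := d7_1 D9096 (iv D4405) (iv F6713)
def n9097 : Q := act 6 n4396
theorem D9097 : act 6 n4396 = n9097 := rfl
theorem F13618 : act 2 n9097 = n4397 := d14_1 D9097 (iv D4397) D4396
def n9098 : Q := act 1 n4397
theorem D9098 : act 1 n4397 = n9098 := rfl
theorem F13619 : act 6 n9098 = n4398 := d10_2 D4397 D9098 (iv D4398) (iv D2109) D2108
def n9099 : Q := act 5 n4397
theorem D9099 : act 5 n4397 = n9099 := rfl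
theorem F13620 : act 0 n9099 = n9066 := d4_1 D9099 (iv F13616) F13615
theorem F13621 : act 6 n9099 = n9064 := d20_2 D4397 D9099 F13580 D9095 F13616 (iv D9066) F6688
def n9100 : Q := act 0 n4398
theorem D9100 : act 0 n4398 = n9100 := rfl
def n9101 : Q := act 2 n4398
theorem D9101 : act 2 n4398 = n9101 := rfl
theorem F13622 : act 1 n9101 = n4409 := d6_1 D9101 (iv D4409) (iv D2115) (iv F3351) D4398
def n9102 : Q := act 5 n4398
theorem D9102 : act 5 n4398 = n9102 := rfl
theorem F13623 : act 1 n9102 = n8864 := d9_1 D9102 (iv D8864) (iv D4269) (iv F3352) D4398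
def n9103 : Q := act 1 n4399
theorem D9103 : act 1 n4399 = n9103 := rfl
def n9104 : Q := act 2 n4399
theorem D9104 : act 2 n4399 = n9104 := rfl
theorem F13624 : act 0 n9104 = n4400 := d1_1 D9104 (iv D4400) D4399
def n9105 : Q := act 5 n4399
theorem D9105 : act 5 n4399 = n9105 := rfl
theorem F13625 : act 0 n9105 = n4401 := d4_1 D9105 (iv D4401) D4399
theorem F13626 : act 6 n9105 = n9070 := d22_1 D9105 (iv D9070) F6691 D4399
def n9106 : Q := act 3 n4400
theorem D9106 : act 3 n4400 = n9106 := rfl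
theorem F13627 : act 1 n9106 = n4413 := d7_1 D9106 (iv D4413) (iv F6714)
def n9107 : Q := act 5 n4400
theorem D9107 : act 5 n4400 = n9107 := rfl
theorem F13628 : act 2 n9107 = n4401 := d13_1 D9107 (iv D4401) D4400
def n9108 : Q := act 1 n4401
theorem D9108 : act 1 n4401 = n9108 := rfl
theorem F13629 : act 5 n9108 = n4402 := d9_2 D4401 D9108 (iv D4402) (iv D2111) D2110
def n9109 : Q := act 6 n4401
theorem D9109 : act 6 n4401 = n9109 := rfl
theorem F13630 : act 0 n9109 = n9070 := d5_1 D9109 (iv F13626) F13625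
theorem F13631 : act 5 n9109 = n9068 := d20_1 D9109 F13583 D9105 F13626 (iv D9070) F6691 D4401
def n9110 : Q := act 0 n4402
theorem D9110 : act 0 n4402 = n9110 := rfl
def n9111 : Q := act 2 n4402
theorem D9111 : act 2 n4402 = n9111 := rfl
theorem F13632 : act 1 n9111 = n4417 := d6_1 D9111 (iv D4417) (iv D2119) (iv F3354) D4402
def n9112 : Q := act 6 n4402
theorem D9112 : act 6 n4402 = n9112 := rfl
theorem F13633 : act 1 n9112 = n8861 := d10_1 D9112 (iv D8861) (iv D4268) (iv F3355) D4402
def n9116 : Q := act 1 n4404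
theorem D9116 : act 1 n4404 = n9116 := rfl
def n9117 : Q := act 3 n4404
theorem D9117 : act 3 n4404 = n9117 := rfl
theorem F13639 : act 0 n9117 = n4405 := d2_1 D9117 (iv D4405) (iv F6716)
theorem F13640 : act 5 n9117 = n4651 := d16_2 (iv F6717) D9117 (iv D4651)
def n9118 : Q := act 2 n4405
theorem D9118 : act 2 n4405 = n9118 := rfl
theorem F13641 : act 5 n9118 = n4654 := d13_2 (iv F6718) D9118 (iv D4654)
def n9119 : Q := act 4 n4405
theorem D9119 : act 4 n4405 = n9119 := rfl
theorem F13642 : act 5 n9119 = n4655 := d18_2 (iv F6718) D9119 (iv D4655)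
def n9120 : Q := act 6 n4405
theorem D9120 : act 6 n4405 = n9120 := rfl
theorem F13643 : act 3 n9120 = n4406 := d17_1 D9120 (iv D4406) D4405
def n9122 : Q := act 0 n4407
theorem D9122 : act 0 n4407 = n9122 := rfl
theorem F13644 : act 3 n9122 = n4426 := d2_2 (iv F6720) D9122 (iv D4426)
theorem F13645 : act 6 n9122 = n4408 := d5_2 (iv F6721) D9122 (iv D4408)
def n9123 : Q := act 2 n4407
theorem D9123 : act 2 n4407 = n9123 := rfl
theorem F13646 : act 6 n9123 = n4409 := d14_2 (iv F6721) D9123 (iv D4409)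
def n9124 : Q := act 5 n4407
theorem D9124 : act 5 n4407 = n9124 := rfl
theorem F13647 : act 1 n9124 = n5646 := d9_1 D9124 (iv F8536) (iv D4653) F3546 D4407
def n9125 : Q := act 1 n4408
theorem D9125 : act 1 n4408 = n9125 := rfl
def n9126 : Q := act 2 n4408
theorem D9126 : act 2 n4408 = n9126 := rfl
theorem F13652 : act 0 n9126 = n4409 := d1_1 D9126 (iv D4409) D4408
def n9127 : Q := act 3 n4409
theorem D9127 : act 3 n4409 = n9127 := rfl
def n9128 : Q := act 5 n4409
theorem D9128 : act 5 n4409 = n9128 := rfl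
theorem F13653 : act 2 n9128 = n4410 := d13_1 D9128 (iv D4410) D4409
def n9134 : Q := act 3 n4412
theorem D9134 : act 3 n4412 = n9134 := rfl
theorem F13662 : act 0 n9134 = n4413 := d2_1 D9134 (iv D4413) (iv F6726)
theorem F13663 : act 6 n9134 = n4665 := d17_2 (iv F6727) D9134 (iv D4665)
def n9135 : Q := act 2 n4413
theorem D9135 : act 2 n4413 = n9135 := rfl
theorem F13664 : act 6 n9135 = n4668 := d14_2 (iv F6728) D9135 (iv D4668)
def n9136 : Q := act 4 n4413
theorem D9136 : act 4 n4413 = n9136 := rfl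
theorem F13665 : act 6 n9136 = n4669 := d19_2 (iv F6728) D9136 (iv D4669)
def n9137 : Q := act 5 n4413
theorem D9137 : act 5 n4413 = n9137 := rfl
theorem F13666 : act 3 n9137 = n4414 := d16_1 D9137 (iv D4414) D4413
def n9139 : Q := act 0 n4415
theorem D9139 : act 0 n4415 = n9139 := rfl
theorem F13668 : act 3 n9139 = n4443 := d2_2 (iv F6730) D9139 (iv D4443)
theorem F13669 : act 5 n9139 = n4416 := d4_2 (iv F6731) D9139 (iv D4416)
def n9140 : Q := act 2 n4415
theorem D9140 : act 2 n4415 = n9140 := rfl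
theorem F13670 : act 5 n9140 = n4417 := d13_2 (iv F6731) D9140 (iv D4417)
def n9141 : Q := act 6 n4415
theorem D9141 : act 6 n4415 = n9141 := rfl
theorem F13672 : act 3 n9141 = n4445 := d17_1 D9141 (iv D4445) (iv F6730)
theorem F13673 : act 5 n9141 = n5607 := d22_2 (iv F6731) D9141 (iv F8489) (iv D4416)
def n9142 : Q := act 1 n4416
theorem D9142 : act 1 n4416 = n9142 := rfl
theorem F13674 : act 3 n9142 = n4446 := d7_2 (iv F6732) D9142 (iv D4446)
def n9143 : Q := act 2 n4416
theorem D9143 : act 2 n4416 = n9143 := rfl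
theorem F13676 : act 0 n9143 = n4417 := d1_1 D9143 (iv D4417) D4416
def n9144 : Q := act 3 n4417
theorem D9144 : act 3 n4417 = n9144 := rfl
def n9145 : Q := act 6 n4417
theorem D9145 : act 6 n4417 = n9145 := rfl
theorem F13677 : act 2 n9145 = n4418 := d14_1 D9145 (iv D4418) D4417
def n9147 : Q := act 2 n4421
theorem D9147 : act 2 n4421 = n9147 := rfl
theorem F13681 : act 0 n9147 = n4422 := d1_1 D9147 (iv D4422) (iv F6742)
theorem F13682 : act 5 n9147 = n4686 := d13_2 (iv F6744) D9147 (iv D4686)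
theorem F13683 : act 3 n9147 = n9118 := d21_1 D9147 (iv D9118) (iv D4405) (iv D2113) F1804 D1040 D2122 (iv F6742)
def n9148 : Q := act 4 n4421
theorem D9148 : act 4 n4421 = n9148 := rfl
theorem F13684 : act 0 n9148 = n4423 := d3_1 D9148 (iv D4423) (iv F6742)
theorem F13687 : act 5 n9148 = n4687 := d18_2 (iv F6744) D9148 (iv D4687)
def n9149 : Q := act 1 n4422
theorem D9149 : act 1 n4422 = n9149 := rfl
def n9150 : Q := act 3 n4422
theorem D9150 : act 3 n4422 = n9150 := rfl
theorem F13688 : act 0 n9150 = n9118 := d2_1 D9150 (iv F13683) F13681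
theorem F13689 : act 2 n9150 = n9117 := d11_1 D9150 (iv D9117) (iv D4404) F3356 D2121 D4421 D9147 F13683 (iv D9118) (iv D4405) (iv D2113) F1804 D1040 D2122 D4422
theorem F13690 : act 5 n9150 = n4693 := d16_2 (iv F6745) D9150 (iv D4693)
def n9151 : Q := act 4 n4422
theorem D9151 : act 4 n4422 = n9151 := rfl
theorem F13691 : act 2 n9151 = n4423 := d12_1 D9151 (iv D4423) D4422
theorem F13692 : act 5 n9151 = n4694 := d18_2 (iv F6745) D9151 (iv D4694)
def n9152 : Q := act 6 n4422
theorem D9152 : act 6 n4422 = n9152 := rfl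
theorem F13693 : act 2 n9152 = n4424 := d14_1 D9152 (iv D4424) D4422
def n9153 : Q := act 6 n4423
theorem D9153 : act 6 n4423 = n9153 := rfl
theorem F13694 : act 3 n9153 = n4457 := d17_1 D9153 (iv D4457) (iv F6746)
def n9156 : Q := act 2 n4425
theorem D9156 : act 2 n4425 = n9156 := rfl
theorem F13698 : act 1 n9156 = n4427 := d6_1 D9156 (iv D4427) (iv D2124) (iv F3373) D4425
def n9157 : Q := act 5 n4425
theorem D9157 : act 5 n4425 = n9157 := rfl
theorem F13700 : act 4 n9157 = n4461 := d18_1 D9157 (iv D4461) (iv F6749)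
def n9158 : Q := act 2 n4426
theorem D9158 : act 2 n4426 = n9158 := rfl
theorem F13703 : act 6 n9158 = n4430 := d14_2 (iv F6751) D9158 (iv D4430)
def n9159 : Q := act 3 n4427
theorem D9159 : act 3 n4427 = n9159 := rfl
theorem F13704 : act 6 n9159 = n4431 := d17_2 (iv F6753) D9159 (iv D4431)
def n9160 : Q := act 5 n4427
theorem D9160 : act 5 n4427 = n9160 := rfl
theorem F13705 : act 2 n9160 = n4428 := d13_1 D9160 (iv D4428) D4427
def n9163 : Q := act 3 n4430
theorem D9163 : act 3 n4430 = n9163 := rfl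
theorem F13711 : act 0 n9163 = n4431 := d2_1 D9163 (iv D4431) (iv F6759)
def n9164 : Q := act 2 n4431
theorem D9164 : act 2 n4431 = n9164 := rfl
def n9165 : Q := act 4 n4431
theorem D9165 : act 4 n4431 = n9165 := rfl
def n9166 : Q := act 5 n4431
theorem D9166 : act 5 n4431 = n9166 := rfl
theorem F13713 : act 3 n9166 = n4432 := d16_1 D9166 (iv D4432) D4431
def n9177 : Q := act 2 n4438
theorem D9177 : act 2 n4438 = n9177 := rfl
theorem F13733 : act 0 n9177 = n4439 := d1_1 D9177 (iv D4439) (iv F6773)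
theorem F13734 : act 6 n9177 = n4717 := d14_2 (iv F6774) D9177 (iv D4717)
theorem F13735 : act 3 n9177 = n9135 := d21_1 D9177 (iv D9135) (iv D4413) (iv D2117) F1808 D1044 D2130 (iv F6773)
def n9178 : Q := act 4 n4438
theorem D9178 : act 4 n4438 = n9178 := rfl
theorem F13736 : act 0 n9178 = n4440 := d3_1 D9178 (iv D4440) (iv F6773)
theorem F13737 : act 3 n9178 = n4482 := d15_1 D9178 (iv D4482) (iv D2156) (iv F3383) D4438
theorem F13738 : act 6 n9178 = n4718 := d19_2 (iv F6774) D9178 (iv D4718)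
def n9179 : Q := act 1 n4439
theorem D9179 : act 1 n4439 = n9179 := rfl
def n9180 : Q := act 3 n4439
theorem D9180 : act 3 n4439 = n9180 := rfl
theorem F13739 : act 0 n9180 = n9135 := d2_1 D9180 (iv F13735) F13733
theorem F13740 : act 2 n9180 = n9134 := d11_1 D9180 (iv D9134) (iv D4412) F3361 D2129 D4438 D9177 F13735 (iv D9135) (iv D4413) (iv D2117) F1808 D1044 D2130 D4439
theorem F13741 : act 6 n9180 = n4724 := d17_2 (iv F6775) D9180 (iv D4724)
def n9181 : Q := act 4 n4439
theorem D9181 : act 4 n4439 = n9181 := rfl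
theorem F13742 : act 2 n9181 = n4440 := d12_1 D9181 (iv D4440) D4439
theorem F13743 : act 6 n9181 = n4725 := d19_2 (iv F6775) D9181 (iv D4725)
def n9182 : Q := act 5 n4439
theorem D9182 : act 5 n4439 = n9182 := rfl
theorem F13744 : act 2 n9182 = n4441 := d13_1 D9182 (iv D4441) D4439
def n9183 : Q := act 5 n4440
theorem D9183 : act 5 n4440 = n9183 := rfl
theorem F13745 : act 3 n9183 = n4487 := d16_1 D9183 (iv D4487) (iv F6776)
def n9186 : Q := act 2 n4442
theorem D9186 : act 2 n4442 = n9186 := rfl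
theorem F13750 : act 4 n9186 = n4490 := d12_2 (iv F6779) D9186 (iv D4490)
theorem F13751 : act 5 n9186 = n5697 := d13_2 F11595 D9186 F11597
def n9187 : Q := act 6 n4442
theorem D9187 : act 6 n4442 = n9187 := rfl
def n9188 : Q := act 2 n4443
theorem D9188 : act 2 n4443 = n9188 := rfl
theorem F13755 : act 5 n9188 = n4447 := d13_2 (iv F6782) D9188 (iv D4447)
def n9189 : Q := act 3 n4444
theorem D9189 : act 3 n4444 = n9189 := rfl
theorem F13756 : act 5 n9189 = n4448 := d16_2 (iv F6784) D9189 (iv D4448)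
def n9192 : Q := act 1 n4447
theorem D9192 : act 1 n4447 = n9192 := rfl
theorem F13762 : act 4 n9192 = n4496 := d8_2 (iv F6791) D9192 (iv D4496)
def n9193 : Q := act 3 n4447
theorem D9193 : act 3 n4447 = n9193 := rfl
theorem F13763 : act 0 n9193 = n4448 := d2_1 D9193 (iv D4448) (iv F6790)
def n9194 : Q := act 2 n4448
theorem D9194 : act 2 n4448 = n9194 := rfl
def n9195 : Q := act 4 n4448
theorem D9195 : act 4 n4448 = n9195 := rfl
def n9196 : Q := act 6 n4448
theorem D9196 : act 6 n4448 = n9196 := rfl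
theorem F13765 : act 3 n9196 = n4449 := d17_1 D9196 (iv D4449) D4448
def n9199 : Q := act 1 n4451
theorem D9199 : act 1 n4451 = n9199 := rfl
theorem F13772 : act 2 n9199 = n9199 := d6_2 D4451 D9199 (iv D9199) (iv D4451) F3403
theorem F13773 : act 3 n9199 = n9001 := d7_2 (iv F6799) D9199 (iv D9001)
theorem F13774 : act 0 n9199 = n9199 := d21_8 F13772 F13773 F13496 (iv F13773) F13772 F13773 F13496 (iv F13773)
theorem F13775 : act 0 n9001 = n9001 := d21_8 F13496 (iv F13773) F13772 F13773 F13496 (iv F13773) F13772 F13773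
def n9212 : Q := act 2 n4458
theorem D9212 : act 2 n4458 = n9212 := rfl
def n9213 : Q := act 5 n4458
theorem D9213 : act 5 n4458 = n9213 := rfl
theorem F13794 : act 3 n9213 = n4461 := d16_1 D9213 (iv D4461) (iv F6810)
def n9215 : Q := act 2 n4459
theorem D9215 : act 2 n4459 = n9215 := rfl
theorem F13795 : act 0 n9215 = n4460 := d1_1 D9215 (iv D4460) D4459
def n9217 : Q := act 3 n4460
theorem D9217 : act 3 n4460 = n9217 := rfl
theorem F13798 : act 1 n9217 = n4463 := d7_1 D9217 (iv D4463) (iv F6811)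
def n9218 : Q := act 5 n4460
theorem D9218 : act 5 n4460 = n9218 := rfl
theorem F13799 : act 2 n9218 = n4461 := d13_1 D9218 (iv D4461) D4460
def n9220 : Q := act 3 n4462
theorem D9220 : act 3 n4462 = n9220 := rfl
theorem F13800 : act 0 n9220 = n4463 := d2_1 D9220 (iv D4463) (iv F6812)
theorem F13801 : act 6 n9220 = n4467 := d17_2 (iv F6813) D9220 (iv D4467)
def n9223 : Q := act 5 n4463
theorem D9223 : act 5 n4463 = n9223 := rfl
theorem F13804 : act 3 n9223 = n4464 := d16_1 D9223 (iv D4464) D4463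
theorem F13805 : act 6 n9223 = n5958 := d22_1 D9223 F9044 (iv F13801) F13800
def n9237 : Q := act 5 n4469
theorem D9237 : act 5 n4469 = n9237 := rfl
theorem F13817 : act 4 n9237 = n4470 := d18_1 D9237 (iv D4470) D4469
def n9238 : Q := act 1 n4470
theorem D9238 : act 1 n4470 = n9238 := rfl
theorem F13818 : act 3 n9238 = n4471 := d7_2 (iv F6819) D9238 (iv D4471)
def n9261 : Q := act 1 n4481
theorem D9261 : act 1 n4481 = n9261 := rfl
theorem F13841 : act 3 n9261 = n9029 := d7_2 (iv F6833) D9261 (iv D9029)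
def n9274 : Q := act 0 n4488
theorem D9274 : act 0 n4488 = n9274 := rfl
theorem F13859 : act 3 n9274 = n4489 := d2_2 (iv F6843) D9274 (iv D4489)
def n9276 : Q := act 6 n4488
theorem D9276 : act 6 n4488 = n9276 := rfl
def n9278 : Q := act 3 n4490
theorem D9278 : act 3 n4490 = n9278 := rfl
theorem F13862 : act 5 n9278 = n5840 := d16_2 (iv F6845) D9278 F8889
def n9280 : Q := act 3 n4492
theorem D9280 : act 3 n4492 = n9280 := rfl
theorem F13865 : act 5 n9280 = n4497 := d16_2 (iv F6847) D9280 (iv D4497)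
def n9281 : Q := act 2 n4493
theorem D9281 : act 2 n4493 = n9281 := rfl
theorem F13866 : act 5 n9281 = n4498 := d13_2 (iv F6848) D9281 (iv D4498)
def n9288 : Q := act 3 n4496
theorem D9288 : act 3 n4496 = n9288 := rfl
theorem F13873 : act 1 n9288 = n4497 := d7_1 D9288 (iv D4497) D4496
def n9290 : Q := act 6 n4496
theorem D9290 : act 6 n4496 = n9290 := rfl
def n9291 : Q := act 2 n4497
theorem D9291 : act 2 n4497 = n9291 := rfl
theorem F13875 : act 3 n9291 = n9043 := d21_1 D9291 (iv D9043) (iv D4371) (iv D2098) F1800 D1061 D2166 (iv F6852)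
def n9292 : Q := act 4 n4497
theorem D9292 : act 4 n4497 = n9292 := rfl
theorem F13876 : act 0 n9292 = n4499 := d3_1 D9292 (iv D4499) (iv F6852)
def n9293 : Q := act 1 n4498
theorem D9293 : act 1 n4498 = n9293 := rfl
def n9295 : Q := act 4 n4498
theorem D9295 : act 4 n4498 = n9295 := rfl
def n9300 : Q := act 0 n4503
theorem D9300 : act 0 n4503 = n9300 := rfl
theorem F13886 : act 1 n9300 = n5140 := d0_2 D4503 D9300 (iv D5140) (iv D2481) (iv D1209) (iv D610) (iv F1014) D1063 D2169
theorem F13887 : act 4 n9300 = n4620 := d3_2 (iv F6858) D9300 (iv D4620)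
def n9301 : Q := act 2 n4503
theorem D9301 : act 2 n4503 = n9301 := rfl
theorem F13888 : act 4 n9301 = n4621 := d12_2 (iv F6858) D9301 (iv D4621)
def n9302 : Q := act 3 n4503
theorem D9302 : act 3 n4503 = n9302 := rfl
theorem F13889 : act 1 n9302 = n4504 := d7_1 D9302 (iv D4504) D4503
theorem F13890 : act 4 n9302 = n5142 := d15_2 (iv F6858) D9302 (iv D5142) F3899 (iv F3522)
def n9303 : Q := act 5 n4503
theorem D9303 : act 5 n4503 = n9303 := rfl
theorem F13891 : act 4 n9303 = n4622 := d18_1 D9303 (iv D4622) (iv F6858)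
def n9304 : Q := act 6 n4503
theorem D9304 : act 6 n4503 = n9304 := rfl
theorem F13892 : act 4 n9304 = n4623 := d19_1 D9304 (iv D4623) (iv F6858)
def n9305 : Q := act 2 n4504
theorem D9305 : act 2 n4504 = n9305 := rfl
theorem F13893 : act 0 n9305 = n4507 := d1_1 D9305 (iv D4507) (iv F6859)
theorem F13894 : act 4 n9305 = n5145 := d12_2 (iv F6860) D9305 (iv D5145)
def n9306 : Q := act 5 n4504
theorem D9306 : act 5 n4504 = n9306 := rfl
theorem F13895 : act 0 n9306 = n4508 := d4_1 D9306 (iv D4508) (iv F6859)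
theorem F13896 : act 3 n9306 = n4505 := d16_1 D9306 (iv D4505) D4504
theorem F13897 : act 4 n9306 = n5146 := d18_1 D9306 (iv D5146) (iv F6860)
def n9307 : Q := act 6 n4504
theorem D9307 : act 6 n4504 = n9307 := rfl
theorem F13898 : act 0 n9307 = n4509 := d5_1 D9307 (iv D4509) (iv F6859)
theorem F13899 : act 3 n9307 = n4506 := d17_1 D9307 (iv D4506) D4504
theorem F13900 : act 4 n9307 = n5147 := d19_1 D9307 (iv D5147) (iv F6860)
def n9308 : Q := act 1 n4505
theorem D9308 : act 1 n4505 = n9308 := rfl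
theorem F13901 : act 4 n9308 = n4624 := d8_2 (iv F6862) D9308 (iv D4624)
def n9309 : Q := act 1 n4506
theorem D9309 : act 1 n4506 = n9309 := rfl
theorem F13902 : act 4 n9309 = n4625 := d8_2 (iv F6864) D9309 (iv D4625)
def n9310 : Q := act 3 n4507
theorem D9310 : act 3 n4507 = n9310 := rfl
def n9311 : Q := act 5 n4507
theorem D9311 : act 5 n4507 = n9311 := rfl
theorem F13904 : act 2 n9311 = n4508 := d13_1 D9311 (iv D4508) D4507
theorem F13905 : act 4 n9311 = n5151 := d18_1 D9311 (iv D5151) (iv F6866)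
def n9312 : Q := act 6 n4507
theorem D9312 : act 6 n4507 = n9312 := rfl
theorem F13906 : act 2 n9312 = n4509 := d14_1 D9312 (iv D4509) D4507
theorem F13907 : act 4 n9312 = n5152 := d19_1 D9312 (iv D5152) (iv F6866)
def n9313 : Q := act 1 n4508
theorem D9313 : act 1 n4508 = n9313 := rfl
theorem F13908 : act 3 n9313 = n4510 := d7_2 (iv F6867) D9313 (iv D4510)
theorem F13909 : act 4 n9313 = n5153 := d8_2 (iv F6868) D9313 (iv D5153)
theorem F13910 : act 5 n9313 = n4514 := d9_2 D4508 D9313 (iv D4514) (iv D2173) (iv F3441)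
def n9314 : Q := act 6 n4508
theorem D9314 : act 6 n4508 = n9314 := rfl
theorem F13911 : act 3 n9314 = n4511 := d17_1 D9314 (iv D4511) (iv F6867)
theorem F13912 : act 4 n9314 = n5154 := d19_1 D9314 (iv D5154) (iv F6868)
theorem F13913 : act 5 n9314 = n9307 := d22_2 D4508 D9314 (iv D9307) F6859
def n9315 : Q := act 1 n4509
theorem D9315 : act 1 n4509 = n9315 := rfl
theorem F13914 : act 3 n9315 = n4512 := d7_2 (iv F6869) D9315 (iv D4512)
theorem F13915 : act 4 n9315 = n5155 := d8_2 (iv F6870) D9315 (iv D5155)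
theorem F13916 : act 6 n9315 = n4515 := d10_2 D4509 D9315 (iv D4515) (iv D2174) (iv F3441)
def n9316 : Q := act 5 n4509
theorem D9316 : act 5 n4509 = n9316 := rfl
theorem F13917 : act 0 n9316 = n9314 := d4_1 D9316 F13913 F13898
theorem F13918 : act 3 n9316 = n4513 := d16_1 D9316 (iv D4513) (iv F6869)
theorem F13919 : act 4 n9316 = n5156 := d18_1 D9316 (iv D5156) (iv F6870)
theorem F13920 : act 6 n9316 = n9306 := d20_2 D4509 D9316 (iv D9306) D9307 (iv F13913) (iv D9314) (iv D4508)
def n9317 : Q := act 0 n4510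
theorem D9317 : act 0 n4510 = n9317 := rfl
theorem F13921 : act 4 n9317 = n4626 := d3_2 (iv F6871) D9317 (iv D4626)
theorem F13922 : act 5 n9317 = n4516 := d4_2 (iv F6872) D9317 (iv D4516)
def n9318 : Q := act 2 n4510
theorem D9318 : act 2 n4510 = n9318 := rfl
theorem F13923 : act 4 n9318 = n4627 := d12_2 (iv F6871) D9318 (iv D4627)
theorem F13924 : act 5 n9318 = n4517 := d13_2 (iv F6872) D9318 (iv D4517)
def n9319 : Q := act 6 n4510
theorem D9319 : act 6 n4510 = n9319 := rfl
theorem F13925 : act 4 n9319 = n4628 := d19_1 D9319 (iv D4628) (iv F6871)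
def n9320 : Q := act 1 n4511
theorem D9320 : act 1 n4511 = n9320 := rfl
theorem F13926 : act 4 n9320 = n4629 := d8_2 (iv F6873) D9320 (iv D4629)
def n9321 : Q := act 0 n4512
theorem D9321 : act 0 n4512 = n9321 := rfl
theorem F13927 : act 4 n9321 = n4630 := d3_2 (iv F6875) D9321 (iv D4630)
theorem F13928 : act 6 n9321 = n4519 := d5_2 (iv F6876) D9321 (iv D4519)
def n9322 : Q := act 2 n4512
theorem D9322 : act 2 n4512 = n9322 := rfl
theorem F13929 : act 4 n9322 = n4631 := d12_2 (iv F6875) D9322 (iv D4631)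
theorem F13930 : act 6 n9322 = n4520 := d14_2 (iv F6876) D9322 (iv D4520)
def n9323 : Q := act 5 n4512
theorem D9323 : act 5 n4512 = n9323 := rfl
theorem F13931 : act 4 n9323 = n4632 := d18_1 D9323 (iv D4632) (iv F6875)
def n9324 : Q := act 1 n4513
theorem D9324 : act 1 n4513 = n9324 := rfl
theorem F13932 : act 4 n9324 = n4633 := d8_2 (iv F6878) D9324 (iv D4633)
def n9325 : Q := act 0 n4514
theorem D9325 : act 0 n4514 = n9325 := rfl
theorem F13933 : act 3 n9325 = n4516 := d2_2 (iv F6880) D9325 (iv D4516)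
theorem F13934 : act 4 n9325 = n5165 := d3_2 (iv F6881) D9325 (iv D5165)
def n9326 : Q := act 2 n4514
theorem D9326 : act 2 n4514 = n9326 := rfl
theorem F13935 : act 1 n9326 = n9326 := d6_1 D9326 (iv D9326) (iv D4514) F3446 D4514
theorem F13936 : act 4 n9326 = n5166 := d12_2 (iv F6881) D9326 (iv D5166)
def n9327 : Q := act 6 n4514
theorem D9327 : act 6 n4514 = n9327 := rfl
theorem F13937 : act 3 n9327 = n4518 := d17_1 D9327 (iv D4518) (iv F6880)
theorem F13938 : act 4 n9327 = n5167 := d19_1 D9327 (iv D5167) (iv F6881)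
def n9328 : Q := act 0 n4515
theorem D9328 : act 0 n4515 = n9328 := rfl
theorem F13939 : act 3 n9328 = n4519 := d2_2 (iv F6882) D9328 (iv D4519)
theorem F13940 : act 4 n9328 = n5169 := d3_2 (iv F6883) D9328 (iv D5169)
def n9329 : Q := act 2 n4515
theorem D9329 : act 2 n4515 = n9329 := rfl
theorem F13941 : act 1 n9329 = n9329 := d6_1 D9329 (iv D9329) (iv D4515) F3450 D4515
theorem F13942 : act 4 n9329 = n5170 := d12_2 (iv F6883) D9329 (iv D5170)
def n9330 : Q := act 5 n4515
theorem D9330 : act 5 n4515 = n9330 := rfl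
theorem F13943 : act 3 n9330 = n4521 := d16_1 D9330 (iv D4521) (iv F6882)
theorem F13944 : act 4 n9330 = n5171 := d18_1 D9330 (iv D5171) (iv F6883)
def n9331 : Q := act 1 n4516
theorem D9331 : act 1 n4516 = n9331 := rfl
theorem F13945 : act 4 n9331 = n4634 := d8_2 (iv F6884) D9331 (iv D4634)
def n9332 : Q := act 2 n4516
theorem D9332 : act 2 n4516 = n9332 := rfl
theorem F13946 : act 0 n9332 = n4517 := d1_1 D9332 (iv D4517) D4516
theorem F13947 : act 4 n9332 = n4635 := d12_2 (iv F6884) D9332 (iv D4635)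
def n9333 : Q := act 6 n4516
theorem D9333 : act 6 n4516 = n9333 := rfl
theorem F13948 : act 0 n9333 = n4518 := d5_1 D9333 (iv D4518) D4516
theorem F13949 : act 4 n9333 = n4636 := d19_1 D9333 (iv D4636) (iv F6884)
theorem F13950 : act 5 n9333 = n9319 := d22_2 F13922 D9333 (iv D9319) D9317
def n9334 : Q := act 3 n4517
theorem D9334 : act 3 n4517 = n9334 := rfl
theorem F13951 : act 1 n9334 = n4525 := d7_1 D9334 (iv D4525) (iv F6885)
def n9335 : Q := act 6 n4517
theorem D9335 : act 6 n4517 = n9335 := rfl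
theorem F13952 : act 2 n9335 = n4518 := d14_1 D9335 (iv D4518) D4517
theorem F13953 : act 4 n9335 = n4638 := d19_1 D9335 (iv D4638) (iv F6886)
def n9336 : Q := act 5 n4518
theorem D9336 : act 5 n4518 = n9336 := rfl
theorem F13954 : act 0 n9336 = n9319 := d4_1 D9336 (iv F13950) F13948
theorem F13955 : act 4 n9336 = n4639 := d18_1 D9336 (iv D4639) (iv F6887)
theorem F13956 : act 6 n9336 = n9317 := d20_2 D4518 D9336 F13922 D9333 F13950 (iv D9319) F6872
def n9337 : Q := act 1 n4519
theorem D9337 : act 1 n4519 = n9337 := rfl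
theorem F13957 : act 4 n9337 = n4640 := d8_2 (iv F6888) D9337 (iv D4640)
def n9338 : Q := act 2 n4519
theorem D9338 : act 2 n4519 = n9338 := rfl
theorem F13958 : act 0 n9338 = n4520 := d1_1 D9338 (iv D4520) D4519
theorem F13959 : act 4 n9338 = n4641 := d12_2 (iv F6888) D9338 (iv D4641)
def n9339 : Q := act 5 n4519
theorem D9339 : act 5 n4519 = n9339 := rfl
theorem F13960 : act 0 n9339 = n4521 := d4_1 D9339 (iv D4521) D4519
theorem F13961 : act 4 n9339 = n4642 := d18_1 D9339 (iv D4642) (iv F6888)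
theorem F13962 : act 6 n9339 = n9323 := d22_1 D9339 (iv D9323) F6876 D4519
def n9340 : Q := act 3 n4520
theorem D9340 : act 3 n4520 = n9340 := rfl
theorem F13963 : act 1 n9340 = n4531 := d7_1 D9340 (iv D4531) (iv F6889)
def n9341 : Q := act 5 n4520
theorem D9341 : act 5 n4520 = n9341 := rfl
theorem F13964 : act 2 n9341 = n4521 := d13_1 D9341 (iv D4521) D4520
theorem F13965 : act 4 n9341 = n4644 := d18_1 D9341 (iv D4644) (iv F6890)
def n9342 : Q := act 6 n4521
theorem D9342 : act 6 n4521 = n9342 := rfl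
theorem F13966 : act 0 n9342 = n9323 := d5_1 D9342 (iv F13962) F13960
theorem F13967 : act 4 n9342 = n4645 := d19_1 D9342 (iv D4645) (iv F6891)
theorem F13968 : act 5 n9342 = n9321 := d20_1 D9342 F13928 D9339 F13962 (iv D9323) F6876 D4521
def n9347 : Q := act 1 n4523
theorem D9347 : act 1 n4523 = n9347 := rfl
theorem F13977 : act 4 n9347 = n4650 := d8_2 (iv F6895) D9347 (iv D4650)
def n9348 : Q := act 3 n4523
theorem D9348 : act 3 n4523 = n9348 := rfl
theorem F13978 : act 0 n9348 = n4525 := d2_1 D9348 (iv D4525) (iv F6894)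
def n9349 : Q := act 6 n4523
theorem D9349 : act 6 n4523 = n9349 := rfl
theorem F13979 : act 0 n9349 = n4526 := d5_1 D9349 (iv D4526) (iv F6894)
theorem F13980 : act 2 n9349 = n4524 := d14_1 D9349 (iv D4524) D4523
theorem F13981 : act 4 n9349 = n4652 := d19_1 D9349 (iv D4652) (iv F6895)
theorem F13982 : act 5 n9349 = n8945 := d22_2 F13390 D9349 (iv D8945) (iv F13388)
def n9350 : Q := act 1 n4524
theorem D9350 : act 1 n4524 = n9350 := rfl
theorem F13983 : act 3 n9350 = n4541 := d7_2 (iv F6897) D9350 (iv D4541)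
def n9351 : Q := act 2 n4525
theorem D9351 : act 2 n4525 = n9351 := rfl
def n9352 : Q := act 4 n4525
theorem D9352 : act 4 n4525 = n9352 := rfl
theorem F13985 : act 3 n9352 = n4655 := d15_1 D9352 (iv D4655) (iv D2239) (iv F3457) D4525
def n9353 : Q := act 6 n4525
theorem D9353 : act 6 n4525 = n9353 := rfl
theorem F13986 : act 3 n9353 = n4526 := d17_1 D9353 (iv D4526) D4525
def n9354 : Q := act 1 n4526
theorem D9354 : act 1 n4526 = n9354 := rfl
theorem F13987 : act 4 n9354 = n4657 := d8_2 (iv F6901) D9354 (iv D4657)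
def n9355 : Q := act 5 n4526
theorem D9355 : act 5 n4526 = n9355 := rfl
theorem F13989 : act 2 n9355 = n4527 := d13_1 D9355 (iv D4527) (iv F6900)
def n9361 : Q := act 1 n4529
theorem D9361 : act 1 n4529 = n9361 := rfl
theorem F14002 : act 4 n9361 = n4664 := d8_2 (iv F6909) D9361 (iv D4664)
def n9362 : Q := act 3 n4529
theorem D9362 : act 3 n4529 = n9362 := rfl
theorem F14003 : act 0 n9362 = n4531 := d2_1 D9362 (iv D4531) (iv F6908)
def n9363 : Q := act 5 n4529
theorem D9363 : act 5 n4529 = n9363 := rfl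
theorem F14004 : act 0 n9363 = n4532 := d4_1 D9363 (iv D4532) (iv F6908)
theorem F14005 : act 2 n9363 = n4530 := d13_1 D9363 (iv D4530) D4529
theorem F14006 : act 4 n9363 = n4666 := d18_1 D9363 (iv D4666) (iv F6909)
theorem F14007 : act 6 n9363 = n8953 := d22_1 D9363 (iv D8953) F6591 (iv F6908)
def n9364 : Q := act 1 n4530
theorem D9364 : act 1 n4530 = n9364 := rfl
theorem F14008 : act 3 n9364 = n4555 := d7_2 (iv F6911) D9364 (iv D4555)
def n9365 : Q := act 2 n4531
theorem D9365 : act 2 n4531 = n9365 := rfl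
def n9366 : Q := act 4 n4531
theorem D9366 : act 4 n4531 = n9366 := rfl
theorem F14010 : act 3 n9366 = n4669 := d15_1 D9366 (iv D4669) (iv D2245) (iv F3462) D4531
def n9367 : Q := act 5 n4531
theorem D9367 : act 5 n4531 = n9367 := rfl
theorem F14011 : act 3 n9367 = n4532 := d16_1 D9367 (iv D4532) D4531
def n9368 : Q := act 1 n4532
theorem D9368 : act 1 n4532 = n9368 := rfl
theorem F14012 : act 4 n9368 = n4671 := d8_2 (iv F6915) D9368 (iv D4671)
def n9377 : Q := act 6 n4536
theorem D9377 : act 6 n4536 = n9377 := rfl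
theorem F14032 : act 1 n5284 = n9377 := d24_14 (iv D9377) (iv D4536) (iv D2183) D2185 F3470 D4328 F6605 D4331 F6609 D8824 F13196 (iv F13082) (iv D5285) D5284
def n9378 : Q := act 1 n4537
theorem D9378 : act 1 n4537 = n9378 := rfl
theorem F14034 : act 6 n9378 = n4541 := d10_2 D4537 D9378 (iv D4541) (iv D2185) D2183
theorem F14035 : act 5 n5317 = n9378 := d22_0 F14034 F8136 (iv D5320) D5317
def n9384 : Q := act 2 n4539
theorem D9384 : act 2 n4539 = n9384 := rfl
theorem F14044 : act 0 n9384 = n4542 := d1_1 D9384 (iv D4542) (iv F6926)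
theorem F14045 : act 3 n9384 = n9351 := d21_1 D9384 (iv D9351) (iv D4525) (iv D2178) F1849 D1070 D2186 (iv F6926)
def n9389 : Q := act 2 n4541
theorem D9389 : act 2 n4541 = n9389 := rfl
theorem F14055 : act 4 n9389 = n4579 := d12_2 (iv F6931) D9389 (iv D4579)
def n9390 : Q := act 1 n4542
theorem D9390 : act 1 n4542 = n9390 := rfl
theorem F14056 : act 2 n9390 = n5256 := d6_2 D4542 D9390 (iv D5256) (iv D2530) (iv F3471)
def n9391 : Q := act 3 n4542
theorem D9391 : act 3 n4542 = n9391 := rfl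
theorem F14057 : act 0 n9391 = n9351 := d2_1 D9391 (iv F14045) F14044
theorem F14058 : act 2 n9391 = n9348 := d11_1 D9391 (iv D9348) (iv D4523) F3455 D2184 D4539 D9384 F14045 (iv D9351) (iv D4525) (iv D2178) F1849 D1070 D2186 D4542
def n9393 : Q := act 6 n4542
theorem D9393 : act 6 n4542 = n9393 := rfl
theorem F14060 : act 2 n9393 = n4544 := d14_1 D9393 (iv D4544) D4542
def n9397 : Q := act 0 n4545
theorem D9397 : act 0 n4545 = n9397 := rfl
theorem F14068 : act 4 n9397 = n4586 := d3_2 (iv F6935) D9397 (iv D4586)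
def n9408 : Q := act 1 n4550
theorem D9408 : act 1 n4550 = n9408 := rfl
theorem F14088 : act 5 n9408 = n4555 := d9_2 D4550 D9408 (iv D4555) (iv D2191) D2189
theorem F14089 : act 0 n5272 = n9408 := d22_4 F14088 F8051 (iv D5271) D5272
theorem F14090 : act 6 n5269 = n9408 := d24_0 F14088 (iv D4555) F3482 (iv D2082) (iv D1021) (iv D516) D515 D1019 D2078 (iv F3470) D4541 (iv F14034) (iv F14035) F8131
def n9415 : Q := act 2 n4553
theorem D9415 : act 2 n4553 = n9415 := rfl
theorem F14101 : act 0 n9415 = n4556 := d1_1 D9415 (iv D4556) (iv F6948)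
theorem F14102 : act 3 n9415 = n9365 := d21_1 D9415 (iv D9365) (iv D4531) (iv D2181) F1851 D1073 D2192 (iv F6948)
def n9417 : Q := act 5 n4553
theorem D9417 : act 5 n4553 = n9417 := rfl
theorem F14106 : act 3 n9417 = n4554 := d16_1 D9417 (iv D4554) D4553
theorem F14107 : act 6 n9417 = n8982 := d22_1 D9417 (iv D8982) F6616 (iv F6948)
def n9419 : Q := act 0 n4555
theorem D9419 : act 0 n4555 = n9419 := rfl
theorem F14110 : act 4 n9419 = n4607 := d3_2 (iv F6953) D9419 (iv D4607)
theorem F14111 : act 5 n9419 = n5272 := d4_2 F14088 D9419 F14089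
def n9421 : Q := act 1 n4556
theorem D9421 : act 1 n4556 = n9421 := rfl
theorem F14113 : act 2 n9421 = n5304 := d6_2 D4556 D9421 (iv D5304) (iv D2551) (iv F3483)
def n9422 : Q := act 3 n4556
theorem D9422 : act 3 n4556 = n9422 := rfl
theorem F14114 : act 0 n9422 = n9365 := d2_1 D9422 (iv F14102) F14101
theorem F14115 : act 2 n9422 = n9362 := d11_1 D9422 (iv D9362) (iv D4529) F3460 D2190 D4553 D9415 F14102 (iv D9365) (iv D4531) (iv D2181) F1851 D1073 D2192 D4556
def n9424 : Q := act 5 n4556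
theorem D9424 : act 5 n4556 = n9424 := rfl
theorem F14117 : act 2 n9424 = n4558 := d13_1 D9424 (iv D4558) D4556
def n9427 : Q := act 6 n4558
theorem D9427 : act 6 n4558 = n9427 := rfl
theorem F14124 : act 5 n9427 = n8979 := d20_1 D9427 F13461 D9417 F14107 (iv D8982) F6616 D4558
def n9428 : Q := act 0 n4559
theorem D9428 : act 0 n4559 = n9428 := rfl
theorem F14126 : act 5 n9428 = n5310 := d4_2 (iv F6958) D9428 (iv D5310)
def n9430 : Q := act 1 n4560
theorem D9430 : act 1 n4560 = n9430 := rfl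
theorem F14128 : act 4 n9430 = n4617 := d8_2 (iv F6961) D9430 (iv D4617)
def n9448 : Q := act 2 n4569
theorem D9448 : act 2 n4569 = n9448 := rfl
theorem F14152 : act 5 n9448 = n5469 := d13_2 F6976 D9448 (iv D5469)
def n9449 : Q := act 1 n4571
theorem D9449 : act 1 n4571 = n9449 := rfl
theorem F14154 : act 0 n9449 = n5350 := d0_1 D9449 (iv D5350) (iv D2574) (iv D1249) F1168 (iv F1025) (iv F1862) D2199 D4571
def n9462 : Q := act 2 n4577
theorem D9462 : act 2 n4577 = n9462 := rfl
theorem F14170 : act 1 n9462 = n4579 := d6_1 D9462 (iv D4579) (iv D2202) (iv F3495) D4577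
def n9463 : Q := act 5 n4577
theorem D9463 : act 5 n4577 = n9463 := rfl
theorem F14171 : act 1 n9463 = n9008 := d9_1 D9463 (iv D9008) (iv D4348) (iv F3496) D4577
def n9468 : Q := act 5 n4580
theorem D9468 : act 5 n4580 = n9468 := rfl
theorem F14177 : act 2 n9468 = n5354 := d13_1 D9468 (iv D5354) (iv F6989)
def n9475 : Q := act 0 n4584
theorem D9475 : act 0 n4584 = n9475 := rfl
theorem F14186 : act 3 n9475 = n4586 := d2_2 (iv F6993) D9475 (iv D4586)
def n9477 : Q := act 5 n4584
theorem D9477 : act 5 n4584 = n9477 := rfl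
theorem F14189 : act 3 n9477 = n4587 := d16_1 D9477 (iv D4587) (iv F6993)
def n9480 : Q := act 1 n4587
theorem D9480 : act 1 n4587 = n9480 := rfl
theorem F14191 : act 5 n9480 = n4588 := d9_2 D4587 D9480 (iv D4588) (iv D2207) D2206
def n9502 : Q := act 2 n4597
theorem D9502 : act 2 n4597 = n9502 := rfl
theorem F14217 : act 6 n9502 = n5387 := d14_2 F7012 D9502 (iv D5387)
def n9503 : Q := act 1 n4600
theorem D9503 : act 1 n4600 = n9503 := rfl
theorem F14218 : act 0 n9503 = n5432 := d0_1 D9503 (iv D5432) (iv D2617) (iv D1269) F1181 (iv F1028) (iv F1872) D2213 D4600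
def n9511 : Q := act 1 n4602
theorem D9511 : act 1 n4602 = n9511 := rfl
theorem F14227 : act 5 n9511 = n4606 := d9_2 D4602 D9511 (iv D4606) (iv D2215) D2213
def n9514 : Q := act 5 n4604
theorem D9514 : act 5 n4604 = n9514 := rfl
theorem F14232 : act 4 n9514 = n4605 := d18_1 D9514 (iv D4605) D4604
theorem F14233 : act 6 n9514 = n9032 := d22_1 D9514 (iv D9032) F6661 (iv F7020)
def n9517 : Q := act 2 n4606
theorem D9517 : act 2 n4606 = n9517 := rfl
theorem F14235 : act 1 n9517 = n4608 := d6_1 D9517 (iv D4608) (iv D2216) (iv F3511) D4606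
def n9519 : Q := act 2 n4607
theorem D9519 : act 2 n4607 = n9519 := rfl
theorem F14238 : act 5 n9519 = n5392 := d13_2 (iv F7026) D9519 F8247
def n9524 : Q := act 6 n4609
theorem D9524 : act 6 n4609 = n9524 := rfl
theorem F14243 : act 2 n9524 = n5438 := d14_1 D9524 (iv D5438) (iv F7027)
def n9533 : Q := act 1 n4614
theorem D9533 : act 1 n4614 = n9533 := rfl
theorem F14255 : act 3 n9533 = n4617 := d7_2 (iv F7034) D9533 (iv D4617)
def n9537 : Q := act 2 n4617
theorem D9537 : act 2 n4617 = n9537 := rfl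
theorem F14257 : act 1 n9537 = n4618 := d6_1 D9537 (iv D4618) (iv D2222) (iv F3518) D4617
def n9541 : Q := act 2 n4620
theorem D9541 : act 2 n4620 = n9541 := rfl
theorem F14262 : act 0 n9541 = n4621 := d1_1 D9541 (iv D4621) D4620
def n9542 : Q := act 5 n4620
theorem D9542 : act 5 n4620 = n9542 := rfl
theorem F14263 : act 0 n9542 = n4622 := d4_1 D9542 (iv D4622) D4620
theorem F14264 : act 3 n9542 = n5494 := d16_1 D9542 (iv D5494) (iv F7042)
def n9543 : Q := act 6 n4620
theorem D9543 : act 6 n4620 = n9543 := rfl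
theorem F14265 : act 0 n9543 = n4623 := d5_1 D9543 (iv D4623) D4620
theorem F14266 : act 3 n9543 = n5495 := d17_1 D9543 (iv D5495) (iv F7042)
def n9544 : Q := act 3 n4621
theorem D9544 : act 3 n4621 = n9544 := rfl
def n9545 : Q := act 5 n4621
theorem D9545 : act 5 n4621 = n9545 := rfl
theorem F14267 : act 2 n9545 = n4622 := d13_1 D9545 (iv D4622) D4621
def n9546 : Q := act 6 n4621
theorem D9546 : act 6 n4621 = n9546 := rfl
theorem F14268 : act 2 n9546 = n4623 := d14_1 D9546 (iv D4623) D4621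
def n9547 : Q := act 1 n4622
theorem D9547 : act 1 n4622 = n9547 := rfl
theorem F14269 : act 3 n9547 = n5499 := d7_2 (iv F7043) D9547 (iv D5499)
theorem F14270 : act 5 n9547 = n4624 := d9_2 D4622 D9547 (iv D4624) (iv D2224) D2223
def n9548 : Q := act 6 n4622
theorem D9548 : act 6 n4622 = n9548 := rfl
theorem F14271 : act 3 n9548 = n5500 := d17_1 D9548 (iv D5500) (iv F7043)
theorem F14272 : act 5 n9548 = n9543 := d22_2 D4622 D9548 (iv D9543) (iv D4620)
def n9549 : Q := act 1 n4623
theorem D9549 : act 1 n4623 = n9549 := rfl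
theorem F14273 : act 3 n9549 = n5501 := d7_2 (iv F7044) D9549 (iv D5501)
theorem F14274 : act 6 n9549 = n4625 := d10_2 D4623 D9549 (iv D4625) (iv D2225) D2223
def n9550 : Q := act 5 n4623
theorem D9550 : act 5 n4623 = n9550 := rfl
theorem F14275 : act 0 n9550 = n9548 := d4_1 D9550 F14272 F14265
theorem F14276 : act 3 n9550 = n5502 := d16_1 D9550 (iv D5502) (iv F7044)
theorem F14277 : act 6 n9550 = n9542 := d20_2 D4623 D9550 (iv D9542) D9543 (iv F14272) (iv D9548) (iv D4622)
def n9551 : Q := act 0 n4624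
theorem D9551 : act 0 n4624 = n9551 := rfl
theorem F14278 : act 3 n9551 = n5503 := d2_2 (iv F7045) D9551 (iv D5503)
def n9552 : Q := act 2 n4624
theorem D9552 : act 2 n4624 = n9552 := rfl
def n9553 : Q := act 6 n4624
theorem D9553 : act 6 n4624 = n9553 := rfl
theorem F14279 : act 3 n9553 = n5505 := d17_1 D9553 (iv D5505) (iv F7045)
def n9554 : Q := act 0 n4625
theorem D9554 : act 0 n4625 = n9554 := rfl
theorem F14280 : act 3 n9554 = n5506 := d2_2 (iv F7046) D9554 (iv D5506)
def n9555 : Q := act 2 n4625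
theorem D9555 : act 2 n4625 = n9555 := rfl
def n9556 : Q := act 5 n4625
theorem D9556 : act 5 n4625 = n9556 := rfl
theorem F14281 : act 3 n9556 = n5508 := d16_1 D9556 (iv D5508) (iv F7046)
def n9557 : Q := act 1 n4626
theorem D9557 : act 1 n4626 = n9557 := rfl
theorem F14282 : act 3 n9557 = n5509 := d7_2 (iv F7047) D9557 (iv D5509)
def n9558 : Q := act 2 n4626
theorem D9558 : act 2 n4626 = n9558 := rfl
theorem F14283 : act 0 n9558 = n4627 := d1_1 D9558 (iv D4627) D4626
theorem F14284 : act 5 n9558 = n4635 := d13_2 (iv F7048) D9558 (iv D4635)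
def n9559 : Q := act 3 n4627
theorem D9559 : act 3 n4627 = n9559 := rfl
theorem F14285 : act 5 n9559 = n4637 := d16_2 (iv F7049) D9559 (iv D4637)
def n9560 : Q := act 6 n4627
theorem D9560 : act 6 n4627 = n9560 := rfl
theorem F14286 : act 2 n9560 = n4628 := d14_1 D9560 (iv D4628) D4627
def n9561 : Q := act 1 n4628
theorem D9561 : act 1 n4628 = n9561 := rfl
theorem F14287 : act 3 n9561 = n5513 := d7_2 (iv F7050) D9561 (iv D5513)
theorem F14288 : act 6 n9561 = n4629 := d10_2 D4628 D9561 (iv D4629) (iv D2227) D2226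
def n9562 : Q := act 0 n4629
theorem D9562 : act 0 n4629 = n9562 := rfl
theorem F14289 : act 3 n9562 = n5514 := d2_2 (iv F7051) D9562 (iv D5514)
def n9563 : Q := act 2 n4629
theorem D9563 : act 2 n4629 = n9563 := rfl
def n9564 : Q := act 5 n4629
theorem D9564 : act 5 n4629 = n9564 := rfl
theorem F14290 : act 1 n9564 = n9556 := d9_1 D9564 (iv D9556) (iv D4625) (iv F3530) D4629
theorem F14291 : act 3 n9564 = n5516 := d16_1 D9564 (iv D5516) (iv F7051)
def n9565 : Q := act 1 n4630
theorem D9565 : act 1 n4630 = n9565 := rfl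
theorem F14292 : act 3 n9565 = n5517 := d7_2 (iv F7052) D9565 (iv D5517)
def n9566 : Q := act 2 n4630
theorem D9566 : act 2 n4630 = n9566 := rfl
theorem F14293 : act 0 n9566 = n4631 := d1_1 D9566 (iv D4631) D4630
theorem F14294 : act 6 n9566 = n4641 := d14_2 (iv F7053) D9566 (iv D4641)
def n9567 : Q := act 3 n4631
theorem D9567 : act 3 n4631 = n9567 := rfl
theorem F14295 : act 6 n9567 = n4643 := d17_2 (iv F7054) D9567 (iv D4643)
def n9568 : Q := act 5 n4631
theorem D9568 : act 5 n4631 = n9568 := rfl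
theorem F14296 : act 2 n9568 = n4632 := d13_1 D9568 (iv D4632) D4631
def n9569 : Q := act 1 n4632
theorem D9569 : act 1 n4632 = n9569 := rfl
theorem F14297 : act 3 n9569 = n5521 := d7_2 (iv F7055) D9569 (iv D5521)
theorem F14298 : act 5 n9569 = n4633 := d9_2 D4632 D9569 (iv D4633) (iv D2229) D2228
def n9570 : Q := act 0 n4633
theorem D9570 : act 0 n4633 = n9570 := rfl
theorem F14299 : act 3 n9570 = n5522 := d2_2 (iv F7056) D9570 (iv D5522)
def n9571 : Q := act 2 n4633
theorem D9571 : act 2 n4633 = n9571 := rfl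
def n9572 : Q := act 6 n4633
theorem D9572 : act 6 n4633 = n9572 := rfl
theorem F14300 : act 1 n9572 = n9553 := d10_1 D9572 (iv D9553) (iv D4624) (iv F3535) D4633
theorem F14301 : act 3 n9572 = n5524 := d17_1 D9572 (iv D5524) (iv F7056)
def n9573 : Q := act 0 n4634
theorem D9573 : act 0 n4634 = n9573 := rfl
theorem F14302 : act 1 n9573 = n5525 := d0_2 D4634 D9573 (iv D5525) (iv D2664) (iv D1292) (iv D647) (iv F1031) D1090 D2230
theorem F14303 : act 3 n9573 = n5525 := d2_2 (iv F7057) D9573 (iv D5525)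
def n9574 : Q := act 2 n4634
theorem D9574 : act 2 n4634 = n9574 := rfl
def n9575 : Q := act 5 n4634
theorem D9575 : act 5 n4634 = n9575 := rfl
theorem F14304 : act 3 n9575 = n5527 := d16_1 D9575 (iv D5527) (iv F7057)
def n9576 : Q := act 6 n4634
theorem D9576 : act 6 n4634 = n9576 := rfl
theorem F14305 : act 3 n9576 = n5528 := d17_1 D9576 (iv D5528) (iv F7057)
def n9577 : Q := act 1 n4635
theorem D9577 : act 1 n4635 = n9577 := rfl
def n9578 : Q := act 3 n4635
theorem D9578 : act 3 n4635 = n9578 := rfl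
theorem F14306 : act 0 n9578 = n4637 := d2_1 D9578 (iv D4637) (iv F7058)
def n9579 : Q := act 6 n4635
theorem D9579 : act 6 n4635 = n9579 := rfl
theorem F14307 : act 0 n9579 = n4638 := d5_1 D9579 (iv D4638) (iv F7058)
theorem F14308 : act 2 n9579 = n4636 := d14_1 D9579 (iv D4636) D4635
theorem F14309 : act 5 n9579 = n9560 := d22_2 F14284 D9579 (iv D9560) (iv F14283)
def n9580 : Q := act 1 n4636
theorem D9580 : act 1 n4636 = n9580 := rfl
theorem F14310 : act 3 n9580 = n5532 := d7_2 (iv F7060) D9580 (iv D5532)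
def n9581 : Q := act 2 n4637
theorem D9581 : act 2 n4637 = n9581 := rfl
def n9582 : Q := act 4 n4637
theorem D9582 : act 4 n4637 = n9582 := rfl
theorem F14311 : act 1 n9582 = n4655 := d8_1 D9582 (iv D4655) (iv F7062)
def n9583 : Q := act 6 n4637
theorem D9583 : act 6 n4637 = n9583 := rfl
theorem F14312 : act 3 n9583 = n4638 := d17_1 D9583 (iv D4638) D4637
def n9584 : Q := act 1 n4638
theorem D9584 : act 1 n4638 = n9584 := rfl
theorem F14313 : act 6 n9584 = n4657 := d10_2 D4638 D9584 (iv D4657) (iv D2240) (iv F3537)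
def n9585 : Q := act 5 n4638
theorem D9585 : act 5 n4638 = n9585 := rfl
theorem F14314 : act 0 n9585 = n9560 := d4_1 D9585 (iv F14309) F14307
theorem F14315 : act 2 n9585 = n4639 := d13_1 D9585 (iv D4639) (iv F7063)
theorem F14316 : act 6 n9585 = n9558 := d20_2 D4638 D9585 F14284 D9579 F14309 (iv D9560) F7049
def n9586 : Q := act 1 n4639
theorem D9586 : act 1 n4639 = n9586 := rfl
theorem F14317 : act 3 n9586 = n5541 := d7_2 (iv F7065) D9586 (iv D5541)
def n9587 : Q := act 0 n4640
theorem D9587 : act 0 n4640 = n9587 := rfl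
theorem F14318 : act 1 n9587 = n5548 := d0_2 D4640 D9587 (iv D5548) (iv D2674) (iv D1296) (iv D649) (iv F1034) D1091 D2233
theorem F14319 : act 3 n9587 = n5548 := d2_2 (iv F7067) D9587 (iv D5548)
def n9588 : Q := act 2 n4640
theorem D9588 : act 2 n4640 = n9588 := rfl
def n9589 : Q := act 5 n4640
theorem D9589 : act 5 n4640 = n9589 := rfl
theorem F14320 : act 3 n9589 = n5550 := d16_1 D9589 (iv D5550) (iv F7067)
def n9590 : Q := act 6 n4640
theorem D9590 : act 6 n4640 = n9590 := rfl
theorem F14321 : act 3 n9590 = n5551 := d17_1 D9590 (iv D5551) (iv F7067)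
def n9591 : Q := act 1 n4641
theorem D9591 : act 1 n4641 = n9591 := rfl
def n9592 : Q := act 3 n4641
theorem D9592 : act 3 n4641 = n9592 := rfl
theorem F14322 : act 0 n9592 = n4643 := d2_1 D9592 (iv D4643) (iv F7068)
def n9593 : Q := act 5 n4641
theorem D9593 : act 5 n4641 = n9593 := rfl
theorem F14323 : act 0 n9593 = n4644 := d4_1 D9593 (iv D4644) (iv F7068)
theorem F14324 : act 2 n9593 = n4642 := d13_1 D9593 (iv D4642) D4641
theorem F14325 : act 6 n9593 = n9568 := d22_1 D9593 (iv D9568) F7054 (iv F7068)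
def n9594 : Q := act 1 n4642
theorem D9594 : act 1 n4642 = n9594 := rfl
theorem F14326 : act 3 n9594 = n5555 := d7_2 (iv F7070) D9594 (iv D5555)
def n9595 : Q := act 2 n4643
theorem D9595 : act 2 n4643 = n9595 := rfl
def n9596 : Q := act 4 n4643
theorem D9596 : act 4 n4643 = n9596 := rfl
theorem F14327 : act 1 n9596 = n4669 := d8_1 D9596 (iv D4669) (iv F7072)
def n9597 : Q := act 5 n4643
theorem D9597 : act 5 n4643 = n9597 := rfl
theorem F14328 : act 3 n9597 = n4644 := d16_1 D9597 (iv D4644) D4643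
def n9598 : Q := act 1 n4644
theorem D9598 : act 1 n4644 = n9598 := rfl
theorem F14329 : act 5 n9598 = n4671 := d9_2 D4644 D9598 (iv D4671) (iv D2246) (iv F3540)
def n9599 : Q := act 6 n4644
theorem D9599 : act 6 n4644 = n9599 := rfl
theorem F14330 : act 0 n9599 = n9568 := d5_1 D9599 (iv F14325) F14323
theorem F14331 : act 2 n9599 = n4645 := d14_1 D9599 (iv D4645) (iv F7073)
theorem F14332 : act 5 n9599 = n9566 := d20_1 D9599 F14294 D9593 F14325 (iv D9568) F7054 D4644
def n9600 : Q := act 1 n4645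
theorem D9600 : act 1 n4645 = n9600 := rfl
theorem F14333 : act 3 n9600 = n5564 := d7_2 (iv F7075) D9600 (iv D5564)
def n9602 : Q := act 6 n4646
theorem D9602 : act 6 n4646 = n9602 := rfl
def n9603 : Q := act 1 n4647
theorem D9603 : act 1 n4647 = n9603 := rfl
theorem F14337 : act 2 n9603 = n4650 := d6_2 D4647 D9603 (iv D4650) (iv D2237) D2236
def n9607 : Q := act 6 n4648
theorem D9607 : act 6 n4648 = n9607 := rfl
theorem F14341 : act 5 n9607 = n9602 := d22_2 D4648 D9607 (iv D9602) (iv D4646)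
theorem F14342 : act 1 n5615 = n9607 := d24_14 (iv D9607) (iv D4648) (iv D2236) D2238 F3546 D4407 F6721 D4410 F6723 D8876 F13266 (iv F13114) (iv D5616) D5615
def n9608 : Q := act 1 n4649
theorem D9608 : act 1 n4649 = n9608 := rfl
theorem F14344 : act 6 n9608 = n4653 := d10_2 D4649 D9608 (iv D4653) (iv D2238) D2236
theorem F14345 : act 5 n5643 = n9608 := d22_0 F14344 F8536 (iv D5646) D5643
def n9610 : Q := act 0 n4650
theorem D9610 : act 0 n4650 = n9610 := rfl
def n9611 : Q := act 3 n4650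
theorem D9611 : act 3 n4650 = n9611 := rfl
theorem F14350 : act 1 n9611 = n4651 := d7_1 D9611 (iv D4651) D4650
def n9612 : Q := act 5 n4650
theorem D9612 : act 5 n4650 = n9612 := rfl
def n9613 : Q := act 6 n4650
theorem D9613 : act 6 n4650 = n9613 := rfl
def n9614 : Q := act 4 n4651
theorem D9614 : act 4 n4651 = n9614 := rfl
theorem F14351 : act 0 n9614 = n4655 := d3_1 D9614 (iv D4655) (iv F7081)
def n9615 : Q := act 6 n4651
theorem D9615 : act 6 n4651 = n9615 := rfl
theorem F14352 : act 0 n9615 = n4656 := d5_1 D9615 (iv D4656) (iv F7081)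
theorem F14353 : act 3 n9615 = n4652 := d17_1 D9615 (iv D4652) D4651
theorem F14354 : act 5 n9615 = n9120 := d22_2 F13640 D9615 (iv D9120) (iv F13639)
def n9616 : Q := act 1 n4652
theorem D9616 : act 1 n4652 = n9616 := rfl
def n9619 : Q := act 1 n4654
theorem D9619 : act 1 n4654 = n9619 := rfl
def n9620 : Q := act 4 n4654
theorem D9620 : act 4 n4654 = n9620 := rfl
theorem F14358 : act 2 n9620 = n4655 := d12_1 D9620 (iv D4655) D4654
def n9621 : Q := act 6 n4654
theorem D9621 : act 6 n4654 = n9621 := rfl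
theorem F14359 : act 2 n9621 = n4656 := d14_1 D9621 (iv D4656) D4654
def n9622 : Q := act 6 n4655
theorem D9622 : act 6 n4655 = n9622 := rfl
theorem F14360 : act 4 n9622 = n4656 := d19_1 D9622 (iv D4656) D4655
def n9623 : Q := act 1 n4656
theorem D9623 : act 1 n4656 = n9623 := rfl
theorem F14361 : act 3 n9623 = n4657 := d7_2 (iv F7086) D9623 (iv D4657)
def n9624 : Q := act 5 n4656
theorem D9624 : act 5 n4656 = n9624 := rfl
theorem F14363 : act 3 n9624 = n4658 := d16_1 D9624 (iv D4658) (iv F7086)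
theorem F14364 : act 6 n9624 = n9117 := d20_2 D4656 D9624 F13640 D9615 F14354 (iv D9120) F6718
def n9625 : Q := act 0 n4657
theorem D9625 : act 0 n4657 = n9625 := rfl
def n9626 : Q := act 5 n4657
theorem D9626 : act 5 n4657 = n9626 := rfl
def n9631 : Q := act 5 n4660
theorem D9631 : act 5 n4660 = n9631 := rfl
theorem F14369 : act 0 n9631 = n4662 := d4_1 D9631 (iv D4662) D4660
theorem F14370 : act 1 n9631 = n9602 := d9_1 D9631 (iv F14341) (iv F14342) (iv D5615) (iv F7091)
def n9632 : Q := act 1 n4661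
theorem D9632 : act 1 n4661 = n9632 := rfl
theorem F14372 : act 2 n9632 = n4664 := d6_2 D4661 D9632 (iv D4664) (iv D2243) D2242
def n9636 : Q := act 1 n4662
theorem D9636 : act 1 n4662 = n9636 := rfl
theorem F14376 : act 5 n9636 = n4667 := d9_2 D4662 D9636 (iv D4667) (iv D2244) D2242
theorem F14377 : act 0 n5603 = n9636 := d22_4 F14376 F8481 (iv D5602) D5603
theorem F14378 : act 6 n5600 = n9636 := d24_0 F14376 (iv D4667) F3555 (iv D2118) (iv D1037) (iv D523) D522 D1035 D2114 (iv F3546) D4653 (iv F14344) (iv F14345) F8532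
def n9639 : Q := act 0 n4664
theorem D9639 : act 0 n4664 = n9639 := rfl
def n9640 : Q := act 3 n4664
theorem D9640 : act 3 n4664 = n9640 := rfl
theorem F14385 : act 1 n9640 = n4665 := d7_1 D9640 (iv D4665) D4664
def n9641 : Q := act 5 n4664
theorem D9641 : act 5 n4664 = n9641 := rfl
def n9642 : Q := act 6 n4664
theorem D9642 : act 6 n4664 = n9642 := rfl
def n9643 : Q := act 4 n4665
theorem D9643 : act 4 n4665 = n9643 := rfl
theorem F14386 : act 0 n9643 = n4669 := d3_1 D9643 (iv D4669) (iv F7095)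
def n9644 : Q := act 5 n4665
theorem D9644 : act 5 n4665 = n9644 := rfl
theorem F14387 : act 0 n9644 = n4670 := d4_1 D9644 (iv D4670) (iv F7095)
theorem F14388 : act 3 n9644 = n4666 := d16_1 D9644 (iv D4666) D4665
theorem F14389 : act 6 n9644 = n9137 := d22_1 D9644 (iv D9137) F6728 (iv F7095)
def n9645 : Q := act 1 n4666
theorem D9645 : act 1 n4666 = n9645 := rfl
def n9646 : Q := act 0 n4667
theorem D9646 : act 0 n4667 = n9646 := rfl
theorem F14391 : act 3 n9646 = n4721 := d2_2 (iv F7099) D9646 (iv D4721)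
theorem F14392 : act 5 n9646 = n5603 := d4_2 F14376 D9646 F14377
def n9648 : Q := act 1 n4668
theorem D9648 : act 1 n4668 = n9648 := rfl
def n9649 : Q := act 4 n4668
theorem D9649 : act 4 n4668 = n9649 := rfl
theorem F14393 : act 2 n9649 = n4669 := d12_1 D9649 (iv D4669) D4668
def n9650 : Q := act 5 n4668
theorem D9650 : act 5 n4668 = n9650 := rfl
theorem F14394 : act 2 n9650 = n4670 := d13_1 D9650 (iv D4670) D4668
def n9651 : Q := act 5 n4669
theorem D9651 : act 5 n4669 = n9651 := rfl
theorem F14395 : act 4 n9651 = n4670 := d18_1 D9651 (iv D4670) D4669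
def n9652 : Q := act 1 n4670
theorem D9652 : act 1 n4670 = n9652 := rfl
theorem F14396 : act 3 n9652 = n4671 := d7_2 (iv F7100) D9652 (iv D4671)
def n9654 : Q := act 0 n4671
theorem D9654 : act 0 n4671 = n9654 := rfl
def n9655 : Q := act 6 n4671
theorem D9655 : act 6 n4671 = n9655 := rfl
def n9672 : Q := act 2 n4681
theorem D9672 : act 2 n4681 = n9672 := rfl
theorem F14431 : act 5 n9672 = n5743 := d13_2 F7123 D9672 (iv D5743)
def n9674 : Q := act 3 n4683
theorem D9674 : act 3 n4683 = n9674 := rfl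
theorem F14435 : act 0 n9674 = n4684 := d2_1 D9674 (iv D4684) D4683
def n9676 : Q := act 2 n4684
theorem D9676 : act 2 n4684 = n9676 := rfl
theorem F14440 : act 5 n9676 = n9676 := d13_2 F7131 D9676 (iv D9676)
def n9677 : Q := act 4 n4684
theorem D9677 : act 4 n4684 = n9677 := rfl
theorem F14441 : act 1 n9677 = n4687 := d8_1 D9677 (iv D4687) (iv F7130)
theorem F14442 : act 3 n9677 = n4753 := d15_1 D9677 (iv D4753) (iv D2286) (iv F3565) D4684
def n9678 : Q := act 6 n4684
theorem D9678 : act 6 n4684 = n9678 := rfl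
def n9679 : Q := act 1 n4685
theorem D9679 : act 1 n4685 = n9679 := rfl
theorem F14445 : act 4 n9679 = n4755 := d8_2 (iv F7132) D9679 (iv D4755)
theorem F14446 : act 6 n9679 = n4689 := d10_2 D4685 D9679 (iv D4689) (iv D2254) D2252
def n9680 : Q := act 1 n4686
theorem D9680 : act 1 n4686 = n9680 := rfl
theorem F14447 : act 3 n9680 = n9619 := d7_2 (iv F7134) D9680 (iv D9619)
def n9681 : Q := act 4 n4686
theorem D9681 : act 4 n4686 = n9681 := rfl
theorem F14448 : act 0 n9681 = n4694 := d3_1 D9681 (iv D4694) (iv F7133)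
theorem F14449 : act 2 n9681 = n4687 := d12_1 D9681 (iv D4687) D4686
def n9682 : Q := act 6 n4686
theorem D9682 : act 6 n4686 = n9682 := rfl
theorem F14450 : act 0 n9682 = n4695 := d5_1 D9682 (iv D4695) (iv F7133)
theorem F14451 : act 2 n9682 = n4688 := d14_1 D9682 (iv D4688) D4686
theorem F14452 : act 3 n9682 = n9621 := d17_1 D9682 (iv D9621) (iv F7134)
theorem F14453 : act 5 n9682 = n9152 := d22_2 F13682 D9682 (iv D9152) (iv F13681)
def n9683 : Q := act 6 n4687
theorem D9683 : act 6 n4687 = n9683 := rfl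
theorem F14455 : act 3 n9683 = n4759 := d17_1 D9683 (iv D4759) (iv F7136)
theorem F14456 : act 4 n9683 = n4688 := d19_1 D9683 (iv D4688) D4687
theorem F14457 : act 5 n9683 = n9153 := d22_2 F13687 D9683 (iv D9153) (iv F13684)
def n9684 : Q := act 1 n4688
theorem D9684 : act 1 n4688 = n9684 := rfl
theorem F14458 : act 3 n9684 = n4689 := d7_2 (iv F7138) D9684 (iv D4689)
def n9685 : Q := act 0 n4689
theorem D9685 : act 0 n4689 = n9685 := rfl
theorem F14459 : act 4 n9685 = n4761 := d3_2 (iv F7140) D9685 (iv D4761)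
def n9686 : Q := act 2 n4689
theorem D9686 : act 2 n4689 = n9686 := rfl
theorem F14460 : act 1 n9686 = n4691 := d6_1 D9686 (iv D4691) (iv D2255) (iv F3569) D4689
def n9687 : Q := act 5 n4689
theorem D9687 : act 5 n4689 = n9687 := rfl
theorem F14462 : act 1 n9687 = n9157 := d9_1 D9687 (iv D9157) (iv D4425) (iv F3571) D4689
def n9690 : Q := act 0 n4692
theorem D9690 : act 0 n4692 = n9690 := rfl
theorem F14467 : act 2 n9690 = n4863 := d1_2 (iv F7145) D9690 (iv D4863)
def n9691 : Q := act 3 n4692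
theorem D9691 : act 3 n4692 = n9691 := rfl
theorem F14468 : act 1 n9691 = n4693 := d7_1 D9691 (iv D4693) D4692
def n9692 : Q := act 4 n4692
theorem D9692 : act 4 n4692 = n9692 := rfl
theorem F14469 : act 1 n9692 = n4694 := d8_1 D9692 (iv D4694) D4692
theorem F14470 : act 2 n9692 = n4864 := d12_1 D9692 (iv D4864) (iv F7145)
def n9693 : Q := act 5 n4692
theorem D9693 : act 5 n4692 = n9693 := rfl
theorem F14471 : act 2 n9693 = n4865 := d13_1 D9693 (iv D4865) (iv F7145)
def n9694 : Q := act 6 n4692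
theorem D9694 : act 6 n4692 = n9694 := rfl
theorem F14472 : act 2 n9694 = n4866 := d14_1 D9694 (iv D4866) (iv F7145)
def n9695 : Q := act 4 n4693
theorem D9695 : act 4 n4693 = n9695 := rfl
theorem F14473 : act 0 n9695 = n9620 := d3_1 D9695 (iv D9620) (iv F7146)
theorem F14474 : act 2 n9695 = n9614 := d12_1 D9695 (iv D9614) (iv F7147)
def n9696 : Q := act 6 n4693
theorem D9696 : act 6 n4693 = n9696 := rfl
theorem F14475 : act 0 n9696 = n9621 := d5_1 D9696 (iv D9621) (iv F7146)
theorem F14476 : act 2 n9696 = n9615 := d14_1 D9696 (iv D9615) (iv F7147)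
theorem F14477 : act 3 n9696 = n4695 := d17_1 D9696 (iv D4695) D4693
def n9697 : Q := act 3 n4694
theorem D9697 : act 3 n4694 = n9697 := rfl
def n9698 : Q := act 6 n4694
theorem D9698 : act 6 n4694 = n9698 := rfl
theorem F14478 : act 2 n9698 = n4696 := d14_1 D9698 (iv D4696) (iv F7148)
theorem F14479 : act 4 n9698 = n4695 := d19_1 D9698 (iv D4695) D4694
def n9699 : Q := act 1 n4695
theorem D9699 : act 1 n4695 = n9699 := rfl
def n9700 : Q := act 5 n4695
theorem D9700 : act 5 n4695 = n9700 := rfl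
theorem F14481 : act 2 n9700 = n4698 := d13_1 D9700 (iv D4698) (iv F7149)
theorem F14482 : act 6 n9700 = n9147 := d20_2 D4695 D9700 F13682 D9682 F14453 (iv D9152) F6745
def n9701 : Q := act 1 n4696
theorem D9701 : act 1 n4696 = n9701 := rfl
theorem F14483 : act 3 n9701 = n4772 := d7_2 (iv F7150) D9701 (iv D4772)
theorem F14484 : act 4 n9701 = n4697 := d8_2 (iv F7151) D9701 (iv D4697)
theorem F14485 : act 6 n9701 = n4871 := d10_2 D4696 D9701 (iv D4871) (iv D2347) (iv F3573)
def n9702 : Q := act 5 n4696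
theorem D9702 : act 5 n4696 = n9702 := rfl
theorem F14488 : act 4 n9702 = n4698 := d18_1 D9702 (iv D4698) (iv F7151)
theorem F14489 : act 6 n9702 = n9148 := d20_2 D4696 D9702 F13687 D9683 F14457 (iv D9153) F6747
def n9703 : Q := act 0 n4697
theorem D9703 : act 0 n4697 = n9703 := rfl
theorem F14490 : act 3 n9703 = n4699 := d2_2 (iv F7152) D9703 (iv D4699)
theorem F14491 : act 6 n9703 = n4873 := d5_2 (iv F7153) D9703 (iv D4873)
def n9704 : Q := act 2 n4697
theorem D9704 : act 2 n4697 = n9704 := rfl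
theorem F14492 : act 6 n9704 = n4874 := d14_2 (iv F7153) D9704 (iv D4874)
def n9705 : Q := act 5 n4697
theorem D9705 : act 5 n4697 = n9705 := rfl
theorem F14493 : act 3 n9705 = n4700 := d16_1 D9705 (iv D4700) (iv F7152)
def n9716 : Q := act 0 n4706
theorem D9716 : act 0 n4706 = n9716 := rfl
theorem F14518 : act 4 n9716 = n4787 := d3_2 (iv F7172) D9716 (iv D4787)
def n9717 : Q := act 3 n4706
theorem D9717 : act 3 n4706 = n9717 := rfl
def n9718 : Q := act 5 n4706
theorem D9718 : act 5 n4706 = n9718 := rfl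
def n9720 : Q := act 2 n4707
theorem D9720 : act 2 n4707 = n9720 := rfl
def n9722 : Q := act 5 n4707
theorem D9722 : act 5 n4707 = n9722 := rfl
theorem F14525 : act 3 n9722 = n4708 := d16_1 D9722 (iv D4708) D4707
def n9728 : Q := act 2 n4710
theorem D9728 : act 2 n4710 = n9728 := rfl
theorem F14539 : act 6 n9728 = n5688 := d14_2 F7180 D9728 (iv D5688)
def n9730 : Q := act 3 n4713
theorem D9730 : act 3 n4713 = n9730 := rfl
theorem F14542 : act 0 n9730 = n4714 := d2_1 D9730 (iv D4714) D4713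
def n9731 : Q := act 5 n4713
theorem D9731 : act 5 n4713 = n9731 := rfl
def n9732 : Q := act 6 n4713
theorem D9732 : act 6 n4713 = n9732 := rfl
theorem F14546 : act 4 n9732 = n4803 := d19_1 D9732 (iv D4803) (iv F7187)
def n9733 : Q := act 2 n4714
theorem D9733 : act 2 n4714 = n9733 := rfl
def n9734 : Q := act 4 n4714
theorem D9734 : act 4 n4714 = n9734 := rfl
theorem F14547 : act 1 n9734 = n4718 := d8_1 D9734 (iv D4718) (iv F7188)
def n9735 : Q := act 5 n4714
theorem D9735 : act 5 n4714 = n9735 := rfl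
def n9736 : Q := act 6 n4714
theorem D9736 : act 6 n4714 = n9736 := rfl
theorem F14550 : act 3 n9736 = n4716 := d17_1 D9736 (iv D4716) D4714
def n9737 : Q := act 1 n4715
theorem D9737 : act 1 n4715 = n9737 := rfl
theorem F14552 : act 5 n9737 = n4720 := d9_2 D4715 D9737 (iv D4720) (iv D2268) D2266
def n9738 : Q := act 6 n4715
theorem D9738 : act 6 n4715 = n9738 := rfl
theorem F14554 : act 5 n9738 = n9732 := d22_2 D4715 D9738 (iv D9732) (iv D4713)
def n9740 : Q := act 1 n4717
theorem D9740 : act 1 n4717 = n9740 := rfl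
theorem F14558 : act 3 n9740 = n9648 := d7_2 (iv F7192) D9740 (iv D9648)
def n9741 : Q := act 4 n4717
theorem D9741 : act 4 n4717 = n9741 := rfl
theorem F14559 : act 0 n9741 = n4725 := d3_1 D9741 (iv D4725) (iv F7191)
theorem F14560 : act 2 n9741 = n4718 := d12_1 D9741 (iv D4718) D4717
def n9742 : Q := act 5 n4717
theorem D9742 : act 5 n4717 = n9742 := rfl
theorem F14561 : act 0 n9742 = n4726 := d4_1 D9742 (iv D4726) (iv F7191)
theorem F14562 : act 2 n9742 = n4719 := d13_1 D9742 (iv D4719) D4717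
theorem F14563 : act 3 n9742 = n9650 := d16_1 D9742 (iv D9650) (iv F7192)
theorem F14564 : act 6 n9742 = n9182 := d22_1 D9742 (iv D9182) F6775 (iv F7191)
def n9743 : Q := act 5 n4718
theorem D9743 : act 5 n4718 = n9743 := rfl
theorem F14565 : act 0 n9743 = n4727 := d4_1 D9743 (iv D4727) (iv F7193)
theorem F14566 : act 3 n9743 = n4814 := d16_1 D9743 (iv D4814) (iv F7194)
theorem F14567 : act 4 n9743 = n4719 := d18_1 D9743 (iv D4719) D4718
theorem F14568 : act 6 n9743 = n9183 := d22_1 D9743 (iv D9183) F6777 (iv F7193)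
def n9744 : Q := act 1 n4719
theorem D9744 : act 1 n4719 = n9744 := rfl
theorem F14569 : act 3 n9744 = n4720 := d7_2 (iv F7196) D9744 (iv D4720)
def n9747 : Q := act 6 n4720
theorem D9747 : act 6 n4720 = n9747 := rfl
theorem F14573 : act 1 n9747 = n9187 := d10_1 D9747 (iv D9187) (iv D4442) (iv F3593) D4720
def n9748 : Q := act 2 n4721
theorem D9748 : act 2 n4721 = n9748 := rfl
theorem F14577 : act 5 n9748 = n5693 := d13_2 (iv F7201) D9748 F8632
theorem F14578 : act 1 n8320 = n9748 := d9_5 F14577 (iv F8634) (iv D3974) D3972 D8320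
def n9750 : Q := act 0 n4723
theorem D9750 : act 0 n4723 = n9750 := rfl
theorem F14579 : act 2 n9750 = n4901 := d1_2 (iv F7203) D9750 (iv D4901)
def n9751 : Q := act 3 n4723
theorem D9751 : act 3 n4723 = n9751 := rfl
theorem F14580 : act 1 n9751 = n4724 := d7_1 D9751 (iv D4724) D4723
def n9752 : Q := act 4 n4723
theorem D9752 : act 4 n4723 = n9752 := rfl
theorem F14581 : act 1 n9752 = n4725 := d8_1 D9752 (iv D4725) D4723
theorem F14582 : act 2 n9752 = n4902 := d12_1 D9752 (iv D4902) (iv F7203)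
def n9753 : Q := act 5 n4723
theorem D9753 : act 5 n4723 = n9753 := rfl
theorem F14583 : act 2 n9753 = n4903 := d13_1 D9753 (iv D4903) (iv F7203)
def n9754 : Q := act 6 n4723
theorem D9754 : act 6 n4723 = n9754 := rfl
theorem F14584 : act 2 n9754 = n4904 := d14_1 D9754 (iv D4904) (iv F7203)
def n9755 : Q := act 4 n4724
theorem D9755 : act 4 n4724 = n9755 := rfl
theorem F14585 : act 0 n9755 = n9649 := d3_1 D9755 (iv D9649) (iv F7204)
theorem F14586 : act 2 n9755 = n9643 := d12_1 D9755 (iv D9643) (iv F7205)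
def n9756 : Q := act 5 n4724
theorem D9756 : act 5 n4724 = n9756 := rfl
theorem F14587 : act 0 n9756 = n9650 := d4_1 D9756 (iv D9650) (iv F7204)
theorem F14588 : act 2 n9756 = n9644 := d13_1 D9756 (iv D9644) (iv F7205)
theorem F14589 : act 3 n9756 = n4726 := d16_1 D9756 (iv D4726) D4724
def n9757 : Q := act 3 n4725
theorem D9757 : act 3 n4725 = n9757 := rfl
def n9758 : Q := act 5 n4725
theorem D9758 : act 5 n4725 = n9758 := rfl
theorem F14590 : act 2 n9758 = n4727 := d13_1 D9758 (iv D4727) (iv F7206)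
theorem F14591 : act 4 n9758 = n4726 := d18_1 D9758 (iv D4726) D4725
def n9759 : Q := act 1 n4726
theorem D9759 : act 1 n4726 = n9759 := rfl
def n9760 : Q := act 6 n4726
theorem D9760 : act 6 n4726 = n9760 := rfl
theorem F14594 : act 5 n9760 = n9177 := d20_1 D9760 F13734 D9742 F14564 (iv D9182) F6775 D4726
def n9761 : Q := act 1 n4727
theorem D9761 : act 1 n4727 = n9761 := rfl
theorem F14595 : act 3 n9761 = n4832 := d7_2 (iv F7208) D9761 (iv D4832)
theorem F14596 : act 4 n9761 = n4728 := d8_2 (iv F7209) D9761 (iv D4728)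
theorem F14597 : act 5 n9761 = n4909 := d9_2 D4727 D9761 (iv D4909) (iv D2364) (iv F3595)
def n9762 : Q := act 6 n4727
theorem D9762 : act 6 n4727 = n9762 := rfl
theorem F14601 : act 5 n9762 = n9178 := d20_1 D9762 F13738 D9743 F14568 (iv D9183) F6777 D4727
def n9763 : Q := act 0 n4728
theorem D9763 : act 0 n4728 = n9763 := rfl
theorem F14602 : act 3 n9763 = n4730 := d2_2 (iv F7210) D9763 (iv D4730)
theorem F14603 : act 5 n9763 = n4911 := d4_2 (iv F7211) D9763 (iv D4911)
def n9764 : Q := act 2 n4728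
theorem D9764 : act 2 n4728 = n9764 := rfl
theorem F14604 : act 5 n9764 = n4912 := d13_2 (iv F7211) D9764 (iv D4912)
def n9765 : Q := act 6 n4728
theorem D9765 : act 6 n4728 = n9765 := rfl
def n9767 : Q := act 1 n4730
theorem D9767 : act 1 n4730 = n9767 := rfl
theorem F14607 : act 4 n9767 = n4838 := d8_2 (iv F7215) D9767 (iv D4838)
def n9799 : Q := act 0 n4746
theorem D9799 : act 0 n4746 = n9799 := rfl
def n9800 : Q := act 2 n4746
theorem D9800 : act 2 n4746 = n9800 := rfl
theorem F14654 : act 5 n9799 = n9800 := d23_0 (iv D9800) (iv D4746) (iv F7226) (iv F7237) F7236 (iv F3632) F2287 (iv D687) D686 F1249 (iv F2286) D2844 F4447 F3632 (iv F3617) (iv D2284) (iv F3612) D4746 D9799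
def n9801 : Q := act 5 n4746
theorem D9801 : act 5 n4746 = n9801 := rfl
theorem F14655 : act 0 n9801 = n9800 := d4_1 D9801 (iv F14654) (iv D9799)
theorem F14656 : act 2 n9801 = n9799 := d13_1 D9801 F14654 (iv D9800)
def n9803 : Q := act 3 n4748
theorem D9803 : act 3 n4748 = n9803 := rfl
theorem F14658 : act 5 n9803 = n5927 := d16_2 (iv F7242) D9803 (iv D5927)
def n9805 : Q := act 3 n4749
theorem D9805 : act 3 n4749 = n9805 := rfl
theorem F14661 : act 0 n9805 = n4932 := d2_1 D9805 (iv D4932) (iv F7244)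
theorem F14662 : act 1 n9805 = n4750 := d7_1 D9805 (iv D4750) D4749
def n9808 : Q := act 2 n4750
theorem D9808 : act 2 n4750 = n9808 := rfl
theorem F14666 : act 0 n9808 = n4752 := d1_1 D9808 (iv D4752) (iv F7245)
def n9809 : Q := act 4 n4750
theorem D9809 : act 4 n4750 = n9809 := rfl
theorem F14668 : act 0 n9809 = n4753 := d3_1 D9809 (iv D4753) (iv F7245)
def n9812 : Q := act 1 n4752
theorem D9812 : act 1 n4752 = n9812 := rfl
theorem F14673 : act 2 n9812 = n4756 := d6_2 D4752 D9812 (iv D4756) (iv D2288) (iv F3620)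
theorem F14674 : act 3 n9468 = n9812 := d21_1 (iv F14177) F14673 F7254 F6989 (iv D2575) (iv F4057) D5335 (iv F8195)
theorem F14675 : act 5 n9812 = n4756 := d16_2 D9468 F14674 F7254
theorem E61 : n9199 = n4752 := (c9_4 F14675 (iv D4756) (iv F6798) D9199 F7249 D9812)
theorem E62 : n9808 = n4752 := (((iv F14666)).symm.trans (sb E61 (tr F13774 E61)))
theorem E63 : n9812 = n4451 := ((D9812).symm.trans (sb E61 (iv D9199)))
theorem E64 : n4752 = n2286 := ((((iv D4752)).symm.trans (sb E61 (tr F13772 E61)))).symm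
theorem E65 : n9199 = n2286 := (E61).trans E64
theorem E66 : n9001 = n1114 := ((((iv D2286)).symm.trans (sb E65 F13773))).symm
theorem E67 : n9808 = n2286 := (E62).trans E64
theorem E68 : n4750 = n2286 := (((iv F7245)).symm.trans (sb E67 (tr F14666 E64)))
theorem E69 : n4451 = n1115 := (((F3620).symm.trans (iv (sb E63 (tr (iv D9812) E64))))).symm
theorem E70 : n9812 = n1115 := (E63).trans E69
theorem E71 : n4756 = n2288 := (((D2288).symm.trans (sb E70 F14673))).symm
theorem E72 : n9468 = n559 := ((((iv D1115)).symm.trans (sb E70 (iv F14674)))).symm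
theorem E73 : n2288 = n2138 := ((((iv F3404)).symm.trans (sb E70 (tr F14675 E71)))).symm
theorem E74 : n2285 = n1114 := ((D2285).symm.trans (sb E66 (tr F13775 E66)))
theorem E75 : n4345 = n559 := ((((iv D1114)).symm.trans (sb E66 (iv D9001)))).symm
theorem E76 : n2278 = n1114 := (((iv F3608)).symm.trans (sb E66 (tr F13496 E66)))
theorem E77 : n9805 = n1115 := (((F3620).symm.trans (sb E68 (iv F14662)))).symm
theorem E78 : n9809 = n4753 := (((D4753).symm.trans (sb E68 D9809))).symm
theorem E82 : n4771 = n2290 := (((D2290).symm.trans (sb E69 (iv F7278)))).symm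
theorem E83 : n4756 = n2138 := (E71).trans E73
theorem E84 : n4580 = n1048 := ((((iv D2138)).symm.trans (sb E83 F7254))).symm
theorem E85 : n5354 = n282 := ((((iv D559)).symm.trans (sb E72 F14177))).symm
theorem E86 : n1118 = n1049 := (((F3402).symm.trans (sb E73 F3622))).symm
theorem F14678 : act 2 n2138 = n1115 := (sb E73 (iv D2288))
theorem E87 : n2203 = n1048 := ((((iv D2138)).symm.trans (sb E73 F3623))).symm
theorem E88 : n4757 = n4452 := (((D4452).symm.trans (sb E73 D4757))).symm
theorem F14679 : act 0 n1114 = n1114 := (sb E74 (iv D2285))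
theorem E90 : n4749 = n559 := ((((iv D1114)).symm.trans (sb E74 D4749))).symm
theorem E92 : n4683 = n2252 := ((((iv F3565)).symm.trans (sb E74 (iv F7128)))).symm
theorem E94 : n4454 = n283 := (((F1047).symm.trans (sb E75 (iv F6803)))).symm
theorem E95 : n2086 = n282 := ((((iv D559)).symm.trans (sb E75 (iv D4345)))).symm
theorem E98 : n1111 = n559 := ((((iv D1114)).symm.trans (sb E76 (iv D2278)))).symm
theorem F14680 : act 2 n1114 = n1114 := (sb E76 F3608)
theorem E100 : n4676 = n2252 := ((((iv F3565)).symm.trans (sb E76 (iv F7111)))).symm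
theorem E102 : n4932 = n561 := (((F1916).symm.trans (sb E77 F14661))).symm
theorem F14681 : act 0 n4753 = n4753 := (sb E78 F14668)
theorem E106 : n2296 = n2141 := (((F3627).symm.trans (sb E82 (iv D4771)))).symm
theorem E108 : n2575 = n528 := ((((iv D1048)).symm.trans (sb E84 F6989))).symm
theorem E112 : n558 = n282 := ((D558).symm.trans (sb E85 (tr F8196 E85)))
theorem E113 : n2576 = n541 := ((((iv F1024)).symm.trans (sb E85 F8197))).symm
theorem E114 : n1921 = n1806 := ((((iv F2931)).symm.trans (sb E86 (iv F3086)))).symm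
theorem F14684 : act 2 n1049 = n561 := (sb E86 (iv D1118))
theorem E116 : n2295 = n2140 := (((D2140).symm.trans (sb E86 D2295))).symm
theorem E117 : n1078 = n528 := ((((iv D1048)).symm.trans (sb E87 (iv D2203)))).symm
theorem F14685 : act 2 n4452 = n2289 := (sb E88 F7256)
theorem E120 : n2375 = n283 := (((F1047).symm.trans (sb E90 F7244))).symm
theorem F14687 : act 0 n2252 = n2252 := (sb E92 (iv D4683))
theorem E129 : n9674 = n4684 := (((D4684).symm.trans (sb E92 D9674))).symm
theorem E133 : n4344 = n138 := ((((iv D283)).symm.trans (sb E94 F6804))).symm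
theorem E136 : n1024 = n541 := ((((iv F1024)).symm.trans (sb E95 (iv D2086)))).symm
theorem E140 : n2276 = n283 := (((F1047).symm.trans (sb E98 (iv F3606)))).symm
theorem E144 : n2281 = n1116 := (((D1116).symm.trans (sb E98 D2281))).symm
theorem F14690 : act 2 n2252 = n2252 := (sb E100 F7110)
theorem E151 : n2376 = n296 := (((F1050).symm.trans (sb E102 F7537))).symm
theorem F14692 : act 2 n2141 = n1120 := (sb E106 F3640)
theorem E160 : n4769 = n4457 := ((((iv F6809)).symm.trans (sb E106 (iv F7275)))).symm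
theorem E162 : n1250 = n1047 := (((D1047).symm.trans (sb E108 F4068))).symm

end Cfsg.Agent.Helper17.SuzbTC
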