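import Cfsg.Agent.Helper17.SuzbTC.Facts1

set_option autoImplicit false
set_option linter.all false

noncomputable section

namespace Cfsg.Agent.Helper17.SuzbTC

theorem E163 : n1249 = n1023 := ((((iv F1789)).symm.trans (sb E108 (iv D2575)))).symm
theorem E164 : n5353 = n1039 := ((((iv F1813)).symm.trans (sb E108 D5353))).symm
theorem E165 : n5355 = n563 := ((((iv F1053)).symm.trans (sb E108 D5355))).symm
theorem E168 : n1110 = n138 := ((((iv D282)).symm.trans (sb E112 D1110))).symm
theorem F14693 : act 1 n282 = n282 := (sb E112 (iv D558))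
theorem E169 : n1075 = n541 := ((((iv F1024)).symm.trans (sb E112 (iv F1861)))).symm
theorem E170 : n1098 = n552 := ((((iv F1039)).symm.trans (sb E112 (iv F1890)))).symm
theorem E171 : n1112 = n528 := ((((iv F1010)).symm.trans (sb E112 D1112))).symm
theorem E172 : n1113 = n560 := (((D560).symm.trans (sb E112 D1113))).symm
theorem E173 : n2574 = n1076 := (((D1076).symm.trans (sb E113 F4071))).symm
theorem E174 : n5247 = n1069 := ((((iv F1853)).symm.trans (sb E113 (iv F8012)))).symm
theorem E175 : n5356 = n1077 := (((D1077).symm.trans (sb E113 D5356))).symm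
theorem E176 : n4005 = n3744 := ((((iv F5744)).symm.trans (sb E114 (iv F6105)))).symm
theorem E177 : n3745 = n944 := ((D3745).symm.trans (sb E114 (iv D1921)))
theorem E178 : n4012 = n895 := ((((iv D1806)).symm.trans (sb E114 D4012))).symm
theorem E179 : n4013 = n3746 := (((D3746).symm.trans (sb E114 D4013))).symm
theorem E180 : n4014 = n3747 := (((D3747).symm.trans (sb E114 D4014))).symm
theorem F14694 : act 2 n2140 = n1119 := (sb E116 F3639)
theorem E184 : n1047 = n629 := ((D1047).symm.trans (sb E117 F1866))
theorem E185 : n1023 = n542 := (((iv F1789)).symm.trans (sb E117 (iv D1078)))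
theorem E187 : n2205 = n563 := ((((iv F1053)).symm.trans (sb E117 D2205))).symm
theorem E191 : n1156 = n143 := (((F562).symm.trans (sb E120 (iv D2375)))).symm
theorem E194 : n4933 = n529 := ((((iv F1011)).symm.trans (sb E120 D4933))).symm
theorem F14695 : act 0 n4684 = n4684 := (sb E129 F14435)
theorem E197 : n2085 = n275 := ((((iv F552)).symm.trans (sb E133 (iv D4344)))).symm
theorem E200 : n1076 = n517 := ((D1076).symm.trans (sb E136 (iv D1024)))
theorem E202 : n2087 = n1077 := (((D1077).symm.trans (sb E136 D2087))).symm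
theorem E207 : n4735 = n143 := (((F562).symm.trans (sb E140 D4735))).symm
theorem E210 : n4288 = n529 := ((((iv F1011)).symm.trans (sb E140 (iv F6540)))).symm
theorem E220 : n4746 = n2291 := (((D2291).symm.trans (sb E144 D4746))).symm
theorem E222 : n1157 = n582 := ((((iv F1092)).symm.trans (sb E151 F3748))).symm
theorem E225 : n4937 = n490 := ((((iv F940)).symm.trans (sb E151 D4937))).symm
theorem F14699 : act 2 n4457 = n2297 := (sb E160 F7274)
theorem E228 : n2574 = n517 := (E173).trans E200
theorem E229 : n1250 = n629 := (E162).trans E184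
theorem E230 : n627 = n320 := ((((iv D629)).symm.trans (sb E229 (iv D1250)))).symm
theorem E231 : n2578 = n1253 := (((D1253).symm.trans (sb E229 D2578))).symm
theorem E233 : n1249 = n542 := (E163).trans E185
theorem E234 : n2526 = n1070 := ((((iv F1855)).symm.trans (sb E233 (iv F3988)))).symm
theorem E235 : n2577 = n1079 := (((D1079).symm.trans (sb E233 D2577))).symm
theorem E236 : n2120 = n1253 := ((D2120).symm.trans (sb E164 (tr F8194 E231)))
theorem E237 : n1080 = n1079 := (((iv F1869)).symm.trans (sb E165 (tr F8198 E235)))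
theorem E246 : n671 = n60 := ((((iv D138)).symm.trans (sb E168 F1914))).symm
theorem E248 : n2248 = n280 := ((((iv F560)).symm.trans (sb E168 (iv F3561)))).symm
theorem E249 : n2056 = n268 := ((((iv F539)).symm.trans (sb E168 F3398))).symm
theorem E250 : n2277 = n284 := (((D284).symm.trans (sb E168 D2277))).symm
theorem F14702 : act 1 n541 = n541 := (sb E169 (iv D1075))
theorem E252 : n2183 = n1069 := ((((iv F1853)).symm.trans (sb E169 (iv F3465)))).symm
theorem E254 : n2198 = n1077 := (((D1077).symm.trans (sb E169 D2198))).symm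
theorem F14703 : act 1 n552 = n552 := (sb E170 (iv D1098))
theorem E255 : n2236 = n1092 := ((((iv F1886)).symm.trans (sb E170 (iv F3542)))).symm
theorem E256 : n2250 = n1039 := ((((iv F1814)).symm.trans (sb E170 D2250))).symm
theorem E257 : n2251 = n1100 := (((D1100).symm.trans (sb E170 D2251))).symm
theorem E258 : n2136 = n629 := (((E184).symm.trans ((D1047).symm.trans (sb E171 F3396)))).symm
theorem E259 : n2282 = n563 := ((((iv F1053)).symm.trans (sb E171 D2282))).symm
theorem E260 : n2283 = n1117 := (((D1117).symm.trans (sb E172 D2283))).symm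
theorem E261 : n2284 = n530 := (((F1049).symm.trans (sb E172 D2284))).symm
theorem E262 : n5350 = n263 := ((((iv D517)).symm.trans (sb E228 D5350))).symm
theorem E263 : n5245 = n1019 := ((((iv F1778)).symm.trans (sb E228 (iv F8006)))).symm
theorem E264 : n5352 = n1025 := (((D1025).symm.trans (sb E228 D5352))).symm
theorem E265 : n2184 = n1019 := ((D2184).symm.trans (sb E174 (tr F8011 E263)))
theorem E266 : n2076 = n1070 := (((iv F3306)).symm.trans (sb E174 (tr (iv D5247) E234)))
theorem E267 : n2201 = n1025 := (((iv F3495)).symm.trans (sb E175 (tr F8200 E264)))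
theorem E269 : n7823 = n1918 := ((D7823).symm.trans (sb E176 (iv D4005)))
theorem E270 : n3872 = n1805 := ((((iv D3744)).symm.trans (sb E176 F6106))).symm
theorem E271 : n8369 = n7824 := (((D7824).symm.trans (sb E176 D8369))).symm
theorem F14704 : act 2 n944 = n1806 := (sb E177 (iv D3745))
theorem E273 : n7826 = n476 := ((((iv D944)).symm.trans (sb E177 D7826))).symm
theorem E274 : n7827 = n1922 := (((D1922).symm.trans (sb E177 D7827))).symm
theorem E276 : n3869 = n453 := ((((iv D895)).symm.trans (sb E178 F6114))).symm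
theorem E280 : n8384 = n7829 := (((D7829).symm.trans (sb E179 D8384))).symm
theorem E281 : n8386 = n4007 := ((((iv F6110)).symm.trans (sb E180 D8386))).symm
theorem E285 : n2137 = n1254 := (((D1254).symm.trans (sb E184 D2137))).symm
theorem F14707 : act 5 n542 = n541 := (sb E185 F1790)
theorem E288 : n4584 = n1123 := (((D1123).symm.trans (sb E187 D4584))).symm
theorem E289 : n581 = n295 := ((((iv F578)).symm.trans (sb E191 (iv D1156)))).symm
theorem E291 : n2338 = n289 := ((((iv F566)).symm.trans (sb E191 (iv F3693)))).symm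
theorem E292 : n2377 = n247 := ((((iv F499)).symm.trans (sb E191 D2377))).symm
theorem E294 : n7813 = n895 := ((((iv F1602)).symm.trans (sb E194 (iv F11621)))).symm
theorem E296 : n4325 = n539 := ((((iv F1022)).symm.trans (sb E197 (iv F6598)))).symm
theorem E297 : n2207 = n543 := (((D543).symm.trans (sb E197 (iv F3503)))).symm
theorem F14708 : act 0 n517 = n542 := (sb E200 F1862)
theorem E300 : n2199 = n263 := ((((iv D517)).symm.trans (sb E200 D2199))).symm
theorem F14709 : act 2 n517 = n541 := (sb E200 (iv D1076))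
theorem E303 : n4348 = n2202 := (((D2202).symm.trans (sb E202 D4348))).symm
theorem E307 : n2784 = n64 := ((((iv D143)).symm.trans (sb E207 F7224))).symm
theorem E310 : n6911 = n247 := ((((iv F499)).symm.trans (sb E207 F10384))).symm
theorem E319 : n6913 = n895 := ((((iv F1602)).symm.trans (sb E210 (iv F10385)))).symm
theorem E339 : n9799 = n4761 := (((D4761).symm.trans (sb E220 D9799))).symm
theorem E340 : n9800 = n4762 := (((D4762).symm.trans (sb E220 D9800))).symm
theorem E341 : n9801 = n4763 := (((D4763).symm.trans (sb E220 D9801))).symm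
theorem F14710 : act 1 n582 = n582 := (sb E222 F1968)
theorem E343 : n2379 = n596 := ((((iv F1107)).symm.trans (sb E222 D2379))).symm
theorem E344 : n2380 = n1160 := (((D1160).symm.trans (sb E222 D2380))).symm
theorem E345 : n2381 = n596 := ((((iv F1108)).symm.trans (sb E222 D2381))).symm
theorem E346 : n2382 = n978 := ((((iv F1711)).symm.trans (sb E222 D2382))).symm
theorem E347 : n8361 = n944 := ((((iv F1661)).symm.trans (sb E225 (iv F12463)))).symm
theorem F14711 : act 0 n320 = n320 := (sb E230 F1168)
theorem E350 : n319 = n159 := ((((iv D320)).symm.trans (sb E230 (iv D627)))).symm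
theorem E351 : n1228 = n619 := ((((iv F1157)).symm.trans (sb E230 (iv F2083)))).symm
theorem E361 : n4420 = n2584 := (((D2584).symm.trans (sb E236 D4420))).symm
theorem E362 : n2208 = n2206 := (((D2206).symm.trans (sb E237 D2208))).symm
theorem E363 : n2188 = n2187 := ((((iv F3473)).symm.trans (sb E237 (iv F3475)))).symm
theorem E371 : n340 = n34 := (((F129).symm.trans (sb E246 (iv D671)))).symm
theorem E372 : n1346 = n28 := (((F130).symm.trans (sb E246 D1346))).symm
theorem E374 : n1318 = n136 := ((((iv F278)).symm.trans (sb E246 (iv F2207)))).symm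
theorem E375 : n1347 = n26 := ((((iv D60)).symm.trans (sb E246 D1347))).symm
theorem E376 : n1348 = n81 := ((((iv F168)).symm.trans (sb E246 D1348))).symm
theorem E381 : n4646 = n550 := ((((iv F1037)).symm.trans (sb E248 (iv F7078)))).symm
theorem E382 : n4276 = n524 := ((((iv F1002)).symm.trans (sb E248 (iv F6512)))).symm
theorem E383 : n4675 = n554 := (((D554).symm.trans (sb E248 D4675))).symm
theorem E384 : n1010 = n130 := ((((iv D268)).symm.trans (sb E249 (iv D2056)))).symm
theorem E385 : n2306 = n351 := ((((iv F671)).symm.trans (sb E250 (iv F3653)))).symm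
theorem F14719 : act 1 n1069 = n1069 := (sb E252 (iv D2183))
theorem E391 : n4522 = n2177 := ((((iv F3455)).symm.trans (sb E252 (iv F6892)))).symm
theorem E392 : n4536 = n1070 := (((E266).symm.trans (((iv F3306)).symm.trans (sb E252 D4536)))).symm
theorem E393 : n4537 = n2185 := (((D2185).symm.trans (sb E252 D4537))).symm
theorem E396 : n4569 = n2202 := (((D2202).symm.trans (sb E254 D4569))).symm
theorem E397 : n4570 = n1025 := (((F1865).symm.trans (sb E254 D4570))).symm
theorem F14720 : act 1 n1092 = n1092 := (sb E255 (iv D2236))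
theorem E398 : n4647 = n2237 := (((D2237).symm.trans (sb E255 D4647))).symm
theorem E399 : n4648 = n2112 := ((((iv F3357)).symm.trans (sb E255 D4648))).symm
theorem E400 : n4649 = n2238 := (((D2238).symm.trans (sb E255 D4649))).symm
theorem E401 : n4680 = n1103 := ((((iv F1901)).symm.trans (sb E256 D4680))).symm
theorem E402 : n4681 = n2255 := (((D2255).symm.trans (sb E257 D4681))).symm
theorem E403 : n4682 = n1041 := (((F1895).symm.trans (sb E257 D4682))).symm
theorem E404 : n2857 = n1254 := (((D1254).symm.trans (sb E258 (iv F4470)))).symm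
theorem E405 : n1377 = n1123 := (((D1123).symm.trans (sb E259 (iv F3632)))).symm
theorem E406 : n2292 = n1394 := ((D2292).symm.trans (sb E260 F3616))
theorem E407 : n4748 = n2293 := (((D2293).symm.trans (sb E260 D4748))).symm
theorem E408 : n1395 = n1392 := (((iv F3414)).symm.trans (sb E260 (iv F3615)))
theorem E409 : n2816 = n1051 := (((D1051).symm.trans (sb E261 (iv F4410)))).symm
theorem E410 : n9449 = n507 := ((((iv F971)).symm.trans (sb E262 (iv F14154)))).symm
theorem F14722 : act 2 n1019 = n1069 := (sb E265 (iv D2184))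
theorem E413 : n4539 = n2072 := ((((iv F3292)).symm.trans (sb E265 D4539))).symm
theorem E414 : n4540 = n2078 := (((D2078).symm.trans (sb E265 D4540))).symm
theorem F14723 : act 0 n1070 = n1019 := (sb E266 (iv D2076))
theorem E416 : n4316 = n2186 := (((D2186).symm.trans (sb E266 (iv F6578)))).symm
theorem F14724 : act 5 n1070 = n1069 := (sb E266 F3306)
theorem F14725 : act 0 n1025 = n1079 := (sb E267 F3494)
theorem E417 : n4577 = n2088 := (((D2088).symm.trans (sb E267 D4577))).symm
theorem F14726 : act 2 n1025 = n1077 := (sb E267 F3495)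
theorem F14727 : act 2 n1918 = n3744 := (sb E269 (iv D7823))
theorem E420 : n1861 = n894 := ((((iv D1805)).symm.trans (sb E270 (iv D3872)))).symm
theorem F14728 : act 2 n7824 = n4006 := (sb E271 F12475)
theorem E423 : n7700 = n239 := ((((iv D476)).symm.trans (sb E273 F11647))).symm
theorem F14729 : act 2 n1922 = n3746 := (sb E274 F11649)
theorem E424 : n8095 = n230 := ((((iv D453)).symm.trans (sb E276 (iv F12099)))).symm
theorem E425 : n1859 = n883 := ((((iv F1578)).symm.trans (sb E276 (iv D3869)))).symm
theorem F14731 : act 2 n7829 = n4015 := (sb E280 F12503)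
theorem F14732 : act 2 n4007 = n4017 := (sb E281 F12507)
theorem E435 : n2585 = n2304 := ((D2585).symm.trans (sb E285 (iv F3650)))
theorem E439 : n9475 = n1137 := ((((iv F3439)).symm.trans (sb E288 D9475))).symm
theorem E441 : n9477 = n1405 := ((((iv F2315)).symm.trans (sb E288 D9477))).symm
theorem F14733 : act 1 n295 = n295 := (sb E289 (iv D581))
theorem E442 : n1154 = n142 := ((((iv D295)).symm.trans (sb E289 (iv F1963)))).symm
theorem E443 : n1139 = n571 := ((((iv F1067)).symm.trans (sb E289 (iv F1941)))).symm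
theorem E444 : n1158 = n304 := ((((iv F595)).symm.trans (sb E289 D1158))).symm
theorem E445 : n1159 = n496 := ((((iv F952)).symm.trans (sb E289 D1159))).symm
theorem E452 : n4853 = n483 := ((((iv F918)).symm.trans (sb E291 D4853))).symm
theorem E454 : n4001 = n476 := ((((iv F915)).symm.trans (sb E292 (iv F6103)))).symm
theorem E458 : n3740 = n1805 := ((((iv F2929)).symm.trans (sb E294 F11619))).symm
theorem E459 : n3739 = n453 := ((((iv D895)).symm.trans (sb E294 (iv D7813)))).symm
theorem E467 : n4546 = n1071 := (((D1071).symm.trans (sb E296 (iv F6940)))).symm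
theorem E468 : n4588 = n643 := ((((iv F1192)).symm.trans (sb E297 D4588))).symm
theorem F14734 : act 5 n543 = n1079 := (sb E297 (iv D2207))
theorem E469 : n4571 = n507 := ((((iv F971)).symm.trans (sb E300 D4571))).symm
theorem E477 : n9008 = n2639 := (((F4148).symm.trans (sb E303 D9008))).symm
theorem E480 : n5657 = n140 := ((((iv F283)).symm.trans (sb E307 (iv F8551)))).symm
theorem E481 : n3331 = n117 := ((((iv F240)).symm.trans (sb E307 (iv F5159)))).symm
theorem E483 : n3328 = n476 := ((((iv F915)).symm.trans (sb E310 (iv D6911)))).symm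
theorem E485 : n3329 = n453 := ((((iv D895)).symm.trans (sb E319 F10386))).symm
theorem F14735 : act 2 n4761 = n4763 := (sb E339 (tr (iv F14656) E341))
theorem F14736 : act 5 n4761 = n4762 := (sb E339 (tr F14654 E340))
theorem F14737 : act 0 n4762 = n4763 := (sb E340 (tr (iv F14655) E341))
theorem E488 : n2434 = n1184 := ((((iv F1996)).symm.trans (sb E343 (iv F3823)))).symm
theorem F14738 : act 1 n1160 = n1160 := (sb E344 F3751)
theorem E493 : n4856 = n2343 := ((((iv F3700)).symm.trans (sb E344 (iv F7401)))).symm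
theorem E494 : n4944 = n1187 := ((((iv F2003)).symm.trans (sb E344 D4944))).symm
theorem E495 : n4945 = n1988 := ((((iv F3172)).symm.trans (sb E344 D4945))).symm
theorem E496 : n2431 = n1184 := ((((iv F1996)).symm.trans (sb E345 (iv F3814)))).symm
theorem E497 : n4088 = n1956 := ((((iv F3118)).symm.trans (sb E346 (iv F6192)))).symm
theorem E498 : n4002 = n1918 := ((((iv F3082)).symm.trans (sb E347 F12462))).symm
theorem F14739 : act 0 n159 = n159 := (sb E350 (iv D319))
theorem E499 : n170 = n78 := (((F321).symm.trans (sb E350 F626))).symm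
theorem E500 : n618 = n315 := ((((iv F616)).symm.trans (sb E350 (iv F1155)))).symm
theorem F14740 : act 0 n619 = n619 := (sb E351 F2082)
theorem E502 : n2527 = n1230 := (((D1230).symm.trans (sb E351 D2527))).symm
theorem E512 : n5367 = n4703 := ((D5367).symm.trans (sb E361 (iv F7164)))
theorem E513 : n4586 = n2222 := ((D4586).symm.trans (sb E362 F3521))
theorem E514 : n4589 = n2647 := ((((iv F4158)).symm.trans (sb E362 D4589))).symm
theorem E515 : n4547 = n4545 := ((((iv F6935)).symm.trans (sb E362 (iv F6941)))).symm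
theorem E516 : n4587 = n2649 := ((D4587).symm.trans (sb E362 (iv F4164)))
theorem E517 : n4544 = n4527 := (((iv F6934)).symm.trans (sb E363 (iv F6903)))
theorem E534 : n659 = n76 := ((((iv F157)).symm.trans (sb E371 (iv F1213)))).symm
theorem E537 : n2724 = n62 := ((((iv F135)).symm.trans (sb E372 (iv F4248)))).symm
theorem E538 : n2786 = n12 := ((((iv D28)).symm.trans (sb E372 D2786))).symm
theorem E543 : n2684 = n278 := ((((iv F557)).symm.trans (sb E374 (iv F4195)))).symm
theorem E544 : n2725 = n59 := ((((iv D136)).symm.trans (sb E374 D2725))).symm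
theorem E545 : n2726 = n169 := ((((iv F345)).symm.trans (sb E374 D2726))).symm
theorem E546 : n2026 = n57 := (((D57).symm.trans (sb E375 (iv F3399)))).symm
theorem E547 : n1354 = n61 := (((D61).symm.trans (sb E375 (iv F2266)))).symm
theorem E548 : n2313 = n175 := (((D175).symm.trans (sb E376 (iv F3663)))).symm
theorem E560 : n8865 = n1035 := ((((iv F1805)).symm.trans (sb E381 (iv F13245)))).symm
theorem E561 : n9602 = n1094 := (((D1094).symm.trans (sb E381 D9602))).symm
theorem E562 : n2050 = n266 := ((((iv D524)).symm.trans (sb E382 (iv D4276)))).symm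
theorem E563 : n4705 = n670 := ((((iv F1235)).symm.trans (sb E383 (iv F7169)))).symm
theorem E564 : n512 = n260 := ((((iv F528)).symm.trans (sb E384 (iv D1010)))).symm
theorem E565 : n2057 = n230 := ((((iv F471)).symm.trans (sb E384 D2057))).symm
theorem E566 : n2058 = n269 := (((D269).symm.trans (sb E384 D2058))).symm
theorem E567 : n1126 = n695 := ((((iv F1255)).symm.trans (sb E385 F3652))).symm
theorem E568 : n4786 = n697 := ((((iv F1258)).symm.trans (sb E385 (iv F7303)))).symm
theorem F14749 : act 1 n2177 = n2177 := (sb E391 (iv D4522))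
theorem E589 : n9377 = n2187 := (((D2187).symm.trans (sb E392 D9377))).symm
theorem E590 : n9378 = n4541 := (((D4541).symm.trans (sb E393 D9378))).symm
theorem E595 : n4578 = n2638 := ((D4578).symm.trans (sb E396 F6977))
theorem E596 : n9448 = n4579 := (((D4579).symm.trans (sb E396 D9448))).symm
theorem E597 : n2639 = n2636 := ((F4148).symm.trans (sb E396 (iv F6976)))
theorem E598 : n5388 = n2088 := (((D2088).symm.trans (sb E397 (iv F8241)))).symm
theorem E599 : n9603 = n4650 := (((D4650).symm.trans (sb E398 D9603))).symm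
theorem E603 : n9607 = n2241 := ((((iv F3550)).symm.trans (sb E399 D9607))).symm
theorem E604 : n9608 = n4653 := (((D4653).symm.trans (sb E400 D9608))).symm
theorem E606 : n2755 = n2261 := (((D2261).symm.trans (sb E401 (iv F7120)))).symm
theorem E607 : n4690 = n2772 := ((D4690).symm.trans (sb E402 F7124))
theorem E608 : n9672 = n4691 := (((D4691).symm.trans (sb E402 D9672))).symm
theorem E609 : n2773 = n2770 := ((F4340).symm.trans (sb E402 (iv F7123)))
theorem E610 : n5689 = n2124 := (((D2124).symm.trans (sb E403 (iv F8624)))).symm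
theorem E611 : n2304 = n1384 := ((E435).symm.trans ((D2585).symm.trans (sb E404 (iv D2857))))
theorem E612 : n1137 = n687 := (((iv F3439)).symm.trans (sb E405 F2287))
theorem E613 : n2844 = n2303 := (((D2303).symm.trans (sb E405 (iv F4447)))).symm
theorem E614 : n1405 = n685 := (((iv F2315)).symm.trans (sb E405 (iv D1377)))
theorem E615 : n2863 = n2064 := (((iv F4482)).symm.trans (sb E406 F3628))
theorem E616 : n4764 = n2874 := ((((iv F4496)).symm.trans (sb E406 D4764))).symm
theorem E617 : n2871 = n693 := ((((iv D1394)).symm.trans (sb E406 (iv F4494)))).symm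
theorem E618 : n9803 = n4765 := (((D4765).symm.trans (sb E407 D9803))).symm
theorem E619 : n2875 = n2870 := ((F4498).symm.trans (sb E407 F7242))
theorem E620 : n2145 = n1362 := (((F2303).symm.trans (sb E408 (iv F3411)))).symm
theorem F14755 : act 5 n1392 = n1117 := (sb E408 F3414)
theorem E621 : n2143 = n1364 := ((D2143).symm.trans (sb E409 F4409))
theorem E622 : n5824 = n2144 := (((D2144).symm.trans (sb E409 (iv F8869)))).symm
theorem E623 : n2322 = n531 := (((F1831).symm.trans (sb E409 F4411))).symm
theorem E624 : n1003 = n507 := ((D1003).symm.trans (sb E410 (tr (iv D9449) E469)))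
theorem E629 : n9384 = n4317 := (((D4317).symm.trans (sb E413 D9384))).symm
theorem F14757 : act 2 n2078 = n2185 := (sb E414 F6928)
theorem F14758 : act 0 n2186 = n2072 := (sb E416 (iv D4316))
theorem E634 : n8943 = n4542 := (((D4542).symm.trans (sb E416 D8943))).symm
theorem F14760 : act 5 n2186 = n2177 := (sb E416 F6580)
theorem E636 : n9462 = n4350 := (((D4350).symm.trans (sb E417 D9462))).symm
theorem E637 : n9463 = n4351 := (((D4351).symm.trans (sb E417 D9463))).symm
theorem E640 : n3817 = n1804 := (((D1804).symm.trans (sb E420 (iv F5847)))).symm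
theorem E641 : n1780 = n919 := (((iv F2893)).symm.trans (sb E420 (iv D1861)))
theorem E642 : n3873 = n1796 := ((((iv F2915)).symm.trans (sb E420 D3873))).symm
theorem E644 : n3689 = n464 := ((((iv F897)).symm.trans (sb E423 (iv D7700)))).symm
theorem E646 : n3868 = n448 := ((((iv F871)).symm.trans (sb E424 (iv D8095)))).symm
theorem E647 : n1781 = n918 := ((D1781).symm.trans (sb E425 (iv D1859)))
theorem E653 : n2585 = n1384 := (E435).trans E611
theorem E656 : n2616 = n1255 := (((iv F4121)).symm.trans (sb E653 F4083))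
theorem E657 : n4703 = n2762 := ((((iv F4320)).symm.trans (sb E653 (tr (iv F8216) E512)))).symm
theorem E660 : n9475 = n687 := (E439).trans E612
theorem E661 : n2222 = n1267 := ((((iv F2141)).symm.trans (sb E660 (tr F14186 E513)))).symm
theorem E663 : n9477 = n685 := (E441).trans E614
theorem E664 : n2649 = n1265 := ((((iv F2140)).symm.trans (sb E663 (tr F14189 E516)))).symm
theorem E665 : n580 = n294 := (((D294).symm.trans (sb E442 (iv D1154)))).symm
theorem E669 : n2373 = n253 := (((F514).symm.trans (sb E442 D2373))).symm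
theorem F14762 : act 1 n571 = n571 := (sb E443 (iv D1139))
theorem E670 : n2339 = n1140 := (((D1140).symm.trans (sb E443 D2339))).symm
theorem E671 : n2340 = n597 := ((((iv F1111)).symm.trans (sb E443 D2340))).symm
theorem E672 : n2341 = n967 := ((((iv F1694)).symm.trans (sb E443 D2341))).symm
theorem E673 : n1183 = n595 := (((D595).symm.trans (sb E444 F1995))).symm
theorem E674 : n1957 = n959 := ((((iv F1676)).symm.trans (sb E445 (iv F3119)))).symm
theorem E677 : n8272 = n934 := ((((iv F1649)).symm.trans (sb E452 (iv F12292)))).symm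
theorem E680 : n1917 = n942 := ((((iv F1658)).symm.trans (sb E454 (iv D4001)))).symm
theorem E681 : n7814 = n239 := ((((iv D476)).symm.trans (sb E454 (iv F11624)))).symm
theorem E685 : n7816 = n3743 := (((D3743).symm.trans (sb E458 D7816))).symm
theorem E686 : n1804 = n894 := ((((iv D1805)).symm.trans (sb E458 (iv D3740)))).symm
theorem E690 : n7640 = n230 := ((((iv D453)).symm.trans (sb E459 (iv F11361)))).symm
theorem E693 : n7815 = n896 := (((D896).symm.trans (sb E459 D7815))).symm
theorem F14763 : act 5 n1071 = n2187 := (sb E467 (iv D4546))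
theorem E700 : n9480 = n1284 := (((D1284).symm.trans (sb E468 (iv F14191)))).symm
theorem E706 : n9008 = n2636 := (E477).trans E597
theorem E707 : n4351 = n2593 := (((F4144).symm.trans (sb E706 (tr (iv F14171) E637)))).symm
theorem E710 : n6886 = n243 := ((((iv F488)).symm.trans (sb E480 (iv F10345)))).symm
theorem E711 : n1615 = n51 := ((((iv D117)).symm.trans (sb E481 (iv D3331)))).symm
theorem E713 : n6908 = n942 := ((((iv F1658)).symm.trans (sb E483 (iv F10380)))).symm
theorem E721 : n6915 = n896 := (((D896).symm.trans (sb E485 D6915))).symm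
theorem F14764 : act 2 n1184 = n1184 := (sb E488 (iv D2434))
theorem E724 : n5049 = n2435 := (((D2435).symm.trans (sb E488 D5049))).symm
theorem F14765 : act 1 n2343 = n2343 := (sb E493 F7400)
theorem E726 : n5043 = n2435 := ((((iv F3824)).symm.trans (sb E494 (iv F7665)))).symm
theorem E727 : n8512 = n4087 := ((((iv F6191)).symm.trans (sb E495 (iv F12699)))).symm
theorem F14766 : act 0 n1184 = n1184 := (sb E496 F3813)
theorem F14767 : act 5 n1184 = n1184 := (sb E496 F3815)
theorem E729 : n8506 = n4083 := ((((iv F6187)).symm.trans (sb E497 (iv F12691)))).symm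
theorem F14768 : act 6 n1956 = n1956 := (sb E497 (iv D4088))
theorem F14769 : act 1 n1918 = n1918 := (sb E498 F6104)
theorem E733 : n8364 = n4006 := (((D4006).symm.trans (sb E498 D8364))).symm
theorem F14770 : act 0 n78 = n78 := (sb E499 (iv D170))
theorem E735 : n334 = n166 := ((((iv F334)).symm.trans (sb E499 (iv F649)))).symm
theorem E736 : n341 = n171 := (((D171).symm.trans (sb E499 D341))).symm
theorem F14771 : act 0 n315 = n315 := (sb E500 (iv D618))
theorem E737 : n1219 = n614 := ((((iv F1142)).symm.trans (sb E500 (iv F2063)))).symm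
theorem E740 : n5249 = n2530 := (((D2530).symm.trans (sb E502 D5249))).symm
theorem E750 : n4586 = n1267 := (E513).trans E661
theorem E752 : n5489 = n2612 := ((((iv F4114)).symm.trans (sb E750 (iv F8368)))).symm
theorem E753 : n9397 = n2545 := ((((iv F4019)).symm.trans (sb E750 (iv F14068)))).symm
theorem E756 : n4618 = n2612 := (((E752).symm.trans ((D5489).symm.trans (sb E514 (iv F7037))))).symm
theorem E760 : n4561 = n2545 := (((E753).symm.trans ((D9397).symm.trans (sb E515 F6964)))).symm
theorem E763 : n4587 = n1265 := (E516).trans E664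
theorem E764 : n2209 = n1284 := (((iv F3505)).symm.trans (sb E763 (tr D9480 E700)))
theorem E768 : n9393 = n9355 := ((((iv F13989)).symm.trans (sb E517 (iv F14060)))).symm
theorem F14780 : act 3 n4527 = n2187 := (sb E517 F6934)
theorem F14781 : act 6 n4527 = n2186 := (sb E517 (iv D4544))
theorem E788 : n1321 = n167 := (((D167).symm.trans (sb E534 D1321))).symm
theorem E791 : n5659 = n27 := ((((iv D62)).symm.trans (sb E537 D5659))).symm
theorem E793 : n3265 = n23 := ((((iv F67)).symm.trans (sb E538 (iv F5070)))).symm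
theorem E803 : n5572 = n135 := ((((iv D278)).symm.trans (sb E543 D5572))).symm
theorem E805 : n4224 = n129 := ((((iv F266)).symm.trans (sb E544 F6420))).symm
theorem E807 : n4712 = n339 := (((D339).symm.trans (sb E545 (iv F7186)))).symm
theorem E809 : n997 = n127 := (((D127).symm.trans (sb E546 (iv D2026)))).symm
theorem E812 : n2800 = n139 := (((D139).symm.trans (sb E547 D2800))).symm
theorem E815 : n1127 = n348 := ((((iv F669)).symm.trans (sb E548 (iv D2313)))).symm
theorem E823 : n4270 = n522 := ((((iv D1035)).symm.trans (sb E560 (iv D8865)))).symm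
theorem E824 : n9631 = n1317 := ((((iv F2205)).symm.trans (sb E561 (iv F14370)))).symm
theorem E825 : n1008 = n510 := ((((iv F978)).symm.trans (sb E562 (iv D2050)))).symm
theorem E826 : n4277 = n451 := ((((iv F874)).symm.trans (sb E562 D4277))).symm
theorem E828 : n2264 = n1342 := ((((iv F2248)).symm.trans (sb E563 F7168))).symm
theorem F14782 : act 1 n260 = n260 := (sb E564 (iv D512))
theorem E831 : n1011 = n445 := ((((iv F867)).symm.trans (sb E564 D1011))).symm
theorem E832 : n1012 = n271 := ((((iv F543)).symm.trans (sb E564 D1012))).symm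
theorem E833 : n4289 = n448 := ((((iv F871)).symm.trans (sb E565 D4289))).symm
theorem E834 : n4290 = n454 := (((D454).symm.trans (sb E565 D4290))).symm
theorem E835 : n2028 = n261 := (((F540).symm.trans (sb E566 F3276))).symm
theorem E836 : n2311 = n1399 := (((D1399).symm.trans (sb E567 D2311))).symm
theorem E837 : n2309 = n1398 := ((((iv F2306)).symm.trans (sb E567 (iv F3655)))).symm
theorem E838 : n692 = n564 := ((F1256).symm.trans (sb E567 (iv D1126)))
theorem E839 : n2305 = n1404 := (((D1404).symm.trans (sb E568 (iv D4786)))).symm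
theorem E841 : n5284 = n4545 := (((D4545).symm.trans (sb E589 (iv F14032)))).symm
theorem E843 : n5320 = n5317 := ((F8136).symm.trans (sb E590 (iv F14035)))
theorem E847 : n5470 = n1279 := ((((iv D2638)).symm.trans (sb E595 (iv F8347)))).symm
theorem E848 : n5474 = n5469 := ((F8351).symm.trans (sb E596 F14152))
theorem F14789 : act 5 n2636 = n2202 := (sb E597 (iv F4148))
theorem E849 : n4349 = n2595 := ((D4349).symm.trans (sb E598 F8240))
theorem E850 : n4607 = n1026 := (((F3326).symm.trans (sb E598 F8243))).symm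
theorem F14790 : act 2 n4650 = n4650 := (sb E599 F14337)
theorem E851 : n5615 = n4659 := (((D4659).symm.trans (sb E603 (iv F14342)))).symm
theorem E853 : n5646 = n5643 := ((F8536).symm.trans (sb E604 (iv F14345)))
theorem E856 : n2783 = n1332 := (((iv F4361)).symm.trans (sb E606 (iv D2755)))
theorem E857 : n5736 = n4284 := (((iv F8726)).symm.trans (sb E607 F7141))
theorem E859 : n5744 = n1340 := ((((iv D2772)).symm.trans (sb E607 (iv F8744)))).symm
theorem E860 : n5748 = n5743 := ((F8751).symm.trans (sb E608 F14431))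
theorem E861 : n4428 = n2740 := (((F4335).symm.trans (sb E609 (iv F6754)))).symm
theorem F14795 : act 5 n2770 = n2255 := (sb E609 (iv F4340))
theorem E862 : n4426 = n2742 := ((D4426).symm.trans (sb E610 F8623))
theorem E863 : n4721 = n1042 := (((F3376).symm.trans (sb E610 F8626))).symm
theorem E866 : n1382 = n569 := ((D1382).symm.trans (sb E612 (iv D1137)))
theorem E870 : n2895 = n1376 := (((iv F4522)).symm.trans (sb E613 (iv D2844)))
theorem F14798 : act 1 n685 = n698 := (sb E614 (iv D1405))
theorem F14799 : act 5 n685 = n1123 := (sb E614 F2315)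
theorem E872 : n2808 = n1015 := (((F3281).symm.trans (sb E615 F4481))).symm
theorem E873 : n4299 = n4059 := (((iv F6553)).symm.trans (sb E615 (iv F6161)))
theorem E874 : n1388 = n1013 := ((((iv D2064)).symm.trans (sb E615 (iv D2863)))).symm
theorem F14801 : act 0 n2874 = n2293 := (sb E616 F7267)
theorem E876 : n5928 = n1393 := ((((iv D2874)).symm.trans (sb E616 (iv F9011)))).symm
theorem F14803 : act 6 n693 = n1392 := (sb E617 (iv D2871))
theorem E877 : n5936 = n5927 := ((F9018).symm.trans (sb E618 F14658))
theorem F14806 : act 5 n2870 = n2293 := (sb E619 (iv F4498))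
theorem E880 : n4464 = n2815 := (((D2815).symm.trans (sb E620 (iv F6815)))).symm
theorem F14807 : act 5 n1362 = n1051 := (sb E620 (iv D2145))
theorem E881 : n2163 = n2161 := ((F3431).symm.trans (sb E621 F3438))
theorem E882 : n4462 = n2819 := ((((iv F4413)).symm.trans (sb E621 D4462))).symm
theorem E883 : n1131 = n1052 := (((iv F3432)).symm.trans (sb E621 F3408))
theorem E884 : n4819 = n1053 := (((F3409).symm.trans (sb E622 F8870))).symm
theorem E885 : n1365 = n1054 := (((D1054).symm.trans (sb E623 F3672))).symm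
theorem F14809 : act 1 n507 = n507 := (sb E624 (iv D1003))
theorem E887 : n2036 = n1001 := ((((iv F1760)).symm.trans (sb E624 (iv F3252)))).symm
theorem E888 : n2017 = n258 := ((((iv D507)).symm.trans (sb E624 (iv F3222)))).symm
theorem E889 : n2040 = n520 := ((((iv F998)).symm.trans (sb E624 D2040))).symm
theorem E890 : n9351 = n8944 := (((D8944).symm.trans (sb E629 F14045))).symm
theorem F14810 : act 0 n4542 = n4317 := (sb E634 F13388)
theorem F14811 : act 4 n4542 = n4404 := (sb E634 F13389)
theorem F14812 : act 5 n4542 = n4523 := (sb E634 F13390)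
theorem F14813 : act 1 n4350 = n4579 := (sb E636 F14170)
theorem E893 : n3817 = n894 := (E640).trans E686
theorem E896 : n1837 = n919 := (((E641).symm.trans (((iv F2893)).symm.trans (sb E893 (iv D3817))))).symm
theorem E897 : n7976 = n1796 := ((((iv F2915)).symm.trans (sb E893 D7976))).symm
theorem F14814 : act 0 n919 = n883 := (sb E641 (iv D1780))
theorem F14815 : act 3 n919 = n894 := (sb E641 F2893)
theorem E901 : n3680 = n1851 := ((((iv F2997)).symm.trans (sb E641 (iv F5658)))).symm
theorem E902 : n1864 = n1862 := (((D1862).symm.trans (sb E641 (iv F3014)))).symm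
theorem E903 : n3723 = n1796 := ((D3723).symm.trans (sb E642 (tr (iv F11907) E897)))
theorem E908 : n7680 = n914 := ((((iv F1626)).symm.trans (sb E644 (iv F11425)))).symm
theorem E909 : n3876 = n920 := (((D920).symm.trans (sb E644 (iv F5936)))).symm
theorem E911 : n8087 = n873 := ((((iv F1562)).symm.trans (sb E646 (iv F12089)))).symm
theorem E915 : n3646 = n1858 := (((D1858).symm.trans (sb E647 (iv F5599)))).symm
theorem F14816 : act 2 n918 = n883 := (sb E647 (iv D1781))
theorem E916 : n3681 = n1850 := ((((iv F2996)).symm.trans (sb E647 (iv F5660)))).symm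
theorem F14817 : act 5 n918 = n919 := (sb E647 F2895)
theorem E917 : n3691 = n1860 := (((D1860).symm.trans (sb E647 D3691))).symm
theorem E922 : n5427 = n2587 := (((D2587).symm.trans (sb E656 (iv F8283)))).symm
theorem E925 : n2761 = n2753 := ((F4319).symm.trans (sb E657 F7163))
theorem F14821 : act 2 n294 = n294 := (sb E665 (iv D580))
theorem E935 : n1138 = n570 := ((((iv F1063)).symm.trans (sb E665 (iv F1938)))).symm
theorem E936 : n414 = n209 := (((F577).symm.trans (sb E665 F1091))).symm
theorem E944 : n1618 = n120 := ((((iv D253)).symm.trans (sb E669 F3742))).symm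
theorem F14822 : act 1 n1140 = n1140 := (sb E670 F3694)
theorem E946 : n4857 = n1188 := ((((iv F2005)).symm.trans (sb E670 D4857))).symm
theorem E947 : n4858 = n1970 := ((((iv F3143)).symm.trans (sb E670 D4858))).symm
theorem E948 : n2432 = n1185 := ((((iv F1997)).symm.trans (sb E671 (iv F3817)))).symm
theorem E949 : n3989 = n1911 := ((((iv F3078)).symm.trans (sb E672 (iv F6087)))).symm
theorem F14823 : act 0 n595 = n595 := (sb E673 (iv D1183))
theorem F14824 : act 5 n595 = n595 := (sb E673 F1994)
theorem E950 : n2433 = n1186 := (((D1186).symm.trans (sb E673 D2433))).symm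
theorem E951 : n4084 = n1954 := ((((iv F3115)).symm.trans (sb E674 (iv F6188)))).symm
theorem E952 : n960 = n482 := ((((iv D959)).symm.trans (sb E674 F3120))).symm
theorem F14825 : act 6 n959 = n959 := (sb E674 (iv D1957))
theorem E954 : n3949 = n1894 := ((((iv F3045)).symm.trans (sb E677 (iv D8272)))).symm
theorem F14826 : act 1 n942 = n942 := (sb E680 (iv D1917))
theorem E955 : n3741 = n475 := ((((iv D942)).symm.trans (sb E680 (iv F7514)))).symm
theorem E956 : n6627 = n113 := ((((iv D239)).symm.trans (sb E681 F11623))).symm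
theorem E957 : n7820 = n477 := (((D477).symm.trans (sb E681 (iv F11635)))).symm
theorem F14827 : act 2 n3743 = n3743 := (sb E685 F11627)
theorem F14828 : act 5 n3743 = n3743 := (sb E685 F11628)
theorem F14829 : act 1 n894 = n894 := (sb E686 (iv D1804))
theorem E960 : n3742 = n947 := ((((iv F1665)).symm.trans (sb E686 D3742))).symm
theorem E961 : n3662 = n445 := ((((iv F866)).symm.trans (sb E690 (iv D7640)))).symm
theorem E964 : n6947 = n1808 := (((D1808).symm.trans (sb E693 (iv F11626)))).symm
theorem E969 : n9011 = n5387 := (((D5387).symm.trans (sb E707 (iv F13511)))).symm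
theorem E970 : n8969 = n5269 := ((((iv F8048)).symm.trans (sb E707 (iv F13441)))).symm
theorem F14830 : act 5 n2593 = n2088 := (sb E707 (iv D4351))
theorem E971 : n4597 = n2643 := ((F7012).symm.trans (sb E707 F6643))
theorem E973 : n3316 = n115 := ((((iv D243)).symm.trans (sb E710 (iv D6886)))).symm
theorem E974 : n805 = n98 := ((((iv F207)).symm.trans (sb E711 F2655))).symm
theorem E977 : n3327 = n475 := ((((iv D942)).symm.trans (sb E713 (iv D6908)))).symm
theorem E983 : n7851 = n1808 := (((D1808).symm.trans (sb E721 (iv F11695)))).symm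
theorem E984 : n6910 = n943 := ((((iv F1660)).symm.trans (sb E721 F10388))).symm
theorem F14831 : act 2 n2435 = n2435 := (sb E724 F7680)
theorem F14833 : act 0 n2435 = n2435 := (sb E726 F7664)
theorem F14834 : act 5 n2435 = n2435 := (sb E726 F7666)
theorem F14835 : act 6 n4087 = n4087 := (sb E727 (iv D8512))
theorem E985 : n8484 = n8481 := ((((iv F12650)).symm.trans (sb E729 F12693))).symm
theorem F14839 : act 1 n4006 = n4006 := (sb E733 F12467)
theorem F14840 : act 0 n166 = n166 := (sb E735 (iv D334))
theorem E986 : n651 = n330 := ((((iv F639)).symm.trans (sb E735 (iv F1203)))).symm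
theorem E987 : n660 = n335 := (((D335).symm.trans (sb E735 D660))).symm
theorem F14841 : act 0 n171 = n171 := (sb E736 F660)
theorem F14842 : act 5 n171 = n171 := (sb E736 F662)
theorem F14843 : act 0 n614 = n614 := (sb E737 (iv D1219))
theorem E989 : n2505 = n1220 := (((D1220).symm.trans (sb E737 D2505))).symm
theorem E990 : n2506 = n1221 := (((D1221).symm.trans (sb E737 D2506))).symm
theorem E995 : n5257 = n5201 := ((D5257).symm.trans (sb E740 F8016))
theorem E1004 : n9537 = n5424 := (((D5424).symm.trans (sb E756 (iv F14257)))).symm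
theorem E1008 : n5290 = n2194 := ((D5290).symm.trans (sb E760 (iv D4561)))
theorem E1012 : n1278 = n1081 := ((F2164).symm.trans (sb E764 (iv D2209)))
theorem F14857 : act 6 n9355 = n4542 := (sb E768 (iv D9393))
theorem E1041 : n2731 = n336 := (((D336).symm.trans (sb E788 D2731))).symm
theorem E1045 : n6757 = n50 := ((((iv F112)).symm.trans (sb E791 (iv F10153)))).symm
theorem E1048 : n1585 = n43 := ((((iv F101)).symm.trans (sb E793 F5069))).symm
theorem E1049 : n1584 = n49 := (((D49).symm.trans (sb E793 (iv D3265)))).symm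
theorem E1060 : n8777 = n265 := ((((iv F536)).symm.trans (sb E803 F13108))).symm
theorem E1064 : n2023 = n259 := ((((iv F527)).symm.trans (sb E805 (iv D4224)))).symm
theorem E1070 : n2265 = n667 := ((((iv F1231)).symm.trans (sb E807 (iv D4712)))).symm
theorem E1072 : n504 = n257 := (((D257).symm.trans (sb E809 (iv D997)))).symm
theorem E1073 : n2027 = n227 := ((((iv F467)).symm.trans (sb E809 D2027))).symm
theorem E1077 : n1387 = n285 := (((D285).symm.trans (sb E812 F4387))).symm
theorem E1082 : n2151 = n174 := ((((iv D348)).symm.trans (sb E815 (iv F3634)))).symm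
theorem E1094 : n2048 = n1006 := ((((iv F1767)).symm.trans (sb E823 (iv D4270)))).symm
theorem E1097 : n4662 = n2720 := ((((iv F4240)).symm.trans (sb E824 F14369))).symm
theorem F14858 : act 1 n510 = n510 := (sb E825 (iv D1008))
theorem E1099 : n2051 = n876 := ((((iv F1569)).symm.trans (sb E825 D2051))).symm
theorem E1100 : n2052 = n527 := ((((iv F1009)).symm.trans (sb E825 D2052))).symm
theorem E1102 : n8879 = n891 := (((D891).symm.trans (sb E826 D8879))).symm
theorem E1104 : n4710 = n2777 := (((D2777).symm.trans (sb E828 D4710))).symm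
theorem E1105 : n4708 = n2776 := ((((iv F4344)).symm.trans (sb E828 (iv F7173)))).symm
theorem E1106 : n1339 = n1104 := ((F2250).symm.trans (sb E828 (iv D2264)))
theorem E1109 : n1768 = n878 := (((D878).symm.trans (sb E831 (iv F2873)))).symm
theorem E1112 : n1062 = n535 := (((D535).symm.trans (sb E832 (iv F1838)))).symm
theorem E1115 : n8896 = n884 := (((D884).symm.trans (sb E833 D8896))).symm
theorem E1116 : n7857 = n897 := (((D897).symm.trans (sb E834 (iv F11692)))).symm
theorem E1117 : n4232 = n446 := (((F880).symm.trans (sb E834 F6544))).symm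
theorem E1118 : n2861 = n513 := (((D513).symm.trans (sb E835 (iv F4478)))).symm
theorem E1119 : n4799 = n2884 := (((D2884).symm.trans (sb E836 D4799))).symm
theorem F14859 : act 6 n1399 = n1362 := (sb E836 (iv F3659))
theorem E1121 : n4793 = n2882 := ((((iv F4504)).symm.trans (sb E837 (iv F7308)))).symm
theorem E1122 : n1391 = n1125 := ((F2307).symm.trans (sb E837 (iv D2309)))
theorem F14860 : act 0 n564 = n698 := (sb E838 (iv F1259))
theorem F14861 : act 5 n564 = n695 := (sb E838 (iv F1256))
theorem F14862 : act 6 n564 = n348 := (sb E838 (iv D692))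
theorem E1123 : n4784 = n2894 := (((D2894).symm.trans (sb E839 D4784))).symm
theorem E1125 : n4296 = n1389 := (((F2314).symm.trans (sb E839 (iv F6550)))).symm
theorem F14864 : act 5 n4545 = n2543 := (sb E841 (iv D5284))
theorem F14868 : act 5 n5317 = n4541 := (sb E843 (iv F8136))
theorem F14869 : act 6 n5317 = n2558 := (sb E843 (iv D5320))
theorem F14875 : act 6 n1279 = n2636 := (sb E847 (iv D5470))
theorem F14876 : act 5 n5469 = n4579 := (sb E848 (iv F8351))
theorem F14877 : act 6 n5469 = n2637 := (sb E848 (iv D5474))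
theorem E1129 : n4368 = n4366 := (((iv F6668)).symm.trans (sb E849 (iv F6664)))
theorem E1130 : n9009 = n5391 := ((((iv F8245)).symm.trans (sb E849 D9009))).symm
theorem E1131 : n8967 = n5271 := ((((iv F8050)).symm.trans (sb E849 (iv F13436)))).symm
theorem E1132 : n2216 = n2089 := (((iv F4092)).symm.trans (sb E849 F6639))
theorem E1133 : n9519 = n2090 := (((D2090).symm.trans (sb E850 D9519))).symm
theorem E1134 : n9419 = n2079 := ((((iv F3311)).symm.trans (sb E850 (iv F14110)))).symm
theorem E1135 : n2596 = n2091 := (((D2091).symm.trans (sb E850 F7026))).symm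
theorem E1137 : n5656 = n2704 := (((iv F8550)).symm.trans (sb E851 (iv D5615)))
theorem E1138 : n9124 = n5600 := (((F8532).symm.trans (sb E853 (iv F13647)))).symm
theorem F14882 : act 5 n5643 = n4653 := (sb E853 (iv F8536))
theorem F14883 : act 6 n5643 = n2718 := (sb E853 (iv D5646))
theorem F14886 : act 5 n1332 = n2261 := (sb E856 F4361)
theorem E1144 : n5681 = n2055 := (((F6530).symm.trans (sb E857 F8725))).symm
theorem F14890 : act 6 n1340 = n2770 := (sb E859 (iv D5744))
theorem F14891 : act 5 n5743 = n4691 := (sb E860 (iv F8751))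
theorem F14892 : act 6 n5743 = n2771 := (sb E860 (iv D5748))
theorem E1149 : n9160 = n5688 := (((D5688).symm.trans (sb E861 (iv F13705)))).symm
theorem F14893 : act 5 n2740 = n2124 := (sb E861 (iv D4428))
theorem E1150 : n4445 = n4443 := (((iv F6785)).symm.trans (sb E862 (iv F6780)))
theorem E1151 : n9158 = n5692 := ((((iv F8629)).symm.trans (sb E862 D9158))).symm
theorem E1152 : n9122 = n5602 := ((((iv F8480)).symm.trans (sb E862 (iv F13644)))).symm
theorem E1153 : n2269 = n2125 := (((iv F4281)).symm.trans (sb E862 F6751))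
theorem E1154 : n9748 = n2126 := (((D2126).symm.trans (sb E863 D9748))).symm
theorem E1155 : n9646 = n2115 := ((((iv F3360)).symm.trans (sb E863 (iv F14391)))).symm
theorem E1156 : n2743 = n2127 := (((D2127).symm.trans (sb E863 F7201))).symm
theorem E1158 : n2854 = n534 := (((F1059).symm.trans (sb E866 D2854))).symm
theorem E1159 : n2855 = n1136 := ((((iv F1935)).symm.trans (sb E866 D2855))).symm
theorem E1165 : n5979 = n2842 := (((D2842).symm.trans (sb E870 (iv F9074)))).symm
theorem E1168 : n2066 = n1943 := (((iv F3283)).symm.trans (sb E872 (iv F4417)))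
theorem E1170 : n8455 = n943 := ((D8455).symm.trans (sb E873 (tr F11698 E984)))
theorem E1171 : n8908 = n8153 := ((((iv F12162)).symm.trans (sb E873 (iv F13328)))).symm
theorem E1172 : n2862 = n2063 := ((F6162).symm.trans (sb E873 (iv D4299)))
theorem F14903 : act 1 n1013 = n690 := (sb E874 (iv D1388))
theorem F14905 : act 6 n1393 = n2870 := (sb E876 (iv D5928))
theorem F14906 : act 5 n5927 = n4765 := (sb E877 (iv F9018))
theorem E1177 : n9223 = n5823 := (((D5823).symm.trans (sb E880 (iv F13804)))).symm
theorem F14908 : act 5 n2815 = n2144 := (sb E880 (iv D4464))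
theorem E1178 : n2168 = n1059 := ((((iv D2161)).symm.trans (sb E881 (iv F3436)))).symm
theorem E1180 : n1369 = n1060 := (((F3426).symm.trans (sb E881 F3428))).symm
theorem E1182 : n9220 = n5830 := ((((iv F8877)).symm.trans (sb E882 D9220))).symm
theorem E1183 : n2323 = n2147 := (((iv F4414)).symm.trans (sb E882 F6813))
theorem E1184 : n2146 = n566 := ((D2146).symm.trans (sb E883 (iv D1131)))
theorem F14911 : act 6 n1052 = n1364 := (sb E883 F3432)
theorem E1185 : n4054 = n1810 := ((((iv F2935)).symm.trans (sb E884 (iv F7344)))).symm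
theorem E1186 : n2820 = n2149 := (((D2149).symm.trans (sb E884 F7343))).symm
theorem F14912 : act 6 n1054 = n679 := (sb E885 (iv D1365))
theorem F14913 : act 1 n1001 = n1001 := (sb E887 (iv D2036))
theorem E1191 : n4241 = n2034 := ((((iv F3247)).symm.trans (sb E887 (iv F6460)))).symm
theorem E1192 : n4207 = n506 := ((((iv D1001)).symm.trans (sb E887 (iv F6388)))).symm
theorem E1193 : n4245 = n1022 := ((((iv F1788)).symm.trans (sb E887 D4245))).symm
theorem E1194 : n992 = n502 := ((((iv F964)).symm.trans (sb E888 (iv D2017)))).symm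
theorem E1195 : n2099 = n1030 := (((D1030).symm.trans (sb E889 (iv F3341)))).symm
theorem F14914 : act 0 n8944 = n9391 := (sb E890 (iv F14057))
theorem F14915 : act 2 n8944 = n4525 := (sb E890 (iv D9351))
theorem F14916 : act 1 n919 = n919 := (sb E896 F2975)
theorem E1197 : n909 = n464 := ((((iv D919)).symm.trans (sb E896 (iv D1837)))).symm
theorem E1198 : n3809 = n1851 := ((((iv F2997)).symm.trans (sb E896 (iv F5836)))).symm
theorem E1199 : n3795 = n918 := ((((iv F14817)).symm.trans (sb E896 (iv F5812)))).symm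
theorem F14917 : act 0 n1851 = n1776 := (sb E901 (iv D3680))
theorem E1205 : n7671 = n3847 := (((D3847).symm.trans (sb E901 (iv F11405)))).symm
theorem E1206 : n3850 = n3848 := (((D3848).symm.trans (sb E901 (iv F5903)))).symm
theorem F14918 : act 0 n1862 = n1782 := (sb E902 F3012)
theorem E1207 : n3880 = n3875 := (((D3875).symm.trans (sb E902 D3880))).symm
theorem F14919 : act 3 n1862 = n947 := (sb E902 F3013)
theorem F14920 : act 1 n1796 = n1796 := (sb E903 (iv D3723))
theorem E1208 : n7759 = n3715 := ((((iv F5702)).symm.trans (sb E903 (iv F11524)))).symm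
theorem E1209 : n7777 = n933 := (((F2916).symm.trans (sb E903 D7777))).symm
theorem E1211 : n8050 = n1852 := (((D1852).symm.trans (sb E908 (iv F12031)))).symm
theorem F14921 : act 5 n920 = n1862 := (sb E909 (iv D3876))
theorem E1213 : n3865 = n1760 := (((D1760).symm.trans (sb E911 (iv D8087)))).symm
theorem E1216 : n7562 = n3866 := (((D3866).symm.trans (sb E915 (iv F11249)))).symm
theorem F14922 : act 2 n1850 = n1776 := (sb E916 (iv D3681))
theorem E1218 : n7681 = n3836 := ((((iv F5877)).symm.trans (sb E916 D7681))).symm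
theorem F14923 : act 5 n1850 = n1851 := (sb E916 F5661)
theorem E1219 : n7682 = n3846 := (((D3846).symm.trans (sb E916 D7682))).symm
theorem F14924 : act 2 n1860 = n1782 := (sb E917 F5674)
theorem E1221 : n5375 = n2613 := ((D5375).symm.trans (sb E922 (iv D5427)))
theorem E1223 : n5675 = n1331 := ((((iv D2753)).symm.trans (sb E925 (iv F8594)))).symm
theorem F14934 : act 2 n570 = n570 := (sb E935 (iv D1138))
theorem E1238 : n810 = n412 := (((F1065).symm.trans (sb E935 F1940))).symm
theorem F14935 : act 2 n209 = n209 := (sb E936 (iv D414))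
theorem E1242 : n806 = n242 := ((((iv F484)).symm.trans (sb E944 F2659))).symm
theorem E1243 : n5045 = n2437 := ((((iv F3827)).symm.trans (sb E946 (iv F7671)))).symm
theorem E1244 : n8353 = n3988 := ((((iv F6086)).symm.trans (sb E947 (iv F12434)))).symm
theorem F14936 : act 0 n1185 = n1185 := (sb E948 F3816)
theorem F14937 : act 5 n1185 = n1185 := (sb E948 F3819)
theorem E1245 : n5046 = n2438 := (((D2438).symm.trans (sb E948 D5046))).symm
theorem E1246 : n8349 = n3986 := ((((iv F6081)).symm.trans (sb E949 (iv F12427)))).symm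
theorem E1247 : n1912 = n940 := ((((iv D1911)).symm.trans (sb E949 F6088))).symm
theorem F14938 : act 6 n1911 = n1911 := (sb E949 (iv D3989))
theorem F14939 : act 0 n1186 = n1186 := (sb E950 F3820)
theorem E1249 : n8507 = n4082 := (((D4082).symm.trans (sb E951 D8507))).symm
theorem E1250 : n1955 = n958 := ((((iv D1954)).symm.trans (sb E951 F6189))).symm
theorem E1251 : n4073 = n4071 := ((((iv F6176)).symm.trans (sb E951 F6190))).symm
theorem F14940 : act 6 n1954 = n1954 := (sb E951 (iv D4084))
theorem E1252 : n1877 = n925 := ((((iv F1638)).symm.trans (sb E952 (iv F3031)))).symm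
theorem F14941 : act 6 n482 = n482 := (sb E952 (iv D960))
theorem F14942 : act 1 n1894 = n1894 := (sb E954 (iv D3949))
theorem E1254 : n8273 = n3950 := (((D3950).symm.trans (sb E954 D8273))).symm
theorem E1255 : n1914 = n941 := (((D941).symm.trans (sb E955 (iv F7515)))).symm
theorem E1256 : n3198 = n205 := ((((iv F415)).symm.trans (sb E956 (iv D6627)))).symm
theorem E1258 : n6676 = n240 := (((D240).symm.trans (sb E956 (iv F10042)))).symm
theorem E1259 : n8485 = n946 := (((D946).symm.trans (sb E957 F12661))).symm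
theorem E1260 : n4028 = n1929 := (((D1929).symm.trans (sb E960 (iv F6130)))).symm
theorem E1261 : n1767 = n878 := (((D878).symm.trans (sb E961 (iv D3662)))).symm
theorem E1262 : n3616 = n260 := (((F867).symm.trans (sb E961 F5621))).symm
theorem E1264 : n7630 = n876 := ((((iv F1570)).symm.trans (sb E961 (iv F11337)))).symm
theorem E1265 : n4189 = n227 := ((((iv D445)).symm.trans (sb E961 (iv F6358)))).symm
theorem E1266 : n7641 = n456 := ((((iv F884)).symm.trans (sb E961 D7641))).symm
theorem E1270 : n3751 = n3343 := ((D3751).symm.trans (sb E964 (iv D6947)))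
theorem E1271 : n6939 = n897 := (((F2934).symm.trans (sb E964 F10426))).symm
theorem F14944 : act 5 n5387 = n4350 := (sb E969 (iv D9011))
theorem E1275 : n9502 = n5482 := (((iv F14217)).symm.trans (sb E969 F13512))
theorem F14945 : act 5 n5269 = n4328 := (sb E970 (iv D8969))
theorem E1276 : n9408 = n5324 := ((F14090).symm.trans (sb E970 F13442))
theorem F14946 : act 6 n2643 = n2593 := (sb E971 (iv F7012))
theorem E1281 : n1609 = n207 := ((((iv F419)).symm.trans (sb E973 F5134))).symm
theorem E1285 : n410 = n205 := ((((iv F416)).symm.trans (sb E974 (iv D805)))).symm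
theorem E1290 : n1913 = n941 := (((D941).symm.trans (sb E977 F5157))).symm
theorem E1301 : n3760 = n3749 := (((D3749).symm.trans (sb E983 F11683))).symm
theorem E1302 : n8450 = n3750 := (((D3750).symm.trans (sb E983 (iv F12605)))).symm
theorem F14947 : act 1 n8481 = n4774 := (sb E985 F12653)
theorem F14949 : act 0 n330 = n330 := (sb E986 (iv D651))
theorem E1304 : n1301 = n652 := (((D652).symm.trans (sb E986 D1301))).symm
theorem E1305 : n1302 = n653 := (((D653).symm.trans (sb E986 D1302))).symm
theorem F14950 : act 0 n335 = n335 := (sb E987 F1214)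
theorem F14951 : act 5 n335 = n335 := (sb E987 F1217)
theorem F14952 : act 0 n1220 = n1220 := (sb E989 F3943)
theorem E1311 : n5198 = n2507 := (((D2507).symm.trans (sb E989 D5198))).symm
theorem E1312 : n5199 = n2508 := (((D2508).symm.trans (sb E989 D5199))).symm
theorem F14953 : act 0 n1221 = n1221 := (sb E990 F3946)
theorem F14954 : act 5 n1221 = n1221 := (sb E990 F3949)
theorem F14956 : act 0 n5201 = n5201 := (sb E995 F8028)
theorem F14957 : act 3 n5201 = n2530 := (sb E995 (iv D5257))
theorem F14964 : act 2 n5424 = n4617 := (sb E1004 (iv D9537))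
theorem E1322 : n2550 = n2080 := (((F3488).symm.trans (sb E1008 F8085))).symm
theorem E1325 : n2635 = n2210 := (((D2210).symm.trans (sb E1012 (iv F4143)))).symm
theorem E1326 : n2557 = n2189 := ((((iv F3477)).symm.trans (sb E1012 (iv F4039)))).symm
theorem F14969 : act 5 n1081 = n1281 := (sb E1012 (iv F2161))
theorem E1356 : n5670 = n662 := (((D662).symm.trans (sb E1041 D5670))).symm
theorem E1363 : n3257 = n97 := ((((iv F204)).symm.trans (sb E1045 F10152))).symm
theorem E1366 : n790 = n96 := (((D96).symm.trans (sb E1048 (iv D1585)))).symm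
theorem E1367 : n3240 = n111 := (((D111).symm.trans (sb E1049 (iv F5030)))).symm
theorem E1376 : n4221 = n509 := ((((iv F977)).symm.trans (sb E1060 (iv D8777)))).symm
theorem E1380 : n995 = n503 := ((((iv F966)).symm.trans (sb E1064 (iv D2023)))).symm
theorem E1381 : n4225 = n444 := ((((iv F865)).symm.trans (sb E1064 D4225))).symm
theorem E1388 : n4434 = n338 := ((((iv D667)).symm.trans (sb E1070 (iv F6766)))).symm
theorem E1390 : n988 = n501 := (((D501).symm.trans (sb E1072 (iv F1735)))).symm
theorem F14972 : act 5 n257 = n257 := (sb E1072 (iv D504))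
theorem E1392 : n442 = n227 := ((D442).symm.trans (sb E1073 (tr (iv F6357) E1265)))
theorem E1397 : n2860 = n565 := (((D565).symm.trans (sb E1077 (iv F4477)))).symm
theorem E1401 : n1055 = n347 := ((((iv F666)).symm.trans (sb E1082 (iv D2151)))).symm
theorem F14973 : act 1 n1006 = n1006 := (sb E1094 (iv D2048))
theorem E1412 : n4271 = n2046 := ((((iv F3263)).symm.trans (sb E1094 D4271))).symm
theorem E1413 : n4272 = n1038 := ((((iv F1812)).symm.trans (sb E1094 D4272))).symm
theorem E1415 : n9636 = n5650 := (((D5650).symm.trans (sb E1097 D9636))).symm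
theorem E1417 : n2717 = n2242 := ((F4242).symm.trans (sb E1097 (iv D4662)))
theorem E1420 : n3657 = n1765 := (((D1765).symm.trans (sb E1099 (iv F5613)))).symm
theorem E1423 : n2135 = n1046 := (((D1046).symm.trans (sb E1100 (iv F3392)))).symm
theorem E1424 : n8785 = n877 := (((F1594).symm.trans (sb E1102 F13275))).symm
theorem E1426 : n9728 = n5757 := (((D5757).symm.trans (sb E1104 D9728))).symm
theorem F14974 : act 6 n2777 = n2740 := (sb E1104 (iv F7180))
theorem E1428 : n9722 = n5755 := ((((iv F8761)).symm.trans (sb E1105 (iv F14525)))).symm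
theorem E1429 : n2769 = n2263 := ((F4346).symm.trans (sb E1105 (iv D4708)))
theorem F14976 : act 5 n1104 = n1342 := (sb E1106 (iv F2250))
theorem E1433 : n1753 = n878 := (((E1261).symm.trans ((D1767).symm.trans (sb E1109 F2875)))).symm
theorem F14978 : act 2 n878 = n878 := (sb E1109 (iv D1768))
theorem E1440 : n2167 = n1061 := (((D1061).symm.trans (sb E1112 (iv F3435)))).symm
theorem F14979 : act 6 n535 = n535 := (sb E1112 (iv D1062))
theorem E1442 : n8792 = n874 := (((F1581).symm.trans (sb E1115 F13308))).symm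
theorem E1443 : n7856 = n1809 := (((D1809).symm.trans (sb E1116 F11691))).symm
theorem E1444 : n3761 = n1811 := (((D1811).symm.trans (sb E1116 (iv D7857)))).symm
theorem E1445 : n4047 = n879 := (((D879).symm.trans (sb E1117 (iv F6435)))).symm
theorem E1446 : n4049 = n1014 := (((D1014).symm.trans (sb E1118 F6149))).symm
theorem F14980 : act 6 n2884 = n2815 := (sb E1119 F7317)
theorem E1447 : n2868 = n2308 := ((F4505).symm.trans (sb E1121 (iv D4793)))
theorem F14981 : act 0 n1125 = n1404 := (sb E1122 (iv F2312))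
theorem F14983 : act 6 n1125 = n691 := (sb E1122 (iv D1391))
theorem E1449 : n8575 = n5978 := (((D5978).symm.trans (sb E1123 (iv F12795)))).symm
theorem E1450 : n8444 = n5980 := (((D5980).symm.trans (sb E1123 (iv F12596)))).symm
theorem E1452 : n7850 = n2864 := (((D2864).symm.trans (sb E1125 F11721))).symm
theorem E1457 : n9039 = n9037 := (((D9037).symm.trans (sb E1129 (iv F13546)))).symm
theorem E1458 : n8986 = n8984 := ((((iv F13470)).symm.trans (sb E1129 (iv F13475)))).symm
theorem E1459 : n2600 = n2097 := (((F6666).symm.trans (sb E1129 F6670))).symm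
theorem E1460 : n4608 = n4353 := (((iv F8246)).symm.trans (sb E1130 F13509))
theorem E1461 : n4555 = n4329 := (((iv F8051)).symm.trans (sb E1131 F13437))
theorem E1462 : n4352 = n1083 := ((D4352).symm.trans (sb E1132 (iv D2216)))
theorem F14989 : act 6 n2089 = n2595 := (sb E1132 F4092)
theorem E1463 : n5392 = n4355 := (((D4355).symm.trans (sb E1133 F14238))).symm
theorem E1464 : n5272 = n4331 := (((D4331).symm.trans (sb E1134 F14111))).symm
theorem F14990 : act 6 n2091 = n1259 := (sb E1135 (iv D2596))
theorem F14993 : act 5 n2704 = n4659 := (sb E1137 F8550)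
theorem F14994 : act 5 n5600 = n4407 := (sb E1138 (iv D9124))
theorem E1476 : n4286 = n3975 := (((iv F6533)).symm.trans (sb E1144 F8609))
theorem F15003 : act 5 n5688 = n4427 := (sb E1149 (iv D9160))
theorem E1484 : n9141 = n9139 := ((((iv F13668)).symm.trans (sb E1150 (iv F13672)))).symm
theorem E1485 : n2747 = n2133 := (((F6782).symm.trans (sb E1150 F6787))).symm
theorem E1486 : n4722 = n4430 := (((iv F8631)).symm.trans (sb E1151 F13703))
theorem E1487 : n4667 = n4408 := (((iv F8481)).symm.trans (sb E1152 F13645))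
theorem E1488 : n4429 = n1106 := ((D4429).symm.trans (sb E1153 (iv D2269)))
theorem F15007 : act 6 n2125 = n2742 := (sb E1153 F4281)
theorem E1489 : n8320 = n3729 := ((((iv F5723)).symm.trans (sb E1154 (iv F14578)))).symm
theorem E1491 : n5603 = n4410 := (((D4410).symm.trans (sb E1155 F14392))).symm
theorem F15008 : act 6 n2127 = n1326 := (sb E1156 (iv D2743))
theorem E1493 : n5901 = n1058 := ((((iv F1836)).symm.trans (sb E1158 D5901))).symm
theorem E1495 : n5902 = n2330 := ((((iv F3682)).symm.trans (sb E1159 D5902))).symm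
theorem F15011 : act 2 n2842 = n2894 := (sb E1165 (iv D5979))
theorem E1499 : n4303 = n953 := ((((iv D1943)).symm.trans (sb E1168 D4303))).symm
theorem E1500 : n4302 = n3894 := ((((iv F5958)).symm.trans (sb E1168 (iv F6555)))).symm
theorem E1502 : n4059 = n1920 := (((D1920).symm.trans (sb E1170 (iv D8455)))).symm
theorem E1503 : n5937 = n1919 := ((((iv F3084)).symm.trans (sb E1170 F12618))).symm
theorem E1505 : n5911 = n4298 := ((F12163).symm.trans (sb E1171 (iv D8908)))
theorem E1507 : n4011 = n2063 := ((D4011).symm.trans (iv (sb E1172 (tr (iv F6162) E1502))))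
theorem F15019 : act 6 n5823 = n5958 := (sb E1177 F13805)
theorem E1513 : n4502 = n2162 := (((D2162).symm.trans (sb E1178 (iv F6856)))).symm
theorem F15021 : act 6 n1060 = n1060 := (sb E1180 (iv F3430))
theorem E1517 : n4820 = n4467 := (((iv F8878)).symm.trans (sb E1182 F13801))
theorem F15023 : act 6 n2147 = n2819 := (sb E1183 F4414)
theorem F15024 : act 1 n566 = n1052 := (sb E1184 (iv D2146))
theorem E1520 : n8446 = n3753 := ((((iv F5753)).symm.trans (sb E1185 (iv F12599)))).symm
theorem E1521 : n8449 = n3755 := (((D3755).symm.trans (sb E1185 (iv F12603)))).symm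
theorem E1522 : n3756 = n1940 := ((D3756).symm.trans (sb E1185 (iv D4054)))
theorem E1523 : n4471 = n1942 := ((D4471).symm.trans (sb E1186 F4416))
theorem E1524 : n5831 = n4470 := ((((iv F6819)).symm.trans (sb E1186 (iv F8879)))).symm
theorem F15026 : act 1 n2034 = n2034 := (sb E1191 (iv D4241))
theorem E1534 : n8750 = n1000 := ((((iv D2034)).symm.trans (sb E1191 (iv F13065)))).symm
theorem E1535 : n8809 = n2075 := ((((iv F3304)).symm.trans (sb E1191 D8809))).symm
theorem E1536 : n2015 = n991 := ((((iv F1741)).symm.trans (sb E1192 (iv D4207)))).symm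
theorem E1537 : n4339 = n2083 := (((D2083).symm.trans (sb E1193 (iv F6624)))).symm
theorem E1538 : n2012 = n990 := (((D990).symm.trans (sb E1194 (iv F3211)))).symm
theorem F15027 : act 5 n502 = n502 := (sb E1194 (iv D992))
theorem E1540 : n4372 = n2098 := (((D2098).symm.trans (sb E1195 (iv F6675)))).symm
theorem F15028 : act 6 n1030 = n1030 := (sb E1195 (iv D2099))
theorem E1546 : n459 = n234 := ((((iv D464)).symm.trans (sb E1197 (iv D909)))).symm
theorem E1547 : n770 = n239 := (((F897).symm.trans (sb E1197 F1619))).symm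
theorem F15029 : act 1 n1851 = n1851 := (sb E1198 F5835)
theorem E1551 : n7958 = n3847 := (((D3847).symm.trans (sb E1198 D7958))).symm
theorem E1554 : n3866 = n1858 := (((D1858).symm.trans (sb E1199 (tr (iv F11248) E1216)))).symm
theorem F15030 : act 0 n3847 = n3676 := (sb E1205 (iv D7671))
theorem F15031 : act 4 n3847 = n3715 := (sb E1205 F11406)
theorem E1559 : n8048 = n8024 := ((D8048).symm.trans (sb E1205 (iv F11984)))
theorem F15032 : act 0 n3848 = n3682 := (sb E1206 F5901)
theorem E1563 : n8118 = n8112 := (((D8112).symm.trans (sb E1207 (iv F12122)))).symm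
theorem F15034 : act 1 n3715 = n3715 := (sb E1208 (iv D7759))
theorem E1564 : n3946 = n1893 := (((D1893).symm.trans (sb E1209 F11547))).symm
theorem F15035 : act 5 n1852 = n3848 := (sb E1211 (iv D8050))
theorem F15036 : act 2 n1760 = n1858 := (sb E1213 (iv D3865))
theorem E1568 : n8039 = n3643 := ((((iv F5596)).symm.trans (sb E1213 (iv F12015)))).symm
theorem E1572 : n7562 = n1858 := (E1216).trans E1554
theorem E1574 : n3623 = n1760 := ((((iv F15036)).symm.trans (sb E1572 (iv D7562)))).symm
theorem F15037 : act 5 n3836 = n3847 := (sb E1218 F11427)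
theorem F15038 : act 2 n3846 = n3682 := (sb E1219 F11428)
theorem F15039 : act 5 n2613 = n2587 := (sb E1221 (iv D5375))
theorem E1575 : n2735 = n1325 := (((F2229).symm.trans (sb E1223 F8593))).symm
theorem F15050 : act 2 n412 = n412 := (sb E1238 (iv D810))
theorem E1597 : n1599 = n467 := ((((iv F902)).symm.trans (sb E1242 (iv F2635)))).symm
theorem F15051 : act 0 n2437 = n2437 := (sb E1243 F7670)
theorem F15052 : act 5 n2437 = n2437 := (sb E1243 F7672)
theorem F15053 : act 6 n3988 = n3988 := (sb E1244 (iv D8353))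
theorem F15054 : act 0 n2438 = n2438 := (sb E1245 F7673)
theorem E1598 : n3987 = n1910 := ((((iv D3986)).symm.trans (sb E1246 F12428))).symm
theorem E1599 : n8338 = n8336 := ((((iv F12409)).symm.trans (sb E1246 F12430))).symm
theorem F15055 : act 6 n3986 = n3986 := (sb E1246 (iv D8349))
theorem E1600 : n3944 = n1892 := ((((iv F3043)).symm.trans (sb E1247 (iv F6014)))).symm
theorem F15056 : act 6 n940 = n940 := (sb E1247 (iv D1912))
theorem E1602 : n8395 = n4967 := (((iv F12524)).symm.trans (sb E1249 F12694))
theorem E1604 : n3906 = n1875 := ((((iv F3029)).symm.trans (sb E1250 (iv F5971)))).symm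
theorem E1605 : n1951 = n1949 := ((((iv F3113)).symm.trans (sb E1250 F3117))).symm
theorem F15057 : act 6 n958 = n958 := (sb E1250 (iv D1955))
theorem E1606 : n8480 = n2300 := ((D8480).symm.trans (sb E1251 (iv F6179)))
theorem F15058 : act 6 n4071 = n1950 := (sb E1251 (iv D4073))
theorem E1607 : n3908 = n1876 := (((D1876).symm.trans (sb E1252 (iv F5973)))).symm
theorem E1608 : n3863 = n1857 := ((((iv F3003)).symm.trans (sb E1252 (iv F5924)))).symm
theorem F15059 : act 6 n925 = n925 := (sb E1252 (iv D1877))
theorem F15060 : act 1 n3950 = n3950 := (sb E1254 F12294)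
theorem F15061 : act 2 n941 = n941 := (sb E1255 (iv D1914))
theorem F15062 : act 5 n941 = n941 := (sb E1255 (iv F7518))
theorem E1615 : n6616 = n405 := ((((iv F789)).symm.trans (sb E1256 (iv F9963)))).symm
theorem E1616 : n6623 = n408 := ((((iv F795)).symm.trans (sb E1256 (iv F9974)))).symm
theorem E1617 : n1564 = n96 := ((((iv D205)).symm.trans (sb E1256 F4975))).symm
theorem E1623 : n4075 = n478 := (((D478).symm.trans (sb E1258 F12660))).symm
theorem E1625 : n4074 = n1926 := (((D1926).symm.trans (sb E1259 (iv D8485)))).symm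
theorem E1626 : n8492 = n1928 := (((D1928).symm.trans (sb E1259 (iv F12665)))).symm
theorem E1627 : n8412 = n4026 := (((D4026).symm.trans (sb E1260 (iv F12539)))).symm
theorem E1628 : n8414 = n4027 := (((D4027).symm.trans (sb E1260 (iv F12542)))).symm
theorem F15064 : act 0 n878 = n878 := (sb E1261 (iv D1767))
theorem E1630 : n3645 = n1760 := ((((iv F2864)).symm.trans (sb E1261 (iv F5598)))).symm
theorem E1631 : n3656 = n1765 := ((((iv F2871)).symm.trans (sb E1261 (iv F5610)))).symm
theorem E1635 : n7544 = n510 := ((((iv F979)).symm.trans (sb E1262 (iv F11215)))).symm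
theorem E1636 : n2007 = n127 := ((((iv D260)).symm.trans (sb E1262 F5551))).symm
theorem E1639 : n8711 = n444 := ((((iv D876)).symm.trans (sb E1264 (iv F12992)))).symm
theorem E1640 : n8443 = n446 := (((D446).symm.trans (sb E1265 (iv F12593)))).symm
theorem E1641 : n8494 = n901 := (((D901).symm.trans (sb E1266 F12672))).symm
theorem E1649 : n6787 = n2063 := (((iv F10207)).symm.trans (sb E1270 (tr (iv F6111) E1507)))
theorem E1650 : n7837 = n6944 := ((((iv F10422)).symm.trans (sb E1270 (iv F11663)))).symm
theorem E1651 : n7707 = n6846 := ((((iv F10289)).symm.trans (sb E1270 (iv F11462)))).symm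
theorem E1652 : n7787 = n6898 := ((((iv F10364)).symm.trans (sb E1270 (iv F11566)))).symm
theorem F15065 : act 5 n3343 = n1808 := (sb E1270 (iv D3751))
theorem E1653 : n3754 = n1620 := ((((iv D3343)).symm.trans (sb E1270 (iv F5755)))).symm
theorem E1654 : n3340 = n1811 := (((D1811).symm.trans (sb E1271 (iv D6939)))).symm
theorem F15067 : act 6 n5482 = n5387 := (sb E1275 F14217)
theorem F15068 : act 6 n5324 = n5269 := (sb E1276 (iv F14090))
theorem E1659 : n802 = n408 := ((((iv F794)).symm.trans (sb E1281 (iv D1609)))).symm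
theorem F15069 : act 1 n205 = n205 := (sb E1285 (iv D410))
theorem E1664 : n797 = n405 := ((((iv F789)).symm.trans (sb E1285 (iv F1446)))).symm
theorem F15070 : act 0 n941 = n941 := (sb E1290 (iv D1913))
theorem E1671 : n3864 = n1858 := ((((iv F3004)).symm.trans (sb E1290 (iv F5925)))).symm
theorem E1672 : n3945 = n1893 := ((((iv F3044)).symm.trans (sb E1290 (iv F6015)))).symm
theorem E1681 : n7834 = n4077 := ((D7834).symm.trans (sb E1301 (iv F6185)))
theorem E1683 : n7716 = n7705 := ((((iv F11459)).symm.trans (sb E1301 (iv F11473)))).symm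
theorem E1684 : n7796 = n7785 := ((((iv F11562)).symm.trans (sb E1301 (iv F11582)))).symm
theorem E1685 : n3757 = n1812 := (((iv F5759)).symm.trans (sb E1301 (iv D3760)))
theorem E1686 : n6944 = n2864 := ((E1650).symm.trans ((D7837).symm.trans (sb E1302 (tr F12606 E1452))))
theorem F15071 : act 0 n652 = n652 := (sb E1304 F2182)
theorem E1692 : n2689 = n1303 := (((D1303).symm.trans (sb E1304 D2689))).symm
theorem E1693 : n2690 = n1304 := (((D1304).symm.trans (sb E1304 D2690))).symm
theorem F15072 : act 0 n653 = n653 := (sb E1305 F2184)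
theorem F15073 : act 5 n653 = n653 := (sb E1305 F2186)
theorem F15075 : act 0 n2507 = n2507 := (sb E1311 F7910)
theorem F15076 : act 0 n2508 = n2508 := (sb E1312 F7912)
theorem F15077 : act 5 n2508 = n2508 := (sb E1312 F7915)
theorem E1704 : n4332 = n1238 := ((D4332).symm.trans (sb E1322 (iv D2550)))
theorem E1711 : n5316 = n4549 := ((((iv F6944)).symm.trans (sb E1325 (iv F8130)))).symm
theorem F15085 : act 5 n2189 = n2560 := (sb E1326 (iv F4045))
theorem E1718 : n4446 = n1328 := (((D1328).symm.trans (sb E1356 F8582))).symm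
theorem E1720 : n1580 = n204 := ((((iv F414)).symm.trans (sb E1363 (iv D3257)))).symm
theorem E1724 : n402 = n202 := (((D202).symm.trans (sb E1366 (iv D790)))).symm
theorem E1725 : n1573 = n203 := (((D203).symm.trans (sb E1366 (iv F2596)))).symm
theorem E1726 : n6722 = n232 := (((D232).symm.trans (sb E1367 D6722))).symm
theorem E1728 : n3297 = n235 := (((D235).symm.trans (sb E1367 (iv F5114)))).symm
theorem E1734 : n2021 = n994 := ((((iv F1747)).symm.trans (sb E1376 (iv D4221)))).symm
theorem E1739 : n2005 = n987 := ((((iv F1733)).symm.trans (sb E1380 (iv F3197)))).symm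
theorem F15091 : act 5 n503 = n503 := (sb E1380 (iv D995))
theorem E1741 : n869 = n444 := (((iv F1558)).symm.trans (sb E1381 (tr (iv F12990) E1639)))
theorem E1748 : n2128 = n666 := ((((iv F1226)).symm.trans (sb E1388 (iv D4434)))).symm
theorem E1752 : n867 = n127 := (((iv F1555)).symm.trans (sb E1390 (tr D2007 E1636)))
theorem F15094 : act 1 n227 = n227 := (sb E1392 (iv D442))
theorem E1756 : n868 = n443 := (((D443).symm.trans (sb E1392 D868))).symm
theorem E1764 : n5909 = n1128 := (((D1128).symm.trans (sb E1397 D5909))).symm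
theorem F15095 : act 1 n347 = n532 := (sb E1401 (iv D1055))
theorem E1771 : n8860 = n4268 := (((D4268).symm.trans (sb E1412 (iv F13242)))).symm
theorem E1774 : n4418 = n2119 := (((D2119).symm.trans (sb E1413 (iv F6733)))).symm
theorem F15096 : act 6 n5650 = n5600 := (sb E1415 (iv F14378))
theorem F15098 : act 5 n2242 = n2720 := (sb E1417 (iv F4242))
theorem E1776 : n3630 = n1765 := (((E1631).symm.trans ((D3656).symm.trans (sb E1420 F5612)))).symm
theorem F15100 : act 2 n1765 = n1765 := (sb E1420 (iv D3657))
theorem E1783 : n4449 = n2134 := (((D2134).symm.trans (sb E1423 (iv F6792)))).symm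
theorem F15101 : act 6 n1046 = n1046 := (sb E1423 (iv D2135))
theorem E1784 : n8315 = n1766 := (((D1766).symm.trans (sb E1424 (iv F13120)))).symm
theorem F15102 : act 6 n5757 = n5688 := (sb E1426 F14539)
theorem E1786 : n5741 = n4707 := ((F8762).symm.trans (sb E1428 (iv D9722)))
theorem F15105 : act 6 n2263 = n1338 := (sb E1429 (iv D2769))
theorem F15107 : act 5 n878 = n878 := (sb E1433 F2851)
theorem F15110 : act 6 n1061 = n1061 := (sb E1440 (iv D2167))
theorem E1802 : n8145 = n1761 := (((D1761).symm.trans (sb E1442 (iv F13134)))).symm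
theorem E1803 : n8408 = n3752 := (((D3752).symm.trans (sb E1443 (iv F12533)))).symm
theorem E1804 : n1937 = n1772 := (((F2936).symm.trans (sb E1444 F6439))).symm
theorem E1808 : n1938 = n1770 := (((F11701).symm.trans (sb E1445 F6146))).symm
theorem E1809 : n4043 = n1755 := ((((iv F2853)).symm.trans (sb E1445 F6436))).symm
theorem F15111 : act 5 n1014 = n1943 := (sb E1446 F6148)
theorem F15112 : act 0 n2308 = n2891 := (sb E1447 (iv F4516))
theorem E1812 : n5921 = n4791 := (((D4791).symm.trans (sb E1447 (iv F9002)))).symm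
theorem F15113 : act 5 n2308 = n2882 := (sb E1447 (iv F4505))
theorem F15114 : act 6 n2308 = n1390 := (sb E1447 (iv D2868))
theorem F15116 : act 6 n5978 = n4121 := (sb E1449 (iv D8575))
theorem E1817 : n5915 = n4052 := ((F9075).symm.trans (sb E1450 (iv D8444)))
theorem F15118 : act 2 n5980 = n5879 := (sb E1450 (iv F12597))
theorem E1818 : n5912 = n3759 := ((D5912).symm.trans (sb E1452 F11681))
theorem E1823 : n5400 = n4370 := (((F13544).symm.trans (sb E1457 F13547))).symm
theorem E1824 : n5276 = n4337 := (((F13471).symm.trans (sb E1458 F13476))).symm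
theorem F15122 : act 1 n2097 = n1261 := (sb E1459 (iv D2600))
theorem F15123 : act 6 n2097 = n2097 := (sb E1459 (iv F4100))
theorem E1825 : n9517 = n9013 := (((D9013).symm.trans (sb E1460 (iv F14235)))).symm
theorem F15124 : act 6 n4353 = n5391 := (sb E1460 F8246)
theorem E1828 : n8970 = n2191 := ((D8970).symm.trans (sb E1461 (iv D4555)))
theorem E1829 : n9364 = n8947 := ((((iv F13397)).symm.trans (sb E1461 (iv F14008)))).symm
theorem F15125 : act 6 n4329 = n5271 := (sb E1461 F8051)
theorem F15126 : act 1 n1083 = n2089 := (sb E1462 (iv D4352))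
theorem F15127 : act 6 n4355 = n2594 := (sb E1463 (iv D5392))
theorem F15128 : act 6 n4331 = n2537 := (sb E1464 (iv D5272))
theorem E1833 : n8891 = n1905 := ((((iv D3975)).symm.trans (sb E1476 D8891))).symm
theorem E1834 : n8890 = n8251 := ((((iv F12259)).symm.trans (sb E1476 (iv F13293)))).symm
theorem E1842 : n5607 = n4416 := (((F13669).symm.trans (sb E1484 F13673))).symm
theorem F15141 : act 6 n2133 = n2133 := (sb E1485 (iv F4291))
theorem F15142 : act 6 n4430 = n5692 := (sb E1486 F8631)
theorem E1845 : n9125 = n2244 := ((D9125).symm.trans (sb E1487 (iv D4667)))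
theorem F15143 : act 6 n4408 = n5602 := (sb E1487 F8481)
theorem F15144 : act 1 n1106 = n2125 := (sb E1488 (iv D4429))
theorem E1848 : n7792 = n3972 := ((D7792).symm.trans (sb E1489 (iv D8320)))
theorem F15146 : act 6 n4410 = n2698 := (sb E1491 (iv D5603))
theorem E1850 : n6135 = n2160 := (((D2160).symm.trans (sb E1493 F9276))).symm
theorem E1852 : n2859 = n2156 := (((F3683).symm.trans (sb E1495 F8979))).symm
theorem E1856 : n4032 = n481 := (((F1669).symm.trans (sb E1499 F12555))).symm
theorem E1861 : n8913 = n8068 := ((((iv F12059)).symm.trans (sb E1500 (iv F13334)))).symm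
theorem E1865 : n4009 = n1943 := ((D4009).symm.trans (sb E1502 (iv D4059)))
theorem E1867 : n8153 = n3871 := ((((iv F5932)).symm.trans (sb E1502 (iv F12162)))).symm
theorem E1869 : n4008 = n2874 := ((D4008).symm.trans (sb E1503 (iv D5937)))
theorem E1871 : n8103 = n4298 := ((D8103).symm.trans (iv (sb E1505 (tr (iv F12163) E1867))))
theorem E1875 : n8281 = n4283 := ((((iv F6529)).symm.trans (sb E1507 (iv F12307)))).symm
theorem F15149 : act 5 n2063 = n1920 := (sb E1507 (iv D4011))
theorem E1886 : n6065 = n4490 := ((((iv F6844)).symm.trans (sb E1513 F9205))).symm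
theorem F15154 : act 6 n4467 = n5830 := (sb E1517 F8878)
theorem E1892 : n7843 = n4052 := ((D7843).symm.trans (sb E1520 (iv D8446)))
theorem E1893 : n7846 = n4053 := ((D7846).symm.trans (sb E1521 (iv D8449)))
theorem F15155 : act 2 n1940 = n1811 := (sb E1522 F5757)
theorem E1897 : n9238 = n4058 := ((((iv F6159)).symm.trans (sb E1523 (iv F13818)))).symm
theorem F15158 : act 6 n4470 = n2818 := (sb E1524 (iv D5831))
theorem E1901 : n4205 = n2014 := ((((iv F3215)).symm.trans (sb E1534 (iv D8750)))).symm
theorem E1902 : n8957 = n4323 := (((D4323).symm.trans (sb E1535 (iv F13417)))).symm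
theorem E1903 : n4199 = n2011 := ((((iv F3209)).symm.trans (sb E1536 (iv F6369)))).symm
theorem F15159 : act 5 n991 = n991 := (sb E1536 (iv D2015))
theorem E1905 : n8990 = n4338 := (((D4338).symm.trans (sb E1537 (iv F13482)))).symm
theorem F15160 : act 6 n2083 = n2083 := (sb E1537 (iv D4339))
theorem E1906 : n4196 = n2010 := (((D2010).symm.trans (sb E1538 (iv F6363)))).symm
theorem F15161 : act 5 n990 = n990 := (sb E1538 (iv D2012))
theorem F15163 : act 6 n2098 = n2098 := (sb E1540 (iv D4372))
theorem E1914 : n423 = n405 := ((((iv F788)).symm.trans (sb E1546 F888))).symm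
theorem F15164 : act 2 n234 = n234 := (sb E1546 F889)
theorem E1915 : n391 = n113 := (((F475).symm.trans (sb E1546 F890))).symm
theorem E1916 : n907 = n462 := ((((iv F895)).symm.trans (sb E1546 (iv F1615)))).symm
theorem E1917 : n232 = n111 := ((((iv D234)).symm.trans (sb E1546 (iv D459)))).symm
theorem E1918 : n838 = n465 := (((D465).symm.trans (sb E1546 (iv F1511)))).symm
theorem E1919 : n1538 = n476 := (((D476).symm.trans (sb E1547 D1538))).symm
theorem F15165 : act 1 n3847 = n3847 := (sb E1551 F11880)
theorem E1932 : n8040 = n3844 := ((((iv F5891)).symm.trans (sb E1554 (iv F12016)))).symm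
theorem F15166 : act 5 n1858 = n1858 := (sb E1554 (iv D3866))
theorem F15168 : act 3 n8024 = n3848 := (sb E1559 F12026)
theorem F15169 : act 6 n8024 = n3847 := (sb E1559 (iv D8048))
theorem F15172 : act 3 n8112 = n4025 := (sb E1563 F12121)
theorem F15173 : act 2 n1893 = n1893 := (sb E1564 (iv D3946))
theorem E1935 : n8223 = n3925 := ((((iv F5987)).symm.trans (sb E1564 (iv F12227)))).symm
theorem F15174 : act 5 n1893 = n1893 := (sb E1564 F7520)
theorem F15176 : act 2 n3643 = n3844 := (sb E1568 (iv D8039))
theorem E1939 : n7558 = n3643 := ((((iv F5596)).symm.trans (sb E1574 (iv F11237)))).symm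
theorem F15178 : act 5 n1760 = n1760 := (sb E1574 F5565)
theorem E1942 : n5590 = n2697 := ((((iv F4211)).symm.trans (sb E1575 (iv F8470)))).symm
theorem E1963 : n3296 = n836 := ((((iv F1504)).symm.trans (sb E1597 (iv F5111)))).symm
theorem E1964 : n3288 = n917 := ((((iv F1631)).symm.trans (sb E1597 (iv F5102)))).symm
theorem E1966 : n8263 = n3942 := ((((iv F6012)).symm.trans (sb E1598 (iv F12272)))).symm
theorem E1967 : n3983 = n3981 := ((((iv F6075)).symm.trans (sb E1598 F6085))).symm
theorem F15182 : act 6 n1910 = n1910 := (sb E1598 (iv D3987))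
theorem F15183 : act 1 n8336 = n4699 := (sb E1599 F12411)
theorem F15184 : act 6 n8336 = n3982 := (sb E1599 (iv D8338))
theorem E1968 : n8265 = n3943 := (((D3943).symm.trans (sb E1600 (iv F12274)))).symm
theorem E1969 : n8037 = n3843 := ((((iv F5890)).symm.trans (sb E1600 (iv F12013)))).symm
theorem F15185 : act 6 n1892 = n1892 := (sb E1600 (iv D3944))
theorem F15187 : act 5 n4967 = n4082 := (sb E1602 F12524)
theorem E1977 : n8179 = n3905 := (((D3905).symm.trans (sb E1604 (iv F12189)))).symm
theorem E1978 : n8080 = n3861 := ((((iv F5921)).symm.trans (sb E1604 (iv F12077)))).symm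
theorem E1979 : n3902 = n3900 := ((((iv F5964)).symm.trans (sb E1604 F5972))).symm
theorem F15188 : act 6 n1875 = n1875 := (sb E1604 (iv D3906))
theorem E1980 : n4070 = n1926 := ((D4070).symm.trans (sb E1605 (tr D4074 E1625)))
theorem F15189 : act 6 n1949 = n956 := (sb E1605 (iv D1951))
theorem F15190 : act 1 n2300 = n4071 := (sb E1606 (iv D8480))
theorem E1981 : n8184 = n3486 := ((((iv F5369)).symm.trans (sb E1607 D8184))).symm
theorem E1983 : n8082 = n3862 := ((((iv F5922)).symm.trans (sb E1607 (iv F12080)))).symm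
theorem F15191 : act 6 n1876 = n1876 := (sb E1607 (iv D3908))
theorem F15192 : act 6 n1857 = n1857 := (sb E1608 (iv D3863))
theorem E1998 : n3210 = n203 := ((((iv D405)).symm.trans (sb E1615 F9964))).symm
theorem E1999 : n3215 = n204 := ((((iv D408)).symm.trans (sb E1616 F9975))).symm
theorem E2000 : n781 = n202 := (((D202).symm.trans (sb E1617 (iv D1564)))).symm
theorem E2002 : n1952 = n948 := (((D948).symm.trans (sb E1623 (iv D4075)))).symm
theorem E2011 : n5976 = n4022 := (((D4022).symm.trans (sb E1625 (iv F9071)))).symm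
theorem E2012 : n8169 = n3877 := ((((iv F5937)).symm.trans (sb E1625 (iv F12178)))).symm
theorem E2013 : n8339 = n3958 := ((((iv F6035)).symm.trans (sb E1625 (iv F12414)))).symm
theorem E2015 : n4077 = n1932 := ((((iv F3097)).symm.trans (sb E1626 (iv D8492)))).symm
theorem E2017 : n8410 = n3752 := (((E1803).symm.trans (((iv F12534)).symm.trans (sb E1627 F12541)))).symm
theorem F15195 : act 6 n4027 = n4027 := (sb E1628 (iv D8414))
theorem F15196 : act 0 n1760 = n1760 := (sb E1630 (iv D3645))
theorem E2018 : n7601 = n3643 := ((((iv F5596)).symm.trans (sb E1630 (iv F11304)))).symm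
theorem F15197 : act 0 n1765 = n1765 := (sb E1631 (iv D3656))
theorem E2020 : n7624 = n3654 := ((((iv F5608)).symm.trans (sb E1631 (iv F11332)))).symm
theorem E2028 : n4185 = n259 := ((((iv D510)).symm.trans (sb E1635 F11216))).symm
theorem E2029 : n1755 = n879 := (((D879).symm.trans (sb E1640 (tr (iv D8443) E1809)))).symm
theorem E2030 : n4080 = n1817 := (((D1817).symm.trans (sb E1641 F12670))).symm
theorem E2042 : n4234 = n3272 := (((iv F6448)).symm.trans (sb E1649 (iv D6787)))
theorem E2043 : n7837 = n2864 := (E1650).trans E1686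
theorem E2044 : n5914 = n3750 := ((D5914).symm.trans (sb E2043 (iv D7837)))
theorem F15202 : act 5 n6846 = n3692 := (sb E1651 (iv D7707))
theorem F15204 : act 5 n6898 = n3727 := (sb E1652 (iv D7787))
theorem E2048 : n4052 = n3341 := (((D3341).symm.trans (sb E1653 (tr (iv F11671) E1892)))).symm
theorem F15206 : act 0 n1811 = n1620 := (sb E1654 (iv D3340))
theorem E2049 : n1936 = n1772 := (((F2936).symm.trans (sb E1654 F5169))).symm
theorem F15207 : act 1 n408 = n408 := (sb E1659 (iv D802))
theorem E2058 : n1606 = n800 := ((((iv F1451)).symm.trans (sb E1659 (iv F2645)))).symm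
theorem F15208 : act 1 n405 = n405 := (sb E1664 (iv D797))
theorem E2066 : n1595 = n795 := ((((iv F1443)).symm.trans (sb E1664 (iv F2632)))).symm
theorem E2070 : n6722 = n111 := (E1726).trans E1917
theorem F15209 : act 0 n1858 = n1858 := (sb E1671 (iv D3864))
theorem E2079 : n8038 = n3844 := ((((iv F5891)).symm.trans (sb E1671 (iv F12014)))).symm
theorem F15210 : act 0 n1893 = n1893 := (sb E1672 (iv D3945))
theorem E2081 : n8221 = n3925 := ((((iv F5987)).symm.trans (sb E1672 (iv F12226)))).symm
theorem E2088 : n7834 = n1932 := (E1681).trans E2015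
theorem E2089 : n4036 = n3749 := ((D4036).symm.trans (sb E2088 (iv D7834)))
theorem E2091 : n7713 = n3696 := (((iv F11471)).symm.trans (sb E1683 (iv D7716)))
theorem E2092 : n7793 = n3731 := (((iv F11578)).symm.trans (sb E1684 (iv D7796)))
theorem F15214 : act 5 n1812 = n3749 := (sb E1685 F5759)
theorem F15216 : act 2 n2864 = n3343 := (sb E1686 F10422)
theorem E2093 : n5915 = n3341 := (E1817).trans E2048
theorem F15219 : act 0 n1303 = n1303 := (sb E1692 F4199)
theorem F15220 : act 2 n1303 = n1303 := (sb E1692 F4201)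
theorem E2099 : n5585 = n2692 := (((D2692).symm.trans (sb E1692 D5585))).symm
theorem E2100 : n5586 = n2693 := (((D2693).symm.trans (sb E1692 D5586))).symm
theorem F15221 : act 0 n1304 = n1304 := (sb E1693 F4202)
theorem F15222 : act 5 n1304 = n1304 := (sb E1693 F4204)
theorem F15229 : act 1 n1238 = n2080 := (sb E1704 (iv D4332))
theorem F15233 : act 5 n4549 = n5323 := (sb E1711 (iv F8142))
theorem E2113 : n9142 = n2700 := ((((iv F4215)).symm.trans (sb E1718 (iv F13674)))).symm
theorem E2116 : n788 = n401 := ((((iv F783)).symm.trans (sb E1720 (iv D1580)))).symm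
theorem E2120 : n399 = n202 := ((D399).symm.trans (sb E1724 (tr (iv F1421) E2000)))
theorem E2121 : n785 = n400 := (((D400).symm.trans (sb E1724 (iv F1426)))).symm
theorem F15237 : act 5 n202 = n202 := (sb E1724 (iv D402))
theorem E2123 : n3241 = n213 := ((((iv F436)).symm.trans (sb E1725 D3241))).symm
theorem E2124 : n3236 = n404 := (((D404).symm.trans (sb E1725 (iv F5021)))).symm
theorem E2125 : n213 = n203 := ((((iv F412)).symm.trans (sb E2070 (tr F10108 E2123)))).symm
theorem E2126 : n6841 = n235 := (((D235).symm.trans (sb E2070 (iv F10284)))).symm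
theorem E2129 : n460 = n235 := (((iv F892)).symm.trans (sb E1728 (tr (iv F10283) E2126)))
theorem E2132 : n4219 = n2020 := (((D2020).symm.trans (sb E1734 (iv F6408)))).symm
theorem F15241 : act 5 n994 = n994 := (sb E1734 (iv D2021))
theorem E2135 : n1744 = n259 := (((iv F2838)).symm.trans (sb E1739 (tr D4185 E2028)))
theorem F15244 : act 1 n444 = n444 := (sb E1741 F1558)
theorem E2139 : n1750 = n875 := (((D875).symm.trans (sb E1741 D1750))).symm
theorem F15245 : act 1 n666 = n1043 := (sb E1748 (iv D2128))
theorem E2144 : n501 = n257 := (((D257).symm.trans (sb E1752 F1555))).symm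
theorem F15248 : act 1 n443 = n443 := (sb E1756 F1556)
theorem E2155 : n1747 = n872 := (((D872).symm.trans (sb E1756 D1747))).symm
theorem E2159 : n2317 = n1128 := ((D2317).symm.trans (sb E1764 (tr F8987 E1764)))
theorem F15249 : act 2 n4268 = n4268 := (sb E1771 (iv D8860))
theorem E2162 : n9145 = n4417 := (((D4417).symm.trans (sb E1774 (iv F13677)))).symm
theorem F15250 : act 6 n2119 = n2119 := (sb E1774 (iv D4418))
theorem E2163 : n7573 = n3654 := ((((iv F5608)).symm.trans (sb E1776 (iv F11261)))).symm
theorem F15254 : act 5 n1765 = n1765 := (sb E1776 F5578)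
theorem E2167 : n9196 = n4448 := (((D4448).symm.trans (sb E1783 (iv F13765)))).symm
theorem F15257 : act 6 n2134 = n2134 := (sb E1783 (iv D4449))
theorem E2169 : n3970 = n3659 := (((F11704).symm.trans (sb E1784 F12365))).symm
theorem E2170 : n3969 = n3661 := (((D3661).symm.trans (sb E1784 (iv D8315)))).symm
theorem E2171 : n8314 = n3632 := ((((iv F5582)).symm.trans (sb E1784 F12367))).symm
theorem F15261 : act 6 n4707 = n2768 := (sb E1786 (iv D5741))
theorem E2185 : n8144 = n3648 := (((D3648).symm.trans (sb E1802 F12154))).symm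
theorem E2186 : n3890 = n3650 := (((D3650).symm.trans (sb E1802 (iv D8145)))).symm
theorem E2187 : n8137 = n3625 := ((((iv F5570)).symm.trans (sb E1802 F12156))).symm
theorem E2189 : n4042 = n3668 := ((((iv F5632)).symm.trans (sb E1804 (iv F6142)))).symm
theorem E2190 : n3668 = n951 := ((F11705).symm.trans (sb E1804 (iv D1937)))
theorem E2191 : n3671 = n951 := ((D3671).symm.trans (sb E1804 (iv F6441)))
theorem E2192 : n4043 = n879 := (E1809).trans E2029
theorem E2193 : n4042 = n951 := (E2189).trans E2190
theorem E2195 : n3889 = n3648 := ((((iv F5601)).symm.trans (sb E1808 (iv F5952)))).symm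
theorem E2196 : n3625 = n1761 := ((((iv F2865)).symm.trans (sb E2192 (tr (iv F12143) E2187)))).symm
theorem E2197 : n3632 = n1766 := ((((iv F2872)).symm.trans (sb E2192 (tr (iv F12364) E2171)))).symm
theorem F15267 : act 5 n4791 = n5952 := (sb E1812 (iv F9036))
theorem F15268 : act 6 n4791 = n2866 := (sb E1812 (iv D5921))
theorem E2198 : n6941 = n5980 := ((D6941).symm.trans (sb E2093 (iv F9075)))
theorem F15276 : act 0 n3759 = n2864 := (sb E1818 (iv D5912))
theorem F15280 : act 6 n4370 = n4370 := (sb E1823 F8254)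
theorem F15282 : act 6 n4337 = n4337 := (sb E1824 (iv F8061))
theorem F15283 : act 2 n9013 = n4606 := (sb E1825 (iv D9517))
theorem F15284 : act 1 n2191 = n4329 := (sb E1828 (iv D8970))
theorem F15285 : act 1 n8947 = n4530 := (sb E1829 (iv D9364))
theorem E2202 : n8303 = n939 := (((F3066).symm.trans (sb E1833 (iv F13295)))).symm
theorem F15286 : act 5 n8251 = n4285 := (sb E1834 (iv D8890))
theorem F15295 : act 6 n4416 = n4416 := (sb E1842 (iv F8489))
theorem F15297 : act 1 n2244 = n4408 := (sb E1845 (iv D9125))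
theorem F15299 : act 5 n3972 = n3729 := (sb E1848 (iv D7792))
theorem E2204 : n4489 = n2969 := ((D4489).symm.trans (sb E1850 F9273))
theorem E2205 : n3767 = n2968 := (((iv F5767)).symm.trans (sb E1850 (iv D6135)))
theorem E2206 : n6128 = n4491 := (((D4491).symm.trans (sb E1850 F9275))).symm
theorem E2209 : n4478 = n2156 := (((iv F6829)).symm.trans (sb E1852 (tr F4476 E1852)))
theorem E2224 : n8125 = n924 := ((((iv F1637)).symm.trans (sb E1856 (iv F12128)))).symm
theorem E2225 : n1930 = n957 := (((D957).symm.trans (sb E1856 (iv D4032)))).symm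
theorem F15304 : act 5 n8068 = n4301 := (sb E1861 (iv D8913))
theorem F15308 : act 0 n1943 = n1920 := (sb E1865 (iv D4009))
theorem E2239 : n8373 = n2293 := (((F14801).symm.trans (sb E1869 D8373))).symm
theorem F15310 : act 1 n2874 = n1919 := (sb E1869 (iv D4008))
theorem E2240 : n8372 = n5935 := ((((iv F9016)).symm.trans (sb E1869 (iv F12483)))).symm
theorem E2241 : n8278 = n5747 := ((((iv F8748)).symm.trans (sb E1869 (iv F12303)))).symm
theorem E2242 : n8375 = n1393 := ((((iv D2874)).symm.trans (sb E1869 D8375))).symm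
theorem F15311 : act 5 n4298 = n3871 := (sb E1871 (iv D8103))
theorem F15312 : act 5 n4283 = n3952 := (sb E1875 (iv D8281))
theorem E2254 : n5842 = n2934 := (((iv F8891)).symm.trans (sb E1886 (iv D6065)))
theorem E2255 : n2939 = n2824 := (((F6845).symm.trans (sb E1886 F9204))).symm
theorem E2256 : n6075 = n5835 := ((((iv F8885)).symm.trans (sb E1886 (iv F9216)))).symm
theorem F15324 : act 5 n4053 = n3755 := (sb E1893 (iv D7846))
theorem F15325 : act 1 n4058 = n4470 := (sb E1897 (iv D9238))
theorem E2267 : n8748 = n4204 := (((D4204).symm.trans (sb E1901 (iv F13058)))).symm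
theorem F15326 : act 5 n2014 = n2014 := (sb E1901 (iv D4205))
theorem F15327 : act 6 n4323 = n4323 := (sb E1902 (iv D8957))
theorem F15328 : act 5 n2011 = n2011 := (sb E1903 (iv D4199))
theorem F15330 : act 6 n4338 = n4338 := (sb E1905 (iv D8990))
theorem F15331 : act 5 n2010 = n2010 := (sb E1906 (iv D4196))
theorem F15334 : act 2 n405 = n405 := (sb E1914 F821)
theorem E2291 : n215 = n205 := (((F789).symm.trans (sb E1914 F822))).symm
theorem E2292 : n833 = n795 := ((((iv F1443)).symm.trans (sb E1914 (iv F1500)))).symm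
theorem E2293 : n836 = n467 := ((((iv F903)).symm.trans (sb E1914 D836))).symm
theorem E2294 : n199 = n51 := (((F233).symm.trans (sb E1915 F759))).symm
theorem E2297 : n431 = n240 := (((D240).symm.trans (sb E1915 (iv F833)))).symm
theorem F15335 : act 2 n462 = n462 := (sb E1916 F1614)
theorem E2298 : n1832 = n912 := ((((iv F1622)).symm.trans (sb E1916 (iv F2967)))).symm
theorem E2299 : n458 = n233 := ((((iv D462)).symm.trans (sb E1916 (iv D907)))).symm
theorem E2300 : n1680 = n915 := (((D915).symm.trans (sb E1916 (iv F2751)))).symm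
theorem F15336 : act 2 n111 = n111 := (sb E1917 (iv D232))
theorem E2301 : n1688 = n921 := (((D921).symm.trans (sb E1918 D1688))).symm
theorem F15337 : act 2 n465 = n465 := (sb E1918 F1509)
theorem E2302 : n424 = n406 := (((F899).symm.trans (sb E1918 (iv D838)))).symm
theorem E2303 : n774 = n247 := (((F915).symm.trans (sb E1919 F2549))).symm
theorem F15338 : act 5 n3844 = n3844 := (sb E1932 (iv D8040))
theorem F15339 : act 5 n3925 = n3925 := (sb E1935 (iv D8223))
theorem F15341 : act 5 n3643 = n3643 := (sb E1939 F11238)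
theorem F15342 : act 1 n2697 = n2697 := (sb E1942 F8469)
theorem E2362 : n3296 = n467 := (E1963).trans E2293
theorem E2363 : n6840 = n925 := (((D925).symm.trans (sb E2362 D6840))).symm
theorem E2365 : n6821 = n917 := ((((iv F1631)).symm.trans (sb E2362 (iv F10256)))).symm
theorem E2366 : n1678 = n917 := (((iv F2744)).symm.trans (sb E1964 (tr (iv F10255) E2365)))
theorem E2367 : n8259 = n8257 := ((((iv F12265)).symm.trans (sb E1966 F12273))).symm
theorem F15345 : act 6 n3942 = n3942 := (sb E1966 (iv D8263))
theorem E2368 : n8335 = n3958 := ((D8335).symm.trans (sb E1967 (tr D8339 E2013)))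
theorem F15346 : act 6 n3981 = n1908 := (sb E1967 (iv D3983))
theorem F15347 : act 6 n3943 = n3943 := (sb E1968 (iv D8265))
theorem F15348 : act 6 n3843 = n3843 := (sb E1969 (iv D8037))
theorem E2374 : n8168 = n8166 := ((((iv F12175)).symm.trans (sb E1977 F12190))).symm
theorem F15349 : act 6 n3905 = n3905 := (sb E1977 (iv D8179))
theorem E2375 : n8076 = n8074 := ((((iv F12068)).symm.trans (sb E1978 F12078))).symm
theorem F15350 : act 6 n3861 = n3861 := (sb E1978 (iv D8080))
theorem E2376 : n8165 = n3877 := ((D8165).symm.trans (sb E1979 (tr D8169 E2012)))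
theorem F15351 : act 6 n3900 = n1873 := (sb E1979 (iv D3902))
theorem E2378 : n4021 = n1949 := ((D4021).symm.trans (sb E1980 (iv D4070)))
theorem E2381 : n1684 = n925 := (((iv D3486)).symm.trans (sb E1981 (tr F12193 E2363)))
theorem F15353 : act 6 n3862 = n3862 := (sb E1983 (iv D8082))
theorem E2404 : n1559 = n400 := ((((iv F782)).symm.trans (sb E1998 (iv D3210)))).symm
theorem E2407 : n1562 = n401 := ((((iv F783)).symm.trans (sb E1999 (iv D3215)))).symm
theorem E2410 : n4076 = n1931 := (((D1931).symm.trans (sb E2002 D4076))).symm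
theorem E2418 : n8402 = n2892 := ((D8402).symm.trans (sb E2011 (iv D5976)))
theorem E2425 : n7840 = n4025 := ((D7840).symm.trans (sb E2017 (iv D8410)))
theorem F15354 : act 0 n3643 = n3643 := (sb E2018 (iv D7601))
theorem F15356 : act 0 n3654 = n3654 := (sb E2020 (iv D7624))
theorem F15358 : act 6 n879 = n879 := (sb E2029 F2853)
theorem E2441 : n8498 = n3772 := (((D3772).symm.trans (sb E2030 (iv F12678)))).symm
theorem E2444 : n3768 = n1953 := (((iv F5770)).symm.trans (sb E2030 (iv D4080)))
theorem E2454 : n8794 = n6729 := ((((iv F10117)).symm.trans (sb E2042 D8794))).symm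
theorem E2455 : n8787 = n6764 := ((((iv F10167)).symm.trans (sb E2042 (iv F13124)))).symm
theorem F15361 : act 6 n3272 = n2063 := (sb E2042 F6448)
theorem E2456 : n7832 = n2878 := (((iv F11657)).symm.trans (sb E2044 F8990))
theorem F15362 : act 5 n3750 = n2864 := (sb E2044 (iv D5914))
theorem E2459 : n8445 = n6942 := (((D6942).symm.trans (sb E2048 D8445))).symm
theorem E2460 : n8318 = n6896 := ((((iv F10362)).symm.trans (sb E2048 (iv F12376)))).symm
theorem E2461 : n3887 = n3650 := ((((iv F5603)).symm.trans (sb E2049 (iv F5951)))).symm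
theorem E2462 : n3968 = n3661 := ((((iv F5620)).symm.trans (sb E2049 (iv F6054)))).symm
theorem F15368 : act 1 n800 = n800 := (sb E2058 (iv D1606))
theorem E2467 : n3310 = n1604 := ((((iv F2640)).symm.trans (sb E2058 D3310))).symm
theorem E2468 : n3284 = n1593 := ((((iv F2628)).symm.trans (sb E2058 (iv F5097)))).symm
theorem E2473 : n3241 = n203 := (E2123).trans E2125
theorem F15369 : act 1 n795 = n795 := (sb E2066 (iv D1595))
theorem F15370 : act 0 n3844 = n3844 := (sb E2079 (iv D8038))
theorem F15372 : act 0 n3925 = n3925 := (sb E2081 (iv D8221))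
theorem F15376 : act 1 n3749 = n1932 := (sb E2089 (iv D4036))
theorem E2488 : n8129 = n7705 := ((((iv F11459)).symm.trans (sb E2089 (iv F12133)))).symm
theorem E2489 : n8307 = n7785 := ((((iv F11562)).symm.trans (sb E2089 (iv F12349)))).symm
theorem F15378 : act 5 n3696 = n7705 := (sb E2091 F11471)
theorem F15381 : act 5 n3731 = n7785 := (sb E2092 F11578)
theorem F15383 : act 0 n2692 = n2692 := (sb E2099 F8461)
theorem F15384 : act 2 n2692 = n2692 := (sb E2099 F8462)
theorem F15385 : act 0 n2693 = n2693 := (sb E2100 F8464)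
theorem F15386 : act 2 n2693 = n2693 := (sb E2100 F8465)
theorem F15387 : act 5 n2693 = n2693 := (sb E2100 F8467)
theorem F15390 : act 1 n2700 = n4416 := (sb E2113 (iv D9142))
theorem E2493 : n780 = n401 := (((iv F1419)).symm.trans (sb E2116 (tr (iv F2583) E2407)))
theorem E2494 : n1578 = n787 := (((D787).symm.trans (sb E2116 (iv F2605)))).symm
theorem F15392 : act 5 n401 = n401 := (sb E2116 (iv D788))
theorem F15393 : act 0 n202 = n202 := (sb E2120 (iv D399))
theorem E2498 : n779 = n400 := (((D400).symm.trans (sb E2120 D779))).symm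
theorem E2500 : n1568 = n783 := (((D783).symm.trans (sb E2121 (iv F2590)))).symm
theorem E2501 : n1571 = n784 := (((D784).symm.trans (sb E2121 (iv F2594)))).symm
theorem F15394 : act 5 n400 = n400 := (sb E2121 (iv D785))
theorem E2504 : n6698 = n400 := ((((iv F782)).symm.trans (sb E2473 (iv F10072)))).symm
theorem E2505 : n6714 = n404 := (((D404).symm.trans (sb E2473 (iv F10095)))).symm
theorem E2506 : n422 = n404 := (((iv F820)).symm.trans (sb E2124 (tr D6714 E2505)))
theorem F15395 : act 2 n203 = n203 := (sb E2125 F436)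
theorem E2508 : n102 = n96 := ((((iv D203)).symm.trans (sb E2125 (iv D213)))).symm
theorem E2509 : n910 = n466 := (((D466).symm.trans (sb E2129 D910))).symm
theorem F15396 : act 2 n235 = n235 := (sb E2129 F892)
theorem E2510 : n392 = n114 := (((F476).symm.trans (sb E2129 F893))).symm
theorem E2511 : n908 = n463 := ((((iv F896)).symm.trans (sb E2129 (iv F1618)))).symm
theorem E2513 : n8772 = n4218 := (((D4218).symm.trans (sb E2132 (iv F13100)))).symm
theorem F15397 : act 5 n2020 = n2020 := (sb E2132 (iv D4219))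
theorem E2517 : n987 = n503 := ((((iv F966)).symm.trans (sb E2135 F2838))).symm
theorem F15402 : act 1 n875 = n875 := (sb E2139 F2848)
theorem E2527 : n3627 = n1762 := (((D1762).symm.trans (sb E2139 D3627))).symm
theorem E2528 : n3620 = n1757 := ((((iv F2857)).symm.trans (sb E2139 (iv F5559)))).symm
theorem F15403 : act 2 n257 = n257 := (sb E2144 (iv D501))
theorem E2536 : n986 = n502 := (((D502).symm.trans (sb E2144 D986))).symm
theorem F15407 : act 1 n872 = n872 := (sb E2155 F2842)
theorem E2557 : n4803 = n2314 := (((D2314).symm.trans (sb E2159 (iv F7321)))).symm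
theorem E2558 : n4807 = n2315 := (((D2315).symm.trans (sb E2159 (iv F7324)))).symm
theorem E2559 : n4716 = n2266 := ((((iv F3588)).symm.trans (sb E2159 (iv F7190)))).symm
theorem F15408 : act 6 n1128 = n1128 := (sb E2159 (iv D2317))
theorem F15409 : act 6 n4417 = n4417 := (sb E2162 (iv D9145))
theorem F15410 : act 5 n3654 = n3654 := (sb E2163 F11262)
theorem F15411 : act 6 n4448 = n4448 := (sb E2167 (iv D9196))
theorem E2572 : n7636 = n1903 := ((D7636).symm.trans (sb E2169 (iv D3970)))
theorem E2574 : n8247 = n7629 := ((((iv F11335)).symm.trans (sb E2170 (iv F12254)))).symm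
theorem E2575 : n7639 = n1903 := ((D7639).symm.trans (sb E2170 F6443))
theorem E2581 : n8138 = n7615 := (((D7615).symm.trans (sb E2185 F12153))).symm
theorem E2584 : n8064 = n7606 := ((((iv F11311)).symm.trans (sb E2186 (iv F12052)))).symm
theorem E2585 : n7618 = n1868 := ((D7618).symm.trans (sb E2186 (iv D3890)))
theorem E2588 : n7615 = n1868 := ((((iv F3018)).symm.trans (sb E2193 (tr (iv F12145) E2581)))).symm
theorem F15422 : act 0 n951 = n1772 := (sb E2190 F5632)
theorem F15423 : act 2 n951 = n1772 := (sb E2190 (iv F11705))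
theorem F15425 : act 6 n951 = n1772 := (sb E2191 (iv D3671))
theorem E2590 : n8063 = n7604 := ((((iv F11308)).symm.trans (sb E2195 (iv F12051)))).symm
theorem E2591 : n7566 = n3649 := (((D3649).symm.trans (sb E2196 D7566))).symm
theorem E2592 : n7560 = n3644 := ((((iv F5597)).symm.trans (sb E2196 (iv F11242)))).symm
theorem F15427 : act 6 n1761 = n1761 := (sb E2196 F5570)
theorem E2594 : n7575 = n3655 := ((((iv F5609)).symm.trans (sb E2197 (iv F11265)))).symm
theorem F15428 : act 6 n1766 = n1766 := (sb E2197 F5582)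
theorem E2596 : n5879 = n3344 := ((F15118).symm.trans (sb E2198 F10420))
theorem E2601 : n3962 = n1909 := (((D1909).symm.trans (sb E2202 (iv D8303)))).symm
theorem F15431 : act 0 n2969 = n2160 := (sb E2204 (iv D4489))
theorem E2603 : n9274 = n6133 := ((((iv F9272)).symm.trans (sb E2204 (iv F13859)))).symm
theorem E2606 : n6136 = n5827 := ((D6136).symm.trans (sb E2204 (iv F8876)))
theorem E2607 : n7868 = n6131 := ((((iv F9270)).symm.trans (sb E2205 (iv F11739)))).symm
theorem E2608 : n7803 = n6030 := ((((iv F9162)).symm.trans (sb E2205 (iv F11594)))).symm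
theorem F15433 : act 5 n2968 = n2160 := (sb E2205 F5767)
theorem E2609 : n6127 = n2817 := (((iv F9267)).symm.trans (sb E2205 F5768))
theorem E2610 : n5825 = n2964 := (((iv F8872)).symm.trans (sb E2206 (iv D6128)))
theorem F15435 : act 1 n2156 = n2156 := (sb E2209 F6829)
theorem E2628 : n3881 = n1874 := (((D1874).symm.trans (sb E2224 (iv D8125)))).symm
theorem F15436 : act 1 n957 = n948 := (sb E2225 (iv D1930))
theorem E2633 : n4119 = n2870 := ((((iv F14806)).symm.trans (sb E2239 F12487))).symm
theorem F15440 : act 1 n5935 = n4007 := (sb E2240 (iv D8372))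
theorem F15441 : act 1 n5747 = n3951 := (sb E2241 (iv D8278))
theorem E2634 : n7833 = n2872 := (((D2872).symm.trans (sb E2242 F12485))).symm
theorem E2647 : n5836 = n1426 := (((F4581).symm.trans (sb E2254 F8893))).symm
theorem E2648 : n6066 = n2823 := ((D6066).symm.trans (sb E2254 (iv D5842)))
theorem E2650 : n5998 = n5697 := ((((iv F8638)).symm.trans (sb E2255 (iv F9108)))).symm
theorem E2652 : n2940 = n2821 := ((((iv D5835)).symm.trans (sb E2256 (iv D6075)))).symm
theorem F15450 : act 5 n4204 = n4204 := (sb E2267 (iv D8748))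
theorem E2676 : n104 = n98 := (((F416).symm.trans (sb E2291 F438))).symm
theorem F15457 : act 2 n795 = n795 := (sb E2292 F1499)
theorem E2679 : n1675 = n1593 := ((((iv F2627)).symm.trans (sb E2292 (iv F2739)))).symm
theorem F15458 : act 2 n467 = n467 := (sb E2293 F1504)
theorem E2680 : n395 = n117 := (((D117).symm.trans (sb E2294 D395))).symm
theorem E2681 : n94 = n24 := (((F114).symm.trans (sb E2294 F407))).symm
theorem E2684 : n222 = n118 := (((D118).symm.trans (sb E2294 (iv F454)))).symm
theorem E2688 : n853 = n478 := (((D478).symm.trans (sb E2297 D853))).symm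
theorem E2690 : n3804 = n1844 := ((((iv F2981)).symm.trans (sb E2298 (iv F5825)))).symm
theorem F15459 : act 2 n233 = n233 := (sb E2299 F887)
theorem E2693 : n3477 = n1853 := (((D1853).symm.trans (sb E2300 D3477))).symm
theorem F15460 : act 2 n915 = n915 := (sb E2300 F2749)
theorem E2694 : n834 = n796 := (((F1628).symm.trans (sb E2300 (iv D1680)))).symm
theorem E2696 : n3496 = n1866 := (((D1866).symm.trans (sb E2301 D3496))).symm
theorem F15461 : act 2 n406 = n406 := (sb E2302 F823)
theorem E2703 : n1548 = n491 := (((D491).symm.trans (sb E2303 D1548))).symm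
theorem E2773 : n3473 = n1857 := (((D1857).symm.trans (sb E2366 D3473))).symm
theorem F15464 : act 2 n917 = n917 := (sb E2366 F2744)
theorem F15465 : act 6 n8257 = n3940 := (sb E2367 (iv D8259))
theorem E2775 : n8292 = n3981 := ((D8292).symm.trans (sb E2368 (iv D8335)))
theorem F15466 : act 6 n8166 = n3901 := (sb E2374 (iv D8168))
theorem F15467 : act 6 n8074 = n3859 := (sb E2375 (iv D8076))
theorem E2778 : n8114 = n3900 := ((D8114).symm.trans (sb E2376 (iv D8165)))
theorem F15468 : act 1 n1949 = n1926 := (sb E2378 (iv D4021))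
theorem E2782 : n3486 = n1876 := (((D1876).symm.trans (sb E2381 D3486))).symm
theorem E2803 : n3208 = n784 := (((D784).symm.trans (sb E2404 (iv F4991)))).symm
theorem E2805 : n3213 = n787 := (((D787).symm.trans (sb E2407 (iv F4998)))).symm
theorem E2807 : n6165 = n4033 := (((D4033).symm.trans (sb E2410 (iv F9310)))).symm
theorem F15471 : act 1 n2892 = n4022 := (sb E2418 (iv D8402))
theorem E2819 : n8409 = n5869 := ((D8409).symm.trans (sb E2425 F11667))
theorem E2830 : n7871 = n4079 := (((iv F11746)).symm.trans (sb E2441 (iv D8498)))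
theorem F15474 : act 5 n1953 = n1817 := (sb E2444 F5770)
theorem F15478 : act 6 n6729 = n4298 := (sb E2454 F13138)
theorem F15481 : act 6 n6764 = n4283 := (sb E2455 F13125)
theorem F15482 : act 1 n2878 = n3750 := (sb E2456 F11657)
theorem E2846 : n5931 = n3748 := (((iv F9014)).symm.trans (sb E2456 (iv D7832)))
theorem E2847 : n5947 = n4460 := ((D5947).symm.trans (sb E2456 F11658))
theorem F15483 : act 0 n6942 = n4053 := (sb E2459 F12598)
theorem F15484 : act 0 n6896 = n3972 := (sb E2460 (iv D8318))
theorem E2849 : n8061 = n7606 := ((((iv F11311)).symm.trans (sb E2461 (iv F12049)))).symm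
theorem E2851 : n8244 = n7629 := ((((iv F11335)).symm.trans (sb E2462 (iv F12252)))).symm
theorem E2852 : n6865 = n3307 := (((D3307).symm.trans (sb E2467 (iv F10315)))).symm
theorem F15485 : act 1 n1593 = n1593 := (sb E2468 (iv D3284))
theorem F15488 : act 1 n7705 = n3883 := (sb E2488 (iv D8129))
theorem F15489 : act 1 n7785 = n3964 := (sb E2489 (iv D8307))
theorem F15490 : act 0 n401 = n401 := (sb E2493 F1419)
theorem E2864 : n1561 = n787 := (((D787).symm.trans (sb E2493 D1561))).symm
theorem E2866 : n3250 = n1577 := (((D1577).symm.trans (sb E2494 (iv F5041)))).symm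
theorem E2867 : n3234 = n1570 := ((((iv F2593)).symm.trans (sb E2494 (iv F5018)))).symm
theorem F15491 : act 5 n787 = n787 := (sb E2494 (iv D1578))
theorem F15492 : act 0 n400 = n400 := (sb E2498 F1418)
theorem E2869 : n1557 = n783 := (((D783).symm.trans (sb E2498 D1557))).symm
theorem E2870 : n1558 = n784 := (((D784).symm.trans (sb E2498 D1558))).symm
theorem E2872 : n3229 = n821 := ((((iv F1482)).symm.trans (sb E2500 D3229))).symm
theorem E2873 : n3224 = n1566 := (((D1566).symm.trans (sb E2500 (iv F5005)))).symm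
theorem E2874 : n3227 = n1567 := (((D1567).symm.trans (sb E2500 (iv F5008)))).symm
theorem F15494 : act 5 n783 = n783 := (sb E2500 (iv D1568))
theorem F15495 : act 5 n784 = n784 := (sb E2501 (iv D1571))
theorem E2877 : n821 = n783 := (((D783).symm.trans (sb E2504 (tr (iv D6698) E2872)))).symm
theorem F15496 : act 2 n404 = n404 := (sb E2506 F820)
theorem E2880 : n832 = n794 := (((D794).symm.trans (sb E2506 D832))).symm
theorem E2885 : n46 = n43 := ((((iv D96)).symm.trans (sb E2508 (iv D102)))).symm
theorem E2888 : n1840 = n923 := (((D923).symm.trans (sb E2509 D1840))).symm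
theorem E2889 : n771 = n241 := (((F900).symm.trans (sb E2509 F1620))).symm
theorem E2893 : n200 = n52 := (((F234).symm.trans (sb E2510 F761))).symm
theorem F15497 : act 2 n463 = n463 := (sb E2511 F1617)
theorem F15498 : act 5 n4218 = n4218 := (sb E2513 (iv D8772))
theorem F15500 : act 2 n503 = n503 := (sb E2517 F1733)
theorem E2898 : n2004 = n994 := (((D994).symm.trans (sb E2517 D2004))).symm
theorem E2908 : n7569 = n3651 := (((D3651).symm.trans (sb E2527 D7569))).symm
theorem F15504 : act 1 n1757 = n1757 := (sb E2528 F5558)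
theorem E2922 : n2000 = n990 := (((D990).symm.trans (sb E2536 D2000))).symm
theorem E2945 : n9732 = n4713 := ((((iv F7187)).symm.trans (sb E2557 (iv F14546)))).symm
theorem F15510 : act 6 n2315 = n2315 := (sb E2558 (iv D4807))
theorem E2947 : n9736 = n4714 := (((D4714).symm.trans (sb E2559 (iv F14550)))).symm
theorem F15511 : act 6 n2266 = n2266 := (sb E2559 (iv D4716))
theorem F15517 : act 0 n1903 = n3661 := (sb E2572 F11352)
theorem F15518 : act 2 n1903 = n3661 := (sb E2572 F11709)
theorem F15520 : act 6 n7629 = n3935 := (sb E2574 (iv D8247))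
theorem F15521 : act 6 n1903 = n3661 := (sb E2575 (iv D7639))
theorem F15528 : act 6 n7606 = n3854 := (sb E2584 (iv D8064))
theorem F15529 : act 6 n1868 = n3650 := (sb E2585 (iv D7618))
theorem F15530 : act 0 n1868 = n3650 := (sb E2588 F11324)
theorem F15531 : act 5 n1868 = n3648 := (sb E2588 (iv D7615))
theorem F15533 : act 5 n7604 = n3854 := (sb E2590 (iv D8063))
theorem F15534 : act 6 n3649 = n3649 := (sb E2591 F11255)
theorem F15535 : act 6 n3644 = n3644 := (sb E2592 F11243)
theorem F15536 : act 6 n3655 = n3655 := (sb E2594 F11266)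
theorem E2951 : n6951 = n2842 := ((D6951).symm.trans (sb E2596 (iv D5879)))
theorem F15539 : act 1 n1909 = n1900 := (sb E2601 (iv D3962))
theorem E2952 : n8238 = n3941 := ((((iv F6010)).symm.trans (sb E2601 (iv F12243)))).symm
theorem F15540 : act 0 n6133 = n4488 := (sb E2603 (iv D9274))
theorem F15542 : act 6 n5827 = n2969 := (sb E2606 (iv D6136))
theorem F15543 : act 1 n6131 = n3766 := (sb E2607 (iv D7868))
theorem F15544 : act 5 n6131 = n4488 := (sb E2607 F11740)
theorem F15545 : act 6 n6131 = n5826 := (sb E2607 F11741)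
theorem F15547 : act 5 n6030 = n4442 := (sb E2608 F11595)
theorem F15548 : act 6 n6030 = n5690 := (sb E2608 F11596)
theorem F15549 : act 6 n2817 = n2968 := (sb E2609 F9267)
theorem F15550 : act 0 n2964 = n2817 := (sb E2610 (iv D5825))
theorem F15553 : act 1 n1874 = n1865 := (sb E2628 (iv D3881))
theorem E2964 : n8055 = n3860 := ((((iv F5919)).symm.trans (sb E2628 (iv F12038)))).symm
theorem E2965 : n5926 = n1973 := ((D5926).symm.trans (sb E2633 (iv D4119)))
theorem E2967 : n8564 = n5927 := (((D5927).symm.trans (sb E2633 (iv F12783)))).symm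
theorem E2968 : n8529 = n5743 := ((((iv F8740)).symm.trans (sb E2633 (iv F12720)))).symm
theorem E2969 : n5929 = n4968 := ((D5929).symm.trans (sb E2634 F11659))
theorem F15555 : act 0 n1426 = n2824 := (sb E2647 F8886)
theorem F15556 : act 6 n2823 = n2934 := (sb E2648 (iv D6066))
theorem F15558 : act 0 n5697 = n2903 := (sb E2650 (iv D5998))
theorem E2972 : n5833 = n1433 := ((D5833).symm.trans (sb E2652 F4589))
theorem F15560 : act 2 n2821 = n2964 := (sb E2652 (iv F4612))
theorem E2973 : n6072 = n5834 := (((D5834).symm.trans (sb E2652 (iv F9211)))).symm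
theorem E2974 : n5999 = n5694 := ((((iv F8635)).symm.trans (sb E2652 (iv F9110)))).symm
theorem F15561 : act 6 n2821 = n1426 := (sb E2652 (iv D2940))
theorem E2985 : n219 = n209 := (((D209).symm.trans (sb E2676 D219))).symm
theorem E2986 : n47 = n44 := (((F208).symm.trans (sb E2676 F218))).symm
theorem E2990 : n3464 = n3282 := ((((iv F5091)).symm.trans (sb E2679 (iv F5331)))).symm
theorem E2991 : n773 = n149 := ((((iv F296)).symm.trans (sb E2680 D773))).symm
theorem E2992 : n201 = n53 := (((F239).symm.trans (sb E2680 F768))).symm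
theorem E2993 : n772 = n243 := ((((iv F487)).symm.trans (sb E2680 (iv F1404)))).symm
theorem E2995 : n775 = n248 := (((D248).symm.trans (sb E2680 D775))).symm
theorem E2997 : n109 = n54 := (((D54).symm.trans (sb E2681 (iv F230)))).symm
theorem E3001 : n440 = n249 := (((D249).symm.trans (sb E2684 D440))).symm
theorem E3009 : n1722 = n949 := (((D949).symm.trans (sb E2688 D1722))).symm
theorem E3015 : n7223 = n3833 := (((D3833).symm.trans (sb E2690 (iv F10791)))).symm
theorem E3019 : n7250 = n3852 := (((D3852).symm.trans (sb E2693 D7250))).symm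
theorem F15562 : act 2 n796 = n796 := (sb E2694 F1501)
theorem F15563 : act 1 n1866 = n1866 := (sb E2696 F5385)
theorem E3043 : n3178 = n970 := (((D970).symm.trans (sb E2703 D3178))).symm
theorem E3147 : n7240 = n3862 := (((D3862).symm.trans (sb E2773 D7240))).symm
theorem F15564 : act 1 n3981 = n3958 := (sb E2775 (iv D8292))
theorem F15565 : act 1 n3900 = n3877 := (sb E2778 (iv D8114))
theorem F15566 : act 1 n1876 = n1876 := (sb E2782 F5369)
theorem E3185 : n3239 = n1572 := (((D1572).symm.trans (sb E2803 (iv F5029)))).symm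
theorem E3187 : n3255 = n1579 := (((D1579).symm.trans (sb E2805 (iv F5051)))).symm
theorem F15569 : act 2 n4033 = n4069 := (sb E2807 F9311)
theorem E3188 : n8428 = n2981 := ((D8428).symm.trans (sb E2807 (iv D6165)))
theorem F15572 : act 5 n5869 = n4027 := (sb E2819 F12536)
theorem F15574 : act 0 n4079 = n3769 := (sb E2830 F11745)
theorem F15586 : act 2 n3748 = n2878 := (sb E2846 F9014)
theorem F15587 : act 5 n3748 = n2872 := (sb E2846 (iv D5931))
theorem E3204 : n9215 = n5949 := (((iv F13795)).symm.trans (sb E2847 (iv F9028)))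
theorem E3205 : n9218 = n5942 := ((D9218).symm.trans (sb E2847 F9026))
theorem F15588 : act 6 n4460 = n2878 := (sb E2847 (iv D5947))
theorem F15590 : act 0 n7606 = n3854 := (sb E2849 (iv D8061))
theorem F15591 : act 0 n7629 = n3935 := (sb E2851 (iv D8244))
theorem F15592 : act 2 n3307 = n3307 := (sb E2852 (iv D6865))
theorem F15593 : act 0 n787 = n787 := (sb E2864 F2582)
theorem E3210 : n3212 = n1577 := (((D1577).symm.trans (sb E2864 D3212))).symm
theorem E3211 : n3207 = n1570 := ((((iv F2593)).symm.trans (sb E2864 (iv F4989)))).symm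
theorem E3214 : n6742 = n3249 := (((D3249).symm.trans (sb E2866 (iv F10131)))).symm
theorem E3215 : n6707 = n3233 := ((((iv F5016)).symm.trans (sb E2866 (iv F10077)))).symm
theorem F15595 : act 5 n1577 = n1577 := (sb E2866 (iv D3250))
theorem F15596 : act 5 n1570 = n1570 := (sb E2867 (iv D3234))
theorem F15597 : act 0 n783 = n783 := (sb E2869 F2576)
theorem E3219 : n3203 = n1566 := (((D1566).symm.trans (sb E2869 D3203))).symm
theorem E3220 : n3204 = n1567 := (((D1567).symm.trans (sb E2869 D3204))).symm
theorem F15598 : act 0 n784 = n784 := (sb E2870 F2577)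
theorem E3223 : n3229 = n783 := (E2872).trans E2877
theorem E3225 : n6686 = n1566 := (((D1566).symm.trans (sb E3223 (iv F10053)))).symm
theorem E3226 : n6693 = n1567 := (((D1567).symm.trans (sb E3223 (iv F10063)))).symm
theorem E3229 : n1648 = n1566 := (((iv F2701)).symm.trans (sb E2873 (tr D6686 E3225)))
theorem F15600 : act 5 n1566 = n1566 := (sb E2873 (iv D3224))
theorem E3232 : n1649 = n1567 := (((iv F2702)).symm.trans (sb E2874 (tr D6693 E3226)))
theorem F15601 : act 5 n1567 = n1567 := (sb E2874 (iv D3227))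
theorem F15602 : act 1 n783 = n783 := (sb E2877 F1482)
theorem E3243 : n1674 = n1592 := (((D1592).symm.trans (sb E2880 D1674))).symm
theorem E3253 : n22 = n21 := ((((iv D43)).symm.trans (sb E2885 (iv D46)))).symm
theorem F15603 : act 1 n923 = n923 := (sb E2888 F2978)
theorem E3260 : n3823 = n1871 := (((D1871).symm.trans (sb E2888 D3823))).symm
theorem E3261 : n3812 = n1855 := ((((iv F3001)).symm.trans (sb E2888 (iv F5840)))).symm
theorem E3263 : n1189 = n480 := (((D480).symm.trans (sb E2889 (iv F2006)))).symm
theorem E3272 : n306 = n119 := (((D119).symm.trans (sb E2893 (iv F601)))).symm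
theorem E3277 : n4182 = n2020 := (((D2020).symm.trans (sb E2898 D4182))).symm
theorem F15605 : act 2 n3651 = n3651 := (sb E2908 F11258)
theorem E3284 : n4172 = n2010 := (((D2010).symm.trans (sb E2922 D4172))).symm
theorem E3306 : n9738 = n9731 := (((D9731).symm.trans (sb E2945 (iv F14554)))).symm
theorem F15608 : act 6 n4714 = n4714 := (sb E2947 (iv D9736))
theorem F15611 : act 6 n2842 = n3344 := (sb E2951 (iv D6951))
theorem F15612 : act 1 n3941 = n3932 := (sb E2952 (iv D8238))
theorem F15613 : act 1 n3860 = n3851 := (sb E2964 (iv D8055))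
theorem F15614 : act 1 n1973 = n2870 := (sb E2965 (iv D5926))
theorem E3311 : n5822 = n1986 := ((((iv F3167)).symm.trans (sb E2965 F9007))).symm
theorem F15615 : act 1 n5927 = n4116 := (sb E2967 (iv D8564))
theorem F15616 : act 1 n5743 = n4096 := (sb E2968 (iv D8529))
theorem F15617 : act 0 n4968 = n2872 := (sb E2969 (iv D5929))
theorem F15618 : act 2 n4968 = n2876 := (sb E2969 F9012)
theorem E3313 : n2953 = n2926 := (((iv F4598)).symm.trans (sb E2972 F8881))
theorem F15622 : act 1 n1433 = n2821 := (sb E2972 (iv D5833))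
theorem F15623 : act 1 n5834 = n2951 := (sb E2973 F9210)
theorem F15624 : act 6 n5834 = n2938 := (sb E2973 (iv D6072))
theorem F15625 : act 1 n5694 = n2910 := (sb E2974 F9109)
theorem F15626 : act 2 n5694 = n6023 := (sb E2974 (iv F9142))
theorem F15627 : act 6 n5694 = n2903 := (sb E2974 (iv D5999))
theorem E3334 : n106 = n100 := (((F426).symm.trans (sb E2985 F444))).symm
theorem F15628 : act 2 n44 = n24 := (sb E2986 F108)
theorem E3336 : n107 = n56 := ((((iv F124)).symm.trans (sb E2986 D107))).symm
theorem E3340 : n7218 = n6807 := ((((iv F10232)).symm.trans (sb E2990 (iv F10780)))).symm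
theorem E3341 : n396 = n67 := ((((iv D149)).symm.trans (sb E2991 F1406))).symm
theorem E3346 : n398 = n121 := (((D121).symm.trans (sb E2992 D398))).symm
theorem E3347 : n1544 = n484 := (((D484).symm.trans (sb E2993 D1544))).symm
theorem E3349 : n497 = n252 := ((((iv F510)).symm.trans (sb E2995 F1407))).symm
theorem E3351 : n226 = n122 := (((D122).symm.trans (sb E2997 D226))).symm
theorem E3352 : n48 = n45 := (((F119).symm.trans (sb E2997 (iv D109)))).symm
theorem E3358 : n606 = n147 := ((((iv F502)).symm.trans (sb E3001 (iv F1126)))).symm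
theorem E3359 : n864 = n492 := (((D492).symm.trans (sb E3001 D864))).symm
theorem E3373 : n3575 = n1933 := (((D1933).symm.trans (sb E3009 D3575))).symm
theorem E3381 : n3465 = n3283 := (((F5871).symm.trans (sb E3015 (iv D7223)))).symm
theorem F15629 : act 1 n3852 = n3852 := (sb E3019 F10840)
theorem E3426 : n1989 = n977 := ((((iv F1708)).symm.trans (sb E3043 F4947))).symm
theorem F15632 : act 1 n3862 = n3862 := (sb E3147 F10821)
theorem F15635 : act 5 n1572 = n1572 := (sb E3185 (iv D3239))
theorem F15636 : act 5 n1579 = n1579 := (sb E3187 (iv D3255))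
theorem F15637 : act 6 n2981 = n4033 := (sb E3188 (iv D8428))
theorem F15640 : act 0 n5949 = n4460 := (sb E3204 F13795)
theorem F15642 : act 2 n5942 = n4461 := (sb E3205 F13799)
theorem F15643 : act 5 n5942 = n4460 := (sb E3205 (iv D9218))
theorem F15644 : act 0 n1577 = n1577 := (sb E3210 F4996)
theorem E3528 : n6660 = n3249 := (((D3249).symm.trans (sb E3210 D6660))).symm
theorem E3529 : n6648 = n3233 := ((((iv F5016)).symm.trans (sb E3210 (iv F10005)))).symm
theorem F15645 : act 0 n1570 = n1570 := (sb E3211 F4988)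
theorem F15647 : act 5 n3249 = n3249 := (sb E3214 (iv D6742))
theorem F15648 : act 5 n3233 = n3233 := (sb E3215 (iv D6707))
theorem F15649 : act 0 n1566 = n1566 := (sb E3219 F4980)
theorem F15650 : act 2 n1566 = n1566 := (sb E3219 F4981)
theorem F15651 : act 0 n1567 = n1567 := (sb E3220 F4982)
theorem F15654 : act 1 n1566 = n1566 := (sb E3229 F2701)
theorem F15656 : act 1 n1567 = n1567 := (sb E3232 F2702)
theorem E3571 : n3463 = n3281 := (((D3281).symm.trans (sb E3243 D3463))).symm
theorem F15658 : act 2 n21 = n11 := (sb E3253 (iv D22))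
theorem F15659 : act 1 n1871 = n1871 := (sb E3260 F5857)
theorem F15660 : act 1 n1855 = n1855 := (sb E3261 F5839)
theorem E3608 : n7964 = n3857 := (((D3857).symm.trans (sb E3261 D7964))).symm
theorem E3612 : n598 = n251 := (((F916).symm.trans (sb E3263 (iv D1189)))).symm
theorem E3613 : n1174 = n954 := (((D954).symm.trans (sb E3263 F2007))).symm
theorem E3628 : n250 = n153 := ((D250).symm.trans (sb E3272 F600))
theorem E3636 : n8704 = n4218 := (((D4218).symm.trans (sb E3277 D8704))).symm
theorem F15661 : act 2 n2010 = n2010 := (sb E3284 F6328)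
theorem E3655 : n8681 = n4195 := (((D4195).symm.trans (sb E3284 D8681))).symm
theorem F15662 : act 6 n9731 = n4715 := (sb E3306 (iv D9738))
theorem E3699 : n4142 = n2815 := ((D4142).symm.trans (sb E3311 (iv D5822)))
theorem E3701 : n6046 = n2426 := ((D6046).symm.trans (sb E3313 F4599))
theorem E3708 : n211 = n148 := ((D211).symm.trans (sb E3334 (iv F291)))
theorem F15664 : act 2 n56 = n54 := (sb E3336 F222)
theorem F15665 : act 2 n6807 = n3830 := (sb E3340 F10779)
theorem E3711 : n776 = n150 := (((D150).symm.trans (sb E3341 D776))).symm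
theorem E3714 : n254 = n125 := ((((iv F255)).symm.trans (sb E3346 F777))).symm
theorem E3715 : n980 = n488 := ((((iv F934)).symm.trans (sb E3347 F2554))).symm
theorem E3718 : n309 = n303 := ((((iv F590)).symm.trans (sb E3349 F953))).symm
theorem E3723 : n124 = n69 := ((((iv F257)).symm.trans (sb E3351 (iv F465)))).symm
theorem F15666 : act 2 n45 = n25 := (sb E3352 F110)
theorem E3735 : n1201 = n302 := ((((iv F589)).symm.trans (sb E3358 (iv F2024)))).symm
theorem E3736 : n1737 = n971 := (((D971).symm.trans (sb E3359 D1737))).symm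
theorem E3761 : n7473 = n4037 := (((D4037).symm.trans (sb E3373 D7473))).symm
theorem E3779 : n7219 = n6808 := ((((iv F10235)).symm.trans (sb E3381 (iv F10782)))).symm
theorem E3831 : n2418 = n1985 := ((((iv F3166)).symm.trans (sb E3426 (iv F3796)))).symm
theorem F15673 : act 0 n3249 = n3249 := (sb E3528 F10018)
theorem F15674 : act 2 n3249 = n3249 := (sb E3528 F10019)
theorem F15675 : act 0 n3233 = n3233 := (sb E3529 F10004)
theorem F15687 : act 2 n3281 = n1843 := (sb E3571 F5330)
theorem F15689 : act 1 n3857 = n3857 := (sb E3608 F11892)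
theorem E4040 : n493 = n307 := (((iv F945)).symm.trans (sb E3612 F1112))
theorem E4041 : n590 = n494 := (((D494).symm.trans (sb E3612 F1113))).symm
theorem E4044 : n2324 = n1944 := (((D1944).symm.trans (sb E3613 (iv F3673)))).symm
theorem F15691 : act 0 n153 = n119 := (sb E3628 (iv D250))
theorem E4060 : n123 = n70 := ((((iv D153)).symm.trans (sb E3628 F505))).symm
theorem E4061 : n486 = n308 := (((D308).symm.trans (sb E3628 (iv F927)))).symm
theorem F15692 : act 6 n153 = n145 := (sb E3628 F506)
theorem F15693 : act 2 n4218 = n4218 := (sb E3636 F12979)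
theorem F15694 : act 2 n4195 = n4195 := (sb E3655 F12943)
theorem F15696 : act 1 n2815 = n1986 := (sb E3699 (iv D4142))
theorem E4109 : n8611 = n5823 := (((D5823).symm.trans (sb E3699 (iv F12841)))).symm
theorem E4110 : n8556 = n5688 := ((((iv F8622)).symm.trans (sb E3699 (iv F12764)))).symm
theorem F15697 : act 2 n2426 = n2926 := (sb E3701 (iv D6046))
theorem F15707 : act 2 n148 = n100 := (sb E3708 (iv D211))
theorem E4116 : n1520 = n86 := (((F375).symm.trans (sb E3711 (iv F2525)))).symm
theorem E4122 : n155 = n154 := (((iv F314)).symm.trans (sb E3714 F515))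
theorem F15708 : act 2 n125 = n122 := (sb E3714 (iv D254))
theorem E4123 : n604 = n579 := ((((iv F1084)).symm.trans (sb E3715 F1715))).symm
theorem E4126 : n603 = n594 := ((((iv F1103)).symm.trans (sb E3718 (iv F1121)))).symm
theorem F15709 : act 5 n303 = n153 := (sb E3718 (iv D309))
theorem F15710 : act 2 n69 = n55 := (sb E3723 (iv D124))
theorem E4145 : n1983 = n592 := ((((iv F1101)).symm.trans (sb E3735 (iv F3162)))).symm
theorem E4146 : n1197 = n1179 := (((iv F2019)).symm.trans (sb E3736 F2830))
theorem E4170 : n5107 = n5029 := (((iv F7771)).symm.trans (sb E3761 F11104))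
theorem F15711 : act 2 n6808 = n3831 := (sb E3779 F10781)
theorem E4206 : n5015 = n4140 := (((D4140).symm.trans (sb E3831 D5015))).symm
theorem F15721 : act 0 n307 = n251 := (sb E4040 F945)
theorem E4281 : n972 = n600 := (((D600).symm.trans (sb E4040 D972))).symm
theorem E4282 : n973 = n601 := (((D601).symm.trans (sb E4040 D973))).symm
theorem E4283 : n964 = n602 := (((D602).symm.trans (sb E4040 (iv F1685)))).symm
theorem F15722 : act 6 n307 = n300 := (sb E4040 F946)
theorem E4284 : n974 = n301 := ((D974).symm.trans (sb E4041 (iv D590)))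
theorem E4289 : n4060 = n1132 := ((D4060).symm.trans (sb E4044 (iv D2324)))
theorem F15723 : act 0 n70 = n55 := (sb E4060 (iv D123))
theorem F15724 : act 6 n70 = n69 := (sb E4060 F251)
theorem F15725 : act 0 n308 = n245 := (sb E4061 (iv D486))
theorem F15726 : act 6 n308 = n291 := (sb E4061 F928)
theorem F15727 : act 1 n5823 = n4139 := (sb E4109 (iv D8611))
theorem F15728 : act 1 n5688 = n4111 := (sb E4110 (iv D8556))
theorem E4344 : n1471 = n185 := (((D185).symm.trans (sb E4116 F2526))).symm
theorem F15729 : act 0 n154 = n125 := (sb E4122 F314)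
theorem E4348 : n310 = n89 := ((D310).symm.trans (sb E4122 (iv F376)))
theorem F15730 : act 3 n154 = n303 := (sb E4122 (iv F591))
theorem F15731 : act 6 n154 = n71 := (sb E4122 (iv D155))
theorem E4350 : n1199 = n1153 := ((((iv F1960)).symm.trans (sb E4123 (iv F2021)))).symm
theorem F15732 : act 5 n579 = n308 := (sb E4123 (iv D604))
theorem E4353 : n1200 = n1182 := (((D1182).symm.trans (sb E4126 D1200))).symm
theorem F15733 : act 5 n594 = n307 := (sb E4126 (iv D603))
theorem F15734 : act 2 n592 = n976 := (sb E4145 F3161)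
theorem E4374 : n4136 = n1177 := ((((iv F1987)).symm.trans (sb E4145 (iv F6276)))).symm
theorem F15735 : act 2 n1179 = n971 := (sb E4146 F2019)
theorem E4376 : n2462 = n2420 := ((((iv F3799)).symm.trans (sb E4146 (iv F3873)))).symm
theorem F15736 : act 1 n5029 = n4037 := (sb E4170 F7771)
theorem E4468 : n8606 = n2422 := (((iv F12834)).symm.trans (sb E4206 F7633))
theorem E4578 : n1976 = n1191 := (((D1191).symm.trans (sb E4281 D1976))).symm
theorem E4579 : n1977 = n1192 := (((D1192).symm.trans (sb E4281 D1977))).symm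
theorem E4580 : n1964 = n1193 := (((D1193).symm.trans (sb E4281 (iv F3131)))).symm
theorem E4582 : n1979 = n1195 := (((D1195).symm.trans (sb E4281 D1979))).symm
theorem F15738 : act 0 n601 = n494 := (sb E4282 F1702)
theorem E4583 : n1980 = n1196 := (((D1196).symm.trans (sb E4282 D1980))).symm
theorem F15739 : act 5 n601 = n1179 := (sb E4282 (iv F1991))
theorem F15740 : act 6 n601 = n589 := (sb E4282 F1703)
theorem F15741 : act 0 n602 = n487 := (sb E4283 F1684)
theorem E4584 : n1965 = n1198 := (((D1198).symm.trans (sb E4283 D1965))).symm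
theorem F15742 : act 6 n602 = n576 := (sb E4283 F1686)
theorem F15743 : act 2 n301 = n494 := (sb E4284 (iv D974))
theorem E4586 : n1982 = n591 := (((D591).symm.trans (sb E4284 D1982))).symm
theorem F15744 : act 1 n1132 = n1944 := (sb E4289 (iv D4060))
theorem E4626 : n733 = n367 := (((D367).symm.trans (sb E4344 (iv D1471)))).symm
theorem F15745 : act 1 n89 = n154 := (sb E4348 (iv D310))
theorem E4629 : n371 = n189 := (((D189).symm.trans (sb E4348 (iv F714)))).symm
theorem E4631 : n2466 = n2369 := (((D2369).symm.trans (sb E4350 D2466))).symm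
theorem E4632 : n2465 = n2366 := ((((iv F3732)).symm.trans (sb E4350 (iv F3875)))).symm
theorem F15746 : act 5 n1153 = n602 := (sb E4350 (iv D1199))
theorem E4638 : n2458 = n2430 := (((D2430).symm.trans (sb E4353 (iv F3863)))).symm
theorem F15747 : act 2 n1177 = n1984 := (sb E4374 F6275)
theorem F15748 : act 2 n2420 = n1975 := (sb E4376 F3872)
theorem F15749 : act 1 n2422 = n4140 := (sb E4468 F12834)
theorem E4689 : n4121 = n2446 := (((D2446).symm.trans (sb E4578 D4121))).symm
theorem E4695 : n4126 = n2452 := (((D2452).symm.trans (sb E4579 D4126))).symm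
theorem E4697 : n4128 = n2454 := (((D2454).symm.trans (sb E4579 D4128))).symm
theorem E4698 : n4101 = n2455 := (((D2455).symm.trans (sb E4580 D4101))).symm
theorem E4700 : n4103 = n2457 := (((D2457).symm.trans (sb E4580 D4103))).symm
theorem F15750 : act 1 n1195 = n1172 := (sb E4582 F3154)
theorem F15751 : act 0 n1196 = n975 := (sb E4583 F3156)
theorem E4703 : n4105 = n2461 := (((D2461).symm.trans (sb E4583 (iv F6226)))).symm
theorem F15752 : act 5 n1196 = n2420 := (sb E4583 (iv F3800))
theorem F15753 : act 6 n1196 = n1173 := (sb E4583 F3157)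
theorem F15754 : act 0 n1198 = n965 := (sb E4584 F3132)
theorem E4704 : n4104 = n2464 := (((D2464).symm.trans (sb E4584 D4104))).symm
theorem F15755 : act 6 n1198 = n1148 := (sb E4584 F3133)
theorem F15756 : act 2 n591 = n975 := (sb E4586 F3158)
theorem E4721 : n1469 = n724 := (((D724).symm.trans (sb E4626 D1469))).symm
theorem F15759 : act 1 n189 = n188 := (sb E4629 (iv D371))
theorem E4723 : n730 = n373 := (((D373).symm.trans (sb E4629 (iv F1319)))).symm
theorem E4728 : n5095 = n4920 := (((D4920).symm.trans (sb E4631 (iv F7753)))).symm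
theorem E4730 : n5110 = n4908 := ((((iv F7483)).symm.trans (sb E4632 (iv F7773)))).symm
theorem F15760 : act 5 n2366 = n1198 := (sb E4632 (iv D2465))
theorem F15761 : act 1 n2430 = n1194 := (sb E4638 (iv D2458))
theorem E4791 : n5978 = n5072 := (((D5072).symm.trans (sb E4689 (iv F15116)))).symm
theorem E4807 : n8587 = n5088 := (((D5088).symm.trans (sb E4695 D8587))).symm
theorem F15763 : act 1 n2454 = n2409 := (sb E4697 F6264)
theorem E4812 : n8540 = n5094 := (((D5094).symm.trans (sb E4698 D8540))).symm
theorem F15764 : act 1 n2457 = n2358 := (sb E4700 F6219)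
theorem F15765 : act 0 n2461 = n1967 := (sb E4703 F6225)
theorem E4816 : n8544 = n5103 := (((D5103).symm.trans (sb E4703 (iv F12751)))).symm
theorem F15766 : act 5 n2461 = n4910 := (sb E4703 (iv F7491))
theorem F15767 : act 6 n2461 = n2360 := (sb E4703 F6227)
theorem F15768 : act 0 n2464 = n1966 := (sb E4704 F6222)
theorem E4817 : n8543 = n5109 := (((D5109).symm.trans (sb E4704 D8543))).symm
theorem F15769 : act 3 n2464 = n1966 := (sb E4704 F6224)
theorem F15770 : act 6 n2464 = n2359 := (sb E4704 F6223)
theorem F15771 : act 6 n724 = n740 := (sb E4721 F2420)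
theorem F15772 : act 1 n373 = n370 := (sb E4723 (iv D730))
theorem F15773 : act 1 n4920 = n2456 := (sb E4728 (iv D5095))
theorem F15774 : act 5 n4908 = n2464 := (sb E4730 (iv D5110))
theorem F15781 : act 0 n5072 = n2894 := (sb E4791 (iv D5978))
theorem F15783 : act 1 n5088 = n4996 := (sb E4807 F12807)
theorem F15784 : act 1 n5094 = n4896 := (sb E4812 F12740)
theorem F15785 : act 0 n5103 = n4107 := (sb E4816 F12750)
theorem F15786 : act 6 n5103 = n4900 := (sb E4816 F12752)
theorem F15787 : act 3 n5109 = n4106 := (sb E4817 F12749)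
theorem E4857 : n5072 = n588 := (c23_4 D698 (iv F2313) D2894 (iv F15781) D1171 (iv F3777) F3776 (iv F5171) (iv D3346) (iv D1621) D1620 (iv F15206) (iv D1811) D1810 F2935 (iv F3416) (iv F4507) (iv D2884) (iv D1399) F1255)
theorem E4858 : n2894 = n1169 := (((D1169).symm.trans (sb E4857 F15781))).symm
theorem E4860 : n2446 = n1172 := (((D1172).symm.trans (sb E4857 (iv D5072)))).symm
theorem E4861 : n2402 = n1404 := ((D2402).symm.trans (sb E4858 (iv D2894)))
theorem E4862 : n2842 = n2397 := ((((iv F3774)).symm.trans (sb E4858 (iv F15011)))).symm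
theorem E4865 : n5977 = n2404 := (((D2404).symm.trans (sb E4858 (iv F9073)))).symm
theorem E4868 : n1195 = n1191 := (((iv F15750)).symm.trans (sb E4860 (iv D2446)))
theorem E4872 : n4800 = n1125 := ((((iv F14981)).symm.trans (sb E4861 (iv F7318)))).symm
theorem F15807 : act 1 n1404 = n1169 := (sb E4861 (iv D2402))
theorem E4874 : n4982 = n2891 := ((((iv F4517)).symm.trans (sb E4861 D4982))).symm
theorem E4875 : n4889 = n2782 := ((((iv F4358)).symm.trans (sb E4861 (iv F7461)))).symm
theorem E4882 : n4974 = n3344 := ((D4974).symm.trans (sb E4862 F15611))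
theorem E4883 : n4989 = n2893 := ((D4989).symm.trans (sb E4865 (iv D5977)))
theorem E4885 : n2450 = n600 := ((((iv D1191)).symm.trans (sb E4868 (iv F3852)))).symm
theorem F15808 : act 1 n1191 = n1172 := (sb E4868 F15750)
theorem E4886 : n2454 = n2447 := (((D2447).symm.trans (sb E4868 (iv F3857)))).symm
theorem E4887 : n2457 = n2448 := (((D2448).symm.trans (sb E4868 (iv F3862)))).symm
theorem E4889 : n2314 = n2307 := (((D2307).symm.trans (sb E4872 (iv D4800)))).symm
theorem F15809 : act 1 n2891 = n2403 := (sb E4874 F7601)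
theorem F15810 : act 1 n2782 = n2355 := (sb E4875 (iv D4889))
theorem F15816 : act 6 n3344 = n2397 := (sb E4882 (iv D4974))
theorem F15817 : act 1 n2893 = n2404 := (sb E4883 (iv D4989))
theorem E4893 : n5076 = n1192 := (((D1192).symm.trans (sb E4885 (iv F7726)))).symm
theorem E4894 : n5079 = n1193 := (((D1193).symm.trans (sb E4885 (iv F7733)))).symm
theorem E4895 : n2459 = n1194 := (((D1194).symm.trans (sb E4885 (iv F3865)))).symm
theorem F15819 : act 6 n600 = n1191 := (sb E4885 (iv D2450))
theorem F15820 : act 1 n2447 = n2409 := (sb E4886 F15763)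
theorem E4897 : n5088 = n5074 := (((D5074).symm.trans (sb E4886 (iv F7742)))).symm
theorem F15821 : act 1 n2448 = n2358 := (sb E4887 F15764)
theorem E4899 : n5094 = n5077 := (((D5077).symm.trans (sb E4887 (iv F7751)))).symm
theorem E4902 : n4787 = n1128 := ((D4787).symm.trans (sb E4889 (iv D2314)))
theorem E4903 : n4801 = n4788 := (((D4788).symm.trans (sb E4889 D4801))).symm
theorem E4904 : n4713 = n4706 := ((((iv F7172)).symm.trans (sb E4889 (iv F7187)))).symm
theorem F15824 : act 6 n1192 = n2447 := (sb E4893 (iv D5076))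
theorem E4907 : n5096 = n2456 := (((D2456).symm.trans (sb E4894 (iv F7756)))).symm
theorem F15825 : act 6 n1193 = n2448 := (sb E4894 (iv D5079))
theorem F15826 : act 6 n1194 = n1194 := (sb E4895 (iv D2459))
theorem F15828 : act 1 n5074 = n4996 := (sb E4897 F15783)
theorem F15829 : act 6 n5074 = n2452 := (sb E4897 (iv D5088))
theorem F15831 : act 1 n5077 = n4896 := (sb E4899 F15784)
theorem F15832 : act 6 n5077 = n2455 := (sb E4899 (iv D5094))
theorem F15835 : act 0 n1128 = n2307 := (sb E4902 (iv D4787))
theorem E4909 : n9716 = n2266 := ((((iv F3588)).symm.trans (sb E4902 (iv F14518)))).symm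
theorem F15836 : act 0 n4788 = n2315 := (sb E4903 F7319)
theorem E4910 : n9730 = n9717 := (((D9717).symm.trans (sb E4904 D9730))).symm
theorem E4911 : n9731 = n9718 := (((D9718).symm.trans (sb E4904 D9731))).symm
theorem F15840 : act 6 n2456 = n2456 := (sb E4907 (iv D5096))
theorem F15841 : act 0 n2266 = n4706 := (sb E4909 (iv D9716))
theorem F15842 : act 0 n9717 = n4714 := (sb E4910 F14542)
theorem F15844 : act 6 n9718 = n4715 := (sb E4911 F15662)
theorem F15845 : act 5 n6023 = n9187 := d24_10 (iv F15844) (iv D9718) (iv D4706) F15105 F2243 F1233 D706 (iv F2335) D2918 (iv F9144) (iv F14573) (iv D9747) (iv F14552) (iv D9737)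
theorem F15846 : act 0 n5690 = n6023 := d22_4 F15845 (iv D9187) (iv F15547) F15548
theorem E4912 : n6017 = n2369 := (c24_8 D9187 (iv F15845) (iv D6023) (iv D2914) D2913 F4550 D6022 F9141 (iv D2369) (iv D1153) (iv D578) (iv F1044) (iv F1822) D2131 D4442)
theorem E4914 : n2958 = n1182 := (((F3737).symm.trans (sb E4912 F9134))).symm
theorem E4915 : n6022 = n4920 := (((D4920).symm.trans (sb E4912 (iv F9141)))).symm
theorem E4916 : n4917 = n2911 := (((iv F7500)).symm.trans (sb E4912 (iv D6017)))
theorem E4920 : n6114 = n2424 := ((((iv F3803)).symm.trans (sb E4914 (iv F9251)))).symm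
theorem E4922 : n2427 = n1434 := (((iv F3806)).symm.trans (sb E4914 (iv D2958)))
theorem F15849 : act 6 n4920 = n2913 := (sb E4915 (iv D6022))
theorem E4923 : n6014 = n2368 := ((D6014).symm.trans (sb E4916 (iv D4917)))
theorem F15851 : act 6 n2911 = n2369 := (sb E4916 F7500)
theorem E4928 : n6123 = n5030 := (((D5030).symm.trans (sb E4920 (iv F9259)))).symm
theorem E4929 : n5026 = n2956 := (((iv F7646)).symm.trans (sb E4920 (iv D6114)))
theorem E4931 : n2955 = n1181 := ((D2955).symm.trans (sb E4922 (iv D2427)))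
theorem F15854 : act 6 n1434 = n1182 := (sb E4922 F3806)
theorem F15855 : act 1 n2368 = n2911 := (sb E4923 (iv D6014))
theorem F15860 : act 6 n5030 = n2961 := (sb E4928 (iv D6123))
theorem F15861 : act 6 n2956 = n2424 := (sb E4929 F7646)
theorem E4934 : n5939 = n2426 := ((((iv F3804)).symm.trans (sb E4931 (iv F9019)))).symm
theorem F15862 : act 1 n1181 = n1434 := (sb E4931 (iv D2955))
theorem E4938 : n5035 = n2876 := ((D5035).symm.trans (sb E4934 (iv D5939)))
theorem F15865 : act 1 n2876 = n2426 := (sb E4938 (iv D5035))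
theorem F15866 : act 1 n5023 = n5940 := d7_3 (iv D5940) F15865 (iv F7642)
theorem F15867 : act 1 n4916 = n5749 := d8_3 F8752 F15865 (iv F7497)
theorem F15868 : act 1 n5034 = n5942 := d10_5 (iv D5942) F15865 (iv D2426) D2425 D5034
theorem E4939 : n5034 = n4067 := ((c9_1 (iv F6174) F15868 F15643 F6811 (iv F14908) F15696)).symm
theorem E4940 : n8473 = n5942 := ((D8473).symm.trans (sb E4939 F15868))
theorem E4941 : n4144 = n2425 := (((iv F6288)).symm.trans (sb E4939 (iv D5034)))
theorem F15869 : act 1 n5942 = n4067 := (sb E4940 (iv D8473))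
theorem E4942 : n5031 = n4068 := ((D5031).symm.trans (sb E4941 F6286))
theorem E4943 : n8622 = n1180 := ((((iv D2425)).symm.trans (sb E4941 D8622))).symm
theorem E4944 : n5032 = n4019 := ((D5032).symm.trans (sb E4941 F6287))
theorem E4945 : n8616 = n5021 := ((((iv F7639)).symm.trans (sb E4941 (iv F12848)))).symm
theorem E4946 : n8558 = n4915 := ((((iv F7495)).symm.trans (sb E4941 (iv F12771)))).symm
theorem E4947 : n5033 = n1987 := ((D5033).symm.trans (sb E4941 (iv D4144)))
theorem F15870 : act 6 n2425 = n4067 := (sb E4941 F6288)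
theorem F15871 : act 0 n4068 = n2425 := (sb E4942 (iv D5031))
theorem E4948 : n8425 = n6163 := ((((iv F9308)).symm.trans (sb E4942 (iv F12564)))).symm
theorem E4949 : n8407 = n2331 := ((((iv F3684)).symm.trans (sb E4943 F12851))).symm
theorem E4950 : n8394 = n6102 := ((D8394).symm.trans (sb E4944 (iv F9244)))
theorem F15872 : act 2 n4019 = n2425 := (sb E4944 (iv D5032))
theorem F15873 : act 0 n5021 = n8471 := (sb E4945 F12847)
theorem F15875 : act 6 n5021 = n8469 := (sb E4945 F12849)
theorem F15876 : act 0 n4915 = n8333 := (sb E4946 F12769)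
theorem F15877 : act 2 n4915 = n8290 := (sb E4946 F12770)
theorem F15878 : act 5 n4915 = n4112 := (sb E4946 (iv D8558))
theorem F15879 : act 6 n4915 = n8332 := (sb E4946 F12772)
theorem F15880 : act 5 n1987 = n2425 := (sb E4947 (iv D5033))
theorem F15881 : act 0 n6163 = n4033 := (sb E4948 (iv D8425))
theorem E4951 : n4838 = n4024 := ((D4838).symm.trans (sb E4949 (iv D8407)))
theorem F15883 : act 1 n6102 = n4019 := (sb E4950 (iv D8394))
theorem F15884 : act 5 n6102 = n4020 := (sb E4950 F12523)
theorem F15885 : act 1 n4024 = n2331 := (sb E4951 (iv D4838))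
theorem E4952 : n9767 = n8295 := ((((iv F12332)).symm.trans (sb E4951 (iv F14607)))).symm
theorem F15886 : act 1 n8295 = n4730 := (sb E4952 (iv D9767))
theorem F15887 : act 1 n4834 = n8406 := d7_3 F12532 F15885 (iv F7366)
theorem F15888 : act 6 n5038 = n8432 := d10_4 F6134 F15885 (iv F3809) D5038 (iv D8432)
theorem F15889 : act 5 n5038 = n6115 := d24_1 (iv F15888) (iv D6115) (iv F4615) (iv D2965) D2964 F4613 D2969 F4621 D2983 F4636 F15471 F6126 D4035 D8432
theorem E4953 : n8396 = n6103 := (c13_2 F15884 D8396 (iv D6103) D6102)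
theorem F15890 : act 1 n6103 = n4027 := (sb E4953 F12525)
theorem F15891 : act 2 n6103 = n4020 := (sb E4953 (iv D8396))
theorem E4954 : n8496 = n6101 := (c23_19 D6103 F15891 (iv D4020) F3090 (iv F3085) F3084 D1920 (iv F15308) (iv F15111) (iv D1014) (iv D513) F529 D271 (iv F883) D901 D1817 (iv F15474) D4079 D8496 (iv D6101))
theorem F15897 : act 1 n6101 = n4079 := (sb E4954 (iv D8496))
theorem E4955 : n6104 = n6055 := ((c24_15 (iv D6104) D6103 F15890 F15195 (iv F15572) (iv D5869) (iv F4603) (iv D2954) F15622 F15561 (iv F4581) (iv D2934) D2935 F4582 D6055)).symm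
theorem F15899 : act 6 n6055 = n2952 := (sb E4955 (iv D6104))
theorem E4956 : n8474 = n2981 := (c1_4 D6163 F15881 F15569 D8474)
theorem E4957 : n6162 = n4069 := ((D6162).symm.trans (sb E4956 (iv D8474)))
theorem F15900 : act 0 n4069 = n2981 := (sb E4957 (iv D6162))
theorem F15905 : act 0 n6043 = n8334 := d3_3 F12405 F15900 (iv F9175)
theorem E4958 : n8393 = n5932 := ((c23_18 D4019 F15872 (iv D2425) (iv D1180) (iv F1933) (iv F2280) (iv D1373) (iv F2275) (iv D1368) (iv D680) D679 D1362 F14807 D2144 (iv F6811) (iv F15640) (iv D5949) (iv F9015) (iv D8393) (iv D4018))).symm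
theorem F15906 : act 1 n5932 = n4018 := (sb E4958 (iv D8393))
theorem E4961 : n8571 = n4761 := (c6_4 (iv F15642) F15869 (iv F6255) D8571 F14735 F7266)
theorem F15914 : act 1 n4761 = n4120 := (sb E4961 (iv D8571))
theorem F15915 : act 1 n8530 = n9685 := d8_3 F14459 F15914 (iv F12723)
theorem F15916 : act 5 n9685 = n9686 := d9_2 D8530 F15915 F14460 (iv F14891) F15616
theorem F15917 : act 2 n9687 = n9685 := d23_5 (iv F12402) (iv F12722) F15915 (iv D9685) D9687 (iv F15915) F12721 (iv D4097) (iv F3139) (iv D1969) (iv F1959) F15746 F1120 F602 F15725 D488 (iv F1688) D1969 D4111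
theorem F15918 : act 0 n9686 = n9687 := d1_3 F15917 (iv D9685) D9686
theorem F15937 : act 6 n5029 = n6111 := d14_2 F15861 D5029 (iv D6111)
theorem F15938 : act 0 n6120 = n5029 := d5_3 F15937 F9246 D6120
theorem F15940 : act 5 n9276 = n6124 := d24_10 (iv F15860) (iv D5030) (iv D2424) (iv D1179) (iv D592) (iv F1057) (iv F1835) D2159 D4488 D9276 (iv D6124) (iv D2962) D2961 F4608
theorem F15941 : act 0 n5826 = n6124 := d22_4 (iv F15940) (iv D9276) (iv F15544) F15545
theorem F15942 : act 1 n6015 = n4913 := d7_3 F7493 F15855 D6015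
theorem F15943 : act 6 n4914 = n6015 := d10_0 F15942 (iv D4913) (iv D2365) D2366 D4914
theorem F15944 : act 0 n6021 = n4914 := d5_3 F15943 F9130 D6021
theorem F15945 : act 1 n5766 = n4891 := d24_8 F15849 (iv D2913) (iv D1413) D1415 F2335 D1419 (iv F4355) D5766 (iv F7475) (iv D4898) (iv F15821) (iv F15825) D2456 (iv F15773)
theorem F15948 : act 6 n5093 = n5093 := d17_2 F15840 (iv F7750) F7750
theorem F15952 : act 1 n4892 = n6896 := d0_2 F15821 (iv F7465) F15484 (iv D3972) F3064 F1654 (iv F15741) (iv F2012) (iv F3848)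
theorem F15953 : act 2 n6899 = n4892 := d6_0 F15952 (iv D6896) (iv D3321) D3322 D6899
theorem F15954 : act 6 n6896 = n5737 := d10_2 D4892 F15952 (iv D5737) (iv F4359) F15810
theorem F15956 : act 2 n5737 = n6898 := d14_1 F15954 (iv D6898) D6896
theorem F15957 : act 5 n7786 = n5737 := d22_2 F15299 (iv F11565) (iv F15954) F15484
theorem F15958 : act 1 n5751 = n7786 := d9_5 F15957 (iv D5737) F4330 D2774 D5751
theorem F15960 : act 2 n7784 = n5751 := d6_0 F15958 (iv D7786) (iv D3727) (iv F5718) D7784
theorem F15961 : act 6 n9156 = n5751 := d10_0 F15958 F11565 F5723 (iv F6753) (iv F13698)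
theorem F15962 : act 5 n5745 = n7784 := d13_0 F15960 (iv D5751) (iv F8745)
theorem F15964 : act 6 n4883 = n6899 := d14_0 F15953 (iv D4892) (iv F7444)
theorem F15966 : act 1 n4988 = n6942 := d0_2 F15820 (iv F7606) F15483 F6154 F3103 F1671 (iv F15738) (iv F2011) (iv F3847)
theorem F15967 : act 6 n6942 = n5913 := d10_2 D4988 F15966 F8989 (iv F4518) F15809
theorem F15969 : act 5 n7836 = n5913 := d22_2 F15324 (iv F11662) (iv F15967) F15483
theorem F15970 : act 1 n5945 = n7836 := d9_5 F15969 F8989 F4485 (iv F4499) D5945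
theorem F15972 : act 6 n9217 = n5945 := d10_0 F15970 F11662 F5756 (iv F6814) (iv F13798)
theorem F15981 : act 1 n8609 = n5018 := d8_3 F7636 F15749 (iv F12838)
theorem F15982 : act 5 n8465 = n4830 := d9_4 (iv D2327) F15744 D4063 D8465 (iv D4830)
theorem F15994 : act 2 n8009 = n8007 := d13_3 F11952 F15711 D8009
theorem E4966 : n4195 = n1566 := ((c25_24 D1 D2 D3 D5 F26 (iv F29) (iv D7) F21 D7 D15 F49 D32 (iv F126) (iv D58) (iv D26) (iv F67) (iv D23) (iv F15658) D43 D96 D202 D400 D783 D1566 F15694 F6361 (iv D4195) (iv D2010) (iv D990) (iv D502) F15403 (iv D257) D258 F526 (iv D258) (iv F467) F15094 D443 F863 (iv D228) F231 (iv D57) D58 F126 (iv D32) (iv D15) F29 (iv D5) (iv D3) (iv D2) F9 F8 (iv D1) F4 F3 F4 F3 F2 F4 F3 F4 F3 F2 F4 F3 F4 F3 F2 F4 F3 F4 F3 F2 F4 F3 F4 F3 F2)).symm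
theorem E4967 : n8727 = n783 := ((((iv D1566)).symm.trans (sb E4966 D8727))).symm
theorem E4968 : n3223 = n2010 := ((D3223).symm.trans (sb E4966 (iv D4195)))
theorem E4970 : n4198 = n1567 := (((D1567).symm.trans (sb E4967 F13023))).symm
theorem F16000 : act 4 n2010 = n1566 := (sb E4968 (iv D3223))
theorem E4972 : n6685 = n4197 := (((D4197).symm.trans (sb E4968 D6685))).symm
theorem E4974 : n3226 = n2011 := ((D3226).symm.trans (sb E4970 (iv D4198)))
theorem F16001 : act 4 n4197 = n3225 := (sb E4972 F10052)
theorem F16002 : act 3 n2011 = n1567 := (sb E4974 (iv D3226))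
theorem E4977 : n6692 = n4200 := (((D4200).symm.trans (sb E4974 D6692))).symm
theorem F16003 : act 3 n4200 = n3228 := (sb E4977 F10062)
theorem F16005 : act 3 n6708 = n8749 := d21_5 (iv F6372) F16003 F5009 (iv F5019) (iv F10078) F13061 F6385 F3219
theorem F16009 : act 4 n8773 = n6743 := d15_4 (iv F10079) F16005 F13062 (iv F13102) F10132
theorem E4978 : n8747 = n3233 := (c17_4 D6708 F16005 (iv D8749) D8747)
theorem E4979 : n6706 = n4204 := ((D6706).symm.trans (sb E4978 (iv D8747)))
theorem F16010 : act 3 n4204 = n3233 := (sb E4979 (iv D6706))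
theorem F16011 : act 3 n6705 = n8746 := d7_2 F16010 D6705 (iv D8746)
theorem E4980 : n6741 = n4218 := (c15_5 (iv F6380) F16010 F5016 D3249 D6741 (iv D4218))
theorem E4981 : n8771 = n3249 := ((D8771).symm.trans (sb E4980 (iv D6741)))
theorem F16012 : act 4 n3249 = n4218 := (sb E4981 (iv D8771))
theorem F16013 : act 4 n8768 = n6738 := d8_2 F16012 (iv F13095) F10128
theorem E4982 : n7596 = n7595 := ((c25_21 D262 D514 D1016 D2069 (iv F6453) (iv F13144) (iv D8799) (iv F13054) (iv F16011) F10074 (iv D3280) D3281 F15687 (iv D1843) (iv D911) (iv F1574) (iv D880) (iv F1560) D1757 D3640 D7595 (iv D7596) (iv D3640) (iv D1757) F1560 F870 (iv D233) (iv D111) (iv D49) (iv D23) (iv F15658) F63 D43 D96 D203 F15395 (iv F782) (iv D400) F411 D400 D783 F15602 D1566 F15650 (iv D1566) (iv D783) F782 (iv D203) (iv D96) (iv D43) F15658 (iv D11) F28 D12 D26 D58 F126 F79 (iv D32) (iv D15) (iv D7) F21 (iv D4) D5 F26 (iv D5) (iv D3) F13 (iv D2) F9 D2 D3 D4 D7 D15 D32 (iv F126) (iv F264))).symm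
theorem F16014 : act 0 n7595 = n3673 := (sb E4982 F11292)
theorem F16015 : act 2 n7595 = n7595 := (sb E4982 (tr F11293 E4982))
theorem F16016 : act 3 n7595 = n3640 := (sb E4982 (iv D7596))
theorem E4983 : n9076 = n3651 := (((F11291).symm.trans (sb E4982 (iv F13592)))).symm
theorem E4984 : n7664 = n7619 := (((D7619).symm.trans (sb E4983 F13590))).symm
theorem E4985 : n4386 = n4385 := ((((iv F6695)).symm.trans (sb E4983 (iv D9076)))).symm
theorem F16017 : act 2 n7619 = n7619 := (sb E4984 (tr F11390 E4984))
theorem E4986 : n9072 = n3708 := (((iv F13586)).symm.trans (sb E4984 F11391))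
theorem F16018 : act 4 n7619 = n3673 := (sb E4984 (iv D7664))
theorem E4987 : n9073 = n2104 := ((((iv D4385)).symm.trans (sb E4985 (iv F13587)))).symm
theorem E4988 : n9050 = n2105 := ((F13559).symm.trans (sb E4985 F6697))
theorem E4989 : n9077 = n9074 := (((D9074).symm.trans (sb E4985 D9077))).symm
theorem E4990 : n9078 = n9075 := (((D9075).symm.trans (sb E4985 D9078))).symm
theorem F16019 : act 0 n3708 = n4385 := (sb E4986 (iv D9072))
theorem F16020 : act 3 n3708 = n7619 := (sb E4986 F13586)
theorem F16021 : act 4 n2104 = n4385 := (sb E4987 (iv D9073))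
theorem E4991 : n4378 = n4375 := (((iv F6685)).symm.trans (sb E4988 F13558))
theorem F16022 : act 2 n2105 = n4385 := (sb E4988 (iv F13559))
theorem E4992 : n4374 = n4309 := ((((iv F6566)).symm.trans (sb E4988 (iv D9050)))).symm
theorem F16023 : act 0 n9074 = n7745 := (sb E4989 F13593)
theorem F16024 : act 2 n9074 = n4389 := (sb E4989 F13594)
theorem F16025 : act 4 n9074 = n4387 := (sb E4989 F13595)
theorem F16026 : act 0 n9075 = n7746 := (sb E4990 F13596)
theorem F16027 : act 2 n9075 = n4390 := (sb E4990 F13597)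
theorem F16028 : act 4 n9075 = n4388 := (sb E4990 F13598)
theorem E4993 : n9053 = n2101 := (((F6679).symm.trans (sb E4991 (iv F13560)))).symm
theorem F16029 : act 1 n4375 = n2105 := (sb E4991 F6685)
theorem E4994 : n8921 = n2100 := ((((iv D4375)).symm.trans (sb E4991 (iv F13350)))).symm
theorem E4995 : n9058 = n9054 := (((D9054).symm.trans (sb E4991 D9058))).symm
theorem E4996 : n9059 = n9055 := (((D9055).symm.trans (sb E4991 D9059))).symm
theorem E4998 : n9049 = n8802 := ((((iv F13148)).symm.trans (sb E4992 D9049))).symm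
theorem F16030 : act 4 n2101 = n4375 := (sb E4993 (iv D9053))
theorem F16031 : act 1 n2100 = n4309 := (sb E4994 F13349)
theorem E5002 : n4306 = n4305 := ((((iv F6560)).symm.trans (sb E4994 (iv D8921)))).symm
theorem F16032 : act 4 n9054 = n4379 := (sb E4995 F13568)
theorem F16033 : act 4 n9055 = n4380 := (sb E4996 F13569)
theorem F16034 : act 1 n8802 = n4621 := (sb E4998 F13557)
theorem E5003 : n8917 = n2068 := ((((iv D4305)).symm.trans (sb E5002 (iv F13342)))).symm
theorem F16035 : act 1 n4305 = n2069 := (sb E5002 F6561)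
theorem E5005 : n8922 = n8918 := (((D8918).symm.trans (sb E5002 D8922))).symm
theorem E5006 : n8923 = n8919 := (((D8919).symm.trans (sb E5002 D8923))).symm
theorem F16036 : act 3 n2068 = n4305 := (sb E5003 (iv D8917))
theorem F16037 : act 3 n8918 = n4307 := (sb E5005 F13351)
theorem F16038 : act 3 n8919 = n4308 := (sb E5006 F13352)
theorem F16039 : act 3 n8927 = n8925 := d16_3 F13357 F16038 D8927
theorem F16040 : act 3 n9312 = n9312 := d21_5 (iv F13347) F16038 F6564 (iv F6869) (iv F13906) F13906 F6869 (iv F6863)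
theorem E5007 : n9310 = n4507 := (c17_4 D9312 F16040 (iv D9312) D9310)
theorem F16041 : act 3 n4507 = n4507 := (sb E5007 (iv D9310))
theorem F16042 : act 3 n9305 = n9305 := d2_2 F16041 (iv F13893) F13893
theorem F16043 : act 4 n5150 = n5150 := d15_4 (iv F6866) F16041 F6866 D5150 (iv D5150)
theorem F16044 : act 3 n9311 = n9311 := d16_3 (iv D9311) F16041 D9311
theorem F16045 : act 4 n9061 = n9063 := d15_4 (iv F13362) F16039 F13356 (iv F13572) F13578
theorem E5008 : n9301 = n8799 := ((c6_4 (iv F6559) F16035 (iv F6453) (iv F13144) (iv D9301) (iv D4503))).symm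
theorem F16046 : act 2 n8799 = n4503 := (sb E5008 (iv D9301))
theorem F16047 : act 4 n8799 = n4621 := (sb E5008 F13888)
theorem E5009 : n9544 = n8848 := (c15_2 F16047 D9544 (iv D8848) (iv D4262) (iv F6451) D8799)
theorem F16048 : act 3 n8848 = n4621 := (sb E5009 (iv D9544))
theorem E5010 : n9541 = n8843 := (c0_2 F16034 (iv F14262) (iv D8843) (iv D4261) (iv D2044) F1766 D1031 D2100 F16031 (iv F13147))
theorem F16049 : act 0 n8843 = n4621 := (sb E5010 F14262)
theorem F16050 : act 2 n8843 = n4620 := (sb E5010 (iv D9541))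
theorem F16051 : act 1 n5493 = n8767 := d6_3 F16050 F7041 D5493 F13094 D8843
theorem F16061 : act 6 n7605 = n7605 := d10_4 F5667 F15660 (iv F5667) (iv F11309) F11309
theorem F16062 : act 2 n8155 = n8155 := d6_4 (iv D3895) F15659 D3895 D8155 (iv D8155)
theorem F16075 : act 6 n8426 = n6156 := d17_2 F15637 D8426 F9299
theorem F16076 : act 6 n8304 = n6043 := d19_2 F15637 (iv F12343) F9175
theorem F16077 : act 1 n5765 = n8293 := d10_3 F16076 (iv D6043) (iv F8781) F12329 D8304
theorem F16078 : act 1 n5972 = n8403 := d10_3 F16075 (iv D6156) (iv F9067) F12529 (iv F12565)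
theorem F16079 : act 1 n8234 = n8257 := d24_8 D1579 F15636 D3254 F5048 D3314 (iv F5999) D8243 F12251 F15465 F6008 (iv D1892) F1647 (iv D800) (iv F1428)
theorem F16080 : act 0 n8251 = n8228 := d0_5 F16079 (iv D8257) (iv D3940) (iv F6003) D8251 (iv D8228) F5989 D3930 D8234
theorem F16081 : act 5 n8228 = n8886 := d4_2 (iv F15286) F16080 F13287
theorem F16082 : act 1 n8051 = n8074 := d24_8 D1572 F15635 D3238 F5026 D3291 (iv F5906) D8060 F12048 F15467 F5917 (iv D1857) F1632 (iv D795) (iv F1425)
theorem F16083 : act 0 n8068 = n8045 := d0_5 F16082 (iv D8074) (iv D3859) (iv F5911) D8068 (iv D8045) F5894 D3849 D8051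
theorem F16084 : act 5 n8045 = n8907 := d4_2 (iv F15304) F16083 F13326
theorem F16087 : act 1 n8081 = n8081 := d7_3 (iv D8081) F15632 D8081
theorem F16089 : act 1 n8058 = n8058 := d7_3 (iv D8058) F15629 D8058
theorem F16090 : act 6 n5696 = n5990 := d22_1 D5696 F9089 (iv F15627) (iv D5694)
theorem F16091 : act 0 n5990 = n9186 := d22_4 F13751 (iv D5697) D5696 F16090
theorem F16092 : act 6 n5839 = n6062 := d22_1 D5839 F9198 (iv F15624) F8882
theorem F16093 : act 0 n6062 = n9278 := d22_4 F13862 (iv D5840) D5839 F16092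
theorem F16097 : act 1 n8025 = n8034 := d7_3 F12005 F15613 (iv F11985)
theorem F16103 : act 6 n9733 = n9733 := d14_2 F15608 D9733 (iv D9733)
theorem F16107 : act 2 n7620 = n7620 := d13_3 (iv D7620) F15605 D7620
theorem F16108 : act 2 n7621 = n7621 := d14_3 (iv D7621) F15605 D7621
theorem F16109 : act 1 n6739 = n6739 := d9_3 F15595 D3248 D6739 (iv D6739) (iv D3248)
theorem F16110 : act 2 n6860 = n6860 := d6_4 (iv F10129) F16109 F10129 D6860 (iv D6860)
theorem F16111 : act 2 n6864 = n6864 := d1_2 F15592 D6864 (iv D6864)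
theorem F16112 : act 2 n6809 = n6809 := d12_3 F10237 F15592 (iv F10237)
theorem F16113 : act 2 n6866 = n6866 := d14_3 (iv D6866) F15592 D6866
theorem F16124 : act 5 n5930 = n7830 := d16_2 F15587 D5930 F11653
theorem F16131 : act 2 n8334 = n8304 := d12_3 F12343 F15569 (iv F12405)
theorem F16132 : act 2 n8475 = n8427 := d13_3 (iv D8427) F15569 D8475
theorem F16133 : act 0 n7860 = n7860 := d23_3 D8427 (iv F16132) F12647 (iv D7860) (iv F11686) (iv D7853) F15276 (iv F15362) (iv D3750) (iv D1808) (iv F1664) (iv D947) (iv F1662) D1924 D4018 (iv F6182) F6181 (iv F9308) F15881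
theorem E5011 : n7858 = n3762 := (c4_4 D7860 F16133 (iv D7860) D7858)
theorem F16134 : act 0 n3762 = n3762 := (sb E5011 (iv D7858))
theorem F16136 : act 0 n7859 = n7859 := d2_3 (iv D7859) F16134 D7859
theorem F16137 : act 0 n7798 = n7798 := d3_3 F11586 F16134 (iv F11586)
theorem F16148 : act 2 n8126 = n8164 := d6_4 F5961 F15553 D3882 D8126 (iv D8164)
theorem F16150 : act 6 n7628 = n7628 := d14_2 F15536 D7628 (iv D7628)
theorem F16151 : act 6 n7600 = n7600 := d19_2 F15536 (iv F11303) F11303
theorem F16158 : act 6 n4804 = n4804 := d14_2 F15510 D4804 (iv D4804)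
theorem F16159 : act 5 n7599 = n7599 := d9_4 (iv D3641) F15504 D3641 D7599 (iv D7599)
theorem F16160 : act 0 n8018 = n8018 := d0_5 F15485 F2626 D1846 D3836 D8018 (iv D8018) (iv D3836) (iv D1846) (iv F2626)
theorem F16169 : act 2 n9261 = n9261 := d6_4 (iv D4481) F15435 D4481 D9261 (iv D9261)
theorem F16171 : act 0 n9261 = n9261 := d21_8 F16169 F13841 F13531 (iv F13841) F16169 F13841 F13531 (iv F13841)
theorem F16172 : act 0 n9029 = n9029 := d21_8 F13531 (iv F13841) F16169 F13841 F13531 (iv F13841) F16169 F13841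
theorem F16187 : act 6 n9194 = n9194 := d14_2 F15411 D9194 (iv D9194)
theorem F16188 : act 5 n7625 = n7625 := d13_2 F15410 D7625 (iv D7625)
theorem F16189 : act 6 n9143 = n9143 := d5_2 F15409 (iv F13676) F13676
theorem F16190 : act 6 n9144 = n9144 := d17_2 F15409 D9144 (iv D9144)
theorem F16191 : act 6 n8956 = n8956 := d19_2 F15409 (iv F13416) F13416
theorem F16194 : act 1 n8769 = n8769 := d9_3 F15397 D4217 D8769 (iv D8769) (iv D4217)
theorem F16195 : act 2 n8851 = n8851 := d6_4 (iv F13096) F16194 F13096 D8851 (iv D8851)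
theorem F16199 : act 1 n8955 = n5210 := d8_3 F7936 F15390 (iv F13415)
theorem F16201 : act 5 n5591 = n5591 := d18_2 F15387 (iv F8471) F8471
theorem F16202 : act 0 n5591 = n5591 := d22_4 F16201 (iv D5591) F4206 D5591
theorem F16203 : act 2 n5591 = n5591 := d12_3 F8471 F15386 (iv F8471)
theorem F16204 : act 0 n5202 = n5202 := d2_3 F7919 F15383 (iv F7919)
theorem F16209 : act 0 n8222 = n8222 := d1_3 (iv D8222) F15372 D8222
theorem F16212 : act 0 n7625 = n7625 := d1_3 (iv D7625) F15356 D7625
theorem F16213 : act 0 n7599 = n7599 := d3_3 F11301 F15356 (iv F11301)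
theorem F16214 : act 6 n8079 = n8079 := d5_2 F15353 (iv F12074) F12074
theorem F16215 : act 6 n8081 = n8081 := d17_2 F15353 D8081 (iv D8081)
theorem F16221 : act 6 n8035 = n8035 := d17_2 F15350 (iv F12008) F12008
theorem F16222 : act 6 n8036 = n8036 := d14_2 F15348 D8036 (iv D8036)
theorem F16223 : act 6 n8262 = n8262 := d5_2 F15347 (iv F12270) F12270
theorem F16224 : act 6 n8264 = n8264 := d17_2 F15347 D8264 (iv D8264)
theorem F16226 : act 1 n5207 = n5207 := d8_3 F7929 F15342 (iv F7929)
theorem F16227 : act 6 n8955 = n8955 := d10_4 F7937 F16226 (iv F7937) (iv F16199) F16199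
theorem F16228 : act 6 n5208 = n8949 := d24_6 (iv F3955) D5207 F16226 (iv F7937) (iv D5210) D5208 (iv D8949) (iv D4319) (iv D2073) (iv D1017) F982 D538 (iv F1147) D1222
theorem F16229 : act 5 n8222 = n8222 := d13_2 F15339 D8222 (iv D8222)
theorem F16230 : act 5 n8018 = n8018 := d18_2 F15339 (iv F11969) F11969
theorem F16233 : act 6 n8988 = n8988 := d5_2 F15330 (iv F13479) F13479
theorem F16234 : act 6 n8989 = n8989 := d17_2 F15330 D8989 (iv D8989)
theorem F16245 : act 6 n5739 = n9720 := d14_2 F15261 D5739 (iv D9720)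
theorem F16248 : act 2 n8859 = n8859 := d1_2 F15249 D8859 (iv D8859)
theorem F16249 : act 2 n8805 = n8805 := d12_3 F13156 F15249 (iv F13156)
theorem F16250 : act 2 n8861 = n8861 := d14_3 (iv D8861) F15249 D8861
theorem E5013 : n5311 = n5310 := ((c23_9 (iv F15233) (iv D4549) (iv D2189) (iv D1072) D1074 (iv F3484) D4559 D9428 F14126 (iv D5311) (iv D2554) (iv F4025) (iv D2549) (iv D1237) D1236 D2543 (iv F14864) (iv F8149) (iv D5328) (iv F8139))).symm
theorem E5014 : n2630 = n2629 := (((F8119).symm.trans (sb E5013 F8121))).symm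
theorem E5019 : n4615 = n2604 := (((iv F7036)).symm.trans (sb E5014 F4138))
theorem E5024 : n5459 = n5408 := (((D5408).symm.trans (sb E5019 (iv F8329)))).symm
theorem F16267 : act 5 n5408 = n2631 := (sb E5024 (iv D5459))
theorem E5025 : n5435 = n2610 := (c24_8 D5408 F16267 (iv F8315) (iv D5446) (iv F8305) (iv D5439) D5440 F8306 (iv D2610) D2613 F15039 F4084 F2129 D1263 D2604)
theorem E5027 : n5440 = n5418 := (((D5418).symm.trans (sb E5025 (iv F8306)))).symm
theorem E5028 : n5419 = n2617 := ((D5419).symm.trans (sb E5025 (iv D5435)))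
theorem F16270 : act 6 n5418 = n2619 := (sb E5027 (iv D5440))
theorem F16271 : act 2 n2617 = n2620 := (sb E5028 F8276)
theorem F16272 : act 6 n2617 = n2610 := (sb E5028 (iv D5419))
theorem F16274 : act 6 n5417 = n5433 := d17_2 F16272 D5417 (iv D5433)
theorem F16275 : act 6 n5286 = n5293 := d19_2 F16272 (iv F8079) F8091
theorem F16277 : act 2 n5293 = n5296 := d14_1 F16275 (iv D5296) (iv F8078)
theorem F16278 : act 0 n5438 = n5417 := d5_3 F16274 F8298 D5438
theorem F16285 : act 2 n5441 = n5434 := d13_3 (iv D5434) F16271 D5441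
theorem F16286 : act 1 n5595 = n5595 := d9_3 F15222 D2694 D5595 (iv D5595) (iv D2694)
theorem F16287 : act 1 n5533 = n5533 := d6_3 F15220 (iv F4175) D5533 (iv D5533) F4175
theorem F16296 : act 6 n5829 = n9237 := d19_2 F15158 D5829 F13817
theorem F16298 : act 6 n5601 = n9128 := d14_2 F15146 D5601 F13653
theorem F16302 : act 6 n5270 = n8973 := d14_2 F15128 D5270 F13448
theorem F16304 : act 2 n5399 = n9041 := d6_4 (iv D4370) F15122 (iv F4096) D5399 (iv D9041)
theorem F16310 : act 1 n8276 = n8276 := d8_3 (iv D8276) F15060 D8276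
theorem F16311 : act 0 n5051 = n5051 := d0_5 F16310 F12298 F6026 (iv F3831) (iv F7683) F7683 F3831 (iv F6026) (iv F12298)
theorem F16312 : act 6 n8348 = n8348 := d17_2 F15055 D8348 (iv D8348)
theorem F16313 : act 0 n5054 = n5054 := d2_3 F7687 F15054 (iv F7687)
theorem F16314 : act 6 n8351 = n8351 := d14_2 F15053 D8351 (iv D8351)
theorem F16315 : act 6 n8352 = n8352 := d19_2 F15053 D8352 (iv D8352)
theorem F16316 : act 5 n5053 = n5053 := d13_2 F15052 D5053 (iv D5053)
theorem F16317 : act 5 n5051 = n5051 := d18_2 F15052 (iv F7684) F7684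
theorem F16318 : act 0 n5053 = n5053 := d1_3 (iv D5053) F15051 D5053
theorem F16322 : act 5 n5374 = n5423 := d16_2 F15039 D5374 F8278
theorem F16325 : act 5 n8046 = n8019 := d13_2 F15037 D8046 (iv D8019)
theorem F16326 : act 0 n7672 = n8046 := d4_3 F16325 F11970 (iv F11409)
theorem F16327 : act 4 n7760 = n8046 := d18_3 F16325 F11971 (iv F11526)
theorem F16329 : act 5 n9551 = n9552 := d23_12 D2046 F3263 F14973 F1767 (iv D522) D521 D1031 D2100 D4376 F6682 D4624 D9551 (iv D9552) (iv D4624) F3523 (iv D1088) (iv F1801) (iv D1031) (iv F1766)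
theorem F16330 : act 0 n9552 = n9547 := d4_1 F16329 F14270 D9551
theorem F16331 : act 2 n9547 = n9551 := d13_3 F16329 (iv D9552) (iv F14270)
theorem F16332 : act 5 n7779 = n7779 := d9_4 F5715 F14942 (iv F5715) D7779 (iv D7779)
theorem F16333 : act 2 n7779 = n7779 := d23_1 F16332 (iv D7779) F5713 F2919 (iv D934) (iv D471) (iv F793) (iv D408) F414 F205 F204 D115 (iv F477) D471 D933 (iv F2916) D3724 D7779 F11551
theorem F16335 : act 5 n9391 = n9348 := d4_2 (iv F13391) F14914 F13978
theorem F16343 : act 5 n7821 = n7821 := d16_2 F14828 D7821 (iv D7821)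
theorem F16344 : act 2 n7821 = n7821 := d23_1 F16343 F11637 F5744 F2932 F14704 F2931 (iv F3402) F3404 (iv F14678) F3403 F3402 F1829 (iv F14684) (iv F2931) (iv F5744) F5745 F14727 (iv F11637) F11636
theorem F16346 : act 2 n4861 = n4861 := d6_4 (iv D2342) F14822 D2342 D4861 (iv D4861)
theorem F16348 : act 1 n9389 = n8968 := d8_3 F13438 F14813 (iv F14055)
theorem F16351 : act 4 n9116 = n9390 := d8_2 F14811 D9116 (iv D9390)
theorem F16355 : act 2 n9610 = n9610 := d1_2 F14790 D9610 (iv D9610)
theorem F16356 : act 2 n9347 = n9347 := d12_3 F13977 F14790 (iv F13977)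
theorem F16357 : act 2 n9612 = n9612 := d13_3 (iv D9612) F14790 D9612
theorem F16358 : act 2 n9613 = n9613 := d14_3 (iv D9613) F14790 D9613
theorem F16360 : act 2 n4753 = n4753 := d23_13 (iv F2003) F2002 F14738 F1969 (iv F1696) F1695 (iv F1920) (iv F3624) (iv F6802) F14685 (iv F7250) F14681 F7251 F7250 F3624 (iv F3406) F14694 F1920 (iv F1969)
theorem F16365 : act 0 n9676 = n9676 := d1_3 (iv D9676) F14695 D9676
theorem F16366 : act 1 n4775 = n9212 := d6_3 F14692 D2298 D4775 (iv D9212) (iv D4458)
def n9813 : Q := act 6 n4753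
theorem D9813 : act 6 n4753 = n9813 := rfl
def n9814 : Q := act 1 n4754
theorem D9814 : act 1 n4754 = n9814 := rfl
theorem F16373 : act 6 n9814 = n4760 := d10_2 D4754 D9814 (iv D4760) (iv D2290) (iv F3620)
def n9815 : Q := act 0 n4755
theorem D9815 : act 0 n4755 = n9815 := rfl
theorem F16374 : act 6 n9815 = n4761 := d5_2 (iv F7253) D9815 (iv D4761)
def n9818 : Q := act 0 n4760
theorem D9818 : act 0 n4760 = n9818 := rfl
theorem F16379 : act 1 n9818 = n8566 := d0_2 D4760 D9818 F12785 F6252 (iv F12649) F14947 (iv D4774) (iv D2298) (iv F3625)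
theorem F16380 : act 3 n9818 = n4761 := d2_2 (iv F7264) D9818 (iv D4761)
def n9820 : Q := act 5 n4760
theorem D9820 : act 5 n4760 = n9820 := rfl
theorem F16381 : act 1 n9820 = n9213 := d9_1 D9820 (iv D9213) (iv D4458) (iv F3627) D4760
theorem F16382 : act 3 n9820 = n4763 := d16_1 D9820 (iv D4763) (iv F7264)
def n9821 : Q := act 3 n4762
theorem D9821 : act 3 n4762 = n9821 := rfl
theorem F16383 : act 0 n9821 = n9820 := d2_1 D9821 F16382 (iv F14737)
theorem F16384 : act 1 n9821 = n4765 := d7_1 D9821 (iv D4765) (iv F7265)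
theorem F16385 : act 5 n9821 = n9818 := d16_2 F14736 D9821 F16380
def n9822 : Q := act 6 n4763
theorem D9822 : act 6 n4763 = n9822 := rfl
theorem F16387 : act 1 n9822 = n4969 := d10_1 D9822 (iv D4969) D4968 F7584 (iv F7266)
def n9825 : Q := act 0 n4772
theorem D9825 : act 0 n4772 = n9825 := rfl
def n9826 : Q := act 2 n4772
theorem D9826 : act 2 n4772 = n9826 := rfl
theorem F16394 : act 4 n9826 = n4775 := d12_2 (iv F7279) D9826 (iv D4775)
def n9827 : Q := act 5 n4772
theorem D9827 : act 5 n4772 = n9827 := rfl
theorem F16396 : act 4 n9827 = n4776 := d18_1 D9827 (iv D4776) (iv F7279)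
def n9829 : Q := act 2 n4774
theorem D9829 : act 2 n4774 = n9829 := rfl
theorem F16399 : act 0 n9829 = n4775 := d1_1 D9829 (iv D4775) D4774
theorem F16400 : act 6 n9829 = n4955 := d14_2 (iv F7285) D9829 (iv D4955)
def n9830 : Q := act 3 n4775
theorem D9830 : act 3 n4775 = n9830 := rfl
theorem F16401 : act 6 n9830 = n4957 := d17_2 (iv F7286) D9830 (iv D4957)
def n9831 : Q := act 5 n4775
theorem D9831 : act 5 n4775 = n9831 := rfl
theorem F16402 : act 2 n9831 = n4776 := d13_1 D9831 (iv D4776) D4775
def n9841 : Q := act 2 n4788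
theorem D9841 : act 2 n4788 = n9841 := rfl
theorem F16422 : act 0 n9841 = n4804 := d1_1 D9841 (iv D4804) (iv F15836)
def n9843 : Q := act 5 n4788
theorem D9843 : act 5 n4788 = n9843 := rfl
theorem F16427 : act 0 n9843 = n4806 := d4_1 D9843 (iv D4806) (iv F15836)
theorem F16429 : act 6 n9843 = n4806 := d22_1 D9843 (iv D4806) F15510 (iv F15836)
def n9845 : Q := act 3 n4791
theorem D9845 : act 3 n4791 = n9845 := rfl
theorem F16433 : act 6 n9845 = n5919 := d17_2 (iv F15268) D9845 (iv D5919)
def n9846 : Q := act 4 n4791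
theorem D9846 : act 4 n4791 = n9846 := rfl
theorem F16434 : act 2 n9846 = n4792 := d12_1 D9846 (iv D4792) D4791
theorem F16435 : act 6 n9846 = n5920 := d19_2 (iv F15268) D9846 (iv D5920)
def n9847 : Q := act 1 n4804
theorem D9847 : act 1 n4804 = n9847 := rfl
theorem F16436 : act 2 n9847 = n4811 := d6_2 D4804 D9847 (iv D4811) (iv D2318) (iv F3664)
theorem F16437 : act 3 n9524 = n9847 := d21_1 (iv F14243) F16436 F7329 F7027 (iv D2618) (iv F4113) D5417 (iv F16278)
theorem F16438 : act 6 n9847 = n4811 := d17_2 D9524 F16437 F7329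
theorem E5030 : n9261 = n4804 := (c10_4 F16438 (iv D4811) (iv F6832) D9261 F16158 D9847)
theorem E5031 : n9841 = n4804 := (((iv F16422)).symm.trans (sb E5030 (tr F16171 E5030)))
theorem E5032 : n9847 = n4481 := ((D9847).symm.trans (sb E5030 (iv D9261)))
theorem E5033 : n4804 = n2315 := ((((iv D4804)).symm.trans (sb E5030 (tr F16169 E5030)))).symm
theorem E5034 : n9261 = n2315 := (E5030).trans E5033
theorem E5035 : n9029 = n1128 := ((((iv D2315)).symm.trans (sb E5034 F13841))).symm
theorem E5036 : n9841 = n2315 := (E5031).trans E5033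
theorem E5037 : n4788 = n2315 := (((iv F15836)).symm.trans (sb E5036 (tr F16422 E5033)))
theorem E5038 : n4481 = n1129 := (((F3664).symm.trans (iv (sb E5032 (tr (iv D9847) E5033))))).symm
theorem E5039 : n9847 = n1129 := (E5032).trans E5038
theorem E5040 : n4811 = n2318 := (((D2318).symm.trans (sb E5039 F16436))).symm
theorem E5041 : n9524 = n565 := ((((iv D1129)).symm.trans (sb E5039 (iv F16437)))).symm
theorem E5042 : n2318 = n2156 := ((((iv F3422)).symm.trans (sb E5039 (tr F16438 E5040)))).symm
theorem F16439 : act 2 n2315 = n2315 := (sb E5033 (iv D4804))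
theorem E5043 : n2307 = n1128 := ((F15835).symm.trans (sb E5035 (tr F16172 E5035)))
theorem E5044 : n4362 = n565 := ((((iv D1128)).symm.trans (sb E5035 (iv D9029)))).symm
theorem E5045 : n2308 = n1129 := (((F3664).symm.trans (sb E5037 F7305))).symm
theorem E5047 : n9843 = n4806 := (((D4806).symm.trans (sb E5037 D9843))).symm
theorem E5050 : n4831 = n2320 := (((D2320).symm.trans (sb E5038 (iv F7360)))).symm
theorem E5051 : n4811 = n2156 := (E5040).trans E5042
theorem E5052 : n4609 = n1056 := ((((iv D2156)).symm.trans (sb E5051 F7329))).symm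
theorem E5053 : n5438 = n285 := ((((iv D565)).symm.trans (sb E5041 F14243))).symm
theorem E5054 : n1132 = n1057 := (((F3421).symm.trans (sb E5042 F3665))).symm
theorem F16441 : act 2 n2156 = n1129 := (sb E5042 (iv D2318))
theorem E5055 : n2217 = n1056 := ((((iv D2156)).symm.trans (sb E5042 F3666))).symm
theorem E5056 : n4812 = n4482 := (((D4482).symm.trans (sb E5042 D4812))).symm
theorem E5057 : n4813 = n2330 := ((((iv F3683)).symm.trans (sb E5042 D4813))).symm
theorem F16442 : act 0 n1128 = n1128 := (sb E5043 (iv F15835))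
theorem E5058 : n1125 = n565 := ((((iv D1128)).symm.trans (sb E5043 (iv D2307)))).symm
theorem F16443 : act 2 n1128 = n1128 := (sb E5043 F3654)
theorem E5059 : n4706 = n2266 := ((((iv F3588)).symm.trans (sb E5043 (iv F7172)))).symm
theorem E5061 : n4484 = n286 := (((F1054).symm.trans (sb E5044 (iv F6836)))).symm
theorem E5062 : n2094 = n285 := ((((iv D565)).symm.trans (sb E5044 (iv D4362)))).symm
theorem E5064 : n9031 = n1130 := (((D1130).symm.trans (sb E5044 D9031))).symm
theorem E5065 : n2891 = n567 := (((F1927).symm.trans (sb E5045 F15112))).symm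
theorem E5066 : n4791 = n2156 := ((((iv F16441)).symm.trans (sb E5045 D4791))).symm
theorem E5067 : n4792 = n2319 := (((D2319).symm.trans (sb E5045 D4792))).symm
theorem E5068 : n2882 = n2320 := (((D2320).symm.trans (sb E5045 F15113))).symm
theorem E5069 : n2156 = n1390 := (((iv F3422)).symm.trans (sb E5045 F15114))
theorem F16445 : act 0 n4806 = n4806 := (sb E5047 F16427)
theorem F16446 : act 6 n4806 = n4806 := (sb E5047 F16429)
theorem E5073 : n2327 = n2159 := (((F3670).symm.trans (sb E5050 (iv D4831)))).symm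
theorem E5075 : n2618 = n532 := ((((iv D1056)).symm.trans (sb E5052 F7027))).symm
theorem E5078 : n5417 = n139 := ((((iv D285)).symm.trans (sb E5053 F16278))).symm
theorem E5079 : n564 = n285 := ((D564).symm.trans (sb E5053 (tr F8303 E5053)))
theorem E5080 : n2620 = n544 := ((((iv F1027)).symm.trans (sb E5053 F8304))).symm
theorem E5081 : n1944 = n1814 := ((((iv F2939)).symm.trans (sb E5054 F15744))).symm
theorem F16447 : act 2 n1057 = n567 := (sb E5054 (iv D1132))
theorem E5082 : n2325 = n533 := ((((iv D1057)).symm.trans (sb E5054 D2325))).symm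
theorem E5083 : n2326 = n2158 := (((D2158).symm.trans (sb E5054 D2326))).symm
theorem E5084 : n1084 = n532 := ((((iv D1056)).symm.trans (sb E5055 (iv D2217)))).symm
theorem E5085 : n4610 = n2129 := ((((iv F3383)).symm.trans (sb E5055 D4610))).symm
theorem E5086 : n4611 = n1136 := ((((iv F1936)).symm.trans (sb E5055 D4611))).symm
theorem F16448 : act 2 n4482 = n2319 := (sb E5056 F7331)
theorem F16449 : act 2 n2330 = n2320 := (sb E5057 F7333)
theorem E5087 : n1404 = n286 := (((F1054).symm.trans (sb E5058 F14981))).symm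
theorem E5088 : n2263 = n1105 := ((((iv F1904)).symm.trans (sb E5058 (iv F3585)))).symm
theorem E5090 : n1056 = n691 := (((iv F1834)).symm.trans (sb E5058 F14983))
theorem F16450 : act 0 n2266 = n2266 := (sb E5059 (iv F15841))
theorem F16451 : act 2 n2266 = n2266 := (sb E5059 F7171)
theorem E5091 : n9717 = n4714 := (((D4714).symm.trans (sb E5059 D9717))).symm
theorem E5095 : n4361 = n139 := ((((iv D286)).symm.trans (sb E5061 F6837))).symm
theorem E5098 : n1028 = n544 := ((((iv F1027)).symm.trans (sb E5062 (iv D2094)))).symm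
theorem E5099 : n4363 = n555 := ((((iv F1043)).symm.trans (sb E5062 D4363))).symm
theorem E5100 : n4364 = n566 := (((D566).symm.trans (sb E5062 D4364))).symm
theorem E5101 : n4827 = n1058 := (((F1930).symm.trans (sb E5064 F13536))).symm
theorem E5102 : n2403 = n301 := (((F1057).symm.trans (sb E5065 F15809))).symm
theorem E5103 : n5969 = n1057 := ((((iv F16447)).symm.trans (sb E5065 (iv F9059)))).symm
theorem E5104 : n5971 = n1133 := (((D1133).symm.trans (sb E5065 (iv F9064)))).symm
theorem E5105 : n1402 = n1134 := (((D1134).symm.trans (sb E5065 (iv D2891)))).symm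
theorem E5106 : n2865 = n1057 := ((((iv F1835)).symm.trans (sb E5065 F4518))).symm
theorem E5107 : n4791 = n1390 := (E5066).trans E5069
theorem E5109 : n9845 = n691 := ((((iv D1390)).symm.trans (sb E5107 D9845))).symm
theorem E5110 : n9846 = n2867 := (((D2867).symm.trans (sb E5107 D9846))).symm
theorem E5111 : n5952 = n696 := (((F2301).symm.trans (sb E5107 F15267))).symm
theorem F16455 : act 6 n1390 = n2866 := (sb E5107 F15268)
theorem E5112 : n4482 = n2867 := (((iv F16448)).symm.trans (sb E5067 (tr (iv F16434) E5110)))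
theorem E5116 : n2330 = n696 := (((iv F16449)).symm.trans (sb E5068 (tr (iv F9034) E5111)))
theorem E5117 : n2159 = n1397 := ((F3670).symm.trans (sb E5068 (iv D2882)))
theorem E5118 : n2866 = n1129 := ((D2866).symm.trans (sb E5069 F16441))
theorem E5126 : n2327 = n1397 := (E5073).trans E5117
theorem E5127 : n4830 = n2877 := ((((iv F4499)).symm.trans (sb E5126 D4830))).symm
theorem E5128 : n2880 = n1134 := ((D2880).symm.trans (sb E5126 F3677))
theorem E5129 : n1058 = n694 := ((((iv D1397)).symm.trans (sb E5126 (tr (iv F7355) E5101)))).symm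
theorem E5130 : n4829 = n2881 := (((D2881).symm.trans (sb E5126 (iv F7357)))).symm
theorem E5132 : n1270 = n347 := ((((iv F15095)).symm.trans (sb E5075 F4123))).symm
theorem E5133 : n1269 = n1027 := ((((iv F1795)).symm.trans (sb E5075 (iv D2618)))).symm
theorem E5135 : n5437 = n569 := ((((iv F1060)).symm.trans (sb E5075 D5437))).symm
theorem E5136 : n2611 = n61 := ((((iv D139)).symm.trans (sb E5078 F8274))).symm
theorem E5137 : n2610 = n276 := ((((iv F553)).symm.trans (sb E5078 (iv D5417)))).symm
theorem E5138 : n698 = n139 := ((((iv D285)).symm.trans (sb E5079 F14860))).symm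
theorem F16456 : act 1 n285 = n285 := (sb E5079 (iv D564))
theorem E5139 : n1081 = n544 := ((((iv F1027)).symm.trans (sb E5079 (iv F1871)))).symm
theorem E5140 : n1104 = n555 := ((((iv F1043)).symm.trans (sb E5079 (iv F1902)))).symm
theorem E5141 : n695 = n566 := (((D566).symm.trans (sb E5079 F14861))).symm
theorem E5142 : n532 = n348 := (((iv F1012)).symm.trans (sb E5079 F14862))
theorem E5143 : n2617 = n1082 := (((D1082).symm.trans (sb E5080 (iv F16271)))).symm
theorem E5144 : n5296 = n1072 := ((((iv F1857)).symm.trans (sb E5080 (iv F8095)))).symm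
theorem E5145 : n5441 = n1083 := (((D1083).symm.trans (sb E5080 D5441))).symm
theorem E5146 : n4056 = n3763 := ((((iv F5761)).symm.trans (sb E5081 (iv F6155)))).symm
theorem E5147 : n3764 = n954 := ((D3764).symm.trans (sb E5081 (iv D1944)))
theorem E5148 : n4061 = n899 := ((((iv D1814)).symm.trans (sb E5081 D4061))).symm
theorem E5150 : n4063 = n3766 := (((D3766).symm.trans (sb E5081 D4063))).symm
theorem E5151 : n2214 = n270 := ((((iv D533)).symm.trans (sb E5082 F3675))).symm
theorem E5153 : n4827 = n694 := (E5101).trans E5129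
theorem F16457 : act 2 n2158 = n1133 := (sb E5083 F3676)
theorem E5155 : n4487 = n2881 := ((D4487).symm.trans (sb E5083 (tr D4829 E5130)))
theorem E5156 : n1084 = n348 := (E5084).trans E5142
theorem E5157 : n690 = n270 := ((D690).symm.trans (sb E5156 (tr (iv F3509) E5151)))
theorem E5158 : n638 = n174 := ((((iv D348)).symm.trans (sb E5156 F1876))).symm
theorem E5159 : n640 = n545 := (((iv F1188)).symm.trans (sb E5156 (iv D1084)))
theorem E5160 : n2218 = n667 := ((((iv F1230)).symm.trans (sb E5156 D2218))).symm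
theorem E5161 : n2219 = n175 := (((F669).symm.trans (sb E5156 D2219))).symm
theorem E5162 : n1043 = n667 := (((iv D2129)).symm.trans (sb E5085 (tr F7028 E5160)))
theorem E5166 : n569 = n175 := ((F1935).symm.trans (sb E5086 (tr F7029 E5161)))
theorem E5167 : n1169 = n146 := (((F563).symm.trans (sb E5087 F15807))).symm
theorem E5168 : n2782 = n556 := ((((iv F1045)).symm.trans (sb E5087 (iv F4358)))).symm
theorem E5169 : n697 = n568 := (((D568).symm.trans (sb E5087 (iv D1404)))).symm
theorem E5170 : n1389 = n533 := ((((iv F1013)).symm.trans (sb E5087 F2314))).symm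
theorem E5171 : n4707 = n2267 := (((D2267).symm.trans (sb E5088 D4707))).symm
theorem E5173 : n2129 = n1338 := (((iv F3384)).symm.trans (sb E5088 F15105))
theorem E5175 : n1136 = n350 := (((F1253).symm.trans (sb E5090 (iv F1936)))).symm
theorem F16458 : act 6 n691 = n565 := (sb E5090 F1834)
theorem F16459 : act 0 n4714 = n4714 := (sb E5091 F15842)
theorem E5177 : n2093 = n276 := ((((iv F553)).symm.trans (sb E5095 (iv D4361)))).symm
theorem E5179 : n4614 = n287 := (((D287).symm.trans (sb E5095 (iv F7035)))).symm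
theorem E5180 : n1082 = n519 := ((D1082).symm.trans (sb E5098 (iv D1028)))
theorem E5182 : n2095 = n1083 := (((D1083).symm.trans (sb E5098 D2095))).symm
theorem E5183 : n1027 = n545 := (((iv F1796)).symm.trans (sb E5098 F1798))
theorem E5185 : n9032 = n1106 := (((D1106).symm.trans (sb E5099 D9032))).symm
theorem E5187 : n4605 = n534 := (((F1056).symm.trans (sb E5100 (iv F7023)))).symm
theorem E5188 : n534 = n349 := ((((iv D694)).symm.trans (sb E5153 (tr F7354 E5187)))).symm
theorem E5189 : n1170 = n589 := ((((iv F1100)).symm.trans (sb E5102 F3784))).symm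
theorem E5195 : n2888 = n1397 := (((E5117).symm.trans ((D2159).symm.trans (sb E5103 (iv D5969))))).symm
theorem E5197 : n2889 = n2328 := (((D2328).symm.trans (sb E5104 (iv D5971)))).symm
theorem E5198 : n5917 = n2158 := ((((iv F3424)).symm.trans (sb E5104 F9065))).symm
theorem E5199 : n2890 = n2329 := (((D2329).symm.trans (sb E5105 D2890))).symm
theorem F16463 : act 0 n1057 = n1390 := (sb E5106 F4484)
theorem E5200 : n5913 = n1814 := ((((iv F2939)).symm.trans (sb E5106 (iv F8989)))).symm
theorem E5203 : n5919 = n565 := (((F16458).symm.trans (sb E5109 F16433))).symm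
theorem F16464 : act 6 n2867 = n5920 := (sb E5110 F16435)
theorem E5204 : n5920 = n2319 := (((iv F9000)).symm.trans (sb E5112 F16448))
theorem E5205 : n9178 = n5740 := ((((iv F8734)).symm.trans (sb E5112 (iv F13737)))).symm
theorem E5206 : n4833 = n1401 := (((F4488).symm.trans (sb E5112 (iv F7365)))).symm
theorem E5208 : n2320 = n1400 := (((D1400).symm.trans (sb E5116 F16449))).symm
theorem F16465 : act 6 n696 = n1134 := (sb E5116 (iv D2330))
theorem E5209 : n4488 = n2877 := ((((iv F4499)).symm.trans (sb E5117 D4488))).symm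
theorem F16466 : act 5 n1397 = n1057 := (sb E5117 (iv D2159))
theorem F16467 : act 2 n1129 = n1390 := (sb E5118 (iv D2866))
theorem F16468 : act 6 n1129 = n1390 := (sb E5118 (iv F16455))
theorem E5211 : n8465 = n5945 := (((D5945).symm.trans (sb E5127 (iv F15982)))).symm
theorem E5212 : n5950 = n2329 := (((D2329).symm.trans (sb E5128 D5950))).symm
theorem F16469 : act 2 n1134 = n1397 := (sb E5128 (iv D2880))
theorem E5214 : n5951 = n2328 := ((((iv F3678)).symm.trans (sb E5128 D5951))).symm
theorem E5215 : n2160 = n1396 := (((D1396).symm.trans (sb E5129 D2160))).symm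
theorem E5216 : n2131 = n1341 := ((((iv F2247)).symm.trans (sb E5129 (iv F3387)))).symm
theorem F16470 : act 6 n694 = n1130 := (sb E5129 (iv F1930))
theorem E5217 : n2617 = n519 := (E5143).trans E5180
theorem E5218 : n347 = n174 := ((F667).symm.trans (sb E5132 (tr F2146 E5158)))
theorem E5219 : n1270 = n174 := (E5132).trans E5218
theorem E5220 : n636 = n325 := ((((iv F634)).symm.trans (sb E5219 (iv D1270)))).symm
theorem E5221 : n2621 = n338 := ((((iv F658)).symm.trans (sb E5219 D2621))).symm
theorem E5222 : n2622 = n80 := ((((iv D174)).symm.trans (sb E5219 D2622))).symm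
theorem E5223 : n1269 = n545 := (E5133).trans E5183
theorem E5224 : n325 = n324 := (((F1028).symm.trans (sb E5223 (tr (iv D1269) E5220)))).symm
theorem E5225 : n2547 = n1073 := ((((iv F1859)).symm.trans (sb E5223 (iv F4022)))).symm
theorem E5226 : n2619 = n1085 := (((D1085).symm.trans (sb E5223 D2619))).symm
theorem E5228 : n5437 = n175 := (E5135).trans E5166
theorem E5229 : n1085 = n326 := ((((iv F635)).symm.trans (sb E5228 (tr F8302 E5226)))).symm
theorem E5232 : n1266 = n134 := ((((iv F274)).symm.trans (sb E5136 (iv D2611)))).symm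
theorem E5235 : n5423 = n26 := ((((iv D61)).symm.trans (sb E5136 D5423))).symm
theorem E5237 : n5418 = n546 := (((D546).symm.trans (sb E5137 D5418))).symm
theorem E5238 : n685 = n61 := ((((iv D139)).symm.trans (sb E5138 (iv F14798)))).symm
theorem E5240 : n1345 = n281 := ((((iv F561)).symm.trans (sb E5138 (iv F2255)))).symm
theorem E5241 : n351 = n287 := (((D287).symm.trans (sb E5138 (iv D698)))).symm
theorem F16471 : act 1 n544 = n544 := (sb E5139 (iv D1081))
theorem E5243 : n2189 = n1072 := ((((iv F1857)).symm.trans (sb E5139 (iv F3477)))).symm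
theorem E5244 : n1281 = n1083 := (((D1083).symm.trans (sb E5139 F14969))).symm
theorem F16472 : act 1 n555 = n555 := (sb E5140 (iv D1104))
theorem E5245 : n2242 = n1095 := ((((iv F1888)).symm.trans (sb E5140 (iv F3551)))).symm
theorem E5246 : n1342 = n1106 := (((D1106).symm.trans (sb E5140 F14976))).symm
theorem E5247 : n1399 = n1052 := (((F15024).symm.trans (sb E5141 D1399))).symm
theorem F16473 : act 6 n348 = n285 := (sb E5142 F1012)
theorem E5248 : n5432 = n264 := ((((iv D519)).symm.trans (sb E5217 D5432))).symm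
theorem E5249 : n5293 = n1021 := ((((iv F1783)).symm.trans (sb E5217 (iv F8091)))).symm
theorem E5250 : n5434 = n1029 := (((D1029).symm.trans (sb E5217 D5434))).symm
theorem E5251 : n2190 = n1021 := ((D2190).symm.trans (sb E5144 (tr (iv F16277) E5249)))
theorem E5252 : n2080 = n1073 := (((iv F3313)).symm.trans (sb E5144 (tr (iv D5296) E5225)))
theorem E5253 : n2215 = n1029 := (((iv F3511)).symm.trans (sb E5145 (tr F16285 E5250)))
theorem E5254 : n8451 = n7859 := ((((iv F11723)).symm.trans (sb E5146 D8451))).symm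
theorem E5255 : n7861 = n1941 := ((D7861).symm.trans (sb E5146 (iv D4056)))
theorem E5256 : n3895 = n1813 := ((((iv D3763)).symm.trans (sb E5146 F6156))).symm
theorem E5257 : n8452 = n7862 := (((D7862).symm.trans (sb E5146 D8452))).symm
theorem F16474 : act 2 n954 = n1814 := (sb E5147 (iv D3764))
theorem E5259 : n7864 = n480 := ((((iv D954)).symm.trans (sb E5147 D7864))).symm
theorem E5260 : n7865 = n1945 := (((D1945).symm.trans (sb E5147 D7865))).symm
theorem E5262 : n3892 = n455 := ((((iv D899)).symm.trans (sb E5148 F6165))).symm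
theorem E5267 : n6131 = n5945 := (((iv F15543)).symm.trans (sb E5150 (tr D8465 E5211)))
theorem E5268 : n8466 = n4058 := ((((iv F6160)).symm.trans (sb E5150 D8466))).symm
theorem E5271 : n4605 = n349 := (E5187).trans E5188
theorem E5273 : n9183 = n5754 := ((((iv F8759)).symm.trans (sb E5155 (iv F13745)))).symm
theorem F16475 : act 6 n2881 = n4814 := (sb E5155 (iv F7338))
theorem F16476 : act 0 n270 = n348 := (sb E5157 (iv D690))
theorem E5274 : n1013 = n131 := ((((iv D270)).symm.trans (sb E5157 (iv F14903)))).symm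
theorem E5275 : n1276 = n519 := ((((iv F993)).symm.trans (sb E5157 (iv F2153)))).symm
theorem E5276 : n1337 = n526 := ((((iv F1005)).symm.trans (sb E5157 (iv F2239)))).symm
theorem F16477 : act 3 n545 = n348 := (sb E5159 F1188)
theorem E5280 : n1241 = n1073 := ((((iv F1859)).symm.trans (sb E5159 (iv F2107)))).symm
theorem E5284 : n666 = n338 := ((((iv D667)).symm.trans (sb E5162 (iv F15245)))).symm
theorem E5285 : n2116 = n1314 := ((((iv F2202)).symm.trans (sb E5162 (iv F3361)))).symm
theorem F16478 : act 6 n667 = n555 := (sb E5162 F1820)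
theorem E5289 : n588 = n300 := ((((iv F588)).symm.trans (sb E5167 (iv D1169)))).symm
theorem E5290 : n2397 = n65 := ((((iv D146)).symm.trans (sb E5167 (iv F3774)))).symm
theorem E5291 : n2355 = n292 := ((((iv F571)).symm.trans (sb E5167 (iv F3718)))).symm
theorem E5292 : n2404 = n302 := (((D302).symm.trans (sb E5167 D2404))).symm
theorem E5294 : n5764 = n1107 := (((D1107).symm.trans (sb E5168 (iv F8777)))).symm
theorem E5295 : n1344 = n1108 := (((D1108).symm.trans (sb E5168 (iv D2782)))).symm
theorem E5296 : n2767 = n1044 := ((((iv F1822)).symm.trans (sb E5168 F4359))).symm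
theorem E5297 : n1403 = n1135 := (((D1135).symm.trans (sb E5169 D1403))).symm
theorem F16479 : act 0 n533 = n691 := (sb E5170 F2298)
theorem E5298 : n2864 = n899 := ((((iv F1605)).symm.trans (sb E5170 D2864))).symm
theorem F16480 : act 5 n533 = n694 := (sb E5170 F2299)
theorem E5299 : n9720 = n4717 := (((D4717).symm.trans (sb E5171 D9720))).symm
theorem E5301 : n4438 = n2768 := (((iv F6774)).symm.trans (sb E5171 F15261))
theorem E5303 : n2274 = n669 := (((F2243).symm.trans (sb E5173 (iv F3603)))).symm
theorem F16481 : act 6 n1338 = n1105 := (sb E5173 F3384)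
theorem F16482 : act 6 n350 = n568 := (sb E5175 (iv D1136))
theorem E5309 : n4333 = n540 := ((((iv F1023)).symm.trans (sb E5177 (iv F6613)))).symm
theorem E5310 : n2221 = n546 := (((D546).symm.trans (sb E5177 (iv F3519)))).symm
theorem E5312 : n9533 = n345 := ((((iv F665)).symm.trans (sb E5179 D9533))).symm
theorem E5313 : n2213 = n264 := ((((iv D519)).symm.trans (sb E5180 D2213))).symm
theorem F16483 : act 2 n519 = n544 := (sb E5180 (iv D1082))
theorem E5316 : n4365 = n2089 := (((F15126).symm.trans (sb E5182 D4365))).symm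
theorem F16484 : act 0 n545 = n519 := (sb E5183 (iv D1027))
theorem F16485 : act 6 n545 = n544 := (sb E5183 F1796)
theorem E5318 : n9514 = n1045 := (((F1907).symm.trans (sb E5185 (iv F14233)))).symm
theorem E5320 : n1029 = n641 := ((((iv F1190)).symm.trans (sb E5271 (tr F7022 E5253)))).symm
theorem E5321 : n1045 = n668 := ((((iv F1232)).symm.trans (sb E5271 (tr (iv F14232) E5318)))).symm
theorem E5322 : n1059 = n693 := (((D693).symm.trans (sb E5188 D1059))).symm
theorem F16486 : act 5 n349 = n270 := (sb E5188 (iv D534))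
theorem F16487 : act 6 n349 = n566 := (sb E5188 (iv F1056))
theorem F16488 : act 1 n589 = n589 := (sb E5189 F1982)
theorem E5323 : n2406 = n601 := ((((iv F1119)).symm.trans (sb E5189 D2406))).symm
theorem E5324 : n2407 = n1173 := (((D1173).symm.trans (sb E5189 D2407))).symm
theorem E5325 : n2408 = n971 := ((((iv F1700)).symm.trans (sb E5189 D2408))).symm
theorem E5326 : n2409 = n601 := ((((iv F15740)).symm.trans (sb E5189 D2409))).symm
theorem F16489 : act 6 n1397 = n1400 := (sb E5195 (iv D2888))
theorem E5336 : n5970 = n4832 := (((D4832).symm.trans (sb E5197 D5970))).symm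
theorem F16490 : act 0 n2158 = n2867 := (sb E5198 F8994)
theorem F16491 : act 5 n2158 = n2881 := (sb E5198 F8995)
theorem E5338 : n5972 = n4834 := (((D4834).symm.trans (sb E5199 D5972))).symm
theorem E5339 : n5973 = n4835 := (((D4835).symm.trans (sb E5199 D5973))).symm
theorem E5340 : n4836 = n1445 := ((D4836).symm.trans (sb E5199 F4515))
theorem E5342 : n7836 = n3766 := (((D3766).symm.trans (sb E5200 (iv F15969)))).symm
theorem E5346 : n2886 = n1130 := (((D1130).symm.trans (sb E5203 F8999))).symm
theorem F16492 : act 2 n2319 = n2867 := (sb E5204 F9000)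
theorem E5347 : n4814 = n2887 := ((D4814).symm.trans (sb E5204 F9001))
theorem F16493 : act 6 n2319 = n2867 := (sb E5204 (iv F16464))
theorem F16494 : act 0 n5740 = n4440 := (sb E5205 F13736)
theorem E5348 : n9762 = n2779 := (((F8735).symm.trans (sb E5205 (iv F14601)))).symm
theorem F16495 : act 6 n5740 = n4718 := (sb E5205 F13738)
theorem F16496 : act 6 n1401 = n2328 := (sb E5206 (iv D4833))
theorem F16497 : act 0 n1400 = n1134 := (sb E5208 F3668)
theorem F16498 : act 5 n1400 = n1129 := (sb E5208 (iv D2320))
theorem E5350 : n6133 = n5940 := ((((iv F9020)).symm.trans (sb E5209 (iv F15540)))).symm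
theorem E5352 : n9276 = n5946 := (((D5946).symm.trans (sb E5209 D9276))).symm
theorem E5353 : n5483 = n1135 := (((F3679).symm.trans (sb E5212 F9030))).symm
theorem F16499 : act 2 n2328 = n2881 := (sb E5214 F9032)
theorem E5356 : n2969 = n2876 := (((D2876).symm.trans (sb E5215 (iv F15431)))).symm
theorem E5357 : n4490 = n2872 := ((((iv F4495)).symm.trans (sb E5215 D4490))).symm
theorem E5358 : n4442 = n2774 := ((((iv F4341)).symm.trans (sb E5215 (iv F6779)))).symm
theorem E5359 : n2968 = n2878 := (((D2878).symm.trans (sb E5215 (iv F15433)))).symm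
theorem E5360 : n4491 = n2879 := (((D2879).symm.trans (sb E5215 D4491))).symm
theorem E5361 : n4441 = n2775 := (((D2775).symm.trans (sb E5216 (iv F6778)))).symm
theorem F16500 : act 6 n1341 = n2268 := (sb E5216 (iv F3593))
theorem F16501 : act 0 n174 = n174 := (sb E5218 F666)
theorem E5362 : n173 = n80 := ((((iv D174)).symm.trans (sb E5218 (iv D347)))).symm
theorem F16502 : act 6 n174 = n174 := (sb E5218 F668)
theorem E5363 : n636 = n324 := (E5220).trans E5224
theorem F16503 : act 0 n324 = n324 := (sb E5363 F1181)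
theorem E5364 : n323 = n161 := ((((iv D324)).symm.trans (sb E5363 (iv D636)))).symm
theorem E5365 : n1237 = n623 := ((((iv F1163)).symm.trans (sb E5363 (iv F2099)))).symm
theorem E5366 : n1271 = n639 := (((D639).symm.trans (sb E5363 D1271))).symm
theorem E5367 : n5298 = n657 := ((((iv F1211)).symm.trans (sb E5221 (iv F8100)))).symm
theorem E5370 : n639 = n161 := ((((iv F325)).symm.trans (sb E5222 (tr F4130 E5366)))).symm
theorem F16504 : act 3 n324 = n174 := (sb E5224 F634)
theorem E5373 : n5295 = n2193 := (((D2193).symm.trans (sb E5225 D5295))).symm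
theorem E5374 : n2619 = n326 := (E5226).trans E5229
theorem E5377 : n642 = n546 := ((D642).symm.trans (sb E5374 (tr (iv F8275) E5237)))
theorem E5378 : n2193 = n625 := ((((iv F1166)).symm.trans (sb E5374 (tr (iv F8093) E5373)))).symm
theorem E5379 : n643 = n546 := ((D643).symm.trans (sb E5374 (tr (iv F16270) E5237)))
theorem E5380 : n2215 = n641 := (E5253).trans E5320
theorem F16505 : act 5 n326 = n545 := (sb E5229 (iv D1085))
theorem E5388 : n2612 = n160 := ((((iv F324)).symm.trans (sb E5232 D2612))).symm
theorem E5390 : n5374 = n60 := (((D60).symm.trans (sb E5235 (iv F16322)))).symm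
theorem E5394 : n1332 = n137 := ((((iv F281)).symm.trans (sb E5238 (iv F2232)))).symm
theorem E5395 : n1123 = n79 := ((((iv F163)).symm.trans (sb E5238 F14799))).symm
theorem E5398 : n2723 = n551 := ((((iv F1038)).symm.trans (sb E5240 (iv F4245)))).symm
theorem E5399 : n670 = n557 := (((D557).symm.trans (sb E5240 (iv D1345)))).symm
theorem E5400 : n345 = n284 := (((iv F665)).symm.trans (sb E5241 F671))
theorem F16506 : act 6 n287 = n175 := (sb E5241 (iv D351))
theorem F16507 : act 1 n1072 = n1072 := (sb E5243 (iv D2189))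
theorem E5404 : n4528 = n2180 := ((((iv F3460)).symm.trans (sb E5243 (iv F6906)))).symm
theorem E5405 : n2560 = n2191 := (((D2191).symm.trans (sb E5243 F15085))).symm
theorem E5406 : n2643 = n2089 := (((F15126).symm.trans (sb E5244 D2643))).symm
theorem F16508 : act 1 n1095 = n1095 := (sb E5245 (iv D2242))
theorem E5407 : n4661 = n2243 := (((D2243).symm.trans (sb E5245 D4661))).symm
theorem E5408 : n2720 = n2244 := (((D2244).symm.trans (sb E5245 F15098))).symm
theorem E5409 : n2777 = n2125 := (((F15144).symm.trans (sb E5246 D2777))).symm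
theorem E5410 : n1054 = n531 := ((((iv D1052)).symm.trans (sb E5247 F3413))).symm
theorem E5411 : n2884 = n2147 := (((D2147).symm.trans (sb E5247 D2884))).symm
theorem F16509 : act 5 n1052 = n1052 := (sb E5247 (iv F3412))
theorem E5412 : n1364 = n1362 := ((F14911).symm.trans (sb E5247 F14859))
theorem E5413 : n9503 = n508 := ((((iv F974)).symm.trans (sb E5248 (iv F14218)))).symm
theorem F16510 : act 2 n1021 = n1072 := (sb E5251 (iv D2190))
theorem E5416 : n4553 = n2074 := ((((iv F3298)).symm.trans (sb E5251 D4553))).symm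
theorem E5417 : n4554 = n2082 := (((D2082).symm.trans (sb E5251 D4554))).symm
theorem F16511 : act 0 n1073 = n1021 := (sb E5252 (iv D2080))
theorem E5418 : n1238 = n623 := (((F1858).symm.trans (sb E5252 (iv F15229)))).symm
theorem E5419 : n4320 = n2192 := (((D2192).symm.trans (sb E5252 (iv F6587)))).symm
theorem F16512 : act 6 n1073 = n1072 := (sb E5252 F3313)
theorem E5421 : n4606 = n1279 := (((D1279).symm.trans (sb E5380 D4606))).symm
theorem E5422 : n1280 = n1083 := ((D1280).symm.trans (sb E5380 F3511))
theorem E5423 : n2082 = n1242 := ((((iv F2109)).symm.trans (sb E5380 (tr (iv F6951) E5417)))).symm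
theorem E5424 : n8155 = n3762 := ((((iv D7859)).symm.trans (sb E5254 F12607))).symm
theorem F16513 : act 6 n7859 = n7859 := (sb E5254 (tr F12608 E5254))
theorem E5425 : n4053 = n1941 := (((iv F6154)).symm.trans (sb E5255 (tr F11727 E5255)))
theorem F16514 : act 2 n1941 = n3763 := (sb E5255 (iv D7861))
theorem E5427 : n1871 = n898 := ((((iv D1813)).symm.trans (sb E5256 (iv D3895)))).symm
theorem F16515 : act 2 n7862 = n4057 := (sb E5257 F12610)
theorem E5430 : n7719 = n241 := ((((iv D480)).symm.trans (sb E5259 F11733))).symm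
theorem F16516 : act 2 n1945 = n3765 := (sb E5260 F11735)
theorem E5431 : n8147 = n231 := ((((iv D455)).symm.trans (sb E5262 (iv F12157)))).symm
theorem E5432 : n1869 = n885 := ((((iv F1582)).symm.trans (sb E5262 (iv D3892)))).symm
theorem F16519 : act 0 n5945 = n2967 := (sb E5267 (iv D6131))
theorem E5435 : n9217 = n5826 := (((iv F15972)).symm.trans (sb E5267 F15545))
theorem F16520 : act 2 n4058 = n4066 := (sb E5268 F12635)
theorem F16521 : act 5 n5754 = n4440 := (sb E5273 (iv D9183))
theorem F16522 : act 6 n5754 = n9743 := (sb E5273 (iv F14568))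
theorem E5442 : n513 = n261 := ((((iv F529)).symm.trans (sb E5274 (iv D1013)))).symm
theorem E5443 : n2063 = n231 := ((((iv F472)).symm.trans (sb E5274 D2063))).symm
theorem E5449 : n2555 = n1021 := ((((iv F1783)).symm.trans (sb E5275 (iv F4035)))).symm
theorem F16523 : act 0 n526 = n667 := (sb E5276 (iv D1337))
theorem E5450 : n2715 = n1037 := ((((iv F1808)).symm.trans (sb E5276 (iv F4234)))).symm
theorem E5457 : n2518 = n2192 := (((D2192).symm.trans (sb E5280 (iv F3974)))).symm
theorem F16524 : act 0 n338 = n338 := (sb E5284 F1226)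
theorem E5464 : n1311 = n657 := ((((iv F1211)).symm.trans (sb E5284 (iv F2198)))).symm
theorem E5465 : n337 = n168 := ((((iv D338)).symm.trans (sb E5284 (iv D666)))).symm
theorem F16525 : act 6 n338 = n338 := (sb E5284 F1229)
theorem E5466 : n4412 = n2716 := (((D2716).symm.trans (sb E5285 D4412))).symm
theorem F16526 : act 6 n1314 = n1095 := (sb E5285 F3362)
theorem F16527 : act 1 n300 = n300 := (sb E5289 (iv D588))
theorem E5472 : n1167 = n145 := ((((iv D300)).symm.trans (sb E5289 (iv F1977)))).symm
theorem E5473 : n1147 = n576 := ((((iv F1081)).symm.trans (sb E5289 (iv F1954)))).symm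
theorem E5474 : n1171 = n492 := ((((iv F944)).symm.trans (sb E5289 D1171))).symm
theorem E5475 : n1172 = n307 := ((((iv F15722)).symm.trans (sb E5289 D1172))).symm
theorem E5477 : n4883 = n141 := ((((iv F285)).symm.trans (sb E5290 (iv F7445)))).symm
theorem E5479 : n3344 = n119 := ((((iv F244)).symm.trans (sb E5290 (iv F15816)))).symm
theorem E5481 : n4891 = n578 := (((D578).symm.trans (sb E5291 D4891))).symm
theorem E5483 : n2893 = n593 := (((D593).symm.trans (sb E5292 (iv F15817)))).symm
theorem E5487 : n2780 = n2272 := (((D2272).symm.trans (sb E5294 (iv D5764)))).symm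
theorem E5488 : n5738 = n2130 := ((((iv F3385)).symm.trans (sb E5294 F8778))).symm
theorem E5489 : n2781 = n2273 := (((D2273).symm.trans (sb E5295 D2781))).symm
theorem F16528 : act 0 n1044 = n1338 := (sb E5296 F4328)
theorem E5490 : n5737 = n1801 := ((((iv F2924)).symm.trans (sb E5296 D5737))).symm
theorem F16529 : act 5 n1044 = n1341 := (sb E5296 F4330)
theorem E5491 : n2892 = n2331 := (((D2331).symm.trans (sb E5297 D2892))).symm
theorem E5492 : n1373 = n1121 := (((iv F2280)).symm.trans (sb E5297 F2310))
theorem E5493 : n2332 = n720 := ((D2332).symm.trans (sb E5297 F2311))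
theorem E5495 : n3343 = n455 := ((((iv D899)).symm.trans (sb E5298 F15216))).symm
theorem E5496 : n3750 = n1815 := (((D1815).symm.trans (sb E5298 (iv F15362)))).symm
theorem E5497 : n9177 = n5739 := (((iv F13734)).symm.trans (sb E5299 (iv F16245)))
theorem E5498 : n4729 = n1343 := (((F4332).symm.trans (sb E5301 (iv F7214)))).symm
theorem F16530 : act 6 n2768 = n2267 := (sb E5301 F6774)
theorem F16531 : act 6 n669 = n1108 := (sb E5303 (iv D2274))
theorem E5508 : n8979 = n1068 := ((((iv F1851)).symm.trans (sb E5309 D8979))).symm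
theorem E5509 : n4560 = n1074 := (((D1074).symm.trans (sb E5309 (iv F6962)))).symm
theorem E5510 : n4617 = n634 := ((((iv F1178)).symm.trans (sb E5310 D4617))).symm
theorem E5511 : n9533 = n284 := (E5312).trans E5400
theorem E5512 : n634 = n543 := ((((iv F1026)).symm.trans (sb E5511 (tr F14255 E5510)))).symm
theorem E5513 : n4600 = n508 := ((((iv F974)).symm.trans (sb E5313 D4600))).symm
theorem E5514 : n4602 = n520 := (((D520).symm.trans (sb E5313 D4602))).symm
theorem E5519 : n4554 = n1242 := (E5417).trans E5423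
theorem E5521 : n9035 = n4353 := (((D4353).symm.trans (sb E5316 D9035))).symm
theorem E5523 : n1271 = n161 := (E5366).trans E5370
theorem F16533 : act 5 n641 = n519 := (sb E5320 (iv D1029))
theorem F16534 : act 6 n641 = n1083 := (sb E5320 (iv F1875))
theorem E5525 : n2132 = n1340 := (((D1340).symm.trans (sb E5321 D2132))).symm
theorem E5526 : n2118 = n1315 := ((((iv F2204)).symm.trans (sb E5321 (iv F3364)))).symm
theorem F16535 : act 5 n668 = n526 := (sb E5321 (iv D1045))
theorem F16536 : act 6 n668 = n1106 := (sb E5321 (iv F1907))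
theorem E5527 : n2161 = n1392 := (((D1392).symm.trans (sb E5322 D2161))).symm
theorem E5528 : n2162 = n1393 := (((D1393).symm.trans (sb E5322 D2162))).symm
theorem E5529 : n1394 = n535 := ((D1394).symm.trans (sb E5322 F1837))
theorem E5530 : n2451 = n1192 := ((((iv F2011)).symm.trans (sb E5323 (iv F3854)))).symm
theorem F16537 : act 1 n1173 = n1173 := (sb E5324 F3787)
theorem E5535 : n4894 = n2360 := ((((iv F3725)).symm.trans (sb E5324 (iv F7468)))).symm
theorem E5536 : n4995 = n1975 := ((((iv F3150)).symm.trans (sb E5324 D4995))).symm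
theorem E5537 : n4996 = n1196 := ((((iv F15753)).symm.trans (sb E5324 D4996))).symm
theorem E5538 : n4039 = n1933 := ((((iv F3098)).symm.trans (sb E5325 (iv F6136)))).symm
theorem E5539 : n2447 = n1192 := ((((iv F2011)).symm.trans (sb E5326 (iv F15820)))).symm
theorem F16538 : act 6 n4832 = n2977 := (sb E5336 F9062)
theorem E5546 : n8406 = n8403 := ((F15887).symm.trans (sb E5338 F16078))
theorem F16539 : act 6 n4835 = n2979 := (sb E5339 F9068)
theorem E5548 : n5023 = n2980 := (((D2980).symm.trans (sb E5340 (iv F7643)))).symm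
theorem F16541 : act 1 n3766 = n5945 := (sb E5342 (iv F15970))
theorem E5549 : n4058 = n3755 := (((iv F6160)).symm.trans (sb E5342 F11662))
theorem F16542 : act 3 n1130 = n1400 := (sb E5346 (iv D2886))
theorem F16543 : act 0 n2887 = n2328 := (sb E5347 F7336)
theorem E5557 : n9743 = n5966 := (((D5966).symm.trans (sb E5347 (iv F14566)))).symm
theorem F16544 : act 5 n2887 = n2319 := (sb E5347 (iv D4814))
theorem F16545 : act 6 n2887 = n2881 := (sb E5347 (iv F16475))
theorem F16546 : act 6 n2779 = n4727 := (sb E5348 (iv D9762))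
theorem F16547 : act 5 n5940 = n2967 := (sb E5350 (iv D6133))
theorem F16548 : act 5 n5946 = n6124 := (sb E5352 F15940)
theorem E5558 : n5401 = n1121 := (((E5492).symm.trans (((iv F2280)).symm.trans (sb E5353 F8359)))).symm
theorem E5561 : n2426 = n1447 := ((F15865).symm.trans (sb E5356 F4621))
theorem E5562 : n4968 = n2934 := (((iv F15618)).symm.trans (sb E5356 F4622))
theorem E5563 : n6031 = n5749 := ((((iv F8752)).symm.trans (sb E5356 (iv F9165)))).symm
theorem E5564 : n5941 = n1440 := ((D5941).symm.trans (sb E5356 (iv D2969)))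
theorem E5565 : n5942 = n5827 := ((D5942).symm.trans (sb E5356 (iv F15542)))
theorem E5566 : n9278 = n5930 := (((D5930).symm.trans (sb E5357 D9278))).symm
theorem E5567 : n9186 = n5745 := ((((iv F8746)).symm.trans (sb E5357 (iv F13750)))).symm
theorem E5568 : n3748 = n2824 := (((iv F15587)).symm.trans (sb E5357 F6845))
theorem E5569 : n5932 = n5835 := ((D5932).symm.trans (sb E5357 (iv F8885)))
theorem E5571 : n6030 = n5751 := (((D5751).symm.trans (sb E5358 (iv F15547)))).symm
theorem E5572 : n9187 = n5752 := (((D5752).symm.trans (sb E5358 D9187))).symm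
theorem E5573 : n4460 = n2817 := (((iv F15588)).symm.trans (sb E5359 (iv F15549)))
theorem F16549 : act 1 n2879 = n4818 := (sb E5360 (iv F7341))
theorem E5575 : n9182 = n5753 := (((D5753).symm.trans (sb E5361 (iv F13744)))).symm
theorem F16550 : act 6 n2775 = n4719 := (sb E5361 (iv F7197))
theorem F16551 : act 0 n80 = n80 := (sb E5362 (iv D173))
theorem F16552 : act 0 n161 = n161 := (sb E5364 (iv D323))
theorem E5576 : n622 = n317 := ((((iv F620)).symm.trans (sb E5364 (iv F1161)))).symm
theorem F16553 : act 0 n623 = n623 := (sb E5365 F2098)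
theorem E5577 : n2548 = n1239 := (((D1239).symm.trans (sb E5365 D2548))).symm
theorem E5578 : n2549 = n1240 := (((D1240).symm.trans (sb E5365 D2549))).symm
theorem E5579 : n1240 = n317 := ((((iv F620)).symm.trans (sb E5523 (tr (iv F4027) E5578)))).symm
theorem E5580 : n1239 = n1225 := ((((iv F2078)).symm.trans (sb E5367 (tr (iv D5298) E5577)))).symm
theorem F16554 : act 5 n161 = n324 := (sb E5370 (iv D639))
theorem E5582 : n2548 = n1225 := (E5577).trans E5580
theorem F16555 : act 2 n546 = n326 := (sb E5377 (iv D642))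
theorem E5584 : n1243 = n1074 := ((((iv F1860)).symm.trans (sb E5377 (iv F2111)))).symm
theorem E5586 : n4558 = n1226 := ((((iv F2079)).symm.trans (sb E5378 (iv F6956)))).symm
theorem F16556 : act 5 n625 = n1073 := (sb E5378 (iv D2193))
theorem E5587 : n1244 = n1074 := ((D1244).symm.trans (sb E5378 (tr D4560 E5509)))
theorem F16557 : act 6 n546 = n326 := (sb E5379 (iv D643))
theorem E5602 : n5424 = n322 := (((D322).symm.trans (sb E5388 D5424))).symm
theorem E5605 : n2591 = n138 := (((D138).symm.trans (sb E5390 F8222))).symm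
theorem E5615 : n2704 = n279 := ((((iv F559)).symm.trans (sb E5394 (iv F4221)))).symm
theorem E5616 : n2261 = n167 := ((((iv F338)).symm.trans (sb E5394 F14886))).symm
theorem E5618 : n563 = n172 := (((D172).symm.trans (sb E5395 (iv D1123)))).symm
theorem E5621 : n5655 = n1096 := (((D1096).symm.trans (sb E5398 (iv F8547)))).symm
theorem E5622 : n1317 = n1097 := (((D1097).symm.trans (sb E5398 (iv D2723)))).symm
theorem E5623 : n664 = n554 := (((iv F1223)).symm.trans (sb E5399 F1235))
theorem F16558 : act 6 n557 = n339 := (sb E5399 (iv D670))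
theorem E5624 : n681 = n560 := ((((iv F1048)).symm.trans (sb E5400 (iv F1243)))).symm
theorem F16559 : act 1 n284 = n287 := (sb E5400 F665)
theorem E5625 : n683 = n562 := ((((iv F1051)).symm.trans (sb E5400 (iv F1246)))).symm
theorem E5626 : n684 = n138 := ((((iv D284)).symm.trans (sb E5400 D684))).symm
theorem F16560 : act 1 n2180 = n2180 := (sb E5404 (iv D4528))
theorem E5636 : n5324 = n4329 := (((F15284).symm.trans (sb E5405 D5324))).symm
theorem E5637 : n2091 = n1026 := ((((iv D2089)).symm.trans (sb E5406 (iv F4154)))).symm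
theorem E5638 : n5482 = n4353 := (((D4353).symm.trans (sb E5406 D5482))).symm
theorem F16561 : act 5 n2089 = n2089 := (sb E5406 (iv F4155))
theorem E5639 : n2595 = n2593 := ((F14989).symm.trans (sb E5406 F14946))
theorem E5640 : n9632 = n4664 := (((D4664).symm.trans (sb E5407 D9632))).symm
theorem E5643 : n5650 = n4408 := (((F15297).symm.trans (sb E5408 D5650))).symm
theorem E5644 : n2127 = n1042 := ((((iv D2125)).symm.trans (sb E5409 (iv F4348)))).symm
theorem E5645 : n5757 = n4430 := (((D4430).symm.trans (sb E5409 D5757))).symm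
theorem F16562 : act 5 n2125 = n2125 := (sb E5409 (iv F4349))
theorem E5646 : n2742 = n2740 := ((F15007).symm.trans (sb E5409 F14974))
theorem E5648 : n2149 = n1053 := (((D1053).symm.trans (sb E5410 (iv F3417)))).symm
theorem F16563 : act 5 n531 = n531 := (sb E5410 (iv D1054))
theorem E5649 : n1051 = n679 := (((iv F1831)).symm.trans (sb E5410 F14912))
theorem E5650 : n5958 = n4467 := (((D4467).symm.trans (sb E5411 D5958))).symm
theorem E5651 : n2819 = n2815 := ((F15023).symm.trans (sb E5411 F14980))
theorem F16565 : act 6 n1362 = n1052 := (sb E5412 (iv F14911))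
theorem E5652 : n1004 = n508 := ((D1004).symm.trans (sb E5413 (tr (iv D9503) E5513)))
theorem E5658 : n9415 = n4321 := (((D4321).symm.trans (sb E5416 D9415))).symm
theorem E5659 : n9417 = n4322 := (((D4322).symm.trans (sb E5416 D9417))).symm
theorem E5661 : n2559 = n2191 := ((D2559).symm.trans (sb E5519 F6950))
theorem E5662 : n4322 = n2519 := ((((iv F3977)).symm.trans (sb E5519 (tr (iv F14106) E5659)))).symm
theorem E5664 : n2515 = n1225 := (((E5580).symm.trans ((D1239).symm.trans (sb E5418 (iv F3968))))).symm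
theorem F16566 : act 0 n2192 = n2074 := (sb E5419 (iv D4320))
theorem E5665 : n8951 = n4556 := (((D4556).symm.trans (sb E5419 D8951))).symm
theorem F16567 : act 6 n2192 = n2180 := (sb E5419 F6589)
theorem E5669 : n9013 = n2637 := (((D2637).symm.trans (sb E5421 (iv F15283)))).symm
theorem E5670 : n9511 = n2638 := (((D2638).symm.trans (sb E5421 (iv F14227)))).symm
theorem F16568 : act 2 n1083 = n641 := (sb E5422 (iv D1280))
theorem E5673 : n4336 = n2558 := (((D2558).symm.trans (sb E5423 D4336))).symm
theorem F16569 : act 6 n1242 = n2191 := (sb E5423 (iv F3482))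
theorem E5674 : n7853 = n3762 := (((iv F11686)).symm.trans (sb E5424 (tr F16062 E5424)))
theorem F16570 : act 1 n1941 = n1941 := (sb E5425 F6154)
theorem E5676 : n1940 = n952 := ((((iv D1941)).symm.trans (sb E5425 (iv D4053)))).symm
theorem E5677 : n8448 = n4057 := (((D4057).symm.trans (sb E5425 D8448))).symm
theorem E5679 : n1812 = n898 := ((D1812).symm.trans (sb E5427 (tr F15659 E5427)))
theorem E5680 : n1784 = n923 := (((iv F2898)).symm.trans (sb E5427 (iv D1871)))
theorem E5683 : n3697 = n466 := ((((iv F900)).symm.trans (sb E5430 (iv D7719)))).symm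
theorem E5685 : n3891 = n449 := ((((iv F872)).symm.trans (sb E5431 (iv D8147)))).symm
theorem E5686 : n1785 = n922 := ((D1785).symm.trans (sb E5432 (iv D1869)))
theorem F16571 : act 6 n5826 = n5945 := (sb E5435 F15972)
theorem F16572 : act 1 n261 = n261 := (sb E5442 (iv D513))
theorem E5691 : n1014 = n446 := ((((iv F869)).symm.trans (sb E5442 D1014))).symm
theorem E5692 : n1009 = n511 := ((((iv F981)).symm.trans (sb E5442 (iv F1772)))).symm
theorem E5693 : n999 = n127 := ((((iv D261)).symm.trans (sb E5442 (iv F1755)))).symm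
theorem E5694 : n4298 = n449 := ((((iv F872)).symm.trans (sb E5443 D4298))).symm
theorem E5695 : n4283 = n452 := ((((iv F877)).symm.trans (sb E5443 (iv F6529)))).symm
theorem E5696 : n1920 = n456 := (((D456).symm.trans (sb E5443 F15149))).symm
theorem E5697 : n3272 = n110 := ((((iv D231)).symm.trans (sb E5443 (iv F15361)))).symm
theorem E5709 : n5226 = n2074 := ((((iv F3298)).symm.trans (sb E5449 (iv F7966)))).symm
theorem F16573 : act 5 n1021 = n1242 := (sb E5449 F4036)
theorem F16574 : act 0 n1037 = n1314 := (sb E5450 (iv D2715))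
theorem E5710 : n5640 = n2117 := (((D2117).symm.trans (sb E5450 D5640))).symm
theorem E5721 : n5227 = n4556 := (((D4556).symm.trans (sb E5457 D5227))).symm
theorem F16575 : act 4 n2192 = n1314 := (sb E5457 F3975)
theorem F16576 : act 0 n657 = n657 := (sb E5464 F2197)
theorem E5723 : n2710 = n1313 := ((((iv F2201)).symm.trans (sb E5464 (iv F4229)))).symm
theorem E5724 : n655 = n332 := ((((iv D657)).symm.trans (sb E5464 (iv D1311)))).symm
theorem F16577 : act 6 n657 = n657 := (sb E5464 F2199)
theorem F16578 : act 0 n168 = n168 := (sb E5465 (iv D337))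
theorem E5726 : n9134 = n5641 := (((D5641).symm.trans (sb E5466 D9134))).symm
theorem F16579 : act 6 n2716 = n2243 := (sb E5466 F6727)
theorem E5734 : n587 = n299 := (((D299).symm.trans (sb E5472 (iv D1167)))).symm
theorem F16580 : act 1 n576 = n576 := (sb E5473 (iv D1147))
theorem E5739 : n2356 = n1148 := (((D1148).symm.trans (sb E5473 D2356))).symm
theorem E5740 : n2357 = n963 := ((((iv F1683)).symm.trans (sb E5473 D2357))).symm
theorem E5741 : n2358 = n602 := ((((iv F15742)).symm.trans (sb E5473 D2358))).symm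
theorem E5742 : n1934 = n949 := ((((iv F1666)).symm.trans (sb E5474 (iv F3099)))).symm
theorem E5743 : n1191 = n600 := (((D600).symm.trans (sb E5475 (iv F15808)))).symm
theorem E5745 : n6899 = n245 := ((((iv F494)).symm.trans (sb E5477 F15964))).symm
theorem E5748 : n1621 = n52 := ((((iv D119)).symm.trans (sb E5479 (iv D3344)))).symm
theorem E5750 : n5766 = n1152 := (((D1152).symm.trans (sb E5481 (iv F15945)))).symm
theorem E5754 : n2983 = n1180 := (((D1180).symm.trans (sb E5483 (iv F4634)))).symm
theorem E5755 : n2301 = n713 := ((((iv F1290)).symm.trans (sb E5483 F4521))).symm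
theorem E5756 : n2982 = n1181 := (((D1181).symm.trans (sb E5483 (iv F4633)))).symm
theorem E5761 : n5763 = n4728 := (((D4728).symm.trans (sb E5487 D5763))).symm
theorem F16581 : act 0 n2130 = n2768 := (sb E5488 F8730)
theorem F16582 : act 5 n2130 = n2775 := (sb E5488 F8731)
theorem E5763 : n5765 = n4730 := (((D4730).symm.trans (sb E5489 D5765))).symm
theorem E5764 : n2751 = n2259 := (((iv F4295)).symm.trans (sb E5489 F4353))
theorem E5765 : n4731 = n1419 := ((D4731).symm.trans (sb E5489 F4355))
theorem E5767 : n6898 = n892 := ((((iv D1801)).symm.trans (sb E5490 F15956))).symm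
theorem E5768 : n7786 = n3734 := (((D3734).symm.trans (sb E5490 (iv F15957)))).symm
theorem E5769 : n4024 = n4022 := (((iv F15885)).symm.trans (sb E5491 F15471))
theorem E5770 : n2837 = n2300 := (((iv F4439)).symm.trans (sb E5491 F4519))
theorem E5771 : n2428 = n1446 := (((iv F3809)).symm.trans (sb E5491 F4520))
theorem F16583 : act 2 n1121 = n1135 := (sb E5492 F2280)
theorem F16584 : act 6 n720 = n1135 := (sb E5493 (iv D2332))
theorem E5775 : n6846 = n885 := ((((iv F1582)).symm.trans (sb E5495 (iv F10289)))).symm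
theorem E5776 : n1808 = n900 := (((D900).symm.trans (sb E5495 F15065))).symm
theorem F16585 : act 1 n1815 = n2878 := (sb E5496 (iv F15482))
theorem E5777 : n1942 = n1810 := (((iv F3106)).symm.trans (sb E5496 F5752))
theorem F16586 : act 0 n5739 = n4439 := (sb E5497 F13733)
theorem F16587 : act 3 n5739 = n9135 := (sb E5497 F13735)
theorem E5778 : n9760 = n2778 := (((F8732).symm.trans (sb E5497 (iv F14594)))).symm
theorem F16588 : act 6 n5739 = n4717 := (sb E5497 F13734)
theorem F16589 : act 6 n1343 = n2272 := (sb E5498 (iv D4729))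
theorem E5790 : n9427 = n2182 := (((D2182).symm.trans (sb E5508 (iv F14124)))).symm
theorem E5791 : n9430 = n1235 := ((((iv F2095)).symm.trans (sb E5509 D9430))).symm
theorem E5792 : n4617 = n543 := (E5510).trans E5512
theorem E5794 : n1079 = n322 := (((iv F1867)).symm.trans (sb E5792 (tr (iv F14964) E5602)))
theorem E5795 : n1235 = n1071 := ((((iv F1856)).symm.trans (sb E5792 (tr (iv F14128) E5791)))).symm
theorem E5797 : n1261 = n1077 := ((((iv F1863)).symm.trans (sb E5512 (iv F2133)))).symm
theorem F16590 : act 1 n543 = n546 := (sb E5512 F1178)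
theorem E5799 : n1264 = n275 := ((((iv D543)).symm.trans (sb E5512 D1264))).symm
theorem E5802 : n2638 = n1030 := (((D1030).symm.trans (sb E5514 (tr D9511 E5670)))).symm
theorem E5808 : n4367 = n2637 := (((E5669).symm.trans ((D9013).symm.trans (sb E5521 F13541)))).symm
theorem E5811 : n4443 = n2770 := (((D2770).symm.trans (sb E5525 D4443))).symm
theorem E5812 : n4444 = n2771 := (((D2771).symm.trans (sb E5525 D4444))).symm
theorem E5813 : n4415 = n2718 := ((((iv F4238)).symm.trans (sb E5525 (iv F6730)))).symm
theorem E5814 : n2772 = n1046 := ((D2772).symm.trans (sb E5525 F3389))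
theorem E5815 : n4414 = n2719 := (((D2719).symm.trans (sb E5526 (iv F6729)))).symm
theorem F16591 : act 5 n1315 = n1037 := (sb E5526 (iv D2118))
theorem F16592 : act 6 n1315 = n2244 := (sb E5526 (iv F3555))
theorem E5816 : n4492 = n2870 := (((D2870).symm.trans (sb E5527 D4492))).symm
theorem E5817 : n1117 = n1060 := ((F14755).symm.trans (sb E5527 F3426))
theorem E5818 : n4493 = n2873 := (((D2873).symm.trans (sb E5528 D4493))).symm
theorem E5819 : n2874 = n1061 := ((D2874).symm.trans (sb E5528 F3427))
theorem F16593 : act 5 n535 = n693 := (sb E5529 (iv D1394))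
theorem F16594 : act 2 n1192 = n1192 := (sb E5530 (iv D2451))
theorem E5822 : n5083 = n2452 := (((D2452).symm.trans (sb E5530 D5083))).symm
theorem F16595 : act 1 n2360 = n2360 := (sb E5535 F7467)
theorem E5824 : n8437 = n4038 := ((((iv F6135)).symm.trans (sb E5536 (iv F12578)))).symm
theorem E5825 : n5074 = n2452 := ((((iv F3855)).symm.trans (sb E5537 (iv F15828)))).symm
theorem F16596 : act 5 n1933 = n1933 := (sb E5538 (iv D4039))
theorem F16597 : act 0 n1192 = n1192 := (sb E5539 F3847)
theorem F16598 : act 6 n1192 = n1192 := (sb E5539 (iv F15824))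
theorem F16599 : act 1 n8403 = n4834 := (sb E5546 (iv F15887))
theorem F16602 : act 0 n2980 = n2423 := (sb E5548 F7641)
theorem F16603 : act 1 n2980 = n5940 := (sb E5548 F15866)
theorem F16604 : act 6 n2980 = n2421 := (sb E5548 (iv D5023))
theorem F16605 : act 0 n3755 = n1946 := (sb E5549 F6158)
theorem E5830 : n4470 = n2148 := (((F5756).symm.trans (sb E5549 F15325))).symm
theorem E5831 : n7844 = n4066 := ((D7844).symm.trans (sb E5549 F16520))
theorem E5832 : n8454 = n7845 := (((D7845).symm.trans (sb E5549 (iv F12616)))).symm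
theorem F16606 : act 5 n3755 = n1941 := (sb E5549 (iv D4058))
theorem F16607 : act 6 n3755 = n3766 := (sb E5549 F6160)
theorem F16609 : act 0 n5966 = n4727 := (sb E5557 F14565)
theorem F16610 : act 4 n5966 = n4719 := (sb E5557 F14567)
theorem F16611 : act 5 n5966 = n4718 := (sb E5557 (iv D9743))
theorem F16612 : act 6 n5966 = n5754 := (sb E5557 (iv F16522))
theorem E5836 : n2601 = n562 := ((((iv D1121)).symm.trans (sb E5558 (iv D5401)))).symm
theorem F16613 : act 1 n1447 = n2876 := (sb E5561 (iv F15865))
theorem E5841 : n2926 = n1165 := (((F2370).symm.trans (sb E5561 F15697))).symm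
theorem E5842 : n4916 = n2925 := ((((iv F4573)).symm.trans (sb E5561 (iv F7497)))).symm
theorem F16614 : act 0 n2934 = n2872 := (sb E5562 F15617)
theorem E5843 : n2395 = n1422 := ((((iv D2934)).symm.trans (sb E5562 (iv D4968)))).symm
theorem F16615 : act 2 n2934 = n2876 := (sb E5562 F15618)
theorem E5845 : n4461 = n2823 := ((((iv F15556)).symm.trans (sb E5562 F7584))).symm
theorem F16616 : act 2 n5749 = n5990 := (sb E5563 F9164)
theorem F16617 : act 5 n5749 = n2918 := (sb E5563 (iv D6031))
theorem F16618 : act 0 n1440 = n2878 := (sb E5564 F9021)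
theorem F16619 : act 5 n1440 = n2876 := (sb E5564 (iv D5941))
theorem F16622 : act 6 n5827 = n2876 := (sb E5565 (iv D5942))
theorem F16623 : act 0 n5930 = n6062 := (sb E5566 (iv F16093))
theorem E5846 : n7830 = n5840 := ((F16124).symm.trans (sb E5566 F13862))
theorem F16624 : act 0 n5745 = n5990 := (sb E5567 (iv F16091))
theorem E5847 : n7784 = n5697 := ((F15962).symm.trans (sb E5567 F13751))
theorem E5848 : n3769 = n1807 := (((iv F5771)).symm.trans (sb E5568 (iv D3748)))
theorem F16625 : act 2 n2824 = n2878 := (sb E5568 F15586)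
theorem F16626 : act 5 n2824 = n2872 := (sb E5568 F15587)
theorem E5849 : n2142 = n1366 := ((((iv D2824)).symm.trans (sb E5568 F5750))).symm
theorem F16627 : act 1 n5835 = n4018 := (sb E5569 F15906)
theorem F16628 : act 2 n5835 = n2879 := (sb E5569 F9015)
theorem F16629 : act 6 n5835 = n2872 := (sb E5569 (iv D5932))
theorem F16630 : act 0 n5751 = n2918 := (sb E5571 (iv D6030))
theorem E5851 : n9156 = n5690 := (((iv F15961)).symm.trans (sb E5571 F15548))
theorem F16631 : act 1 n5752 = n9747 := (sb E5572 (iv F14573))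
theorem F16632 : act 5 n5752 = n6023 := (sb E5572 (iv F15845))
theorem E5852 : n2144 = n1363 := ((((iv D2817)).symm.trans (sb E5573 F6811))).symm
theorem F16633 : act 6 n2817 = n2878 := (sb E5573 F15588)
theorem F16635 : act 5 n5753 = n4439 := (sb E5575 (iv D9182))
theorem F16636 : act 6 n5753 = n9742 := (sb E5575 (iv F14564))
theorem F16637 : act 0 n317 = n317 := (sb E5576 (iv D622))
theorem E5853 : n1223 = n616 := ((((iv F1148)).symm.trans (sb E5576 (iv F2072)))).symm
theorem E5854 : n5297 = n2517 := ((((iv F3972)).symm.trans (sb E5582 D5297))).symm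
theorem F16638 : act 5 n317 = n623 := (sb E5579 (iv D1240))
theorem F16639 : act 1 n1225 = n2192 := (sb E5580 (iv F3483))
theorem E5858 : n2551 = n2517 := ((((iv F3972)).symm.trans (sb E5580 D2551))).symm
theorem F16640 : act 3 n1225 = n623 := (sb E5580 (iv D1239))
theorem F16641 : act 2 n1074 = n625 := (sb E5584 (iv D1243))
theorem E5867 : n9424 = n2520 := (((D2520).symm.trans (sb E5586 (iv F14117)))).symm
theorem F16642 : act 5 n1226 = n2192 := (sb E5586 (iv D4558))
theorem E5868 : n2521 = n2182 := ((D2521).symm.trans (sb E5586 (tr D9427 E5790)))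
theorem F16643 : act 6 n1074 = n625 := (sb E5587 (iv D1244))
theorem E5883 : n5382 = n282 := (((D282).symm.trans (sb E5605 (iv F8234)))).symm
theorem E5884 : n5383 = n283 := (((D283).symm.trans (sb E5605 D5383))).symm
theorem E5901 : n4659 = n331 := ((((iv F642)).symm.trans (sb E5615 F14993))).symm
theorem E5903 : n1103 = n336 := (((D336).symm.trans (sb E5616 (iv D2261)))).symm
theorem E5905 : n530 = n343 := (((D343).symm.trans (sb E5618 F1052))).symm
theorem E5906 : n1122 = n344 := (((D344).symm.trans (sb E5618 (iv F1924)))).symm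
theorem F16644 : act 5 n172 = n284 := (sb E5618 (iv D563))
theorem E5909 : n2722 = n2246 := (((D2246).symm.trans (sb E5621 (iv D5655)))).symm
theorem E5910 : n1308 = n1094 := (((iv F2192)).symm.trans (sb E5622 F2205))
theorem F16645 : act 6 n1097 = n658 := (sb E5622 (iv D1317))
theorem E5911 : n1328 = n1100 := ((((iv F1893)).symm.trans (sb E5623 (iv F2223)))).symm
theorem F16646 : act 1 n554 = n557 := (sb E5623 F1223)
theorem E5912 : n1330 = n1102 := ((((iv F1897)).symm.trans (sb E5623 (iv F2227)))).symm
theorem E5913 : n1331 = n280 := ((((iv D554)).symm.trans (sb E5623 D1331))).symm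
theorem E5914 : n1368 = n1116 := ((((iv F1918)).symm.trans (sb E5624 (iv F2276)))).symm
theorem E5915 : n678 = n282 := ((((iv D560)).symm.trans (sb E5624 F1244))).symm
theorem E5916 : n1372 = n1120 := ((((iv F1921)).symm.trans (sb E5625 (iv F2279)))).symm
theorem E5917 : n1374 = n283 := ((((iv D562)).symm.trans (sb E5625 D1374))).symm
theorem E5918 : n676 = n268 := ((((iv F539)).symm.trans (sb E5626 F1248))).symm
theorem E5919 : n4331 = n2079 := ((((iv D4329)).symm.trans (sb E5636 (iv F8144)))).symm
theorem F16647 : act 5 n4329 = n4329 := (sb E5636 (iv F8145))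
theorem E5920 : n5271 = n5269 := ((F15125).symm.trans (sb E5636 F15068))
theorem E5922 : n4355 = n2090 := (((D2090).symm.trans (sb E5637 (iv F6648)))).symm
theorem F16648 : act 5 n1026 = n1026 := (sb E5637 (iv D2091))
theorem E5923 : n2088 = n1259 := (((iv F3326)).symm.trans (sb E5637 F14990))
theorem F16649 : act 5 n4353 = n4353 := (sb E5638 F8358)
theorem E5924 : n5391 = n5387 := ((F15124).symm.trans (sb E5638 F15067))
theorem F16650 : act 6 n2593 = n2089 := (sb E5639 (iv F14989))
theorem F16651 : act 2 n4664 = n4664 := (sb E5640 F14372)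
theorem E5925 : n4410 = n2115 := ((((iv D4408)).symm.trans (sb E5643 (iv F8542)))).symm
theorem F16652 : act 5 n4408 = n4408 := (sb E5643 (iv F8543))
theorem E5926 : n5602 = n5600 := ((F15143).symm.trans (sb E5643 F15096))
theorem E5928 : n4432 = n2126 := (((D2126).symm.trans (sb E5644 (iv F6761)))).symm
theorem F16653 : act 5 n1042 = n1042 := (sb E5644 (iv D2127))
theorem E5929 : n2124 = n1326 := (((iv F3376)).symm.trans (sb E5644 F15008))
theorem E5930 : n5692 = n5688 := ((F15142).symm.trans (sb E5645 F15102))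
theorem F16655 : act 6 n2740 = n2125 := (sb E5646 (iv F15007))
theorem F16656 : act 5 n1053 = n1053 := (sb E5648 (iv D2149))
theorem F16657 : act 5 n679 = n1362 := (sb E5649 (iv F14807))
theorem F16658 : act 6 n679 = n531 := (sb E5649 F1831)
theorem E5932 : n5830 = n5823 := ((F15154).symm.trans (sb E5650 (iv F15019)))
theorem F16660 : act 6 n2815 = n2147 := (sb E5651 (iv F15023))
theorem F16661 : act 1 n508 = n508 := (sb E5652 (iv D1004))
theorem E5935 : n2037 = n1002 := ((((iv F1763)).symm.trans (sb E5652 (iv F3253)))).symm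
theorem E5936 : n2019 = n258 := ((((iv D508)).symm.trans (sb E5652 (iv F3227)))).symm
theorem E5938 : n9365 = n8952 := (((D8952).symm.trans (sb E5658 F14102))).symm
theorem F16662 : act 2 n2191 = n1242 := (sb E5661 (iv D2559))
theorem E5941 : n8954 = n5229 := (((D5229).symm.trans (sb E5662 D8954))).symm
theorem E5942 : n8953 = n5230 := (((D5230).symm.trans (sb E5662 (iv F13409)))).symm
theorem F16663 : act 6 n2519 = n4530 := (sb E5662 (iv F6913))
theorem F16664 : act 0 n1225 = n1225 := (sb E5664 F3967)
theorem E5943 : n5220 = n2517 := ((((iv F3972)).symm.trans (sb E5664 (iv F7956)))).symm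
theorem F16665 : act 6 n1225 = n1225 := (sb E5664 F3970)
theorem F16666 : act 0 n4556 = n4321 := (sb E5665 F13405)
theorem F16667 : act 6 n4556 = n4529 := (sb E5665 F13407)
theorem E5947 : n5471 = n4353 := ((D5471).symm.trans (sb E5669 (iv D9013)))
theorem E5951 : n8984 = n5317 := (((D5317).symm.trans (sb E5673 D8984))).symm
theorem E5952 : n8985 = n5318 := (((D5318).symm.trans (sb E5673 D8985))).symm
theorem E5953 : n5319 = n2083 := ((D5319).symm.trans (sb E5673 F6620))
theorem F16668 : act 2 n3762 = n3762 := (sb E5674 F11686)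
theorem F16669 : act 6 n3762 = n3762 := (sb E5674 F11687)
theorem F16670 : act 1 n952 = n952 := (sb E5676 (iv D1940))
theorem E5954 : n1811 = n479 := ((((iv D952)).symm.trans (sb E5676 F15155))).symm
theorem E5955 : n3972 = n1904 := ((((iv F3065)).symm.trans (sb E5676 (iv F6058)))).symm
theorem F16671 : act 1 n4057 = n4057 := (sb E5677 F12602)
theorem F16672 : act 1 n898 = n898 := (sb E5679 (iv D1812))
theorem E5958 : n3696 = n923 := (((E5680).symm.trans (((iv F2898)).symm.trans (sb E5679 (iv F5680))))).symm
theorem E5959 : n3731 = n1800 := ((((iv F2922)).symm.trans (sb E5679 (iv F5727)))).symm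
theorem E5960 : n3749 = n957 := ((((iv F1675)).symm.trans (sb E5679 F15214))).symm
theorem F16673 : act 0 n923 = n885 := (sb E5680 (iv D1784))
theorem F16674 : act 3 n923 = n898 := (sb E5680 F2898)
theorem E5961 : n3684 = n1855 := ((((iv F3001)).symm.trans (sb E5680 (iv F5664)))).symm
theorem E5962 : n1874 = n1872 := (((D1872).symm.trans (sb E5680 (iv F3028)))).symm
theorem E5967 : n7688 = n916 := ((((iv F1629)).symm.trans (sb E5683 (iv F11438)))).symm
theorem E5968 : n3899 = n924 := (((D924).symm.trans (sb E5683 (iv F5962)))).symm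
theorem E5970 : n8139 = n874 := ((((iv F1565)).symm.trans (sb E5685 (iv F12146)))).symm
theorem E5974 : n3649 = n1868 := (((D1868).symm.trans (sb E5686 (iv F5602)))).symm
theorem F16675 : act 2 n922 = n885 := (sb E5686 (iv D1785))
theorem E5975 : n3685 = n1854 := ((((iv F3000)).symm.trans (sb E5686 (iv F5666)))).symm
theorem E5976 : n3699 = n1870 := (((D1870).symm.trans (sb E5686 D3699))).symm
theorem F16676 : act 6 n922 = n923 := (sb E5686 F2900)
theorem E5982 : n1770 = n879 := (((D879).symm.trans (sb E5691 (iv F11700)))).symm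
theorem F16677 : act 1 n511 = n511 := (sb E5692 (iv D1009))
theorem E5986 : n2049 = n1007 := ((((iv F1770)).symm.trans (sb E5692 (iv F3267)))).symm
theorem E5987 : n2025 = n259 := ((((iv D511)).symm.trans (sb E5692 (iv F3239)))).symm
theorem E5988 : n505 = n257 := (((D257).symm.trans (sb E5693 (iv D999)))).symm
theorem E5990 : n8907 = n882 := ((((iv F1577)).symm.trans (sb E5694 D8907))).symm
theorem E5991 : n3871 = n886 := (((D886).symm.trans (sb E5694 F15311))).symm
theorem E5992 : n6729 = n228 := ((((iv D449)).symm.trans (sb E5694 (iv F15478)))).symm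
theorem E5993 : n8886 = n889 := ((((iv F1589)).symm.trans (sb E5695 D8886))).symm
theorem E5994 : n3952 = n893 := (((D893).symm.trans (sb E5695 F15312))).symm
theorem E5995 : n6764 = n229 := ((((iv D452)).symm.trans (sb E5695 (iv F15481)))).symm
theorem E5996 : n943 = n901 := (((D901).symm.trans (sb E5696 (iv D1920)))).symm
theorem E5998 : n1588 = n49 := ((((iv D110)).symm.trans (sb E5697 (iv D3272)))).symm
theorem F16678 : act 5 n2074 = n2519 := (sb E5709 F7968)
theorem F16679 : act 0 n2117 = n2716 := (sb E5710 F8528)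
theorem F16680 : act 4 n4556 = n2716 := (sb E5721 F7969)
theorem F16681 : act 0 n1313 = n1313 := (sb E5723 F4228)
theorem E6020 : n5629 = n2713 := ((((iv F4233)).symm.trans (sb E5723 (iv F8519)))).symm
theorem E6021 : n1310 = n656 := ((((iv D1313)).symm.trans (sb E5723 (iv D2710)))).symm
theorem F16682 : act 6 n1313 = n1313 := (sb E5723 F4230)
theorem F16683 : act 0 n332 = n332 := (sb E5724 (iv D655))
theorem F16684 : act 0 n5641 = n4413 := (sb E5726 F13662)
theorem F16685 : act 2 n5641 = n9180 := (sb E5726 (iv F13740))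
theorem F16686 : act 6 n5641 = n4665 := (sb E5726 F13663)
theorem F16687 : act 2 n299 = n299 := (sb E5734 (iv D587))
theorem E6032 : n1146 = n575 := ((((iv F1077)).symm.trans (sb E5734 (iv F1951)))).symm
theorem E6033 : n415 = n210 := (((F586).symm.trans (sb E5734 F1098))).symm
theorem F16688 : act 1 n1148 = n1148 := (sb E5739 F3719)
theorem E6043 : n4895 = n1963 := ((((iv F3129)).symm.trans (sb E5739 D4895))).symm
theorem E6044 : n4896 = n1198 := ((((iv F15755)).symm.trans (sb E5739 D4896))).symm
theorem E6045 : n3966 = n1901 := ((((iv F3059)).symm.trans (sb E5740 (iv F6048)))).symm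
theorem E6046 : n2448 = n1193 := ((((iv F2012)).symm.trans (sb E5741 (iv F15821)))).symm
theorem E6047 : n4035 = n1931 := ((((iv F3095)).symm.trans (sb E5742 (iv F6132)))).symm
theorem E6048 : n950 = n478 := ((((iv D949)).symm.trans (sb E5742 F3100))).symm
theorem F16689 : act 5 n949 = n949 := (sb E5742 (iv D1934))
theorem F16690 : act 0 n600 = n600 := (sb E5743 (iv D1191))
theorem E6050 : n2449 = n1194 := (((D1194).symm.trans (sb E5743 D2449))).symm
theorem F16691 : act 6 n600 = n600 := (sb E5743 (iv F15819))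
theorem E6052 : n3322 = n116 := ((((iv D245)).symm.trans (sb E5745 (iv D6899)))).symm
theorem E6054 : n808 = n99 := ((((iv F209)).symm.trans (sb E5748 F2662))).symm
theorem E6057 : n6045 = n2367 := (((D2367).symm.trans (sb E5750 (iv F9180)))).symm
theorem E6058 : n4700 = n1412 := ((((iv F2327)).symm.trans (sb E5750 F8782))).symm
theorem E6059 : n6044 = n2368 := (((D2368).symm.trans (sb E5750 (iv F9179)))).symm
theorem E6063 : n2394 = n1432 := ((((iv F2354)).symm.trans (sb E5754 F4635))).symm
theorem F16692 : act 6 n1180 = n1447 := (sb E5754 (iv D2983))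
theorem E6064 : n4776 = n1431 := ((((iv F2353)).symm.trans (sb E5755 (iv F7287)))).symm
theorem F16693 : act 5 n713 = n1121 := (sb E5755 (iv D2301))
theorem E6065 : n2392 = n1433 := (((D1433).symm.trans (sb E5755 (iv F3766)))).symm
theorem F16694 : act 0 n1181 = n1447 := (sb E5756 F4631)
theorem E6072 : n9765 = n2923 := ((D9765).symm.trans (sb E5761 F8775))
theorem E6073 : n8295 = n8293 := (((iv F15886)).symm.trans (sb E5763 F16077))
theorem E6074 : n5710 = n4699 := (((iv F8662)).symm.trans (sb E5763 F8779))
theorem E6075 : n4918 = n2924 := (((iv F7504)).symm.trans (sb E5763 F8781))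
theorem F16695 : act 2 n2259 = n2273 := (sb E5764 F4295)
theorem F16696 : act 6 n1419 = n2273 := (sb E5765 (iv D4731))
theorem E6078 : n3727 = n1802 := (((D1802).symm.trans (sb E5767 F15204))).symm
theorem F16697 : act 1 n3734 = n5751 := (sb E5768 (iv F15958))
theorem E6079 : n3974 = n3729 := (((iv F6063)).symm.trans (sb E5768 F11565))
theorem F16698 : act 1 n4022 = n2331 := (sb E5769 F15885)
theorem E6080 : n1928 = n1926 := ((((iv D4022)).symm.trans (sb E5769 F6128))).symm
theorem F16699 : act 2 n2300 = n2331 := (sb E5770 F4439)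
theorem E6082 : n5865 = n4774 := ((((iv F7284)).symm.trans (sb E5770 (iv F8933)))).symm
theorem E6083 : n2954 = n1164 := (((F3647).symm.trans (sb E5770 (iv F4603)))).symm
theorem E6084 : n5038 = n2981 := (((D2981).symm.trans (sb E5771 D5038))).symm
theorem F16700 : act 5 n1446 = n1181 := (sb E5771 (iv D2428))
theorem F16701 : act 6 n1446 = n2331 := (sb E5771 F3809)
theorem E6089 : n3692 = n1786 := (((D1786).symm.trans (sb E5775 F15202))).symm
theorem E6090 : n1816 = n896 := ((D1816).symm.trans (sb E5776 (iv D1808)))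
theorem E6091 : n953 = n897 := (((iv F1670)).symm.trans (sb E5776 F2934))
theorem F16702 : act 0 n1810 = n955 := (sb E5777 F3104)
theorem F16703 : act 5 n1810 = n952 := (sb E5777 (iv D1942))
theorem F16704 : act 6 n1810 = n1815 := (sb E5777 F3106)
theorem F16705 : act 6 n2778 = n4726 := (sb E5778 (iv D9760))
theorem E6092 : n1025 = n632 := (((D632).symm.trans (sb E5794 (iv F14725)))).symm
theorem F16706 : act 2 n322 = n543 := (sb E5794 F1867)
theorem E6093 : n2187 = n621 := ((((iv F1160)).symm.trans (sb E5794 (iv F3473)))).symm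
theorem F16707 : act 5 n322 = n543 := (sb E5794 (iv F14734))
theorem E6094 : n631 = n542 := (((iv F1176)).symm.trans (sb E5794 (iv D1079)))
theorem F16708 : act 1 n1071 = n1074 := (sb E5795 F2095)
theorem E6097 : n2512 = n2179 := ((((iv F3458)).symm.trans (sb E5795 (iv F3960)))).symm
theorem E6098 : n2542 = n539 := ((((iv D1071)).symm.trans (sb E5795 D2542))).symm
theorem E6099 : n2202 = n2097 := ((D2202).symm.trans (sb E5797 (iv F15122)))
theorem E6100 : n2599 = n632 := (((E6092).symm.trans (((iv F14726)).symm.trans (sb E5797 (iv F4096))))).symm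
theorem E6103 : n1256 = n517 := ((((iv F989)).symm.trans (sb E5799 F2139))).symm
theorem E6104 : n5473 = n2098 := (((D2098).symm.trans (sb E5802 (iv F8349)))).symm
theorem F16709 : act 5 n1030 = n1279 := (sb E5802 (iv D2638))
theorem E6109 : n9038 = n5472 := (((D5472).symm.trans (sb E5808 D9038))).symm
theorem E6110 : n9188 = n5743 := (((D5743).symm.trans (sb E5811 D9188))).symm
theorem E6111 : n9139 = n5643 := ((((iv F8533)).symm.trans (sb E5811 (iv F13668)))).symm
theorem E6112 : n2255 = n2133 := ((F14795).symm.trans (sb E5811 F6782))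
theorem E6113 : n9189 = n5746 := (((D5746).symm.trans (sb E5812 D9189))).symm
theorem E6114 : n5747 = n2134 := ((D5747).symm.trans (sb E5812 F6784))
theorem E6115 : n9140 = n5644 := (((D5644).symm.trans (sb E5813 D9140))).symm
theorem E6116 : n5645 = n2119 := ((D5645).symm.trans (sb E5813 F6731))
theorem F16710 : act 5 n1046 = n1340 := (sb E5814 (iv D2772))
theorem E6118 : n9137 = n5648 := (((D5648).symm.trans (sb E5815 (iv F13666)))).symm
theorem F16711 : act 5 n2719 = n2117 := (sb E5815 (iv D4414))
theorem F16712 : act 6 n2719 = n4666 := (sb E5815 (iv F7098))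
theorem E6120 : n9280 = n5927 := (((D5927).symm.trans (sb E5816 D9280))).symm
theorem E6121 : n2293 = n2165 := ((F14806).symm.trans (sb E5816 F6847))
theorem F16713 : act 1 n1060 = n560 := (sb E5817 (iv D1117))
theorem F16714 : act 5 n1060 = n1392 := (sb E5817 (iv F14755))
theorem E6122 : n9281 = n5933 := (((D5933).symm.trans (sb E5818 D9281))).symm
theorem E6124 : n5935 = n2166 := ((D5935).symm.trans (sb E5818 F6848))
theorem E6125 : n1919 = n1818 := ((((iv F2943)).symm.trans (sb E5819 F15310))).symm
theorem F16715 : act 5 n1061 = n1393 := (sb E5819 (iv D2874))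
theorem F16716 : act 2 n2452 = n2452 := (sb E5822 F7736)
theorem F16718 : act 5 n4038 = n4038 := (sb E5824 (iv D8437))
theorem F16719 : act 0 n2452 = n2452 := (sb E5825 F7722)
theorem F16720 : act 6 n2452 = n2452 := (sb E5825 F15829)
theorem E6127 : n9237 = n4469 := (((D4469).symm.trans (sb E5830 (iv F13817)))).symm
theorem F16726 : act 6 n2148 = n2818 := (sb E5830 F15158)
theorem F16727 : act 2 n4066 = n3755 := (sb E5831 (iv D7844))
theorem F16728 : act 0 n7845 = n4064 := (sb E5832 F12615)
theorem F16729 : act 5 n7845 = n4057 := (sb E5832 (iv D8454))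
theorem F16730 : act 6 n7845 = n7867 := (sb E5832 F12617)
theorem E6129 : n2831 = n1116 := ((((iv F1917)).symm.trans (sb E5836 (iv F4429)))).symm
theorem E6130 : n2825 = n1120 := ((((iv F1921)).symm.trans (sb E5836 (iv F4421)))).symm
theorem E6135 : n2393 = n1420 := ((D2393).symm.trans (sb E5841 (iv D2926)))
theorem F16731 : act 1 n2925 = n5749 := (sb E5842 F15867)
theorem E6138 : n2928 = n1166 := (((iv F4575)).symm.trans (sb E5843 (iv D2395)))
theorem E6142 : n4969 = n2935 := (((D2935).symm.trans (sb E5843 D4969))).symm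
theorem E6144 : n5841 = n4763 := ((D5841).symm.trans (sb E5845 (iv F7266)))
theorem E6145 : n9213 = n5839 := ((((iv F8888)).symm.trans (sb E5845 (iv F13794)))).symm
theorem E6146 : n9157 = n5696 := ((((iv F8637)).symm.trans (sb E5845 (iv F13700)))).symm
theorem E6148 : n4458 = n2822 := ((((iv D5840)).symm.trans (sb E5846 F11654))).symm
theorem E6149 : n7805 = n3726 := (((iv F11600)).symm.trans (sb E5847 (iv D7784)))
theorem F16733 : act 2 n5697 = n5751 := (sb E5847 F15960)
theorem F16734 : act 5 n5697 = n5745 := (sb E5847 (iv F15962))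
theorem E6150 : n4425 = n2744 := ((((iv D5697)).symm.trans (sb E5847 F11561))).symm
theorem E6151 : n4079 = n1925 := ((((iv F3090)).symm.trans (sb E5848 (iv F15574)))).symm
theorem F16735 : act 1 n1807 = n2824 := (sb E5848 F5771)
theorem E6153 : n1050 = n680 := ((((iv D1366)).symm.trans (sb E5849 (iv D2142)))).symm
theorem E6156 : n4427 = n2741 := ((((iv D5690)).symm.trans (sb E5851 F13698))).symm
theorem F16736 : act 6 n5690 = n5751 := (sb E5851 F15961)
theorem F16737 : act 5 n1363 = n2815 := (sb E5852 (iv F14908))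
theorem F16738 : act 6 n1363 = n1053 := (sb E5852 F3409)
theorem F16739 : act 0 n616 = n616 := (sb E5853 (iv D1223))
theorem E6157 : n2514 = n1224 := (((D1224).symm.trans (sb E5853 D2514))).symm
theorem E6158 : n5224 = n5222 := (((iv F7964)).symm.trans (sb E5854 F8098))
theorem E6162 : n5304 = n5225 := (((D5225).symm.trans (sb E5858 D5304))).symm
theorem E6163 : n5305 = n5222 := (((E6158).symm.trans (((iv F7964)).symm.trans (sb E5858 D5305)))).symm
theorem F16740 : act 5 n2520 = n4556 := (sb E5867 (iv D9424))
theorem E6170 : n5233 = n4532 := ((((iv F6914)).symm.trans (sb E5868 (iv F7981)))).symm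
theorem F16741 : act 6 n2182 = n1226 := (sb E5868 (iv D2521))
theorem E6181 : n5815 = n559 := (((D559).symm.trans (sb E5883 (iv F8858)))).symm
theorem E6182 : n5812 = n561 := (((D561).symm.trans (sb E5884 (iv F8853)))).symm
theorem E6198 : n2241 = n654 := (((D654).symm.trans (sb E5901 (iv D4659)))).symm
theorem E6200 : n1041 = n662 := (((D662).symm.trans (sb E5903 F1899))).symm
theorem E6201 : n2260 = n663 := (((D663).symm.trans (sb E5903 (iv F3579)))).symm
theorem F16742 : act 5 n336 = n554 := (sb E5903 (iv D1103))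
theorem F16743 : act 5 n343 = n560 := (sb E5905 (iv F1049))
theorem E6204 : n2299 = n682 := (((D682).symm.trans (sb E5906 (iv F3645)))).symm
theorem F16744 : act 5 n344 = n562 := (sb E5906 (iv D1122))
theorem E6207 : n5654 = n4671 := (((D4671).symm.trans (sb E5909 D5654))).symm
theorem E6208 : n5653 = n4670 := ((((iv F7100)).symm.trans (sb E5909 (iv F8544)))).symm
theorem F16745 : act 6 n2246 = n1316 := (sb E5909 (iv D2722))
theorem E6209 : n2700 = n2238 := ((((iv F3544)).symm.trans (sb E5910 (iv F4214)))).symm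
theorem F16746 : act 1 n1094 = n1097 := (sb E5910 F2192)
theorem E6210 : n2702 = n2240 := ((((iv F3547)).symm.trans (sb E5910 (iv F4217)))).symm
theorem E6211 : n2703 = n550 := ((((iv D1094)).symm.trans (sb E5910 D2703))).symm
theorem E6212 : n2746 = n2254 := ((((iv F3569)).symm.trans (sb E5911 (iv F4286)))).symm
theorem E6213 : n1325 = n552 := ((((iv D1100)).symm.trans (sb E5911 F2225))).symm
theorem E6214 : n2750 = n2258 := ((((iv F3575)).symm.trans (sb E5912 (iv F4294)))).symm
theorem E6215 : n2752 = n553 := ((((iv D1102)).symm.trans (sb E5912 D2752))).symm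
theorem E6216 : n1323 = n524 := ((((iv F1002)).symm.trans (sb E5913 F2231))).symm
theorem E6217 : n2828 = n2291 := (((D2291).symm.trans (sb E5914 D2828))).symm
theorem E6218 : n2827 = n2290 := ((((iv F3626)).symm.trans (sb E5914 (iv F4424)))).symm
theorem E6219 : n1361 = n559 := ((((iv D1116)).symm.trans (sb E5914 F2277))).symm
theorem F16747 : act 5 n282 = n342 := (sb E5915 (iv D678))
theorem E6220 : n2833 = n2141 := ((((iv F14692)).symm.trans (sb E5916 (iv F4432)))).symm
theorem E6221 : n2834 = n2297 := ((((iv F3641)).symm.trans (sb E5916 (iv F4433)))).symm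
theorem E6224 : n1359 = n529 := ((((iv F1011)).symm.trans (sb E5917 F2284))).symm
theorem F16748 : act 0 n268 = n342 := (sb E5918 (iv D676))
theorem F16749 : act 6 n268 = n343 := (sb E5918 F1239)
theorem E6226 : n8973 = n4330 := (((D4330).symm.trans (sb E5919 (iv F13448)))).symm
theorem E6227 : n8949 = n4319 := ((((iv F6585)).symm.trans (sb E5919 (iv F13401)))).symm
theorem F16750 : act 5 n2079 = n2079 := (sb E5919 (iv D4331))
theorem E6228 : n4328 = n2537 := (((iv F6605)).symm.trans (sb E5919 F15128))
theorem F16751 : act 6 n5269 = n4329 := (sb E5920 (iv F15125))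
theorem F16752 : act 5 n2090 = n2090 := (sb E5922 (iv D4355))
theorem E6230 : n4350 = n2594 := (((iv F6640)).symm.trans (sb E5922 F15127))
theorem F16753 : act 5 n1259 = n2593 := (sb E5923 (iv F14830))
theorem F16754 : act 6 n1259 = n1026 := (sb E5923 F3326)
theorem F16755 : act 6 n5387 = n4353 := (sb E5924 (iv F15124))
theorem E6232 : n9128 = n4409 := (((D4409).symm.trans (sb E5925 (iv F13653)))).symm
theorem F16756 : act 5 n2115 = n2115 := (sb E5925 (iv D4410))
theorem E6233 : n4407 = n2698 := (((iv F6721)).symm.trans (sb E5925 F15146))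
theorem F16757 : act 6 n5600 = n4408 := (sb E5926 (iv F15143))
theorem E6235 : n9166 = n4431 := (((D4431).symm.trans (sb E5928 (iv F13713)))).symm
theorem F16758 : act 5 n2126 = n2126 := (sb E5928 (iv D4432))
theorem F16759 : act 5 n1326 = n2740 := (sb E5929 (iv F14893))
theorem F16760 : act 6 n1326 = n1042 := (sb E5929 F3376)
theorem F16761 : act 6 n5688 = n4430 := (sb E5930 (iv F15142))
theorem F16762 : act 5 n5823 = n2818 := (sb E5932 (iv D5830))
theorem F16764 : act 1 n1002 = n1002 := (sb E5935 (iv D2037))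
theorem E6240 : n4242 = n2035 := ((((iv F3250)).symm.trans (sb E5935 (iv F6462)))).symm
theorem E6241 : n4209 = n506 := ((((iv D1002)).symm.trans (sb E5935 (iv F6393)))).symm
theorem E6242 : n993 = n502 := ((((iv F964)).symm.trans (sb E5936 (iv D2019)))).symm
theorem F16765 : act 0 n8952 = n9422 := (sb E5938 (iv F14114))
theorem F16766 : act 2 n8952 = n4531 := (sb E5938 (iv D9365))
theorem F16767 : act 5 n5229 = n4323 := (sb E5941 F13413)
theorem F16768 : act 5 n5230 = n4321 := (sb E5942 (iv D8953))
theorem F16769 : act 6 n5230 = n9363 := (sb E5942 (iv F14007))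
theorem F16770 : act 0 n2517 = n2517 := (sb E5943 F7955)
theorem F16771 : act 6 n2517 = n2517 := (sb E5943 F7958)
theorem F16772 : act 1 n4353 = n2637 := (sb E5947 (iv D5471))
theorem E6244 : n4541 = n4337 := ((F14868).symm.trans (sb E5951 F13471))
theorem F16773 : act 5 n5318 = n4338 := (sb E5952 F13473)
theorem F16774 : act 5 n2083 = n2558 := (sb E5953 (iv D5319))
theorem E6245 : n1772 = n951 := (((D951).symm.trans (sb E5954 F2936))).symm
theorem F16775 : act 1 n1904 = n1904 := (sb E5955 (iv D3972))
theorem E6248 : n8319 = n3973 := (((D3973).symm.trans (sb E5955 D8319))).symm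
theorem E6251 : n7705 = n1872 := (((D1872).symm.trans (sb E5958 F15378))).symm
theorem F16776 : act 1 n1800 = n1800 := (sb E5959 (iv D3731))
theorem E6252 : n7767 = n3719 := ((((iv F5707)).symm.trans (sb E5959 (iv F11534)))).symm
theorem E6253 : n7785 = n1909 := ((((iv F3076)).symm.trans (sb E5959 F15381))).symm
theorem E6254 : n1932 = n948 := (((F15436).symm.trans (sb E5960 F15376))).symm
theorem F16777 : act 0 n1855 = n1778 := (sb E5961 (iv D3684))
theorem E6255 : n7675 = n3857 := (((D3857).symm.trans (sb E5961 (iv F11414)))).symm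
theorem E6256 : n3860 = n3858 := (((D3858).symm.trans (sb E5961 (iv F5920)))).symm
theorem F16778 : act 0 n1872 = n1786 := (sb E5962 F3026)
theorem E6257 : n3898 = n1865 := ((D3898).symm.trans (sb E5962 F15553))
theorem F16779 : act 3 n1872 = n957 := (sb E5962 F3027)
theorem E6258 : n8073 = n1856 := (((D1856).symm.trans (sb E5967 (iv F12066)))).symm
theorem E6259 : n8164 = n1873 := (((D1873).symm.trans (sb E5968 D8164))).symm
theorem F16780 : act 6 n924 = n1872 := (sb E5968 (iv D3899))
theorem E6260 : n3888 = n1761 := (((D1761).symm.trans (sb E5970 (iv D8139)))).symm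
theorem E6262 : n7605 = n3854 := ((((iv F5908)).symm.trans (sb E5974 (iv F11310)))).symm
theorem E6264 : n3650 = n1868 := ((F15529).symm.trans (sb E5974 (tr F15534 E5974)))
theorem F16781 : act 2 n1854 = n1778 := (sb E5975 (iv D3685))
theorem E6265 : n7689 = n3840 := ((((iv F5884)).symm.trans (sb E5975 D7689))).symm
theorem E6266 : n7690 = n3856 := (((D3856).symm.trans (sb E5975 D7690))).symm
theorem F16782 : act 6 n1854 = n1855 := (sb E5975 F5667)
theorem F16783 : act 2 n1870 = n1786 := (sb E5976 F5684)
theorem F16784 : act 0 n879 = n879 := (sb E5982 (iv D1770))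
theorem F16785 : act 2 n879 = n879 := (sb E5982 (iv F11701))
theorem E6268 : n3648 = n1761 := ((((iv F2865)).symm.trans (sb E5982 (iv F5601)))).symm
theorem E6269 : n3659 = n1766 := ((((iv F2872)).symm.trans (sb E5982 (iv F5617)))).symm
theorem F16786 : act 1 n1007 = n1007 := (sb E5986 (iv D2049))
theorem E6275 : n4274 = n2047 := ((((iv F3265)).symm.trans (sb E5986 D4274))).symm
theorem E6276 : n4223 = n509 := ((((iv D1007)).symm.trans (sb E5986 (iv F6417)))).symm
theorem E6277 : n996 = n503 := ((((iv F966)).symm.trans (sb E5987 (iv D2025)))).symm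
theorem F16787 : act 6 n257 = n257 := (sb E5988 (iv D505))
theorem E6280 : n8045 = n1779 := (((D1779).symm.trans (sb E5990 (iv F16084)))).symm
theorem E6281 : n1860 = n1787 := (((D1787).symm.trans (sb E5991 (iv D3871)))).symm
theorem E6283 : n3244 = n111 := (((F468).symm.trans (sb E5992 (iv D6729)))).symm
theorem E6285 : n8228 = n1795 := (((D1795).symm.trans (sb E5993 (iv F16081)))).symm
theorem E6286 : n1895 = n1803 := (((D1803).symm.trans (sb E5994 (iv D3952)))).symm
theorem E6288 : n3260 = n112 := (((F469).symm.trans (sb E5995 (iv D6764)))).symm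
theorem E6290 : n1817 = n477 := ((D1817).symm.trans (sb E5996 F1659))
theorem E6291 : n1819 = n475 := ((D1819).symm.trans (sb E5996 (iv D943)))
theorem E6293 : n792 = n96 := ((((iv F203)).symm.trans (sb E5998 (iv D1588)))).symm
theorem F16788 : act 0 n2713 = n2713 := (sb E6020 F8517)
theorem F16789 : act 2 n2713 = n2713 := (sb E6020 F8518)
theorem E6304 : n2709 = n1312 := ((((iv D2713)).symm.trans (sb E6020 (iv D5629)))).symm
theorem F16790 : act 6 n2713 = n2713 := (sb E6020 F8520)
theorem F16791 : act 0 n656 = n656 := (sb E6021 F2195)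
theorem F16792 : act 2 n575 = n575 := (sb E6032 (iv D1146))
theorem E6310 : n811 = n413 := (((F1078).symm.trans (sb E6032 F1952))).symm
theorem F16793 : act 2 n210 = n210 := (sb E6033 (iv D415))
theorem E6315 : n8310 = n3965 := ((((iv F6047)).symm.trans (sb E6043 (iv F12352)))).symm
theorem E6316 : n5077 = n2455 := ((((iv F3858)).symm.trans (sb E6044 (iv F15831)))).symm
theorem E6317 : n8306 = n3963 := ((((iv F6042)).symm.trans (sb E6045 (iv F12345)))).symm
theorem E6318 : n1902 = n936 := ((((iv D1901)).symm.trans (sb E6045 F6049))).symm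
theorem F16794 : act 5 n1901 = n1901 := (sb E6045 (iv D3966))
theorem E6319 : n8311 = n3959 := ((((iv F6038)).symm.trans (sb E6045 D8311))).symm
theorem F16795 : act 0 n1193 = n1193 := (sb E6046 F3848)
theorem E6320 : n5078 = n2456 := (((D2456).symm.trans (sb E6046 D5078))).symm
theorem F16796 : act 6 n1193 = n1193 := (sb E6046 (iv F15825))
theorem F16797 : act 5 n1931 = n1931 := (sb E6047 (iv D4035))
theorem E6322 : n1867 = n921 := ((((iv F1635)).symm.trans (sb E6048 (iv F3017)))).symm
theorem F16798 : act 5 n478 = n478 := (sb E6048 (iv D950))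
theorem E6323 : n1935 = n946 := ((((iv F1663)).symm.trans (sb E6048 D1935))).symm
theorem F16800 : act 0 n1194 = n1194 := (sb E6050 F3850)
theorem E6328 : n1612 = n208 := ((((iv F422)).symm.trans (sb E6052 F5146))).symm
theorem E6334 : n411 = n206 := ((((iv F418)).symm.trans (sb E6054 (iv D808)))).symm
theorem E6339 : n4880 = n2909 := ((((iv F4544)).symm.trans (sb E6057 F9181))).symm
theorem F16801 : act 6 n2367 = n2925 := (sb E6057 (iv D6045))
theorem E6340 : n9705 = n2908 := ((((iv F4543)).symm.trans (sb E6058 (iv F14493)))).symm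
theorem F16802 : act 5 n1412 = n2259 := (sb E6058 (iv D4700))
theorem E6341 : n4878 = n2910 := (((D2910).symm.trans (sb E6058 (iv F7432)))).symm
theorem F16803 : act 0 n2368 = n2925 := (sb E6059 F9176)
theorem E6344 : n4967 = n2952 := (((D2952).symm.trans (sb E6063 D4967))).symm
theorem E6345 : n4960 = n2949 := ((((iv F4596)).symm.trans (sb E6063 (iv F7568)))).symm
theorem F16804 : act 5 n1432 = n2300 := (sb E6063 F3770)
theorem F16805 : act 6 n1432 = n1165 := (sb E6063 (iv D2394))
theorem E6346 : n9831 = n2950 := (((D2950).symm.trans (sb E6064 (iv F16402)))).symm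
theorem E6347 : n9827 = n2948 := ((((iv F4595)).symm.trans (sb E6064 (iv F16396)))).symm
theorem F16806 : act 5 n1431 = n2298 := (sb E6064 (iv D4776))
theorem E6348 : n4956 = n2951 := (((D2951).symm.trans (sb E6064 (iv F7563)))).symm
theorem F16807 : act 0 n1433 = n1165 := (sb E6065 F3765)
theorem F16808 : act 6 n2923 = n4728 := (sb E6072 (iv D9765))
theorem F16809 : act 1 n8293 = n4730 := (sb E6073 F15886)
theorem E6354 : n3960 = n3958 := ((((iv D8293)).symm.trans (sb E6073 F12331))).symm
theorem F16810 : act 2 n4699 = n4730 := (sb E6074 F8662)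
theorem E6355 : n6013 = n2350 := (((F7158).symm.trans (sb E6074 (iv F9128)))).symm
theorem F16811 : act 5 n2924 = n2368 := (sb E6075 (iv D4918))
theorem F16812 : act 6 n2924 = n4730 := (sb E6075 F7504)
theorem E6356 : n3735 = n1798 := ((D3735).symm.trans (sb E6078 (iv D3727)))
theorem E6357 : n7763 = n3721 := ((((iv F5710)).symm.trans (sb E6078 (iv F11529)))).symm
theorem E6358 : n1905 = n1799 := (((iv F3068)).symm.trans (sb E6078 F5721))
theorem F16813 : act 0 n3729 = n1907 := (sb E6079 F6060)
theorem E6359 : n8323 = n7791 := (((D7791).symm.trans (sb E6079 (iv F12384)))).symm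
theorem F16814 : act 5 n3729 = n1904 := (sb E6079 (iv D3974))
theorem F16815 : act 6 n3729 = n3734 := (sb E6079 F6063)
theorem E6360 : n4025 = n1949 := ((((iv F15468)).symm.trans (sb E6080 D4025))).symm
theorem E6364 : n6100 = n2387 := (((F7285).symm.trans (sb E6082 (iv F9243)))).symm
theorem F16816 : act 5 n1164 = n1433 := (sb E6083 (iv D2954))
theorem E6366 : n6164 = n6115 := ((D6164).symm.trans (sb E6084 F15889))
theorem E6368 : n3700 = n1782 := ((D3700).symm.trans (sb E6089 (iv D3692)))
theorem E6369 : n7706 = n1870 := ((((iv F16783)).symm.trans (sb E6089 D7706))).symm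
theorem E6370 : n7683 = n3686 := ((((iv F5668)).symm.trans (sb E6089 (iv F11430)))).symm
theorem E6371 : n1870 = n1783 := (((iv F3022)).symm.trans (sb E6089 F5676))
theorem F16817 : act 1 n896 = n900 := (sb E6090 (iv D1816))
theorem F16818 : act 5 n896 = n901 := (sb E6090 F2942)
theorem F16819 : act 0 n897 = n481 := (sb E6091 F1669)
theorem F16820 : act 5 n897 = n479 := (sb E6091 (iv D953))
theorem F16821 : act 6 n897 = n900 := (sb E6091 F1670)
theorem F16822 : act 2 n632 = n1077 := (sb E6092 F14726)
theorem E6373 : n2078 = n1233 := ((((iv F2093)).symm.trans (sb E6092 (iv F3310)))).symm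
theorem F16823 : act 5 n632 = n1077 := (sb E6092 (iv F1865))
theorem F16824 : act 2 n621 = n1071 := (sb E6093 F3472)
theorem E6374 : n4527 = n1222 := ((((iv F2070)).symm.trans (sb E6093 (iv F14780)))).symm
theorem F16825 : act 5 n621 = n1071 := (sb E6093 (iv F14763))
theorem E6375 : n1232 = n1070 := (((iv F2092)).symm.trans (sb E6093 (iv D2187)))
theorem E6376 : n321 = n320 := (((F1025).symm.trans (sb E6094 (iv D631)))).symm
theorem F16826 : act 3 n542 = n342 := (sb E6094 F1175)
theorem F16827 : act 6 n542 = n322 := (sb E6094 F1176)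
theorem F16828 : act 1 n2179 = n2182 := (sb E6097 F3959)
theorem E6383 : n5213 = n1067 := ((((iv D2179)).symm.trans (sb E6097 D5213))).symm
theorem E6384 : n2534 = n1019 := ((((iv F1779)).symm.trans (sb E6098 F4016))).symm
theorem F16829 : act 1 n2097 = n1077 := (sb E6099 (iv D2202))
theorem E6385 : n4579 = n4370 := (((D4370).symm.trans (sb E6099 D4579))).symm
theorem F16830 : act 5 n2097 = n2636 := (sb E6099 (iv F14789))
theorem E6386 : n5399 = n1259 := (((D1259).symm.trans (sb E6100 D5399))).symm
theorem F16831 : act 6 n517 = n632 := (sb E6103 F2128)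
theorem F16832 : act 5 n2098 = n2637 := (sb E6104 (iv D5473))
theorem F16833 : act 5 n5472 = n4371 := (sb E6109 F13545)
theorem E6388 : n4691 = n4447 := ((F14891).symm.trans (sb E6110 F13755))
theorem E6389 : n4653 = n4416 := ((F14882).symm.trans (sb E6111 F13669))
theorem F16834 : act 1 n2133 = n1100 := (sb E6112 (iv D2255))
theorem F16835 : act 5 n2133 = n2770 := (sb E6112 (iv F14795))
theorem F16836 : act 5 n5746 = n4448 := (sb E6113 F13756)
theorem E6390 : n3951 = n3737 := ((((iv F5738)).symm.trans (sb E6114 F15441))).symm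
theorem F16837 : act 5 n2134 = n2771 := (sb E6114 (iv D5747))
theorem F16838 : act 5 n5644 = n4417 := (sb E6115 F13670)
theorem F16839 : act 5 n2119 = n2718 := (sb E6116 (iv D5645))
theorem F16840 : act 5 n5648 = n4413 := (sb E6118 (iv D9137))
theorem F16841 : act 6 n5648 = n9644 := (sb E6118 (iv F14389))
theorem E6391 : n4765 = n4497 := ((F14906).symm.trans (sb E6120 F13865))
theorem F16842 : act 5 n2165 = n2870 := (sb E6121 (iv F14806))
theorem F16843 : act 5 n5933 = n4498 := (sb E6122 F13866)
theorem E6393 : n4007 = n3774 := ((((iv F5779)).symm.trans (sb E6124 F15440))).symm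
theorem E6394 : n3772 = n945 := (((iv F5776)).symm.trans (sb E6125 F3083))
theorem F16846 : act 5 n1818 = n1807 := (sb E6125 F3085)
theorem E6395 : n3775 = n942 := ((D3775).symm.trans (sb E6125 (iv D1919)))
theorem F16850 : act 6 n4469 = n5829 := (sb E6127 (iv F16296))
theorem E6397 : n2290 = n1370 := (((iv F3626)).symm.trans (sb E6129 (iv D2831)))
theorem E6399 : n2141 = n1367 := (((iv F14692)).symm.trans (sb E6130 (iv D2825)))
theorem F16851 : act 1 n1420 = n1165 := (sb E6135 (iv D2393))
theorem E6401 : n4959 = n2927 := (((D2927).symm.trans (sb E6135 (iv F7565)))).symm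
theorem E6402 : n4879 = n2896 := ((((iv F4523)).symm.trans (sb E6135 (iv F7433)))).symm
theorem F16853 : act 0 n1166 = n1422 := (sb E6138 F4575)
theorem E6404 : n6052 = n2390 := ((((iv F3764)).symm.trans (sb E6138 (iv F9188)))).symm
theorem E6405 : n5984 = n2352 := ((((iv F3712)).symm.trans (sb E6138 (iv F9080)))).symm
theorem F16854 : act 5 n1166 = n1420 := (sb E6138 (iv D2928))
theorem E6409 : n9822 = n6067 := (((D6067).symm.trans (sb E6142 (iv F16387)))).symm
theorem F16855 : act 1 n4763 = n2823 := (sb E6144 (iv D5841))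
theorem F16856 : act 1 n5839 = n9820 := (sb E6145 (iv F16381))
theorem F16857 : act 1 n5696 = n9687 := (sb E6146 (iv F14462))
theorem E6413 : n9212 = n5837 := (((D5837).symm.trans (sb E6148 D9212))).symm
theorem F16859 : act 1 n3726 = n5697 := (sb E6149 F11600)
theorem E6417 : n2123 = n1327 := ((((iv D2744)).symm.trans (sb E6150 (iv D4425)))).symm
theorem E6419 : n6101 = n4020 := (((D4020).symm.trans (sb E6151 (iv F15897)))).symm
theorem F16860 : act 5 n680 = n1116 := (sb E6153 (iv F1919))
theorem E6422 : n9159 = n5691 := (((D5691).symm.trans (sb E6156 D9159))).symm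
theorem F16861 : act 5 n2741 = n5688 := (sb E6156 (iv F15003))
theorem F16862 : act 6 n2741 = n2126 := (sb E6156 F6753)
theorem F16863 : act 0 n1224 = n1224 := (sb E6157 F3964)
theorem E6424 : n5219 = n2516 := (((D2516).symm.trans (sb E6157 D5219))).symm
theorem F16864 : act 3 n5222 = n2517 := (sb E6158 F7964)
theorem F16865 : act 5 n5222 = n2516 := (sb E6158 (iv D5224))
theorem F16866 : act 2 n5225 = n9421 := (sb E6162 (iv F14113))
theorem F16867 : act 0 n5222 = n5222 := (sb E6163 F8110)
theorem F16868 : act 6 n4532 = n2520 := (sb E6170 (iv D5233))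
theorem E6442 : n2811 = n1115 := (((D1115).symm.trans (sb E6181 (iv D5815)))).symm
theorem E6443 : n2810 = n1049 := ((((iv F14684)).symm.trans (sb E6182 (iv D5812)))).symm
theorem E6455 : n2114 = n1306 := (((D1306).symm.trans (sb E6198 F3548))).symm
theorem E6456 : n4658 = n1307 := (((D1307).symm.trans (sb E6198 (iv F7088)))).symm
theorem F16869 : act 5 n654 = n1094 := (sb E6198 (iv D2241))
theorem F16870 : act 5 n662 = n1100 := (sb E6200 (iv F1895))
theorem E6459 : n4698 = n1329 := (((D1329).symm.trans (sb E6201 (iv F7155)))).symm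
theorem F16871 : act 5 n663 = n1102 := (sb E6201 (iv D2260))
theorem E6462 : n4773 = n1371 := (((D1371).symm.trans (sb E6204 (iv F7282)))).symm
theorem F16872 : act 5 n682 = n1120 := (sb E6204 (iv D2299))
theorem E6463 : n2138 = n1360 := ((((iv F2272)).symm.trans (sb E6204 F3646))).symm
theorem E6464 : n5611 = n4657 := (((iv F8491)).symm.trans (sb E6207 F8545))
theorem F16873 : act 6 n4670 = n2721 := (sb E6208 (iv D5653))
theorem E6465 : n5606 = n4652 := ((((iv F7083)).symm.trans (sb E6209 (iv F8485)))).symm
theorem E6466 : n2697 = n1092 := ((((iv D2238)).symm.trans (sb E6209 F4216))).symm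
theorem E6468 : n5612 = n1093 := ((((iv D2240)).symm.trans (sb E6210 D5612))).symm
theorem E6469 : n2695 = n1035 := ((((iv F1805)).symm.trans (sb E6211 F4220))).symm
theorem E6471 : n5700 = n4688 := ((((iv F7138)).symm.trans (sb E6212 (iv F8644)))).symm
theorem E6472 : n2739 = n1099 := ((((iv D2254)).symm.trans (sb E6212 F4288))).symm
theorem F16874 : act 5 n552 = n661 := (sb E6213 (iv D1325))
theorem E6475 : n5709 = n1101 := ((((iv D2258)).symm.trans (sb E6214 D5709))).symm
theorem E6477 : n2737 = n1040 := ((((iv F1816)).symm.trans (sb E6215 F4301))).symm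
theorem F16875 : act 0 n524 = n661 := (sb E6216 (iv D1323))
theorem F16876 : act 6 n524 = n662 := (sb E6216 F2215)
theorem E6478 : n5847 = n4760 := ((((iv F7264)).symm.trans (sb E6217 (iv F8904)))).symm
theorem E6480 : n2827 = n1370 := (E6218).trans E6397
theorem E6481 : n4760 = n2830 := (((D2830).symm.trans (sb E6480 (tr D5847 E6478)))).symm
theorem E6482 : n5846 = n2832 := (((D2832).symm.trans (sb E6480 (iv F8902)))).symm
theorem E6483 : n2833 = n1367 := (E6220).trans E6399
theorem E6484 : n2813 = n1115 := (((E6442).symm.trans (((iv F4403)).symm.trans (sb E6480 F4425)))).symm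
theorem F16877 : act 5 n559 = n677 := (sb E6219 (iv D1361))
theorem E6487 : n5860 = n2826 := (((D2826).symm.trans (sb E6483 (iv F8924)))).symm
theorem F16878 : act 5 n1367 = n1370 := (sb E6483 (iv D2833))
theorem E6488 : n4759 = n2832 := (((iv F7261)).symm.trans (sb E6221 (tr (iv F8901) E6482)))
theorem E6489 : n4457 = n2826 := (((iv F14699)).symm.trans (sb E6221 (tr (iv F8923) E6487)))
theorem F16879 : act 0 n529 = n677 := (sb E6224 F2269)
theorem F16880 : act 6 n529 = n680 := (sb E6224 F2270)
theorem F16881 : act 5 n4330 = n4330 := (sb E6226 (iv D8973))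
theorem E6495 : n8968 = n5270 := (((iv F13439)).symm.trans (sb E6226 (iv F16302)))
theorem F16882 : act 5 n4319 = n4319 := (sb E6227 (iv D8949))
theorem E6496 : n8946 = n5208 := (((iv F13396)).symm.trans (sb E6227 (iv F16228)))
theorem F16883 : act 5 n2537 = n5269 := (sb E6228 (iv F14945))
theorem F16884 : act 6 n2537 = n2079 := (sb E6228 F6605)
theorem F16886 : act 5 n2594 = n5387 := (sb E6230 (iv F14944))
theorem F16887 : act 6 n2594 = n2090 := (sb E6230 F6640)
theorem F16888 : act 5 n4409 = n4409 := (sb E6232 (iv D9128))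
theorem E6499 : n9123 = n5601 := (((iv F13646)).symm.trans (sb E6232 (iv F16298)))
theorem F16889 : act 5 n2698 = n5600 := (sb E6233 (iv F14994))
theorem F16890 : act 6 n2698 = n2115 := (sb E6233 F6721)
theorem F16891 : act 5 n4431 = n4431 := (sb E6235 (iv D9166))
theorem F16892 : act 1 n2035 = n2035 := (sb E6240 (iv D4242))
theorem E6509 : n8752 = n1000 := ((((iv D2035)).symm.trans (sb E6240 (iv F13072)))).symm
theorem E6510 : n2016 = n991 := ((((iv F1741)).symm.trans (sb E6241 (iv D4209)))).symm
theorem E6511 : n2013 = n990 := (((D990).symm.trans (sb E6242 (iv F3213)))).symm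
theorem F16893 : act 6 n502 = n502 := (sb E6242 (iv D993))
theorem F16894 : act 1 n4337 = n2185 := (sb E6244 (iv D4541))
theorem E6512 : n9389 = n8988 := (((D8988).symm.trans (sb E6244 D9389))).symm
theorem E6513 : n9350 = n8955 := ((((iv F13414)).symm.trans (sb E6244 (iv F13983)))).symm
theorem F16895 : act 5 n4337 = n5317 := (sb E6244 (iv F14868))
theorem F16896 : act 0 n951 = n951 := (sb E6245 (iv F15422))
theorem F16897 : act 2 n951 = n951 := (sb E6245 (iv F15423))
theorem E6514 : n3661 = n1903 := ((((iv F3063)).symm.trans (sb E6245 (iv F5620)))).symm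
theorem F16898 : act 5 n951 = n879 := (sb E6245 (iv D1772))
theorem F16899 : act 6 n951 = n951 := (sb E6245 (iv F15425))
theorem F16900 : act 1 n3973 = n3973 := (sb E6248 F12377)
theorem E6518 : n3883 = n1865 := (((E6257).symm.trans ((D3898).symm.trans (sb E6251 F15488)))).symm
theorem F16901 : act 1 n3719 = n3719 := (sb E6252 (iv D7767))
theorem E6519 : n3964 = n1900 := (((F15539).symm.trans (sb E6253 F15489))).symm
theorem F16902 : act 5 n948 = n948 := (sb E6254 (iv D1932))
theorem F16903 : act 0 n3857 = n3678 := (sb E6255 (iv D7675))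
theorem F16904 : act 4 n3857 = n3719 := (sb E6255 F11415)
theorem E6520 : n8071 = n8034 := ((D8071).symm.trans (sb E6255 (iv F12007)))
theorem F16905 : act 0 n3858 = n3686 := (sb E6256 F5918)
theorem E6521 : n8072 = n3851 := ((D8072).symm.trans (sb E6256 F15613))
theorem F16906 : act 1 n1865 = n1872 := (sb E6257 (iv D3898))
theorem F16907 : act 6 n1856 = n3858 := (sb E6258 (iv D8073))
theorem E6525 : n8126 = n3901 := (((D3901).symm.trans (sb E6259 (iv F16148)))).symm
theorem F16908 : act 2 n1761 = n1868 := (sb E6260 (iv D3888))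
theorem E6528 : n8062 = n3644 := ((((iv F5597)).symm.trans (sb E6260 (iv F12050)))).symm
theorem E6530 : n7606 = n3854 := (((iv F15528)).symm.trans (sb E6262 (tr F16061 E6262)))
theorem F16909 : act 0 n1868 = n1868 := (sb E6264 (iv F15530))
theorem F16910 : act 6 n1868 = n1868 := (sb E6264 (iv F15529))
theorem F16911 : act 6 n3840 = n3857 := (sb E6265 F11440)
theorem F16912 : act 2 n3856 = n3686 := (sb E6266 F11441)
theorem F16913 : act 0 n1761 = n1761 := (sb E6268 (iv D3648))
theorem E6531 : n7604 = n3644 := ((((iv F5597)).symm.trans (sb E6268 (iv F11308)))).symm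
theorem F16914 : act 5 n1761 = n1868 := (sb E6268 (iv F15531))
theorem F16915 : act 0 n1766 = n1766 := (sb E6269 (iv D3659))
theorem F16916 : act 2 n1766 = n1766 := (sb E6269 (iv F11704))
theorem E6532 : n7627 = n3655 := ((((iv F5609)).symm.trans (sb E6269 (iv F11334)))).symm
theorem E6540 : n8863 = n4269 := (((D4269).symm.trans (sb E6275 (iv F13243)))).symm
theorem E6543 : n2022 = n994 := ((((iv F1747)).symm.trans (sb E6276 (iv D4223)))).symm
theorem F16917 : act 6 n503 = n503 := (sb E6277 (iv D996))
theorem E6544 : n7706 = n1783 := (E6369).trans E6371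
theorem E6545 : n3846 = n3687 := (((D3687).symm.trans (sb E6280 (iv D8045)))).symm
theorem E6546 : n3701 = n920 := ((D3701).symm.trans (sb E6281 F3006))
theorem E6547 : n3702 = n1782 := ((D3702).symm.trans (sb E6281 F14924))
theorem E6548 : n3703 = n918 := ((D3703).symm.trans (sb E6281 (iv D1860)))
theorem E6550 : n1575 = n203 := ((((iv F412)).symm.trans (sb E6283 (iv D3244)))).symm
theorem E6555 : n3927 = n3722 := (((D3722).symm.trans (sb E6285 (iv D8228)))).symm
theorem E6556 : n3736 = n935 := ((D3736).symm.trans (sb E6286 F3047))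
theorem E6557 : n3738 = n933 := ((D3738).symm.trans (sb E6286 (iv D1895)))
theorem E6559 : n1582 = n204 := ((((iv F413)).symm.trans (sb E6288 (iv D3260)))).symm
theorem F16918 : act 0 n477 = n901 := (sb E6290 (iv D1817))
theorem E6564 : n1769 = n941 := (((D941).symm.trans (sb E6291 F2944))).symm
theorem F16919 : act 6 n475 = n901 := (sb E6291 (iv D1819))
theorem E6566 : n403 = n202 := (((D202).symm.trans (sb E6293 (iv D792)))).symm
theorem F16920 : act 0 n1312 = n1312 := (sb E6304 F4225)
theorem F16921 : act 2 n1312 = n1312 := (sb E6304 F4227)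
theorem E6570 : n5628 = n2712 := (((D2712).symm.trans (sb E6304 D5628))).symm
theorem F16922 : act 2 n413 = n413 := (sb E6310 (iv D811))
theorem F16923 : act 5 n3965 = n3965 := (sb E6315 (iv D8310))
theorem F16924 : act 0 n2455 = n2455 := (sb E6316 F7727)
theorem F16925 : act 6 n2455 = n2455 := (sb E6316 F15832)
theorem F16926 : act 5 n3963 = n3963 := (sb E6317 (iv D8306))
theorem E6586 : n3934 = n1888 := ((((iv F3040)).symm.trans (sb E6318 (iv F6000)))).symm
theorem F16927 : act 5 n936 = n936 := (sb E6318 (iv D1902))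
theorem E6587 : n3967 = n1898 := ((((iv F3054)).symm.trans (sb E6318 D3967))).symm
theorem F16928 : act 5 n3959 = n8293 := (sb E6319 F12357)
theorem F16929 : act 0 n2456 = n2456 := (sb E6320 F7728)
theorem E6588 : n3885 = n1866 := (((D1866).symm.trans (sb E6322 (iv F5947)))).symm
theorem E6589 : n3853 = n1853 := ((((iv F2999)).symm.trans (sb E6322 (iv F5907)))).symm
theorem F16930 : act 5 n921 = n921 := (sb E6322 (iv D1867))
theorem E6590 : n3886 = n1863 := ((((iv F3011)).symm.trans (sb E6322 D3886))).symm
theorem F16931 : act 5 n946 = n1926 := (sb E6323 F3102)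
theorem E6594 : n803 = n409 := ((((iv F797)).symm.trans (sb E6328 (iv D1612)))).symm
theorem F16932 : act 1 n206 = n206 := (sb E6334 (iv D411))
theorem E6599 : n798 = n406 := ((((iv F791)).symm.trans (sb E6334 (iv F1447)))).symm
theorem F16933 : act 5 n2909 = n4699 := (sb E6339 F7438)
theorem F16934 : act 6 n2909 = n2351 := (sb E6339 (iv D4880))
theorem F16935 : act 5 n2908 = n4697 := (sb E6340 (iv D9705))
theorem F16936 : act 0 n2910 = n2351 := (sb E6341 F7430)
theorem E6607 : n6103 = n4082 := ((D6103).symm.trans (sb E6344 F15187))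
theorem F16937 : act 5 n2949 = n4774 := (sb E6345 F7569)
theorem F16938 : act 6 n2949 = n2389 := (sb E6345 (iv D4960))
theorem F16939 : act 5 n2950 = n4775 := (sb E6346 (iv D9831))
theorem F16940 : act 5 n2948 = n4772 := (sb E6347 (iv D9827))
theorem F16941 : act 0 n2951 = n2389 := (sb E6348 F7561)
theorem E6611 : n8296 = n3981 := ((((iv F15564)).symm.trans (sb E6354 D8296))).symm
theorem F16942 : act 5 n2350 = n2910 := (sb E6355 (iv D6013))
theorem F16943 : act 1 n1798 = n1802 := (sb E6356 (iv D3735))
theorem E6614 : n7771 = n3717 := ((((iv F5705)).symm.trans (sb E6356 (iv F11539)))).symm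
theorem F16944 : act 5 n1798 = n1803 := (sb E6356 F5736)
theorem E6615 : n3937 = n3718 := (((iv F6005)).symm.trans (sb E6357 F11530))
theorem F16945 : act 0 n1799 = n939 := (sb E6358 F3066)
theorem F16946 : act 5 n1799 = n937 := (sb E6358 (iv D1905))
theorem F16947 : act 6 n1799 = n1802 := (sb E6358 F3068)
theorem F16948 : act 0 n7791 = n3978 := (sb E6359 F12383)
theorem F16949 : act 5 n7791 = n3973 := (sb E6359 (iv D8323))
theorem F16950 : act 6 n7791 = n7802 := (sb E6359 F12385)
theorem E6616 : n8112 = n3900 := ((((iv F5963)).symm.trans (sb E6360 (iv F15172)))).symm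
theorem E6617 : n1929 = n958 := (((F3113).symm.trans (sb E6360 F6129))).symm
theorem F16951 : act 5 n2387 = n2951 := (sb E6364 (iv D6100))
theorem F16953 : act 5 n6115 = n2981 := (sb E6366 (iv D6164))
theorem F16954 : act 1 n1782 = n1786 := (sb E6368 (iv D3700))
theorem F16955 : act 2 n1782 = n7725 := (sb E6368 D7725)
theorem E6624 : n7691 = n3682 := ((((iv F5662)).symm.trans (sb E6368 (iv F11443)))).symm
theorem F16956 : act 5 n1782 = n1787 := (sb E6368 F5686)
theorem F16957 : act 6 n1783 = n3694 := (sb E6544 F11461)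
theorem E6625 : n3856 = n3683 := (((iv F5913)).symm.trans (sb E6370 F11431))
theorem F16958 : act 0 n1783 = n924 := (sb E6371 F3020)
theorem E6626 : n3694 = n1786 := ((D3694).symm.trans (sb E6371 F16783))
theorem F16959 : act 5 n1783 = n922 := (sb E6371 (iv D1870))
theorem F16960 : act 2 n1233 = n2185 := (sb E6373 F14757)
theorem E6627 : n4318 = n2510 := ((((iv F3956)).symm.trans (sb E6373 (iv F6583)))).symm
theorem F16961 : act 5 n1233 = n2185 := (sb E6373 (iv F3470))
theorem E6628 : n9355 = n2511 := (((D2511).symm.trans (sb E6374 (iv F13989)))).symm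
theorem F16962 : act 5 n1222 = n2179 := (sb E6374 (iv D4527))
theorem E6629 : n2509 = n2186 := (((iv F3955)).symm.trans (sb E6374 F14781))
theorem E6630 : n620 = n619 := (((F1854).symm.trans (sb E6375 (iv D1232)))).symm
theorem F16963 : act 6 n1070 = n621 := (sb E6375 F2092)
theorem F16964 : act 3 n320 = n171 := (sb E6376 F629)
theorem F16965 : act 6 n320 = n159 := (sb E6376 (iv D321))
theorem E6632 : n5205 = n2072 := ((((iv F3294)).symm.trans (sb E6383 F7943))).symm
theorem F16966 : act 6 n1019 = n1233 := (sb E6384 F4002)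
theorem F16967 : act 5 n4370 = n5469 := (sb E6385 (iv F14876))
theorem E6634 : n9041 = n2594 := (((D2594).symm.trans (sb E6386 F16304))).symm
theorem E6635 : n9686 = n9192 := (((D9192).symm.trans (sb E6388 (iv F14460)))).symm
theorem F16968 : act 5 n4447 = n5743 := (sb E6388 (iv F14891))
theorem F16969 : act 1 n4416 = n2238 := (sb E6389 (iv D4653))
theorem F16970 : act 5 n4416 = n5643 := (sb E6389 (iv F14882))
theorem E6638 : n7808 = n1897 := (((iv F11608)).symm.trans (sb E6390 F6021))
theorem E6639 : n8277 = n7810 := (((D7810).symm.trans (sb E6390 (iv F12301)))).symm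
theorem F16971 : act 5 n3737 = n3726 := (sb E6390 F6024)
theorem E6640 : n7811 = n1894 := ((D7811).symm.trans (sb E6390 (iv D3951)))
theorem E6641 : n9821 = n9288 := ((((iv F13873)).symm.trans (sb E6391 (iv F16384)))).symm
theorem E6645 : n7877 = n1923 := (((iv F11755)).symm.trans (sb E6393 F6108))
theorem E6646 : n7878 = n4017 := ((D7878).symm.trans (sb E6393 F14732))
theorem E6647 : n8371 = n7879 := (((D7879).symm.trans (sb E6393 (iv F12481)))).symm
theorem F16975 : act 5 n3774 = n3747 := (sb E6393 F6110)
theorem E6648 : n7880 = n1918 := ((D7880).symm.trans (sb E6393 (iv D4007)))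
theorem F16976 : act 0 n945 = n1818 := (sb E6394 F5776)
theorem F16977 : act 6 n942 = n1818 := (sb E6395 (iv D3775))
theorem F16980 : act 2 n1367 = n1120 := (sb E6399 F14692)
theorem F16981 : act 1 n2927 = n2389 := (sb E6401 (iv D4959))
theorem F16982 : act 1 n2896 = n2351 := (sb E6402 (iv D4879))
theorem F16983 : act 2 n2896 = n2898 := (sb E6402 (iv F7435))
theorem F16985 : act 0 n2390 = n2932 := (sb E6404 F9187)
theorem F16986 : act 5 n2390 = n2927 := (sb E6404 (iv D6052))
theorem F16987 : act 0 n2352 = n2898 := (sb E6405 F9079)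
theorem F16988 : act 5 n2352 = n2896 := (sb E6405 (iv D5984))
theorem E6650 : n5992 = n4882 := (((D4882).symm.trans (sb E6405 (iv F9094)))).symm
theorem F16993 : act 6 n6067 = n4763 := (sb E6409 (iv D9822))
theorem F16995 : act 1 n5837 = n4775 := (sb E6413 (iv F16366))
theorem E6654 : n4424 = n2745 := (((D2745).symm.trans (sb E6417 (iv F6748)))).symm
theorem F16996 : act 5 n1327 = n2254 := (sb E6417 (iv F3571))
theorem F16997 : act 0 n4020 = n2952 := (sb E6419 (iv D6101))
theorem F16998 : act 6 n5691 = n4431 := (sb E6422 F13704)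
theorem F16999 : act 0 n2516 = n2516 := (sb E6424 F7953)
theorem E6658 : n5816 = n2289 := (((D2289).symm.trans (sb E6442 D5816))).symm
theorem F17000 : act 6 n1115 = n1370 := (sb E6442 F4403)
theorem E6659 : n5813 = n2140 := (((D2140).symm.trans (sb E6443 D5813))).symm
theorem F17001 : act 6 n1049 = n1367 := (sb E6443 F4402)
theorem E6664 : n4406 = n2699 := (((D2699).symm.trans (sb E6455 (iv F6719)))).symm
theorem F17002 : act 5 n1306 = n2238 := (sb E6455 (iv F3546))
theorem E6666 : n9624 = n2701 := (((D2701).symm.trans (sb E6456 (iv F14363)))).symm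
theorem F17003 : act 5 n1307 = n2240 := (sb E6456 (iv D4658))
theorem E6667 : n4404 = n2696 := ((((iv F4210)).symm.trans (sb E6456 F7089))).symm
theorem E6669 : n9700 = n2748 := (((D2748).symm.trans (sb E6459 (iv F14481)))).symm
theorem E6670 : n9702 = n2749 := (((D2749).symm.trans (sb E6459 (iv F14488)))).symm
theorem F17004 : act 5 n1329 = n2258 := (sb E6459 (iv D4698))
theorem F17005 : act 5 n1371 = n2297 := (sb E6462 (iv D4773))
theorem E6672 : n4452 = n2812 := ((((iv F4405)).symm.trans (sb E6462 F7283))).symm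
theorem F17006 : act 0 n1360 = n1049 := (sb E6463 F3402)
theorem F17007 : act 2 n1360 = n1115 := (sb E6463 F14678)
theorem F17008 : act 2 n4657 = n4671 := (sb E6464 F8491)
theorem E6673 : n5599 = n2237 := ((((iv D4652)).symm.trans (sb E6465 F8486))).symm
theorem F17009 : act 5 n1092 = n1305 := (sb E6466 (iv D2697))
theorem E6674 : n5597 = n2113 := ((((iv F3358)).symm.trans (sb E6468 F8494))).symm
theorem F17010 : act 0 n1035 = n1305 := (sb E6469 (iv D2695))
theorem F17011 : act 6 n1035 = n1306 := (sb E6469 F4209)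
theorem E6675 : n5686 = n2253 := ((((iv D4688)).symm.trans (sb E6471 F8645))).symm
theorem F17012 : act 5 n1099 = n1324 := (sb E6472 (iv D2739))
theorem E6677 : n5683 = n2122 := ((((iv F3372)).symm.trans (sb E6475 F8661))).symm
theorem F17013 : act 0 n1040 = n1324 := (sb E6477 F4271)
theorem F17014 : act 6 n1040 = n1327 := (sb E6477 F4273)
theorem E6679 : n9818 = n5852 := (((D5852).symm.trans (sb E6481 D9818))).symm
theorem E6682 : n9820 = n5855 := (((D5855).symm.trans (sb E6481 D9820))).symm
theorem E6683 : n9814 = n5856 := (((D5856).symm.trans (sb E6481 (iv F16373)))).symm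
theorem E6684 : n5818 = n2289 := (((E6658).symm.trans (((iv F8861)).symm.trans (sb E6482 F8903)))).symm
theorem F17016 : act 5 n1115 = n1360 := (sb E6484 (iv D2813))
theorem F17017 : act 5 n2826 = n2832 := (sb E6487 (iv D5860))
theorem E6686 : n9683 = n5859 := (((D5859).symm.trans (sb E6488 (iv F14455)))).symm
theorem F17019 : act 2 n2826 = n2297 := (sb E6489 F14699)
theorem E6687 : n9153 = n5699 := ((((iv F8642)).symm.trans (sb E6489 (iv F13694)))).symm
theorem F17020 : act 1 n5270 = n8988 := (sb E6495 (tr (iv F16348) E6512))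
theorem F17021 : act 6 n5270 = n4330 := (sb E6495 F13439)
theorem F17022 : act 6 n5208 = n4319 := (sb E6496 F13396)
theorem F17025 : act 6 n5601 = n4409 := (sb E6499 F13646)
theorem E6689 : n4206 = n2014 := ((((iv F3215)).symm.trans (sb E6509 (iv D8752)))).symm
theorem E6690 : n4200 = n2011 := ((((iv F3209)).symm.trans (sb E6510 (iv F6372)))).symm
theorem F17026 : act 6 n991 = n991 := (sb E6510 (iv D2016))
theorem E6691 : n4197 = n2010 := (((D2010).symm.trans (sb E6511 (iv F6365)))).symm
theorem F17027 : act 6 n990 = n990 := (sb E6511 (iv D2013))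
theorem F17028 : act 1 n8955 = n4524 := (sb E6513 (iv D9350))
theorem F17029 : act 0 n1903 = n1903 := (sb E6514 (iv F15517))
theorem F17030 : act 2 n1903 = n1903 := (sb E6514 (iv F15518))
theorem E6692 : n7629 = n3935 := ((((iv F6001)).symm.trans (sb E6514 (iv F11335)))).symm
theorem F17031 : act 5 n1903 = n1766 := (sb E6514 (iv D3661))
theorem F17032 : act 6 n1903 = n1903 := (sb E6514 (iv F15521))
theorem E6693 : n8128 = n3882 := (((D3882).symm.trans (sb E6518 (iv F12131)))).symm
theorem E6694 : n8057 = n3851 := ((((iv F5904)).symm.trans (sb E6518 (iv F12042)))).symm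
theorem F17033 : act 5 n1865 = n1865 := (sb E6518 (iv D3883))
theorem E6695 : n8240 = n3932 := ((((iv F5998)).symm.trans (sb E6519 (iv F12246)))).symm
theorem F17034 : act 5 n1900 = n1900 := (sb E6519 (iv D3964))
theorem F17035 : act 3 n8034 = n3858 := (sb E6520 F12061)
theorem F17036 : act 5 n8034 = n3857 := (sb E6520 (iv D8071))
theorem F17037 : act 1 n3851 = n3858 := (sb E6521 (iv D8072))
theorem F17038 : act 1 n3901 = n3882 := (sb E6525 (iv D8126))
theorem F17039 : act 2 n3644 = n3854 := (sb E6528 (iv D8062))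
theorem F17040 : act 0 n3854 = n3854 := (sb E6530 F15590)
theorem F17041 : act 6 n3854 = n3854 := (sb E6530 F15528)
theorem F17042 : act 0 n3644 = n3644 := (sb E6531 (iv D7604))
theorem F17043 : act 5 n3644 = n3854 := (sb E6531 F15533)
theorem F17044 : act 0 n3655 = n3655 := (sb E6532 (iv D7627))
theorem F17045 : act 2 n4269 = n4269 := (sb E6540 (iv D8863))
theorem E6698 : n4220 = n2020 := (((D2020).symm.trans (sb E6543 (iv F6410)))).symm
theorem F17046 : act 6 n994 = n994 := (sb E6543 (iv D2022))
theorem E6699 : n7692 = n1852 := ((D7692).symm.trans (sb E6545 F5894))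
theorem E6700 : n7693 = n3682 := ((D7693).symm.trans (sb E6545 F15038))
theorem E6701 : n8020 = n7678 := ((((iv F11421)).symm.trans (sb E6545 (iv F11973)))).symm
theorem E6702 : n7694 = n1850 := ((D7694).symm.trans (sb E6545 (iv D3846)))
theorem F17047 : act 0 n920 = n1787 := (sb E6546 (iv D3701))
theorem E6705 : n7725 = n1787 := ((F16955).symm.trans (sb E6547 (iv D3702)))
theorem E6708 : n3647 = n1858 := (((D1858).symm.trans (sb E6548 F5689))).symm
theorem F17048 : act 6 n918 = n1787 := (sb E6548 (iv D3703))
theorem E6711 : n786 = n400 := ((((iv F782)).symm.trans (sb E6550 (iv D1575)))).symm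
theorem E6717 : n7772 = n1887 := ((D7772).symm.trans (sb E6555 F5989))
theorem E6718 : n8227 = n7773 := (((D7773).symm.trans (sb E6555 (iv F12231)))).symm
theorem E6719 : n7774 = n1885 := ((D7774).symm.trans (sb E6555 (iv D3927)))
theorem F17049 : act 0 n935 = n1803 := (sb E6556 (iv D3736))
theorem E6721 : n3658 = n1893 := (((D1893).symm.trans (sb E6557 F5740))).symm
theorem F17050 : act 6 n933 = n1803 := (sb E6557 (iv D3738))
theorem E6724 : n789 = n401 := ((((iv F783)).symm.trans (sb E6559 (iv D1582)))).symm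
theorem F17051 : act 6 n941 = n878 := (sb E6564 (iv D1769))
theorem F17052 : act 6 n202 = n202 := (sb E6566 (iv D403))
theorem F17053 : act 0 n2712 = n2712 := (sb E6570 F8514)
theorem F17054 : act 2 n2712 = n2712 := (sb E6570 F8515)
theorem E6733 : n8242 = n3933 := (((D3933).symm.trans (sb E6586 (iv F12248)))).symm
theorem E6734 : n8027 = n3839 := ((((iv F5883)).symm.trans (sb E6586 (iv F11990)))).symm
theorem F17055 : act 5 n1888 = n1888 := (sb E6586 (iv D3934))
theorem E6735 : n8243 = n3930 := ((((iv F5994)).symm.trans (sb E6586 D8243))).symm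
theorem F17056 : act 5 n1898 = n3958 := (sb E6587 F6053)
theorem E6737 : n8059 = n3852 := ((((iv F5905)).symm.trans (sb E6588 (iv F12045)))).symm
theorem F17057 : act 5 n1866 = n1866 := (sb E6588 (iv D3885))
theorem E6738 : n8134 = n3878 := ((((iv F5939)).symm.trans (sb E6588 D8134))).symm
theorem F17058 : act 5 n1853 = n1853 := (sb E6589 (iv D3853))
theorem E6739 : n8060 = n3849 := ((((iv F5900)).symm.trans (sb E6589 D8060))).symm
theorem F17059 : act 5 n1863 = n3877 := (sb E6590 F5950)
theorem F17060 : act 1 n409 = n409 := (sb E6594 (iv D803))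
theorem E6742 : n1607 = n801 := ((((iv F1453)).symm.trans (sb E6594 (iv F2646)))).symm
theorem F17061 : act 1 n406 = n406 := (sb E6599 (iv D798))
theorem E6749 : n1596 = n796 := ((((iv F1445)).symm.trans (sb E6599 (iv F2633)))).symm
theorem F17063 : act 5 n4082 = n2952 := (sb E6607 (iv D6103))
theorem E6755 : n3961 = n1910 := (((F6075).symm.trans (sb E6611 F12334))).symm
theorem F17064 : act 1 n3717 = n3721 := (sb E6614 (iv D7771))
theorem F17065 : act 5 n3717 = n3722 := (sb E6614 F11540)
theorem F17066 : act 0 n3718 = n1891 := (sb E6615 F6003)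
theorem E6757 : n8250 = n7765 := (((D7765).symm.trans (sb E6615 (iv F12257)))).symm
theorem E6758 : n8030 = n7674 := ((((iv F11413)).symm.trans (sb E6615 (iv F11997)))).symm
theorem F17067 : act 5 n3718 = n1889 := (sb E6615 (iv D3937))
theorem F17068 : act 6 n3718 = n3721 := (sb E6615 F6005)
theorem E6759 : n3875 = n1875 := (((F5964).symm.trans (sb E6616 (iv D8112)))).symm
theorem F17069 : act 1 n958 = n947 := (sb E6617 (iv D1929))
theorem F17070 : act 1 n3682 = n3686 := (sb E6624 (iv D7691))
theorem F17071 : act 5 n3682 = n3687 := (sb E6624 F11444)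
theorem F17072 : act 0 n3683 = n1856 := (sb E6625 F5911)
theorem E6762 : n7685 = n3686 := ((D7685).symm.trans (sb E6625 F16912))
theorem F17073 : act 5 n3683 = n1854 := (sb E6625 (iv D3856))
theorem F17074 : act 6 n3683 = n3686 := (sb E6625 F5913)
theorem F17075 : act 2 n1786 = n1783 := (sb E6626 (iv D3694))
theorem F17076 : act 6 n1786 = n1783 := (sb E6626 (iv F16957))
theorem E6764 : n8945 = n5209 := (((D5209).symm.trans (sb E6627 (iv F13392)))).symm
theorem F17077 : act 5 n2510 = n4524 := (sb E6627 (iv F6899))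
theorem F17078 : act 5 n2511 = n4526 := (sb E6628 (iv D9355))
theorem E6765 : n5206 = n4542 := (((iv F7927)).symm.trans (sb E6628 F14857))
theorem E6766 : n1230 = n1221 := ((F3471).symm.trans (sb E6629 (iv D2509)))
theorem F17079 : act 4 n2186 = n1305 := (sb E6629 F3954)
theorem F17080 : act 6 n2186 = n1222 := (sb E6629 F3955)
theorem F17081 : act 6 n619 = n315 := (sb E6630 (iv D620))
theorem F17082 : act 6 n2072 = n2510 := (sb E6632 F7925)
theorem F17083 : act 1 n2594 = n4370 := (sb E6634 (iv D9041))
theorem F17084 : act 0 n9192 = n9687 := (sb E6635 F15918)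
theorem F17085 : act 2 n9192 = n4689 := (sb E6635 (iv D9686))
theorem F17086 : act 5 n9192 = n9685 := (sb E6635 (iv F15916))
theorem F17087 : act 0 n1897 = n3737 := (sb E6638 F11608)
theorem F17088 : act 0 n7810 = n3955 := (sb E6639 F12300)
theorem F17089 : act 5 n7810 = n7783 := (sb E6639 F12302)
theorem F17090 : act 6 n7810 = n3950 := (sb E6639 (iv D8277))
theorem F17091 : act 6 n1894 = n3737 := (sb E6640 (iv D7811))
theorem F17092 : act 0 n9288 = n5855 := (sb E6641 (tr F16383 E6682))
theorem F17093 : act 5 n9288 = n5852 := (sb E6641 (tr F16385 E6679))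
theorem F17096 : act 0 n1923 = n3774 := (sb E6645 F11755)
theorem F17097 : act 2 n4017 = n3774 := (sb E6646 (iv D7878))
theorem F17098 : act 0 n7879 = n4015 := (sb E6647 F12480)
theorem F17100 : act 5 n7879 = n7829 := (sb E6647 F12482)
theorem F17101 : act 6 n7879 = n4006 := (sb E6647 (iv D8371))
theorem F17102 : act 6 n1918 = n3774 := (sb E6648 (iv D7880))
theorem F17105 : act 0 n4882 = n5991 := (sb E6650 F9092)
theorem E6767 : n9152 = n5698 := (((D5698).symm.trans (sb E6654 (iv F13693)))).symm
theorem F17107 : act 5 n2745 = n4688 := (sb E6654 (iv F7139))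
theorem F17108 : act 6 n2289 = n2832 := (sb E6658 F8861)
theorem F17109 : act 6 n2140 = n2826 := (sb E6659 F8855)
theorem E6770 : n9120 = n5605 := (((D5605).symm.trans (sb E6664 (iv F13643)))).symm
theorem F17110 : act 5 n2699 = n4652 := (sb E6664 (iv F7084))
theorem F17111 : act 5 n2701 = n4656 := (sb E6666 (iv D9624))
theorem E6771 : n9117 = n5598 := ((((iv F8477)).symm.trans (sb E6666 F14364))).symm
theorem E6772 : n9116 = n5594 := ((((iv F8473)).symm.trans (sb E6667 D9116))).symm
theorem F17112 : act 5 n2748 = n4695 := (sb E6669 (iv D9700))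
theorem E6774 : n9147 = n5684 := ((((iv F8614)).symm.trans (sb E6669 F14482))).symm
theorem F17113 : act 5 n2749 = n4696 := (sb E6670 (iv D9702))
theorem E6775 : n9148 = n5685 := ((((iv F8617)).symm.trans (sb E6670 F14489))).symm
theorem F17114 : act 0 n2812 = n2140 := (sb E6672 F6800)
theorem F17115 : act 2 n2812 = n2289 := (sb E6672 F14685)
theorem F17116 : act 5 n2237 = n2696 := (sb E6673 (iv D5599))
theorem F17117 : act 0 n2113 = n2696 := (sb E6674 F8475)
theorem F17118 : act 6 n2113 = n2699 := (sb E6674 F8476)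
theorem F17119 : act 5 n2253 = n2738 := (sb E6675 (iv D5686))
theorem F17120 : act 0 n2122 = n2738 := (sb E6677 F8612)
theorem F17121 : act 6 n2122 = n2745 := (sb E6677 F8613)
theorem F17122 : act 1 n5852 = n8566 := (sb E6679 F16379)
theorem F17123 : act 3 n5852 = n4761 := (sb E6679 F16380)
theorem F17124 : act 1 n5855 = n5839 := (sb E6682 (iv F16856))
theorem F17125 : act 3 n5855 = n4763 := (sb E6682 F16382)
theorem F17126 : act 1 n5856 = n4754 := (sb E6683 (iv D9814))
theorem F17128 : act 5 n2289 = n2812 := (sb E6684 (iv D5818))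
theorem F17130 : act 4 n5859 = n4688 := (sb E6686 F14456)
theorem F17131 : act 5 n5859 = n5699 := (sb E6686 (tr F14457 E6687))
theorem F17132 : act 6 n5859 = n4687 := (sb E6686 (iv D9683))
theorem F17133 : act 6 n5699 = n4423 := (sb E6687 (iv D9153))
theorem E6780 : n8749 = n4204 := (((D4204).symm.trans (sb E6689 (iv F13061)))).symm
theorem F17134 : act 6 n2014 = n2014 := (sb E6689 (iv D4206))
theorem E6781 : n3228 = n1567 := (((F16002).symm.trans (sb E6690 F16003))).symm
theorem F17135 : act 6 n2011 = n2011 := (sb E6690 (iv D4200))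
theorem E6782 : n3225 = n1566 := (((F16000).symm.trans (sb E6691 F16001))).symm
theorem F17136 : act 6 n2010 = n2010 := (sb E6691 (iv D4197))
theorem F17137 : act 0 n3935 = n3935 := (sb E6692 F15591)
theorem F17138 : act 5 n3935 = n3655 := (sb E6692 (iv D7629))
theorem F17139 : act 6 n3935 = n3935 := (sb E6692 F15520)
theorem F17140 : act 5 n3882 = n3882 := (sb E6693 (iv D8128))
theorem F17141 : act 5 n3851 = n3851 := (sb E6694 (iv D8057))
theorem F17142 : act 5 n3932 = n3932 := (sb E6695 (iv D8240))
theorem E6786 : n8773 = n4218 := (((D4218).symm.trans (sb E6698 (iv F13102)))).symm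
theorem F17143 : act 6 n2020 = n2020 := (sb E6698 (iv D4220))
theorem F17144 : act 0 n1852 = n3687 := (sb E6699 (iv D7692))
theorem F17145 : act 2 n3682 = n3687 := (sb E6700 (iv D7693))
theorem F17146 : act 0 n7678 = n3838 := (sb E6701 F11972)
theorem F17147 : act 5 n7678 = n7673 := (sb E6701 F11975)
theorem F17148 : act 6 n7678 = n3836 := (sb E6701 (iv D8020))
theorem E6787 : n7603 = n3844 := (((D3844).symm.trans (sb E6702 F11448))).symm
theorem F17149 : act 6 n1850 = n3687 := (sb E6702 (iv D7694))
theorem F17150 : act 2 n1787 = n1782 := (sb E6705 (iv F16955))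
theorem F17151 : act 6 n1858 = n1760 := (sb E6708 (iv D3647))
theorem E6788 : n1569 = n783 := (((D783).symm.trans (sb E6711 (iv F2591)))).symm
theorem E6789 : n1572 = n784 := (((D784).symm.trans (sb E6711 (iv F2595)))).symm
theorem F17152 : act 6 n400 = n400 := (sb E6711 (iv D786))
theorem F17153 : act 0 n1887 = n3722 := (sb E6717 (iv D7772))
theorem F17154 : act 0 n7773 = n3929 := (sb E6718 F12230)
theorem F17155 : act 5 n7773 = n7762 := (sb E6718 F12232)
theorem F17156 : act 6 n7773 = n3926 := (sb E6718 (iv D8227))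
theorem E6796 : n7626 = n3925 := (((D3925).symm.trans (sb E6719 F11542))).symm
theorem F17157 : act 6 n1885 = n3722 := (sb E6719 (iv D7774))
theorem F17158 : act 6 n1893 = n1765 := (sb E6721 (iv D3658))
theorem E6797 : n1579 = n787 := (((D787).symm.trans (sb E6724 (iv F2606)))).symm
theorem F17159 : act 6 n401 = n401 := (sb E6724 (iv D789))
theorem F17160 : act 5 n3933 = n3933 := (sb E6733 (iv D8242))
theorem F17161 : act 5 n3839 = n3839 := (sb E6734 (iv D8027))
theorem F17162 : act 5 n3930 = n8234 := (sb E6735 F12251)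
theorem F17164 : act 5 n3852 = n3852 := (sb E6737 (iv D8059))
theorem F17165 : act 5 n3878 = n8115 := (sb E6738 F12138)
theorem F17166 : act 5 n3849 = n8051 := (sb E6739 F12048)
theorem F17167 : act 1 n801 = n801 := (sb E6742 (iv D1607))
theorem E6805 : n3313 = n1605 := ((((iv F2643)).symm.trans (sb E6742 D3313))).symm
theorem E6806 : n3285 = n1594 := ((((iv F2631)).symm.trans (sb E6742 (iv F5099)))).symm
theorem F17168 : act 1 n796 = n796 := (sb E6749 (iv D1596))
theorem F17169 : act 1 n1910 = n1899 := (sb E6755 (iv D3961))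
theorem E6808 : n8237 = n3942 := ((((iv F6012)).symm.trans (sb E6755 (iv F12242)))).symm
theorem F17170 : act 0 n7765 = n3939 := (sb E6757 F12256)
theorem F17171 : act 5 n7765 = n3936 := (sb E6757 (iv D8250))
theorem F17172 : act 6 n7765 = n7770 := (sb E6757 F12258)
theorem F17173 : act 0 n7674 = n3842 := (sb E6758 F11995)
theorem F17174 : act 5 n7674 = n3840 := (sb E6758 (iv D8030))
theorem F17175 : act 6 n7674 = n7677 := (sb E6758 F11998)
theorem F17176 : act 1 n1875 = n1862 := (sb E6759 (iv D3875))
theorem E6809 : n8111 = n3905 := (((D3905).symm.trans (sb E6759 D8111))).symm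
theorem E6810 : n8049 = n3861 := ((((iv F5921)).symm.trans (sb E6759 (iv F12027)))).symm
theorem F17177 : act 2 n3686 = n3683 := (sb E6762 (iv D7685))
theorem F17178 : act 5 n5209 = n9349 := (sb E6764 (iv F13982))
theorem F17179 : act 6 n5209 = n4317 := (sb E6764 (iv D8945))
theorem F17180 : act 4 n4542 = n2696 := (sb E6765 F7926)
theorem F17181 : act 6 n4542 = n2511 := (sb E6765 F7927)
theorem F17182 : act 1 n1221 = n2186 := (sb E6766 (iv F3471))
theorem E6811 : n2530 = n2508 := ((((iv F3951)).symm.trans (sb E6766 D2530))).symm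
theorem F17183 : act 3 n1221 = n619 := (sb E6766 (iv D1230))
theorem F17184 : act 5 n5698 = n9682 := (sb E6767 (iv F14453))
theorem F17185 : act 6 n5698 = n4422 := (sb E6767 (iv D9152))
theorem F17186 : act 5 n5605 = n9615 := (sb E6770 (iv F14354))
theorem F17187 : act 6 n5605 = n4405 := (sb E6770 (iv D9120))
theorem F17188 : act 0 n5598 = n4405 := (sb E6771 F13639)
theorem F17189 : act 2 n5598 = n9150 := (sb E6771 (iv F13689))
theorem F17190 : act 5 n5598 = n4651 := (sb E6771 F13640)
theorem F17191 : act 4 n5594 = n9390 := (sb E6772 F16351)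
theorem F17192 : act 0 n5684 = n4422 := (sb E6774 F13681)
theorem F17193 : act 3 n5684 = n9118 := (sb E6774 F13683)
theorem F17194 : act 5 n5684 = n4686 := (sb E6774 F13682)
theorem F17195 : act 0 n5685 = n4423 := (sb E6775 F13684)
theorem F17196 : act 5 n5685 = n4687 := (sb E6775 F13687)
theorem E6814 : n6708 = n3233 := (((F16010).symm.trans (sb E6780 (iv F16005)))).symm
theorem F17197 : act 6 n4204 = n4204 := (sb E6780 (iv D8749))
theorem F17198 : act 6 n1567 = n1567 := (sb E6781 (iv D3228))
theorem F17199 : act 6 n1566 = n1566 := (sb E6782 (iv D3225))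
theorem E6815 : n6743 = n3249 := ((((iv F16012)).symm.trans (sb E6786 F16009))).symm
theorem F17200 : act 6 n4218 = n4218 := (sb E6786 (iv D8773))
theorem F17201 : act 6 n3844 = n3643 := (sb E6787 (iv D7603))
theorem F17202 : act 6 n783 = n783 := (sb E6788 (iv D1569))
theorem E6817 : n3235 = n1570 := (((D1570).symm.trans (sb E6789 (iv F5019)))).symm
theorem F17203 : act 6 n784 = n784 := (sb E6789 (iv D1572))
theorem F17204 : act 6 n3925 = n3654 := (sb E6796 (iv D7626))
theorem E6818 : n3251 = n1577 := (((D1577).symm.trans (sb E6797 (iv F5042)))).symm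
theorem F17205 : act 6 n787 = n787 := (sb E6797 (iv D1579))
theorem E6819 : n6868 = n3308 := (((D3308).symm.trans (sb E6805 (iv F10318)))).symm
theorem F17206 : act 1 n1594 = n1594 := (sb E6806 (iv D3285))
theorem F17207 : act 1 n3942 = n3931 := (sb E6808 (iv D8237))
theorem E6823 : n8177 = n3878 := ((D8177).symm.trans (sb E6809 F12115))
theorem F17208 : act 1 n3861 = n3848 := (sb E6810 (iv D8049))
theorem E6824 : n5256 = n5204 := (((D5204).symm.trans (sb E6811 D5256))).symm
theorem E6825 : n5203 = n5201 := (((iv F7921)).symm.trans (sb E6811 (iv F14957)))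
theorem F17209 : act 6 n3233 = n3233 := (sb E6814 (iv D6708))
theorem F17210 : act 6 n3249 = n3249 := (sb E6815 (iv D6743))
theorem F17211 : act 6 n1570 = n1570 := (sb E6817 (iv D3235))
theorem F17212 : act 6 n1577 = n1577 := (sb E6818 (iv D3251))
theorem F17213 : act 2 n3308 = n3308 := (sb E6819 (iv D6868))
theorem F17214 : act 1 n3878 = n3905 := (sb E6823 (iv D8177))
theorem F17215 : act 2 n5204 = n9390 := (sb E6824 (iv F14056))
theorem F17216 : act 3 n5201 = n2508 := (sb E6825 F7921)
theorem F17217 : act 6 n5201 = n2507 := (sb E6825 (iv D5203))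
theorem F17218 : act 1 n8178 = n8116 := d7_3 (iv D8116) F17214 D8178
theorem F17219 : act 1 n8079 = n8052 := d8_3 F12034 F17214 (iv F12075)
theorem F17220 : act 2 n6867 = n6867 := d1_2 F17213 D6867 (iv D6867)
theorem F17221 : act 2 n6810 = n6810 := d12_3 F10238 F17213 (iv F10238)
theorem F17222 : act 2 n6869 = n6869 := d13_3 (iv D6869) F17213 D6869
theorem F17223 : act 2 n6862 = n6862 := d14_3 F10310 F17213 (iv F10310)
theorem F17224 : act 1 n6740 = n6740 := d6_3 F17223 (iv D6862) (iv F10130) F10130 D6862
theorem F17225 : act 1 n8024 = n8035 := d7_3 F12008 F17208 (iv F15168)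
theorem F17226 : act 1 n8075 = n8056 := d23_6 (iv F15035) (iv F5897) (iv F17208) (iv D3861) (iv F5917) D8075 F12039 F17164 (iv D3852) (iv D1853) (iv F1630) (iv D917) F15497 D916 D1854 (iv F17073) (iv F17177) (iv F17070) (iv F15032)
theorem F17227 : act 5 n8056 = n8056 := d9_2 (iv F12070) F17226 (iv F17226) F12070 F15632
theorem F17228 : act 1 n7677 = n7673 := d0_8 F17225 (iv D8035) (iv D3843) F2992 D3839 D8025 F16097 F12004 (iv F11981)
theorem F17229 : act 0 n8028 = n8028 := d0_5 F17206 F2629 D1848 D3840 D8028 (iv D8028) (iv D3840) (iv D1848) (iv F2629)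
theorem F17230 : act 6 n7625 = n8222 := d14_2 F17204 D7625 (iv D8222)
theorem F17231 : act 6 n7599 = n8018 := d19_2 F17204 (iv F11301) F11969
theorem F17232 : act 6 n9118 = n5704 := d17_2 (iv F8614) F17193 (iv D5704)
theorem F17233 : act 6 n5608 = n9150 := d5_2 F17232 F8651 F13688
theorem F17234 : act 5 n5704 = n9696 := d22_2 (iv F13641) F17232 (iv D9696) F7146
theorem F17235 : act 5 n5608 = n9621 := d22_0 (iv D9621) (iv F13641) F17232 F8651
theorem F17236 : act 6 n5211 = n9391 := d17_2 F17181 D5211 (iv D9391)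
theorem F17237 : act 5 n9353 = n5211 := d22_2 F13391 D9353 F17236 (iv F14914)
theorem F17238 : act 5 n8028 = n7600 := d9_2 F17174 D8028 (iv D7600) (iv F5650) D7674
theorem F17239 : act 6 n8028 = n8028 := d24_3 (iv F17175) F17174 D8028 F17238 (iv D7600) (iv D3642) D3641 D7599 F17231 F16230 (iv D8018) (iv F17148) F17147 (iv F17228)
theorem F17240 : act 0 n7600 = n7600 := d22_4 (iv F17238) F17239 F17238 F16151
theorem F17241 : act 2 n8291 = n8347 := d6_4 (iv D3986) F17169 (iv F6032) D8291 (iv D8347)
theorem F17242 : act 5 n8058 = n8058 := d16_2 F17164 D8058 (iv D8058)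
theorem F17248 : act 5 n8025 = n8025 := d4_2 F17161 D8025 (iv D8025)
theorem F17249 : act 5 n8026 = n8026 := d13_2 F17161 D8026 (iv D8026)
theorem F17250 : act 5 n8239 = n8239 := d4_2 F17160 (iv F12244) F12244
theorem F17251 : act 5 n8241 = n8241 := d16_2 F17160 D8241 (iv D8241)
theorem F17252 : act 1 n8770 = n8770 := d10_3 F17143 D4217 D8770 (iv D8770) (iv D4217)
theorem F17253 : act 2 n8853 = n8853 := d6_4 (iv F13097) F17252 F13097 D8853 (iv D8853)
theorem F17254 : act 6 n8245 = n8245 := d14_2 F17139 D8245 (iv D8245)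
theorem F17255 : act 5 n7628 = n8245 := d13_2 F17138 D7628 (iv D8245)
theorem F17256 : act 0 n7628 = n7628 := d22_4 F17255 F17254 (iv F17255) F16150
theorem F17257 : act 0 n8245 = n8245 := d22_4 (iv F17255) F16150 F17255 F17254
theorem E6829 : n6326 = n5855 := (c21_1 D6326 F17125 (iv F14735) (iv F17123) F8912 (iv F4637) (iv F4785) (iv F9574) (iv D6325))
theorem E6830 : n6132 = n5839 := (((F17124).symm.trans (sb E6829 F9575))).symm
theorem E6831 : n3060 = n2943 := (((F8916).symm.trans (sb E6829 (iv D6326)))).symm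
theorem F17258 : act 2 n5839 = n2967 := (sb E6830 (iv D6132))
theorem E6833 : n6083 = n1486 := ((D6083).symm.trans (sb E6831 (iv D3060)))
theorem E6835 : n6324 = n6081 := ((((iv F9221)).symm.trans (sb E6831 (iv F9573)))).symm
theorem F17259 : act 1 n1486 = n2943 := (sb E6833 (iv D6083))
theorem E6840 : n2947 = n1443 := (((F2461).symm.trans (sb E6833 F9224))).symm
theorem F17261 : act 1 n6081 = n3059 := (sb E6835 (iv D6324))
theorem E6849 : n2976 = n1429 := ((D2976).symm.trans (sb E6840 (iv D2947)))
theorem E6850 : n6090 = n719 := (((F2366).symm.trans (sb E6840 D6090))).symm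
theorem E6863 : n6151 = n712 := (((F2351).symm.trans (sb E6849 D6151))).symm
theorem E6865 : n6145 = n1460 := ((((iv F2401)).symm.trans (sb E6849 (iv F9289)))).symm
theorem E6866 : n2950 = n1445 := (((D1445).symm.trans (sb E6850 F9231))).symm
theorem E6874 : n2979 = n1431 := (((D1431).symm.trans (sb E6863 F9295))).symm
theorem E6875 : n3011 = n2973 := ((D3011).symm.trans (sb E6865 (iv D6145)))
theorem E6879 : n4775 = n2980 := (((D2980).symm.trans (sb E6866 F16939))).symm
theorem E6890 : n6154 = n2948 := ((((iv F4595)).symm.trans (sb E6874 (iv F9297)))).symm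
theorem E6891 : n6160 = n2298 := (((F16806).symm.trans (sb E6874 D6160))).symm
theorem E6892 : n4835 = n2951 := (((D2951).symm.trans (sb E6874 (iv F16539)))).symm
theorem E6894 : n6228 = n5963 := ((((iv F9050)).symm.trans (sb E6875 D6228))).symm
theorem E6897 : n9829 = n2423 := (((F16602).symm.trans (sb E6879 (iv F16399)))).symm
theorem E6898 : n5940 = n5837 := ((F16603).symm.trans (sb E6879 (iv F16995)))
theorem E6899 : n9830 = n1447 := (((F4630).symm.trans (sb E6879 D9830))).symm
theorem E6900 : n9826 = n6155 := ((((iv F9298)).symm.trans (sb E6879 (iv F16394)))).symm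
theorem E6901 : n2421 = n2388 := ((F16604).symm.trans (sb E6879 F7286))
theorem F17282 : act 2 n2948 = n2977 := (sb E6890 (iv D6154))
theorem F17283 : act 2 n2298 = n2980 := (sb E6891 F9304)
theorem E6909 : n2422 = n2387 := ((((iv F16951)).symm.trans (sb E6892 F7368))).symm
theorem F17285 : act 1 n5963 = n6071 := (sb E6894 F9410)
theorem E6911 : n4955 = n1178 := ((((iv D2423)).symm.trans (sb E6897 F16400))).symm
theorem F17288 : act 0 n5837 = n2877 := (sb E6898 F9020)
theorem F17290 : act 3 n5837 = n2876 := (sb E6898 (iv D5940))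
theorem F17291 : act 5 n5837 = n2967 := (sb E6898 F16547)
theorem E6912 : n4957 = n1180 := ((((iv F16692)).symm.trans (sb E6899 F16401))).symm
theorem F17292 : act 2 n6155 = n4772 := (sb E6900 (iv D9826))
theorem E6913 : n5021 = n4117 := ((((iv F6251)).symm.trans (sb E6901 D5021))).symm
theorem E6915 : n5017 = n4951 := ((((iv F7555)).symm.trans (sb E6901 (iv F7635)))).symm
theorem E6916 : n4958 = n4834 := ((D4958).symm.trans (sb E6901 (iv F7367)))
theorem E6917 : n4954 = n4140 := ((D4954).symm.trans (sb E6909 F15749))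
theorem E6919 : n5018 = n4950 := ((((iv F7554)).symm.trans (sb E6909 (iv F7636)))).symm
theorem F17307 : act 0 n1178 = n2388 := (sb E6911 F7560)
theorem F17308 : act 2 n1178 = n2387 := (sb E6911 (iv D4955))
theorem E6920 : n8567 = n2425 := (((D2425).symm.trans (sb E6912 (iv F12788)))).symm
theorem F17309 : act 3 n1180 = n2388 := (sb E6912 (iv D4957))
theorem E6921 : n8565 = n8471 := (((iv F12784)).symm.trans (sb E6913 F15873))
theorem E6923 : n8469 = n8390 := ((((iv F12517)).symm.trans (sb E6913 F15875))).symm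
theorem F17310 : act 0 n4951 = n2419 := (sb E6915 (iv D5017))
theorem F17311 : act 2 n4834 = n2389 := (sb E6916 F7564)
theorem F17312 : act 5 n4834 = n2388 := (sb E6916 (iv D4958))
theorem E6924 : n8612 = n8391 := (((iv F12842)).symm.trans (sb E6917 (iv F12518)))
theorem F17313 : act 1 n4140 = n2387 := (sb E6917 (iv D4954))
theorem E6925 : n8614 = n2391 := ((D8614).symm.trans (sb E6917 F7558))
theorem E6927 : n8615 = n4118 := ((D8615).symm.trans (sb E6917 (iv F7559)))
theorem F17314 : act 1 n4950 = n8609 := (sb E6919 (iv F15981))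
theorem F17315 : act 2 n4950 = n2419 := (sb E6919 (iv D5018))
theorem F17316 : act 3 n2425 = n4117 := (sb E6920 (iv D8567))
theorem F17317 : act 0 n8471 = n4117 := (sb E6921 F12784)
theorem F17321 : act 3 n8390 = n4067 := (sb E6923 F12642)
theorem F17322 : act 5 n8390 = n4139 := (sb E6923 F12643)
theorem F17323 : act 0 n8391 = n4140 := (sb E6924 F12842)
theorem F17325 : act 3 n2391 = n4140 := (sb E6925 (iv D8614))
theorem F17328 : act 2 n4118 = n4141 := (sb E6927 F12846)
theorem F17329 : act 6 n4118 = n4140 := (sb E6927 (iv D8615))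
theorem F17331 : act 6 n8609 = n8563 := d19_2 F17329 (iv F12838) F12782
theorem F17332 : act 2 n8563 = n8610 := d14_1 F17331 (iv D8610) D8609
theorem F17333 : act 5 n6094 = n4950 := d24_13 F17331 (iv D8563) (iv D4115) (iv D1971) F1696 (iv F1920) D2297 (iv F17005) F2278 F1288 D1430 D2948 D6094 F17314
theorem F17334 : act 0 n4952 = n6094 := d4_3 F17333 (iv D4950) D4952
theorem F17335 : act 2 n4832 = n6094 := d13_3 F17333 F17315 (iv F7362)
theorem F17338 : act 5 n8610 = n8562 := d13_2 D8563 F17332 (iv D8562)
theorem F17339 : act 2 n8613 = n8566 := d1_2 F17328 (iv F12843) F12785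
theorem F17340 : act 1 n8404 = n8482 := d6_3 F17328 F6281 D8404 (iv D8482) (iv F6252)
theorem E6928 : n5943 = n5834 := (c23_14 (iv F12845) F17339 (iv F17122) (iv D5852) D5855 F8916 (iv F17259) F2458 (iv F2461) F2459 D2967 (iv F16519) (iv D5945) D5943 F15623 F16941 (iv D2389) D2388 (iv F6251) (iv F17317))
theorem F17341 : act 2 n5834 = n2877 := (sb E6928 (iv D5943))
theorem E6929 : n6071 = n5946 := ((c14_3 (iv F15624) F17341 D5946 (iv D6071))).symm
theorem F17342 : act 1 n5946 = n5963 := (sb E6929 (iv F17285))
theorem F17344 : act 2 n5930 = n5826 := d21_4 F17341 (iv D2877) (iv F4495) D5930 (iv D5826) F4412 D2822 (iv F8882)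
theorem F17345 : act 2 n6062 = n6124 := d21_0 F9260 (iv F15560) D5834 F17341 (iv D2877) (iv F4495) D5930 F16623
theorem F17346 : act 1 n6120 = n6058 := d6_3 F17345 (iv D6124) (iv F9254) F9192 D6062
theorem F17347 : act 1 n5828 = n5933 := d6_3 F17344 F8873 D5828 (iv D5933) (iv F9013)
theorem F17349 : act 1 n5962 = n4806 := d24_5 (iv F9261) (iv F16548) F17342 (iv D5963) D5962 F16446 (iv D4806) F3664 F16468 F2301 F1257 D719 (iv F2362) D2967
theorem E6930 : n6076 = n2970 := (c23_19 D2972 (iv F9049) F17349 F16445 (iv D4806) F16439 F3664 F1927 D1134 F16469 (iv F4499) (iv F17288) F17291 (iv F17258) (iv F17124) (iv F17092) F17093 F8912 D6076 (iv D2970))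
theorem E6931 : n6137 = n2941 := ((D6137).symm.trans (sb E6930 (iv D6076)))
theorem E6933 : n6269 = n2984 := ((((iv F4637)).symm.trans (sb E6931 (iv F9479)))).symm
theorem F17353 : act 1 n2984 = n3034 := (sb E6933 (iv D6269))
theorem E6934 : n6287 = n721 := (c0_8 F17353 (iv D3034) (iv D1475) F1333 D741 D1480 D3043 D6287 D1448 D2984)
theorem E6935 : n3043 = n368 := (((F1300).symm.trans (sb E6934 (iv D6287)))).symm
theorem E6936 : n1480 = n725 := (((D725).symm.trans (sb E6935 (iv D3043)))).symm
theorem E6942 : n1454 = n741 := ((D1454).symm.trans (sb E6936 (iv D1480)))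
theorem E6948 : n2995 = n1481 := (((D1481).symm.trans (sb E6942 D2995))).symm
theorem E6969 : n6194 = n3048 := (((D3048).symm.trans (sb E6948 D6194))).symm
theorem E6971 : n6196 = n3050 := (((D3050).symm.trans (sb E6948 D6196))).symm
theorem F17361 : act 0 n3048 = n2999 := (sb E6969 F9355)
theorem F17363 : act 0 n3050 = n3001 := (sb E6971 F9357)
theorem F17385 : act 5 n6050 = n4962 := d23_8 D6304 F9535 F4757 F17363 (iv D3001) D2999 F4664 (iv F9185) (iv D4962) (iv D2390) F1972 (iv F1710) (iv F1973) D2390 F16985 (iv D2932) D2930 (iv F4664) (iv F17361)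
theorem F17406 : act 5 n9701 = n6007 := d9_2 F17113 D9701 (iv D6007) (iv D2907) (iv F4292)
theorem F17407 : act 5 n9698 = n5705 := d13_2 F17113 (iv F14478) F8653
theorem F17408 : act 5 n9622 = n5609 := d18_2 F17111 (iv F14360) (iv D5609)
theorem F17409 : act 2 n5991 = n5985 := d1_2 (iv F7442) F17105 F9081
theorem F17410 : act 2 n9293 = n8392 := d6_4 F17097 F5779 D4498 D9293 (iv D8392)
theorem F17412 : act 5 n6011 = n8347 := d18_2 F17063 (iv F9120) F12425
theorem F17415 : act 0 n8291 = n6011 := d23_19 F17412 (iv F17241) (iv D8291) F6031 (iv F16971) (iv D3737) (iv D1803) F1597 F1594 F1572 F16677 F980 D527 (iv F1598) D1803 (iv F17049) D1899 (iv F6032) D8291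
theorem F17417 : act 2 n5634 = n5634 := d13_3 (iv D5634) F17054 D5634
theorem F17418 : act 0 n5223 = n5223 := d2_3 F7962 F17053 (iv F7962)
theorem F17419 : act 0 n5634 = n5634 := d4_3 (iv D5634) F17053 D5634
theorem F17420 : act 6 n5634 = n5634 := d22_1 D5634 (iv D5634) F4232 F17053
theorem F17421 : act 2 n8862 = n8862 := d1_2 F17045 D8862 (iv D8862)
theorem F17422 : act 2 n8806 = n8806 := d12_3 F13157 F17045 (iv F13157)
theorem F17423 : act 2 n8864 = n8864 := d13_3 (iv D8864) F17045 D8864
theorem F17425 : act 2 n9654 = n9625 := d1_2 F17008 D9654 (iv D9625)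
theorem F17426 : act 2 n9368 = n9354 := d12_3 F13987 F17008 (iv F14012)
theorem F17427 : act 2 n9598 = n9626 := d13_3 (iv D9626) F17008 (iv F14329)
theorem F17428 : act 2 n9655 = n9584 := d14_3 F14313 F17008 D9655
theorem F17429 : act 1 n5569 = n9655 := d6_5 F17428 (iv D9584) F7063 (iv F4193) (iv F8440)
theorem F17430 : act 1 n9626 = n5546 := d6_1 F17427 F8417 F4181 (iv F7073) D9598
theorem F17432 : act 5 n5983 = n4876 := d16_2 F16988 D5983 F7427
theorem F17433 : act 0 n4876 = n5988 := d4_1 F17432 (iv D5988) (iv F9078)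
theorem F17434 : act 1 n4875 = n5983 := d9_5 F17432 (iv D4876) (iv D2349) D2348 D4875
theorem F17435 : act 5 n6051 = n4953 := d18_2 F16986 D6051 F7557
theorem F17436 : act 0 n4953 = n6060 := d4_1 F17435 (iv D6060) (iv F9186)
theorem F17437 : act 1 n4952 = n6051 := d9_5 F17435 (iv D4953) (iv D2386) D2385 D4952
theorem F17441 : act 1 n5318 = n8971 := d23_6 (iv F16961) F16960 (iv F16894) (iv D4337) F16774 D5318 F13445 F16881 (iv D4330) (iv D2079) (iv F1785) (iv D1022) F986 D1021 (iv F16511) (iv F16556) (iv F16641) (iv F16708) (iv F3468)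
theorem F17442 : act 5 n8971 = n8971 := d9_2 (iv F16773) F17441 (iv F17441) F16773 F6622
theorem F17443 : act 5 n6010 = n4873 := d16_2 F16942 (iv F9119) F7425
theorem F17444 : act 0 n4875 = n6010 := d4_3 F17443 (iv D4873) D4875
theorem F17445 : act 5 n6008 = n9703 := d22_0 F14491 (iv F17443) (iv D6010) D6008
theorem F17446 : act 6 n4875 = n6008 := d20_0 F17445 F14491 (iv F17443) (iv D6010) F16935 F7153 D4875
theorem F17447 : act 5 n9704 = n6009 := d13_2 F16935 D9704 (iv D6009)
theorem F17448 : act 0 n5093 = n5093 := d2_3 F7750 F16929 (iv F7750)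
theorem F17449 : act 5 n8305 = n8305 := d16_2 F16926 D8305 (iv D8305)
theorem F17450 : act 6 n5092 = n5092 := d14_2 F16925 D5092 (iv D5092)
theorem F17451 : act 6 n5086 = n5086 := d19_2 F16925 (iv F7740) F7740
theorem F17452 : act 0 n5092 = n5092 := d1_3 (iv D5092) F16924 D5092
theorem F17453 : act 0 n5086 = n5086 := d3_3 F7740 F16924 (iv F7740)
theorem F17454 : act 1 n8322 = n8322 := d0_6 (iv F7739) F17453 F7739 F15765 (iv F6065) (iv F12381) F12381 F6065 (iv F15765)
theorem F17455 : act 5 n8308 = n8308 := d13_2 F16923 D8308 (iv D8308)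
theorem F17456 : act 5 n8309 = n8309 := d18_2 F16923 D8309 (iv D8309)
theorem F17457 : act 1 n5556 = n5556 := d6_3 F16921 (iv F4185) D5556 (iv D5556) F4185
theorem F17458 : act 6 n8069 = n8029 := d14_2 F16911 D8069 (iv D8029)
theorem F17459 : act 0 n7676 = n8069 := d5_3 F17458 F11993 (iv F11418)
theorem F17460 : act 4 n7768 = n8069 := d19_3 F17458 F11994 (iv F11536)
theorem F17462 : act 5 n9164 = n9164 := d13_2 F16891 D9164 (iv D9164)
theorem F17464 : act 5 n9126 = n9126 := d4_2 F16888 (iv F13652) F13652
theorem F17465 : act 5 n9127 = n9127 := d16_2 F16888 D9127 (iv D9127)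
theorem F17466 : act 5 n8948 = n8948 := d18_2 F16888 (iv F13399) F13399
theorem F17472 : act 5 n8947 = n8947 := d4_2 F16882 D8947 (iv D8947)
theorem F17473 : act 5 n8972 = n8972 := d16_2 F16881 D8972 (iv D8972)
theorem F17474 : act 6 n5651 = n9650 := d14_2 F16873 D5651 F14394
theorem F17475 : act 6 n5652 = n9651 := d19_2 F16873 D5652 F14395
theorem F17476 : act 6 n9756 = n5759 := d5_2 F17474 (iv F14587) F8768
theorem F17477 : act 5 n9180 = n5651 := d22_0 F17474 (iv D9650) (iv F13664) (iv F13739)
theorem F17478 : act 5 n5759 = n9135 := d20_5 (iv F17474) (iv F17477) F13741 D9756 F17476 F13664 D9650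
theorem F17479 : act 6 n5232 = n9367 := d17_2 F16868 D5232 F14011
theorem F17480 : act 5 n9422 = n5232 := d22_0 F17479 (iv D9367) (iv F13408) F16765
theorem F17481 : act 6 n9422 = n9362 := d22_3 D9367 (iv F17479) (iv F17480) F14003
theorem F17482 : act 4 n9421 = n5637 := d12_2 (iv F7965) F16866 (iv D5637)
theorem F17485 : act 6 n9763 = n6040 := d17_2 F16812 (iv F14602) F9173
theorem F17486 : act 5 n6040 = n4913 := d22_2 (iv F14603) F17485 (iv D4913) D4911
theorem F17487 : act 6 n6042 = n4911 := d22_1 D6042 (iv F14603) F17485 (iv D6040)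
theorem F17488 : act 0 n6042 = n4913 := d22_4 (iv F17486) (iv F17485) F14603 (iv F17487)
theorem F17490 : act 6 n9764 = n6041 := d14_2 F16808 D9764 (iv D6041)
theorem F17491 : act 6 n9761 = n6039 := d19_2 F16808 (iv F14596) F9172
theorem F17492 : act 2 n7798 = n7798 := d6_4 (iv D3732) F16776 D3732 D7798 (iv D7798)
theorem F17493 : act 6 n7798 = n7798 := d10_4 F5730 F16775 (iv F5730) D7798 (iv D7798)
theorem F17494 : act 1 n5472 = n9014 := d7_3 (iv D9014) F16772 D5472
theorem F17501 : act 6 n9758 = n5760 := d19_2 F16705 (iv F14591) (iv D5760)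
theorem F17502 : act 2 n4899 = n4899 := d6_4 (iv D2359) F16688 D2359 D4899 (iv D4899)
theorem F17503 : act 1 n5638 = n5638 := d10_3 F16682 D2714 D5638 (iv D5638) (iv D2714)
theorem F17504 : act 2 n9639 = n9639 := d1_2 F16651 D9639 (iv D9639)
theorem F17505 : act 2 n9361 = n9361 := d12_3 F14002 F16651 (iv F14002)
theorem F17506 : act 2 n9641 = n9641 := d13_3 (iv D9641) F16651 D9641
theorem F17507 : act 2 n9642 = n9642 := d14_3 (iv D9642) F16651 D9642
theorem F17512 : act 0 n9733 = n9733 := d1_3 (iv D9733) F16459 D9733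
def n9850 : Q := act 0 n4832
theorem D9850 : act 0 n4832 = n9850 := rfl
theorem F17520 : act 2 n9850 = n4952 := d1_2 (iv F17335) D9850 F17334
theorem F17522 : act 5 n9850 = n4951 := d4_2 (iv F7362) D9850 F17310
def n9851 : Q := act 0 n4861
theorem D9851 : act 0 n4861 = n9851 := rfl
theorem F17524 : act 2 n9851 = n9851 := d1_2 F16346 D9851 (iv D9851)
theorem F17525 : act 3 n9851 = n4863 := d2_2 (iv F7409) D9851 (iv D4863)
def n9852 : Q := act 4 n4861
theorem D9852 : act 4 n4861 = n9852 := rfl
theorem F17526 : act 1 n9852 = n4862 := d8_1 D9852 (iv D4862) D4861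
theorem F17527 : act 2 n9852 = n9852 := d12_1 D9852 (iv D9852) F16346
def n9853 : Q := act 5 n4861
theorem D9853 : act 5 n4861 = n9853 := rfl
theorem F17528 : act 2 n9853 = n9853 := d13_1 D9853 (iv D9853) F16346
theorem F17529 : act 3 n9853 = n4865 := d16_1 D9853 (iv D4865) (iv F7409)
def n9854 : Q := act 6 n4861
theorem D9854 : act 6 n4861 = n9854 := rfl
theorem F17530 : act 2 n9854 = n9854 := d14_1 D9854 (iv D9854) F16346
theorem F17531 : act 3 n9854 = n4866 := d17_1 D9854 (iv D4866) (iv F7409)
def n9855 : Q := act 3 n4862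
theorem D9855 : act 3 n4862 = n9855 := rfl
theorem F17532 : act 0 n9855 = n4867 := d2_1 D9855 (iv D4867) (iv F7410)
theorem F17533 : act 4 n9855 = n4867 := d15_2 D4862 D9855 (iv D4867) (iv D2345) (iv F3698)
theorem F17534 : act 2 n9855 = n8522 := d21_2 (iv F7411) D9855 (iv D8522) F6198 F3124 F1695 (iv F1943) (iv F3699)
def n9856 : Q := act 1 n4863
theorem D9856 : act 1 n4863 = n9856 := rfl
def n9857 : Q := act 4 n4863
theorem D9857 : act 4 n4863 = n9857 := rfl
theorem F17535 : act 0 n9857 = n4864 := d3_1 D9857 (iv D4864) D4863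
def n9858 : Q := act 5 n4863
theorem D9858 : act 5 n4863 = n9858 := rfl
theorem F17536 : act 0 n9858 = n4865 := d4_1 D9858 (iv D4865) D4863
def n9859 : Q := act 6 n4863
theorem D9859 : act 6 n4863 = n9859 := rfl
theorem F17537 : act 0 n9859 = n4866 := d5_1 D9859 (iv D4866) D4863
def n9860 : Q := act 3 n4864
theorem D9860 : act 3 n4864 = n9860 := rfl
theorem F17538 : act 1 n9860 = n4867 := d7_1 D9860 (iv D4867) (iv F7412)
def n9861 : Q := act 5 n4864
theorem D9861 : act 5 n4864 = n9861 := rfl
theorem F17539 : act 4 n9861 = n4865 := d18_1 D9861 (iv D4865) D4864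
def n9862 : Q := act 6 n4864
theorem D9862 : act 6 n4864 = n9862 := rfl
theorem F17540 : act 4 n9862 = n4866 := d19_1 D9862 (iv D4866) D4864
def n9863 : Q := act 6 n4865
theorem D9863 : act 6 n4865 = n9863 := rfl
theorem F17541 : act 5 n9863 = n9859 := d22_2 D4865 D9863 (iv D9859) (iv D4863)
def n9864 : Q := act 1 n4866
theorem D9864 : act 1 n4866 = n9864 := rfl
theorem F17542 : act 6 n9864 = n4869 := d10_2 D4866 D9864 (iv D4869) (iv D2346) D2344
def n9865 : Q := act 5 n4866
theorem D9865 : act 5 n4866 = n9865 := rfl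
theorem F17543 : act 0 n9865 = n9863 := d4_1 D9865 F17541 F17537
theorem F17544 : act 6 n9865 = n9858 := d20_2 D4866 D9865 (iv D9858) D9859 (iv F17541) (iv D9863) (iv D4865)
def n9866 : Q := act 2 n4867
theorem D9866 : act 2 n4867 = n9866 := rfl
theorem F17545 : act 0 n9866 = n8522 := d1_1 D9866 (iv F17534) F17532
theorem F17546 : act 3 n9866 = n5055 := d11_2 D4867 D9866 (iv D5055) (iv D2439) F2002 (iv F3700) (iv F7411) D9855 F17534 (iv D8522) F6198 F3124 F1695 (iv F1943) (iv F3701)
theorem F17547 : act 4 n9866 = n8522 := d12_2 F17533 D9866 (iv F17534)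
theorem F17548 : act 5 n9866 = n9855 := d13_2 F12712 D9866 F17534
def n9867 : Q := act 6 n4867
theorem D9867 : act 6 n4867 = n9867 := rfl
theorem F17549 : act 3 n9867 = n4868 := d17_1 D9867 (iv D4868) D4867
def n9868 : Q := act 1 n4868
theorem D9868 : act 1 n4868 = n9868 := rfl
theorem F17550 : act 4 n9868 = n4869 := d8_2 (iv F7414) D9868 (iv D4869)
def n9869 : Q := act 5 n4868
theorem D9869 : act 5 n4868 = n9869 := rfl
theorem F17551 : act 0 n9869 = n8523 := d4_1 D9869 (iv F12776) F12774
theorem F17552 : act 2 n9869 = n4872 := d13_1 D9869 (iv D4872) (iv F7413)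
theorem F17553 : act 4 n9869 = n4870 := d18_1 D9869 (iv D4870) (iv F7414)
theorem F17554 : act 6 n9869 = n5055 := d20_2 D4868 D9869 F7691 (iv F12777) F12776 (iv D8523) F6199
def n9870 : Q := act 0 n4869
theorem D9870 : act 0 n4869 = n9870 := rfl
def n9871 : Q := act 2 n4869
theorem D9871 : act 2 n4869 = n9871 := rfl
theorem F17555 : act 1 n9871 = n4874 := d6_1 D9871 (iv D4874) (iv D2348) (iv F3702) D4869
def n9872 : Q := act 5 n4869
theorem D9872 : act 5 n4869 = n9872 := rfl
def n9873 : Q := act 1 n4870
theorem D9873 : act 1 n4870 = n9873 := rfl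
theorem F17556 : act 3 n9873 = n8524 := d7_2 (iv F7417) D9873 (iv D8524)
def n9874 : Q := act 0 n4871
theorem D9874 : act 0 n4871 = n9874 := rfl
theorem F17557 : act 3 n9874 = n4950 := d2_2 (iv F7419) D9874 (iv D4950)
theorem F17558 : act 4 n9874 = n4873 := d3_2 (iv F7420) D9874 (iv D4873)
def n9875 : Q := act 2 n4871
theorem D9875 : act 2 n4871 = n9875 := rfl
theorem F17559 : act 4 n9875 = n4874 := d12_2 (iv F7420) D9875 (iv D4874)
def n9876 : Q := act 5 n4871
theorem D9876 : act 5 n4871 = n9876 := rfl
theorem F17561 : act 4 n9876 = n4875 := d18_1 D9876 (iv D4875) (iv F7420)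
def n9877 : Q := act 1 n4872
theorem D9877 : act 1 n4872 = n9877 := rfl
theorem F17562 : act 3 n9877 = n4953 := d7_2 (iv F7422) D9877 (iv D4953)
theorem F17563 : act 4 n9877 = n4876 := d8_2 (iv F7423) D9877 (iv D4876)
def n9878 : Q := act 1 n4873
theorem D9878 : act 1 n4873 = n9878 := rfl
theorem F17564 : act 3 n9878 = n4877 := d7_2 (iv F7425) D9878 (iv D4877)
theorem F17565 : act 6 n9878 = n8528 := d24_3 D6010 F17443 D9878 (iv D8528) (iv D4095) (iv D1961) F1678 (iv F1896) D2258 (iv F17004) F2226 F1268 D1411 D2908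
def n9879 : Q := act 2 n4873
theorem D9879 : act 2 n4873 = n9879 := rfl
theorem F17566 : act 0 n9879 = n4874 := d1_1 D9879 (iv D4874) D4873
def n9880 : Q := act 3 n4874
theorem D9880 : act 3 n4874 = n9880 := rfl
def n9881 : Q := act 5 n4874
theorem D9881 : act 5 n4874 = n9881 := rfl
theorem F17567 : act 2 n9881 = n4875 := d13_1 D9881 (iv D4875) D4874
def n9882 : Q := act 2 n4876
theorem D9882 : act 2 n4876 = n9882 := rfl
def n9883 : Q := act 6 n4876
theorem D9883 : act 6 n4876 = n9883 := rfl
theorem F17568 : act 1 n9883 = n5054 := d10_1 D9883 (iv D5054) F3827 (iv F3708) D4876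
theorem F17569 : act 3 n9883 = n4882 := d17_1 D9883 (iv D4882) (iv F7427)
theorem F17570 : act 5 n9883 = n5989 := d22_2 F17432 D9883 (iv D5989) (iv F9078)
def n9884 : Q := act 0 n4899
theorem D9884 : act 0 n4899 = n9884 := rfl
theorem F17571 : act 2 n9884 = n9884 := d1_2 F17502 D9884 (iv D9884)
theorem F17572 : act 3 n9884 = n4901 := d2_2 (iv F7476) D9884 (iv D4901)
def n9885 : Q := act 4 n4899
theorem D9885 : act 4 n4899 = n9885 := rfl
theorem F17573 : act 1 n9885 = n4900 := d8_1 D9885 (iv D4900) D4899
theorem F17574 : act 2 n9885 = n9885 := d12_1 D9885 (iv D9885) F17502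
def n9886 : Q := act 5 n4899
theorem D9886 : act 5 n4899 = n9886 := rfl
theorem F17575 : act 2 n9886 = n9886 := d13_1 D9886 (iv D9886) F17502
theorem F17576 : act 3 n9886 = n4903 := d16_1 D9886 (iv D4903) (iv F7476)
def n9887 : Q := act 6 n4899
theorem D9887 : act 6 n4899 = n9887 := rfl
theorem F17577 : act 2 n9887 = n9887 := d14_1 D9887 (iv D9887) F17502
theorem F17578 : act 3 n9887 = n4904 := d17_1 D9887 (iv D4904) (iv F7476)
def n9888 : Q := act 3 n4900
theorem D9888 : act 3 n4900 = n9888 := rfl
theorem F17579 : act 0 n9888 = n4905 := d2_1 D9888 (iv D4905) (iv F7477)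
theorem F17580 : act 4 n9888 = n4905 := d15_2 D4900 D9888 (iv D4905) (iv D2362) (iv F3723)
theorem F17581 : act 2 n9888 = n8549 := d21_2 (iv F7478) D9888 (iv D8549) F6228 F3135 (iv F15756) (iv F1956) (iv F3724)
def n9889 : Q := act 1 n4901
theorem D9889 : act 1 n4901 = n9889 := rfl
def n9890 : Q := act 4 n4901
theorem D9890 : act 4 n4901 = n9890 := rfl
theorem F17582 : act 0 n9890 = n4902 := d3_1 D9890 (iv D4902) D4901
def n9891 : Q := act 5 n4901
theorem D9891 : act 5 n4901 = n9891 := rfl
theorem F17583 : act 0 n9891 = n4903 := d4_1 D9891 (iv D4903) D4901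
def n9892 : Q := act 6 n4901
theorem D9892 : act 6 n4901 = n9892 := rfl
theorem F17584 : act 0 n9892 = n4904 := d5_1 D9892 (iv D4904) D4901
def n9893 : Q := act 3 n4902
theorem D9893 : act 3 n4902 = n9893 := rfl
theorem F17585 : act 1 n9893 = n4905 := d7_1 D9893 (iv D4905) (iv F7479)
def n9894 : Q := act 5 n4902
theorem D9894 : act 5 n4902 = n9894 := rfl
theorem F17586 : act 4 n9894 = n4903 := d18_1 D9894 (iv D4903) D4902
def n9895 : Q := act 6 n4902
theorem D9895 : act 6 n4902 = n9895 := rfl
theorem F17587 : act 4 n9895 = n4904 := d19_1 D9895 (iv D4904) D4902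
def n9896 : Q := act 1 n4903
theorem D9896 : act 1 n4903 = n9896 := rfl
theorem F17588 : act 5 n9896 = n4907 := d9_2 D4903 D9896 (iv D4907) (iv D2363) D2361
def n9897 : Q := act 6 n4903
theorem D9897 : act 6 n4903 = n9897 := rfl
theorem F17589 : act 5 n9897 = n9892 := d22_2 D4903 D9897 (iv D9892) (iv D4901)
def n9898 : Q := act 5 n4904
theorem D9898 : act 5 n4904 = n9898 := rfl
theorem F17590 : act 0 n9898 = n9897 := d4_1 D9898 F17589 F17584
theorem F17591 : act 6 n9898 = n9891 := d20_2 D4904 D9898 (iv D9891) D9892 (iv F17589) (iv D9897) (iv D4903)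
def n9899 : Q := act 2 n4905
theorem D9899 : act 2 n4905 = n9899 := rfl
theorem F17592 : act 0 n9899 = n8549 := d1_1 D9899 (iv F17581) F17579
theorem F17593 : act 3 n9899 = n5103 := d11_2 D4905 D9899 (iv D5103) (iv D2461) F2017 (iv F3725) (iv F7478) D9888 F17581 (iv D8549) F6228 F3135 (iv F15756) (iv F1956) (iv F3726)
theorem F17594 : act 4 n9899 = n8549 := d12_2 F17580 D9899 (iv F17581)
theorem F17595 : act 6 n9899 = n9888 := d14_2 F12755 D9899 F17581
def n9900 : Q := act 5 n4905
theorem D9900 : act 5 n4905 = n9900 := rfl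
theorem F17596 : act 3 n9900 = n4906 := d16_1 D9900 (iv D4906) D4905
def n9901 : Q := act 1 n4906
theorem D9901 : act 1 n4906 = n9901 := rfl
theorem F17597 : act 4 n9901 = n4907 := d8_2 (iv F7481) D9901 (iv D4907)
def n9902 : Q := act 6 n4906
theorem D9902 : act 6 n4906 = n9902 := rfl
theorem F17598 : act 0 n9902 = n8550 := d5_1 D9902 F12758 F12726
theorem F17599 : act 2 n9902 = n4910 := d14_1 D9902 (iv D4910) (iv F7480)
theorem F17600 : act 4 n9902 = n4908 := d19_1 D9902 (iv D4908) (iv F7481)
theorem F17601 : act 5 n9902 = n5103 := d20_1 D9902 F15786 (iv F12728) (iv F12758) (iv D8550) F6229 D4906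
def n9903 : Q := act 0 n4907
theorem D9903 : act 0 n4907 = n9903 := rfl
def n9904 : Q := act 2 n4907
theorem D9904 : act 2 n4907 = n9904 := rfl
theorem F17602 : act 1 n9904 = n4912 := d6_1 D9904 (iv D4912) (iv D2365) (iv F3727) D4907
def n9905 : Q := act 6 n4907
theorem D9905 : act 6 n4907 = n9905 := rfl
def n9906 : Q := act 1 n4908
theorem D9906 : act 1 n4908 = n9906 := rfl
theorem F17603 : act 3 n9906 = n8551 := d7_2 (iv F7484) D9906 (iv D8551)
def n9907 : Q := act 0 n4909
theorem D9907 : act 0 n4909 = n9907 := rfl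
theorem F17604 : act 3 n9907 = n4951 := d2_2 (iv F7486) D9907 F17310
theorem F17605 : act 4 n9907 = n4911 := d3_2 (iv F7487) D9907 (iv D4911)
def n9908 : Q := act 2 n4909
theorem D9908 : act 2 n4909 = n9908 := rfl
theorem F17606 : act 4 n9908 = n4912 := d12_2 (iv F7487) D9908 (iv D4912)
def n9909 : Q := act 6 n4909
theorem D9909 : act 6 n4909 = n9909 := rfl
def n9910 : Q := act 1 n4910
theorem D9910 : act 1 n4910 = n9910 := rfl
theorem F17610 : act 4 n9910 = n4914 := d8_2 (iv F7490) D9910 (iv D4914)
def n9911 : Q := act 1 n4911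
theorem D9911 : act 1 n4911 = n9911 := rfl
theorem F17611 : act 3 n9911 = n4915 := d7_2 (iv F7492) D9911 (iv D4915)
theorem F17612 : act 5 n8555 = n9911 := d24_1 D8555 (iv D9911) (iv F17487) (iv D6042) (iv D2923) (iv D1418) F1279 (iv F2251) F16589 (iv D2272) F1908 (iv F1687) D1968 D4110
def n9912 : Q := act 2 n4911
theorem D9912 : act 2 n4911 = n9912 := rfl
theorem F17613 : act 0 n9912 = n4912 := d1_1 D9912 (iv D4912) D4911
def n9913 : Q := act 3 n4912
theorem D9913 : act 3 n4912 = n9913 := rfl
def n9914 : Q := act 6 n4912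
theorem D9914 : act 6 n4912 = n9914 := rfl
theorem F17614 : act 2 n9914 = n4913 := d14_1 D9914 (iv D4913) D4912
def n9915 : Q := act 2 n4914
theorem D9915 : act 2 n4914 = n9915 := rfl
def n9916 : Q := act 5 n4914
theorem D9916 : act 5 n4914 = n9916 := rfl
theorem F17615 : act 1 n9916 = n5093 := d9_1 D9916 (iv D5093) F3858 (iv F15760) D4914
theorem F17617 : act 6 n9916 = n6020 := d22_1 D9916 (iv D6020) D6021 F15944
def n9918 : Q := act 6 n4953
theorem D9918 : act 6 n4953 = n9918 := rfl
def n9919 : Q := act 3 n4962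
theorem D9919 : act 3 n4962 = n9919 := rfl
theorem F17623 : act 1 n9919 = n8509 := d7_1 D9919 (iv D8509) (iv F7571)
def n9920 : Q := act 6 n4962
theorem D9920 : act 6 n4962 = n9920 := rfl
theorem F17625 : act 2 n9920 = n4963 := d14_1 D9920 (iv D4963) D4962
def n9921 : Q := act 2 n5020
theorem D9921 : act 2 n5020 = n9921 := rfl
theorem F17627 : act 1 n9921 = n8435 := d6_1 D9921 F12576 F6135 (iv F15748) D5020
theorem F17628 : act 4 n9921 = n5029 := d12_2 (iv F7638) D9921 (iv D5029)
def n9925 : Q := act 2 n5051
theorem D9925 : act 2 n5051 = n9925 := rfl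
theorem F17636 : act 0 n9925 = n9925 := d1_1 D9925 (iv D9925) F16311
theorem F17637 : act 4 n9925 = n5053 := d12_2 (iv F7684) D9925 (iv D5053)
theorem F17638 : act 5 n9925 = n9925 := d13_2 F16317 D9925 (iv D9925)
def n9926 : Q := act 6 n5051
theorem D9926 : act 6 n5051 = n9926 := rfl
theorem F17640 : act 3 n9926 = n5052 := d17_1 D9926 (iv D5052) D5051
theorem F17641 : act 4 n9926 = n5054 := d19_1 D9926 (iv D5054) (iv F7684)
def n9927 : Q := act 1 n5053
theorem D9927 : act 1 n5053 = n9927 := rfl
theorem F17643 : act 2 n9927 = n5056 := d6_2 D5053 D9927 (iv D5056) (iv D2440) (iv F3827)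
def n9928 : Q := act 3 n5053
theorem D9928 : act 3 n5053 = n9928 := rfl
theorem F17644 : act 0 n9928 = n9928 := d2_1 D9928 (iv D9928) F16318
theorem F17645 : act 5 n9928 = n9928 := d16_2 F16316 D9928 (iv D9928)
theorem F17646 : act 2 n9928 = n9928 := d21_2 D5053 D9928 (iv D9928) (iv D5053) (iv D2437) F1998 D2437 F15051
def n9929 : Q := act 6 n5053
theorem D9929 : act 6 n5053 = n9929 := rfl
theorem F17647 : act 0 n9929 = n9929 := d5_1 D9929 (iv D9929) F16318
theorem F17648 : act 2 n9929 = n5054 := d14_1 D9929 (iv D5054) D5053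
theorem F17649 : act 5 n9929 = n9929 := d22_2 F16316 D9929 (iv D9929) F16318
def n9930 : Q := act 1 n5055
theorem D9930 : act 1 n5055 = n9930 := rfl
theorem F17650 : act 4 n9930 = n5056 := d8_2 (iv F7690) D9930 (iv D5056)
def n9931 : Q := act 0 n5056
theorem D9931 : act 0 n5056 = n9931 := rfl
theorem F17651 : act 3 n9931 = n8518 := d2_2 (iv F7692) D9931 (iv D8518)
def n9932 : Q := act 5 n5056
theorem D9932 : act 5 n5056 = n9932 := rfl
theorem F17652 : act 1 n9932 = n9853 := d9_1 D9932 (iv D9853) (iv D4861) (iv F3835) D5056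
theorem F17653 : act 3 n9932 = n8520 := d16_1 D9932 (iv D8520) (iv F7692)
def n9933 : Q := act 6 n5056
theorem D9933 : act 6 n5056 = n9933 := rfl
theorem F17654 : act 3 n9933 = n8521 := d17_1 D9933 (iv D8521) (iv F7692)
def n9934 : Q := act 2 n5086
theorem D9934 : act 2 n5086 = n9934 := rfl
theorem F17655 : act 0 n9934 = n9934 := d1_1 D9934 (iv D9934) F17453
theorem F17656 : act 4 n9934 = n5092 := d12_2 (iv F7740) D9934 (iv D5092)
theorem F17657 : act 6 n9934 = n9934 := d14_2 F17451 D9934 (iv D9934)
def n9936 : Q := act 1 n5092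
theorem D9936 : act 1 n5092 = n9936 := rfl
theorem F17662 : act 2 n9936 = n5109 := d6_2 D5092 D9936 (iv D5109) (iv D2464) (iv F3858)
def n9937 : Q := act 3 n5092
theorem D9937 : act 3 n5092 = n9937 := rfl
theorem F17663 : act 0 n9937 = n9937 := d2_1 D9937 (iv D9937) F17452
theorem F17664 : act 6 n9937 = n9937 := d17_2 F17450 D9937 (iv D9937)
theorem F17665 : act 2 n9937 = n9937 := d21_2 D5092 D9937 (iv D9937) (iv D5092) (iv D2455) F2013 D2455 F16924
def n9938 : Q := act 5 n5092
theorem D9938 : act 5 n5092 = n9938 := rfl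
theorem F17666 : act 0 n9938 = n9938 := d4_1 D9938 (iv D9938) F17452
theorem F17667 : act 2 n9938 = n5093 := d13_1 D9938 (iv D5093) D5092
theorem F17668 : act 6 n9938 = n9938 := d22_1 D9938 (iv D9938) F17450 F17452
def n9939 : Q := act 1 n5103
theorem D9939 : act 1 n5103 = n9939 := rfl
theorem F17669 : act 4 n9939 = n5109 := d8_2 (iv F7765) D9939 (iv D5109)
def n9940 : Q := act 0 n5109
theorem D9940 : act 0 n5109 = n9940 := rfl
theorem F17670 : act 3 n9940 = n8545 := d2_2 (iv F15787) D9940 (iv D8545)
def n9941 : Q := act 5 n5109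
theorem D9941 : act 5 n5109 = n9941 := rfl
theorem F17671 : act 3 n9941 = n8547 := d16_1 D9941 (iv D8547) (iv F15787)
def n9942 : Q := act 6 n5109
theorem D9942 : act 6 n5109 = n9942 := rfl
theorem F17672 : act 1 n9942 = n9887 := d10_1 D9942 (iv D9887) (iv D4899) (iv F15770) D5109
theorem F17673 : act 3 n9942 = n8548 := d17_1 D9942 (iv D8548) (iv F15787)
def n9943 : Q := act 2 n5140
theorem D9943 : act 2 n5140 = n9943 := rfl
theorem F17674 : act 0 n9943 = n5141 := d1_1 D9943 (iv D5141) D5140
theorem F17675 : act 4 n9943 = n5493 := d12_2 (iv F7815) D9943 (iv D5493)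
def n9944 : Q := act 3 n5140
theorem D9944 : act 3 n5140 = n9944 := rfl
theorem F17676 : act 0 n9944 = n5142 := d2_1 D9944 (iv D5142) D5140
def n9945 : Q := act 5 n5140
theorem D9945 : act 5 n5140 = n9945 := rfl
theorem F17677 : act 0 n9945 = n5143 := d4_1 D9945 (iv D5143) D5140
theorem F17678 : act 4 n9945 = n5494 := d18_1 D9945 (iv D5494) (iv F7815)
def n9946 : Q := act 6 n5140
theorem D9946 : act 6 n5140 = n9946 := rfl
theorem F17679 : act 0 n9946 = n5144 := d5_1 D9946 (iv D5144) D5140
theorem F17680 : act 4 n9946 = n5495 := d19_1 D9946 (iv D5495) (iv F7815)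
def n9947 : Q := act 3 n5141
theorem D9947 : act 3 n5141 = n9947 := rfl
theorem F17681 : act 1 n9947 = n9947 := d7_1 D9947 (iv D9947) F7816
def n9948 : Q := act 5 n5141
theorem D9948 : act 5 n5141 = n9948 := rfl
theorem F17682 : act 2 n9948 = n5143 := d13_1 D9948 (iv D5143) D5141
theorem F17683 : act 4 n9948 = n5497 := d18_1 D9948 (iv D5497) (iv F7817)
def n9949 : Q := act 6 n5141
theorem D9949 : act 6 n5141 = n9949 := rfl
theorem F17684 : act 2 n9949 = n5144 := d14_1 D9949 (iv D5144) D5141
theorem F17685 : act 4 n9949 = n5498 := d19_1 D9949 (iv D5498) (iv F7817)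
def n9950 : Q := act 2 n5142
theorem D9950 : act 2 n5142 = n9950 := rfl
def n9951 : Q := act 5 n5142
theorem D9951 : act 5 n5142 = n9951 := rfl
theorem F17686 : act 3 n9951 = n5143 := d16_1 D9951 (iv D5143) D5142
def n9952 : Q := act 6 n5142
theorem D9952 : act 6 n5142 = n9952 := rfl
theorem F17687 : act 3 n9952 = n5144 := d17_1 D9952 (iv D5144) D5142
def n9953 : Q := act 1 n5143
theorem D9953 : act 1 n5143 = n9953 := rfl
theorem F17688 : act 4 n9953 = n5499 := d8_2 (iv F7819) D9953 (iv D5499)
theorem F17689 : act 5 n9953 = n5148 := d9_2 D5143 D9953 (iv D5148) (iv D2483) D2481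
def n9954 : Q := act 6 n5143
theorem D9954 : act 6 n5143 = n9954 := rfl
theorem F17690 : act 4 n9954 = n5500 := d19_1 D9954 (iv D5500) (iv F7819)
theorem F17691 : act 5 n9954 = n9946 := d22_2 D5143 D9954 (iv D9946) (iv D5140)
def n9955 : Q := act 1 n5144
theorem D9955 : act 1 n5144 = n9955 := rfl
theorem F17692 : act 4 n9955 = n5501 := d8_2 (iv F7820) D9955 (iv D5501)
theorem F17693 : act 6 n9955 = n5149 := d10_2 D5144 D9955 (iv D5149) (iv D2484) D2481
def n9956 : Q := act 5 n5144
theorem D9956 : act 5 n5144 = n9956 := rfl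
theorem F17694 : act 0 n9956 = n9954 := d4_1 D9956 F17691 F17679
theorem F17695 : act 4 n9956 = n5502 := d18_1 D9956 (iv D5502) (iv F7820)
theorem F17696 : act 6 n9956 = n9945 := d20_2 D5144 D9956 (iv D9945) D9946 (iv F17691) (iv D9954) (iv D5143)
def n9957 : Q := act 1 n5145
theorem D9957 : act 1 n5145 = n9957 := rfl
def n9958 : Q := act 3 n5145
theorem D9958 : act 3 n5145 = n9958 := rfl
theorem F17697 : act 0 n9958 = n5150 := d2_1 D9958 (iv D5150) (iv F7821)
theorem F17698 : act 4 n9958 = n9958 := d15_2 F13894 D9958 (iv D9958) (iv F13894) F16042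
theorem F17699 : act 2 n9958 = n5150 := d21_2 D5145 D9958 (iv D5150) (iv D2485) (iv D1210) F1135 D1210 (iv F3900)
theorem F17700 : act 2 n7661 = n9947 := d25_17 D872 D1757 D3640 (iv F16016) F16015 (iv D7595) (iv F16016) F16015 F16016 (iv D3640) F15504 (iv D1757) F1560 D880 D1773 D3672 D7661 (iv D9947) (iv D5141) (iv D2481) D2482 D5145 D9958 F17699 F7828 F16043 (iv D5150) (iv D2485) (iv D1210) F1135 (iv D610) D611 F1137 (iv D611) (iv D312) F317 (iv D156) (iv F268) D272 D536 D1063 D2170 D4507 F16041 (iv D4507) F3441 (iv D1064) (iv D536) (iv D272) F268 F152 (iv D72) (iv D32) (iv D15) (iv D7) F21 (iv D4) D5 F26 (iv D5) (iv D3) F13 (iv D2) F9 D2 D3 D4 D7 D15 D32 (iv F126) (iv F264) (iv D128) (iv F231) D228 (iv F863) F15248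
theorem E6984 : n9950 = n7996 := (c21_7 (iv F5638) D7661 F17700 (iv D9947) (iv D5141) D5142 D9950 (iv D7996) (iv D3826))
theorem F17701 : act 2 n7996 = n5142 := (sb E6984 (iv D9950))
theorem E6985 : n9944 = n7999 := (c21_9 (iv D7999) (iv D3827) (iv F5638) D7661 F17700 (iv D9947) (iv D5141) D5142 (iv F17676))
theorem F17702 : act 0 n7999 = n5142 := (sb E6985 F17676)
theorem F17703 : act 3 n7999 = n5140 := (sb E6985 (iv D9944))
def n9959 : Q := act 5 n5145
theorem D9959 : act 5 n5145 = n9959 := rfl
theorem F17704 : act 0 n9959 = n5151 := d4_1 D9959 (iv D5151) (iv F7821)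
theorem F17705 : act 2 n9959 = n5146 := d13_1 D9959 (iv D5146) D5145
def n9960 : Q := act 6 n5145
theorem D9960 : act 6 n5145 = n9960 := rfl
theorem F17706 : act 0 n9960 = n5152 := d5_1 D9960 (iv D5152) (iv F7821)
theorem F17707 : act 2 n9960 = n5147 := d14_1 D9960 (iv D5147) D5145
def n9961 : Q := act 1 n5146
theorem D9961 : act 1 n5146 = n9961 := rfl
theorem F17708 : act 3 n9961 = n5148 := d7_2 (iv F7823) D9961 (iv D5148)
def n9962 : Q := act 1 n5147
theorem D9962 : act 1 n5147 = n9962 := rfl
theorem F17709 : act 3 n9962 = n5149 := d7_2 (iv F7825) D9962 (iv D5149)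
def n9963 : Q := act 0 n5148
theorem D9963 : act 0 n5148 = n9963 := rfl
theorem F17710 : act 4 n9963 = n5503 := d3_2 (iv F7826) D9963 (iv D5503)
def n9964 : Q := act 2 n5148
theorem D9964 : act 2 n5148 = n9964 := rfl
theorem F17711 : act 1 n9964 = n9964 := d6_1 D9964 (iv D9964) (iv D5148) F3902 D5148
theorem F17712 : act 4 n9964 = n5504 := d12_2 (iv F7826) D9964 (iv D5504)
def n9965 : Q := act 6 n5148
theorem D9965 : act 6 n5148 = n9965 := rfl
theorem F17713 : act 4 n9965 = n5505 := d19_1 D9965 (iv D5505) (iv F7826)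
def n9966 : Q := act 0 n5149
theorem D9966 : act 0 n5149 = n9966 := rfl
theorem F17714 : act 4 n9966 = n5506 := d3_2 (iv F7827) D9966 (iv D5506)
def n9967 : Q := act 2 n5149
theorem D9967 : act 2 n5149 = n9967 := rfl
theorem F17715 : act 1 n9967 = n9967 := d6_1 D9967 (iv D9967) (iv D5149) F3905 D5149
theorem F17716 : act 4 n9967 = n5507 := d12_2 (iv F7827) D9967 (iv D5507)
def n9968 : Q := act 5 n5149
theorem D9968 : act 5 n5149 = n9968 := rfl
theorem F17717 : act 4 n9968 = n5508 := d18_1 D9968 (iv D5508) (iv F7827)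
def n9969 : Q := act 5 n5150
theorem D9969 : act 5 n5150 = n9969 := rfl
theorem F17718 : act 3 n9969 = n5151 := d16_1 D9969 (iv D5151) D5150
theorem F17719 : act 4 n9969 = n9969 := d18_1 D9969 (iv D9969) F16043
def n9970 : Q := act 6 n5150
theorem D9970 : act 6 n5150 = n9970 := rfl
theorem F17720 : act 3 n9970 = n5152 := d17_1 D9970 (iv D5152) D5150
theorem F17721 : act 4 n9970 = n9970 := d19_1 D9970 (iv D9970) F16043
def n9971 : Q := act 1 n5151
theorem D9971 : act 1 n5151 = n9971 := rfl
theorem F17722 : act 5 n9971 = n9971 := d9_2 D5151 D9971 (iv D9971) (iv D5151) F3907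
def n9972 : Q := act 6 n5151
theorem D9972 : act 6 n5151 = n9972 := rfl
theorem F17723 : act 2 n9972 = n5154 := d14_1 D9972 (iv D5154) (iv F7829)
theorem F17724 : act 5 n9972 = n9960 := d22_2 D5151 D9972 (iv D9960) F7821
def n9973 : Q := act 1 n5152
theorem D9973 : act 1 n5152 = n9973 := rfl
theorem F17725 : act 6 n9973 = n9973 := d10_2 D5152 D9973 (iv D9973) (iv D5152) F3907
def n9974 : Q := act 5 n5152
theorem D9974 : act 5 n5152 = n9974 := rfl
theorem F17726 : act 0 n9974 = n9972 := d4_1 D9974 F17724 F17706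
theorem F17727 : act 2 n9974 = n5156 := d13_1 D9974 (iv D5156) (iv F7830)
theorem F17728 : act 6 n9974 = n9959 := d20_2 D5152 D9974 (iv D9959) D9960 (iv F17724) (iv D9972) (iv D5151)
def n9975 : Q := act 0 n5153
theorem D9975 : act 0 n5153 = n9975 := rfl
theorem F17729 : act 3 n9975 = n5157 := d2_2 (iv F7831) D9975 (iv D5157)
theorem F17730 : act 5 n9975 = n5165 := d4_2 (iv F7832) D9975 (iv D5165)
def n9976 : Q := act 2 n5153
theorem D9976 : act 2 n5153 = n9976 := rfl
theorem F17731 : act 5 n9976 = n5166 := d13_2 (iv F7832) D9976 (iv D5166)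
def n9977 : Q := act 6 n5153
theorem D9977 : act 6 n5153 = n9977 := rfl
theorem F17732 : act 3 n9977 = n5159 := d17_1 D9977 (iv D5159) (iv F7831)
def n9978 : Q := act 1 n5154
theorem D9978 : act 1 n5154 = n9978 := rfl
theorem F17733 : act 3 n9978 = n5160 := d7_2 (iv F7833) D9978 (iv D5160)
def n9979 : Q := act 0 n5155
theorem D9979 : act 0 n5155 = n9979 := rfl
theorem F17734 : act 3 n9979 = n5161 := d2_2 (iv F7835) D9979 (iv D5161)
theorem F17735 : act 6 n9979 = n5169 := d5_2 (iv F7836) D9979 (iv D5169)
def n9980 : Q := act 2 n5155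
theorem D9980 : act 2 n5155 = n9980 := rfl
theorem F17736 : act 6 n9980 = n5170 := d14_2 (iv F7836) D9980 (iv D5170)
def n9981 : Q := act 5 n5155
theorem D9981 : act 5 n5155 = n9981 := rfl
theorem F17737 : act 3 n9981 = n5163 := d16_1 D9981 (iv D5163) (iv F7835)
def n9982 : Q := act 1 n5156
theorem D9982 : act 1 n5156 = n9982 := rfl
theorem F17738 : act 3 n9982 = n5164 := d7_2 (iv F7838) D9982 (iv D5164)
def n9983 : Q := act 1 n5157
theorem D9983 : act 1 n5157 = n9983 := rfl
theorem F17739 : act 4 n9983 = n5509 := d8_2 (iv F7840) D9983 (iv D5509)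
def n9984 : Q := act 2 n5157
theorem D9984 : act 2 n5157 = n9984 := rfl
theorem F17740 : act 0 n9984 = n5158 := d1_1 D9984 (iv D5158) D5157
theorem F17741 : act 4 n9984 = n5510 := d12_2 (iv F7840) D9984 (iv D5510)
theorem F17742 : act 5 n9984 = n5174 := d13_2 (iv F7841) D9984 (iv D5174)
def n9985 : Q := act 3 n5158
theorem D9985 : act 3 n5158 = n9985 := rfl
theorem F17743 : act 1 n9985 = n9985 := d7_1 D9985 (iv D9985) F7842
theorem F17744 : act 5 n9985 = n5176 := d16_2 (iv F7844) D9985 (iv D5176)
def n9986 : Q := act 6 n5158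
theorem D9986 : act 6 n5158 = n9986 := rfl
theorem F17745 : act 2 n9986 = n5159 := d14_1 D9986 (iv D5159) D5158
theorem F17746 : act 4 n9986 = n5512 := d19_1 D9986 (iv D5512) (iv F7843)
def n9987 : Q := act 1 n5159
theorem D9987 : act 1 n5159 = n9987 := rfl
theorem F17747 : act 4 n9987 = n5513 := d8_2 (iv F7845) D9987 (iv D5513)
theorem F17748 : act 6 n9987 = n5160 := d10_2 D5159 D9987 (iv D5160) (iv D2489) D2488
def n9988 : Q := act 0 n5160
theorem D9988 : act 0 n5160 = n9988 := rfl
theorem F17749 : act 4 n9988 = n5514 := d3_2 (iv F7846) D9988 (iv D5514)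
def n9989 : Q := act 2 n5160
theorem D9989 : act 2 n5160 = n9989 := rfl
theorem F17750 : act 1 n9989 = n9989 := d6_1 D9989 (iv D9989) (iv D5160) F3912 D5160
theorem F17751 : act 4 n9989 = n5515 := d12_2 (iv F7846) D9989 (iv D5515)
def n9990 : Q := act 5 n5160
theorem D9990 : act 5 n5160 = n9990 := rfl
theorem F17752 : act 1 n9990 = n9968 := d9_1 D9990 (iv D9968) (iv D5149) (iv F3914) D5160
theorem F17753 : act 4 n9990 = n5516 := d18_1 D9990 (iv D5516) (iv F7846)
def n9991 : Q := act 1 n5161
theorem D9991 : act 1 n5161 = n9991 := rfl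
theorem F17754 : act 4 n9991 = n5517 := d8_2 (iv F7847) D9991 (iv D5517)
def n9992 : Q := act 2 n5161
theorem D9992 : act 2 n5161 = n9992 := rfl
theorem F17755 : act 0 n9992 = n5162 := d1_1 D9992 (iv D5162) D5161
theorem F17756 : act 4 n9992 = n5518 := d12_2 (iv F7847) D9992 (iv D5518)
theorem F17757 : act 6 n9992 = n5184 := d14_2 (iv F7848) D9992 (iv D5184)
def n9993 : Q := act 3 n5162
theorem D9993 : act 3 n5162 = n9993 := rfl
theorem F17758 : act 1 n9993 = n9993 := d7_1 D9993 (iv D9993) F7849
theorem F17759 : act 6 n9993 = n5186 := d17_2 (iv F7851) D9993 (iv D5186)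
def n9994 : Q := act 5 n5162
theorem D9994 : act 5 n5162 = n9994 := rfl
theorem F17760 : act 2 n9994 = n5163 := d13_1 D9994 (iv D5163) D5162
theorem F17761 : act 4 n9994 = n5520 := d18_1 D9994 (iv D5520) (iv F7850)
def n9995 : Q := act 1 n5163
theorem D9995 : act 1 n5163 = n9995 := rfl
theorem F17762 : act 4 n9995 = n5521 := d8_2 (iv F7852) D9995 (iv D5521)
theorem F17763 : act 5 n9995 = n5164 := d9_2 D5163 D9995 (iv D5164) (iv D2491) D2490
def n9996 : Q := act 0 n5164
theorem D9996 : act 0 n5164 = n9996 := rfl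
theorem F17764 : act 4 n9996 = n5522 := d3_2 (iv F7853) D9996 (iv D5522)
def n9997 : Q := act 2 n5164
theorem D9997 : act 2 n5164 = n9997 := rfl
theorem F17765 : act 1 n9997 = n9997 := d6_1 D9997 (iv D9997) (iv D5164) F3918 D5164
theorem F17766 : act 4 n9997 = n5523 := d12_2 (iv F7853) D9997 (iv D5523)
def n9998 : Q := act 6 n5164
theorem D9998 : act 6 n5164 = n9998 := rfl
theorem F17767 : act 1 n9998 = n9965 := d10_1 D9998 (iv D9965) (iv D5148) (iv F3920) D5164
theorem F17768 : act 4 n9998 = n5524 := d19_1 D9998 (iv D5524) (iv F7853)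
def n9999 : Q := act 1 n5165
theorem D9999 : act 1 n5165 = n9999 := rfl
theorem F17769 : act 3 n9999 = n5173 := d7_2 (iv F7854) D9999 (iv D5173)
def n10000 : Q := act 2 n5165
theorem D10000 : act 2 n5165 = n10000 := rfl
theorem F17770 : act 0 n10000 = n5166 := d1_1 D10000 (iv D5166) D5165
def n10001 : Q := act 6 n5165
theorem D10001 : act 6 n5165 = n10001 := rfl
theorem F17771 : act 0 n10001 = n5167 := d5_1 D10001 (iv D5167) D5165
theorem F17772 : act 3 n10001 = n5175 := d17_1 D10001 (iv D5175) (iv F7854)
theorem F17773 : act 5 n10001 = n9977 := d22_2 F17730 D10001 (iv D9977) D9975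
def n10002 : Q := act 3 n5166
theorem D10002 : act 3 n5166 = n10002 := rfl
theorem F17774 : act 1 n10002 = n10002 := d7_1 D10002 (iv D10002) F7855
def n10003 : Q := act 6 n5166
theorem D10003 : act 6 n5166 = n10003 := rfl
theorem F17775 : act 2 n10003 = n5167 := d14_1 D10003 (iv D5167) D5166
def n10004 : Q := act 1 n5167
theorem D10004 : act 1 n5167 = n10004 := rfl
theorem F17776 : act 3 n10004 = n5178 := d7_2 (iv F7856) D10004 (iv D5178)
theorem F17777 : act 6 n10004 = n5168 := d10_2 D5167 D10004 (iv D5168) (iv D2493) D2492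
def n10005 : Q := act 5 n5167
theorem D10005 : act 5 n5167 = n10005 := rfl
theorem F17778 : act 0 n10005 = n9977 := d4_1 D10005 (iv F17773) F17771
theorem F17779 : act 3 n10005 = n5179 := d16_1 D10005 (iv D5179) (iv F7856)
theorem F17780 : act 6 n10005 = n9975 := d20_2 D5167 D10005 F17730 D10001 F17773 (iv D9977) F7832
def n10006 : Q := act 0 n5168
theorem D10006 : act 0 n5168 = n10006 := rfl
theorem F17781 : act 3 n10006 = n5180 := d2_2 (iv F7857) D10006 (iv D5180)
def n10007 : Q := act 2 n5168
theorem D10007 : act 2 n5168 = n10007 := rfl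
theorem F17782 : act 1 n10007 = n10007 := d6_1 D10007 (iv D10007) (iv D5168) F3922 D5168
def n10008 : Q := act 5 n5168
theorem D10008 : act 5 n5168 = n10008 := rfl
theorem F17783 : act 1 n10008 = n9330 := d9_1 D10008 (iv D9330) (iv D4515) (iv F3924) D5168
theorem F17784 : act 3 n10008 = n5182 := d16_1 D10008 (iv D5182) (iv F7857)
def n10009 : Q := act 1 n5169
theorem D10009 : act 1 n5169 = n10009 := rfl
theorem F17785 : act 3 n10009 = n5183 := d7_2 (iv F7858) D10009 (iv D5183)
def n10010 : Q := act 2 n5169
theorem D10010 : act 2 n5169 = n10010 := rfl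
theorem F17786 : act 0 n10010 = n5170 := d1_1 D10010 (iv D5170) D5169
def n10011 : Q := act 5 n5169
theorem D10011 : act 5 n5169 = n10011 := rfl
theorem F17787 : act 0 n10011 = n5171 := d4_1 D10011 (iv D5171) D5169
theorem F17788 : act 3 n10011 = n5185 := d16_1 D10011 (iv D5185) (iv F7858)
theorem F17789 : act 6 n10011 = n9981 := d22_1 D10011 (iv D9981) F7836 D5169
def n10012 : Q := act 3 n5170
theorem D10012 : act 3 n5170 = n10012 := rfl
theorem F17790 : act 1 n10012 = n10012 := d7_1 D10012 (iv D10012) F7859
def n10013 : Q := act 5 n5170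
theorem D10013 : act 5 n5170 = n10013 := rfl
theorem F17791 : act 2 n10013 = n5171 := d13_1 D10013 (iv D5171) D5170
def n10014 : Q := act 1 n5171
theorem D10014 : act 1 n5171 = n10014 := rfl
theorem F17792 : act 3 n10014 = n5188 := d7_2 (iv F7860) D10014 (iv D5188)
theorem F17793 : act 4 n10014 = n10008 := d8_2 F13944 D10014 F17783
theorem F17794 : act 5 n10014 = n5172 := d9_2 D5171 D10014 (iv D5172) (iv D2495) D2494
def n10015 : Q := act 6 n5171
theorem D10015 : act 6 n5171 = n10015 := rfl
theorem F17795 : act 0 n10015 = n9981 := d5_1 D10015 (iv F17789) F17787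
theorem F17796 : act 3 n10015 = n5189 := d17_1 D10015 (iv D5189) (iv F7860)
theorem F17797 : act 5 n10015 = n9979 := d20_1 D10015 F17735 D10011 F17789 (iv D9981) F7836 D5171
def n10016 : Q := act 0 n5172
theorem D10016 : act 0 n5172 = n10016 := rfl
theorem F17798 : act 3 n10016 = n5190 := d2_2 (iv F7861) D10016 (iv D5190)
theorem F17799 : act 4 n10016 = n10006 := d3_2 (iv F7862) D10016 (iv D10006)
def n10017 : Q := act 2 n5172
theorem D10017 : act 2 n5172 = n10017 := rfl
theorem F17800 : act 1 n10017 = n10017 := d6_1 D10017 (iv D10017) (iv D5172) F3927 D5172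
theorem F17801 : act 4 n10017 = n10007 := d12_2 (iv F7862) D10017 (iv D10007)
def n10018 : Q := act 6 n5172
theorem D10018 : act 6 n5172 = n10018 := rfl
theorem F17802 : act 1 n10018 = n9327 := d10_1 D10018 (iv D9327) (iv D4514) (iv F3930) D5172
theorem F17803 : act 3 n10018 = n5192 := d17_1 D10018 (iv D5192) (iv F7861)
theorem F17804 : act 4 n10018 = n10004 := d19_1 D10018 F17777 (iv F7862)
def n10019 : Q := act 0 n5173
theorem D10019 : act 0 n5173 = n10019 := rfl
theorem F17805 : act 4 n10019 = n5525 := d3_2 (iv F7863) D10019 (iv D5525)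
def n10020 : Q := act 2 n5173
theorem D10020 : act 2 n5173 = n10020 := rfl
theorem F17806 : act 4 n10020 = n5526 := d12_2 (iv F7863) D10020 (iv D5526)
def n10021 : Q := act 5 n5173
theorem D10021 : act 5 n5173 = n10021 := rfl
theorem F17807 : act 4 n10021 = n5527 := d18_1 D10021 (iv D5527) (iv F7863)
def n10022 : Q := act 6 n5173
theorem D10022 : act 6 n5173 = n10022 := rfl
theorem F17808 : act 4 n10022 = n5528 := d19_1 D10022 (iv D5528) (iv F7863)
def n10023 : Q := act 1 n5174
theorem D10023 : act 1 n5174 = n10023 := rfl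
theorem F17809 : act 4 n10023 = n5529 := d8_2 (iv F7865) D10023 (iv D5529)
def n10024 : Q := act 3 n5174
theorem D10024 : act 3 n5174 = n10024 := rfl
theorem F17810 : act 0 n10024 = n5176 := d2_1 D10024 (iv D5176) (iv F7864)
def n10025 : Q := act 6 n5174
theorem D10025 : act 6 n5174 = n10025 := rfl
theorem F17811 : act 0 n10025 = n5177 := d5_1 D10025 (iv D5177) (iv F7864)
theorem F17812 : act 2 n10025 = n5175 := d14_1 D10025 (iv D5175) D5174
theorem F17813 : act 4 n10025 = n5531 := d19_1 D10025 (iv D5531) (iv F7865)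
theorem F17814 : act 5 n10025 = n9986 := d22_2 F17742 D10025 (iv D9986) (iv F17740)
def n10026 : Q := act 1 n5175
theorem D10026 : act 1 n5175 = n10026 := rfl
theorem F17815 : act 4 n10026 = n5532 := d8_2 (iv F7867) D10026 (iv D5532)
def n10027 : Q := act 2 n5176
theorem D10027 : act 2 n5176 = n10027 := rfl
def n10028 : Q := act 4 n5176
theorem D10028 : act 4 n5176 = n10028 := rfl
theorem F17816 : act 1 n10028 = n5202 := d8_1 D10028 (iv D5202) (iv F7869)
theorem F17817 : act 3 n10028 = n5534 := d15_1 D10028 (iv D5534) (iv D2667) (iv F3933) D5176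
def n10029 : Q := act 6 n5176
theorem D10029 : act 6 n5176 = n10029 := rfl
theorem F17818 : act 3 n10029 = n5177 := d17_1 D10029 (iv D5177) D5176
def n10030 : Q := act 1 n5177
theorem D10030 : act 1 n5177 = n10030 := rfl
theorem F17819 : act 4 n10030 = n5536 := d8_2 (iv F7871) D10030 (iv D5536)
theorem F17820 : act 6 n10030 = n5204 := d10_2 D5177 D10030 (iv D5204) (iv D2508) (iv F3932)
def n10031 : Q := act 5 n5177
theorem D10031 : act 5 n5177 = n10031 := rfl
theorem F17821 : act 0 n10031 = n9986 := d4_1 D10031 (iv F17814) F17811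
theorem F17822 : act 2 n10031 = n5179 := d13_1 D10031 (iv D5179) (iv F7870)
theorem F17823 : act 4 n10031 = n5537 := d18_1 D10031 (iv D5537) (iv F7871)
theorem F17824 : act 6 n10031 = n9984 := d20_2 D5177 D10031 F17742 D10025 F17814 (iv D9986) F7844
def n10032 : Q := act 0 n5178
theorem D10032 : act 0 n5178 = n10032 := rfl
theorem F17825 : act 4 n10032 = n5538 := d3_2 (iv F7872) D10032 (iv D5538)
theorem F17826 : act 6 n10032 = n5180 := d5_2 (iv F7873) D10032 (iv D5180)
def n10033 : Q := act 2 n5178
theorem D10033 : act 2 n5178 = n10033 := rfl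
theorem F17827 : act 4 n10033 = n5539 := d12_2 (iv F7872) D10033 (iv D5539)
theorem F17828 : act 6 n10033 = n5181 := d14_2 (iv F7873) D10033 (iv D5181)
def n10034 : Q := act 5 n5178
theorem D10034 : act 5 n5178 = n10034 := rfl
theorem F17829 : act 4 n10034 = n5540 := d18_1 D10034 (iv D5540) (iv F7872)
def n10035 : Q := act 1 n5179
theorem D10035 : act 1 n5179 = n10035 := rfl
theorem F17830 : act 4 n10035 = n5541 := d8_2 (iv F7875) D10035 (iv D5541)
def n10036 : Q := act 1 n5180
theorem D10036 : act 1 n5180 = n10036 := rfl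
theorem F17831 : act 4 n10036 = n5542 := d8_2 (iv F7877) D10036 (iv D5542)
def n10037 : Q := act 2 n5180
theorem D10037 : act 2 n5180 = n10037 := rfl
theorem F17832 : act 0 n10037 = n5181 := d1_1 D10037 (iv D5181) D5180
theorem F17833 : act 4 n10037 = n5543 := d12_2 (iv F7877) D10037 (iv D5543)
def n10038 : Q := act 5 n5180
theorem D10038 : act 5 n5180 = n10038 := rfl
theorem F17834 : act 0 n10038 = n5182 := d4_1 D10038 (iv D5182) D5180
theorem F17835 : act 4 n10038 = n5544 := d18_1 D10038 (iv D5544) (iv F7877)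
theorem F17836 : act 6 n10038 = n10034 := d22_1 D10038 (iv D10034) F7873 D5180
def n10039 : Q := act 3 n5181
theorem D10039 : act 3 n5181 = n10039 := rfl
theorem F17837 : act 1 n10039 = n5211 := d7_1 D10039 (iv D5211) (iv F7878)
def n10040 : Q := act 5 n5181
theorem D10040 : act 5 n5181 = n10040 := rfl
theorem F17838 : act 2 n10040 = n5182 := d13_1 D10040 (iv D5182) D5181
theorem F17839 : act 4 n10040 = n5546 := d18_1 D10040 (iv D5546) (iv F7879)
def n10041 : Q := act 6 n5182
theorem D10041 : act 6 n5182 = n10041 := rfl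
theorem F17840 : act 0 n10041 = n10034 := d5_1 D10041 (iv F17836) F17834
theorem F17841 : act 4 n10041 = n5547 := d19_1 D10041 (iv D5547) (iv F7881)
theorem F17842 : act 5 n10041 = n10032 := d20_1 D10041 F17826 D10038 F17836 (iv D10034) F7873 D5182
def n10042 : Q := act 0 n5183
theorem D10042 : act 0 n5183 = n10042 := rfl
theorem F17843 : act 4 n10042 = n5548 := d3_2 (iv F7882) D10042 (iv D5548)
def n10043 : Q := act 2 n5183
theorem D10043 : act 2 n5183 = n10043 := rfl
theorem F17844 : act 4 n10043 = n5549 := d12_2 (iv F7882) D10043 (iv D5549)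
def n10044 : Q := act 5 n5183
theorem D10044 : act 5 n5183 = n10044 := rfl
theorem F17845 : act 4 n10044 = n5550 := d18_1 D10044 (iv D5550) (iv F7882)
def n10045 : Q := act 6 n5183
theorem D10045 : act 6 n5183 = n10045 := rfl
theorem F17846 : act 4 n10045 = n5551 := d19_1 D10045 (iv D5551) (iv F7882)
def n10046 : Q := act 1 n5184
theorem D10046 : act 1 n5184 = n10046 := rfl
theorem F17847 : act 4 n10046 = n5552 := d8_2 (iv F7884) D10046 (iv D5552)
def n10047 : Q := act 3 n5184
theorem D10047 : act 3 n5184 = n10047 := rfl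
theorem F17848 : act 0 n10047 = n5186 := d2_1 D10047 (iv D5186) (iv F7883)
def n10048 : Q := act 5 n5184
theorem D10048 : act 5 n5184 = n10048 := rfl
theorem F17849 : act 0 n10048 = n5187 := d4_1 D10048 (iv D5187) (iv F7883)
theorem F17850 : act 2 n10048 = n5185 := d13_1 D10048 (iv D5185) D5184
theorem F17851 : act 4 n10048 = n5554 := d18_1 D10048 (iv D5554) (iv F7884)
theorem F17852 : act 6 n10048 = n9994 := d22_1 D10048 (iv D9994) F7851 (iv F7883)
def n10049 : Q := act 1 n5185
theorem D10049 : act 1 n5185 = n10049 := rfl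
theorem F17853 : act 4 n10049 = n5555 := d8_2 (iv F7886) D10049 (iv D5555)
def n10050 : Q := act 2 n5186
theorem D10050 : act 2 n5186 = n10050 := rfl
def n10051 : Q := act 4 n5186
theorem D10051 : act 4 n5186 = n10051 := rfl
theorem F17854 : act 1 n10051 = n5223 := d8_1 D10051 (iv D5223) (iv F7888)
theorem F17855 : act 3 n10051 = n5557 := d15_1 D10051 (iv D5557) (iv D2677) (iv F3938) D5186
def n10052 : Q := act 5 n5186
theorem D10052 : act 5 n5186 = n10052 := rfl
theorem F17856 : act 3 n10052 = n5187 := d16_1 D10052 (iv D5187) D5186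
def n10053 : Q := act 1 n5187
theorem D10053 : act 1 n5187 = n10053 := rfl
theorem F17857 : act 4 n10053 = n5559 := d8_2 (iv F7890) D10053 (iv D5559)
theorem F17858 : act 5 n10053 = n5225 := d9_2 D5187 D10053 (iv D5225) (iv D2517) (iv F3937)
def n10054 : Q := act 6 n5187
theorem D10054 : act 6 n5187 = n10054 := rfl
theorem F17859 : act 0 n10054 = n9994 := d5_1 D10054 (iv F17852) F17849
theorem F17860 : act 2 n10054 = n5189 := d14_1 D10054 (iv D5189) (iv F7889)
theorem F17861 : act 4 n10054 = n5560 := d19_1 D10054 (iv D5560) (iv F7890)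
theorem F17862 : act 5 n10054 = n9992 := d20_1 D10054 F17757 D10048 F17852 (iv D9994) F7851 D5187
def n10055 : Q := act 0 n5188
theorem D10055 : act 0 n5188 = n10055 := rfl
theorem F17863 : act 4 n10055 = n5561 := d3_2 (iv F7891) D10055 (iv D5561)
theorem F17864 : act 5 n10055 = n5190 := d4_2 (iv F7892) D10055 (iv D5190)
def n10056 : Q := act 2 n5188
theorem D10056 : act 2 n5188 = n10056 := rfl
theorem F17865 : act 4 n10056 = n5562 := d12_2 (iv F7891) D10056 (iv D5562)
theorem F17866 : act 5 n10056 = n5191 := d13_2 (iv F7892) D10056 (iv D5191)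
def n10057 : Q := act 6 n5188
theorem D10057 : act 6 n5188 = n10057 := rfl
theorem F17867 : act 4 n10057 = n5563 := d19_1 D10057 (iv D5563) (iv F7891)
def n10058 : Q := act 1 n5189
theorem D10058 : act 1 n5189 = n10058 := rfl
theorem F17868 : act 4 n10058 = n5564 := d8_2 (iv F7894) D10058 (iv D5564)
def n10059 : Q := act 1 n5190
theorem D10059 : act 1 n5190 = n10059 := rfl
theorem F17869 : act 4 n10059 = n5565 := d8_2 (iv F7896) D10059 (iv D5565)
def n10060 : Q := act 2 n5190
theorem D10060 : act 2 n5190 = n10060 := rfl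
theorem F17870 : act 0 n10060 = n5191 := d1_1 D10060 (iv D5191) D5190
theorem F17871 : act 4 n10060 = n5566 := d12_2 (iv F7896) D10060 (iv D5566)
def n10061 : Q := act 6 n5190
theorem D10061 : act 6 n5190 = n10061 := rfl
theorem F17872 : act 0 n10061 = n5192 := d5_1 D10061 (iv D5192) D5190
theorem F17873 : act 4 n10061 = n5567 := d19_1 D10061 (iv D5567) (iv F7896)
theorem F17874 : act 5 n10061 = n10057 := d22_2 F17864 D10061 (iv D10057) D10055
def n10062 : Q := act 3 n5191
theorem D10062 : act 3 n5191 = n10062 := rfl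
theorem F17875 : act 1 n10062 = n5232 := d7_1 D10062 (iv D5232) (iv F7897)
def n10063 : Q := act 6 n5191
theorem D10063 : act 6 n5191 = n10063 := rfl
theorem F17876 : act 2 n10063 = n5192 := d14_1 D10063 (iv D5192) D5191
theorem F17877 : act 4 n10063 = n5569 := d19_1 D10063 (iv D5569) (iv F7898)
def n10064 : Q := act 5 n5192
theorem D10064 : act 5 n5192 = n10064 := rfl
theorem F17878 : act 0 n10064 = n10057 := d4_1 D10064 (iv F17874) F17872
theorem F17879 : act 4 n10064 = n5570 := d18_1 D10064 (iv D5570) (iv F7900)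
theorem F17880 : act 6 n10064 = n10055 := d20_2 D5192 D10064 F17864 D10061 F17874 (iv D10057) F7892
def n10065 : Q := act 1 n5201
theorem D10065 : act 1 n5201 = n10065 := rfl
theorem F17881 : act 3 n10065 = n5204 := d7_2 (iv F17216) D10065 (iv D5204)
def n10066 : Q := act 4 n5201
theorem D10066 : act 4 n5201 = n10066 := rfl
theorem F17882 : act 0 n10066 = n10066 := d3_1 D10066 (iv D10066) F14956
theorem F17883 : act 2 n10066 = n5202 := d12_1 D10066 (iv D5202) D5201
theorem F17884 : act 3 n10066 = n5591 := d15_1 D10066 F8471 F4207 (iv F3952) (iv F17216)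
theorem F17885 : act 5 n10066 = n10066 := d18_2 F7918 D10066 (iv D10066)
theorem F17886 : act 6 n10066 = n5202 := d19_2 (iv F17217) D10066 (iv D5202)
def n10067 : Q := act 0 n5204
theorem D10067 : act 0 n5204 = n10067 := rfl
theorem F17887 : act 4 n10067 = n5593 := d3_2 (iv F7922) D10067 (iv D5593)
def n10068 : Q := act 5 n5204
theorem D10068 : act 5 n5204 = n10068 := rfl
theorem F17888 : act 1 n10068 = n10068 := d9_1 D10068 (iv D10068) (iv D5204) F15077 D5204
theorem F17889 : act 4 n10068 = n5595 := d18_1 D10068 (iv D5595) (iv F7922)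
def n10069 : Q := act 0 n5208
theorem D10069 : act 0 n5208 = n10069 := rfl
theorem F17890 : act 3 n10069 = n5269 := d2_2 (iv F7930) D10069 (iv D5269)
theorem F17891 : act 4 n10069 = n5600 := d3_2 (iv F7931) D10069 (iv D5600)
theorem F17892 : act 6 n10069 = n8947 := d5_2 (iv F17022) D10069 (iv D8947)
theorem F17893 : act 5 n10069 = n5208 := d22_0 F17022 F16882 (iv F17022) D10069
def n10070 : Q := act 2 n5208
theorem D10070 : act 2 n5208 = n10070 := rfl
theorem F17894 : act 4 n10070 = n5601 := d12_2 (iv F7931) D10070 (iv D5601)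
theorem F17895 : act 6 n10070 = n8948 := d14_2 (iv F17022) D10070 (iv D8948)
def n10071 : Q := act 1 n5209
theorem D10071 : act 1 n5209 = n10071 := rfl
theorem F17896 : act 4 n10071 = n5604 := d8_2 (iv F7933) D10071 (iv D5604)
def n10072 : Q := act 3 n5209
theorem D10072 : act 3 n5209 = n10072 := rfl
theorem F17897 : act 0 n10072 = n5211 := d2_1 D10072 (iv D5211) (iv F7932)
theorem F17898 : act 6 n10072 = n8944 := d17_2 (iv F17179) D10072 (iv D8944)
theorem F17899 : act 2 n10072 = n9353 := d21_2 D5209 D10072 F13986 F6900 F3458 (iv F16824) (iv F2070) D2510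
def n10073 : Q := act 2 n5211
theorem D10073 : act 2 n5211 = n10073 := rfl
theorem F17900 : act 0 n10073 = n9353 := d1_1 D10073 (iv F17899) F17897
theorem F17901 : act 3 n10073 = n9349 := d11_2 D5211 D10073 F13980 F6897 (iv F16960) (iv F3956) D5209 D10072 F17899 F13986 F6900 F3458 (iv F16824) (iv F2070) D2511
theorem F17902 : act 5 n10073 = n10072 := d13_2 F17237 D10073 F17899
theorem F17903 : act 6 n10073 = n9348 := d14_2 (iv F17236) D10073 (iv F14058)
def n10074 : Q := act 4 n5211
theorem D10074 : act 4 n5211 = n10074 := rfl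
theorem F17904 : act 3 n10074 = n5609 := d15_1 D10074 (iv D5609) (iv D2701) (iv F3958) D5211
def n10075 : Q := act 1 n5222
theorem D10075 : act 1 n5222 = n10075 := rfl
theorem F17905 : act 3 n10075 = n5225 := d7_2 (iv F16864) D10075 (iv D5225)
def n10076 : Q := act 4 n5222
theorem D10076 : act 4 n5222 = n10076 := rfl
theorem F17906 : act 0 n10076 = n10076 := d3_1 D10076 (iv D10076) F16867
theorem F17907 : act 2 n10076 = n5223 := d12_1 D10076 (iv D5223) D5222
theorem F17908 : act 3 n10076 = n5634 := d15_1 D10076 F8524 F4233 (iv F3973) (iv F16864)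
theorem F17909 : act 5 n10076 = n5223 := d18_2 (iv F16865) D10076 (iv D5223)
theorem F17910 : act 6 n10076 = n10076 := d19_2 F7961 D10076 (iv D10076)
def n10077 : Q := act 0 n5225
theorem D10077 : act 0 n5225 = n10077 := rfl
theorem F17911 : act 4 n10077 = n5636 := d3_2 (iv F7965) D10077 (iv D5636)
def n10078 : Q := act 6 n5225
theorem D10078 : act 6 n5225 = n10078 := rfl
theorem F17912 : act 1 n10078 = n10078 := d10_1 D10078 (iv D10078) (iv D5225) F16771 D5225
theorem F17913 : act 4 n10078 = n5638 := d19_1 D10078 (iv D5638) (iv F7965)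
def n10079 : Q := act 0 n5229
theorem D10079 : act 0 n5229 = n10079 := rfl
theorem F17914 : act 1 n10079 = n10069 := d0_2 D5229 D10079 (iv D10069) (iv D5208) (iv D2510) (iv D1222) (iv F1151) D1226 D2519
theorem F17915 : act 3 n10079 = n5317 := d2_2 (iv F7973) D10079 (iv D5317)
theorem F17916 : act 4 n10079 = n5643 := d3_2 (iv F7974) D10079 (iv D5643)
theorem F17917 : act 5 n10079 = n8955 := d4_2 (iv F16767) D10079 (iv D8955)
theorem F17918 : act 6 n10079 = n5229 := d22_3 F17917 F16227 (iv F17917) D10079
def n10080 : Q := act 2 n5229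
theorem D10080 : act 2 n5229 = n10080 := rfl
theorem F17919 : act 4 n10080 = n5644 := d12_2 (iv F7974) D10080 (iv D5644)
theorem F17920 : act 5 n10080 = n8956 := d13_2 (iv F16767) D10080 (iv D8956)
def n10081 : Q := act 1 n5230
theorem D10081 : act 1 n5230 = n10081 := rfl
theorem F17921 : act 4 n10081 = n5647 := d8_2 (iv F7976) D10081 (iv D5647)
def n10082 : Q := act 3 n5230
theorem D10082 : act 3 n5230 = n10082 := rfl
theorem F17922 : act 0 n10082 = n5232 := d2_1 D10082 (iv D5232) (iv F7975)
theorem F17923 : act 5 n10082 = n8952 := d16_2 (iv F16768) D10082 (iv D8952)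
theorem F17924 : act 2 n10082 = n9367 := d21_2 D5230 D10082 F14011 F6914 F3463 F16641 (iv F2079) D2519
def n10083 : Q := act 2 n5232
theorem D10083 : act 2 n5232 = n10083 := rfl
theorem F17925 : act 0 n10083 = n9367 := d1_1 D10083 (iv F17924) F17922
theorem F17926 : act 3 n10083 = n9363 := d11_2 D5232 D10083 F14005 F6911 F16662 (iv F3977) D5230 D10082 F17924 F14011 F6914 F3463 F16641 (iv F2079) D2520
theorem F17927 : act 5 n10083 = n9362 := d13_2 F17480 D10083 (iv F14115)
theorem F17928 : act 6 n10083 = n10082 := d14_2 (iv F17479) D10083 F17924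
def n10084 : Q := act 4 n5232
theorem D10084 : act 4 n5232 = n10084 := rfl
theorem F17929 : act 3 n10084 = n5652 := d15_1 D10084 (iv D5652) (iv D2721) (iv F3979) D5232
def n10085 : Q := act 2 n5269
theorem D10085 : act 2 n5269 = n10085 := rfl
theorem F17930 : act 0 n10085 = n5270 := d1_1 D10085 (iv D5270) D5269
theorem F17931 : act 4 n10085 = n5387 := d12_2 (iv F8048) D10085 (iv D5387)
theorem F17932 : act 5 n10085 = n5270 := d13_2 F16883 D10085 (iv D5270)
theorem F17933 : act 6 n10085 = n8971 := d14_2 (iv F16751) D10085 (iv D8971)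
def n10086 : Q := act 3 n5270
theorem D10086 : act 3 n5270 = n10086 := rfl
theorem F17934 : act 6 n10086 = n8972 := d17_2 (iv F17021) D10086 (iv D8972)
def n10087 : Q := act 2 n5317
theorem D10087 : act 2 n5317 = n10087 := rfl
theorem F17935 : act 0 n10087 = n5318 := d1_1 D10087 (iv D5318) D5317
theorem F17936 : act 4 n10087 = n5469 := d12_2 (iv F8132) D10087 (iv D5469)
theorem F17937 : act 5 n10087 = n8988 := d13_2 F16895 D10087 (iv D8988)
theorem F17938 : act 6 n10087 = n5318 := d14_2 (iv F14869) D10087 (iv D5318)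
def n10088 : Q := act 3 n5318
theorem D10088 : act 3 n5318 = n10088 := rfl
theorem F17939 : act 5 n10088 = n8989 := d16_2 (iv F16773) D10088 (iv D8989)
def n10089 : Q := act 1 n5387
theorem D10089 : act 1 n5387 = n10089 := rfl
theorem F17940 : act 0 n10089 = n10089 := d0_1 D10089 (iv D10089) F8239 F17083 F6673 F3340 (iv F6673) (iv F17083) (iv F8239)
def n10090 : Q := act 3 n5387
theorem D10090 : act 3 n5387 = n10090 := rfl
def n10093 : Q := act 1 n5469
theorem D10093 : act 1 n5469 = n10093 := rfl
theorem F17946 : act 0 n10093 = n10093 := d0_1 D10093 (iv D10093) F8343 (iv F16772) F6646 F3328 (iv F6646) F16772 (iv F8343)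
theorem F17947 : act 2 n10093 = n10089 := d6_2 D5469 D10093 (iv D10089) (iv D5387) (iv F4144)
theorem F17948 : act 5 n10093 = n10089 := d9_2 F16967 D10093 (iv D10089) (iv F16886) F17083
theorem F17949 : act 6 n10093 = n10089 := d10_2 (iv F14877) D10093 (iv D10089) F16755 F16772
def n10094 : Q := act 3 n5469
theorem D10094 : act 3 n5469 = n10094 := rfl
theorem F17951 : act 5 n10094 = n9042 := d16_2 F16967 D10094 (iv D9042)
def n10097 : Q := act 3 n5493
theorem D10097 : act 3 n5493 = n10097 := rfl
theorem F17955 : act 0 n10097 = n5496 := d2_1 D10097 (iv D5496) (iv F8372)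
def n10098 : Q := act 5 n5493
theorem D10098 : act 5 n5493 = n10098 := rfl
theorem F17956 : act 0 n10098 = n5497 := d4_1 D10098 (iv D5497) (iv F8372)
theorem F17957 : act 2 n10098 = n5494 := d13_1 D10098 (iv D5494) D5493
def n10099 : Q := act 6 n5493
theorem D10099 : act 6 n5493 = n10099 := rfl
theorem F17958 : act 0 n10099 = n5498 := d5_1 D10099 (iv D5498) (iv F8372)
theorem F17959 : act 2 n10099 = n5495 := d14_1 D10099 (iv D5495) D5493
def n10100 : Q := act 1 n5494
theorem D10100 : act 1 n5494 = n10100 := rfl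
def n10101 : Q := act 1 n5495
theorem D10101 : act 1 n5495 = n10101 := rfl
def n10102 : Q := act 2 n5496
theorem D10102 : act 2 n5496 = n10102 := rfl
def n10103 : Q := act 4 n5496
theorem D10103 : act 4 n5496 = n10103 := rfl
theorem F17960 : act 1 n10103 = n10103 := d8_1 D10103 (iv D10103) F8375
def n10104 : Q := act 5 n5496
theorem D10104 : act 5 n5496 = n10104 := rfl
theorem F17961 : act 3 n10104 = n5497 := d16_1 D10104 (iv D5497) D5496
def n10105 : Q := act 6 n5496
theorem D10105 : act 6 n5496 = n10105 := rfl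
theorem F17962 : act 3 n10105 = n5498 := d17_1 D10105 (iv D5498) D5496
def n10106 : Q := act 1 n5497
theorem D10106 : act 1 n5497 = n10106 := rfl
theorem F17963 : act 5 n10106 = n10106 := d9_2 D5497 D10106 (iv D10106) (iv D5497) F4165
def n10107 : Q := act 6 n5497
theorem D10107 : act 6 n5497 = n10107 := rfl
theorem F17964 : act 2 n10107 = n5500 := d14_1 D10107 (iv D5500) (iv F8376)
theorem F17965 : act 5 n10107 = n10099 := d22_2 D5497 D10107 (iv D10099) F8372
def n10108 : Q := act 1 n5498
theorem D10108 : act 1 n5498 = n10108 := rfl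
theorem F17966 : act 6 n10108 = n10108 := d10_2 D5498 D10108 (iv D10108) (iv D5498) F4165
def n10109 : Q := act 5 n5498
theorem D10109 : act 5 n5498 = n10109 := rfl
theorem F17967 : act 0 n10109 = n10107 := d4_1 D10109 F17965 F17958
theorem F17968 : act 2 n10109 = n5502 := d13_1 D10109 (iv D5502) (iv F8377)
theorem F17969 : act 6 n10109 = n10098 := d20_2 D5498 D10109 (iv D10098) D10099 (iv F17965) (iv D10107) (iv D5497)
def n10110 : Q := act 0 n5499
theorem D10110 : act 0 n5499 = n10110 := rfl
theorem F17970 : act 3 n10110 = n9552 := d2_2 F14269 D10110 F16330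
theorem F17971 : act 5 n10110 = n5503 := d4_2 (iv F8378) D10110 (iv D5503)
def n10111 : Q := act 2 n5499
theorem D10111 : act 2 n5499 = n10111 := rfl
theorem F17972 : act 5 n10111 = n5504 := d13_2 (iv F8378) D10111 (iv D5504)
def n10112 : Q := act 6 n5499
theorem D10112 : act 6 n5499 = n10112 := rfl
def n10113 : Q := act 1 n5500
theorem D10113 : act 1 n5500 = n10113 := rfl
def n10114 : Q := act 0 n5501
theorem D10114 : act 0 n5501 = n10114 := rfl
theorem F17973 : act 6 n10114 = n5506 := d5_2 (iv F8380) D10114 (iv D5506)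
def n10115 : Q := act 2 n5501
theorem D10115 : act 2 n5501 = n10115 := rfl
theorem F17974 : act 6 n10115 = n5507 := d14_2 (iv F8380) D10115 (iv D5507)
def n10116 : Q := act 5 n5501
theorem D10116 : act 5 n5501 = n10116 := rfl
def n10117 : Q := act 1 n5502
theorem D10117 : act 1 n5502 = n10117 := rfl
def n10118 : Q := act 1 n5503
theorem D10118 : act 1 n5503 = n10118 := rfl
def n10119 : Q := act 2 n5503
theorem D10119 : act 2 n5503 = n10119 := rfl
theorem F17975 : act 0 n10119 = n5504 := d1_1 D10119 (iv D5504) D5503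
def n10120 : Q := act 6 n5503
theorem D10120 : act 6 n5503 = n10120 := rfl
theorem F17976 : act 0 n10120 = n5505 := d5_1 D10120 (iv D5505) D5503
theorem F17977 : act 5 n10120 = n10112 := d22_2 F17971 D10120 (iv D10112) D10110
def n10121 : Q := act 3 n5504
theorem D10121 : act 3 n5504 = n10121 := rfl
theorem F17978 : act 1 n10121 = n10121 := d7_1 D10121 (iv D10121) F8383
def n10122 : Q := act 6 n5504
theorem D10122 : act 6 n5504 = n10122 := rfl
theorem F17979 : act 2 n10122 = n5505 := d14_1 D10122 (iv D5505) D5504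
def n10123 : Q := act 5 n5505
theorem D10123 : act 5 n5505 = n10123 := rfl
theorem F17980 : act 0 n10123 = n10112 := d4_1 D10123 (iv F17977) F17976
theorem F17981 : act 6 n10123 = n10110 := d20_2 D5505 D10123 F17971 D10120 F17977 (iv D10112) F8378
def n10124 : Q := act 1 n5506
theorem D10124 : act 1 n5506 = n10124 := rfl
def n10125 : Q := act 2 n5506
theorem D10125 : act 2 n5506 = n10125 := rfl
theorem F17982 : act 0 n10125 = n5507 := d1_1 D10125 (iv D5507) D5506
def n10126 : Q := act 5 n5506
theorem D10126 : act 5 n5506 = n10126 := rfl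
theorem F17983 : act 0 n10126 = n5508 := d4_1 D10126 (iv D5508) D5506
theorem F17984 : act 6 n10126 = n10116 := d22_1 D10126 (iv D10116) F8380 D5506
def n10127 : Q := act 3 n5507
theorem D10127 : act 3 n5507 = n10127 := rfl
theorem F17985 : act 1 n10127 = n10127 := d7_1 D10127 (iv D10127) F8384
def n10128 : Q := act 5 n5507
theorem D10128 : act 5 n5507 = n10128 := rfl
theorem F17986 : act 2 n10128 = n5508 := d13_1 D10128 (iv D5508) D5507
def n10129 : Q := act 6 n5508
theorem D10129 : act 6 n5508 = n10129 := rfl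
theorem F17987 : act 0 n10129 = n10116 := d5_1 D10129 (iv F17984) F17983
theorem F17988 : act 5 n10129 = n10114 := d20_1 D10129 F17973 D10126 F17984 (iv D10116) F8380 D5508
def n10130 : Q := act 0 n5509
theorem D10130 : act 0 n5509 = n10130 := rfl
def n10131 : Q := act 2 n5509
theorem D10131 : act 2 n5509 = n10131 := rfl
def n10132 : Q := act 5 n5509
theorem D10132 : act 5 n5509 = n10132 := rfl
theorem F17989 : act 1 n10132 = n5527 := d9_1 D10132 (iv D5527) (iv D2664) (iv F4166) D5509
def n10133 : Q := act 6 n5509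
theorem D10133 : act 6 n5509 = n10133 := rfl
def n10134 : Q := act 1 n5510
theorem D10134 : act 1 n5510 = n10134 := rfl
def n10135 : Q := act 3 n5510
theorem D10135 : act 3 n5510 = n10135 := rfl
theorem F17990 : act 0 n10135 = n5511 := d2_1 D10135 (iv D5511) (iv F8385)
theorem F17991 : act 5 n10135 = n5530 := d16_2 (iv F8386) D10135 (iv D5530)
def n10136 : Q := act 2 n5511
theorem D10136 : act 2 n5511 = n10136 := rfl
theorem F17992 : act 5 n10136 = n5533 := d13_2 (iv F8388) D10136 (iv D5533)
def n10137 : Q := act 4 n5511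
theorem D10137 : act 4 n5511 = n10137 := rfl
theorem F17993 : act 1 n10137 = n10137 := d8_1 D10137 (iv D10137) F8387
theorem F17994 : act 5 n10137 = n5534 := d18_2 (iv F8388) D10137 (iv D5534)
def n10138 : Q := act 6 n5511
theorem D10138 : act 6 n5511 = n10138 := rfl
theorem F17995 : act 3 n10138 = n5512 := d17_1 D10138 (iv D5512) D5511
def n10139 : Q := act 1 n5512
theorem D10139 : act 1 n5512 = n10139 := rfl
theorem F17996 : act 6 n10139 = n10139 := d10_2 D5512 D10139 (iv D10139) (iv D5512) F4167
def n10140 : Q := act 0 n5513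
theorem D10140 : act 0 n5513 = n10140 := rfl
theorem F17997 : act 6 n10140 = n5514 := d5_2 (iv F8390) D10140 (iv D5514)
def n10141 : Q := act 2 n5513
theorem D10141 : act 2 n5513 = n10141 := rfl
theorem F17998 : act 6 n10141 = n5515 := d14_2 (iv F8390) D10141 (iv D5515)
def n10142 : Q := act 5 n5513
theorem D10142 : act 5 n5513 = n10142 := rfl
def n10143 : Q := act 1 n5514
theorem D10143 : act 1 n5514 = n10143 := rfl
def n10144 : Q := act 2 n5514
theorem D10144 : act 2 n5514 = n10144 := rfl
theorem F17999 : act 0 n10144 = n5515 := d1_1 D10144 (iv D5515) D5514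
def n10145 : Q := act 5 n5514
theorem D10145 : act 5 n5514 = n10145 := rfl
theorem F18000 : act 0 n10145 = n5516 := d4_1 D10145 (iv D5516) D5514
theorem F18001 : act 6 n10145 = n10142 := d22_1 D10145 (iv D10142) F8390 D5514
def n10146 : Q := act 3 n5515
theorem D10146 : act 3 n5515 = n10146 := rfl
theorem F18002 : act 1 n10146 = n10146 := d7_1 D10146 (iv D10146) F8391
def n10147 : Q := act 5 n5515
theorem D10147 : act 5 n5515 = n10147 := rfl
theorem F18003 : act 2 n10147 = n5516 := d13_1 D10147 (iv D5516) D5515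
def n10148 : Q := act 6 n5516
theorem D10148 : act 6 n5516 = n10148 := rfl
theorem F18004 : act 0 n10148 = n10142 := d5_1 D10148 (iv F18001) F18000
theorem F18005 : act 5 n10148 = n10140 := d20_1 D10148 F17997 D10145 F18001 (iv D10142) F8390 D5516
def n10149 : Q := act 0 n5517
theorem D10149 : act 0 n5517 = n10149 := rfl
def n10150 : Q := act 2 n5517
theorem D10150 : act 2 n5517 = n10150 := rfl
def n10151 : Q := act 5 n5517
theorem D10151 : act 5 n5517 = n10151 := rfl
def n10152 : Q := act 6 n5517
theorem D10152 : act 6 n5517 = n10152 := rfl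
theorem F18006 : act 1 n10152 = n5551 := d10_1 D10152 (iv D5551) (iv D2674) (iv F4169) D5517
def n10153 : Q := act 1 n5518
theorem D10153 : act 1 n5518 = n10153 := rfl
def n10154 : Q := act 3 n5518
theorem D10154 : act 3 n5518 = n10154 := rfl
theorem F18007 : act 0 n10154 = n5519 := d2_1 D10154 (iv D5519) (iv F8393)
theorem F18008 : act 6 n10154 = n5553 := d17_2 (iv F8394) D10154 (iv D5553)
def n10155 : Q := act 2 n5519
theorem D10155 : act 2 n5519 = n10155 := rfl
theorem F18009 : act 6 n10155 = n5556 := d14_2 (iv F8396) D10155 (iv D5556)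
def n10156 : Q := act 4 n5519
theorem D10156 : act 4 n5519 = n10156 := rfl
theorem F18010 : act 1 n10156 = n10156 := d8_1 D10156 (iv D10156) F8395
theorem F18011 : act 6 n10156 = n5557 := d19_2 (iv F8396) D10156 (iv D5557)
def n10157 : Q := act 5 n5519
theorem D10157 : act 5 n5519 = n10157 := rfl
theorem F18012 : act 3 n10157 = n5520 := d16_1 D10157 (iv D5520) D5519
def n10158 : Q := act 1 n5520
theorem D10158 : act 1 n5520 = n10158 := rfl
theorem F18013 : act 5 n10158 = n10158 := d9_2 D5520 D10158 (iv D10158) (iv D5520) F4170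
def n10159 : Q := act 0 n5521
theorem D10159 : act 0 n5521 = n10159 := rfl
theorem F18014 : act 5 n10159 = n5522 := d4_2 (iv F8398) D10159 (iv D5522)
def n10160 : Q := act 2 n5521
theorem D10160 : act 2 n5521 = n10160 := rfl
theorem F18015 : act 5 n10160 = n5523 := d13_2 (iv F8398) D10160 (iv D5523)
def n10161 : Q := act 6 n5521
theorem D10161 : act 6 n5521 = n10161 := rfl
def n10162 : Q := act 1 n5522
theorem D10162 : act 1 n5522 = n10162 := rfl
def n10163 : Q := act 2 n5522
theorem D10163 : act 2 n5522 = n10163 := rfl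
theorem F18016 : act 0 n10163 = n5523 := d1_1 D10163 (iv D5523) D5522
def n10164 : Q := act 6 n5522
theorem D10164 : act 6 n5522 = n10164 := rfl
theorem F18017 : act 0 n10164 = n5524 := d5_1 D10164 (iv D5524) D5522
theorem F18018 : act 5 n10164 = n10161 := d22_2 F18014 D10164 (iv D10161) D10159
def n10165 : Q := act 3 n5523
theorem D10165 : act 3 n5523 = n10165 := rfl
theorem F18019 : act 1 n10165 = n10165 := d7_1 D10165 (iv D10165) F8399
def n10166 : Q := act 6 n5523
theorem D10166 : act 6 n5523 = n10166 := rfl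
theorem F18020 : act 2 n10166 = n5524 := d14_1 D10166 (iv D5524) D5523
def n10167 : Q := act 5 n5524
theorem D10167 : act 5 n5524 = n10167 := rfl
theorem F18021 : act 0 n10167 = n10161 := d4_1 D10167 (iv F18018) F18017
theorem F18022 : act 6 n10167 = n10159 := d20_2 D5524 D10167 F18014 D10164 F18018 (iv D10161) F8398
def n10168 : Q := act 2 n5525
theorem D10168 : act 2 n5525 = n10168 := rfl
theorem F18023 : act 0 n10168 = n5526 := d1_1 D10168 (iv D5526) D5525
def n10169 : Q := act 5 n5525
theorem D10169 : act 5 n5525 = n10169 := rfl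
theorem F18024 : act 0 n10169 = n5527 := d4_1 D10169 (iv D5527) D5525
def n10170 : Q := act 6 n5525
theorem D10170 : act 6 n5525 = n10170 := rfl
theorem F18025 : act 0 n10170 = n5528 := d5_1 D10170 (iv D5528) D5525
def n10171 : Q := act 1 n5526
theorem D10171 : act 1 n5526 = n10171 := rfl
theorem F18026 : act 2 n10171 = n5529 := d6_2 D5526 D10171 (iv D5529) (iv D2665) D2664
def n10172 : Q := act 3 n5526
theorem D10172 : act 3 n5526 = n10172 := rfl
def n10173 : Q := act 5 n5526
theorem D10173 : act 5 n5526 = n10173 := rfl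
theorem F18027 : act 2 n10173 = n5527 := d13_1 D10173 (iv D5527) D5526
def n10174 : Q := act 6 n5526
theorem D10174 : act 6 n5526 = n10174 := rfl
theorem F18028 : act 2 n10174 = n5528 := d14_1 D10174 (iv D5528) D5526
def n10175 : Q := act 6 n5527
theorem D10175 : act 6 n5527 = n10175 := rfl
theorem F18029 : act 5 n10175 = n10170 := d22_2 D5527 D10175 (iv D10170) (iv D5525)
def n10176 : Q := act 1 n5528
theorem D10176 : act 1 n5528 = n10176 := rfl
theorem F18030 : act 6 n10176 = n5532 := d10_2 D5528 D10176 (iv D5532) (iv D2666) D2664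
def n10177 : Q := act 5 n5528
theorem D10177 : act 5 n5528 = n10177 := rfl
theorem F18031 : act 0 n10177 = n10175 := d4_1 D10177 F18029 F18025
theorem F18032 : act 6 n10177 = n10169 := d20_2 D5528 D10177 (iv D10169) D10170 (iv F18029) (iv D10175) (iv D5527)
def n10178 : Q := act 0 n5529
theorem D10178 : act 0 n5529 = n10178 := rfl
theorem F18033 : act 1 n10178 = n10178 := d0_2 D5529 D10178 (iv D10178) (iv D5529) F4172 F2178 F15071 (iv F2178) (iv F4172)
def n10179 : Q := act 3 n5529
theorem D10179 : act 3 n5529 = n10179 := rfl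
theorem F18034 : act 1 n10179 = n5530 := d7_1 D10179 (iv D5530) D5529
def n10180 : Q := act 5 n5529
theorem D10180 : act 5 n5529 = n10180 := rfl
def n10181 : Q := act 6 n5529
theorem D10181 : act 6 n5529 = n10181 := rfl
def n10182 : Q := act 2 n5530
theorem D10182 : act 2 n5530 = n10182 := rfl
theorem F18035 : act 0 n10182 = n5533 := d1_1 D10182 (iv D5533) (iv F8401)
theorem F18036 : act 3 n10182 = n9581 := d21_1 D10182 (iv D9581) (iv D4637) (iv D2231) F1884 D1293 D2667 (iv F8401)
def n10183 : Q := act 4 n5530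
theorem D10183 : act 4 n5530 = n10183 := rfl
theorem F18037 : act 0 n10183 = n5534 := d3_1 D10183 (iv D5534) (iv F8401)
def n10184 : Q := act 6 n5530
theorem D10184 : act 6 n5530 = n10184 := rfl
theorem F18038 : act 0 n10184 = n5535 := d5_1 D10184 (iv D5535) (iv F8401)
theorem F18039 : act 3 n10184 = n5531 := d17_1 D10184 (iv D5531) D5530
theorem F18040 : act 5 n10184 = n10138 := d22_2 F17991 D10184 (iv D10138) (iv F17990)
def n10185 : Q := act 1 n5531
theorem D10185 : act 1 n5531 = n10185 := rfl
def n10186 : Q := act 0 n5532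
theorem D10186 : act 0 n5532 = n10186 := rfl
def n10187 : Q := act 2 n5532
theorem D10187 : act 2 n5532 = n10187 := rfl
def n10188 : Q := act 5 n5532
theorem D10188 : act 5 n5532 = n10188 := rfl
theorem F18041 : act 1 n10188 = n10142 := d9_1 D10188 (iv D10142) (iv D5513) (iv F4174) D5532
def n10189 : Q := act 3 n5533
theorem D10189 : act 3 n5533 = n10189 := rfl
theorem F18042 : act 0 n10189 = n9581 := d2_1 D10189 (iv F18036) F18035
theorem F18043 : act 1 n10189 = n10189 := d7_1 D10189 (iv D10189) F16287
theorem F18044 : act 2 n10189 = n9578 := d11_1 D10189 (iv D9578) (iv D4635) F3536 D2665 D5530 D10182 F18036 (iv D9581) (iv D4637) (iv D2231) F1884 D1293 D2667 D5533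
def n10190 : Q := act 4 n5533
theorem D10190 : act 4 n5533 = n10190 := rfl
theorem F18045 : act 1 n10190 = n10190 := d8_1 D10190 (iv D10190) F16287
theorem F18046 : act 2 n10190 = n5534 := d12_1 D10190 (iv D5534) D5533
def n10191 : Q := act 6 n5533
theorem D10191 : act 6 n5533 = n10191 := rfl
theorem F18047 : act 2 n10191 = n5535 := d14_1 D10191 (iv D5535) D5533
def n10192 : Q := act 6 n5534
theorem D10192 : act 6 n5534 = n10192 := rfl
theorem F18048 : act 4 n10192 = n5535 := d19_1 D10192 (iv D5535) D5534
def n10193 : Q := act 1 n5535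
theorem D10193 : act 1 n5535 = n10193 := rfl
theorem F18049 : act 3 n10193 = n5536 := d7_2 (iv F8406) D10193 (iv D5536)
theorem F18050 : act 6 n10193 = n5592 := d10_2 D5535 D10193 (iv D5592) (iv D2693) (iv F4175)
def n10194 : Q := act 5 n5535
theorem D10194 : act 5 n5535 = n10194 := rfl
theorem F18051 : act 0 n10194 = n10138 := d4_1 D10194 (iv F18040) F18038
theorem F18052 : act 3 n10194 = n5537 := d16_1 D10194 (iv D5537) (iv F8406)
theorem F18053 : act 6 n10194 = n10135 := d20_2 D5535 D10194 F17991 D10184 F18040 (iv D10138) F8388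
def n10195 : Q := act 0 n5536
theorem D10195 : act 0 n5536 = n10195 := rfl
theorem F18054 : act 6 n10195 = n5593 := d5_2 (iv F8407) D10195 (iv D5593)
def n10196 : Q := act 2 n5536
theorem D10196 : act 2 n5536 = n10196 := rfl
theorem F18055 : act 1 n10196 = n5539 := d6_1 D10196 (iv D5539) (iv D2669) (iv F4176) D5536
theorem F18056 : act 6 n10196 = n5594 := d14_2 (iv F8407) D10196 (iv D5594)
def n10197 : Q := act 5 n5536
theorem D10197 : act 5 n5536 = n10197 := rfl
def n10198 : Q := act 1 n5537
theorem D10198 : act 1 n5537 = n10198 := rfl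
def n10199 : Q := act 1 n5538
theorem D10199 : act 1 n5538 = n10199 := rfl
def n10200 : Q := act 2 n5538
theorem D10200 : act 2 n5538 = n10200 := rfl
theorem F18057 : act 0 n10200 = n5539 := d1_1 D10200 (iv D5539) D5538
theorem F18058 : act 6 n10200 = n5543 := d14_2 (iv F8411) D10200 (iv D5543)
def n10201 : Q := act 3 n5539
theorem D10201 : act 3 n5539 = n10201 := rfl
theorem F18059 : act 6 n10201 = n5545 := d17_2 (iv F8412) D10201 (iv D5545)
def n10202 : Q := act 5 n5539
theorem D10202 : act 5 n5539 = n10202 := rfl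
theorem F18060 : act 2 n10202 = n5540 := d13_1 D10202 (iv D5540) D5539
def n10203 : Q := act 1 n5540
theorem D10203 : act 1 n5540 = n10203 := rfl
theorem F18061 : act 5 n10203 = n5541 := d9_2 D5540 D10203 (iv D5541) (iv D2670) D2669
def n10204 : Q := act 0 n5541
theorem D10204 : act 0 n5541 = n10204 := rfl
def n10205 : Q := act 2 n5541
theorem D10205 : act 2 n5541 = n10205 := rfl
def n10206 : Q := act 6 n5541
theorem D10206 : act 6 n5541 = n10206 := rfl
theorem F18062 : act 1 n10206 = n10133 := d10_1 D10206 (iv D10133) (iv D5509) (iv F4179) D5541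
def n10207 : Q := act 0 n5542
theorem D10207 : act 0 n5542 = n10207 := rfl
def n10208 : Q := act 2 n5542
theorem D10208 : act 2 n5542 = n10208 := rfl
def n10209 : Q := act 5 n5542
theorem D10209 : act 5 n5542 = n10209 := rfl
def n10210 : Q := act 6 n5542
theorem D10210 : act 6 n5542 = n10210 := rfl
def n10211 : Q := act 1 n5543
theorem D10211 : act 1 n5543 = n10211 := rfl
def n10212 : Q := act 3 n5543
theorem D10212 : act 3 n5543 = n10212 := rfl
theorem F18063 : act 0 n10212 = n5545 := d2_1 D10212 (iv D5545) (iv F8413)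
def n10213 : Q := act 5 n5543
theorem D10213 : act 5 n5543 = n10213 := rfl
theorem F18064 : act 0 n10213 = n5546 := d4_1 D10213 (iv D5546) (iv F8413)
theorem F18065 : act 2 n10213 = n5544 := d13_1 D10213 (iv D5544) D5543
theorem F18066 : act 6 n10213 = n10202 := d22_1 D10213 (iv D10202) F8412 (iv F8413)
def n10214 : Q := act 1 n5544
theorem D10214 : act 1 n5544 = n10214 := rfl
def n10215 : Q := act 2 n5545
theorem D10215 : act 2 n5545 = n10215 := rfl
def n10216 : Q := act 4 n5545
theorem D10216 : act 4 n5545 = n10216 := rfl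
theorem F18067 : act 1 n10216 = n5609 := d8_1 D10216 (iv D5609) (iv F8416)
def n10217 : Q := act 5 n5545
theorem D10217 : act 5 n5545 = n10217 := rfl
theorem F18068 : act 3 n10217 = n5546 := d16_1 D10217 (iv D5546) D5545
def n10218 : Q := act 6 n5546
theorem D10218 : act 6 n5546 = n10218 := rfl
theorem F18069 : act 0 n10218 = n10202 := d5_1 D10218 (iv F18066) F18064
theorem F18070 : act 2 n10218 = n5547 := d14_1 D10218 (iv D5547) (iv F8417)
theorem F18071 : act 5 n10218 = n10200 := d20_1 D10218 F18058 D10213 F18066 (iv D10202) F8412 D5546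
def n10219 : Q := act 1 n5547
theorem D10219 : act 1 n5547 = n10219 := rfl
theorem F18072 : act 6 n10219 = n9600 := d10_2 D5547 D10219 (iv D9600) (iv D4645) (iv F4181)
def n10220 : Q := act 2 n5548
theorem D10220 : act 2 n5548 = n10220 := rfl
theorem F18073 : act 0 n10220 = n5549 := d1_1 D10220 (iv D5549) D5548
def n10221 : Q := act 5 n5548
theorem D10221 : act 5 n5548 = n10221 := rfl
theorem F18074 : act 0 n10221 = n5550 := d4_1 D10221 (iv D5550) D5548
def n10222 : Q := act 6 n5548
theorem D10222 : act 6 n5548 = n10222 := rfl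
theorem F18075 : act 0 n10222 = n5551 := d5_1 D10222 (iv D5551) D5548
def n10223 : Q := act 1 n5549
theorem D10223 : act 1 n5549 = n10223 := rfl
theorem F18076 : act 2 n10223 = n5552 := d6_2 D5549 D10223 (iv D5552) (iv D2675) D2674
def n10224 : Q := act 3 n5549
theorem D10224 : act 3 n5549 = n10224 := rfl
def n10225 : Q := act 5 n5549
theorem D10225 : act 5 n5549 = n10225 := rfl
theorem F18077 : act 2 n10225 = n5550 := d13_1 D10225 (iv D5550) D5549
def n10226 : Q := act 6 n5549
theorem D10226 : act 6 n5549 = n10226 := rfl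
theorem F18078 : act 2 n10226 = n5551 := d14_1 D10226 (iv D5551) D5549
def n10227 : Q := act 1 n5550
theorem D10227 : act 1 n5550 = n10227 := rfl
theorem F18079 : act 5 n10227 = n5555 := d9_2 D5550 D10227 (iv D5555) (iv D2676) D2674
def n10228 : Q := act 6 n5550
theorem D10228 : act 6 n5550 = n10228 := rfl
theorem F18080 : act 5 n10228 = n10222 := d22_2 D5550 D10228 (iv D10222) (iv D5548)
def n10229 : Q := act 5 n5551
theorem D10229 : act 5 n5551 = n10229 := rfl
theorem F18081 : act 0 n10229 = n10228 := d4_1 D10229 F18080 F18075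
theorem F18082 : act 6 n10229 = n10221 := d20_2 D5551 D10229 (iv D10221) D10222 (iv F18080) (iv D10228) (iv D5550)
def n10230 : Q := act 0 n5552
theorem D10230 : act 0 n5552 = n10230 := rfl
theorem F18083 : act 1 n10230 = n10230 := d0_2 D5552 D10230 (iv D10230) (iv D5552) F4182 F2179 F16791 (iv F2179) (iv F4182)
def n10231 : Q := act 3 n5552
theorem D10231 : act 3 n5552 = n10231 := rfl
theorem F18084 : act 1 n10231 = n5553 := d7_1 D10231 (iv D5553) D5552
def n10232 : Q := act 5 n5552
theorem D10232 : act 5 n5552 = n10232 := rfl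
def n10233 : Q := act 6 n5552
theorem D10233 : act 6 n5552 = n10233 := rfl
def n10234 : Q := act 2 n5553
theorem D10234 : act 2 n5553 = n10234 := rfl
theorem F18085 : act 0 n10234 = n5556 := d1_1 D10234 (iv D5556) (iv F8420)
theorem F18086 : act 3 n10234 = n9595 := d21_1 D10234 (iv D9595) (iv D4643) (iv D2234) F1885 D1297 D2677 (iv F8420)
def n10235 : Q := act 4 n5553
theorem D10235 : act 4 n5553 = n10235 := rfl
theorem F18087 : act 0 n10235 = n5557 := d3_1 D10235 (iv D5557) (iv F8420)
def n10236 : Q := act 5 n5553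
theorem D10236 : act 5 n5553 = n10236 := rfl
theorem F18088 : act 0 n10236 = n5558 := d4_1 D10236 (iv D5558) (iv F8420)
theorem F18089 : act 3 n10236 = n5554 := d16_1 D10236 (iv D5554) D5553
theorem F18090 : act 6 n10236 = n10157 := d22_1 D10236 (iv D10157) F8396 (iv F8420)
def n10237 : Q := act 1 n5554
theorem D10237 : act 1 n5554 = n10237 := rfl
def n10238 : Q := act 0 n5555
theorem D10238 : act 0 n5555 = n10238 := rfl
def n10239 : Q := act 2 n5555
theorem D10239 : act 2 n5555 = n10239 := rfl
def n10240 : Q := act 6 n5555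
theorem D10240 : act 6 n5555 = n10240 := rfl
theorem F18091 : act 1 n10240 = n10161 := d10_1 D10240 (iv D10161) (iv D5521) (iv F4184) D5555
def n10241 : Q := act 3 n5556
theorem D10241 : act 3 n5556 = n10241 := rfl
theorem F18092 : act 0 n10241 = n9595 := d2_1 D10241 (iv F18086) F18085
theorem F18093 : act 1 n10241 = n10241 := d7_1 D10241 (iv D10241) F17457
theorem F18094 : act 2 n10241 = n9592 := d11_1 D10241 (iv D9592) (iv D4641) F3539 D2675 D5553 D10234 F18086 (iv D9595) (iv D4643) (iv D2234) F1885 D1297 D2677 D5556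
def n10242 : Q := act 4 n5556
theorem D10242 : act 4 n5556 = n10242 := rfl
theorem F18095 : act 1 n10242 = n10242 := d8_1 D10242 (iv D10242) F17457
theorem F18096 : act 2 n10242 = n5557 := d12_1 D10242 (iv D5557) D5556
def n10243 : Q := act 5 n5556
theorem D10243 : act 5 n5556 = n10243 := rfl
theorem F18097 : act 2 n10243 = n5558 := d13_1 D10243 (iv D5558) D5556
def n10244 : Q := act 5 n5557
theorem D10244 : act 5 n5557 = n10244 := rfl
theorem F18098 : act 4 n10244 = n5558 := d18_1 D10244 (iv D5558) D5557
def n10245 : Q := act 1 n5558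
theorem D10245 : act 1 n5558 = n10245 := rfl
theorem F18099 : act 3 n10245 = n5559 := d7_2 (iv F8425) D10245 (iv D5559)
theorem F18100 : act 5 n10245 = n5635 := d9_2 D5558 D10245 (iv D5635) (iv D2713) (iv F4185)
def n10246 : Q := act 6 n5558
theorem D10246 : act 6 n5558 = n10246 := rfl
theorem F18101 : act 0 n10246 = n10157 := d5_1 D10246 (iv F18090) F18088
theorem F18102 : act 3 n10246 = n5560 := d17_1 D10246 (iv D5560) (iv F8425)
theorem F18103 : act 5 n10246 = n10154 := d20_1 D10246 F18008 D10236 F18090 (iv D10157) F8396 D5558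
def n10247 : Q := act 0 n5559
theorem D10247 : act 0 n5559 = n10247 := rfl
theorem F18104 : act 5 n10247 = n5636 := d4_2 (iv F8426) D10247 (iv D5636)
def n10248 : Q := act 2 n5559
theorem D10248 : act 2 n5559 = n10248 := rfl
theorem F18105 : act 1 n10248 = n5562 := d6_1 D10248 (iv D5562) (iv D2679) (iv F4186) D5559
theorem F18106 : act 5 n10248 = n5637 := d13_2 (iv F8426) D10248 (iv D5637)
def n10249 : Q := act 6 n5559
theorem D10249 : act 6 n5559 = n10249 := rfl
def n10250 : Q := act 1 n5560
theorem D10250 : act 1 n5560 = n10250 := rfl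
def n10251 : Q := act 1 n5561
theorem D10251 : act 1 n5561 = n10251 := rfl
theorem F18107 : act 3 n10251 = n10214 := d7_2 (iv F8430) D10251 (iv D10214)
def n10252 : Q := act 2 n5561
theorem D10252 : act 2 n5561 = n10252 := rfl
theorem F18108 : act 0 n10252 = n5562 := d1_1 D10252 (iv D5562) D5561
theorem F18109 : act 5 n10252 = n5566 := d13_2 (iv F8431) D10252 (iv D5566)
def n10253 : Q := act 3 n5562
theorem D10253 : act 3 n5562 = n10253 := rfl
theorem F18110 : act 5 n10253 = n5568 := d16_2 (iv F8432) D10253 (iv D5568)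
def n10254 : Q := act 6 n5562
theorem D10254 : act 6 n5562 = n10254 := rfl
theorem F18111 : act 2 n10254 = n5563 := d14_1 D10254 (iv D5563) D5562
def n10255 : Q := act 1 n5563
theorem D10255 : act 1 n5563 = n10255 := rfl
theorem F18112 : act 3 n10255 = n10219 := d7_2 (iv F8433) D10255 (iv D10219)
theorem F18113 : act 6 n10255 = n5564 := d10_2 D5563 D10255 (iv D5564) (iv D2680) D2679
def n10256 : Q := act 0 n5564
theorem D10256 : act 0 n5564 = n10256 := rfl
def n10257 : Q := act 2 n5564
theorem D10257 : act 2 n5564 = n10257 := rfl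
def n10258 : Q := act 5 n5564
theorem D10258 : act 5 n5564 = n10258 := rfl
theorem F18114 : act 1 n10258 = n10151 := d9_1 D10258 (iv D10151) (iv D5517) (iv F4190) D5564
def n10259 : Q := act 0 n5565
theorem D10259 : act 0 n5565 = n10259 := rfl
theorem F18115 : act 1 n10259 = n10207 := d0_2 D5565 D10259 (iv D10207) (iv D5542) (iv D2671) (iv D1295) (iv F1199) D1299 D2681
theorem F18116 : act 3 n10259 = n10207 := d2_2 (iv F8434) D10259 (iv D10207)
def n10260 : Q := act 2 n5565
theorem D10260 : act 2 n5565 = n10260 := rfl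
def n10261 : Q := act 5 n5565
theorem D10261 : act 5 n5565 = n10261 := rfl
theorem F18117 : act 3 n10261 = n10209 := d16_1 D10261 (iv D10209) (iv F8434)
def n10262 : Q := act 6 n5565
theorem D10262 : act 6 n5565 = n10262 := rfl
theorem F18118 : act 3 n10262 = n10210 := d17_1 D10262 (iv D10210) (iv F8434)
def n10263 : Q := act 1 n5566
theorem D10263 : act 1 n5566 = n10263 := rfl
def n10264 : Q := act 3 n5566
theorem D10264 : act 3 n5566 = n10264 := rfl
theorem F18119 : act 0 n10264 = n5568 := d2_1 D10264 (iv D5568) (iv F8435)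
def n10265 : Q := act 6 n5566
theorem D10265 : act 6 n5566 = n10265 := rfl
theorem F18120 : act 0 n10265 = n5569 := d5_1 D10265 (iv D5569) (iv F8435)
theorem F18121 : act 2 n10265 = n5567 := d14_1 D10265 (iv D5567) D5566
theorem F18122 : act 5 n10265 = n10254 := d22_2 F18109 D10265 (iv D10254) (iv F18108)
def n10266 : Q := act 1 n5567
theorem D10266 : act 1 n5567 = n10266 := rfl
theorem F18123 : act 3 n10266 = n10199 := d7_2 (iv F8437) D10266 (iv D10199)
def n10267 : Q := act 2 n5568
theorem D10267 : act 2 n5568 = n10267 := rfl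
def n10268 : Q := act 4 n5568
theorem D10268 : act 4 n5568 = n10268 := rfl
theorem F18124 : act 1 n10268 = n5652 := d8_1 D10268 (iv D5652) (iv F8439)
def n10269 : Q := act 6 n5568
theorem D10269 : act 6 n5568 = n10269 := rfl
theorem F18125 : act 3 n10269 = n5569 := d17_1 D10269 (iv D5569) D5568
def n10270 : Q := act 5 n5569
theorem D10270 : act 5 n5569 = n10270 := rfl
theorem F18126 : act 0 n10270 = n10254 := d4_1 D10270 (iv F18122) F18120
theorem F18127 : act 2 n10270 = n5570 := d13_1 D10270 (iv D5570) (iv F8440)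
theorem F18128 : act 6 n10270 = n10252 := d20_2 D5569 D10270 F18109 D10265 F18122 (iv D10254) F8432
def n10271 : Q := act 1 n5570
theorem D10271 : act 1 n5570 = n10271 := rfl
theorem F18129 : act 3 n10271 = n10203 := d7_2 (iv F8442) D10271 (iv D10203)
theorem F18130 : act 5 n10271 = n9586 := d9_2 D5570 D10271 (iv D9586) (iv D4639) (iv F4193)
def n10272 : Q := act 1 n5591
theorem D10272 : act 1 n5591 = n10272 := rfl
theorem F18131 : act 4 n10272 = n5592 := d8_2 (iv F8471) D10272 (iv D5592)
def n10273 : Q := act 0 n5592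
theorem D10273 : act 0 n5592 = n10273 := rfl
theorem F18132 : act 3 n10273 = n5593 := d2_2 (iv F8472) D10273 (iv D5593)
def n10274 : Q := act 2 n5592
theorem D10274 : act 2 n5592 = n10274 := rfl
theorem F18133 : act 1 n10274 = n10274 := d6_1 D10274 (iv D10274) (iv D5592) F15386 D5592
def n10275 : Q := act 5 n5592
theorem D10275 : act 5 n5592 = n10275 := rfl
theorem F18135 : act 3 n10275 = n5595 := d16_1 D10275 (iv D5595) (iv F8472)
def n10276 : Q := act 1 n5593
theorem D10276 : act 1 n5593 = n10276 := rfl
def n10277 : Q := act 2 n5593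
theorem D10277 : act 2 n5593 = n10277 := rfl
theorem F18136 : act 0 n10277 = n5594 := d1_1 D10277 (iv D5594) D5593
def n10278 : Q := act 5 n5593
theorem D10278 : act 5 n5593 = n10278 := rfl
theorem F18137 : act 0 n10278 = n5595 := d4_1 D10278 (iv D5595) D5593
theorem F18138 : act 6 n10278 = n10197 := d22_1 D10278 (iv D10197) F8407 D5593
def n10279 : Q := act 3 n5594
theorem D10279 : act 3 n5594 = n10279 := rfl
theorem F18139 : act 1 n10279 = n5598 := d7_1 D10279 (iv D5598) (iv F8473)
def n10280 : Q := act 5 n5594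
theorem D10280 : act 5 n5594 = n10280 := rfl
theorem F18140 : act 1 n10280 = n9612 := d9_1 D10280 (iv D9612) (iv D4650) F17116 (iv F8473)
theorem F18141 : act 2 n10280 = n5595 := d13_1 D10280 (iv D5595) D5594
def n10281 : Q := act 6 n5595
theorem D10281 : act 6 n5595 = n10281 := rfl
theorem F18142 : act 0 n10281 = n10197 := d5_1 D10281 (iv F18138) F18137
theorem F18143 : act 5 n10281 = n10195 := d20_1 D10281 F18054 D10278 F18138 (iv D10197) F8407 D5595
def n10282 : Q := act 4 n5598
theorem D10282 : act 4 n5598 = n10282 := rfl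
theorem F18144 : act 0 n10282 = n9119 := d3_1 D10282 (iv D9119) (iv F17188)
theorem F18145 : act 5 n10282 = n9614 := d18_2 (iv F17190) D10282 (iv D9614)
theorem F18146 : act 6 n10282 = n5609 := d19_2 (iv F8477) D10282 (iv D5609)
def n10283 : Q := act 2 n5600
theorem D10283 : act 2 n5600 = n10283 := rfl
theorem F18147 : act 0 n10283 = n5601 := d1_1 D10283 (iv D5601) D5600
theorem F18148 : act 5 n10283 = n5601 := d13_2 F16889 D10283 (iv D5601)
theorem F18149 : act 6 n10283 = n9126 := d14_2 (iv F16757) D10283 (iv D9126)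
def n10284 : Q := act 1 n5601
theorem D10284 : act 1 n5601 = n10284 := rfl
theorem F18150 : act 2 n10284 = n5604 := d6_2 D5601 D10284 (iv D5604) (iv D2699) D2698
def n10285 : Q := act 3 n5601
theorem D10285 : act 3 n5601 = n10285 := rfl
theorem F18151 : act 6 n10285 = n9127 := d17_2 (iv F17025) D10285 (iv D9127)
def n10286 : Q := act 0 n5604
theorem D10286 : act 0 n5604 = n10286 := rfl
def n10287 : Q := act 3 n5604
theorem D10287 : act 3 n5604 = n10287 := rfl
theorem F18152 : act 1 n10287 = n5605 := d7_1 D10287 (iv D5605) D5604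
def n10288 : Q := act 5 n5604
theorem D10288 : act 5 n5604 = n10288 := rfl
def n10289 : Q := act 6 n5604
theorem D10289 : act 6 n5604 = n10289 := rfl
theorem F18153 : act 1 n10289 = n9097 := d10_1 D10289 (iv D9097) F6713 F17118 D5604
def n10290 : Q := act 4 n5605
theorem D10290 : act 4 n5605 = n10290 := rfl
theorem F18154 : act 0 n10290 = n5609 := d3_1 D10290 (iv D5609) (iv F8483)
theorem F18155 : act 6 n10290 = n9119 := d19_2 (iv F17187) D10290 (iv D9119)
def n10291 : Q := act 1 n5608
theorem D10291 : act 1 n5608 = n10291 := rfl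
def n10292 : Q := act 4 n5608
theorem D10292 : act 4 n5608 = n10292 := rfl
theorem F18156 : act 2 n10292 = n5609 := d12_1 D10292 (iv D5609) D5608
def n10293 : Q := act 1 n5634
theorem D10293 : act 1 n5634 = n10293 := rfl
theorem F18157 : act 4 n10293 = n5635 := d8_2 (iv F8524) D10293 (iv D5635)
def n10294 : Q := act 0 n5635
theorem D10294 : act 0 n5635 = n10294 := rfl
theorem F18158 : act 3 n10294 = n5636 := d2_2 (iv F8525) D10294 (iv D5636)
def n10295 : Q := act 2 n5635
theorem D10295 : act 2 n5635 = n10295 := rfl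
theorem F18159 : act 1 n10295 = n10295 := d6_1 D10295 (iv D10295) (iv D5635) F16789 D5635
def n10296 : Q := act 6 n5635
theorem D10296 : act 6 n5635 = n10296 := rfl
theorem F18161 : act 3 n10296 = n5638 := d17_1 D10296 (iv D5638) (iv F8525)
def n10297 : Q := act 1 n5636
theorem D10297 : act 1 n5636 = n10297 := rfl
def n10298 : Q := act 2 n5636
theorem D10298 : act 2 n5636 = n10298 := rfl
theorem F18162 : act 0 n10298 = n5637 := d1_1 D10298 (iv D5637) D5636
def n10299 : Q := act 6 n5636
theorem D10299 : act 6 n5636 = n10299 := rfl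
theorem F18163 : act 0 n10299 = n5638 := d5_1 D10299 (iv D5638) D5636
theorem F18164 : act 5 n10299 = n10249 := d22_2 F18104 D10299 (iv D10249) D10247
def n10300 : Q := act 3 n5637
theorem D10300 : act 3 n5637 = n10300 := rfl
theorem F18165 : act 1 n10300 = n5641 := d7_1 D10300 (iv D5641) (iv F8526)
def n10301 : Q := act 6 n5637
theorem D10301 : act 6 n5637 = n10301 := rfl
theorem F18166 : act 1 n10301 = n9642 := d10_1 D10301 (iv D9642) (iv D4664) (iv F16579) (iv F8526)
theorem F18167 : act 2 n10301 = n5638 := d14_1 D10301 (iv D5638) D5637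
def n10302 : Q := act 5 n5638
theorem D10302 : act 5 n5638 = n10302 := rfl
theorem F18168 : act 0 n10302 = n10249 := d4_1 D10302 (iv F18164) F18163
theorem F18169 : act 6 n10302 = n10247 := d20_2 D5638 D10302 F18104 D10299 F18164 (iv D10249) F8426
def n10303 : Q := act 4 n5641
theorem D10303 : act 4 n5641 = n10303 := rfl
theorem F18170 : act 0 n10303 = n9136 := d3_1 D10303 (iv D9136) (iv F16684)
theorem F18171 : act 5 n10303 = n5652 := d18_2 (iv F8530) D10303 (iv D5652)
theorem F18172 : act 6 n10303 = n9643 := d19_2 (iv F16686) D10303 (iv D9643)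
def n10304 : Q := act 2 n5643
theorem D10304 : act 2 n5643 = n10304 := rfl
theorem F18173 : act 0 n10304 = n5644 := d1_1 D10304 (iv D5644) D5643
theorem F18174 : act 5 n10304 = n9143 := d13_2 F16970 D10304 (iv D9143)
theorem F18175 : act 6 n10304 = n5644 := d14_2 (iv F14883) D10304 (iv D5644)
def n10305 : Q := act 1 n5644
theorem D10305 : act 1 n5644 = n10305 := rfl
theorem F18176 : act 2 n10305 = n5647 := d6_2 D5644 D10305 (iv D5647) (iv D2719) D2718
def n10306 : Q := act 3 n5644
theorem D10306 : act 3 n5644 = n10306 := rfl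
theorem F18177 : act 5 n10306 = n9144 := d16_2 (iv F16838) D10306 (iv D9144)
def n10307 : Q := act 0 n5647
theorem D10307 : act 0 n5647 = n10307 := rfl
def n10308 : Q := act 3 n5647
theorem D10308 : act 3 n5647 = n10308 := rfl
theorem F18178 : act 1 n10308 = n5648 := d7_1 D10308 (iv D5648) D5647
def n10309 : Q := act 5 n5647
theorem D10309 : act 5 n5647 = n10309 := rfl
theorem F18179 : act 1 n10309 = n9107 := d9_1 D10309 (iv D9107) F6714 (iv F16711) D5647
def n10310 : Q := act 6 n5647
theorem D10310 : act 6 n5647 = n10310 := rfl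
def n10311 : Q := act 4 n5648
theorem D10311 : act 4 n5648 = n10311 := rfl
theorem F18180 : act 0 n10311 = n5652 := d3_1 D10311 (iv D5652) (iv F8537)
theorem F18181 : act 5 n10311 = n9136 := d18_2 (iv F16840) D10311 (iv D9136)
def n10312 : Q := act 1 n5651
theorem D10312 : act 1 n5651 = n10312 := rfl
def n10313 : Q := act 4 n5651
theorem D10313 : act 4 n5651 = n10313 := rfl
theorem F18182 : act 2 n10313 = n5652 := d12_1 D10313 (iv D5652) D5651
def n10314 : Q := act 1 n5684
theorem D10314 : act 1 n5684 = n10314 := rfl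
theorem F18183 : act 2 n10314 = n10314 := d6_2 D5684 D10314 (iv D10314) (iv D5684) F4274
def n10315 : Q := act 4 n5684
theorem D10315 : act 4 n5684 = n10315 := rfl
theorem F18184 : act 0 n10315 = n9151 := d3_1 D10315 (iv D9151) (iv F17192)
theorem F18185 : act 2 n10315 = n5685 := d12_1 D10315 (iv D5685) D5684
theorem F18186 : act 5 n10315 = n9681 := d18_2 (iv F17194) D10315 (iv D9681)
theorem F18187 : act 6 n10315 = n5705 := d19_2 (iv F8614) D10315 (iv D5705)
def n10316 : Q := act 3 n5688
theorem D10316 : act 3 n5688 = n10316 := rfl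
theorem F18188 : act 0 n10316 = n5691 := d2_1 D10316 (iv D5691) (iv F8621)
theorem F18189 : act 1 n10316 = n8553 := d7_1 D10316 F12761 (iv F15728)
theorem F18190 : act 5 n10316 = n5691 := d16_2 F16861 D10316 (iv D5691)
theorem F18191 : act 6 n10316 = n9163 := d17_2 (iv F16761) D10316 (iv D9163)
def n10317 : Q := act 3 n5690
theorem D10317 : act 3 n5690 = n10317 := rfl
theorem F18192 : act 1 n10317 = n5691 := d7_1 D10317 (iv D5691) D5690
def n10318 : Q := act 5 n5690
theorem D10318 : act 5 n5690 = n10318 := rfl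
theorem F18195 : act 2 n10318 = n5696 := d13_1 D10318 (iv D5696) (iv F8627)
theorem F18197 : act 6 n10318 = n5749 := d20_2 (iv F16736) D10318 F16617 (iv F9144) (iv F16632) (iv D5752) D5751
def n10319 : Q := act 2 n5691
theorem D10319 : act 2 n5691 = n10319 := rfl
theorem F18198 : act 6 n10319 = n9164 := d14_2 (iv F16998) D10319 (iv D9164)
def n10320 : Q := act 4 n5691
theorem D10320 : act 4 n5691 = n10320 := rfl
theorem F18199 : act 3 n10320 = n5829 := d15_1 D10320 (iv D5829) (iv D2818) (iv F4279) D5691
theorem F18200 : act 6 n10320 = n9165 := d19_2 (iv F16998) D10320 (iv D9165)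
def n10321 : Q := act 3 n5694
theorem D10321 : act 3 n5694 = n10321 := rfl
theorem F18201 : act 0 n10321 = n5695 := d2_1 D10321 (iv D5695) D5694
theorem F18202 : act 1 n10321 = n6010 := d7_1 D10321 F9119 (iv F15625)
theorem F18203 : act 6 n10321 = n5997 := d17_2 (iv F15627) D10321 F9107
def n10322 : Q := act 5 n5694
theorem D10322 : act 5 n5694 = n10322 := rfl
theorem F18204 : act 0 n10322 = n5696 := d4_1 D10322 (iv D5696) D5694
theorem F18205 : act 1 n10322 = n8289 := d9_1 D10322 F12322 (iv D4877) F16942 (iv F15625)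
theorem F18206 : act 2 n10322 = n5752 := d13_1 D10322 F16632 (iv F15626)
theorem F18208 : act 6 n10322 = n5745 := d20_2 (iv F15627) D10322 (iv F16734) (iv D5697) D5696 F16090 F9089
def n10323 : Q := act 2 n5695
theorem D10323 : act 2 n5695 = n10323 := rfl
def n10324 : Q := act 4 n5695
theorem D10324 : act 4 n5695 = n10324 := rfl
theorem F18209 : act 1 n10324 = n5699 := d8_1 D10324 (iv D5699) (iv F8636)
theorem F18210 : act 3 n10324 = n5838 := d15_1 D10324 (iv D5838) (iv D2822) (iv F4283) D5695
def n10325 : Q := act 5 n5695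
theorem D10325 : act 5 n5695 = n10325 := rfl
def n10326 : Q := act 6 n5695
theorem D10326 : act 6 n5695 = n10326 := rfl
theorem F18212 : act 0 n10326 = n5997 := d5_1 D10326 (iv F18203) F18201
theorem F18213 : act 1 n10326 = n7783 := d10_1 D10326 (iv D7783) F5716 F17121 (iv F8636)
theorem F18214 : act 3 n10326 = n5697 := d17_1 D10326 (iv D5697) D5695
def n10327 : Q := act 1 n5698
theorem D10327 : act 1 n5698 = n10327 := rfl
theorem F18215 : act 3 n10327 = n10291 := d7_2 (iv F8640) D10327 (iv D10291)
def n10328 : Q := act 4 n5698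
theorem D10328 : act 4 n5698 = n10328 := rfl
theorem F18216 : act 0 n10328 = n5705 := d3_1 D10328 (iv D5705) (iv F8639)
theorem F18217 : act 2 n10328 = n5699 := d12_1 D10328 (iv D5699) D5698
theorem F18218 : act 6 n10328 = n9151 := d19_2 (iv F17185) D10328 (iv D9151)
def n10329 : Q := act 0 n5703
theorem D10329 : act 0 n5703 = n10329 := rfl
theorem F18219 : act 2 n10329 = n6000 := d1_2 (iv F8650) D10329 (iv D6000)
def n10330 : Q := act 3 n5703
theorem D10330 : act 3 n5703 = n10330 := rfl
theorem F18220 : act 1 n10330 = n5704 := d7_1 D10330 (iv D5704) D5703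
def n10331 : Q := act 4 n5703
theorem D10331 : act 4 n5703 = n10331 := rfl
theorem F18221 : act 1 n10331 = n5705 := d8_1 D10331 (iv D5705) D5703
theorem F18222 : act 2 n10331 = n6001 := d12_1 D10331 (iv D6001) (iv F8650)
def n10332 : Q := act 5 n5703
theorem D10332 : act 5 n5703 = n10332 := rfl
theorem F18223 : act 2 n10332 = n6002 := d13_1 D10332 (iv D6002) (iv F8650)
def n10333 : Q := act 6 n5703
theorem D10333 : act 6 n5703 = n10333 := rfl
theorem F18224 : act 2 n10333 = n6003 := d14_1 D10333 (iv D6003) (iv F8650)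
def n10334 : Q := act 4 n5704
theorem D10334 : act 4 n5704 = n10334 := rfl
theorem F18225 : act 0 n10334 = n10292 := d3_1 D10334 (iv D10292) (iv F8651)
theorem F18226 : act 2 n10334 = n10290 := d12_1 D10334 (iv D10290) (iv F8652)
def n10335 : Q := act 3 n5705
theorem D10335 : act 3 n5705 = n10335 := rfl
def n10336 : Q := act 1 n5739
theorem D10336 : act 1 n5739 = n10336 := rfl
theorem F18227 : act 2 n10336 = n10336 := d6_2 D5739 D10336 (iv D10336) (iv D5739) F4331
def n10337 : Q := act 4 n5739
theorem D10337 : act 4 n5739 = n10337 := rfl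
theorem F18228 : act 0 n10337 = n9181 := d3_1 D10337 (iv D9181) (iv F16586)
theorem F18229 : act 2 n10337 = n5740 := d12_1 D10337 (iv D5740) D5739
theorem F18230 : act 5 n10337 = n5760 := d18_2 (iv F8732) D10337 (iv D5760)
theorem F18231 : act 6 n10337 = n9741 := d19_2 (iv F16588) D10337 (iv D9741)
def n10338 : Q := act 3 n5743
theorem D10338 : act 3 n5743 = n10338 := rfl
theorem F18232 : act 0 n10338 = n5746 := d2_1 D10338 (iv D5746) (iv F8739)
theorem F18233 : act 1 n10338 = n8526 := d7_1 D10338 F12717 (iv F15616)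
theorem F18234 : act 5 n10338 = n9193 := d16_2 F16968 D10338 (iv D9193)
theorem F18235 : act 6 n10338 = n5746 := d17_2 (iv F14892) D10338 (iv D5746)
def n10339 : Q := act 3 n5745
theorem D10339 : act 3 n5745 = n10339 := rfl
theorem F18236 : act 1 n10339 = n5746 := d7_1 D10339 (iv D5746) D5745
theorem F18237 : act 5 n10339 = n10326 := d16_2 F16734 D10339 F18214
def n10340 : Q := act 2 n5746
theorem D10340 : act 2 n5746 = n10340 := rfl
theorem F18238 : act 5 n10340 = n9194 := d13_2 (iv F16836) D10340 (iv D9194)
def n10341 : Q := act 4 n5746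
theorem D10341 : act 4 n5746 = n10341 := rfl
theorem F18239 : act 3 n10341 = n5934 := d15_1 D10341 (iv D5934) (iv D2873) (iv F4337) D5746
def n10342 : Q := act 3 n5749
theorem D10342 : act 3 n5749 = n10342 := rfl
theorem F18241 : act 0 n10342 = n5750 := d2_1 D10342 (iv D5750) D5749
theorem F18242 : act 1 n10342 = n6042 := d7_1 D10342 F9174 F16731
theorem F18243 : act 5 n10342 = n6029 := d16_2 (iv F16617) D10342 F9160
def n10343 : Q := act 2 n5750
theorem D10343 : act 2 n5750 = n10343 := rfl
def n10344 : Q := act 4 n5750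
theorem D10344 : act 4 n5750 = n10344 := rfl
theorem F18244 : act 1 n10344 = n5754 := d8_1 D10344 (iv D5754) (iv F8753)
theorem F18245 : act 3 n10344 = n5944 := d15_1 D10344 (iv D5944) (iv D2877) (iv F4341) D5750
def n10345 : Q := act 5 n5750
theorem D10345 : act 5 n5750 = n10345 := rfl
theorem F18246 : act 0 n10345 = n6029 := d4_1 D10345 (iv F18243) F18241
theorem F18247 : act 1 n10345 = n7802 := d9_1 D10345 (iv D7802) F5731 F16582 (iv F8753)
theorem F18248 : act 3 n10345 = n5751 := d16_1 D10345 (iv D5751) D5750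
theorem F18249 : act 6 n10317 = n10345 := d17_0 F18248 (iv F16736) D10317
def n10346 : Q := act 6 n5750
theorem D10346 : act 6 n5750 = n10346 := rfl
theorem F18250 : act 3 n10346 = n5752 := d17_1 D10346 (iv D5752) D5750
def n10347 : Q := act 1 n5753
theorem D10347 : act 1 n5753 = n10347 := rfl
theorem F18251 : act 3 n10347 = n10312 := d7_2 (iv F8757) D10347 (iv D10312)
def n10348 : Q := act 4 n5753
theorem D10348 : act 4 n5753 = n10348 := rfl
theorem F18252 : act 0 n10348 = n5760 := d3_1 D10348 (iv D5760) (iv F8756)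
theorem F18253 : act 2 n10348 = n5754 := d12_1 D10348 (iv D5754) D5753
theorem F18254 : act 5 n10348 = n9181 := d18_2 (iv F16635) D10348 (iv D9181)
def n10349 : Q := act 0 n5758
theorem D10349 : act 0 n5758 = n10349 := rfl
theorem F18255 : act 2 n10349 = n6032 := d1_2 (iv F8767) D10349 (iv D6032)
def n10350 : Q := act 3 n5758
theorem D10350 : act 3 n5758 = n10350 := rfl
theorem F18256 : act 1 n10350 = n5759 := d7_1 D10350 (iv D5759) D5758
def n10351 : Q := act 4 n5758
theorem D10351 : act 4 n5758 = n10351 := rfl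
theorem F18257 : act 1 n10351 = n5760 := d8_1 D10351 (iv D5760) D5758
def n10352 : Q := act 5 n5758
theorem D10352 : act 5 n5758 = n10352 := rfl
theorem F18259 : act 2 n10352 = n6034 := d13_1 D10352 (iv D6034) (iv F8767)
def n10353 : Q := act 6 n5758
theorem D10353 : act 6 n5758 = n10353 := rfl
theorem F18260 : act 2 n10353 = n6035 := d14_1 D10353 (iv D6035) (iv F8767)
def n10354 : Q := act 4 n5759
theorem D10354 : act 4 n5759 = n10354 := rfl
theorem F18261 : act 0 n10354 = n10313 := d3_1 D10354 (iv D10313) (iv F8768)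
theorem F18262 : act 2 n10354 = n10311 := d12_1 D10354 (iv D10311) (iv F8769)
def n10355 : Q := act 3 n5760
theorem D10355 : act 3 n5760 = n10355 := rfl
def n10356 : Q := act 2 n5823
theorem D10356 : act 2 n5823 = n10356 := rfl
theorem F18263 : act 0 n10356 = n5828 := d1_1 D10356 (iv D5828) (iv F8867)
theorem F18264 : act 5 n10356 = n5828 := d13_2 (iv F16762) D10356 (iv D5828)
def n10357 : Q := act 4 n5823
theorem D10357 : act 4 n5823 = n10357 := rfl
theorem F18267 : act 0 n10357 = n5829 := d3_1 D10357 (iv D5829) (iv F8867)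
theorem F18268 : act 1 n10357 = n8608 := d8_1 D10357 F12837 (iv F15727)
theorem F18269 : act 5 n10357 = n5829 := d18_2 (iv F16762) D10357 (iv D5829)
def n10358 : Q := act 4 n5826
theorem D10358 : act 4 n5826 = n10358 := rfl
theorem F18271 : act 1 n10358 = n5829 := d8_1 D10358 (iv D5829) (iv F8873)
def n10359 : Q := act 5 n5826
theorem D10359 : act 5 n5826 = n10359 := rfl
theorem F18272 : act 0 n10359 = n5946 := d4_1 D10359 F16548 (iv F15941)
theorem F18273 : act 1 n10359 = n8390 := d9_1 D10359 F17322 (iv F15727) F16762 (iv F8873)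
theorem F18276 : act 6 n10359 = n5837 := d20_2 (iv F16571) D10359 F17291 (iv F9261) (iv F16548) (iv D5946) D5945
def n10361 : Q := act 4 n5828
theorem D10361 : act 4 n5828 = n10361 := rfl
theorem F18281 : act 2 n10361 = n5829 := d12_1 D10361 (iv D5829) D5828
def n10362 : Q := act 4 n5834
theorem D10362 : act 4 n5834 = n10362 := rfl
theorem F18283 : act 0 n10362 = n5838 := d3_1 D10362 (iv D5838) (iv F8882)
theorem F18285 : act 2 n10362 = n5944 := d12_1 D10362 (iv D5944) (iv F17341)
def n10363 : Q := act 5 n5834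
theorem D10363 : act 5 n5834 = n10363 := rfl
theorem F18287 : act 0 n10363 = n5839 := d4_1 D10363 (iv D5839) (iv F8882)
theorem F18289 : act 2 n10363 = n5945 := d13_1 D10363 (iv D5945) (iv F17341)
def n10364 : Q := act 4 n5837
theorem D10364 : act 4 n5837 = n10364 := rfl
theorem F18294 : act 2 n10364 = n5838 := d12_1 D10364 (iv D5838) D5837
theorem F18295 : act 5 n10364 = n6130 := d18_2 (iv F17291) D10364 F9269
def n10365 : Q := act 5 n5838
theorem D10365 : act 5 n5838 = n10365 := rfl
theorem F18296 : act 2 n10365 = n6130 := d13_1 D10365 (iv F18295) F18294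
def n10367 : Q := act 4 n5852
theorem D10367 : act 4 n5852 = n10367 := rfl
theorem F18301 : act 0 n10367 = n5854 := d3_1 D10367 (iv D5854) D5852
def n10368 : Q := act 6 n5852
theorem D10368 : act 6 n5852 = n10368 := rfl
theorem F18303 : act 0 n10368 = n5856 := d5_1 D10368 (iv D5856) D5852
def n10369 : Q := act 3 n5854
theorem D10369 : act 3 n5854 = n10369 := rfl
theorem F18306 : act 1 n10369 = n5859 := d7_1 D10369 (iv D5859) (iv F8914)
def n10370 : Q := act 5 n5854
theorem D10370 : act 5 n5854 = n10370 := rfl
theorem F18308 : act 1 n10370 = n10365 := d9_1 D10370 (iv D10365) F8887 F17017 (iv F8914)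
def n10371 : Q := act 6 n5854
theorem D10371 : act 6 n5854 = n10371 := rfl
theorem F18311 : act 1 n10371 = n9813 := d10_1 D10371 (iv D9813) F7250 F17108 (iv F8914)
def n10372 : Q := act 6 n5855
theorem D10372 : act 6 n5855 = n10372 := rfl
theorem F18317 : act 5 n10372 = n10368 := d22_2 D5855 D10372 (iv D10368) (iv D5852)
def n10373 : Q := act 5 n5856
theorem D10373 : act 5 n5856 = n10373 := rfl
theorem F18322 : act 6 n10373 = n9288 := d20_2 D5856 D10373 F17093 D10368 (iv F18317) (iv D10372) (iv D5855)
def n10374 : Q := act 2 n5859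
theorem D10374 : act 2 n5859 = n10374 := rfl
theorem F18324 : act 4 n10374 = n9682 := d12_2 (iv F17130) D10374 F14451
theorem F18325 : act 5 n10374 = n10328 := d13_2 (iv F17131) D10374 F18217
theorem F18326 : act 6 n10374 = n9681 := d14_2 (iv F17132) D10374 F14449
def n10376 : Q := act 4 n5927
theorem D10376 : act 4 n5927 = n10376 := rfl
theorem F18331 : act 0 n10376 = n5934 := d3_1 D10376 (iv D5934) (iv F9008)
theorem F18332 : act 1 n10376 = n8561 := d8_1 D10376 F12778 (iv F15615)
def n10377 : Q := act 4 n5930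
theorem D10377 : act 4 n5930 = n10377 := rfl
theorem F18335 : act 1 n10377 = n5934 := d8_1 D10377 (iv D5934) (iv F9013)
theorem F18336 : act 2 n10377 = n10358 := d12_1 D10377 (iv D10358) (iv F17344)
def n10379 : Q := act 4 n5933
theorem D10379 : act 4 n5933 = n10379 := rfl
theorem F18343 : act 1 n10379 = n10361 := d8_1 D10379 (iv D10361) F17347
theorem F18344 : act 2 n10379 = n5934 := d12_1 D10379 (iv D5934) D5933
theorem F18345 : act 5 n10379 = n9295 := d18_2 (iv F16843) D10379 (iv D9295)
def n10380 : Q := act 5 n5944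
theorem D10380 : act 5 n5944 = n10380 := rfl
theorem F18347 : act 1 n10380 = n7867 := d9_1 D10380 (iv D7867) F5764 F16491 (iv F9023)
def n10389 : Q := act 2 n5966
theorem D10389 : act 2 n5966 = n10389 := rfl
theorem F18374 : act 0 n10389 = n9758 := d1_1 D10389 F14590 (iv F16609)
theorem F18375 : act 4 n10389 = n9742 := d12_2 (iv F16610) D10389 F14562
theorem F18376 : act 5 n10389 = n9741 := d13_2 (iv F16611) D10389 F14560
theorem F18377 : act 6 n10389 = n10348 := d14_2 (iv F16612) D10389 F18253
def n10390 : Q := act 2 n5983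
theorem D10390 : act 2 n5983 = n10390 := rfl
theorem F18378 : act 0 n10390 = n5986 := d1_1 D10390 (iv D5986) (iv F9078)
theorem F18379 : act 5 n10390 = n9882 := d13_2 (iv F17432) D10390 (iv D9882)
def n10391 : Q := act 4 n5983
theorem D10391 : act 4 n5983 = n10391 := rfl
theorem F18380 : act 0 n10391 = n5987 := d3_1 D10391 (iv D5987) (iv F9078)
theorem F18381 : act 1 n10391 = n9876 := d8_1 D10391 F17561 F17434
theorem F18383 : act 5 n10391 = n9877 := d18_2 (iv F17432) D10391 F17563
def n10392 : Q := act 6 n5983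
theorem D10392 : act 6 n5983 = n10392 := rfl
def n10393 : Q := act 1 n5985
theorem D10393 : act 1 n5985 = n10393 := rfl
theorem F18386 : act 4 n10393 = n6055 := d8_2 (iv F9082) D10393 (iv D6055)
theorem F18387 : act 6 n10393 = n6011 := d10_2 D5985 D10393 (iv D6011) F16934 (iv F16982)
def n10394 : Q := act 1 n5986
theorem D10394 : act 1 n5986 = n10394 := rfl
theorem F18388 : act 2 n10394 = n5993 := d6_2 D5986 D10394 (iv D5993) (iv D2900) (iv F4524)
def n10395 : Q := act 3 n5986
theorem D10395 : act 3 n5986 = n10395 := rfl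
def n10396 : Q := act 4 n5986
theorem D10396 : act 4 n5986 = n10396 := rfl
def n10397 : Q := act 5 n5986
theorem D10397 : act 5 n5986 = n10397 := rfl
theorem F18390 : act 0 n10397 = n9882 := d4_1 D10397 (iv F18379) F18378
theorem F18391 : act 2 n10397 = n5988 := d13_1 D10397 (iv D5988) D5986
def n10398 : Q := act 6 n5986
theorem D10398 : act 6 n5986 = n10398 := rfl
def n10399 : Q := act 5 n5987
theorem D10399 : act 5 n5987 = n10399 := rfl
theorem F18393 : act 0 n10399 = n9877 := d4_1 D10399 (iv F18383) F18380
theorem F18394 : act 3 n10399 = n6060 := d16_1 D10399 (iv D6060) (iv F9084)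
theorem F18395 : act 4 n10399 = n5988 := d18_1 D10399 (iv D5988) D5987
def n10400 : Q := act 6 n5987
theorem D10400 : act 6 n5987 = n10400 := rfl
def n10401 : Q := act 1 n5988
theorem D10401 : act 1 n5988 = n10401 := rfl
theorem F18399 : act 0 n10401 = n10339 := d0_1 D10401 F18236 (iv F18232) F18233 (iv D8526) (iv D4095) (iv F3706) D4876 F17433
theorem F18400 : act 3 n10401 = n5990 := d7_2 (iv F9085) D10401 (iv D5990)
theorem F18401 : act 5 n10401 = n5997 := d9_2 D5988 D10401 (iv D5997) (iv D2902) (iv F4524)
theorem F18402 : act 6 n10401 = n10325 := d24_3 (iv D5989) D5988 D10401 (iv D10325) F8636 (iv F17121) F3372 F1896 D1143 D2349 D4876 D9883 F17570 F9086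
def n10402 : Q := act 6 n5988
theorem D10402 : act 6 n5988 = n10402 := rfl
theorem F18403 : act 0 n10402 = n9883 := d5_1 D10402 (iv D9883) F17433
theorem F18404 : act 3 n10402 = n5991 := d17_1 D10402 (iv D5991) (iv F9085)
theorem F18405 : act 5 n10402 = n10392 := d20_1 D10402 (iv D10392) F17432 D9883 F17570 (iv D5989) D5988
def n10403 : Q := act 1 n5991
theorem D10403 : act 1 n5991 = n10403 := rfl
theorem F18406 : act 4 n10403 = n6067 := d8_2 (iv F9090) D10403 (iv D6067)
theorem F18407 : act 6 n10403 = n9687 := d10_2 D5991 D10403 (iv F16857) F16090 (iv D5990)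
def n10404 : Q := act 0 n5993
theorem D10404 : act 0 n5993 = n10404 := rfl
theorem F18408 : act 3 n10404 = n6000 := d2_2 (iv F9095) D10404 (iv D6000)
def n10405 : Q := act 4 n5993
theorem D10405 : act 4 n5993 = n10405 := rfl
def n10406 : Q := act 5 n5993
theorem D10406 : act 5 n5993 = n10406 := rfl
theorem F18410 : act 3 n10406 = n6002 := d16_1 D10406 (iv D6002) (iv F9095)
def n10407 : Q := act 6 n5993
theorem D10407 : act 6 n5993 = n10407 := rfl
theorem F18412 : act 3 n10407 = n6003 := d17_1 D10407 (iv D6003) (iv F9095)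
def n10409 : Q := act 5 n5994
theorem D10409 : act 5 n5994 = n10409 := rfl
theorem F18417 : act 2 n10409 = n5996 := d13_1 D10409 (iv D5996) (iv F9097)
theorem F18418 : act 4 n10409 = n5995 := d18_1 D10409 (iv D5995) D5994
def n10410 : Q := act 1 n5995
theorem D10410 : act 1 n5995 = n10410 := rfl
theorem F18420 : act 3 n10410 = n6006 := d7_2 (iv F9101) D10410 (iv D6006)
def n10411 : Q := act 1 n5996
theorem D10411 : act 1 n5996 = n10411 := rfl
theorem F18422 : act 4 n10411 = n5997 := d8_2 (iv F9105) D10411 (iv D5997)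
def n10412 : Q := act 2 n5997
theorem D10412 : act 2 n5997 = n10412 := rfl
def n10413 : Q := act 1 n6000
theorem D10413 : act 1 n6000 = n10413 := rfl
def n10414 : Q := act 4 n6000
theorem D10414 : act 4 n6000 = n10414 := rfl
def n10415 : Q := act 5 n6000
theorem D10415 : act 5 n6000 = n10415 := rfl
theorem F18424 : act 0 n10415 = n6002 := d4_1 D10415 (iv D6002) D6000
def n10416 : Q := act 6 n6000
theorem D10416 : act 6 n6000 = n10416 := rfl
theorem F18425 : act 0 n10416 = n6003 := d5_1 D10416 (iv D6003) D6000
def n10418 : Q := act 5 n6001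
theorem D10418 : act 5 n6001 = n10418 := rfl
theorem F18427 : act 4 n10418 = n6002 := d18_1 D10418 (iv D6002) D6001
def n10419 : Q := act 6 n6001
theorem D10419 : act 6 n6001 = n10419 := rfl
def n10420 : Q := act 1 n6002
theorem D10420 : act 1 n6002 = n10420 := rfl
theorem F18430 : act 5 n10420 = n6006 := d9_2 D6002 D10420 (iv D6006) (iv D2906) D2904
def n10421 : Q := act 6 n6002
theorem D10421 : act 6 n6002 = n10421 := rfl
theorem F18431 : act 5 n10421 = n10416 := d22_2 D6002 D10421 (iv D10416) (iv D6000)
def n10422 : Q := act 5 n6003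
theorem D10422 : act 5 n6003 = n10422 := rfl
theorem F18433 : act 6 n10422 = n10415 := d20_2 D6003 D10422 (iv D10415) D10416 (iv F18431) (iv D10421) (iv D6002)
def n10425 : Q := act 1 n6005
theorem D10425 : act 1 n6005 = n10425 := rfl
theorem F18437 : act 4 n10425 = n6006 := d8_2 (iv F9115) D10425 (iv D6006)
def n10426 : Q := act 0 n6006
theorem D10426 : act 0 n6006 = n10426 := rfl
def n10427 : Q := act 2 n6006
theorem D10427 : act 2 n6006 = n10427 := rfl
theorem F18438 : act 1 n10427 = n6009 := d6_1 D10427 (iv D6009) (iv D2908) (iv F4540) D6006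
def n10428 : Q := act 6 n6006
theorem D10428 : act 6 n6006 = n10428 := rfl
def n10429 : Q := act 0 n6007
theorem D10429 : act 0 n6007 = n10429 := rfl
theorem F18440 : act 4 n10429 = n6008 := d3_2 (iv F9117) D10429 (iv D6008)
theorem F18441 : act 6 n9876 = n10429 := d22_3 (iv F17406) F14485 D9876 (iv D10429)
def n10430 : Q := act 2 n6007
theorem D10430 : act 2 n6007 = n10430 := rfl
theorem F18442 : act 4 n10430 = n6009 := d12_2 (iv F9117) D10430 (iv D6009)
def n10431 : Q := act 6 n6007
theorem D10431 : act 6 n6007 = n10431 := rfl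
theorem F18445 : act 4 n10431 = n6010 := d19_1 D10431 (iv D6010) (iv F9117)
theorem F18446 : act 5 n9874 = n10431 := d22_0 (iv D10431) (iv F17406) F14485 D9874
def n10432 : Q := act 1 n6008
theorem D10432 : act 1 n6008 = n10432 := rfl
theorem F18447 : act 3 n10432 = n6011 := d7_2 (iv F9118) D10432 (iv D6011)
def n10433 : Q := act 2 n6008
theorem D10433 : act 2 n6008 = n10433 := rfl
theorem F18448 : act 0 n10433 = n6009 := d1_1 D10433 (iv D6009) D6008
theorem F18449 : act 6 n10433 = n9881 := d14_2 F17446 D10433 F17567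
def n10434 : Q := act 3 n6009
theorem D10434 : act 3 n6009 = n10434 := rfl
def n10435 : Q := act 6 n6009
theorem D10435 : act 6 n6009 = n10435 := rfl
theorem F18450 : act 0 n10435 = n9881 := d5_1 D10435 (iv F18449) F18448
theorem F18451 : act 2 n10435 = n6010 := d14_1 D10435 (iv D6010) D6009
theorem F18452 : act 5 n9879 = n10435 := d22_0 (iv D10435) (iv F17447) F14492 (iv F17566)
def n10436 : Q := act 2 n6011
theorem D10436 : act 2 n6011 = n10436 := rfl
theorem F18454 : act 1 n10436 = n8290 := d6_1 D10436 (iv F15877) (iv D4915) (iv F4544) D6011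
theorem F18456 : act 5 n10436 = n8291 := d13_2 (iv F17412) D10436 F17241
def n10437 : Q := act 2 n6015
theorem D10437 : act 2 n6015 = n10437 := rfl
theorem F18458 : act 6 n10437 = n9915 := d14_2 F15943 D10437 (iv D9915)
def n10438 : Q := act 4 n6015
theorem D10438 : act 4 n6015 = n10438 := rfl
theorem F18459 : act 0 n10438 = n6019 := d3_1 D10438 (iv D6019) (iv F9130)
theorem F18462 : act 6 n10438 = n9910 := d19_2 F15943 D10438 F17610
def n10439 : Q := act 5 n6015
theorem D10439 : act 5 n6015 = n10439 := rfl
def n10440 : Q := act 1 n6016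
theorem D10440 : act 1 n6016 = n10440 := rfl
theorem F18466 : act 5 n10440 = n6043 := d9_2 D6016 D10440 (iv D6043) F16811 F15855
def n10441 : Q := act 1 n6018
theorem D10441 : act 1 n6018 = n10441 := rfl
theorem F18467 : act 2 n10441 = n6025 := d6_2 D6018 D10441 (iv D6025) (iv D2915) (iv F4549)
def n10446 : Q := act 5 n6019
theorem D10446 : act 5 n6019 = n10446 := rfl
theorem F18472 : act 1 n10446 = n10446 := d9_1 D10446 (iv D10446) F9135 F4558 (iv F9135)
def n10447 : Q := act 6 n6019
theorem D10447 : act 6 n6019 = n10447 := rfl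
theorem F18475 : act 0 n10447 = n9910 := d5_1 D10447 (iv F18462) F18459
def n10448 : Q := act 1 n6021
theorem D10448 : act 1 n6021 = n10448 := rfl
theorem F18478 : act 0 n10448 = n10317 := d0_1 D10448 F18192 (iv F18188) F18189 (iv D8553) (iv D4110) (iv F3731) D4914 (iv F15944)
theorem F18479 : act 3 n10448 = n6023 := d7_2 (iv F9139) D10448 (iv D6023)
theorem F18480 : act 6 n10448 = n6029 := d10_2 D6021 D10448 (iv D6029) (iv D2917) (iv F4549)
theorem F18481 : act 5 n10346 = n10448 := d24_1 D10346 (iv D10448) (iv D6021) D6020 F9137 (iv F17617) (iv D9916) (iv D4914) (iv D2366) (iv D1151) (iv F1908) (iv F3385) F16582 (iv F8753)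
def n10451 : Q := act 0 n6025
theorem D10451 : act 0 n6025 = n10451 := rfl
theorem F18487 : act 3 n10451 = n6032 := d2_2 (iv F9148) D10451 (iv D6032)
def n10452 : Q := act 4 n6025
theorem D10452 : act 4 n6025 = n10452 := rfl
theorem F18488 : act 1 n10452 = n6026 := d8_1 D10452 (iv D6026) D6025
def n10453 : Q := act 5 n6025
theorem D10453 : act 5 n6025 = n10453 := rfl
def n10454 : Q := act 6 n6025
theorem D10454 : act 6 n6025 = n10454 := rfl
theorem F18491 : act 3 n10454 = n6035 := d17_1 D10454 (iv D6035) (iv F9148)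
def n10456 : Q := act 6 n6026
theorem D10456 : act 6 n6026 = n10456 := rfl
theorem F18496 : act 2 n10456 = n6028 := d14_1 D10456 (iv D6028) (iv F9150)
theorem F18497 : act 4 n10456 = n6027 := d19_1 D10456 (iv D6027) D6026
def n10457 : Q := act 1 n6027
theorem D10457 : act 1 n6027 = n10457 := rfl
theorem F18499 : act 3 n10457 = n6038 := d7_2 (iv F9154) D10457 (iv D6038)
def n10458 : Q := act 1 n6028
theorem D10458 : act 1 n6028 = n10458 := rfl
theorem F18500 : act 3 n10458 = n6130 := d7_2 (iv F9157) D10458 (iv D6130)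
theorem F18501 : act 4 n10458 = n6029 := d8_2 (iv F9158) D10458 (iv D6029)
def n10459 : Q := act 2 n6029
theorem D10459 : act 2 n6029 = n10459 := rfl
def n10460 : Q := act 1 n6032
theorem D10460 : act 1 n6032 = n10460 := rfl
def n10461 : Q := act 4 n6032
theorem D10461 : act 4 n6032 = n10461 := rfl
theorem F18502 : act 0 n10461 = n6033 := d3_1 D10461 (iv D6033) D6032
def n10462 : Q := act 5 n6032
theorem D10462 : act 5 n6032 = n10462 := rfl
theorem F18503 : act 0 n10462 = n6034 := d4_1 D10462 (iv D6034) D6032
def n10463 : Q := act 6 n6032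
theorem D10463 : act 6 n6032 = n10463 := rfl
theorem F18504 : act 0 n10463 = n6035 := d5_1 D10463 (iv D6035) D6032
def n10466 : Q := act 6 n6033
theorem D10466 : act 6 n6033 = n10466 := rfl
theorem F18508 : act 4 n10466 = n6035 := d19_1 D10466 (iv D6035) D6033
def n10467 : Q := act 6 n6034
theorem D10467 : act 6 n6034 = n10467 := rfl
theorem F18509 : act 5 n10467 = n10463 := d22_2 D6034 D10467 (iv D10463) (iv D6032)
def n10468 : Q := act 1 n6035
theorem D10468 : act 1 n6035 = n10468 := rfl
theorem F18510 : act 6 n10468 = n6038 := d10_2 D6035 D10468 (iv D6038) (iv D2921) D2919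
def n10469 : Q := act 5 n6035
theorem D10469 : act 5 n6035 = n10469 := rfl
theorem F18512 : act 6 n10469 = n10462 := d20_2 D6035 D10469 (iv D10462) D10463 (iv F18509) (iv D10467) (iv D6034)
def n10472 : Q := act 1 n6037
theorem D10472 : act 1 n6037 = n10472 := rfl
theorem F18516 : act 4 n10472 = n6038 := d8_2 (iv F9170) D10472 (iv D6038)
def n10473 : Q := act 0 n6038
theorem D10473 : act 0 n6038 = n10473 := rfl
def n10474 : Q := act 2 n6038
theorem D10474 : act 2 n6038 = n10474 := rfl
theorem F18517 : act 1 n10474 = n6041 := d6_1 D10474 (iv D6041) (iv D2923) (iv F4566) D6038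
def n10475 : Q := act 5 n6038
theorem D10475 : act 5 n6038 = n10475 := rfl
def n10476 : Q := act 0 n6039
theorem D10476 : act 0 n6039 = n10476 := rfl
theorem F18519 : act 4 n10476 = n6040 := d3_2 (iv F9172) D10476 (iv D6040)
theorem F18520 : act 5 n10476 = n9909 := d22_0 (iv D9909) (iv F14597) F17491 D10476
def n10477 : Q := act 2 n6039
theorem D10477 : act 2 n6039 = n10477 := rfl
theorem F18521 : act 4 n10477 = n6041 := d12_2 (iv F9172) D10477 (iv D6041)
def n10478 : Q := act 5 n6039
theorem D10478 : act 5 n6039 = n10478 := rfl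
theorem F18523 : act 3 n10478 = n6155 := d16_1 D10478 (iv D6155) (iv F9171)
def n10479 : Q := act 1 n6040
theorem D10479 : act 1 n6040 = n10479 := rfl
theorem F18526 : act 3 n10479 = n6043 := d7_2 (iv F9173) D10479 (iv D6043)
def n10480 : Q := act 2 n6040
theorem D10480 : act 2 n6040 = n10480 := rfl
theorem F18527 : act 0 n10480 = n6041 := d1_1 D10480 (iv D6041) D6040
theorem F18528 : act 5 n10480 = n9914 := d13_2 (iv F17486) D10480 F17614
def n10481 : Q := act 3 n6041
theorem D10481 : act 3 n6041 = n10481 := rfl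
def n10482 : Q := act 5 n6041
theorem D10482 : act 5 n6041 = n10482 := rfl
theorem F18529 : act 0 n10482 = n9914 := d4_1 D10482 (iv F18528) F18527
theorem F18530 : act 2 n10482 = n6042 := d13_1 D10482 (iv D6042) D6041
theorem F18531 : act 6 n10482 = n9912 := d22_3 (iv F14604) F17490 D10482 F17613
def n10483 : Q := act 2 n6043
theorem D10483 : act 2 n6043 = n10483 := rfl
theorem F18533 : act 1 n10483 = n8333 := d6_1 D10483 F12403 (iv D4877) (iv F4570) D6043
def n10484 : Q := act 1 n6050
theorem D10484 : act 1 n6050 = n10484 := rfl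
theorem F18536 : act 2 n10484 = n8403 := d6_2 D6050 D10484 F16599 F17311 (iv F16981)
theorem F18537 : act 5 n10484 = n8404 := d9_2 (iv F17385) D10484 F17340 F12651 (iv F7571)
theorem F18538 : act 0 n10484 = n8404 := d23_3 F16986 D6050 D10484 (iv F18537) F18536 F16599 (iv D4834) F3680 F17308 (iv F17313) (iv F17323) (iv D8391) D8390 (iv F18273) F18272 F16548 (iv F17345) (iv D6062) (iv F16985)
def n10485 : Q := act 3 n6050
theorem D10485 : act 3 n6050 = n10485 := rfl
theorem F18542 : act 2 n10485 = n9919 := d21_2 D6050 D10485 (iv D9919) (iv D4962) F3764 F1976 D1421 (iv F4574)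
def n10489 : Q := act 1 n6053
theorem D10489 : act 1 n6053 = n10489 := rfl
theorem F18550 : act 3 n10489 = n6055 := d7_2 (iv F9190) D10489 (iv D6055)
theorem F18551 : act 6 n10489 = n6095 := d10_2 D6053 D10489 (iv D6095) F16938 (iv F16981)
def n10490 : Q := act 2 n6055
theorem D10490 : act 2 n6055 = n10490 := rfl
theorem F18554 : act 6 n10490 = n6102 := d14_2 (iv F15899) D10490 (iv D6102)
def n10495 : Q := act 5 n6057
theorem D10495 : act 5 n6057 = n10495 := rfl
theorem F18561 : act 2 n10495 = n6060 := d13_1 D10495 (iv D6060) (iv F9191)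
theorem F18562 : act 4 n10495 = n6058 := d18_1 D10495 (iv D6058) D6057
def n10497 : Q := act 6 n6058
theorem D10497 : act 6 n6058 = n10497 := rfl
theorem F18567 : act 2 n10497 = n6063 := d14_1 D10497 (iv D6063) (iv F9192)
def n10499 : Q := act 1 n6060
theorem D10499 : act 1 n6060 = n10499 := rfl
theorem F18572 : act 0 n10499 = n10377 := d0_1 D10499 F18335 (iv F18331) F18332 (iv D8561) (iv D4115) (iv F3758) D4953 F17436
def n10500 : Q := act 6 n6060
theorem D10500 : act 6 n6060 = n10500 := rfl
def n10517 : Q := act 3 n6102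
theorem D10517 : act 3 n6102 = n10517 := rfl
theorem F18607 : act 1 n10517 = n8391 := d7_1 D10517 F12519 (iv F15883)
theorem F18608 : act 5 n10517 = n8392 := d16_2 (iv F15884) D10517 F12520
def n10520 : Q := act 4 n6111
theorem D10520 : act 4 n6111 = n10520 := rfl
theorem F18616 : act 0 n10520 = n6118 := d3_1 D10520 (iv D6118) (iv F9246)
theorem F18618 : act 6 n10520 = n9921 := d19_2 F15937 D10520 F17628
def n10530 : Q := act 6 n6118
theorem D10530 : act 6 n6118 = n10530 := rfl
theorem F18636 : act 0 n10530 = n9921 := d5_1 D10530 (iv F18618) F18616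
theorem F18638 : act 4 n10530 = n6120 := d19_1 D10530 (iv D6120) D6118
theorem F18639 : act 1 n10495 = n10530 := d8_3 F18638 F17346 (iv F18562)
def n10633 : Q := act 0 n6705
theorem D10633 : act 0 n6705 = n10633 := rfl
theorem F18869 : act 2 n10633 = n6803 := d1_2 (iv F10074) D10633 (iv D6803)
theorem F18870 : act 4 n10633 = n6737 := d3_2 (iv F10075) D10633 (iv D6737)
def n10634 : Q := act 5 n6705
theorem D10634 : act 5 n6705 = n10634 := rfl
theorem F18871 : act 1 n10634 = n10634 := d9_1 D10634 (iv D10634) (iv D6705) F15648 D6705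
theorem F18872 : act 2 n10634 = n6805 := d13_1 D10634 (iv D6805) (iv F10074)
theorem F18873 : act 4 n10634 = n6739 := d18_1 D10634 (iv D6739) (iv F10075)
def n10635 : Q := act 6 n6705
theorem D10635 : act 6 n6705 = n10635 := rfl
theorem F18874 : act 1 n10635 = n10635 := d10_1 D10635 (iv D10635) (iv D6705) F17209 D6705
theorem F18875 : act 2 n10635 = n6806 := d14_1 D10635 (iv D6806) (iv F10074)
theorem F18876 : act 4 n10635 = n6740 := d19_1 D10635 (iv D6740) (iv F10075)
def n10636 : Q := act 1 n6737
theorem D10636 : act 1 n6737 = n10636 := rfl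
def n10637 : Q := act 3 n6737
theorem D10637 : act 3 n6737 = n10637 := rfl
theorem F18877 : act 0 n10637 = n6738 := d2_1 D10637 (iv D6738) D6737
def n10638 : Q := act 5 n6737
theorem D10638 : act 5 n6737 = n10638 := rfl
theorem F18878 : act 0 n10638 = n6739 := d4_1 D10638 (iv D6739) D6737
theorem F18879 : act 2 n10638 = n6858 := d13_1 D10638 (iv D6858) (iv F10127)
def n10639 : Q := act 6 n6737
theorem D10639 : act 6 n6737 = n10639 := rfl
theorem F18880 : act 0 n10639 = n6740 := d5_1 D10639 (iv D6740) D6737
theorem F18881 : act 2 n10639 = n6859 := d14_1 D10639 (iv D6859) (iv F10127)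
def n10640 : Q := act 2 n6738
theorem D10640 : act 2 n6738 = n10640 := rfl
theorem F18882 : act 1 n10640 = n10640 := d6_1 D10640 (iv D10640) F10128 F15674 (iv F10128)
def n10641 : Q := act 5 n6738
theorem D10641 : act 5 n6738 = n10641 := rfl
theorem F18883 : act 1 n10641 = n10641 := d9_1 D10641 (iv D10641) F10128 F15647 (iv F10128)
theorem F18884 : act 3 n10641 = n6739 := d16_1 D10641 (iv D6739) D6738
def n10642 : Q := act 6 n6738
theorem D10642 : act 6 n6738 = n10642 := rfl
theorem F18885 : act 1 n10642 = n10642 := d10_1 D10642 (iv D10642) F10128 F17210 (iv F10128)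
theorem F18886 : act 3 n10642 = n6740 := d17_1 D10642 (iv D6740) D6738
def n10643 : Q := act 6 n6739
theorem D10643 : act 6 n6739 = n10643 := rfl
theorem F18887 : act 2 n10643 = n6861 := d14_1 D10643 (iv D6861) (iv F10129)
theorem F18888 : act 5 n10643 = n10639 := d22_2 D6739 D10643 (iv D10639) (iv D6737)
def n10644 : Q := act 5 n6740
theorem D10644 : act 5 n6740 = n10644 := rfl
theorem F18889 : act 0 n10644 = n10643 := d4_1 D10644 F18888 F18880
theorem F18890 : act 2 n10644 = n6863 := d13_1 D10644 (iv D6863) (iv F10130)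
theorem F18891 : act 6 n10644 = n10638 := d20_2 D6740 D10644 (iv D10638) D10639 (iv F18888) (iv D10643) (iv D6739)
def n10645 : Q := act 1 n6803
theorem D10645 : act 1 n6803 = n10645 := rfl
theorem F18892 : act 4 n10645 = n6857 := d8_2 (iv F10226) D10645 (iv D6857)
def n10646 : Q := act 3 n6803
theorem D10646 : act 3 n6803 = n10646 := rfl
theorem F18893 : act 0 n10646 = n6804 := d2_1 D10646 (iv D6804) D6803
theorem F18894 : act 4 n10646 = n7996 := d15_2 (iv F10226) D10646 (iv D7996) F5862 (iv F5124)
theorem F18895 : act 2 n10646 = n9302 := d21_2 F18869 D10646 (iv D9302) (iv F16046) (iv D8799) (iv F13054) (iv F16011) D10633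
def n10647 : Q := act 5 n6803
theorem D10647 : act 5 n6803 = n10647 := rfl
theorem F18896 : act 0 n10647 = n6805 := d4_1 D10647 (iv D6805) D6803
theorem F18897 : act 4 n10647 = n6858 := d18_1 D10647 (iv D6858) (iv F10226)
def n10648 : Q := act 6 n6803
theorem D10648 : act 6 n6803 = n10648 := rfl
theorem F18898 : act 0 n10648 = n6806 := d5_1 D10648 (iv D6806) D6803
theorem F18899 : act 4 n10648 = n6859 := d19_1 D10648 (iv D6859) (iv F10226)
def n10649 : Q := act 2 n6804
theorem D10649 : act 2 n6804 = n10649 := rfl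
theorem F18900 : act 0 n10649 = n9302 := d1_1 D10649 (iv F18895) F18893
theorem F18901 : act 1 n10649 = n7999 := d6_1 D10649 (iv D7999) F5863 (iv F15687) (iv F10227)
theorem F18902 : act 4 n10649 = n7999 := d12_2 (iv F10228) D10649 (iv D7999)
theorem F18903 : act 3 n10649 = n9300 := d21_7 (iv F16046) (iv D8799) (iv F13054) (iv F16011) F10074 D6804 D10649 (iv D9300)
def n10650 : Q := act 5 n6804
theorem D10650 : act 5 n6804 = n10650 := rfl
theorem F18904 : act 3 n10650 = n6805 := d16_1 D10650 (iv D6805) D6804
theorem F18905 : act 4 n10650 = n8000 := d18_1 D10650 (iv D8000) (iv F10228)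
def n10651 : Q := act 6 n6804
theorem D10651 : act 6 n6804 = n10651 := rfl
theorem F18906 : act 3 n10651 = n6806 := d17_1 D10651 (iv D6806) D6804
theorem F18907 : act 4 n10651 = n8001 := d19_1 D10651 (iv D8001) (iv F10228)
def n10652 : Q := act 1 n6805
theorem D10652 : act 1 n6805 = n10652 := rfl
theorem F18908 : act 2 n10652 = n10652 := d6_2 F18872 D10652 (iv D10652) (iv F18872) F18871
theorem F18909 : act 4 n10652 = n6860 := d8_2 (iv F10229) D10652 (iv D6860)
theorem F18910 : act 5 n10652 = n6809 := d9_2 D6805 D10652 (iv D6809) (iv D3282) D3280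
def n10653 : Q := act 6 n6805
theorem D10653 : act 6 n6805 = n10653 := rfl
theorem F18911 : act 4 n10653 = n6861 := d19_1 D10653 (iv D6861) (iv F10229)
theorem F18912 : act 5 n10653 = n10648 := d22_2 D6805 D10653 (iv D10648) (iv D6803)
def n10654 : Q := act 1 n6806
theorem D10654 : act 1 n6806 = n10654 := rfl
theorem F18913 : act 2 n10654 = n10654 := d6_2 F18875 D10654 (iv D10654) (iv F18875) F18874
theorem F18914 : act 4 n10654 = n6862 := d8_2 (iv F10230) D10654 (iv D6862)
theorem F18915 : act 6 n10654 = n6810 := d10_2 D6806 D10654 (iv D6810) (iv D3283) D3280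
def n10655 : Q := act 5 n6806
theorem D10655 : act 5 n6806 = n10655 := rfl
theorem F18916 : act 0 n10655 = n10653 := d4_1 D10655 F18912 F18898
theorem F18917 : act 4 n10655 = n6863 := d18_1 D10655 (iv D6863) (iv F10230)
theorem F18918 : act 6 n10655 = n10647 := d20_2 D6806 D10655 (iv D10647) D10648 (iv F18912) (iv D10653) (iv D6805)
def n10656 : Q := act 1 n6807
theorem D10656 : act 1 n6807 = n10656 := rfl
theorem F18919 : act 3 n10656 = n6809 := d7_2 (iv F10232) D10656 (iv D6809)
theorem F18920 : act 4 n10656 = n8006 := d8_2 (iv F10233) D10656 (iv D8006)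
def n10657 : Q := act 1 n6808
theorem D10657 : act 1 n6808 = n10657 := rfl
theorem F18921 : act 3 n10657 = n6810 := d7_2 (iv F10235) D10657 (iv D6810)
theorem F18922 : act 4 n10657 = n8008 := d8_2 (iv F10236) D10657 (iv D8008)
def n10658 : Q := act 0 n6809
theorem D10658 : act 0 n6809 = n10658 := rfl
theorem F18923 : act 2 n10658 = n10658 := d1_2 F16112 D10658 (iv D10658)
theorem F18924 : act 4 n10658 = n6864 := d3_2 (iv F10237) D10658 (iv D6864)
def n10659 : Q := act 6 n6809
theorem D10659 : act 6 n6809 = n10659 := rfl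
theorem F18925 : act 2 n10659 = n10659 := d14_1 D10659 (iv D10659) F16112
theorem F18926 : act 4 n10659 = n6866 := d19_1 D10659 (iv D6866) (iv F10237)
def n10660 : Q := act 0 n6810
theorem D10660 : act 0 n6810 = n10660 := rfl
theorem F18927 : act 2 n10660 = n10660 := d1_2 F17221 D10660 (iv D10660)
theorem F18928 : act 4 n10660 = n6867 := d3_2 (iv F10238) D10660 (iv D6867)
def n10661 : Q := act 5 n6810
theorem D10661 : act 5 n6810 = n10661 := rfl
theorem F18929 : act 2 n10661 = n10661 := d13_1 D10661 (iv D10661) F17221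
theorem F18930 : act 4 n10661 = n6869 := d18_1 D10661 (iv D6869) (iv F10238)
def n10662 : Q := act 0 n6857
theorem D10662 : act 0 n6857 = n10662 := rfl
theorem F18931 : act 1 n10662 = n8187 := d0_2 D6857 D10662 (iv D8187) (iv D3910) (iv D1878) (iv D926) (iv F1448) D1603 D3304
theorem F18932 : act 3 n10662 = n8187 := d2_2 (iv F10300) D10662 (iv D8187)
def n10663 : Q := act 2 n6857
theorem D10663 : act 2 n6857 = n10663 := rfl
def n10664 : Q := act 5 n6857
theorem D10664 : act 5 n6857 = n10664 := rfl
theorem F18933 : act 3 n10664 = n8189 := d16_1 D10664 (iv D8189) (iv F10300)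
def n10665 : Q := act 6 n6857
theorem D10665 : act 6 n6857 = n10665 := rfl
theorem F18934 : act 3 n10665 = n8190 := d17_1 D10665 (iv D8190) (iv F10300)
def n10666 : Q := act 1 n6858
theorem D10666 : act 1 n6858 = n10666 := rfl
theorem F18935 : act 3 n10666 = n8191 := d7_2 (iv F10302) D10666 (iv D8191)
def n10667 : Q := act 1 n6859
theorem D10667 : act 1 n6859 = n10667 := rfl
theorem F18936 : act 3 n10667 = n8192 := d7_2 (iv F10304) D10667 (iv D8192)
def n10668 : Q := act 0 n6860
theorem D10668 : act 0 n6860 = n10668 := rfl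
theorem F18937 : act 2 n10668 = n10668 := d1_2 F16110 D10668 (iv D10668)
theorem F18938 : act 3 n10668 = n8193 := d2_2 (iv F10305) D10668 (iv D8193)
theorem F18939 : act 5 n10668 = n6864 := d4_2 (iv F10306) D10668 (iv D6864)
def n10669 : Q := act 6 n6860
theorem D10669 : act 6 n6860 = n10669 := rfl
theorem F18940 : act 2 n10669 = n10669 := d14_1 D10669 (iv D10669) F16110
theorem F18941 : act 3 n10669 = n8195 := d17_1 D10669 (iv D8195) (iv F10305)
def n10670 : Q := act 1 n6861
theorem D10670 : act 1 n6861 = n10670 := rfl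
theorem F18942 : act 3 n10670 = n8196 := d7_2 (iv F10307) D10670 (iv D8196)
def n10671 : Q := act 0 n6862
theorem D10671 : act 0 n6862 = n10671 := rfl
theorem F18943 : act 2 n10671 = n10671 := d1_2 F17223 D10671 (iv D10671)
theorem F18944 : act 3 n10671 = n8197 := d2_2 (iv F10309) D10671 (iv D8197)
theorem F18945 : act 6 n10671 = n6867 := d5_2 (iv F10310) D10671 (iv D6867)
def n10672 : Q := act 5 n6862
theorem D10672 : act 5 n6862 = n10672 := rfl
theorem F18946 : act 2 n10672 = n10672 := d13_1 D10672 (iv D10672) F17223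
theorem F18947 : act 3 n10672 = n8199 := d16_1 D10672 (iv D8199) (iv F10309)
def n10673 : Q := act 1 n6863
theorem D10673 : act 1 n6863 = n10673 := rfl
theorem F18948 : act 3 n10673 = n8200 := d7_2 (iv F10312) D10673 (iv D8200)
def n10674 : Q := act 1 n6864
theorem D10674 : act 1 n6864 = n10674 := rfl
theorem F18949 : act 3 n10674 = n8201 := d7_2 (iv F10314) D10674 (iv D8201)
def n10675 : Q := act 6 n6864
theorem D10675 : act 6 n6864 = n10675 := rfl
theorem F18950 : act 0 n10675 = n6866 := d5_1 D10675 (iv D6866) D6864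
theorem F18951 : act 2 n10675 = n10675 := d14_1 D10675 (iv D10675) F16111
theorem F18952 : act 3 n10675 = n8203 := d17_1 D10675 (iv D8203) (iv F10314)
theorem F18953 : act 5 n10675 = n10669 := d22_2 F18939 D10675 (iv D10669) D10668
def n10676 : Q := act 5 n6866
theorem D10676 : act 5 n6866 = n10676 := rfl
theorem F18954 : act 0 n10676 = n10669 := d4_1 D10676 (iv F18953) F18950
theorem F18955 : act 2 n10676 = n10676 := d13_1 D10676 (iv D10676) F16113
theorem F18956 : act 3 n10676 = n8207 := d16_1 D10676 (iv D8207) (iv F10316)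
theorem F18957 : act 6 n10676 = n10668 := d20_2 D6866 D10676 F18939 D10675 F18953 (iv D10669) F10306
def n10677 : Q := act 1 n6867
theorem D10677 : act 1 n6867 = n10677 := rfl
theorem F18958 : act 3 n10677 = n8211 := d7_2 (iv F10317) D10677 (iv D8211)
def n10678 : Q := act 5 n6867
theorem D10678 : act 5 n6867 = n10678 := rfl
theorem F18959 : act 0 n10678 = n6869 := d4_1 D10678 (iv D6869) D6867
theorem F18960 : act 2 n10678 = n10678 := d13_1 D10678 (iv D10678) F17220
theorem F18961 : act 3 n10678 = n8213 := d16_1 D10678 (iv D8213) (iv F10317)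
theorem F18962 : act 6 n10678 = n10672 := d22_1 D10678 (iv D10672) F10310 D6867
def n10679 : Q := act 6 n6869
theorem D10679 : act 6 n6869 = n10679 := rfl
theorem F18963 : act 0 n10679 = n10672 := d5_1 D10679 (iv F18962) F18959
theorem F18964 : act 2 n10679 = n10679 := d14_1 D10679 (iv D10679) F17222
theorem F18965 : act 3 n10679 = n8217 := d17_1 D10679 (iv D8217) (iv F10319)
theorem F18966 : act 5 n10679 = n10671 := d20_1 D10679 F18945 D10678 F18962 (iv D10672) F10310 D6869
def n10680 : Q := act 5 n7595
theorem D10680 : act 5 n7595 = n10680 := rfl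
theorem F18967 : act 0 n10680 = n7665 := d4_1 D10680 (iv D7665) (iv F16014)
theorem F18968 : act 2 n10680 = n10680 := d13_1 D10680 (iv D10680) F16015
theorem F18969 : act 3 n10680 = n7597 := d16_1 D10680 (iv D7597) (iv F16016)
theorem F18970 : act 4 n10680 = n7620 := d18_1 D10680 (iv D7620) (iv F11291)
def n10681 : Q := act 6 n7595
theorem D10681 : act 6 n7595 = n10681 := rfl
theorem F18971 : act 0 n10681 = n7666 := d5_1 D10681 (iv D7666) (iv F16014)
theorem F18972 : act 2 n10681 = n10681 := d14_1 D10681 (iv D10681) F16015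
theorem F18973 : act 3 n10681 = n7598 := d17_1 D10681 (iv D7598) (iv F16016)
theorem F18974 : act 4 n10681 = n7621 := d19_1 D10681 (iv D7621) (iv F11291)
def n10682 : Q := act 1 n7597
theorem D10682 : act 1 n7597 = n10682 := rfl
theorem F18975 : act 4 n10682 = n7622 := d8_2 (iv F11296) D10682 (iv D7622)
def n10683 : Q := act 1 n7598
theorem D10683 : act 1 n7598 = n10683 := rfl
theorem F18976 : act 4 n10683 = n7623 := d8_2 (iv F11299) D10683 (iv D7623)
def n10684 : Q := act 2 n7599
theorem D10684 : act 2 n7599 = n10684 := rfl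
theorem F18977 : act 0 n10684 = n10684 := d1_1 D10684 (iv D10684) F16213
theorem F18978 : act 4 n10684 = n7625 := d12_2 (iv F11301) D10684 (iv D7625)
theorem F18979 : act 5 n10684 = n10684 := d13_2 F16159 D10684 (iv D10684)
def n10685 : Q := act 2 n7600
theorem D10685 : act 2 n7600 = n10685 := rfl
theorem F18980 : act 0 n10685 = n10685 := d1_1 D10685 (iv D10685) F17240
theorem F18981 : act 4 n10685 = n7628 := d12_2 (iv F11303) D10685 (iv D7628)
theorem F18982 : act 6 n10685 = n10685 := d14_2 F16151 D10685 (iv D10685)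
def n10686 : Q := act 1 n7619
theorem D10686 : act 1 n7619 = n10686 := rfl
theorem F18983 : act 3 n10686 = n7738 := d7_2 F16020 D10686 F11501
theorem F18984 : act 4 n10686 = n7661 := d8_2 (iv F16018) D10686 F11385
def n10687 : Q := act 5 n7619
theorem D10687 : act 5 n7619 = n10687 := rfl
theorem F18985 : act 0 n10687 = n7620 := d4_1 D10687 (iv D7620) D7619
theorem F18986 : act 2 n10687 = n10687 := d13_1 D10687 (iv D10687) F16017
theorem F18987 : act 3 n10687 = n7745 := d16_1 D10687 (iv D7745) F16020
theorem F18988 : act 4 n10687 = n7665 := d18_1 D10687 (iv D7665) (iv F16018)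
def n10688 : Q := act 6 n7619
theorem D10688 : act 6 n7619 = n10688 := rfl
theorem F18989 : act 0 n10688 = n7621 := d5_1 D10688 (iv D7621) D7619
theorem F18990 : act 2 n10688 = n10688 := d14_1 D10688 (iv D10688) F16017
theorem F18991 : act 3 n10688 = n7746 := d17_1 D10688 (iv D7746) F16020
theorem F18992 : act 4 n10688 = n7666 := d19_1 D10688 (iv D7666) (iv F16018)
def n10689 : Q := act 1 n7620
theorem D10689 : act 1 n7620 = n10689 := rfl
theorem F18993 : act 5 n10689 = n7622 := d9_2 D7620 D10689 (iv D7622) (iv D3652) D3651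
def n10690 : Q := act 6 n7620
theorem D10690 : act 6 n7620 = n10690 := rfl
theorem F18994 : act 2 n10690 = n10690 := d14_1 D10690 (iv D10690) F16107
theorem F18995 : act 5 n10690 = n10688 := d22_2 D7620 D10690 (iv D10688) (iv D7619)
def n10691 : Q := act 1 n7621
theorem D10691 : act 1 n7621 = n10691 := rfl
theorem F18996 : act 6 n10691 = n7623 := d10_2 D7621 D10691 (iv D7623) (iv D3653) D3651
def n10692 : Q := act 5 n7621
theorem D10692 : act 5 n7621 = n10692 := rfl
theorem F18997 : act 0 n10692 = n10690 := d4_1 D10692 F18995 F18989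
theorem F18998 : act 2 n10692 = n10692 := d13_1 D10692 (iv D10692) F16108
theorem F18999 : act 6 n10692 = n10687 := d20_2 D7621 D10692 (iv D10687) D10688 (iv F18995) (iv D10690) (iv D7620)
def n10693 : Q := act 0 n7622
theorem D10693 : act 0 n7622 = n10693 := rfl
def n10694 : Q := act 2 n7622
theorem D10694 : act 2 n7622 = n10694 := rfl
theorem F19000 : act 1 n10694 = n7625 := d6_1 D10694 (iv D7625) (iv D3654) (iv F5605) D7622
def n10695 : Q := act 6 n7622
theorem D10695 : act 6 n7622 = n10695 := rfl
def n10696 : Q := act 0 n7623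
theorem D10696 : act 0 n7623 = n10696 := rfl
def n10697 : Q := act 2 n7623
theorem D10697 : act 2 n7623 = n10697 := rfl
theorem F19001 : act 1 n10697 = n7628 := d6_1 D10697 (iv D7628) (iv D3655) (iv F5607) D7623
def n10698 : Q := act 5 n7623
theorem D10698 : act 5 n7623 = n10698 := rfl
def n10699 : Q := act 3 n7625
theorem D10699 : act 3 n7625 = n10699 := rfl
theorem F19002 : act 0 n10699 = n10699 := d2_1 D10699 (iv D10699) F16212
theorem F19003 : act 5 n10699 = n10699 := d16_2 F16188 D10699 (iv D10699)
theorem F19004 : act 2 n10699 = n10699 := d21_2 D7625 D10699 (iv D10699) (iv D7625) F5608 F15100 (iv F5608) F15356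
def n10700 : Q := act 3 n7628
theorem D10700 : act 3 n7628 = n10700 := rfl
theorem F19005 : act 0 n10700 = n10700 := d2_1 D10700 (iv D10700) F17256
theorem F19006 : act 6 n10700 = n10700 := d17_2 F16150 D10700 (iv D10700)
theorem F19007 : act 2 n10700 = n10700 := d21_2 D7628 D10700 (iv D10700) (iv D7628) F5609 F16916 (iv F5609) F17044
def n10701 : Q := act 1 n7660
theorem D10701 : act 1 n7660 = n10701 := rfl
theorem F19008 : act 4 n10701 = n7733 := d8_2 (iv F11384) D10701 (iv D7733)
def n10702 : Q := act 3 n7660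
theorem D10702 : act 3 n7660 = n10702 := rfl
theorem F19009 : act 0 n10702 = n7661 := d2_1 D10702 (iv D7661) D7660
def n10703 : Q := act 5 n7660
theorem D10703 : act 5 n7660 = n10703 := rfl
theorem F19010 : act 0 n10703 = n7662 := d4_1 D10703 (iv D7662) D7660
theorem F19011 : act 2 n10703 = n7997 := d13_1 D10703 (iv D7997) (iv F11383)
theorem F19012 : act 4 n10703 = n7735 := d18_1 D10703 (iv D7735) (iv F11384)
def n10704 : Q := act 6 n7660
theorem D10704 : act 6 n7660 = n10704 := rfl
theorem F19013 : act 0 n10704 = n7663 := d5_1 D10704 (iv D7663) D7660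
theorem F19014 : act 2 n10704 = n7998 := d14_1 D10704 (iv D7998) (iv F11383)
theorem F19015 : act 4 n10704 = n7736 := d19_1 D10704 (iv D7736) (iv F11384)
def n10705 : Q := act 5 n7661
theorem D10705 : act 5 n7661 = n10705 := rfl
theorem F19016 : act 3 n10705 = n7662 := d16_1 D10705 (iv D7662) D7661
def n10706 : Q := act 6 n7661
theorem D10706 : act 6 n7661 = n10706 := rfl
theorem F19017 : act 3 n10706 = n7663 := d17_1 D10706 (iv D7663) D7661
def n10707 : Q := act 1 n7662
theorem D10707 : act 1 n7662 = n10707 := rfl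
theorem F19018 : act 4 n10707 = n7741 := d8_2 (iv F11387) D10707 (iv D7741)
theorem F19019 : act 5 n10707 = n7667 := d9_2 D7662 D10707 (iv D7667) (iv D3674) D3672
def n10708 : Q := act 6 n7662
theorem D10708 : act 6 n7662 = n10708 := rfl
theorem F19020 : act 2 n10708 = n8003 := d14_1 D10708 (iv D8003) (iv F11386)
theorem F19021 : act 4 n10708 = n7742 := d19_1 D10708 (iv D7742) (iv F11387)
theorem F19022 : act 5 n10708 = n10704 := d22_2 D7662 D10708 (iv D10704) (iv D7660)
def n10709 : Q := act 1 n7663
theorem D10709 : act 1 n7663 = n10709 := rfl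
theorem F19023 : act 4 n10709 = n7743 := d8_2 (iv F11389) D10709 (iv D7743)
theorem F19024 : act 6 n10709 = n7669 := d10_2 D7663 D10709 (iv D7669) (iv D3675) D3672
def n10710 : Q := act 5 n7663
theorem D10710 : act 5 n7663 = n10710 := rfl
theorem F19025 : act 0 n10710 = n10708 := d4_1 D10710 F19022 F19013
theorem F19026 : act 2 n10710 = n8005 := d13_1 D10710 (iv D8005) (iv F11388)
theorem F19027 : act 4 n10710 = n7744 := d18_1 D10710 (iv D7744) (iv F11389)
theorem F19028 : act 6 n10710 = n10703 := d20_2 D7663 D10710 (iv D10703) D10704 (iv F19022) (iv D10708) (iv D7662)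
def n10711 : Q := act 1 n7665
theorem D10711 : act 1 n7665 = n10711 := rfl
theorem F19029 : act 3 n10711 = n7667 := d7_2 (iv F11393) D10711 (iv D7667)
def n10712 : Q := act 6 n7665
theorem D10712 : act 6 n7665 = n10712 := rfl
theorem F19030 : act 2 n10712 = n10712 := d14_1 D10712 (iv D10712) F11392
theorem F19031 : act 3 n10712 = n7668 := d17_1 D10712 (iv D7668) (iv F11393)
theorem F19032 : act 4 n10712 = n10692 := d19_1 D10712 F18999 F18988
theorem F19033 : act 5 n10712 = n10681 := d22_2 D7665 D10712 (iv D10681) F16014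
def n10713 : Q := act 1 n7666
theorem D10713 : act 1 n7666 = n10713 := rfl
theorem F19034 : act 3 n10713 = n7669 := d7_2 (iv F11395) D10713 (iv D7669)
def n10714 : Q := act 5 n7666
theorem D10714 : act 5 n7666 = n10714 := rfl
theorem F19035 : act 0 n10714 = n10712 := d4_1 D10714 F19033 F18971
theorem F19036 : act 2 n10714 = n10714 := d13_1 D10714 (iv D10714) F11394
theorem F19037 : act 3 n10714 = n7670 := d16_1 D10714 (iv D7670) (iv F11395)
theorem F19038 : act 4 n10714 = n10690 := d18_1 D10714 F18995 F18992
theorem F19039 : act 6 n10714 = n10680 := d20_2 D7666 D10714 (iv D10680) D10681 (iv F19033) (iv D10712) (iv D7665)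
def n10715 : Q := act 0 n7667
theorem D10715 : act 0 n7667 = n10715 := rfl
theorem F19040 : act 4 n10715 = n7751 := d3_2 (iv F11396) D10715 (iv D7751)
def n10716 : Q := act 2 n7667
theorem D10716 : act 2 n7667 = n10716 := rfl
theorem F19041 : act 1 n10716 = n7672 := d6_1 D10716 (iv D7672) (iv D3676) (iv F5641) D7667
theorem F19042 : act 4 n10716 = n7752 := d12_2 (iv F11396) D10716 (iv D7752)
def n10717 : Q := act 6 n7667
theorem D10717 : act 6 n7667 = n10717 := rfl
theorem F19043 : act 4 n10717 = n7753 := d19_1 D10717 (iv D7753) (iv F11396)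
def n10718 : Q := act 1 n7668
theorem D10718 : act 1 n7668 = n10718 := rfl
theorem F19044 : act 4 n10718 = n7754 := d8_2 (iv F11398) D10718 (iv D7754)
def n10719 : Q := act 0 n7669
theorem D10719 : act 0 n7669 = n10719 := rfl
theorem F19045 : act 4 n10719 = n7755 := d3_2 (iv F11400) D10719 (iv D7755)
def n10720 : Q := act 2 n7669
theorem D10720 : act 2 n7669 = n10720 := rfl
theorem F19046 : act 1 n10720 = n7676 := d6_1 D10720 (iv D7676) (iv D3678) (iv F5643) D7669
theorem F19047 : act 4 n10720 = n7756 := d12_2 (iv F11400) D10720 (iv D7756)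
def n10721 : Q := act 5 n7669
theorem D10721 : act 5 n7669 = n10721 := rfl
theorem F19048 : act 4 n10721 = n7757 := d18_1 D10721 (iv D7757) (iv F11400)
def n10722 : Q := act 1 n7670
theorem D10722 : act 1 n7670 = n10722 := rfl
theorem F19049 : act 4 n10722 = n7758 := d8_2 (iv F11403) D10722 (iv D7758)
def n10723 : Q := act 3 n7672
theorem D10723 : act 3 n7672 = n10723 := rfl
theorem F19050 : act 5 n10723 = n8021 := d16_2 (iv F11409) D10723 (iv D8021)
theorem F19051 : act 2 n10723 = n8021 := d21_2 D7672 D10723 (iv D8021) (iv D3837) F2985 D1851 D3847 F15030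
def n10724 : Q := act 6 n7672
theorem D10724 : act 6 n7672 = n10724 := rfl
theorem F19052 : act 2 n10724 = n7673 := d14_1 D10724 (iv D7673) D7672
theorem F19053 : act 4 n10724 = n7762 := d19_1 D10724 (iv D7762) (iv F11408)
def n10725 : Q := act 2 n7674
theorem D10725 : act 2 n7674 = n10725 := rfl
theorem F19054 : act 0 n10725 = n8032 := d1_1 D10725 F11999 (iv F17173)
theorem F19055 : act 4 n10725 = n7765 := d12_2 (iv F11413) D10725 (iv D7765)
theorem F19056 : act 5 n10725 = n8029 := d13_2 (iv F17174) D10725 (iv D8029)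
def n10726 : Q := act 3 n7676
theorem D10726 : act 3 n7676 = n10726 := rfl
theorem F19057 : act 6 n10726 = n8031 := d17_2 (iv F11418) D10726 (iv D8031)
theorem F19058 : act 2 n10726 = n8031 := d21_2 D7676 D10726 (iv D8031) (iv D3841) F2990 D1855 D3857 F16903
def n10727 : Q := act 5 n7676
theorem D10727 : act 5 n7676 = n10727 := rfl
theorem F19059 : act 2 n10727 = n7677 := d13_1 D10727 (iv D7677) D7676
theorem F19060 : act 4 n10727 = n7770 := d18_1 D10727 (iv D7770) (iv F11417)
theorem F19061 : act 6 n10727 = n10725 := d22_1 D10727 F19056 (iv F17458) (iv F17459)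
def n10728 : Q := act 2 n7678
theorem D10728 : act 2 n7678 = n10728 := rfl
theorem F19062 : act 0 n10728 = n8022 := d1_1 D10728 F11976 (iv F17146)
theorem F19063 : act 4 n10728 = n7773 := d12_2 (iv F11422) D10728 (iv D7773)
theorem F19064 : act 5 n10728 = n10724 := d13_2 (iv F17147) D10728 F19052
theorem F19065 : act 6 n10728 = n8019 := d14_2 (iv F17148) D10728 (iv D8019)
def n10729 : Q := act 0 n7733
theorem D10729 : act 0 n7733 = n10729 := rfl
def n10730 : Q := act 2 n7733
theorem D10730 : act 2 n7733 = n10730 := rfl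
theorem F19066 : act 1 n10730 = n8188 := d6_1 D10730 (iv D8188) (iv D3910) (iv F5691) D7733
def n10731 : Q := act 3 n7733
theorem D10731 : act 3 n7733 = n10731 := rfl
theorem F19067 : act 1 n10731 = n7734 := d7_1 D10731 (iv D7734) D7733
def n10732 : Q := act 5 n7733
theorem D10732 : act 5 n7733 = n10732 := rfl
def n10733 : Q := act 6 n7733
theorem D10733 : act 6 n7733 = n10733 := rfl
def n10734 : Q := act 2 n7734
theorem D10734 : act 2 n7734 = n10734 := rfl
theorem F19068 : act 0 n10734 = n7737 := d1_1 D10734 (iv D7737) (iv F11496)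
theorem F19069 : act 3 n10734 = n10640 := d21_1 D10734 (iv D10640) (iv D6738) F5040 F2638 (iv F2903) D3705 (iv F11496)
theorem F19070 : act 3 n10730 = n8188 := d25_23 (iv D2105) (iv D1032) (iv D521) (iv D265) (iv F470) F469 D236 D468 (iv F1449) (iv D799) (iv F1428) (iv D787) F784 D787 D1577 D3248 D6738 D10640 (iv F19069) (iv D10734) (iv F19067) (iv D10731) D10730 (iv D8188) (iv D3910) (iv F5862) D7996 F17701 (iv D5142) D5141 F7816 D9947 (iv F17700) (iv D7661) F5638 (iv D1842) D1843 (iv F15687) (iv D3281) (iv D1592) (iv F2592) (iv D1570) (iv F2589) (iv F16002) F3209 F1741 D1000 D2033 D4238 F6453 (iv F16035) F6560 D4375 F6680 (iv D2101) F1801 (iv D547) F555 (iv D163) (iv D75) F81 F50 F38 F37 F38 F37 (iv F50) F51 (iv F81) D75 D163 D327 (iv F1030) (iv F1801) D2101 (iv F6680) F16029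
theorem F19071 : act 1 n10734 = n10734 := d7_3 F19069 F18882 (iv F19069)
theorem F19072 : act 2 n10731 = n10731 := d6_4 D10734 F19071 (iv D10734) (iv F19067) F19067
theorem E6987 : n10730 = n10662 := ((c21_9 (iv D10730) D10731 F19072 (iv D10731) D10730 F19070 (iv D8188) (iv F10300) D10662)).symm
theorem E6988 : n8188 = n8187 := (((F18931).symm.trans (sb E6987 F19066))).symm
theorem F19073 : act 2 n10662 = n7733 := (sb E6987 (iv D10730))
theorem F19074 : act 2 n8187 = n3910 := (sb E6988 (iv D8188))
theorem E6989 : n10729 = n10663 := (c21_9 (iv D10663) F10300 (iv F19074) (iv F18932) F19073 D10731 F19072 (iv D10731) D10729)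
theorem F19075 : act 0 n10663 = n7733 := (sb E6989 (iv D10729))
def n10735 : Q := act 4 n7734
theorem D10735 : act 4 n7734 = n10735 := rfl
theorem F19076 : act 0 n10735 = n7738 := d3_1 D10735 (iv D7738) (iv F11496)
def n10736 : Q := act 5 n7734
theorem D10736 : act 5 n7734 = n10736 := rfl
theorem F19077 : act 0 n10736 = n7739 := d4_1 D10736 (iv D7739) (iv F11496)
theorem F19078 : act 3 n10736 = n7735 := d16_1 D10736 (iv D7735) D7734
def n10737 : Q := act 6 n7734
theorem D10737 : act 6 n7734 = n10737 := rfl
theorem F19079 : act 0 n10737 = n7740 := d5_1 D10737 (iv D7740) (iv F11496)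
theorem F19080 : act 3 n10737 = n7736 := d17_1 D10737 (iv D7736) D7734
def n10738 : Q := act 1 n7735
theorem D10738 : act 1 n7735 = n10738 := rfl
def n10739 : Q := act 1 n7736
theorem D10739 : act 1 n7736 = n10739 := rfl
def n10740 : Q := act 3 n7737
theorem D10740 : act 3 n7737 = n10740 := rfl
theorem F19081 : act 0 n10740 = n10640 := d2_1 D10740 (iv F19069) F19068
theorem F19082 : act 2 n10740 = n10637 := d11_1 D10740 (iv D10637) F10127 F5124 (iv F5691) D7734 D10734 F19069 (iv D10640) (iv D6738) F5040 F2638 (iv F2903) D3705 D7737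
def n10741 : Q := act 4 n7737
theorem D10741 : act 4 n7737 = n10741 := rfl
theorem F19083 : act 2 n10741 = n7738 := d12_1 D10741 (iv D7738) D7737
def n10742 : Q := act 5 n7737
theorem D10742 : act 5 n7737 = n10742 := rfl
theorem F19084 : act 2 n10742 = n7739 := d13_1 D10742 (iv D7739) D7737
def n10743 : Q := act 6 n7737
theorem D10743 : act 6 n7737 = n10743 := rfl
theorem F19085 : act 2 n10743 = n7740 := d14_1 D10743 (iv D7740) D7737
def n10744 : Q := act 5 n7738
theorem D10744 : act 5 n7738 = n10744 := rfl
theorem F19086 : act 4 n10744 = n7739 := d18_1 D10744 (iv D7739) D7738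
def n10745 : Q := act 6 n7738
theorem D10745 : act 6 n7738 = n10745 := rfl
theorem F19087 : act 4 n10745 = n7740 := d19_1 D10745 (iv D7740) D7738
def n10746 : Q := act 1 n7739
theorem D10746 : act 1 n7739 = n10746 := rfl
theorem F19088 : act 3 n10746 = n7741 := d7_2 (iv F11502) D10746 (iv D7741)
theorem F19089 : act 5 n10746 = n7747 := d9_2 D7739 D10746 (iv D7747) (iv D3709) (iv F5692)
def n10747 : Q := act 6 n7739
theorem D10747 : act 6 n7739 = n10747 := rfl
theorem F19090 : act 3 n10747 = n7742 := d17_1 D10747 (iv D7742) (iv F11502)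
theorem F19091 : act 5 n10747 = n10737 := d22_2 D7739 D10747 (iv D10737) F11496
def n10748 : Q := act 1 n7740
theorem D10748 : act 1 n7740 = n10748 := rfl
theorem F19092 : act 3 n10748 = n7743 := d7_2 (iv F11503) D10748 (iv D7743)
theorem F19093 : act 6 n10748 = n7749 := d10_2 D7740 D10748 (iv D7749) (iv D3710) (iv F5692)
def n10749 : Q := act 5 n7740
theorem D10749 : act 5 n7740 = n10749 := rfl
theorem F19094 : act 0 n10749 = n10747 := d4_1 D10749 F19091 F19079
theorem F19095 : act 3 n10749 = n7744 := d16_1 D10749 (iv D7744) (iv F11503)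
theorem F19096 : act 6 n10749 = n10736 := d20_2 D7740 D10749 (iv D10736) D10737 (iv F19091) (iv D10747) (iv D7739)
def n10750 : Q := act 0 n7741
theorem D10750 : act 0 n7741 = n10750 := rfl
theorem F19097 : act 5 n10750 = n7751 := d4_2 (iv F11504) D10750 (iv D7751)
def n10751 : Q := act 2 n7741
theorem D10751 : act 2 n7741 = n10751 := rfl
theorem F19098 : act 1 n10751 = n8194 := d6_1 D10751 (iv D8194) (iv D3913) (iv F5693) D7741
theorem F19099 : act 5 n10751 = n7752 := d13_2 (iv F11504) D10751 (iv D7752)
def n10752 : Q := act 6 n7741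
theorem D10752 : act 6 n7741 = n10752 := rfl
def n10753 : Q := act 1 n7742
theorem D10753 : act 1 n7742 = n10753 := rfl
def n10754 : Q := act 0 n7743
theorem D10754 : act 0 n7743 = n10754 := rfl
theorem F19100 : act 6 n10754 = n7755 := d5_2 (iv F11507) D10754 (iv D7755)
def n10755 : Q := act 2 n7743
theorem D10755 : act 2 n7743 = n10755 := rfl
theorem F19101 : act 1 n10755 = n8198 := d6_1 D10755 (iv D8198) (iv D3915) (iv F5694) D7743
theorem F19102 : act 6 n10755 = n7756 := d14_2 (iv F11507) D10755 (iv D7756)
def n10756 : Q := act 5 n7743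
theorem D10756 : act 5 n7743 = n10756 := rfl
def n10757 : Q := act 1 n7744
theorem D10757 : act 1 n7744 = n10757 := rfl
def n10758 : Q := act 1 n7745
theorem D10758 : act 1 n7745 = n10758 := rfl
theorem F19103 : act 4 n10758 = n7747 := d8_2 (iv F11511) D10758 (iv D7747)
def n10759 : Q := act 6 n7745
theorem D10759 : act 6 n7745 = n10759 := rfl
theorem F19104 : act 2 n10759 = n9084 := d14_1 D10759 F13607 F13235
theorem F19105 : act 3 n10759 = n10692 := d17_1 D10759 F18999 F18987
theorem F19106 : act 4 n10759 = n7748 := d19_1 D10759 (iv D7748) (iv F11511)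
theorem F19107 : act 5 n10759 = n9075 := d22_2 D7745 D10759 (iv D9075) (iv F16019)
def n10760 : Q := act 1 n7746
theorem D10760 : act 1 n7746 = n10760 := rfl
theorem F19108 : act 4 n10760 = n7749 := d8_2 (iv F11512) D10760 (iv D7749)
def n10761 : Q := act 5 n7746
theorem D10761 : act 5 n7746 = n10761 := rfl
theorem F19109 : act 0 n10761 = n10759 := d4_1 D10761 F19107 F16026
theorem F19110 : act 2 n10761 = n9082 := d13_1 D10761 F13603 F13238
theorem F19111 : act 3 n10761 = n10690 := d16_1 D10761 F18995 F18991
theorem F19112 : act 4 n10761 = n7750 := d18_1 D10761 (iv D7750) (iv F11512)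
theorem F19113 : act 6 n10761 = n9074 := d20_2 D7746 D10761 (iv D9074) D9075 (iv F19107) (iv D10759) (iv D7745)
def n10762 : Q := act 0 n7747
theorem D10762 : act 0 n7747 = n10762 := rfl
theorem F19114 : act 3 n10762 = n7751 := d2_2 (iv F11513) D10762 (iv D7751)
def n10763 : Q := act 2 n7747
theorem D10763 : act 2 n7747 = n10763 := rfl
def n10764 : Q := act 6 n7747
theorem D10764 : act 6 n7747 = n10764 := rfl
theorem F19115 : act 3 n10764 = n7753 := d17_1 D10764 (iv D7753) (iv F11513)
def n10765 : Q := act 1 n7748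
theorem D10765 : act 1 n7748 = n10765 := rfl
theorem F19116 : act 3 n10765 = n7754 := d7_2 (iv F11515) D10765 (iv D7754)
def n10766 : Q := act 0 n7749
theorem D10766 : act 0 n7749 = n10766 := rfl
theorem F19117 : act 3 n10766 = n7755 := d2_2 (iv F11517) D10766 (iv D7755)
def n10767 : Q := act 2 n7749
theorem D10767 : act 2 n7749 = n10767 := rfl
def n10768 : Q := act 5 n7749
theorem D10768 : act 5 n7749 = n10768 := rfl
theorem F19118 : act 3 n10768 = n7757 := d16_1 D10768 (iv D7757) (iv F11517)
def n10769 : Q := act 1 n7750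
theorem D10769 : act 1 n7750 = n10769 := rfl
theorem F19119 : act 3 n10769 = n7758 := d7_2 (iv F11520) D10769 (iv D7758)
def n10770 : Q := act 1 n7751
theorem D10770 : act 1 n7751 = n10770 := rfl
def n10771 : Q := act 2 n7751
theorem D10771 : act 2 n7751 = n10771 := rfl
theorem F19120 : act 0 n10771 = n7752 := d1_1 D10771 (iv D7752) D7751
def n10772 : Q := act 6 n7751
theorem D10772 : act 6 n7751 = n10772 := rfl
theorem F19121 : act 0 n10772 = n7753 := d5_1 D10772 (iv D7753) D7751
theorem F19122 : act 5 n10772 = n10752 := d22_2 F19097 D10772 (iv D10752) D10750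
def n10773 : Q := act 3 n7752
theorem D10773 : act 3 n7752 = n10773 := rfl
theorem F19123 : act 1 n10773 = n7761 := d7_1 D10773 (iv D7761) (iv F11522)
def n10774 : Q := act 6 n7752
theorem D10774 : act 6 n7752 = n10774 := rfl
theorem F19124 : act 2 n10774 = n7753 := d14_1 D10774 (iv D7753) D7752
def n10775 : Q := act 1 n7753
theorem D10775 : act 1 n7753 = n10775 := rfl
theorem F19125 : act 6 n10775 = n7754 := d10_2 D7753 D10775 (iv D7754) (iv D3712) D3711
def n10776 : Q := act 5 n7753
theorem D10776 : act 5 n7753 = n10776 := rfl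
theorem F19126 : act 0 n10776 = n10752 := d4_1 D10776 (iv F19122) F19121
theorem F19127 : act 6 n10776 = n10750 := d20_2 D7753 D10776 F19097 D10772 F19122 (iv D10752) F11504
def n10777 : Q := act 0 n7754
theorem D10777 : act 0 n7754 = n10777 := rfl
def n10778 : Q := act 2 n7754
theorem D10778 : act 2 n7754 = n10778 := rfl
theorem F19128 : act 1 n10778 = n7765 := d6_1 D10778 (iv D7765) (iv D3718) (iv F5697) D7754
def n10779 : Q := act 5 n7754
theorem D10779 : act 5 n7754 = n10779 := rfl
theorem F19129 : act 1 n10779 = n10698 := d9_1 D10779 (iv D10698) (iv D7623) (iv F5698) D7754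
def n10780 : Q := act 1 n7755
theorem D10780 : act 1 n7755 = n10780 := rfl
def n10781 : Q := act 2 n7755
theorem D10781 : act 2 n7755 = n10781 := rfl
theorem F19130 : act 0 n10781 = n7756 := d1_1 D10781 (iv D7756) D7755
def n10782 : Q := act 5 n7755
theorem D10782 : act 5 n7755 = n10782 := rfl
theorem F19131 : act 0 n10782 = n7757 := d4_1 D10782 (iv D7757) D7755
theorem F19132 : act 6 n10782 = n10756 := d22_1 D10782 (iv D10756) F11507 D7755
def n10783 : Q := act 3 n7756
theorem D10783 : act 3 n7756 = n10783 := rfl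
theorem F19133 : act 1 n10783 = n7769 := d7_1 D10783 (iv D7769) (iv F11523)
def n10784 : Q := act 5 n7756
theorem D10784 : act 5 n7756 = n10784 := rfl
theorem F19134 : act 2 n10784 = n7757 := d13_1 D10784 (iv D7757) D7756
def n10785 : Q := act 1 n7757
theorem D10785 : act 1 n7757 = n10785 := rfl
theorem F19135 : act 5 n10785 = n7758 := d9_2 D7757 D10785 (iv D7758) (iv D3714) D3713
def n10786 : Q := act 6 n7757
theorem D10786 : act 6 n7757 = n10786 := rfl
theorem F19136 : act 0 n10786 = n10756 := d5_1 D10786 (iv F19132) F19131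
theorem F19137 : act 5 n10786 = n10754 := d20_1 D10786 F19100 D10782 F19132 (iv D10756) F11507 D7757
def n10787 : Q := act 0 n7758
theorem D10787 : act 0 n7758 = n10787 := rfl
def n10788 : Q := act 2 n7758
theorem D10788 : act 2 n7758 = n10788 := rfl
theorem F19138 : act 1 n10788 = n7773 := d6_1 D10788 (iv D7773) (iv D3722) (iv F5700) D7758
def n10789 : Q := act 6 n7758
theorem D10789 : act 6 n7758 = n10789 := rfl
theorem F19139 : act 1 n10789 = n10695 := d10_1 D10789 (iv D10695) (iv D7622) (iv F5701) D7758
def n10790 : Q := act 1 n7760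
theorem D10790 : act 1 n7760 = n10790 := rfl
theorem F19140 : act 2 n10790 = n10790 := d6_2 D7760 D10790 (iv D10790) (iv D7760) F15034
def n10791 : Q := act 3 n7760
theorem D10791 : act 3 n7760 = n10791 := rfl
theorem F19141 : act 0 n10791 = n7761 := d2_1 D10791 (iv D7761) (iv F11525)
theorem F19142 : act 5 n10791 = n8226 := d16_2 (iv F11526) D10791 (iv D8226)
def n10792 : Q := act 2 n7761
theorem D10792 : act 2 n7761 = n10792 := rfl
theorem F19143 : act 5 n10792 = n8229 := d13_2 (iv F11527) D10792 (iv D8229)
def n10793 : Q := act 4 n7761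
theorem D10793 : act 4 n7761 = n10793 := rfl
theorem F19144 : act 5 n10793 = n8230 := d18_2 (iv F11527) D10793 (iv D8230)
def n10794 : Q := act 6 n7761
theorem D10794 : act 6 n7761 = n10794 := rfl
theorem F19145 : act 3 n10794 = n7762 := d17_1 D10794 (iv D7762) D7761
def n10795 : Q := act 1 n7762
theorem D10795 : act 1 n7762 = n10795 := rfl
def n10796 : Q := act 3 n7765
theorem D10796 : act 3 n7765 = n10796 := rfl
theorem F19146 : act 0 n10796 = n8254 := d2_1 D10796 F12260 (iv F17170)
theorem F19147 : act 5 n10796 = n8249 := d16_2 (iv F17171) D10796 (iv D8249)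
def n10797 : Q := act 1 n7768
theorem D10797 : act 1 n7768 = n10797 := rfl
theorem F19148 : act 2 n10797 = n10797 := d6_2 D7768 D10797 (iv D10797) (iv D7768) F16901
def n10798 : Q := act 3 n7768
theorem D10798 : act 3 n7768 = n10798 := rfl
theorem F19149 : act 0 n10798 = n7769 := d2_1 D10798 (iv D7769) (iv F11535)
theorem F19150 : act 6 n10798 = n8249 := d17_2 (iv F11536) D10798 (iv D8249)
def n10799 : Q := act 2 n7769
theorem D10799 : act 2 n7769 = n10799 := rfl
theorem F19151 : act 6 n10799 = n8252 := d14_2 (iv F11537) D10799 (iv D8252)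
def n10800 : Q := act 4 n7769
theorem D10800 : act 4 n7769 = n10800 := rfl
theorem F19152 : act 6 n10800 = n8253 := d19_2 (iv F11537) D10800 (iv D8253)
def n10801 : Q := act 5 n7769
theorem D10801 : act 5 n7769 = n10801 := rfl
theorem F19153 : act 3 n10801 = n7770 := d16_1 D10801 (iv D7770) D7769
theorem F19154 : act 6 n10801 = n10796 := d22_1 D10801 F19147 (iv F19150) F19149
def n10802 : Q := act 1 n7770
theorem D10802 : act 1 n7770 = n10802 := rfl
theorem F19155 : act 2 n10802 = n10795 := d6_2 (iv F11538) D10802 (iv D10795) F11528 F17064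
def n10803 : Q := act 3 n7773
theorem D10803 : act 3 n7773 = n10803 := rfl
theorem F19156 : act 0 n10803 = n8231 := d2_1 D10803 F12234 (iv F17154)
theorem F19157 : act 5 n10803 = n10794 := d16_2 (iv F17155) D10803 F19145
theorem F19158 : act 6 n10803 = n8226 := d17_2 (iv F17156) D10803 (iv D8226)
def n10804 : Q := act 3 n7779
theorem D10804 : act 3 n7779 = n10804 := rfl
theorem F19159 : act 0 n10804 = n10804 := d2_1 D10804 (iv D10804) F11551
theorem F19160 : act 1 n10804 = n7780 := d7_1 D10804 (iv D7780) D7779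
theorem F19161 : act 5 n10804 = n10804 := d16_2 F16332 D10804 (iv D10804)
def n10805 : Q := act 6 n7779
theorem D10805 : act 6 n7779 = n10805 := rfl
theorem F19162 : act 0 n10805 = n10805 := d5_1 D10805 (iv D10805) F11551
theorem F19163 : act 2 n10805 = n10805 := d14_1 D10805 (iv D10805) F16333
theorem F19164 : act 4 n10805 = n7822 := d19_1 D10805 (iv D7822) (iv F11552)
theorem F19165 : act 5 n10805 = n10805 := d22_2 F16332 D10805 (iv D10805) F11551
def n10806 : Q := act 2 n7780
theorem D10806 : act 2 n7780 = n10806 := rfl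
theorem F19166 : act 0 n10806 = n7781 := d1_1 D10806 (iv D7781) (iv F11553)
theorem F19167 : act 5 n10806 = n8275 := d13_2 (iv F11554) D10806 (iv D8275)
theorem F19168 : act 3 n10806 = n10792 := d21_1 D10806 (iv D10792) (iv D7761) (iv D3716) F2906 D1797 D3725 (iv F11553)
def n10807 : Q := act 4 n7780
theorem D10807 : act 4 n7780 = n10807 := rfl
theorem F19169 : act 0 n10807 = n7782 := d3_1 D10807 (iv D7782) (iv F11553)
theorem F19170 : act 3 n10807 = n7824 := d15_1 D10807 (iv D7824) (iv D3744) (iv F5714) D7780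
theorem F19171 : act 5 n10807 = n8276 := d18_2 (iv F11554) D10807 (iv D8276)
def n10808 : Q := act 1 n7781
theorem D10808 : act 1 n7781 = n10808 := rfl
theorem F19172 : act 2 n10808 = n9149 := d6_2 D7781 D10808 (iv D9149) (iv D4422) (iv F5716)
def n10809 : Q := act 3 n7781
theorem D10809 : act 3 n7781 = n10809 := rfl
theorem F19173 : act 0 n10809 = n10792 := d2_1 D10809 (iv F19168) F19166
theorem F19174 : act 2 n10809 = n10791 := d11_1 D10809 (iv D10791) (iv D7760) F5702 D3724 D7780 D10806 F19168 (iv D10792) (iv D7761) (iv D3716) F2906 D1797 D3725 D7781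
theorem F19175 : act 5 n10809 = n8283 := d16_2 (iv F11555) D10809 (iv D8283)
def n10810 : Q := act 4 n7781
theorem D10810 : act 4 n7781 = n10810 := rfl
theorem F19176 : act 2 n10810 = n7782 := d12_1 D10810 (iv D7782) D7781
theorem F19177 : act 5 n10810 = n8284 := d18_2 (iv F11555) D10810 (iv D8284)
def n10811 : Q := act 6 n7781
theorem D10811 : act 6 n7781 = n10811 := rfl
theorem F19178 : act 2 n10811 = n7783 := d14_1 D10811 (iv D7783) D7781
def n10812 : Q := act 6 n7782
theorem D10812 : act 6 n7782 = n10812 := rfl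
theorem F19180 : act 4 n10812 = n7783 := d19_1 D10812 (iv D7783) D7782
def n10813 : Q := act 2 n7791
theorem D10813 : act 2 n7791 = n10813 := rfl
theorem F19181 : act 0 n10813 = n8328 := d1_1 D10813 F12393 (iv F16948)
theorem F19182 : act 5 n10813 = n8321 := d13_2 (iv F16949) D10813 (iv D8321)
def n10814 : Q := act 4 n7791
theorem D10814 : act 4 n7791 = n10814 := rfl
theorem F19183 : act 0 n10814 = n8329 := d3_1 D10814 F12395 (iv F16948)
theorem F19185 : act 3 n10814 = n7845 := d15_1 D10814 (iv D7845) (iv D3755) (iv F5724) D7791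
theorem F19186 : act 5 n10814 = n8322 := d18_2 (iv F16949) D10814 (iv D8322)
def n10815 : Q := act 3 n7798
theorem D10815 : act 3 n7798 = n10815 := rfl
theorem F19187 : act 0 n10815 = n10815 := d2_1 D10815 (iv D10815) F16137
theorem F19188 : act 1 n10815 = n7799 := d7_1 D10815 (iv D7799) D7798
theorem F19189 : act 6 n10815 = n10815 := d17_2 F17493 D10815 (iv D10815)
def n10816 : Q := act 5 n7798
theorem D10816 : act 5 n7798 = n10816 := rfl
theorem F19190 : act 0 n10816 = n10816 := d4_1 D10816 (iv D10816) F16137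
theorem F19191 : act 2 n10816 = n10816 := d13_1 D10816 (iv D10816) F17492
theorem F19192 : act 4 n10816 = n7860 := d18_1 D10816 (iv D7860) (iv F11586)
theorem F19193 : act 6 n10816 = n10816 := d22_1 D10816 (iv D10816) F17493 F16137
def n10817 : Q := act 2 n7799
theorem D10817 : act 2 n7799 = n10817 := rfl
theorem F19194 : act 0 n10817 = n7800 := d1_1 D10817 (iv D7800) (iv F11587)
theorem F19195 : act 6 n10817 = n8321 := d14_2 (iv F11588) D10817 (iv D8321)
theorem F19196 : act 3 n10817 = n10799 := d21_1 D10817 (iv D10799) (iv D7769) (iv D3720) F2910 D1801 D3733 (iv F11587)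
def n10818 : Q := act 4 n7799
theorem D10818 : act 4 n7799 = n10818 := rfl
theorem F19197 : act 0 n10818 = n7801 := d3_1 D10818 (iv D7801) (iv F11587)
theorem F19198 : act 3 n10818 = n7862 := d15_1 D10818 (iv D7862) (iv D3763) (iv F5729) D7799
theorem F19199 : act 6 n10818 = n8322 := d19_2 (iv F11588) D10818 (iv D8322)
def n10819 : Q := act 1 n7800
theorem D10819 : act 1 n7800 = n10819 := rfl
theorem F19200 : act 2 n10819 = n9179 := d6_2 D7800 D10819 (iv D9179) (iv D4439) (iv F5731)
def n10820 : Q := act 3 n7800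
theorem D10820 : act 3 n7800 = n10820 := rfl
theorem F19201 : act 0 n10820 = n10799 := d2_1 D10820 (iv F19196) F19194
theorem F19202 : act 2 n10820 = n10798 := d11_1 D10820 (iv D10798) (iv D7768) F5707 D3732 D7799 D10817 F19196 (iv D10799) (iv D7769) (iv D3720) F2910 D1801 D3733 D7800
theorem F19203 : act 6 n10820 = n8326 := d17_2 (iv F11589) D10820 (iv D8326)
def n10821 : Q := act 4 n7800
theorem D10821 : act 4 n7800 = n10821 := rfl
theorem F19204 : act 2 n10821 = n7801 := d12_1 D10821 (iv D7801) D7800
theorem F19205 : act 6 n10821 = n8327 := d19_2 (iv F11589) D10821 (iv D8327)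
def n10822 : Q := act 5 n7800
theorem D10822 : act 5 n7800 = n10822 := rfl
theorem F19206 : act 2 n10822 = n7802 := d13_1 D10822 (iv D7802) D7800
theorem F19207 : act 6 n10822 = n10813 := d22_1 D10822 F19182 (iv F19195) F19194
def n10823 : Q := act 5 n7801
theorem D10823 : act 5 n7801 = n10823 := rfl
theorem F19208 : act 3 n10823 = n7867 := d16_1 D10823 (iv D7867) (iv F11591)
theorem F19209 : act 4 n10823 = n7802 := d18_1 D10823 (iv D7802) D7801
theorem F19210 : act 6 n10823 = n10814 := d22_1 D10823 F19186 (iv F19199) F19197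
def n10824 : Q := act 2 n7810
theorem D10824 : act 2 n7810 = n10824 := rfl
theorem F19211 : act 0 n10824 = n8285 := d1_1 D10824 F12312 (iv F17088)
theorem F19212 : act 5 n10824 = n10811 := d13_2 (iv F17089) D10824 F19178
theorem F19213 : act 6 n10824 = n8275 := d14_2 (iv F17090) D10824 (iv D8275)
def n10825 : Q := act 4 n7810
theorem D10825 : act 4 n7810 = n10825 := rfl
theorem F19214 : act 0 n10825 = n8286 := d3_1 D10825 F12314 (iv F17088)
theorem F19215 : act 1 n10825 = n9195 := d8_1 D10825 (iv D9195) (iv F11613)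
theorem F19216 : act 3 n10825 = n7879 := d15_1 D10825 (iv D7879) (iv D3774) (iv F5739) D7810
theorem F19217 : act 5 n10825 = n10812 := d18_2 (iv F17089) D10825 F19180
theorem F19218 : act 6 n10825 = n8276 := d19_2 (iv F17090) D10825 (iv D8276)
def n10826 : Q := act 4 n7821
theorem D10826 : act 4 n7821 = n10826 := rfl
theorem F19220 : act 1 n10826 = n7824 := d8_1 D10826 (iv D7824) (iv F11637)
def n10827 : Q := act 6 n7821
theorem D10827 : act 6 n7821 = n10827 := rfl
theorem F19225 : act 3 n10827 = n7822 := d17_1 D10827 (iv D7822) D7821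
def n10828 : Q := act 4 n7859
theorem D10828 : act 4 n7859 = n10828 := rfl
theorem F19228 : act 1 n10828 = n7862 := d8_1 D10828 (iv D7862) (iv F11723)
def n10830 : Q := act 0 n7995
theorem D10830 : act 0 n7995 = n10830 := rfl
theorem F19235 : act 4 n10830 = n8187 := d3_2 (iv F11933) D10830 (iv D8187)
theorem F19236 : act 2 n7995 = n10830 := d12_3 F19235 F19074 (iv F11933)
def n10831 : Q := act 3 n7995
theorem D10831 : act 3 n7995 = n10831 := rfl
theorem F19237 : act 1 n10831 = n7996 := d7_1 D10831 (iv D7996) D7995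
theorem F19238 : act 2 n9957 = n10831 := d6_0 F19237 F17701 F7818 D5145 D9957
def n10832 : Q := act 5 n7995
theorem D10832 : act 5 n7995 = n10832 := rfl
theorem F19239 : act 4 n10832 = n8189 := d18_1 D10832 (iv D8189) (iv F11933)
def n10833 : Q := act 6 n7995
theorem D10833 : act 6 n7995 = n10833 := rfl
theorem F19240 : act 4 n10833 = n8190 := d19_1 D10833 (iv D8190) (iv F11933)
def n10834 : Q := act 5 n7996
theorem D10834 : act 5 n7996 = n10834 := rfl
theorem F19241 : act 0 n10834 = n8000 := d4_1 D10834 (iv D8000) (iv F11934)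
theorem F19242 : act 2 n10834 = n9951 := d13_1 D10834 (iv D9951) (iv F17701)
theorem F19243 : act 3 n10834 = n7997 := d16_1 D10834 (iv D7997) D7996
def n10835 : Q := act 6 n7996
theorem D10835 : act 6 n7996 = n10835 := rfl
theorem F19244 : act 0 n10835 = n8001 := d5_1 D10835 (iv D8001) (iv F11934)
theorem F19245 : act 2 n10835 = n9952 := d14_1 D10835 (iv D9952) (iv F17701)
theorem F19246 : act 3 n10835 = n7998 := d17_1 D10835 (iv D7998) D7996
def n10836 : Q := act 1 n7997
theorem D10836 : act 1 n7997 = n10836 := rfl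
theorem F19247 : act 4 n10836 = n8191 := d8_2 (iv F11936) D10836 (iv D8191)
def n10837 : Q := act 1 n7998
theorem D10837 : act 1 n7998 = n10837 := rfl
theorem F19248 : act 4 n10837 = n8192 := d8_2 (iv F11938) D10837 (iv D8192)
def n10838 : Q := act 5 n7999
theorem D10838 : act 5 n7999 = n10838 := rfl
theorem F19249 : act 0 n10838 = n9951 := d4_1 D10838 (iv D9951) (iv F17702)
theorem F19250 : act 2 n10838 = n8000 := d13_1 D10838 (iv D8000) D7999
theorem F19251 : act 3 n10838 = n9945 := d16_1 D10838 (iv D9945) (iv F17703)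
def n10839 : Q := act 6 n7999
theorem D10839 : act 6 n7999 = n10839 := rfl
theorem F19252 : act 0 n10839 = n9952 := d5_1 D10839 (iv D9952) (iv F17702)
theorem F19253 : act 2 n10839 = n8001 := d14_1 D10839 (iv D8001) D7999
theorem F19254 : act 3 n10839 = n9946 := d17_1 D10839 (iv D9946) (iv F17703)
def n10840 : Q := act 1 n8000
theorem D10840 : act 1 n8000 = n10840 := rfl
theorem F19255 : act 3 n10840 = n8002 := d7_2 (iv F11939) D10840 (iv D8002)
theorem F19256 : act 5 n10840 = n8006 := d9_2 D8000 D10840 (iv D8006) (iv D3830) (iv F5863)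
def n10841 : Q := act 6 n8000
theorem D10841 : act 6 n8000 = n10841 := rfl
theorem F19257 : act 3 n10841 = n8003 := d17_1 D10841 (iv D8003) (iv F11939)
theorem F19258 : act 5 n10841 = n10835 := d22_2 D8000 D10841 (iv D10835) F11934
def n10842 : Q := act 1 n8001
theorem D10842 : act 1 n8001 = n10842 := rfl
theorem F19259 : act 3 n10842 = n8004 := d7_2 (iv F11940) D10842 (iv D8004)
theorem F19260 : act 6 n10842 = n8008 := d10_2 D8001 D10842 (iv D8008) (iv D3831) (iv F5863)
def n10843 : Q := act 5 n8001
theorem D10843 : act 5 n8001 = n10843 := rfl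
theorem F19261 : act 0 n10843 = n10841 := d4_1 D10843 F19258 F19244
theorem F19262 : act 3 n10843 = n8005 := d16_1 D10843 (iv D8005) (iv F11940)
theorem F19263 : act 6 n10843 = n10834 := d20_2 D8001 D10843 (iv D10834) D10835 (iv F19258) (iv D10841) (iv D8000)
def n10844 : Q := act 0 n8002
theorem D10844 : act 0 n8002 = n10844 := rfl
theorem F19264 : act 4 n10844 = n8193 := d3_2 (iv F11941) D10844 (iv D8193)
theorem F19265 : act 5 n10844 = n8010 := d4_2 (iv F11942) D10844 (iv D8010)
def n10845 : Q := act 2 n8002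
theorem D10845 : act 2 n8002 = n10845 := rfl
theorem F19266 : act 4 n10845 = n8194 := d12_2 (iv F11941) D10845 (iv D8194)
theorem F19267 : act 5 n10845 = n8011 := d13_2 (iv F11942) D10845 (iv D8011)
def n10846 : Q := act 6 n8002
theorem D10846 : act 6 n8002 = n10846 := rfl
theorem F19268 : act 4 n10846 = n8195 := d19_1 D10846 (iv D8195) (iv F11941)
def n10847 : Q := act 1 n8003
theorem D10847 : act 1 n8003 = n10847 := rfl
theorem F19269 : act 4 n10847 = n8196 := d8_2 (iv F11943) D10847 (iv D8196)
def n10848 : Q := act 0 n8004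
theorem D10848 : act 0 n8004 = n10848 := rfl
theorem F19270 : act 4 n10848 = n8197 := d3_2 (iv F11945) D10848 (iv D8197)
theorem F19271 : act 6 n10848 = n8014 := d5_2 (iv F11946) D10848 (iv D8014)
def n10849 : Q := act 2 n8004
theorem D10849 : act 2 n8004 = n10849 := rfl
theorem F19272 : act 4 n10849 = n8198 := d12_2 (iv F11945) D10849 (iv D8198)
theorem F19273 : act 6 n10849 = n8015 := d14_2 (iv F11946) D10849 (iv D8015)
def n10850 : Q := act 5 n8004
theorem D10850 : act 5 n8004 = n10850 := rfl
theorem F19274 : act 4 n10850 = n8199 := d18_1 D10850 (iv D8199) (iv F11945)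
def n10851 : Q := act 1 n8005
theorem D10851 : act 1 n8005 = n10851 := rfl
theorem F19275 : act 4 n10851 = n8200 := d8_2 (iv F11948) D10851 (iv D8200)
def n10852 : Q := act 0 n8006
theorem D10852 : act 0 n8006 = n10852 := rfl
theorem F19276 : act 3 n10852 = n8010 := d2_2 (iv F11950) D10852 (iv D8010)
def n10853 : Q := act 2 n8006
theorem D10853 : act 2 n8006 = n10853 := rfl
def n10854 : Q := act 6 n8006
theorem D10854 : act 6 n8006 = n10854 := rfl
theorem F19277 : act 3 n10854 = n8012 := d17_1 D10854 (iv D8012) (iv F11950)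
def n10855 : Q := act 1 n8007
theorem D10855 : act 1 n8007 = n10855 := rfl
theorem F19278 : act 3 n10855 = n8013 := d7_2 (iv F11951) D10855 (iv D8013)
def n10856 : Q := act 0 n8008
theorem D10856 : act 0 n8008 = n10856 := rfl
theorem F19279 : act 3 n10856 = n8014 := d2_2 (iv F11953) D10856 (iv D8014)
def n10857 : Q := act 2 n8008
theorem D10857 : act 2 n8008 = n10857 := rfl
def n10858 : Q := act 5 n8008
theorem D10858 : act 5 n8008 = n10858 := rfl
theorem F19280 : act 3 n10858 = n8016 := d16_1 D10858 (iv D8016) (iv F11953)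
def n10859 : Q := act 1 n8009
theorem D10859 : act 1 n8009 = n10859 := rfl
theorem F19281 : act 3 n10859 = n8017 := d7_2 (iv F11955) D10859 (iv D8017)
theorem F19282 : act 4 n10859 = n10855 := d8_2 (iv F11956) D10859 (iv D10855)
def n10860 : Q := act 1 n8010
theorem D10860 : act 1 n8010 = n10860 := rfl
theorem F19283 : act 4 n10860 = n8201 := d8_2 (iv F11958) D10860 (iv D8201)
def n10861 : Q := act 2 n8010
theorem D10861 : act 2 n8010 = n10861 := rfl
theorem F19284 : act 0 n10861 = n8011 := d1_1 D10861 (iv D8011) D8010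
theorem F19285 : act 4 n10861 = n8202 := d12_2 (iv F11958) D10861 (iv D8202)
def n10862 : Q := act 6 n8010
theorem D10862 : act 6 n8010 = n10862 := rfl
theorem F19286 : act 0 n10862 = n8012 := d5_1 D10862 (iv D8012) D8010
theorem F19287 : act 4 n10862 = n8203 := d19_1 D10862 (iv D8203) (iv F11958)
theorem F19288 : act 5 n10862 = n10846 := d22_2 F19265 D10862 (iv D10846) D10844
def n10863 : Q := act 3 n8011
theorem D10863 : act 3 n8011 = n10863 := rfl
theorem F19289 : act 1 n10863 = n8021 := d7_1 D10863 (iv D8021) (iv F11959)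
def n10864 : Q := act 6 n8011
theorem D10864 : act 6 n8011 = n10864 := rfl
theorem F19290 : act 2 n10864 = n8012 := d14_1 D10864 (iv D8012) D8011
theorem F19291 : act 4 n10864 = n8205 := d19_1 D10864 (iv D8205) (iv F11960)
def n10865 : Q := act 1 n8012
theorem D10865 : act 1 n8012 = n10865 := rfl
theorem F19292 : act 4 n10865 = n8206 := d8_2 (iv F11961) D10865 (iv D8206)
theorem F19293 : act 6 n10865 = n8013 := d10_2 D8012 D10865 (iv D8013) (iv D3833) D3832
def n10866 : Q := act 5 n8012
theorem D10866 : act 5 n8012 = n10866 := rfl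
theorem F19294 : act 0 n10866 = n10846 := d4_1 D10866 (iv F19288) F19286
theorem F19295 : act 4 n10866 = n8207 := d18_1 D10866 (iv D8207) (iv F11961)
theorem F19296 : act 6 n10866 = n10844 := d20_2 D8012 D10866 F19265 D10862 F19288 (iv D10846) F11942
def n10867 : Q := act 0 n8013
theorem D10867 : act 0 n8013 = n10867 := rfl
theorem F19297 : act 4 n10867 = n8208 := d3_2 (iv F11962) D10867 (iv D8208)
def n10868 : Q := act 2 n8013
theorem D10868 : act 2 n8013 = n10868 := rfl
theorem F19298 : act 1 n10868 = n8026 := d6_1 D10868 (iv D8026) (iv D3839) (iv F5869) D8013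
theorem F19299 : act 4 n10868 = n8209 := d12_2 (iv F11962) D10868 (iv D8209)
def n10869 : Q := act 5 n8013
theorem D10869 : act 5 n8013 = n10869 := rfl
theorem F19300 : act 1 n10869 = n10661 := d9_1 D10869 (iv D10661) (iv D6810) (iv F5871) D8013
theorem F19301 : act 4 n10869 = n8210 := d18_1 D10869 (iv D8210) (iv F11962)
def n10870 : Q := act 1 n8014
theorem D10870 : act 1 n8014 = n10870 := rfl
theorem F19302 : act 4 n10870 = n8211 := d8_2 (iv F11963) D10870 (iv D8211)
def n10871 : Q := act 2 n8014
theorem D10871 : act 2 n8014 = n10871 := rfl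
theorem F19303 : act 0 n10871 = n8015 := d1_1 D10871 (iv D8015) D8014
theorem F19304 : act 4 n10871 = n8212 := d12_2 (iv F11963) D10871 (iv D8212)
def n10872 : Q := act 5 n8014
theorem D10872 : act 5 n8014 = n10872 := rfl
theorem F19305 : act 0 n10872 = n8016 := d4_1 D10872 (iv D8016) D8014
theorem F19306 : act 4 n10872 = n8213 := d18_1 D10872 (iv D8213) (iv F11963)
theorem F19307 : act 6 n10872 = n10850 := d22_1 D10872 (iv D10850) F11946 D8014
def n10873 : Q := act 3 n8015
theorem D10873 : act 3 n8015 = n10873 := rfl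
theorem F19308 : act 1 n10873 = n8031 := d7_1 D10873 (iv D8031) (iv F11964)
def n10874 : Q := act 5 n8015
theorem D10874 : act 5 n8015 = n10874 := rfl
theorem F19309 : act 2 n10874 = n8016 := d13_1 D10874 (iv D8016) D8015
theorem F19310 : act 4 n10874 = n8215 := d18_1 D10874 (iv D8215) (iv F11965)
def n10875 : Q := act 1 n8016
theorem D10875 : act 1 n8016 = n10875 := rfl
theorem F19311 : act 4 n10875 = n8216 := d8_2 (iv F11966) D10875 (iv D8216)
theorem F19312 : act 5 n10875 = n8017 := d9_2 D8016 D10875 (iv D8017) (iv D3835) D3834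
def n10876 : Q := act 6 n8016
theorem D10876 : act 6 n8016 = n10876 := rfl
theorem F19313 : act 0 n10876 = n10850 := d5_1 D10876 (iv F19307) F19305
theorem F19314 : act 4 n10876 = n8217 := d19_1 D10876 (iv D8217) (iv F11966)
theorem F19315 : act 5 n10876 = n10848 := d20_1 D10876 F19271 D10872 F19307 (iv D10850) F11946 D8016
def n10877 : Q := act 0 n8017
theorem D10877 : act 0 n8017 = n10877 := rfl
theorem F19316 : act 4 n10877 = n8218 := d3_2 (iv F11967) D10877 (iv D8218)
def n10878 : Q := act 2 n8017
theorem D10878 : act 2 n8017 = n10878 := rfl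
theorem F19317 : act 1 n10878 = n8036 := d6_1 D10878 (iv D8036) (iv D3843) (iv F5874) D8017
theorem F19318 : act 4 n10878 = n8219 := d12_2 (iv F11967) D10878 (iv D8219)
def n10879 : Q := act 6 n8017
theorem D10879 : act 6 n8017 = n10879 := rfl
theorem F19319 : act 1 n10879 = n10659 := d10_1 D10879 (iv D10659) (iv D6809) (iv F5876) D8017
theorem F19320 : act 4 n10879 = n8220 := d19_1 D10879 (iv D8220) (iv F11967)
def n10880 : Q := act 2 n8018
theorem D10880 : act 2 n8018 = n10880 := rfl
theorem F19321 : act 0 n10880 = n10880 := d1_1 D10880 (iv D10880) F16160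
theorem F19322 : act 4 n10880 = n8222 := d12_2 (iv F11969) D10880 (iv D8222)
theorem F19323 : act 5 n10880 = n10880 := d13_2 F16230 D10880 (iv D10880)
theorem F19324 : act 6 n10880 = n10684 := d14_2 F17231 D10880 (iv D10684)
def n10881 : Q := act 1 n8019
theorem D10881 : act 1 n8019 = n10881 := rfl
theorem F19325 : act 4 n10881 = n8225 := d8_2 (iv F11971) D10881 (iv D8225)
def n10882 : Q := act 3 n8019
theorem D10882 : act 3 n8019 = n10882 := rfl
theorem F19326 : act 0 n10882 = n8021 := d2_1 D10882 (iv D8021) (iv F11970)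
def n10883 : Q := act 4 n8021
theorem D10883 : act 4 n8021 = n10883 := rfl
theorem F19327 : act 3 n10883 = n8230 := d15_1 D10883 (iv D8230) (iv D3928) (iv F5879) D8021
def n10884 : Q := act 6 n8021
theorem D10884 : act 6 n8021 = n10884 := rfl
theorem F19328 : act 3 n10884 = n8022 := d17_1 D10884 (iv D8022) D8021
def n10885 : Q := act 1 n8022
theorem D10885 : act 1 n8022 = n10885 := rfl
theorem F19329 : act 4 n10885 = n8232 := d8_2 (iv F11977) D10885 (iv D8232)
def n10886 : Q := act 5 n8022
theorem D10886 : act 5 n8022 = n10886 := rfl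
theorem F19330 : act 0 n10886 = n10724 := d4_1 D10886 (iv F19064) F19062
theorem F19331 : act 2 n10886 = n8024 := d13_1 D10886 (iv D8024) (iv F11976)
theorem F19332 : act 4 n10886 = n8233 := d18_1 D10886 (iv D8233) (iv F11977)
theorem F19333 : act 6 n10886 = n8046 := d20_2 D8022 D10886 F16325 (iv F19065) F19064 (iv D10724) F11409
def n10887 : Q := act 0 n8023
theorem D10887 : act 0 n8023 = n10887 := rfl
theorem F19334 : act 3 n10887 = n8051 := d2_2 (iv F11978) D10887 (iv D8051)
theorem F19335 : act 4 n10887 = n8234 := d3_2 (iv F11979) D10887 (iv D8234)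
theorem F19336 : act 6 n10887 = n8025 := d5_2 (iv F11980) D10887 (iv D8025)
theorem F19337 : act 5 n10887 = n8023 := d22_0 F11980 F17161 (iv F11980) D10887
def n10888 : Q := act 2 n8023
theorem D10888 : act 2 n8023 = n10888 := rfl
theorem F19338 : act 4 n10888 = n8235 := d12_2 (iv F11979) D10888 (iv D8235)
theorem F19339 : act 6 n10888 = n8026 := d14_2 (iv F11980) D10888 (iv D8026)
def n10889 : Q := act 2 n8025
theorem D10889 : act 2 n8025 = n10889 := rfl
theorem F19340 : act 0 n10889 = n8026 := d1_1 D10889 (iv D8026) D8025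
theorem F19341 : act 4 n10889 = n8239 := d12_2 (iv F11986) D10889 (iv D8239)
theorem F19342 : act 5 n10889 = n10889 := d13_2 F17248 D10889 (iv D10889)
def n10890 : Q := act 3 n8026
theorem D10890 : act 3 n8026 = n10890 := rfl
theorem F19343 : act 5 n10890 = n10890 := d16_2 F17249 D10890 (iv D10890)
def n10891 : Q := act 2 n8028
theorem D10891 : act 2 n8028 = n10891 := rfl
theorem F19344 : act 0 n10891 = n10891 := d1_1 D10891 (iv D10891) F17229
theorem F19345 : act 4 n10891 = n8245 := d12_2 (iv F11992) D10891 (iv D8245)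
theorem F19346 : act 5 n10891 = n10685 := d13_2 (iv F17238) D10891 (iv D10685)
theorem F19347 : act 6 n10891 = n10891 := d14_2 F17239 D10891 (iv D10891)
def n10892 : Q := act 1 n8029
theorem D10892 : act 1 n8029 = n10892 := rfl
theorem F19348 : act 4 n10892 = n8248 := d8_2 (iv F11994) D10892 (iv D8248)
def n10893 : Q := act 3 n8029
theorem D10893 : act 3 n8029 = n10893 := rfl
theorem F19349 : act 0 n10893 = n8031 := d2_1 D10893 (iv D8031) (iv F11993)
def n10894 : Q := act 4 n8031
theorem D10894 : act 4 n8031 = n10894 := rfl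
theorem F19350 : act 3 n10894 = n8253 := d15_1 D10894 (iv D8253) (iv D3938) (iv F5886) D8031
def n10895 : Q := act 5 n8031
theorem D10895 : act 5 n8031 = n10895 := rfl
theorem F19351 : act 3 n10895 = n8032 := d16_1 D10895 (iv D8032) D8031
def n10896 : Q := act 1 n8032
theorem D10896 : act 1 n8032 = n10896 := rfl
theorem F19352 : act 4 n10896 = n8255 := d8_2 (iv F12000) D10896 (iv D8255)
def n10897 : Q := act 6 n8032
theorem D10897 : act 6 n8032 = n10897 := rfl
theorem F19353 : act 0 n10897 = n10727 := d5_1 D10897 F19061 F19054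
theorem F19354 : act 2 n10897 = n8034 := d14_1 D10897 (iv D8034) (iv F11999)
theorem F19355 : act 4 n10897 = n8256 := d19_1 D10897 (iv D8256) (iv F12000)
theorem F19356 : act 5 n10897 = n8069 := d20_1 D10897 F17458 (iv F19056) (iv F19061) (iv D10727) F11418 D8032
def n10898 : Q := act 0 n8033
theorem D10898 : act 0 n8033 = n10898 := rfl
theorem F19357 : act 1 n10898 = n10887 := d0_2 D8033 D10898 (iv D10887) (iv D8023) (iv F17146) (iv D7678) F5654 D7674 F17173
theorem F19358 : act 3 n10898 = n8074 := d2_2 (iv F12001) D10898 (iv D8074)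
theorem F19359 : act 4 n10898 = n8257 := d3_2 (iv F12002) D10898 (iv D8257)
theorem F19360 : act 5 n10898 = n8035 := d4_2 (iv F12003) D10898 (iv D8035)
theorem F19361 : act 6 n10898 = n8033 := d22_3 F19360 F16221 (iv F19360) D10898
def n10899 : Q := act 2 n8033
theorem D10899 : act 2 n8033 = n10899 := rfl
theorem F19362 : act 4 n10899 = n8258 := d12_2 (iv F12002) D10899 (iv D8258)
theorem F19363 : act 5 n10899 = n8036 := d13_2 (iv F12003) D10899 (iv D8036)
def n10900 : Q := act 2 n8035
theorem D10900 : act 2 n8035 = n10900 := rfl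
theorem F19364 : act 0 n10900 = n8036 := d1_1 D10900 (iv D8036) D8035
theorem F19365 : act 4 n10900 = n8262 := d12_2 (iv F12009) D10900 (iv D8262)
theorem F19366 : act 6 n10900 = n10900 := d14_2 F16221 D10900 (iv D10900)
def n10901 : Q := act 3 n8036
theorem D10901 : act 3 n8036 = n10901 := rfl
theorem F19367 : act 6 n10901 = n10901 := d17_2 F16222 D10901 (iv D10901)
def n10902 : Q := act 1 n8046
theorem D10902 : act 1 n8046 = n10902 := rfl
theorem F19368 : act 2 n10902 = n10902 := d6_2 D8046 D10902 (iv D10902) (iv D8046) F15165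
theorem F19369 : act 4 n10902 = n10790 := d8_2 F16327 D10902 (iv D10790)
def n10903 : Q := act 3 n8046
theorem D10903 : act 3 n8046 = n10903 := rfl
theorem F19370 : act 0 n10903 = n10723 := d2_1 D10903 (iv D10723) F16326
theorem F19371 : act 2 n10903 = n10882 := d11_1 D10903 (iv D10882) (iv D8019) F5877 F14922 (iv F5645) D7672 D10723 F19051 (iv D8021) (iv D3837) F2985 D1851 D3847 D8046
theorem F19372 : act 5 n10903 = n10882 := d16_2 (iv F16325) D10903 (iv D10882)
def n10904 : Q := act 2 n8051
theorem D10904 : act 2 n8051 = n10904 := rfl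
theorem F19373 : act 0 n10904 = n8052 := d1_1 D10904 (iv D8052) D8051
theorem F19374 : act 4 n10904 = n8115 := d12_2 (iv F12032) D10904 (iv D8115)
theorem F19375 : act 5 n10904 = n8052 := d13_2 F17166 D10904 (iv D8052)
theorem F19376 : act 6 n10904 = n8056 := d14_2 (iv F12033) D10904 (iv D8056)
def n10905 : Q := act 3 n8052
theorem D10905 : act 3 n8052 = n10905 := rfl
theorem F19377 : act 6 n10905 = n8058 := d17_2 (iv F12035) D10905 (iv D8058)
def n10906 : Q := act 3 n8056
theorem D10906 : act 3 n8056 = n10906 := rfl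
theorem F19378 : act 0 n10906 = n8058 := d2_1 D10906 (iv D8058) (iv F12039)
theorem F19379 : act 5 n10906 = n10906 := d16_2 F17227 D10906 (iv D10906)
def n10907 : Q := act 2 n8058
theorem D10907 : act 2 n8058 = n10907 := rfl
theorem F19380 : act 5 n10907 = n10907 := d13_2 F17242 D10907 (iv D10907)
def n10909 : Q := act 1 n8069
theorem D10909 : act 1 n8069 = n10909 := rfl
theorem F19384 : act 2 n10909 = n10909 := d6_2 D8069 D10909 (iv D10909) (iv D8069) F15689
theorem F19385 : act 4 n10909 = n10797 := d8_2 F17460 D10909 (iv D10797)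
def n10910 : Q := act 3 n8069
theorem D10910 : act 3 n8069 = n10910 := rfl
theorem F19386 : act 0 n10910 = n10726 := d2_1 D10910 (iv D10726) F17459
theorem F19387 : act 2 n10910 = n10893 := d11_1 D10910 (iv D10893) (iv D8029) F5884 F16781 (iv F5651) D7676 D10726 F19058 (iv D8031) (iv D3841) F2990 D1855 D3857 D8069
theorem F19388 : act 6 n10910 = n10893 := d17_2 (iv F17458) D10910 (iv D10893)
def n10911 : Q := act 2 n8074
theorem D10911 : act 2 n8074 = n10911 := rfl
theorem F19389 : act 0 n10911 = n8075 := d1_1 D10911 (iv D8075) D8074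
theorem F19390 : act 4 n10911 = n8166 := d12_2 (iv F12067) D10911 (iv D8166)
theorem F19391 : act 5 n10911 = n8079 := d13_2 (iv F12068) D10911 (iv D8079)
theorem F19392 : act 6 n10911 = n8075 := d14_2 (iv F15467) D10911 (iv D8075)
def n10912 : Q := act 3 n8075
theorem D10912 : act 3 n8075 = n10912 := rfl
theorem F19393 : act 1 n10912 = n10906 := d7_1 D10912 (iv D10906) (iv F17226)
theorem F19394 : act 5 n10912 = n8081 := d16_2 (iv F12070) D10912 (iv D8081)
def n10913 : Q := act 3 n8079
theorem D10913 : act 3 n8079 = n10913 := rfl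
theorem F19395 : act 0 n10913 = n8081 := d2_1 D10913 (iv D8081) (iv F12074)
theorem F19396 : act 1 n10913 = n10905 := d7_1 D10913 (iv D10905) (iv F17219)
theorem F19397 : act 6 n10913 = n10913 := d17_2 F16214 D10913 (iv D10913)
def n10914 : Q := act 2 n8081
theorem D10914 : act 2 n8081 = n10914 := rfl
theorem F19398 : act 6 n10914 = n10914 := d14_2 F16215 D10914 (iv D10914)
def n10916 : Q := act 1 n8115
theorem D10916 : act 1 n8115 = n10916 := rfl
theorem F19402 : act 0 n10916 = n10916 := d0_1 D10916 (iv D10916) F12117 F17214 F5969 F15566 (iv F5969) (iv F17214) (iv F12117)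
def n10917 : Q := act 3 n8115
theorem D10917 : act 3 n8115 = n10917 := rfl
theorem F19403 : act 0 n10917 = n8116 := d2_1 D10917 (iv D8116) (iv F12117)
def n10918 : Q := act 2 n8116
theorem D10918 : act 2 n8116 = n10918 := rfl
theorem F19406 : act 1 n10918 = n10485 := d6_1 D10918 F18542 F17623 F12696 F17218
theorem F19407 : act 6 n10918 = n8130 := d14_2 (iv F12119) D10918 (iv D8130)
theorem F19408 : act 3 n10918 = n10484 := d21_1 D10918 F18536 (iv D8403) (iv D4022) (iv F5937) D8115 D10917 F19403
def n10919 : Q := act 4 n8116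
theorem D10919 : act 4 n8116 = n10919 := rfl
def n10921 : Q := act 1 n8130
theorem D10921 : act 1 n8130 = n10921 := rfl
def n10923 : Q := act 1 n8166
theorem D10923 : act 1 n8166 = n10923 := rfl
theorem F19415 : act 0 n10923 = n10923 := d0_1 D10923 (iv D10923) F12174 F17038 F5943 F15563 (iv F5943) (iv F17038) (iv F12174)
theorem F19416 : act 2 n10923 = n10916 := d6_2 D8166 D10923 (iv D10916) (iv D8115) (iv F15565)
theorem F19417 : act 5 n10923 = n10916 := d9_2 (iv F12175) D10923 (iv D10916) (iv F17165) F17214
theorem F19418 : act 6 n10923 = n10916 := d10_2 (iv F15466) D10923 (iv D10916) F12118 (iv F17038)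
def n10927 : Q := act 4 n8178
theorem D10927 : act 4 n8178 = n10927 := rfl
def n10930 : Q := act 5 n8187
theorem D10930 : act 5 n8187 = n10930 := rfl
theorem F19434 : act 0 n10930 = n8189 := d4_1 D10930 (iv D8189) D8187
theorem F19435 : act 2 n10930 = n8189 := d13_1 D10930 (iv D8189) (iv F19074)
def n10931 : Q := act 6 n8187
theorem D10931 : act 6 n8187 = n10931 := rfl
theorem F19436 : act 0 n10931 = n8190 := d5_1 D10931 (iv D8190) D8187
theorem F19437 : act 2 n10931 = n8190 := d14_1 D10931 (iv D8190) (iv F19074)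
def n10932 : Q := act 1 n8189
theorem D10932 : act 1 n8189 = n10932 := rfl
theorem F19438 : act 5 n10932 = n8191 := d9_2 D8189 D10932 (iv D8191) (iv D3911) D3910
def n10933 : Q := act 6 n8189
theorem D10933 : act 6 n8189 = n10933 := rfl
theorem F19439 : act 5 n10933 = n10931 := d22_2 D8189 D10933 (iv D10931) (iv D8187)
def n10934 : Q := act 1 n8190
theorem D10934 : act 1 n8190 = n10934 := rfl
theorem F19440 : act 6 n10934 = n8192 := d10_2 D8190 D10934 (iv D8192) (iv D3912) D3910
def n10935 : Q := act 5 n8190
theorem D10935 : act 5 n8190 = n10935 := rfl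
theorem F19441 : act 0 n10935 = n10933 := d4_1 D10935 F19439 F19436
theorem F19442 : act 2 n10935 = n10933 := d13_1 D10935 F19439 F19437
theorem F19443 : act 6 n10935 = n10930 := d20_2 D8190 D10935 (iv D10930) D10931 (iv F19439) (iv D10933) (iv D8189)
def n10936 : Q := act 0 n8191
theorem D10936 : act 0 n8191 = n10936 := rfl
def n10937 : Q := act 2 n8191
theorem D10937 : act 2 n8191 = n10937 := rfl
def n10938 : Q := act 6 n8191
theorem D10938 : act 6 n8191 = n10938 := rfl
def n10939 : Q := act 0 n8192
theorem D10939 : act 0 n8192 = n10939 := rfl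
def n10940 : Q := act 2 n8192
theorem D10940 : act 2 n8192 = n10940 := rfl
def n10941 : Q := act 5 n8192
theorem D10941 : act 5 n8192 = n10941 := rfl
def n10942 : Q := act 1 n8193
theorem D10942 : act 1 n8193 = n10942 := rfl
def n10943 : Q := act 2 n8193
theorem D10943 : act 2 n8193 = n10943 := rfl
theorem F19444 : act 0 n10943 = n8194 := d1_1 D10943 (iv D8194) D8193
theorem F19445 : act 5 n10943 = n8202 := d13_2 (iv F12199) D10943 (iv D8202)
def n10944 : Q := act 3 n8194
theorem D10944 : act 3 n8194 = n10944 := rfl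
theorem F19446 : act 5 n10944 = n8204 := d16_2 (iv F12200) D10944 (iv D8204)
def n10945 : Q := act 6 n8194
theorem D10945 : act 6 n8194 = n10945 := rfl
theorem F19447 : act 2 n10945 = n8195 := d14_1 D10945 (iv D8195) D8194
def n10946 : Q := act 1 n8195
theorem D10946 : act 1 n8195 = n10946 := rfl
theorem F19448 : act 6 n10946 = n8196 := d10_2 D8195 D10946 (iv D8196) (iv D3914) D3913
def n10947 : Q := act 0 n8196
theorem D10947 : act 0 n8196 = n10947 := rfl
def n10948 : Q := act 2 n8196
theorem D10948 : act 2 n8196 = n10948 := rfl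
def n10949 : Q := act 5 n8196
theorem D10949 : act 5 n8196 = n10949 := rfl
theorem F19449 : act 1 n10949 = n10941 := d9_1 D10949 (iv D10941) (iv D8192) (iv F5980) D8196
def n10950 : Q := act 1 n8197
theorem D10950 : act 1 n8197 = n10950 := rfl
def n10951 : Q := act 2 n8197
theorem D10951 : act 2 n8197 = n10951 := rfl
theorem F19450 : act 0 n10951 = n8198 := d1_1 D10951 (iv D8198) D8197
theorem F19451 : act 6 n10951 = n8212 := d14_2 (iv F12201) D10951 (iv D8212)
def n10952 : Q := act 3 n8198
theorem D10952 : act 3 n8198 = n10952 := rfl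
theorem F19452 : act 6 n10952 = n8214 := d17_2 (iv F12202) D10952 (iv D8214)
def n10953 : Q := act 5 n8198
theorem D10953 : act 5 n8198 = n10953 := rfl
theorem F19453 : act 2 n10953 = n8199 := d13_1 D10953 (iv D8199) D8198
def n10954 : Q := act 1 n8199
theorem D10954 : act 1 n8199 = n10954 := rfl
theorem F19454 : act 5 n10954 = n8200 := d9_2 D8199 D10954 (iv D8200) (iv D3916) D3915
def n10955 : Q := act 0 n8200
theorem D10955 : act 0 n8200 = n10955 := rfl
def n10956 : Q := act 2 n8200
theorem D10956 : act 2 n8200 = n10956 := rfl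
def n10957 : Q := act 6 n8200
theorem D10957 : act 6 n8200 = n10957 := rfl
theorem F19455 : act 1 n10957 = n10938 := d10_1 D10957 (iv D10938) (iv D8191) (iv F5983) D8200
def n10958 : Q := act 0 n8201
theorem D10958 : act 0 n8201 = n10958 := rfl
def n10959 : Q := act 2 n8201
theorem D10959 : act 2 n8201 = n10959 := rfl
def n10960 : Q := act 5 n8201
theorem D10960 : act 5 n8201 = n10960 := rfl
def n10961 : Q := act 6 n8201
theorem D10961 : act 6 n8201 = n10961 := rfl
def n10962 : Q := act 1 n8202
theorem D10962 : act 1 n8202 = n10962 := rfl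
def n10963 : Q := act 3 n8202
theorem D10963 : act 3 n8202 = n10963 := rfl
theorem F19456 : act 0 n10963 = n8204 := d2_1 D10963 (iv D8204) (iv F12203)
theorem F19457 : act 2 n10963 = n8204 := d21_2 D8202 D10963 (iv D8204) (iv D3918) (iv F5127) F15592 F5127 D3917
def n10964 : Q := act 6 n8202
theorem D10964 : act 6 n8202 = n10964 := rfl
theorem F19458 : act 0 n10964 = n8205 := d5_1 D10964 (iv D8205) (iv F12203)
theorem F19459 : act 2 n10964 = n8203 := d14_1 D10964 (iv D8203) D8202
theorem F19460 : act 5 n10964 = n10945 := d22_2 F19445 D10964 (iv D10945) (iv F19444)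
def n10965 : Q := act 1 n8203
theorem D10965 : act 1 n8203 = n10965 := rfl
def n10966 : Q := act 4 n8204
theorem D10966 : act 4 n8204 = n10966 := rfl
theorem F19461 : act 1 n10966 = n8230 := d8_1 D10966 (iv D8230) (iv F12206)
def n10967 : Q := act 6 n8204
theorem D10967 : act 6 n8204 = n10967 := rfl
theorem F19462 : act 3 n10967 = n8205 := d17_1 D10967 (iv D8205) D8204
def n10968 : Q := act 1 n8205
theorem D10968 : act 1 n8205 = n10968 := rfl
theorem F19463 : act 6 n10968 = n8232 := d10_2 D8205 D10968 (iv D8232) (iv D3929) (iv F5984)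
def n10969 : Q := act 5 n8205
theorem D10969 : act 5 n8205 = n10969 := rfl
theorem F19464 : act 0 n10969 = n10945 := d4_1 D10969 (iv F19460) F19458
theorem F19465 : act 2 n10969 = n8207 := d13_1 D10969 (iv D8207) (iv F12207)
theorem F19466 : act 6 n10969 = n10943 := d20_2 D8205 D10969 F19445 D10964 F19460 (iv D10945) F12200
def n10970 : Q := act 0 n8206
theorem D10970 : act 0 n8206 = n10970 := rfl
theorem F19467 : act 6 n10970 = n8208 := d5_2 (iv F12208) D10970 (iv D8208)
def n10971 : Q := act 2 n8206
theorem D10971 : act 2 n8206 = n10971 := rfl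
theorem F19468 : act 6 n10971 = n8209 := d14_2 (iv F12208) D10971 (iv D8209)
def n10972 : Q := act 5 n8206
theorem D10972 : act 5 n8206 = n10972 := rfl
def n10973 : Q := act 1 n8207
theorem D10973 : act 1 n8207 = n10973 := rfl
def n10974 : Q := act 1 n8208
theorem D10974 : act 1 n8208 = n10974 := rfl
def n10975 : Q := act 2 n8208
theorem D10975 : act 2 n8208 = n10975 := rfl
theorem F19469 : act 0 n10975 = n8209 := d1_1 D10975 (iv D8209) D8208
def n10976 : Q := act 5 n8208
theorem D10976 : act 5 n8208 = n10976 := rfl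
theorem F19470 : act 0 n10976 = n8210 := d4_1 D10976 (iv D8210) D8208
theorem F19471 : act 6 n10976 = n10972 := d22_1 D10976 (iv D10972) F12208 D8208
def n10977 : Q := act 3 n8209
theorem D10977 : act 3 n8209 = n10977 := rfl
theorem F19472 : act 1 n10977 = n8241 := d7_1 D10977 (iv D8241) (iv F12211)
def n10978 : Q := act 5 n8209
theorem D10978 : act 5 n8209 = n10978 := rfl
theorem F19473 : act 1 n10978 = n10978 := d9_1 D10978 (iv D10978) F12211 F17160 (iv F12211)
theorem F19474 : act 2 n10978 = n8210 := d13_1 D10978 (iv D8210) D8209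
def n10979 : Q := act 6 n8210
theorem D10979 : act 6 n8210 = n10979 := rfl
theorem F19475 : act 0 n10979 = n10972 := d5_1 D10979 (iv F19471) F19470
theorem F19476 : act 5 n10979 = n10970 := d20_1 D10979 F19467 D10976 F19471 (iv D10972) F12208 D8210
def n10980 : Q := act 0 n8211
theorem D10980 : act 0 n8211 = n10980 := rfl
def n10981 : Q := act 2 n8211
theorem D10981 : act 2 n8211 = n10981 := rfl
def n10982 : Q := act 5 n8211
theorem D10982 : act 5 n8211 = n10982 := rfl
def n10983 : Q := act 6 n8211
theorem D10983 : act 6 n8211 = n10983 := rfl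
def n10984 : Q := act 1 n8212
theorem D10984 : act 1 n8212 = n10984 := rfl
def n10985 : Q := act 3 n8212
theorem D10985 : act 3 n8212 = n10985 := rfl
theorem F19477 : act 0 n10985 = n8214 := d2_1 D10985 (iv D8214) (iv F12213)
theorem F19478 : act 2 n10985 = n8214 := d21_2 D8212 D10985 (iv D8214) (iv D3922) (iv F5128) F17213 F5128 D3921
def n10986 : Q := act 5 n8212
theorem D10986 : act 5 n8212 = n10986 := rfl
theorem F19479 : act 0 n10986 = n8215 := d4_1 D10986 (iv D8215) (iv F12213)
theorem F19480 : act 2 n10986 = n8213 := d13_1 D10986 (iv D8213) D8212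
theorem F19481 : act 6 n10986 = n10953 := d22_1 D10986 (iv D10953) F12202 (iv F12213)
def n10987 : Q := act 1 n8213
theorem D10987 : act 1 n8213 = n10987 := rfl
def n10988 : Q := act 4 n8214
theorem D10988 : act 4 n8214 = n10988 := rfl
theorem F19482 : act 1 n10988 = n8253 := d8_1 D10988 (iv D8253) (iv F12216)
def n10989 : Q := act 5 n8214
theorem D10989 : act 5 n8214 = n10989 := rfl
theorem F19483 : act 3 n10989 = n8215 := d16_1 D10989 (iv D8215) D8214
def n10990 : Q := act 1 n8215
theorem D10990 : act 1 n8215 = n10990 := rfl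
theorem F19484 : act 5 n10990 = n8255 := d9_2 D8215 D10990 (iv D8255) (iv D3939) (iv F5985)
def n10991 : Q := act 6 n8215
theorem D10991 : act 6 n8215 = n10991 := rfl
theorem F19485 : act 0 n10991 = n10953 := d5_1 D10991 (iv F19481) F19479
theorem F19486 : act 2 n10991 = n8217 := d14_1 D10991 (iv D8217) (iv F12217)
theorem F19487 : act 5 n10991 = n10951 := d20_1 D10991 F19451 D10986 F19481 (iv D10953) F12202 D8215
def n10992 : Q := act 0 n8216
theorem D10992 : act 0 n8216 = n10992 := rfl
theorem F19488 : act 3 n10992 = n10976 := d2_2 (iv F12218) D10992 F19470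
theorem F19489 : act 5 n10992 = n8218 := d4_2 (iv F12219) D10992 (iv D8218)
def n10993 : Q := act 2 n8216
theorem D10993 : act 2 n8216 = n10993 := rfl
theorem F19490 : act 5 n10993 = n8219 := d13_2 (iv F12219) D10993 (iv D8219)
def n10994 : Q := act 6 n8216
theorem D10994 : act 6 n8216 = n10994 := rfl
theorem F19491 : act 3 n10994 = n10979 := d17_1 D10994 (iv D10979) (iv F12218)
def n10995 : Q := act 1 n8217
theorem D10995 : act 1 n8217 = n10995 := rfl
def n10996 : Q := act 1 n8218
theorem D10996 : act 1 n8218 = n10996 := rfl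
theorem F19492 : act 3 n10996 = n10974 := d7_2 (iv F12222) D10996 (iv D10974)
def n10997 : Q := act 2 n8218
theorem D10997 : act 2 n8218 = n10997 := rfl
theorem F19493 : act 0 n10997 = n8219 := d1_1 D10997 (iv D8219) D8218
def n10998 : Q := act 6 n8218
theorem D10998 : act 6 n8218 = n10998 := rfl
theorem F19494 : act 0 n10998 = n8220 := d5_1 D10998 (iv D8220) D8218
theorem F19495 : act 3 n10998 = n10970 := d17_1 D10998 F19467 (iv F12222)
theorem F19496 : act 5 n10998 = n10994 := d22_2 F19489 D10998 (iv D10994) D10992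
def n10999 : Q := act 3 n8219
theorem D10999 : act 3 n8219 = n10999 := rfl
theorem F19497 : act 1 n10999 = n8264 := d7_1 D10999 (iv D8264) (iv F12223)
def n11000 : Q := act 6 n8219
theorem D11000 : act 6 n8219 = n11000 := rfl
theorem F19498 : act 1 n11000 = n11000 := d10_1 D11000 (iv D11000) F12223 F15347 (iv F12223)
theorem F19499 : act 2 n11000 = n8220 := d14_1 D11000 (iv D8220) D8219
def n11001 : Q := act 5 n8220
theorem D11001 : act 5 n8220 = n11001 := rfl
theorem F19500 : act 0 n11001 = n10994 := d4_1 D11001 (iv F19496) F19494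
theorem F19501 : act 3 n11001 = n10972 := d16_1 D11001 (iv D10972) (iv F12225)
theorem F19502 : act 6 n11001 = n10992 := d20_2 D8220 D11001 F19489 D10998 F19496 (iv D10994) F12219
def n11002 : Q := act 1 n8222
theorem D11002 : act 1 n8222 = n11002 := rfl
theorem F19503 : act 2 n11002 = n8225 := d6_2 D8222 D11002 (iv D8225) (iv D3926) D3925
def n11003 : Q := act 3 n8222
theorem D11003 : act 3 n8222 = n11003 := rfl
theorem F19504 : act 0 n11003 = n11003 := d2_1 D11003 (iv D11003) F16209
theorem F19505 : act 5 n11003 = n11003 := d16_2 F16229 D11003 (iv D11003)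
theorem F19506 : act 6 n11003 = n10699 := d17_2 F17230 D11003 (iv D10699)
theorem F19507 : act 2 n11003 = n11003 := d21_2 D8222 D11003 (iv D11003) (iv D8222) F5987 F15173 (iv F5987) F15372
def n11004 : Q := act 0 n8225
theorem D11004 : act 0 n8225 = n11004 := rfl
def n11005 : Q := act 3 n8225
theorem D11005 : act 3 n8225 = n11005 := rfl
theorem F19508 : act 1 n11005 = n8226 := d7_1 D11005 (iv D8226) D8225
def n11006 : Q := act 5 n8225
theorem D11006 : act 5 n8225 = n11006 := rfl
def n11007 : Q := act 6 n8225
theorem D11007 : act 6 n8225 = n11007 := rfl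
def n11008 : Q := act 4 n8226
theorem D11008 : act 4 n8226 = n11008 := rfl
theorem F19509 : act 0 n11008 = n8230 := d3_1 D11008 (iv D8230) (iv F12229)
def n11009 : Q := act 1 n8229
theorem D11009 : act 1 n8229 = n11009 := rfl
def n11010 : Q := act 4 n8229
theorem D11010 : act 4 n8229 = n11010 := rfl
theorem F19510 : act 2 n11010 = n8230 := d12_1 D11010 (iv D8230) D8229
def n11011 : Q := act 6 n8229
theorem D11011 : act 6 n8229 = n11011 := rfl
theorem F19511 : act 2 n11011 = n8231 := d14_1 D11011 (iv D8231) D8229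
theorem F19512 : act 3 n11011 = n10824 := d17_1 D11011 F19213 F12297
def n11012 : Q := act 6 n8230
theorem D11012 : act 6 n8230 = n11012 := rfl
theorem F19513 : act 4 n11012 = n8231 := d19_1 D11012 (iv D8231) D8230
def n11013 : Q := act 1 n8231
theorem D11013 : act 1 n8231 = n11013 := rfl
theorem F19514 : act 3 n11013 = n8232 := d7_2 (iv F12234) D11013 (iv D8232)
def n11014 : Q := act 5 n8231
theorem D11014 : act 5 n8231 = n11014 := rfl
theorem F19515 : act 0 n11014 = n10794 := d4_1 D11014 (iv F19157) F19156
theorem F19516 : act 3 n11014 = n8233 := d16_1 D11014 (iv D8233) (iv F12234)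
theorem F19517 : act 6 n11014 = n10791 := d20_2 D8231 D11014 F19142 (iv F19158) F19157 (iv D10794) F11527
def n11015 : Q := act 0 n8232
theorem D11015 : act 0 n8232 = n11015 := rfl
def n11016 : Q := act 2 n8232
theorem D11016 : act 2 n8232 = n11016 := rfl
theorem F19518 : act 1 n11016 = n8235 := d6_1 D11016 (iv D8235) (iv D3930) (iv F5992) D8232
def n11017 : Q := act 5 n8232
theorem D11017 : act 5 n8232 = n11017 := rfl
def n11018 : Q := act 1 n8233
theorem D11018 : act 1 n8233 = n11018 := rfl
def n11019 : Q := act 2 n8234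
theorem D11019 : act 2 n8234 = n11019 := rfl
theorem F19519 : act 0 n11019 = n8235 := d1_1 D11019 (iv D8235) D8234
theorem F19520 : act 5 n11019 = n8235 := d13_2 F17162 D11019 (iv D8235)
theorem F19521 : act 6 n11019 = n8239 := d14_2 (iv F12239) D11019 (iv D8239)
def n11020 : Q := act 3 n8235
theorem D11020 : act 3 n8235 = n11020 := rfl
theorem F19522 : act 6 n11020 = n8241 := d17_2 (iv F12240) D11020 (iv D8241)
def n11021 : Q := act 1 n8239
theorem D11021 : act 1 n8239 = n11021 := rfl
def n11022 : Q := act 3 n8239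
theorem D11022 : act 3 n8239 = n11022 := rfl
theorem F19523 : act 0 n11022 = n8241 := d2_1 D11022 (iv D8241) (iv F12244)
theorem F19524 : act 5 n11022 = n11022 := d16_2 F17250 D11022 (iv D11022)
def n11023 : Q := act 2 n8241
theorem D11023 : act 2 n8241 = n11023 := rfl
theorem F19525 : act 5 n11023 = n11023 := d13_2 F17251 D11023 (iv D11023)
def n11024 : Q := act 4 n8241
theorem D11024 : act 4 n8241 = n11024 := rfl
theorem F19526 : act 5 n11024 = n11024 := d18_2 F17251 D11024 (iv D11024)
def n11025 : Q := act 1 n8245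
theorem D11025 : act 1 n8245 = n11025 := rfl
theorem F19527 : act 2 n11025 = n8248 := d6_2 D8245 D11025 (iv D8248) (iv D3936) D3935
def n11026 : Q := act 3 n8245
theorem D11026 : act 3 n8245 = n11026 := rfl
theorem F19528 : act 0 n11026 = n11026 := d2_1 D11026 (iv D11026) F17257
theorem F19529 : act 5 n11026 = n10700 := d16_2 F17255 D11026 (iv D10700)
theorem F19530 : act 6 n11026 = n11026 := d17_2 F17254 D11026 (iv D11026)
theorem F19531 : act 2 n11026 = n11026 := d21_2 D8245 D11026 (iv D11026) (iv D8245) F6001 F17030 (iv F6001) F17137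
def n11027 : Q := act 0 n8248
theorem D11027 : act 0 n8248 = n11027 := rfl
def n11028 : Q := act 3 n8248
theorem D11028 : act 3 n8248 = n11028 := rfl
theorem F19532 : act 1 n11028 = n8249 := d7_1 D11028 (iv D8249) D8248
def n11029 : Q := act 5 n8248
theorem D11029 : act 5 n8248 = n11029 := rfl
def n11030 : Q := act 6 n8248
theorem D11030 : act 6 n8248 = n11030 := rfl
def n11031 : Q := act 4 n8249
theorem D11031 : act 4 n8249 = n11031 := rfl
theorem F19533 : act 0 n11031 = n8253 := d3_1 D11031 (iv D8253) (iv F12255)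
def n11032 : Q := act 1 n8252
theorem D11032 : act 1 n8252 = n11032 := rfl
def n11033 : Q := act 4 n8252
theorem D11033 : act 4 n8252 = n11033 := rfl
theorem F19534 : act 2 n11033 = n8253 := d12_1 D11033 (iv D8253) D8252
def n11034 : Q := act 5 n8252
theorem D11034 : act 5 n8252 = n11034 := rfl
theorem F19535 : act 2 n11034 = n8254 := d13_1 D11034 (iv D8254) D8252
theorem F19536 : act 3 n11034 = n10813 := d16_1 D11034 F19182 F12380
def n11035 : Q := act 5 n8253
theorem D11035 : act 5 n8253 = n11035 := rfl
theorem F19537 : act 4 n11035 = n8254 := d18_1 D11035 (iv D8254) D8253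
def n11036 : Q := act 1 n8254
theorem D11036 : act 1 n8254 = n11036 := rfl
theorem F19538 : act 3 n11036 = n8255 := d7_2 (iv F12260) D11036 (iv D8255)
def n11037 : Q := act 6 n8254
theorem D11037 : act 6 n8254 = n11037 := rfl
theorem F19539 : act 0 n11037 = n10801 := d5_1 D11037 F19154 F19146
theorem F19540 : act 3 n11037 = n8256 := d17_1 D11037 (iv D8256) (iv F12260)
theorem F19541 : act 5 n11037 = n10798 := d20_1 D11037 F19150 (iv F19147) (iv F19154) (iv D10801) F11537 D8254
def n11038 : Q := act 0 n8255
theorem D11038 : act 0 n8255 = n11038 := rfl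
def n11039 : Q := act 2 n8255
theorem D11039 : act 2 n8255 = n11039 := rfl
theorem F19542 : act 1 n11039 = n8258 := d6_1 D11039 (iv D8258) (iv D3940) (iv F6006) D8255
def n11040 : Q := act 6 n8255
theorem D11040 : act 6 n8255 = n11040 := rfl
def n11041 : Q := act 1 n8256
theorem D11041 : act 1 n8256 = n11041 := rfl
theorem F19543 : act 2 n11041 = n11021 := d6_2 (iv F12262) D11041 (iv D11021) (iv D8239) (iv F15612)
def n11042 : Q := act 2 n8257
theorem D11042 : act 2 n8257 = n11042 := rfl
theorem F19544 : act 0 n11042 = n8258 := d1_1 D11042 (iv D8258) D8257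
theorem F19545 : act 5 n11042 = n8262 := d13_2 (iv F12265) D11042 (iv D8262)
theorem F19546 : act 6 n11042 = n8258 := d14_2 (iv F15465) D11042 (iv D8258)
def n11043 : Q := act 3 n8258
theorem D11043 : act 3 n8258 = n11043 := rfl
theorem F19547 : act 5 n11043 = n8264 := d16_2 (iv F12266) D11043 (iv D8264)
def n11044 : Q := act 1 n8262
theorem D11044 : act 1 n8262 = n11044 := rfl
theorem F19548 : act 2 n11044 = n11018 := d6_2 D8262 D11044 (iv D11018) F12236 (iv F17207)
def n11045 : Q := act 3 n8262
theorem D11045 : act 3 n8262 = n11045 := rfl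
theorem F19549 : act 0 n11045 = n8264 := d2_1 D11045 (iv D8264) (iv F12270)
theorem F19550 : act 6 n11045 = n11045 := d17_2 F16223 D11045 (iv D11045)
def n11046 : Q := act 2 n8264
theorem D11046 : act 2 n8264 = n11046 := rfl
theorem F19551 : act 6 n11046 = n11046 := d14_2 F16224 D11046 (iv D11046)
def n11047 : Q := act 4 n8264
theorem D11047 : act 4 n8264 = n11047 := rfl
theorem F19552 : act 6 n11047 = n11047 := d19_2 F16224 D11047 (iv D11047)
def n11048 : Q := act 1 n8275
theorem D11048 : act 1 n8275 = n11048 := rfl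
theorem F19553 : act 2 n11048 = n11048 := d6_2 D8275 D11048 (iv D11048) (iv D8275) F15060
theorem F19554 : act 3 n11048 = n11009 := d7_2 (iv F12297) D11048 (iv D11009)
def n11049 : Q := act 4 n8275
theorem D11049 : act 4 n8275 = n11049 := rfl
theorem F19555 : act 0 n11049 = n8284 := d3_1 D11049 (iv D8284) (iv F12296)
theorem F19556 : act 2 n11049 = n8276 := d12_1 D11049 (iv D8276) D8275
def n11050 : Q := act 0 n8282
theorem D11050 : act 0 n8282 = n11050 := rfl
theorem F19557 : act 2 n11050 = n8518 := d1_2 (iv F12308) D11050 (iv D8518)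
def n11051 : Q := act 3 n8282
theorem D11051 : act 3 n8282 = n11051 := rfl
theorem F19558 : act 1 n11051 = n8283 := d7_1 D11051 (iv D8283) D8282
def n11052 : Q := act 4 n8282
theorem D11052 : act 4 n8282 = n11052 := rfl
theorem F19559 : act 1 n11052 = n8284 := d8_1 D11052 (iv D8284) D8282
theorem F19560 : act 2 n11052 = n8519 := d12_1 D11052 (iv D8519) (iv F12308)
def n11053 : Q := act 5 n8282
theorem D11053 : act 5 n8282 = n11053 := rfl
theorem F19561 : act 2 n11053 = n8520 := d13_1 D11053 (iv D8520) (iv F12308)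
def n11054 : Q := act 6 n8282
theorem D11054 : act 6 n8282 = n11054 := rfl
theorem F19562 : act 2 n11054 = n8521 := d14_1 D11054 (iv D8521) (iv F12308)
def n11055 : Q := act 4 n8283
theorem D11055 : act 4 n8283 = n11055 := rfl
theorem F19563 : act 0 n11055 = n11010 := d3_1 D11055 (iv D11010) (iv F12309)
theorem F19564 : act 2 n11055 = n11008 := d12_1 D11055 (iv D11008) (iv F12310)
def n11056 : Q := act 6 n8283
theorem D11056 : act 6 n8283 = n11056 := rfl
theorem F19565 : act 0 n11056 = n11011 := d5_1 D11056 (iv D11011) (iv F12309)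
theorem F19566 : act 2 n11056 = n10803 := d14_1 D11056 F19158 (iv F12310)
theorem F19567 : act 3 n11056 = n8285 := d17_1 D11056 (iv D8285) D8283
def n11057 : Q := act 3 n8284
theorem D11057 : act 3 n8284 = n11057 := rfl
def n11058 : Q := act 6 n8284
theorem D11058 : act 6 n8284 = n11058 := rfl
theorem F19568 : act 2 n11058 = n8286 := d14_1 D11058 (iv D8286) (iv F12311)
theorem F19569 : act 4 n11058 = n8285 := d19_1 D11058 (iv D8285) D8284
def n11059 : Q := act 1 n8285
theorem D11059 : act 1 n8285 = n11059 := rfl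
def n11060 : Q := act 5 n8285
theorem D11060 : act 5 n8285 = n11060 := rfl
theorem F19570 : act 0 n11060 = n10811 := d4_1 D11060 (iv F19212) F19211
theorem F19571 : act 2 n11060 = n8288 := d13_1 D11060 (iv D8288) (iv F12312)
theorem F19572 : act 6 n11060 = n10806 := d20_2 D8285 D11060 F19167 (iv F19213) F19212 (iv D10811) F11555
def n11061 : Q := act 1 n8286
theorem D11061 : act 1 n8286 = n11061 := rfl
theorem F19573 : act 3 n11061 = n8387 := d7_2 (iv F12313) D11061 (iv D8387)
theorem F19574 : act 4 n11061 = n8287 := d8_2 (iv F12314) D11061 (iv D8287)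
theorem F19575 : act 6 n11061 = n8525 := d10_2 D8286 D11061 (iv D8525) (iv D4094) (iv F6026)
def n11062 : Q := act 5 n8286
theorem D11062 : act 5 n8286 = n11062 := rfl
theorem F19576 : act 0 n11062 = n10812 := d4_1 D11062 (iv F19217) F19214
theorem F19577 : act 3 n11062 = n8388 := d16_1 D11062 (iv D8388) (iv F12313)
theorem F19578 : act 4 n11062 = n8288 := d18_1 D11062 (iv D8288) (iv F12314)
theorem F19579 : act 6 n11062 = n10807 := d20_2 D8286 D11062 F19171 (iv F19218) F19217 (iv D10812) F11558
def n11063 : Q := act 0 n8287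
theorem D11063 : act 0 n8287 = n11063 := rfl
theorem F19580 : act 3 n11063 = n8289 := d2_2 (iv F12315) D11063 (iv D8289)
theorem F19581 : act 6 n11063 = n8526 := d5_2 (iv F12316) D11063 (iv D8526)
theorem F19582 : act 5 n11063 = n9878 := d22_0 F17565 (iv D8528) (iv F12316) D11063
def n11064 : Q := act 2 n8287
theorem D11064 : act 2 n8287 = n11064 := rfl
theorem F19583 : act 6 n11064 = n8527 := d14_2 (iv F12316) D11064 (iv D8527)
def n11065 : Q := act 5 n8287
theorem D11065 : act 5 n8287 = n11065 := rfl
theorem F19585 : act 3 n11065 = n8290 := d16_1 D11065 (iv D8290) (iv F12315)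
def n11066 : Q := act 1 n8288
theorem D11066 : act 1 n8288 = n11066 := rfl
theorem F19586 : act 0 n11066 = n10432 := d0_1 D11066 (iv D10432) (iv D6008) (iv D2908) (iv F4534) D5997 (iv F18212) F18213 (iv F12317)
theorem F19587 : act 3 n11066 = n8291 := d7_2 (iv F12318) D11066 (iv D8291)
def n11067 : Q := act 6 n8291
theorem D11067 : act 6 n8291 = n11067 := rfl
theorem F19588 : act 0 n11067 = n10393 := d5_1 D11067 F18387 (iv F17415)
theorem F19589 : act 1 n11067 = n10805 := d10_1 D11067 (iv D10805) (iv D7779) (iv F6034) D8291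
theorem F19590 : act 4 n11067 = n8397 := d19_1 D11067 (iv D8397) (iv F12325)
def n11068 : Q := act 3 n8293
theorem D11068 : act 3 n8293 = n11068 := rfl
theorem F19591 : act 0 n11068 = n8294 := d2_1 D11068 (iv D8294) (iv F12327)
theorem F19592 : act 1 n11068 = n9763 := d7_1 D11068 F14602 (iv F16809)
theorem F19593 : act 5 n11068 = n8294 := d16_2 F16928 D11068 (iv D8294)
theorem F19594 : act 6 n11068 = n8305 := d17_2 (iv F12329) D11068 (iv D8305)
def n11069 : Q := act 2 n8294
theorem D11069 : act 2 n8294 = n11069 := rfl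
theorem F19595 : act 6 n11069 = n8308 := d14_2 (iv F12330) D11069 (iv D8308)
def n11071 : Q := act 3 n8304
theorem D11071 : act 3 n8304 = n11071 := rfl
theorem F19598 : act 1 n11071 = n8305 := d7_1 D11071 (iv D8305) D8304
theorem F19599 : act 6 n11071 = n10479 := d17_2 (iv F16076) D11071 F18526
def n11073 : Q := act 2 n8305
theorem D11073 : act 2 n8305 = n11073 := rfl
theorem F19602 : act 0 n11073 = n8308 := d1_1 D11073 (iv D8308) (iv F12344)
theorem F19603 : act 5 n11073 = n11073 := d13_2 F17449 D11073 (iv D11073)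
theorem F19604 : act 3 n11073 = n11023 := d21_1 D11073 (iv D11023) (iv D8241) (iv D3933) F3040 D1901 D3965 (iv F12344)
def n11075 : Q := act 1 n8308
theorem D11075 : act 1 n8308 = n11075 := rfl
theorem F19608 : act 2 n11075 = n8531 := d6_2 D8308 D11075 (iv D8531) (iv D4098) (iv F6047)
def n11076 : Q := act 3 n8308
theorem D11076 : act 3 n8308 = n11076 := rfl
theorem F19609 : act 0 n11076 = n11023 := d2_1 D11076 (iv F19604) F19602
theorem F19610 : act 2 n11076 = n11022 := d11_1 D11076 (iv D11022) (iv D8239) F5998 D3963 D8305 D11073 F19604 (iv D11023) (iv D8241) (iv D3933) F3040 D1901 D3965 D8308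
theorem F19611 : act 5 n11076 = n11076 := d16_2 F17455 D11076 (iv D11076)
def n11077 : Q := act 4 n8308
theorem D11077 : act 4 n8308 = n11077 := rfl
theorem F19612 : act 2 n11077 = n8309 := d12_1 D11077 (iv D8309) D8308
theorem F19613 : act 5 n11077 = n11077 := d18_2 F17455 D11077 (iv D11077)
def n11078 : Q := act 1 n8321
theorem D11078 : act 1 n8321 = n11078 := rfl
theorem F19614 : act 2 n11078 = n11078 := d6_2 D8321 D11078 (iv D11078) (iv D8321) F16900
theorem F19615 : act 3 n11078 = n11032 := d7_2 (iv F12380) D11078 (iv D11032)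
def n11079 : Q := act 4 n8321
theorem D11079 : act 4 n8321 = n11079 := rfl
theorem F19616 : act 0 n11079 = n8327 := d3_1 D11079 (iv D8327) (iv F12379)
theorem F19617 : act 2 n11079 = n8322 := d12_1 D11079 (iv D8322) D8321
def n11080 : Q := act 0 n8325
theorem D11080 : act 0 n8325 = n11080 := rfl
theorem F19618 : act 2 n11080 = n8545 := d1_2 (iv F12389) D11080 (iv D8545)
def n11081 : Q := act 3 n8325
theorem D11081 : act 3 n8325 = n11081 := rfl
theorem F19619 : act 1 n11081 = n8326 := d7_1 D11081 (iv D8326) D8325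
def n11082 : Q := act 4 n8325
theorem D11082 : act 4 n8325 = n11082 := rfl
theorem F19620 : act 1 n11082 = n8327 := d8_1 D11082 (iv D8327) D8325
theorem F19621 : act 2 n11082 = n8546 := d12_1 D11082 (iv D8546) (iv F12389)
def n11083 : Q := act 5 n8325
theorem D11083 : act 5 n8325 = n11083 := rfl
theorem F19622 : act 2 n11083 = n8547 := d13_1 D11083 (iv D8547) (iv F12389)
def n11084 : Q := act 6 n8325
theorem D11084 : act 6 n8325 = n11084 := rfl
theorem F19623 : act 2 n11084 = n8548 := d14_1 D11084 (iv D8548) (iv F12389)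
def n11085 : Q := act 4 n8326
theorem D11085 : act 4 n8326 = n11085 := rfl
theorem F19624 : act 0 n11085 = n11033 := d3_1 D11085 (iv D11033) (iv F12390)
theorem F19625 : act 2 n11085 = n11031 := d12_1 D11085 (iv D11031) (iv F12391)
def n11086 : Q := act 5 n8326
theorem D11086 : act 5 n8326 = n11086 := rfl
theorem F19626 : act 0 n11086 = n11034 := d4_1 D11086 (iv D11034) (iv F12390)
theorem F19627 : act 2 n11086 = n10796 := d13_1 D11086 F19147 (iv F12391)
theorem F19628 : act 3 n11086 = n8328 := d16_1 D11086 (iv D8328) D8326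
def n11087 : Q := act 3 n8327
theorem D11087 : act 3 n8327 = n11087 := rfl
def n11088 : Q := act 5 n8327
theorem D11088 : act 5 n8327 = n11088 := rfl
theorem F19629 : act 2 n11088 = n8329 := d13_1 D11088 (iv D8329) (iv F12392)
theorem F19630 : act 4 n11088 = n8328 := d18_1 D11088 (iv D8328) D8327
def n11089 : Q := act 1 n8328
theorem D11089 : act 1 n8328 = n11089 := rfl
def n11090 : Q := act 6 n8328
theorem D11090 : act 6 n8328 = n11090 := rfl
theorem F19631 : act 0 n11090 = n10822 := d5_1 D11090 F19207 F19181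
theorem F19632 : act 2 n11090 = n8331 := d14_1 D11090 (iv D8331) (iv F12393)
theorem F19633 : act 5 n11090 = n10817 := d20_1 D11090 F19195 (iv F19182) (iv F19207) (iv D10822) F11589 D8328
def n11091 : Q := act 1 n8329
theorem D11091 : act 1 n8329 = n11091 := rfl
theorem F19635 : act 4 n11091 = n8330 := d8_2 (iv F12395) D11091 (iv D8330)
theorem F19636 : act 5 n11091 = n8552 := d9_2 D8329 D11091 (iv D8552) (iv D4109) (iv F6065)
def n11092 : Q := act 6 n8329
theorem D11092 : act 6 n8329 = n11092 := rfl
theorem F19638 : act 3 n11092 = n8468 := d17_1 D11092 (iv D8468) (iv F12394)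
theorem F19639 : act 4 n11092 = n8331 := d19_1 D11092 (iv D8331) (iv F12395)
theorem F19640 : act 5 n11092 = n10818 := d20_1 D11092 F19199 (iv F19186) (iv F19210) (iv D10823) F11592 D8329
def n11093 : Q := act 0 n8330
theorem D11093 : act 0 n8330 = n11093 := rfl
theorem F19641 : act 3 n11093 = n8332 := d2_2 (iv F12396) D11093 (iv D8332)
theorem F19642 : act 5 n11093 = n8553 := d4_2 (iv F12397) D11093 (iv D8553)
theorem F19643 : act 6 n9911 = n11093 := d22_3 F12397 D8555 F17612 (iv D11093)
def n11094 : Q := act 2 n8330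
theorem D11094 : act 2 n8330 = n11094 := rfl
theorem F19644 : act 5 n11094 = n8554 := d13_2 (iv F12397) D11094 (iv D8554)
def n11095 : Q := act 6 n8330
theorem D11095 : act 6 n8330 = n11095 := rfl
theorem F19645 : act 0 n11095 = n9911 := d5_1 D11095 F19643 (iv D11093)
theorem F19646 : act 3 n11095 = n8333 := d17_1 D11095 (iv D8333) (iv F12396)
def n11096 : Q := act 1 n8331
theorem D11096 : act 1 n8331 = n11096 := rfl
theorem F19647 : act 0 n11096 = n10479 := d0_1 D11096 (iv D10479) (iv D6040) (iv D2923) (iv F4559) D6029 (iv F18246) F18247 (iv F12398)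
theorem F19648 : act 3 n11096 = n8334 := d7_2 (iv F12399) D11096 (iv D8334)
def n11097 : Q := act 5 n8334
theorem D11097 : act 5 n8334 = n11097 := rfl
theorem F19650 : act 1 n11097 = n10816 := d9_1 D11097 (iv D10816) (iv D7798) (iv F6073) D8334
def n11098 : Q := act 3 n8336
theorem D11098 : act 3 n8336 = n11098 := rfl
theorem F19654 : act 0 n11098 = n8337 := d2_1 D11098 (iv D8337) (iv F12407)
theorem F19655 : act 1 n11098 = n9703 := d7_1 D11098 F14490 (iv F15183)
theorem F19656 : act 5 n11098 = n8348 := d16_2 (iv F12409) D11098 (iv D8348)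
theorem F19657 : act 6 n11098 = n8337 := d17_2 (iv F15184) D11098 (iv D8337)
def n11099 : Q := act 2 n8337
theorem D11099 : act 2 n8337 = n11099 := rfl
theorem F19658 : act 5 n11099 = n8351 := d13_2 (iv F12410) D11099 (iv D8351)
def n11100 : Q := act 4 n8337
theorem D11100 : act 4 n8337 = n11100 := rfl
theorem F19660 : act 5 n11100 = n8352 := d18_2 (iv F12410) D11100 (iv D8352)
def n11101 : Q := act 3 n8347
theorem D11101 : act 3 n8347 = n11101 := rfl
theorem F19662 : act 5 n11101 = n10432 := d16_2 F17412 D11101 F18447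
def n11103 : Q := act 2 n8348
theorem D11103 : act 2 n8348 = n11103 := rfl
theorem F19667 : act 0 n11103 = n8351 := d1_1 D11103 (iv D8351) (iv F12426)
theorem F19668 : act 6 n11103 = n11103 := d14_2 F16312 D11103 (iv D11103)
theorem F19669 : act 3 n11103 = n11046 := d21_1 D11103 (iv D11046) (iv D8264) (iv D3943) F3043 D1911 D3988 (iv F12426)
def n11104 : Q := act 4 n8348
theorem D11104 : act 4 n8348 = n11104 := rfl
theorem F19670 : act 0 n11104 = n8352 := d3_1 D11104 (iv D8352) (iv F12426)
def n11105 : Q := act 1 n8351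
theorem D11105 : act 1 n8351 = n11105 := rfl
theorem F19673 : act 2 n11105 = n8559 := d6_2 D8351 D11105 (iv D8559) (iv D4113) (iv F6086)
def n11106 : Q := act 3 n8351
theorem D11106 : act 3 n8351 = n11106 := rfl
theorem F19674 : act 0 n11106 = n11046 := d2_1 D11106 (iv F19669) F19667
theorem F19675 : act 2 n11106 = n11045 := d11_1 D11106 (iv D11045) (iv D8262) F6012 D3986 D8348 D11103 F19669 (iv D11046) (iv D8264) (iv D3943) F3043 D1911 D3988 D8351
theorem F19676 : act 6 n11106 = n11106 := d17_2 F16314 D11106 (iv D11106)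
def n11107 : Q := act 4 n8351
theorem D11107 : act 4 n8351 = n11107 := rfl
theorem F19677 : act 2 n11107 = n8352 := d12_1 D11107 (iv D8352) D8351
theorem F19678 : act 6 n11107 = n11107 := d19_2 F16314 D11107 (iv D11107)
def n11108 : Q := act 0 n8387
theorem D11108 : act 0 n8387 = n11108 := rfl
theorem F19680 : act 6 n11108 = n8561 := d5_2 (iv F12510) D11108 (iv D8561)
theorem F19681 : act 5 n11108 = n8609 := d22_0 F17331 (iv D8563) (iv F12510) D11108
def n11109 : Q := act 2 n8387
theorem D11109 : act 2 n8387 = n11109 := rfl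
theorem F19685 : act 6 n11109 = n8562 := d14_2 (iv F12510) D11109 (iv D8562)
theorem F19686 : act 5 n8608 = n11109 := d23_0 (iv D11109) (iv D8387) (iv F17098) F17100 F14731 D8387 D11108 F19681 (iv D8609) (iv D4138) (iv F3798) (iv F15752) F2017 F16537 F1983 D1177 F15747 D4138 D8608
def n11110 : Q := act 5 n8387
theorem D11110 : act 5 n8387 = n11110 := rfl
theorem F19688 : act 2 n11110 = n8608 := d13_1 D11110 F19686 (iv D11109)
theorem F19689 : act 4 n11110 = n8391 := d18_1 D11110 (iv D8391) (iv F12509)
def n11111 : Q := act 1 n8388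
theorem D11111 : act 1 n8388 = n11111 := rfl
theorem F19691 : act 4 n11111 = n8392 := d8_2 (iv F12512) D11111 (iv D8392)
def n11114 : Q := act 3 n8404
theorem D11114 : act 3 n8404 = n11114 := rfl
theorem F19699 : act 0 n11114 = n10918 := d2_1 D11114 F19408 F18538
theorem F19700 : act 2 n11114 = n10917 := d11_1 D11114 (iv D10917) (iv D8115) F5937 D4022 D8403 (iv F18536) (iv F19408) (iv D10918) (iv D8116) (iv D3878) F3010 D1927 D4023 D8404
def n11123 : Q := act 6 n8467
theorem D11123 : act 6 n8467 = n11123 := rfl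
def n11134 : Q := act 4 n8509
theorem D11134 : act 4 n8509 = n11134 := rfl
theorem F19751 : act 2 n11134 = n10927 := d12_1 D11134 (iv D10927) (iv F12696)
def n11136 : Q := act 1 n8518
theorem D11136 : act 1 n8518 = n11136 := rfl
def n11137 : Q := act 4 n8518
theorem D11137 : act 4 n8518 = n11137 := rfl
theorem F19754 : act 0 n11137 = n8519 := d3_1 D11137 (iv D8519) D8518
def n11138 : Q := act 5 n8518
theorem D11138 : act 5 n8518 = n11138 := rfl
theorem F19755 : act 0 n11138 = n8520 := d4_1 D11138 (iv D8520) D8518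
def n11139 : Q := act 6 n8518
theorem D11139 : act 6 n8518 = n11139 := rfl
theorem F19756 : act 0 n11139 = n8521 := d5_1 D11139 (iv D8521) D8518
def n11140 : Q := act 3 n8519
theorem D11140 : act 3 n8519 = n11140 := rfl
theorem F19757 : act 1 n11140 = n8522 := d7_1 D11140 (iv D8522) (iv F12710)
def n11141 : Q := act 5 n8519
theorem D11141 : act 5 n8519 = n11141 := rfl
theorem F19758 : act 1 n11141 = n9861 := d9_1 D11141 (iv D9861) F7412 (iv F6199) (iv F12710)
theorem F19759 : act 4 n11141 = n8520 := d18_1 D11141 (iv D8520) D8519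
def n11142 : Q := act 6 n8519
theorem D11142 : act 6 n8519 = n11142 := rfl
theorem F19760 : act 4 n11142 = n8521 := d19_1 D11142 (iv D8521) D8519
def n11143 : Q := act 6 n8520
theorem D11143 : act 6 n8520 = n11143 := rfl
theorem F19761 : act 5 n11143 = n11139 := d22_2 D8520 D11143 (iv D11139) (iv D8518)
def n11144 : Q := act 1 n8521
theorem D11144 : act 1 n8521 = n11144 := rfl
theorem F19762 : act 6 n11144 = n8524 := d10_2 D8521 D11144 (iv D8524) (iv D4093) D4091
def n11145 : Q := act 5 n8521
theorem D11145 : act 5 n8521 = n11145 := rfl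
theorem F19763 : act 0 n11145 = n11143 := d4_1 D11145 F19761 F19756
theorem F19764 : act 6 n11145 = n11138 := d20_2 D8521 D11145 (iv D11138) D11139 (iv F19761) (iv D11143) (iv D8520)
def n11146 : Q := act 6 n8522
theorem D11146 : act 6 n8522 = n11146 := rfl
theorem F19765 : act 3 n11146 = n8523 := d17_1 D11146 (iv D8523) D8522
def n11147 : Q := act 1 n8523
theorem D11147 : act 1 n8523 = n11147 := rfl
theorem F19766 : act 4 n11147 = n8524 := d8_2 (iv F12714) D11147 (iv D8524)
def n11148 : Q := act 0 n8524
theorem D11148 : act 0 n8524 = n11148 := rfl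
def n11149 : Q := act 2 n8524
theorem D11149 : act 2 n8524 = n11149 := rfl
theorem F19767 : act 1 n11149 = n8527 := d6_1 D11149 (iv D8527) (iv D4095) (iv F6200) D8524
def n11150 : Q := act 5 n8524
theorem D11150 : act 5 n8524 = n11150 := rfl
def n11151 : Q := act 0 n8525
theorem D11151 : act 0 n8525 = n11151 := rfl
theorem F19769 : act 4 n11151 = n8526 := d3_2 (iv F12716) D11151 (iv D8526)
def n11152 : Q := act 2 n8525
theorem D11152 : act 2 n8525 = n11152 := rfl
theorem F19770 : act 4 n11152 = n8527 := d12_2 (iv F12716) D11152 (iv D8527)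
def n11153 : Q := act 5 n8525
theorem D11153 : act 5 n8525 = n11153 := rfl
def n11154 : Q := act 2 n8526
theorem D11154 : act 2 n8526 = n11154 := rfl
theorem F19774 : act 0 n11154 = n8527 := d1_1 D11154 (iv D8527) D8526
def n11155 : Q := act 5 n8526
theorem D11155 : act 5 n8526 = n11155 := rfl
theorem F19775 : act 0 n11155 = n8528 := d4_1 D11155 (iv D8528) D8526
def n11156 : Q := act 3 n8527
theorem D11156 : act 3 n8527 = n11156 := rfl
def n11157 : Q := act 5 n8527
theorem D11157 : act 5 n8527 = n11157 := rfl
theorem F19778 : act 2 n11157 = n8528 := d13_1 D11157 (iv D8528) D8527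
def n11158 : Q := act 0 n8531
theorem D11158 : act 0 n8531 = n11158 := rfl
theorem F19779 : act 3 n11158 = n9903 := d2_2 (iv F12725) D11158 (iv D9903)
def n11159 : Q := act 4 n8531
theorem D11159 : act 4 n8531 = n11159 := rfl
theorem F19780 : act 1 n11159 = n8532 := d8_1 D11159 (iv D8532) D8531
def n11160 : Q := act 5 n8531
theorem D11160 : act 5 n8531 = n11160 := rfl
theorem F19781 : act 1 n11160 = n9886 := d9_1 D11160 (iv D9886) (iv D4899) (iv F6209) D8531
theorem F19782 : act 3 n11160 = n9896 := d16_1 D11160 F17588 (iv F12725)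
def n11161 : Q := act 6 n8531
theorem D11161 : act 6 n8531 = n11161 := rfl
theorem F19783 : act 3 n11161 = n9905 := d17_1 D11161 (iv D9905) (iv F12725)
def n11162 : Q := act 3 n8532
theorem D11162 : act 3 n8532 = n11162 := rfl
theorem F19784 : act 0 n11162 = n9900 := d2_1 D11162 F17596 (iv F12726)
theorem F19785 : act 4 n11162 = n9900 := d15_2 D8532 D11162 F17596 F7481 (iv F6210)
theorem F19786 : act 5 n11162 = n9888 := d16_2 (iv F12728) D11162 (iv D9888)
def n11163 : Q := act 1 n8545
theorem D11163 : act 1 n8545 = n11163 := rfl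
def n11164 : Q := act 4 n8545
theorem D11164 : act 4 n8545 = n11164 := rfl
theorem F19787 : act 0 n11164 = n8546 := d3_1 D11164 (iv D8546) D8545
def n11165 : Q := act 5 n8545
theorem D11165 : act 5 n8545 = n11165 := rfl
theorem F19788 : act 0 n11165 = n8547 := d4_1 D11165 (iv D8547) D8545
def n11166 : Q := act 6 n8545
theorem D11166 : act 6 n8545 = n11166 := rfl
theorem F19789 : act 0 n11166 = n8548 := d5_1 D11166 (iv D8548) D8545
def n11167 : Q := act 3 n8546
theorem D11167 : act 3 n8546 = n11167 := rfl
theorem F19790 : act 1 n11167 = n8549 := d7_1 D11167 (iv D8549) (iv F12753)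
def n11168 : Q := act 5 n8546
theorem D11168 : act 5 n8546 = n11168 := rfl
theorem F19791 : act 4 n11168 = n8547 := d18_1 D11168 (iv D8547) D8546
def n11169 : Q := act 6 n8546
theorem D11169 : act 6 n8546 = n11169 := rfl
theorem F19792 : act 1 n11169 = n9895 := d10_1 D11169 (iv D9895) F7479 (iv F6229) (iv F12753)
theorem F19793 : act 4 n11169 = n8548 := d19_1 D11169 (iv D8548) D8546
def n11170 : Q := act 1 n8547
theorem D11170 : act 1 n8547 = n11170 := rfl
theorem F19794 : act 5 n11170 = n8551 := d9_2 D8547 D11170 (iv D8551) (iv D4108) D4106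
def n11171 : Q := act 6 n8547
theorem D11171 : act 6 n8547 = n11171 := rfl
theorem F19795 : act 5 n11171 = n11166 := d22_2 D8547 D11171 (iv D11166) (iv D8545)
def n11172 : Q := act 5 n8548
theorem D11172 : act 5 n8548 = n11172 := rfl
theorem F19796 : act 0 n11172 = n11171 := d4_1 D11172 F19795 F19789
theorem F19797 : act 6 n11172 = n11165 := d20_2 D8548 D11172 (iv D11165) D11166 (iv F19795) (iv D11171) (iv D8547)
def n11173 : Q := act 5 n8549
theorem D11173 : act 5 n8549 = n11173 := rfl
theorem F19798 : act 2 n11173 = n11162 := d13_1 D11173 F19786 F17581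
theorem F19799 : act 3 n11173 = n8550 := d16_1 D11173 (iv D8550) D8549
theorem F19800 : act 6 n11173 = n11162 := d22_1 D11173 F19786 (iv F17595) F17592
def n11174 : Q := act 1 n8550
theorem D11174 : act 1 n8550 = n11174 := rfl
theorem F19801 : act 4 n11174 = n8551 := d8_2 (iv F12757) D11174 (iv D8551)
def n11175 : Q := act 0 n8551
theorem D11175 : act 0 n8551 = n11175 := rfl
def n11176 : Q := act 2 n8551
theorem D11176 : act 2 n8551 = n11176 := rfl
theorem F19802 : act 1 n11176 = n8554 := d6_1 D11176 (iv D8554) (iv D4110) (iv F6230) D8551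
def n11177 : Q := act 6 n8551
theorem D11177 : act 6 n8551 = n11177 := rfl
theorem F19803 : act 1 n11177 = n11161 := d10_1 D11177 (iv D11161) (iv D8531) (iv F6231) D8551
def n11178 : Q := act 0 n8552
theorem D11178 : act 0 n8552 = n11178 := rfl
theorem F19804 : act 3 n11178 = n8608 := d2_2 (iv F12759) D11178 (iv D8608)
theorem F19805 : act 4 n11178 = n8553 := d3_2 (iv F12760) D11178 (iv D8553)
def n11179 : Q := act 2 n8552
theorem D11179 : act 2 n8552 = n11179 := rfl
theorem F19806 : act 4 n11179 = n8554 := d12_2 (iv F12760) D11179 (iv D8554)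
def n11181 : Q := act 2 n8553
theorem D11181 : act 2 n8553 = n11181 := rfl
theorem F19810 : act 0 n11181 = n8554 := d1_1 D11181 (iv D8554) D8553
def n11182 : Q := act 6 n8553
theorem D11182 : act 6 n8553 = n11182 := rfl
theorem F19813 : act 5 n11182 = n11095 := d20_1 D11182 (iv D11095) F12397 D8555 F17612 F19643 F19642
def n11183 : Q := act 3 n8554
theorem D11183 : act 3 n8554 = n11183 := rfl
def n11184 : Q := act 6 n8554
theorem D11184 : act 6 n8554 = n11184 := rfl
theorem F19814 : act 2 n11184 = n8555 := d14_1 D11184 (iv D8555) D8554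
def n11185 : Q := act 0 n8559
theorem D11185 : act 0 n8559 = n11185 := rfl
theorem F19815 : act 3 n11185 = n9870 := d2_2 (iv F12773) D11185 (iv D9870)
def n11186 : Q := act 4 n8559
theorem D11186 : act 4 n8559 = n11186 := rfl
theorem F19816 : act 1 n11186 = n8560 := d8_1 D11186 (iv D8560) D8559
def n11187 : Q := act 5 n8559
theorem D11187 : act 5 n8559 = n11187 := rfl
theorem F19817 : act 1 n11187 = n11150 := d9_1 D11187 (iv D11150) (iv D8524) (iv F6242) D8559
theorem F19818 : act 3 n11187 = n9872 := d16_1 D11187 (iv D9872) (iv F12773)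
def n11188 : Q := act 6 n8559
theorem D11188 : act 6 n8559 = n11188 := rfl
theorem F19819 : act 1 n11188 = n9854 := d10_1 D11188 (iv D9854) (iv D4861) (iv F6243) D8559
theorem F19820 : act 3 n11188 = n9864 := d17_1 D11188 F17542 (iv F12773)
def n11189 : Q := act 3 n8560
theorem D11189 : act 3 n8560 = n11189 := rfl
theorem F19821 : act 0 n11189 = n9867 := d2_1 D11189 F17549 (iv F12774)
theorem F19822 : act 4 n11189 = n9867 := d15_2 D8560 D11189 F17549 F7414 (iv F6244)
theorem F19823 : act 5 n11189 = n11146 := d16_2 (iv F12776) D11189 F19765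
theorem F19824 : act 6 n11189 = n9855 := d17_2 (iv F12777) D11189 (iv D9855)
theorem F19825 : act 2 n11189 = n11146 := d21_2 (iv F12775) D11189 F19765 F12713 F6201 F3144 (iv F3703) (iv F6245)
def n11190 : Q := act 5 n8561
theorem D11190 : act 5 n8561 = n11190 := rfl
theorem F19826 : act 0 n11190 = n8563 := d4_1 D11190 (iv D8563) D8561
theorem F19827 : act 4 n11190 = n8566 := d18_1 D11190 (iv D8566) (iv F12778)
theorem F19828 : act 6 n11190 = n11110 := d20_2 F19680 D11190 (iv D11110) F12510 D8563 (iv F17331) (iv F19681)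
theorem F19829 : act 1 n10367 = n11190 := d8_3 F19827 (iv F17122) D10367
def n11191 : Q := act 3 n8562
theorem D11191 : act 3 n8562 = n11191 := rfl
theorem F19830 : act 1 n11191 = n9907 := d7_1 D11191 F17604 (iv F12779)
theorem F19831 : act 4 n11191 = n9911 := d15_2 (iv F12780) D11191 F17611 F7495 F17316
def n11192 : Q := act 6 n8608
theorem D11192 : act 6 n8608 = n11192 := rfl
theorem F19834 : act 2 n11192 = n11190 := d14_1 D11192 F19828 F19688
theorem F19836 : act 5 n11192 = n11123 := d20_1 D11192 (iv D11123) F12638 D8610 F17338 (iv F19685) (iv F19686)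
def n11193 : Q := act 3 n8609
theorem D11193 : act 3 n8609 = n11193 := rfl
theorem F19838 : act 1 n11193 = n9874 := d7_1 D11193 F17557 F17314
theorem F19839 : act 4 n11193 = n9878 := d15_2 (iv F12838) D11193 F17564 F7428 F17325
def n11194 : Q := act 0 n8746
theorem D11194 : act 0 n8746 = n11194 := rfl
theorem F19841 : act 2 n11194 = n8798 := d1_2 (iv F13054) D11194 (iv D8798)
theorem F19842 : act 3 n11194 = n10633 := d2_2 F16011 D11194 (iv D10633)
theorem F19843 : act 4 n11194 = n8767 := d3_2 (iv F13055) D11194 (iv D8767)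
theorem F19844 : act 1 n9943 = n11194 := d8_3 F19843 (iv F16051) (iv F17675)
def n11195 : Q := act 5 n8746
theorem D11195 : act 5 n8746 = n11195 := rfl
theorem F19845 : act 1 n11195 = n11195 := d9_1 D11195 (iv D11195) (iv D8746) F15450 D8746
theorem F19846 : act 2 n11195 = n8800 := d13_1 D11195 (iv D8800) (iv F13054)
theorem F19847 : act 3 n11195 = n10634 := d16_1 D11195 (iv D10634) F16011
theorem F19848 : act 4 n11195 = n8769 := d18_1 D11195 (iv D8769) (iv F13055)
def n11196 : Q := act 6 n8746
theorem D11196 : act 6 n8746 = n11196 := rfl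
theorem F19849 : act 1 n11196 = n11196 := d10_1 D11196 (iv D11196) (iv D8746) F17197 D8746
theorem F19850 : act 2 n11196 = n8801 := d14_1 D11196 (iv D8801) (iv F13054)
theorem F19851 : act 3 n11196 = n10635 := d17_1 D11196 (iv D10635) F16011
theorem F19852 : act 4 n11196 = n8770 := d19_1 D11196 (iv D8770) (iv F13055)
def n11197 : Q := act 3 n8767
theorem D11197 : act 3 n8767 = n11197 := rfl
theorem F19853 : act 0 n11197 = n8768 := d2_1 D11197 (iv D8768) D8767
theorem F19854 : act 1 n11197 = n10097 := d7_1 D11197 (iv D10097) F16051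
theorem F19855 : act 4 n11197 = n10637 := d15_2 F19843 D11197 (iv D10637) (iv F18870) (iv F19842)
def n11198 : Q := act 5 n8767
theorem D11198 : act 5 n8767 = n11198 := rfl
theorem F19856 : act 0 n11198 = n8769 := d4_1 D11198 (iv D8769) D8767
theorem F19857 : act 2 n11198 = n8845 := d13_1 D11198 (iv D8845) (iv F13094)
def n11199 : Q := act 6 n8767
theorem D11199 : act 6 n8767 = n11199 := rfl
theorem F19858 : act 0 n11199 = n8770 := d5_1 D11199 (iv D8770) D8767
theorem F19859 : act 2 n11199 = n8846 := d14_1 D11199 (iv D8846) (iv F13094)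
def n11200 : Q := act 2 n8768
theorem D11200 : act 2 n8768 = n11200 := rfl
theorem F19860 : act 1 n11200 = n11200 := d6_1 D11200 (iv D11200) F13095 F15693 (iv F13095)
theorem F19861 : act 4 n11200 = n10640 := d12_2 (iv F16013) D11200 (iv D10640)
def n11201 : Q := act 5 n8768
theorem D11201 : act 5 n8768 = n11201 := rfl
theorem F19862 : act 1 n11201 = n11201 := d9_1 D11201 (iv D11201) F13095 F15498 (iv F13095)
theorem F19863 : act 3 n11201 = n8769 := d16_1 D11201 (iv D8769) D8768
theorem F19864 : act 4 n11201 = n10641 := d18_1 D11201 (iv D10641) (iv F16013)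
def n11202 : Q := act 6 n8768
theorem D11202 : act 6 n8768 = n11202 := rfl
theorem F19865 : act 1 n11202 = n11202 := d10_1 D11202 (iv D11202) F13095 F17200 (iv F13095)
theorem F19866 : act 3 n11202 = n8770 := d17_1 D11202 (iv D8770) D8768
theorem F19867 : act 4 n11202 = n10642 := d19_1 D11202 (iv D10642) (iv F16013)
def n11203 : Q := act 6 n8769
theorem D11203 : act 6 n8769 = n11203 := rfl
theorem F19868 : act 2 n11203 = n8852 := d14_1 D11203 (iv D8852) (iv F13096)
theorem F19869 : act 5 n11203 = n11199 := d22_2 D8769 D11203 (iv D11199) (iv D8767)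
def n11204 : Q := act 5 n8770
theorem D11204 : act 5 n8770 = n11204 := rfl
theorem F19870 : act 0 n11204 = n11203 := d4_1 D11204 F19869 F19858
theorem F19871 : act 2 n11204 = n8854 := d13_1 D11204 (iv D8854) (iv F13097)
theorem F19872 : act 6 n11204 = n11198 := d20_2 D8770 D11204 (iv D11198) D11199 (iv F19869) (iv D11203) (iv D8769)
def n11205 : Q := act 1 n8798
theorem D11205 : act 1 n8798 = n11205 := rfl
theorem F19873 : act 0 n11205 = n8799 := d0_1 D11205 F13144 F6452 (iv F16035) (iv D4305) (iv D2068) (iv F3244) D4237 D8798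
theorem F19874 : act 2 n11205 = n9300 := d6_2 F19841 D11205 F13886 D9943 F19844
theorem F19875 : act 4 n11205 = n8843 := d8_2 (iv F13143) D11205 (iv D8843)
theorem F19876 : act 3 n8798 = n11205 := d25_16 D991 D2014 D4204 F16010 (iv D3233) F2592 (iv D794) F15496 D794 D1592 D3280 D6804 D10649 F18903 (iv F19874) (iv D11205) F19874 (iv F18903) (iv D10649) F10227 (iv D3281) (iv D1592) (iv D794) F15496 (iv F1425) (iv D784) (iv D400) F411 D400 D783 F15602 D1566 F15650 (iv D1566) (iv D783) F782 (iv D203) (iv D96) (iv D43) F15658 (iv D11) D12 D26 D58 F126 F79 (iv D32) (iv D15) (iv D7) F21 (iv D4) F18 D5 F26 (iv D5) (iv D3) F13 (iv D2) F9 D2 D3 D4 D7 D15 D32 (iv F126) (iv F264) (iv D128) (iv F231) D228 (iv F863) F15248 (iv D443) F467 D258 F526 (iv F964)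
def n11206 : Q := act 5 n8798
theorem D11206 : act 5 n8798 = n11206 := rfl
theorem F19877 : act 0 n11206 = n8800 := d4_1 D11206 (iv D8800) D8798
theorem F19878 : act 4 n11206 = n8845 := d18_1 D11206 (iv D8845) (iv F13143)
def n11207 : Q := act 6 n8798
theorem D11207 : act 6 n8798 = n11207 := rfl
theorem F19879 : act 0 n11207 = n8801 := d5_1 D11207 (iv D8801) D8798
theorem F19880 : act 4 n11207 = n8846 := d19_1 D11207 (iv D8846) (iv F13143)
def n11208 : Q := act 5 n8799
theorem D11208 : act 5 n8799 = n11208 := rfl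
theorem F19881 : act 2 n11208 = n9303 := d13_1 D11208 (iv D9303) (iv F16046)
theorem F19882 : act 3 n11208 = n8800 := d16_1 D11208 (iv D8800) D8799
theorem F19883 : act 4 n11208 = n9545 := d18_1 D11208 (iv D9545) (iv F16047)
def n11209 : Q := act 6 n8799
theorem D11209 : act 6 n8799 = n11209 := rfl
theorem F19884 : act 2 n11209 = n9304 := d14_1 D11209 (iv D9304) (iv F16046)
theorem F19885 : act 3 n11209 = n8801 := d17_1 D11209 (iv D8801) D8799
theorem F19886 : act 4 n11209 = n9546 := d19_1 D11209 (iv D9546) (iv F16047)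
def n11210 : Q := act 1 n8800
theorem D11210 : act 1 n8800 = n11210 := rfl
theorem F19887 : act 2 n11210 = n11210 := d6_2 F19846 D11210 (iv D11210) (iv F19846) F19845
theorem F19888 : act 4 n11210 = n8851 := d8_2 (iv F13145) D11210 (iv D8851)
theorem F19889 : act 5 n11210 = n8805 := d9_2 D8800 D11210 (iv D8805) (iv D4239) D4237
def n11211 : Q := act 6 n8800
theorem D11211 : act 6 n8800 = n11211 := rfl
theorem F19890 : act 4 n11211 = n8852 := d19_1 D11211 (iv D8852) (iv F13145)
theorem F19891 : act 5 n11211 = n11207 := d22_2 D8800 D11211 (iv D11207) (iv D8798)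
def n11212 : Q := act 1 n8801
theorem D11212 : act 1 n8801 = n11212 := rfl
theorem F19892 : act 2 n11212 = n11212 := d6_2 F19850 D11212 (iv D11212) (iv F19850) F19849
theorem F19893 : act 4 n11212 = n8853 := d8_2 (iv F13146) D11212 (iv D8853)
theorem F19894 : act 6 n11212 = n8806 := d10_2 D8801 D11212 (iv D8806) (iv D4240) D4237
def n11213 : Q := act 5 n8801
theorem D11213 : act 5 n8801 = n11213 := rfl
theorem F19895 : act 0 n11213 = n11211 := d4_1 D11213 F19891 F19879
theorem F19896 : act 4 n11213 = n8854 := d18_1 D11213 (iv D8854) (iv F13146)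
theorem F19897 : act 6 n11213 = n11206 := d20_2 D8801 D11213 (iv D11206) D11207 (iv F19891) (iv D11211) (iv D8800)
def n11214 : Q := act 5 n8802
theorem D11214 : act 5 n8802 = n11214 := rfl
theorem F19898 : act 0 n11214 = n8928 := d4_1 D11214 (iv D8928) (iv F13147)
theorem F19899 : act 2 n11214 = n8928 := d13_1 D11214 (iv D8928) (iv F13148)
theorem F19900 : act 3 n11214 = n8855 := d16_1 D11214 (iv D8855) (iv F13149)
theorem F19901 : act 4 n11214 = n8803 := d18_1 D11214 (iv D8803) D8802
def n11215 : Q := act 6 n8802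
theorem D11215 : act 6 n8802 = n11215 := rfl
theorem F19902 : act 0 n11215 = n8929 := d5_1 D11215 (iv D8929) (iv F13147)
theorem F19903 : act 2 n11215 = n8929 := d14_1 D11215 (iv D8929) (iv F13148)
theorem F19904 : act 3 n11215 = n8856 := d17_1 D11215 (iv D8856) (iv F13149)
theorem F19905 : act 4 n11215 = n8804 := d19_1 D11215 (iv D8804) D8802
def n11216 : Q := act 1 n8803
theorem D11216 : act 1 n8803 = n11216 := rfl
theorem F19906 : act 3 n11216 = n8805 := d7_2 (iv F13152) D11216 (iv D8805)
def n11217 : Q := act 1 n8804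
theorem D11217 : act 1 n8804 = n11217 := rfl
theorem F19907 : act 3 n11217 = n8806 := d7_2 (iv F13155) D11217 (iv D8806)
def n11218 : Q := act 0 n8805
theorem D11218 : act 0 n8805 = n11218 := rfl
theorem F19908 : act 2 n11218 = n11218 := d1_2 F16249 D11218 (iv D11218)
theorem F19909 : act 4 n11218 = n8859 := d3_2 (iv F13156) D11218 (iv D8859)
def n11219 : Q := act 6 n8805
theorem D11219 : act 6 n8805 = n11219 := rfl
theorem F19910 : act 2 n11219 = n11219 := d14_1 D11219 (iv D11219) F16249
theorem F19911 : act 4 n11219 = n8861 := d19_1 D11219 (iv D8861) (iv F13156)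
def n11220 : Q := act 0 n8806
theorem D11220 : act 0 n8806 = n11220 := rfl
theorem F19912 : act 2 n11220 = n11220 := d1_2 F17422 D11220 (iv D11220)
theorem F19913 : act 4 n11220 = n8862 := d3_2 (iv F13157) D11220 (iv D8862)
def n11221 : Q := act 5 n8806
theorem D11221 : act 5 n8806 = n11221 := rfl
theorem F19914 : act 2 n11221 = n11221 := d13_1 D11221 (iv D11221) F17422
theorem F19915 : act 4 n11221 = n8864 := d18_1 D11221 (iv D8864) (iv F13157)
def n11222 : Q := act 3 n8843
theorem D11222 : act 3 n8843 = n11222 := rfl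
theorem F19916 : act 0 n11222 = n8848 := d2_1 D11222 F16048 (iv F16049)
theorem F19917 : act 1 n11222 = n8844 := d7_1 D11222 (iv D8844) D8843
theorem F19918 : act 4 n11222 = n8844 := d15_2 F19875 D11222 (iv D8844) (iv F13143) F19876
def n11223 : Q := act 5 n8843
theorem D11223 : act 5 n8843 = n11223 := rfl
theorem F19919 : act 0 n11223 = n9545 := d4_1 D11223 (iv D9545) (iv F16049)
theorem F19920 : act 2 n11223 = n9542 := d13_1 D11223 (iv D9542) (iv F16050)
def n11224 : Q := act 6 n8843
theorem D11224 : act 6 n8843 = n11224 := rfl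
theorem F19921 : act 0 n11224 = n9546 := d5_1 D11224 (iv D9546) (iv F16049)
theorem F19922 : act 2 n11224 = n9543 := d14_1 D11224 (iv D9543) (iv F16050)
def n11225 : Q := act 2 n8844
theorem D11225 : act 2 n8844 = n11225 := rfl
theorem F19923 : act 0 n11225 = n8847 := d1_1 D11225 (iv D8847) (iv F13222)
def n11226 : Q := act 5 n8844
theorem D11226 : act 5 n8844 = n11226 := rfl
theorem F19924 : act 0 n11226 = n8849 := d4_1 D11226 (iv D8849) (iv F13222)
theorem F19925 : act 3 n11226 = n8845 := d16_1 D11226 (iv D8845) D8844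
def n11227 : Q := act 6 n8844
theorem D11227 : act 6 n8844 = n11227 := rfl
theorem F19926 : act 0 n11227 = n8850 := d5_1 D11227 (iv D8850) (iv F13222)
theorem F19927 : act 3 n11227 = n8846 := d17_1 D11227 (iv D8846) D8844
def n11228 : Q := act 1 n8845
theorem D11228 : act 1 n8845 = n11228 := rfl
def n11229 : Q := act 1 n8846
theorem D11229 : act 1 n8846 = n11229 := rfl
def n11230 : Q := act 3 n8847
theorem D11230 : act 3 n8847 = n11230 := rfl
theorem F19928 : act 1 n11230 = n10740 := d7_1 D11230 (iv D10740) (iv F13225)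
def n11231 : Q := act 4 n8847
theorem D11231 : act 4 n8847 = n11231 := rfl
theorem F19929 : act 1 n11231 = n10741 := d8_1 D11231 (iv D10741) (iv F13225)
theorem F19930 : act 2 n11231 = n8848 := d12_1 D11231 (iv D8848) D8847
def n11232 : Q := act 5 n8847
theorem D11232 : act 5 n8847 = n11232 := rfl
theorem F19931 : act 2 n11232 = n8849 := d13_1 D11232 (iv D8849) D8847
def n11233 : Q := act 6 n8847
theorem D11233 : act 6 n8847 = n11233 := rfl
theorem F19932 : act 2 n11233 = n8850 := d14_1 D11233 (iv D8850) D8847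
def n11234 : Q := act 5 n8848
theorem D11234 : act 5 n8848 = n11234 := rfl
theorem F19933 : act 3 n11234 = n9545 := d16_1 D11234 (iv D9545) (iv F16048)
theorem F19934 : act 4 n11234 = n8849 := d18_1 D11234 (iv D8849) D8848
def n11235 : Q := act 6 n8848
theorem D11235 : act 6 n8848 = n11235 := rfl
theorem F19935 : act 3 n11235 = n9546 := d17_1 D11235 (iv D9546) (iv F16048)
theorem F19936 : act 4 n11235 = n8850 := d19_1 D11235 (iv D8850) D8848
def n11236 : Q := act 1 n8849
theorem D11236 : act 1 n8849 = n11236 := rfl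
theorem F19937 : act 3 n11236 = n8851 := d7_2 (iv F13227) D11236 (iv D8851)
theorem F19938 : act 5 n11236 = n8857 := d9_2 D8849 D11236 (iv D8857) (iv D4266) (iv F6498)
def n11237 : Q := act 6 n8849
theorem D11237 : act 6 n8849 = n11237 := rfl
theorem F19939 : act 3 n11237 = n8852 := d17_1 D11237 (iv D8852) (iv F13227)
theorem F19940 : act 5 n11237 = n11227 := d22_2 D8849 D11237 (iv D11227) F13222
def n11238 : Q := act 1 n8850
theorem D11238 : act 1 n8850 = n11238 := rfl
theorem F19941 : act 3 n11238 = n8853 := d7_2 (iv F13228) D11238 (iv D8853)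
theorem F19942 : act 6 n11238 = n8858 := d10_2 D8850 D11238 (iv D8858) (iv D4267) (iv F6498)
def n11239 : Q := act 5 n8850
theorem D11239 : act 5 n8850 = n11239 := rfl
theorem F19943 : act 0 n11239 = n11237 := d4_1 D11239 F19940 F19926
theorem F19944 : act 3 n11239 = n8854 := d16_1 D11239 (iv D8854) (iv F13228)
theorem F19945 : act 6 n11239 = n11226 := d20_2 D8850 D11239 (iv D11226) D11227 (iv F19940) (iv D11237) (iv D8849)
def n11240 : Q := act 0 n8851
theorem D11240 : act 0 n8851 = n11240 := rfl
theorem F19946 : act 2 n11240 = n11240 := d1_2 F16195 D11240 (iv D11240)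
theorem F19947 : act 5 n11240 = n8859 := d4_2 (iv F13229) D11240 (iv D8859)
def n11241 : Q := act 6 n8851
theorem D11241 : act 6 n8851 = n11241 := rfl
theorem F19948 : act 2 n11241 = n11241 := d14_1 D11241 (iv D11241) F16195
def n11242 : Q := act 1 n8852
theorem D11242 : act 1 n8852 = n11242 := rfl
def n11243 : Q := act 0 n8853
theorem D11243 : act 0 n8853 = n11243 := rfl
theorem F19949 : act 2 n11243 = n11243 := d1_2 F17253 D11243 (iv D11243)
theorem F19950 : act 6 n11243 = n8862 := d5_2 (iv F13231) D11243 (iv D8862)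
def n11244 : Q := act 5 n8853
theorem D11244 : act 5 n8853 = n11244 := rfl
theorem F19951 : act 2 n11244 = n11244 := d13_1 D11244 (iv D11244) F17253
def n11245 : Q := act 1 n8854
theorem D11245 : act 1 n8854 = n11245 := rfl
def n11246 : Q := act 1 n8855
theorem D11246 : act 1 n8855 = n11246 := rfl
theorem F19952 : act 4 n11246 = n8857 := d8_2 (iv F13236) D11246 (iv D8857)
def n11247 : Q := act 1 n8856
theorem D11247 : act 1 n8856 = n11247 := rfl
theorem F19953 : act 4 n11247 = n8858 := d8_2 (iv F13239) D11247 (iv D8858)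
def n11248 : Q := act 0 n8857
theorem D11248 : act 0 n8857 = n11248 := rfl
theorem F19954 : act 3 n11248 = n8859 := d2_2 (iv F13240) D11248 (iv D8859)
def n11249 : Q := act 2 n8857
theorem D11249 : act 2 n8857 = n11249 := rfl
theorem F19955 : act 1 n11249 = n10763 := d6_1 D11249 (iv D10763) (iv D7747) (iv F6502) D8857
def n11250 : Q := act 6 n8857
theorem D11250 : act 6 n8857 = n11250 := rfl
theorem F19956 : act 3 n11250 = n8861 := d17_1 D11250 (iv D8861) (iv F13240)
def n11251 : Q := act 0 n8858
theorem D11251 : act 0 n8858 = n11251 := rfl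
theorem F19957 : act 3 n11251 = n8862 := d2_2 (iv F13241) D11251 (iv D8862)
def n11252 : Q := act 2 n8858
theorem D11252 : act 2 n8858 = n11252 := rfl
theorem F19958 : act 1 n11252 = n10767 := d6_1 D11252 (iv D10767) (iv D7749) (iv F6505) D8858
def n11253 : Q := act 5 n8858
theorem D11253 : act 5 n8858 = n11253 := rfl
theorem F19959 : act 3 n11253 = n8864 := d16_1 D11253 (iv D8864) (iv F13241)
def n11254 : Q := act 1 n8859
theorem D11254 : act 1 n8859 = n11254 := rfl
def n11255 : Q := act 6 n8859
theorem D11255 : act 6 n8859 = n11255 := rfl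
theorem F19960 : act 0 n11255 = n8861 := d5_1 D11255 (iv D8861) D8859
theorem F19961 : act 2 n11255 = n11255 := d14_1 D11255 (iv D11255) F16248
theorem F19962 : act 5 n11255 = n11241 := d22_2 F19947 D11255 (iv D11241) D11240
def n11256 : Q := act 5 n8861
theorem D11256 : act 5 n8861 = n11256 := rfl
theorem F19963 : act 0 n11256 = n11241 := d4_1 D11256 (iv F19962) F19960
theorem F19964 : act 2 n11256 = n11256 := d13_1 D11256 (iv D11256) F16250
theorem F19965 : act 6 n11256 = n11240 := d20_2 D8861 D11256 F19947 D11255 F19962 (iv D11241) F13229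
def n11257 : Q := act 1 n8862
theorem D11257 : act 1 n8862 = n11257 := rfl
def n11258 : Q := act 5 n8862
theorem D11258 : act 5 n8862 = n11258 := rfl
theorem F19966 : act 0 n11258 = n8864 := d4_1 D11258 (iv D8864) D8862
theorem F19967 : act 2 n11258 = n11258 := d13_1 D11258 (iv D11258) F17421
theorem F19968 : act 6 n11258 = n11244 := d22_1 D11258 (iv D11244) F13231 D8862
def n11259 : Q := act 6 n8864
theorem D11259 : act 6 n8864 = n11259 := rfl
theorem F19969 : act 0 n11259 = n11244 := d5_1 D11259 (iv F19968) F19966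
theorem F19970 : act 2 n11259 = n11259 := d14_1 D11259 (iv D11259) F17423
theorem F19971 : act 5 n11259 = n11243 := d20_1 D11259 F19950 D11258 F19968 (iv D11244) F13231 D8864
def n11260 : Q := act 1 n8918
theorem D11260 : act 1 n8918 = n11260 := rfl
theorem F19972 : act 3 n11260 = n8924 := d7_2 (iv F16037) D11260 (iv D8924)
theorem F19973 : act 4 n11260 = n9056 := d8_2 (iv F13345) D11260 (iv D9056)
theorem F19974 : act 5 n11260 = n8930 := d9_2 D8918 D11260 (iv D8930) (iv D4310) (iv F16035)
def n11261 : Q := act 1 n8919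
theorem D11261 : act 1 n8919 = n11261 := rfl
theorem F19975 : act 3 n11261 = n8926 := d7_2 (iv F16038) D11261 (iv D8926)
theorem F19976 : act 4 n11261 = n9057 := d8_2 (iv F13348) D11261 (iv D9057)
theorem F19977 : act 6 n11261 = n8932 := d10_2 D8919 D11261 (iv D8932) (iv D4311) (iv F16035)
def n11262 : Q := act 0 n8924
theorem D11262 : act 0 n8924 = n11262 := rfl
theorem F19978 : act 4 n11262 = n9064 := d3_2 (iv F13353) D11262 (iv D9064)
theorem F19979 : act 5 n11262 = n8934 := d4_2 (iv F13354) D11262 (iv D8934)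
def n11263 : Q := act 2 n8924
theorem D11263 : act 2 n8924 = n11263 := rfl
theorem F19980 : act 1 n11263 = n9318 := d6_1 D11263 (iv D9318) (iv D4510) (iv F6562) D8924
theorem F19981 : act 4 n11263 = n9065 := d12_2 (iv F13353) D11263 (iv D9065)
theorem F19982 : act 5 n11263 = n8935 := d13_2 (iv F13354) D11263 (iv D8935)
def n11264 : Q := act 6 n8924
theorem D11264 : act 6 n8924 = n11264 := rfl
theorem F19983 : act 4 n11264 = n9066 := d19_1 D11264 (iv D9066) (iv F13353)
def n11265 : Q := act 1 n8925
theorem D11265 : act 1 n8925 = n11265 := rfl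
theorem F19984 : act 4 n11265 = n9067 := d8_2 (iv F13356) D11265 (iv D9067)
def n11266 : Q := act 0 n8926
theorem D11266 : act 0 n8926 = n11266 := rfl
theorem F19985 : act 4 n11266 = n9068 := d3_2 (iv F13358) D11266 (iv D9068)
theorem F19986 : act 6 n11266 = n8938 := d5_2 (iv F13359) D11266 (iv D8938)
def n11267 : Q := act 2 n8926
theorem D11267 : act 2 n8926 = n11267 := rfl
theorem F19987 : act 1 n11267 = n9322 := d6_1 D11267 (iv D9322) (iv D4512) (iv F6564) D8926
theorem F19988 : act 4 n11267 = n9069 := d12_2 (iv F13358) D11267 (iv D9069)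
theorem F19989 : act 6 n11267 = n8939 := d14_2 (iv F13359) D11267 (iv D8939)
def n11268 : Q := act 5 n8926
theorem D11268 : act 5 n8926 = n11268 := rfl
theorem F19990 : act 4 n11268 = n9070 := d18_1 D11268 (iv D9070) (iv F13358)
def n11269 : Q := act 1 n8927
theorem D11269 : act 1 n8927 = n11269 := rfl
theorem F19991 : act 3 n11269 = n11265 := d7_2 (iv F16039) D11269 (iv D11265)
theorem F19992 : act 4 n11269 = n9071 := d8_2 (iv F13362) D11269 (iv D9071)
def n11270 : Q := act 1 n8928
theorem D11270 : act 1 n8928 = n11270 := rfl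
theorem F19993 : act 3 n11270 = n9081 := d7_2 (iv F13364) D11270 (iv D9081)
theorem F19994 : act 4 n11270 = n8930 := d8_2 (iv F13365) D11270 (iv D8930)
theorem F19995 : act 5 n11270 = n9056 := d9_2 D8928 D11270 (iv D9056) (iv D4376) F16031
def n11271 : Q := act 6 n8928
theorem D11271 : act 6 n8928 = n11271 := rfl
theorem F19996 : act 3 n11271 = n9082 := d17_1 D11271 (iv D9082) (iv F13364)
theorem F19997 : act 4 n11271 = n8931 := d19_1 D11271 (iv D8931) (iv F13365)
theorem F19998 : act 5 n11271 = n11215 := d22_2 D8928 D11271 (iv D11215) F13147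
def n11272 : Q := act 1 n8929
theorem D11272 : act 1 n8929 = n11272 := rfl
theorem F19999 : act 3 n11272 = n9083 := d7_2 (iv F13366) D11272 (iv D9083)
theorem F20000 : act 4 n11272 = n8932 := d8_2 (iv F13367) D11272 (iv D8932)
theorem F20001 : act 6 n11272 = n9057 := d10_2 D8929 D11272 (iv D9057) (iv D4377) F16031
def n11273 : Q := act 5 n8929
theorem D11273 : act 5 n8929 = n11273 := rfl
theorem F20002 : act 0 n11273 = n11271 := d4_1 D11273 F19998 F19902
theorem F20003 : act 2 n11273 = n11271 := d13_1 D11273 F19998 F19903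
theorem F20004 : act 3 n11273 = n9084 := d16_1 D11273 (iv D9084) (iv F13366)
theorem F20005 : act 4 n11273 = n8933 := d18_1 D11273 (iv D8933) (iv F13367)
theorem F20006 : act 6 n11273 = n11214 := d20_2 D8929 D11273 (iv D11214) D11215 (iv F19998) (iv D11271) (iv D8928)
def n11274 : Q := act 0 n8930
theorem D11274 : act 0 n8930 = n11274 := rfl
theorem F20007 : act 3 n11274 = n8934 := d2_2 (iv F13368) D11274 (iv D8934)
def n11275 : Q := act 2 n8930
theorem D11275 : act 2 n8930 = n11275 := rfl
def n11276 : Q := act 6 n8930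
theorem D11276 : act 6 n8930 = n11276 := rfl
theorem F20008 : act 3 n11276 = n8936 := d17_1 D11276 (iv D8936) (iv F13368)
def n11277 : Q := act 1 n8931
theorem D11277 : act 1 n8931 = n11277 := rfl
theorem F20009 : act 3 n11277 = n8937 := d7_2 (iv F13369) D11277 (iv D8937)
def n11278 : Q := act 0 n8932
theorem D11278 : act 0 n8932 = n11278 := rfl
theorem F20010 : act 3 n11278 = n8938 := d2_2 (iv F13371) D11278 (iv D8938)
def n11279 : Q := act 2 n8932
theorem D11279 : act 2 n8932 = n11279 := rfl
def n11280 : Q := act 5 n8932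
theorem D11280 : act 5 n8932 = n11280 := rfl
theorem F20011 : act 3 n11280 = n8940 := d16_1 D11280 (iv D8940) (iv F13371)
def n11281 : Q := act 1 n8933
theorem D11281 : act 1 n8933 = n11281 := rfl
theorem F20012 : act 3 n11281 = n8941 := d7_2 (iv F13374) D11281 (iv D8941)
def n11282 : Q := act 1 n8934
theorem D11282 : act 1 n8934 = n11282 := rfl
theorem F20013 : act 4 n11282 = n9093 := d8_2 (iv F13376) D11282 (iv D9093)
def n11283 : Q := act 2 n8934
theorem D11283 : act 2 n8934 = n11283 := rfl
theorem F20014 : act 0 n11283 = n8935 := d1_1 D11283 (iv D8935) D8934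
theorem F20015 : act 4 n11283 = n9094 := d12_2 (iv F13376) D11283 (iv D9094)
def n11284 : Q := act 6 n8934
theorem D11284 : act 6 n8934 = n11284 := rfl
theorem F20016 : act 0 n11284 = n8936 := d5_1 D11284 (iv D8936) D8934
theorem F20017 : act 4 n11284 = n9095 := d19_1 D11284 (iv D9095) (iv F13376)
theorem F20018 : act 5 n11284 = n11264 := d22_2 F19979 D11284 (iv D11264) D11262
def n11285 : Q := act 3 n8935
theorem D11285 : act 3 n8935 = n11285 := rfl
theorem F20019 : act 1 n11285 = n8944 := d7_1 D11285 (iv D8944) (iv F13377)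
def n11286 : Q := act 6 n8935
theorem D11286 : act 6 n8935 = n11286 := rfl
theorem F20020 : act 2 n11286 = n8936 := d14_1 D11286 (iv D8936) D8935
theorem F20021 : act 4 n11286 = n9097 := d19_1 D11286 (iv D9097) (iv F13378)
def n11287 : Q := act 1 n8936
theorem D11287 : act 1 n8936 = n11287 := rfl
theorem F20022 : act 4 n11287 = n9098 := d8_2 (iv F13379) D11287 (iv D9098)
theorem F20023 : act 6 n11287 = n8937 := d10_2 D8936 D11287 (iv D8937) (iv D4313) D4312
def n11288 : Q := act 5 n8936
theorem D11288 : act 5 n8936 = n11288 := rfl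
theorem F20024 : act 0 n11288 = n11264 := d4_1 D11288 (iv F20018) F20016
theorem F20025 : act 4 n11288 = n9099 := d18_1 D11288 (iv D9099) (iv F13379)
theorem F20026 : act 6 n11288 = n11262 := d20_2 D8936 D11288 F19979 D11284 F20018 (iv D11264) F13354
def n11289 : Q := act 0 n8937
theorem D11289 : act 0 n8937 = n11289 := rfl
theorem F20027 : act 4 n11289 = n9100 := d3_2 (iv F13380) D11289 (iv D9100)
def n11290 : Q := act 2 n8937
theorem D11290 : act 2 n8937 = n11290 := rfl
theorem F20028 : act 1 n11290 = n8948 := d6_1 D11290 (iv D8948) (iv D4319) (iv F6570) D8937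
theorem F20029 : act 4 n11290 = n9101 := d12_2 (iv F13380) D11290 (iv D9101)
def n11291 : Q := act 5 n8937
theorem D11291 : act 5 n8937 = n11291 := rfl
theorem F20030 : act 1 n11291 = n11221 := d9_1 D11291 (iv D11221) (iv D8806) (iv F6572) D8937
theorem F20031 : act 4 n11291 = n9102 := d18_1 D11291 (iv D9102) (iv F13380)
def n11292 : Q := act 1 n8938
theorem D11292 : act 1 n8938 = n11292 := rfl
theorem F20032 : act 4 n11292 = n9103 := d8_2 (iv F13381) D11292 (iv D9103)
def n11293 : Q := act 2 n8938
theorem D11293 : act 2 n8938 = n11293 := rfl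
theorem F20033 : act 0 n11293 = n8939 := d1_1 D11293 (iv D8939) D8938
theorem F20034 : act 4 n11293 = n9104 := d12_2 (iv F13381) D11293 (iv D9104)
def n11294 : Q := act 5 n8938
theorem D11294 : act 5 n8938 = n11294 := rfl
theorem F20035 : act 0 n11294 = n8940 := d4_1 D11294 (iv D8940) D8938
theorem F20036 : act 4 n11294 = n9105 := d18_1 D11294 (iv D9105) (iv F13381)
theorem F20037 : act 6 n11294 = n11268 := d22_1 D11294 (iv D11268) F13359 D8938
def n11295 : Q := act 3 n8939
theorem D11295 : act 3 n8939 = n11295 := rfl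
theorem F20038 : act 1 n11295 = n8952 := d7_1 D11295 (iv D8952) (iv F13382)
def n11296 : Q := act 5 n8939
theorem D11296 : act 5 n8939 = n11296 := rfl
theorem F20039 : act 2 n11296 = n8940 := d13_1 D11296 (iv D8940) D8939
theorem F20040 : act 4 n11296 = n9107 := d18_1 D11296 (iv D9107) (iv F13383)
def n11297 : Q := act 1 n8940
theorem D11297 : act 1 n8940 = n11297 := rfl
theorem F20041 : act 4 n11297 = n9108 := d8_2 (iv F13384) D11297 (iv D9108)
theorem F20042 : act 5 n11297 = n8941 := d9_2 D8940 D11297 (iv D8941) (iv D4315) D4314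
def n11298 : Q := act 6 n8940
theorem D11298 : act 6 n8940 = n11298 := rfl
theorem F20043 : act 0 n11298 = n11268 := d5_1 D11298 (iv F20037) F20035
theorem F20044 : act 4 n11298 = n9109 := d19_1 D11298 (iv D9109) (iv F13384)
theorem F20045 : act 5 n11298 = n11266 := d20_1 D11298 F19986 D11294 F20037 (iv D11268) F13359 D8940
def n11299 : Q := act 0 n8941
theorem D11299 : act 0 n8941 = n11299 := rfl
theorem F20046 : act 4 n11299 = n9110 := d3_2 (iv F13385) D11299 (iv D9110)
def n11300 : Q := act 2 n8941
theorem D11300 : act 2 n8941 = n11300 := rfl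
theorem F20047 : act 1 n11300 = n8956 := d6_1 D11300 (iv D8956) (iv D4323) (iv F6575) D8941
theorem F20048 : act 4 n11300 = n9111 := d12_2 (iv F13385) D11300 (iv D9111)
def n11301 : Q := act 6 n8941
theorem D11301 : act 6 n8941 = n11301 := rfl
theorem F20049 : act 1 n11301 = n11219 := d10_1 D11301 (iv D11219) (iv D8805) (iv F6577) D8941
theorem F20050 : act 4 n11301 = n9112 := d19_1 D11301 (iv D9112) (iv F13385)
def n11302 : Q := act 4 n8944
theorem D11302 : act 4 n8944 = n11302 := rfl
theorem F20051 : act 2 n11302 = n9352 := d12_1 D11302 (iv D9352) (iv F14915)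
theorem F20052 : act 3 n11302 = n9119 := d15_1 D11302 (iv D9119) (iv D4405) (iv F6581) D8944
theorem F20053 : act 5 n11302 = n9352 := d18_2 (iv F13391) D11302 (iv D9352)
def n11303 : Q := act 2 n8947
theorem D11303 : act 2 n8947 = n11303 := rfl
theorem F20054 : act 0 n11303 = n8948 := d1_1 D11303 (iv D8948) D8947
theorem F20055 : act 4 n11303 = n9126 := d12_2 (iv F13398) D11303 (iv D9126)
theorem F20056 : act 5 n11303 = n11303 := d13_2 F17472 D11303 (iv D11303)
def n11304 : Q := act 3 n8948
theorem D11304 : act 3 n8948 = n11304 := rfl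
theorem F20057 : act 5 n11304 = n11304 := d16_2 F17466 D11304 (iv D11304)
def n11305 : Q := act 4 n8952
theorem D11305 : act 4 n8952 = n11305 := rfl
theorem F20058 : act 2 n11305 = n9366 := d12_1 D11305 (iv D9366) (iv F16766)
theorem F20059 : act 3 n11305 = n9136 := d15_1 D11305 (iv D9136) (iv D4413) (iv F6590) D8952
theorem F20060 : act 6 n11305 = n9366 := d19_2 (iv F13408) D11305 (iv D9366)
def n11306 : Q := act 2 n8955
theorem D11306 : act 2 n8955 = n11306 := rfl
theorem F20061 : act 0 n11306 = n8956 := d1_1 D11306 (iv D8956) D8955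
theorem F20062 : act 4 n11306 = n9143 := d12_2 (iv F13415) D11306 (iv D9143)
theorem F20063 : act 6 n11306 = n11306 := d14_2 F16227 D11306 (iv D11306)
def n11307 : Q := act 3 n8956
theorem D11307 : act 3 n8956 = n11307 := rfl
theorem F20064 : act 6 n11307 = n11307 := d17_2 F16191 D11307 (iv D11307)
def n11308 : Q := act 3 n8971
theorem D11308 : act 3 n8971 = n11308 := rfl
theorem F20065 : act 0 n11308 = n8972 := d2_1 D11308 (iv D8972) (iv F13445)
theorem F20066 : act 1 n11308 = n10088 := d7_1 D11308 (iv D10088) F17441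
theorem F20067 : act 5 n11308 = n11308 := d16_2 F17442 D11308 (iv D11308)
def n11309 : Q := act 2 n8972
theorem D11309 : act 2 n8972 = n11309 := rfl
theorem F20068 : act 5 n11309 = n11309 := d13_2 F17473 D11309 (iv D11309)
def n11310 : Q := act 4 n8972
theorem D11310 : act 4 n8972 = n11310 := rfl
theorem F20070 : act 3 n11310 = n9016 := d15_1 D11310 (iv D9016) (iv D4354) (iv F6608) D8972
def n11311 : Q := act 3 n8988
theorem D11311 : act 3 n8988 = n11311 := rfl
theorem F20072 : act 0 n11311 = n8989 := d2_1 D11311 (iv D8989) (iv F13479)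
theorem F20073 : act 1 n11311 = n10086 := d7_1 D11311 (iv D10086) F17020
theorem F20074 : act 6 n11311 = n11311 := d17_2 F16233 D11311 (iv D11311)
def n11312 : Q := act 2 n8989
theorem D11312 : act 2 n8989 = n11312 := rfl
theorem F20075 : act 6 n11312 = n11312 := d14_2 F16234 D11312 (iv D11312)
def n11313 : Q := act 4 n8989
theorem D11313 : act 4 n8989 = n11313 := rfl
theorem F20077 : act 3 n11313 = n9044 := d15_1 D11313 (iv D9044) (iv D4371) (iv F6623) D8989
def n11320 : Q := act 1 n9054
theorem D11320 : act 1 n9054 = n11320 := rfl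
theorem F20091 : act 3 n11320 = n9056 := d7_2 (iv F13564) D11320 (iv D9056)
theorem F20092 : act 4 n11320 = n9060 := d8_2 (iv F16032) D11320 (iv D9060)
theorem F20093 : act 5 n11320 = n9081 := d9_2 D9054 D11320 (iv D9081) (iv D4389) (iv F16029)
def n11321 : Q := act 1 n9055
theorem D11321 : act 1 n9055 = n11321 := rfl
theorem F20094 : act 3 n11321 = n9057 := d7_2 (iv F13567) D11321 (iv D9057)
theorem F20095 : act 4 n11321 = n9062 := d8_2 (iv F16033) D11321 (iv D9062)
theorem F20096 : act 6 n11321 = n9083 := d10_2 D9055 D11321 (iv D9083) (iv D4390) (iv F16029)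
def n11322 : Q := act 0 n9056
theorem D11322 : act 0 n9056 = n11322 := rfl
theorem F20097 : act 5 n11322 = n10131 := d23_4 D2224 (iv F6682) D9056 D11322 (iv D10131) (iv D5509) (iv D2656) F2171 D1293 F2178 F15071 F1205 (iv D652) (iv D330) (iv F556) (iv D278) D277 D547 D1087
theorem F20098 : act 0 n11270 = n10131 := d4_3 (iv F20097) (iv D11322) (iv F19995)
theorem F20099 : act 2 n10130 = n11270 := d1_0 F20098 (iv D10131) D10130
theorem F20100 : act 4 n10131 = n11274 := d3_2 (iv F19994) F20098 (iv D11274)
theorem F20101 : act 2 n11274 = n9983 := d12_1 F20100 F17739 D10131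
theorem F20102 : act 0 n9983 = n11275 := d1_1 F20101 (iv D11275) D11274
theorem F20103 : act 4 n11275 = n10130 := d3_2 (iv F17739) F20102 (iv D10130)
theorem F20104 : act 2 n10132 = n11322 := d13_3 F20097 (iv D10131) D10132
theorem E6990 : n10168 = n9577 := (c23_6 (iv F20097) (iv F20104) F17989 (iv F18024) (iv D10169) D10168 (iv D9577) F7058 (iv F7049) (iv D4627) (iv D2226) (iv F3523) (iv D2224) (iv F3343) F16031 (iv F13147) D11214 F19899 D11270 F20098)
theorem F20105 : act 0 n9577 = n5526 := (sb E6990 F18023)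
theorem F20106 : act 2 n9577 = n5525 := (sb E6990 (iv D10168))
theorem E6991 : n9574 = n9573 := ((c6_2 F20106 (iv F14302) (iv D9574) (iv D4634) D4635 D9577)).symm
theorem F20107 : act 2 n9573 = n4634 := (sb E6991 (iv D9574))
theorem F20108 : act 2 n10172 = n10172 := d21_6 F20106 (iv F14303) F20107 F7057 D5526 D10172 (iv D10172) (iv F20105)
def n11323 : Q := act 2 n9056
theorem D11323 : act 2 n9056 = n11323 := rfl
theorem F20109 : act 0 n11323 = n10132 := d1_1 D11323 F20104 (iv D11322)
theorem F20110 : act 1 n11323 = n9552 := d6_1 D11323 (iv D9552) (iv D4624) (iv F6682) D9056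
theorem F20111 : act 5 n11323 = n10130 := d13_2 F19995 D11323 F20099
def n11324 : Q := act 6 n9056
theorem D11324 : act 6 n9056 = n11324 := rfl
def n11325 : Q := act 0 n9057
theorem D11325 : act 0 n9057 = n11325 := rfl
def n11326 : Q := act 2 n9057
theorem D11326 : act 2 n9057 = n11326 := rfl
theorem F20112 : act 1 n11326 = n9555 := d6_1 D11326 (iv D9555) (iv D4625) (iv F6684) D9057
def n11327 : Q := act 5 n9057
theorem D11327 : act 5 n9057 = n11327 := rfl
def n11328 : Q := act 0 n9060
theorem D11328 : act 0 n9060 = n11328 := rfl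
theorem F20113 : act 3 n11328 = n9064 := d2_2 (iv F13570) D11328 (iv D9064)
theorem F20114 : act 5 n11328 = n9085 := d4_2 (iv F13571) D11328 (iv D9085)
def n11329 : Q := act 2 n9060
theorem D11329 : act 2 n9060 = n11329 := rfl
theorem F20115 : act 5 n11329 = n9086 := d13_2 (iv F13571) D11329 (iv D9086)
def n11330 : Q := act 6 n9060
theorem D11330 : act 6 n9060 = n11330 := rfl
theorem F20116 : act 3 n11330 = n9066 := d17_1 D11330 (iv D9066) (iv F13570)
def n11331 : Q := act 1 n9061
theorem D11331 : act 1 n9061 = n11331 := rfl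
theorem F20117 : act 3 n11331 = n9067 := d7_2 (iv F13572) D11331 (iv D9067)
def n11332 : Q := act 0 n9062
theorem D11332 : act 0 n9062 = n11332 := rfl
theorem F20118 : act 3 n11332 = n9068 := d2_2 (iv F13574) D11332 (iv D9068)
theorem F20119 : act 6 n11332 = n9089 := d5_2 (iv F13575) D11332 (iv D9089)
def n11333 : Q := act 2 n9062
theorem D11333 : act 2 n9062 = n11333 := rfl
theorem F20120 : act 6 n11333 = n9090 := d14_2 (iv F13575) D11333 (iv D9090)
def n11334 : Q := act 5 n9062
theorem D11334 : act 5 n9062 = n11334 := rfl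
theorem F20121 : act 3 n11334 = n9070 := d16_1 D11334 (iv D9070) (iv F13574)
def n11335 : Q := act 1 n9063
theorem D11335 : act 1 n9063 = n11335 := rfl
theorem F20122 : act 3 n11335 = n9071 := d7_2 (iv F13578) D11335 (iv D9071)
theorem F20123 : act 4 n11335 = n11331 := d8_2 F16045 D11335 (iv D11331)
def n11336 : Q := act 1 n9064
theorem D11336 : act 1 n9064 = n11336 := rfl
def n11337 : Q := act 2 n9064
theorem D11337 : act 2 n9064 = n11337 := rfl
theorem F20124 : act 0 n11337 = n9065 := d1_1 D11337 (iv D9065) D9064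
theorem F20125 : act 5 n11337 = n9094 := d13_2 (iv F13580) D11337 (iv D9094)
def n11338 : Q := act 3 n9065
theorem D11338 : act 3 n9065 = n11338 := rfl
theorem F20126 : act 1 n11338 = n9559 := d7_1 D11338 (iv D9559) (iv F13581)
theorem F20127 : act 5 n11338 = n9096 := d16_2 (iv F13582) D11338 (iv D9096)
def n11339 : Q := act 6 n9065
theorem D11339 : act 6 n9065 = n11339 := rfl
theorem F20128 : act 2 n11339 = n9066 := d14_1 D11339 (iv D9066) D9065
def n11340 : Q := act 1 n9066
theorem D11340 : act 1 n9066 = n11340 := rfl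
theorem F20129 : act 6 n11340 = n9067 := d10_2 D9066 D11340 (iv D9067) (iv D4382) D4381
def n11341 : Q := act 0 n9067
theorem D11341 : act 0 n9067 = n11341 := rfl
def n11342 : Q := act 2 n9067
theorem D11342 : act 2 n9067 = n11342 := rfl
theorem F20130 : act 1 n11342 = n9563 := d6_1 D11342 (iv D9563) (iv D4629) (iv F6689) D9067
def n11343 : Q := act 5 n9067
theorem D11343 : act 5 n9067 = n11343 := rfl
theorem F20131 : act 1 n11343 = n11327 := d9_1 D11343 (iv D11327) (iv D9057) (iv F6690) D9067
def n11344 : Q := act 1 n9068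
theorem D11344 : act 1 n9068 = n11344 := rfl
def n11345 : Q := act 2 n9068
theorem D11345 : act 2 n9068 = n11345 := rfl
theorem F20132 : act 0 n11345 = n9069 := d1_1 D11345 (iv D9069) D9068
theorem F20133 : act 6 n11345 = n9104 := d14_2 (iv F13583) D11345 (iv D9104)
def n11346 : Q := act 3 n9069
theorem D11346 : act 3 n9069 = n11346 := rfl
theorem F20134 : act 1 n11346 = n9567 := d7_1 D11346 (iv D9567) (iv F13584)
theorem F20135 : act 6 n11346 = n9106 := d17_2 (iv F13585) D11346 (iv D9106)
def n11347 : Q := act 5 n9069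
theorem D11347 : act 5 n9069 = n11347 := rfl
theorem F20136 : act 2 n11347 = n9070 := d13_1 D11347 (iv D9070) D9069
def n11348 : Q := act 1 n9070
theorem D11348 : act 1 n9070 = n11348 := rfl
theorem F20137 : act 5 n11348 = n9071 := d9_2 D9070 D11348 (iv D9071) (iv D4384) D4383
def n11349 : Q := act 0 n9071
theorem D11349 : act 0 n9071 = n11349 := rfl
def n11350 : Q := act 2 n9071
theorem D11350 : act 2 n9071 = n11350 := rfl
theorem F20138 : act 1 n11350 = n9571 := d6_1 D11350 (iv D9571) (iv D4633) (iv F6693) D9071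
def n11351 : Q := act 6 n9071
theorem D11351 : act 6 n9071 = n11351 := rfl
theorem F20139 : act 1 n11351 = n11324 := d10_1 D11351 (iv D11324) (iv D9056) (iv F6694) D9071
def n11352 : Q := act 1 n9074
theorem D11352 : act 1 n9074 = n11352 := rfl
theorem F20140 : act 3 n11352 = n10689 := d7_2 (iv F13588) D11352 (iv D10689)
theorem F20141 : act 4 n11352 = n9079 := d8_2 (iv F16025) D11352 (iv D9079)
theorem F20142 : act 5 n11352 = n9079 := d9_2 D9074 D11352 (iv D9079) (iv D4387) D4385
def n11353 : Q := act 1 n9075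
theorem D11353 : act 1 n9075 = n11353 := rfl
theorem F20143 : act 3 n11353 = n10691 := d7_2 (iv F13589) D11353 (iv D10691)
theorem F20144 : act 4 n11353 = n9080 := d8_2 (iv F16028) D11353 (iv D9080)
theorem F20145 : act 6 n11353 = n9080 := d10_2 D9075 D11353 (iv D9080) (iv D4388) D4385
def n11354 : Q := act 0 n9079
theorem D11354 : act 0 n9079 = n11354 := rfl
theorem F20146 : act 3 n11354 = n10693 := d2_2 (iv F13599) D11354 (iv D10693)
def n11355 : Q := act 2 n9079
theorem D11355 : act 2 n9079 = n11355 := rfl
theorem F20147 : act 1 n11355 = n9086 := d6_1 D11355 (iv D9086) (iv D4391) (iv F6699) D9079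
def n11356 : Q := act 6 n9079
theorem D11356 : act 6 n9079 = n11356 := rfl
theorem F20148 : act 3 n11356 = n10695 := d17_1 D11356 (iv D10695) (iv F13599)
def n11357 : Q := act 0 n9080
theorem D11357 : act 0 n9080 = n11357 := rfl
theorem F20149 : act 3 n11357 = n10696 := d2_2 (iv F13600) D11357 (iv D10696)
def n11358 : Q := act 2 n9080
theorem D11358 : act 2 n9080 = n11358 := rfl
theorem F20150 : act 1 n11358 = n9090 := d6_1 D11358 (iv D9090) (iv D4393) (iv F6702) D9080
def n11359 : Q := act 5 n9080
theorem D11359 : act 5 n9080 = n11359 := rfl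
theorem F20151 : act 3 n11359 = n10698 := d16_1 D11359 (iv D10698) (iv F13600)
def n11360 : Q := act 0 n9081
theorem D11360 : act 0 n9081 = n11360 := rfl
theorem F20152 : act 3 n11360 = n10131 := d2_2 F19993 D11360 (iv F20098)
theorem F20153 : act 4 n11360 = n9085 := d3_2 (iv F13601) D11360 (iv D9085)
def n11361 : Q := act 2 n9081
theorem D11361 : act 2 n9081 = n11361 := rfl
theorem F20154 : act 4 n11361 = n9086 := d12_2 (iv F13601) D11361 (iv D9086)
def n11362 : Q := act 6 n9081
theorem D11362 : act 6 n9081 = n11362 := rfl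
theorem F20155 : act 4 n11362 = n9087 := d19_1 D11362 (iv D9087) (iv F13601)
def n11363 : Q := act 1 n9082
theorem D11363 : act 1 n9082 = n11363 := rfl
theorem F20156 : act 4 n11363 = n9088 := d8_2 (iv F13602) D11363 (iv D9088)
def n11364 : Q := act 0 n9083
theorem D11364 : act 0 n9083 = n11364 := rfl
theorem F20157 : act 4 n11364 = n9089 := d3_2 (iv F13604) D11364 (iv D9089)
def n11365 : Q := act 2 n9083
theorem D11365 : act 2 n9083 = n11365 := rfl
theorem F20158 : act 4 n11365 = n9090 := d12_2 (iv F13604) D11365 (iv D9090)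
def n11366 : Q := act 5 n9083
theorem D11366 : act 5 n9083 = n11366 := rfl
theorem F20159 : act 4 n11366 = n9091 := d18_1 D11366 (iv D9091) (iv F13604)
def n11367 : Q := act 1 n9084
theorem D11367 : act 1 n9084 = n11367 := rfl
theorem F20160 : act 4 n11367 = n9092 := d8_2 (iv F13606) D11367 (iv D9092)
def n11368 : Q := act 1 n9085
theorem D11368 : act 1 n9085 = n11368 := rfl
theorem F20161 : act 3 n11368 = n9093 := d7_2 (iv F13608) D11368 (iv D9093)
def n11369 : Q := act 2 n9085
theorem D11369 : act 2 n9085 = n11369 := rfl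
theorem F20162 : act 0 n11369 = n9086 := d1_1 D11369 (iv D9086) D9085
def n11370 : Q := act 6 n9085
theorem D11370 : act 6 n9085 = n11370 := rfl
theorem F20163 : act 0 n11370 = n9087 := d5_1 D11370 (iv D9087) D9085
theorem F20164 : act 3 n11370 = n9095 := d17_1 D11370 (iv D9095) (iv F13608)
theorem F20165 : act 5 n11370 = n11330 := d22_2 F20114 D11370 (iv D11330) D11328
def n11371 : Q := act 3 n9086
theorem D11371 : act 3 n9086 = n11371 := rfl
def n11372 : Q := act 6 n9086
theorem D11372 : act 6 n9086 = n11372 := rfl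
theorem F20166 : act 2 n11372 = n9087 := d14_1 D11372 (iv D9087) D9086
def n11373 : Q := act 1 n9087
theorem D11373 : act 1 n9087 = n11373 := rfl
theorem F20167 : act 3 n11373 = n9098 := d7_2 (iv F13609) D11373 (iv D9098)
theorem F20168 : act 6 n11373 = n9088 := d10_2 D9087 D11373 (iv D9088) (iv D4392) D4391
def n11374 : Q := act 5 n9087
theorem D11374 : act 5 n9087 = n11374 := rfl
theorem F20169 : act 0 n11374 = n11330 := d4_1 D11374 (iv F20165) F20163
theorem F20170 : act 3 n11374 = n9099 := d16_1 D11374 (iv D9099) (iv F13609)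
theorem F20171 : act 6 n11374 = n11328 := d20_2 D9087 D11374 F20114 D11370 F20165 (iv D11330) F13571
def n11375 : Q := act 0 n9088
theorem D11375 : act 0 n9088 = n11375 := rfl
theorem F20172 : act 3 n11375 = n9100 := d2_2 (iv F13610) D11375 (iv D9100)
def n11376 : Q := act 2 n9088
theorem D11376 : act 2 n9088 = n11376 := rfl
def n11377 : Q := act 5 n9088
theorem D11377 : act 5 n9088 = n11377 := rfl
theorem F20173 : act 1 n11377 = n11253 := d9_1 D11377 (iv D11253) (iv D8858) (iv F6708) D9088
theorem F20174 : act 3 n11377 = n9102 := d16_1 D11377 (iv D9102) (iv F13610)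
def n11378 : Q := act 1 n9089
theorem D11378 : act 1 n9089 = n11378 := rfl
theorem F20175 : act 3 n11378 = n9103 := d7_2 (iv F13611) D11378 (iv D9103)
def n11379 : Q := act 2 n9089
theorem D11379 : act 2 n9089 = n11379 := rfl
theorem F20176 : act 0 n11379 = n9090 := d1_1 D11379 (iv D9090) D9089
def n11380 : Q := act 5 n9089
theorem D11380 : act 5 n9089 = n11380 := rfl
theorem F20177 : act 0 n11380 = n9091 := d4_1 D11380 (iv D9091) D9089
theorem F20178 : act 3 n11380 = n9105 := d16_1 D11380 (iv D9105) (iv F13611)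
theorem F20179 : act 6 n11380 = n11334 := d22_1 D11380 (iv D11334) F13575 D9089
def n11381 : Q := act 3 n9090
theorem D11381 : act 3 n9090 = n11381 := rfl
def n11382 : Q := act 5 n9090
theorem D11382 : act 5 n9090 = n11382 := rfl
theorem F20180 : act 2 n11382 = n9091 := d13_1 D11382 (iv D9091) D9090
def n11383 : Q := act 1 n9091
theorem D11383 : act 1 n9091 = n11383 := rfl
theorem F20181 : act 3 n11383 = n9108 := d7_2 (iv F13612) D11383 (iv D9108)
theorem F20182 : act 5 n11383 = n9092 := d9_2 D9091 D11383 (iv D9092) (iv D4394) D4393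
def n11384 : Q := act 6 n9091
theorem D11384 : act 6 n9091 = n11384 := rfl
theorem F20183 : act 0 n11384 = n11334 := d5_1 D11384 (iv F20179) F20177
theorem F20184 : act 3 n11384 = n9109 := d17_1 D11384 (iv D9109) (iv F13612)
theorem F20185 : act 5 n11384 = n11332 := d20_1 D11384 F20119 D11380 F20179 (iv D11334) F13575 D9091
def n11385 : Q := act 0 n9092
theorem D11385 : act 0 n9092 = n11385 := rfl
theorem F20186 : act 3 n11385 = n9110 := d2_2 (iv F13613) D11385 (iv D9110)
def n11386 : Q := act 2 n9092
theorem D11386 : act 2 n9092 = n11386 := rfl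
def n11387 : Q := act 6 n9092
theorem D11387 : act 6 n9092 = n11387 := rfl
theorem F20187 : act 1 n11387 = n11250 := d10_1 D11387 (iv D11250) (iv D8857) (iv F6712) D9092
theorem F20188 : act 3 n11387 = n9112 := d17_1 D11387 (iv D9112) (iv F13613)
def n11388 : Q := act 0 n9093
theorem D11388 : act 0 n9093 = n11388 := rfl
def n11389 : Q := act 2 n9093
theorem D11389 : act 2 n9093 = n11389 := rfl
def n11390 : Q := act 5 n9093
theorem D11390 : act 5 n9093 = n11390 := rfl
def n11391 : Q := act 6 n9093
theorem D11391 : act 6 n9093 = n11391 := rfl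
def n11392 : Q := act 1 n9094
theorem D11392 : act 1 n9094 = n11392 := rfl
def n11393 : Q := act 3 n9094
theorem D11393 : act 3 n9094 = n11393 := rfl
theorem F20189 : act 0 n11393 = n9096 := d2_1 D11393 (iv D9096) (iv F13614)
def n11394 : Q := act 6 n9094
theorem D11394 : act 6 n9094 = n11394 := rfl
theorem F20190 : act 0 n11394 = n9097 := d5_1 D11394 (iv D9097) (iv F13614)
theorem F20191 : act 2 n11394 = n9095 := d14_1 D11394 (iv D9095) D9094
theorem F20192 : act 5 n11394 = n11339 := d22_2 F20125 D11394 (iv D11339) (iv F20124)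
def n11395 : Q := act 1 n9095
theorem D11395 : act 1 n9095 = n11395 := rfl
def n11396 : Q := act 2 n9096
theorem D11396 : act 2 n9096 = n11396 := rfl
def n11397 : Q := act 4 n9096
theorem D11397 : act 4 n9096 = n11397 := rfl
theorem F20193 : act 1 n11397 = n9119 := d8_1 D11397 (iv D9119) (iv F13617)
def n11398 : Q := act 6 n9096
theorem D11398 : act 6 n9096 = n11398 := rfl
theorem F20194 : act 3 n11398 = n9097 := d17_1 D11398 (iv D9097) D9096
def n11399 : Q := act 5 n9097
theorem D11399 : act 5 n9097 = n11399 := rfl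
theorem F20195 : act 0 n11399 = n11339 := d4_1 D11399 (iv F20192) F20190
theorem F20196 : act 2 n11399 = n9099 := d13_1 D11399 (iv D9099) (iv F13618)
theorem F20197 : act 6 n11399 = n11337 := d20_2 D9097 D11399 F20125 D11394 F20192 (iv D11339) F13582
def n11400 : Q := act 0 n9098
theorem D11400 : act 0 n9098 = n11400 := rfl
theorem F20198 : act 6 n11400 = n9100 := d5_2 (iv F13619) D11400 (iv D9100)
def n11401 : Q := act 2 n9098
theorem D11401 : act 2 n9098 = n11401 := rfl
theorem F20199 : act 6 n11401 = n9101 := d14_2 (iv F13619) D11401 (iv D9101)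
def n11402 : Q := act 5 n9098
theorem D11402 : act 5 n9098 = n11402 := rfl
def n11403 : Q := act 1 n9099
theorem D11403 : act 1 n9099 = n11403 := rfl
def n11404 : Q := act 1 n9100
theorem D11404 : act 1 n9100 = n11404 := rfl
def n11405 : Q := act 2 n9100
theorem D11405 : act 2 n9100 = n11405 := rfl
theorem F20200 : act 0 n11405 = n9101 := d1_1 D11405 (iv D9101) D9100
def n11406 : Q := act 5 n9100
theorem D11406 : act 5 n9100 = n11406 := rfl
theorem F20201 : act 0 n11406 = n9102 := d4_1 D11406 (iv D9102) D9100
theorem F20202 : act 6 n11406 = n11402 := d22_1 D11406 (iv D11402) F13619 D9100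
def n11407 : Q := act 3 n9101
theorem D11407 : act 3 n9101 = n11407 := rfl
theorem F20203 : act 1 n11407 = n9127 := d7_1 D11407 (iv D9127) (iv F13622)
def n11408 : Q := act 5 n9101
theorem D11408 : act 5 n9101 = n11408 := rfl
theorem F20204 : act 1 n11408 = n11408 := d9_1 D11408 (iv D11408) F13622 F16888 (iv F13622)
theorem F20205 : act 2 n11408 = n9102 := d13_1 D11408 (iv D9102) D9101
def n11409 : Q := act 6 n9102
theorem D11409 : act 6 n9102 = n11409 := rfl
theorem F20206 : act 0 n11409 = n11402 := d5_1 D11409 (iv F20202) F20201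
theorem F20207 : act 5 n11409 = n11400 := d20_1 D11409 F20198 D11406 F20202 (iv D11402) F13619 D9102
def n11410 : Q := act 0 n9103
theorem D11410 : act 0 n9103 = n11410 := rfl
def n11411 : Q := act 2 n9103
theorem D11411 : act 2 n9103 = n11411 := rfl
def n11412 : Q := act 5 n9103
theorem D11412 : act 5 n9103 = n11412 := rfl
def n11413 : Q := act 6 n9103
theorem D11413 : act 6 n9103 = n11413 := rfl
def n11414 : Q := act 1 n9104
theorem D11414 : act 1 n9104 = n11414 := rfl
def n11415 : Q := act 3 n9104
theorem D11415 : act 3 n9104 = n11415 := rfl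
theorem F20208 : act 0 n11415 = n9106 := d2_1 D11415 (iv D9106) (iv F13624)
def n11416 : Q := act 5 n9104
theorem D11416 : act 5 n9104 = n11416 := rfl
theorem F20209 : act 0 n11416 = n9107 := d4_1 D11416 (iv D9107) (iv F13624)
theorem F20210 : act 2 n11416 = n9105 := d13_1 D11416 (iv D9105) D9104
theorem F20211 : act 6 n11416 = n11347 := d22_1 D11416 (iv D11347) F13585 (iv F13624)
def n11417 : Q := act 1 n9105
theorem D11417 : act 1 n9105 = n11417 := rfl
def n11418 : Q := act 2 n9106
theorem D11418 : act 2 n9106 = n11418 := rfl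
def n11419 : Q := act 4 n9106
theorem D11419 : act 4 n9106 = n11419 := rfl
theorem F20212 : act 1 n11419 = n9136 := d8_1 D11419 (iv D9136) (iv F13627)
def n11420 : Q := act 5 n9106
theorem D11420 : act 5 n9106 = n11420 := rfl
theorem F20213 : act 3 n11420 = n9107 := d16_1 D11420 (iv D9107) D9106
def n11421 : Q := act 6 n9107
theorem D11421 : act 6 n9107 = n11421 := rfl
theorem F20214 : act 0 n11421 = n11347 := d5_1 D11421 (iv F20211) F20209
theorem F20215 : act 2 n11421 = n9109 := d14_1 D11421 (iv D9109) (iv F13628)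
theorem F20216 : act 5 n11421 = n11345 := d20_1 D11421 F20133 D11416 F20211 (iv D11347) F13585 D9107
def n11422 : Q := act 0 n9108
theorem D11422 : act 0 n9108 = n11422 := rfl
theorem F20217 : act 5 n11422 = n9110 := d4_2 (iv F13629) D11422 (iv D9110)
def n11423 : Q := act 2 n9108
theorem D11423 : act 2 n9108 = n11423 := rfl
theorem F20218 : act 5 n11423 = n9111 := d13_2 (iv F13629) D11423 (iv D9111)
def n11424 : Q := act 6 n9108
theorem D11424 : act 6 n9108 = n11424 := rfl
def n11425 : Q := act 1 n9109
theorem D11425 : act 1 n9109 = n11425 := rfl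
def n11426 : Q := act 1 n9110
theorem D11426 : act 1 n9110 = n11426 := rfl
def n11427 : Q := act 2 n9110
theorem D11427 : act 2 n9110 = n11427 := rfl
theorem F20219 : act 0 n11427 = n9111 := d1_1 D11427 (iv D9111) D9110
def n11428 : Q := act 6 n9110
theorem D11428 : act 6 n9110 = n11428 := rfl
theorem F20220 : act 0 n11428 = n9112 := d5_1 D11428 (iv D9112) D9110
theorem F20221 : act 5 n11428 = n11424 := d22_2 F20217 D11428 (iv D11424) D11422
def n11429 : Q := act 3 n9111
theorem D11429 : act 3 n9111 = n11429 := rfl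
theorem F20222 : act 1 n11429 = n9144 := d7_1 D11429 (iv D9144) (iv F13632)
def n11430 : Q := act 6 n9111
theorem D11430 : act 6 n9111 = n11430 := rfl
theorem F20223 : act 1 n11430 = n11430 := d10_1 D11430 (iv D11430) F13632 F15409 (iv F13632)
theorem F20224 : act 2 n11430 = n9112 := d14_1 D11430 (iv D9112) D9111
def n11431 : Q := act 5 n9112
theorem D11431 : act 5 n9112 = n11431 := rfl
theorem F20225 : act 0 n11431 = n11424 := d4_1 D11431 (iv F20221) F20220
theorem F20226 : act 6 n11431 = n11422 := d20_2 D9112 D11431 F20217 D11428 F20221 (iv D11424) F13629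
def n11432 : Q := act 1 n9118
theorem D11432 : act 1 n9118 = n11432 := rfl
theorem F20227 : act 3 n11432 = n10314 := d7_2 F17193 D11432 (iv D10314)
def n11433 : Q := act 4 n9118
theorem D11433 : act 4 n9118 = n11433 := rfl
theorem F20228 : act 2 n11433 = n9119 := d12_1 D11433 (iv D9119) D9118
theorem F20229 : act 5 n11433 = n9620 := d18_2 (iv F13641) D11433 (iv D9620)
theorem F20230 : act 6 n11433 = n10334 := d19_2 (iv F17232) D11433 (iv D10334)
def n11434 : Q := act 1 n9126
theorem D11434 : act 1 n9126 = n11434 := rfl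
theorem F20231 : act 2 n11434 = n9645 := d6_2 D9126 D11434 (iv D9645) F7097 F15297
def n11435 : Q := act 3 n9126
theorem D11435 : act 3 n9126 = n11435 := rfl
theorem F20232 : act 0 n11435 = n9127 := d2_1 D11435 (iv D9127) (iv F13652)
theorem F20233 : act 5 n11435 = n11435 := d16_2 F17464 D11435 (iv D11435)
def n11436 : Q := act 2 n9127
theorem D11436 : act 2 n9127 = n11436 := rfl
theorem F20234 : act 5 n11436 = n11436 := d13_2 F17465 D11436 (iv D11436)
def n11437 : Q := act 4 n9127
theorem D11437 : act 4 n9127 = n11437 := rfl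
theorem F20235 : act 5 n11437 = n11437 := d18_2 F17465 D11437 (iv D11437)
def n11438 : Q := act 1 n9135
theorem D11438 : act 1 n9135 = n11438 := rfl
theorem F20236 : act 3 n11438 = n10336 := d7_2 F16587 D11438 (iv D10336)
def n11439 : Q := act 4 n9135
theorem D11439 : act 4 n9135 = n11439 := rfl
theorem F20237 : act 2 n11439 = n9136 := d12_1 D11439 (iv D9136) D9135
theorem F20238 : act 5 n11439 = n10354 := d18_2 F17478 D11439 (iv D10354)
theorem F20239 : act 6 n11439 = n9649 := d19_2 (iv F13664) D11439 (iv D9649)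
def n11440 : Q := act 1 n9143
theorem D11440 : act 1 n9143 = n11440 := rfl
theorem F20240 : act 2 n11440 = n9616 := d6_2 D9143 D11440 (iv D9616) F7083 (iv F16969)
def n11441 : Q := act 3 n9143
theorem D11441 : act 3 n9143 = n11441 := rfl
theorem F20241 : act 0 n11441 = n9144 := d2_1 D11441 (iv D9144) (iv F13676)
theorem F20242 : act 6 n11441 = n11441 := d17_2 F16189 D11441 (iv D11441)
def n11442 : Q := act 2 n9144
theorem D11442 : act 2 n9144 = n11442 := rfl
theorem F20243 : act 6 n11442 = n11442 := d14_2 F16190 D11442 (iv D11442)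
def n11443 : Q := act 4 n9144
theorem D11443 : act 4 n9144 = n11443 := rfl
theorem F20244 : act 6 n11443 = n11443 := d19_2 F16190 D11443 (iv D11443)
def n11444 : Q := act 0 n9149
theorem D11444 : act 0 n9149 = n11444 := rfl
def n11445 : Q := act 3 n9149
theorem D11445 : act 3 n9149 = n11445 := rfl
theorem F20245 : act 1 n11445 = n9150 := d7_1 D11445 (iv D9150) D9149
def n11446 : Q := act 4 n9149
theorem D11446 : act 4 n9149 = n11446 := rfl
theorem F20246 : act 1 n11446 = n9151 := d8_1 D11446 (iv D9151) D9149
def n11447 : Q := act 5 n9149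
theorem D11447 : act 5 n9149 = n11447 := rfl
theorem F20247 : act 1 n11447 = n9693 := d9_1 D11447 (iv D9693) (iv D4692) (iv F6745) D9149
def n11448 : Q := act 6 n9149
theorem D11448 : act 6 n9149 = n11448 := rfl
def n11449 : Q := act 4 n9150
theorem D11449 : act 4 n9150 = n11449 := rfl
theorem F20248 : act 0 n11449 = n11433 := d3_1 D11449 (iv D11433) (iv F13688)
theorem F20249 : act 2 n11449 = n10282 := d12_1 D11449 (iv D10282) F17189
theorem F20250 : act 5 n11449 = n9695 := d18_2 (iv F13690) D11449 (iv D9695)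
theorem F20251 : act 6 n11449 = n10292 := d19_2 F17233 D11449 (iv D10292)
def n11450 : Q := act 3 n9151
theorem D11450 : act 3 n9151 = n11450 := rfl
theorem F20252 : act 5 n11450 = n9697 := d16_2 (iv F13692) D11450 (iv D9697)
def n11453 : Q := act 2 n9163
theorem D11453 : act 2 n9163 = n11453 := rfl
theorem F20259 : act 0 n11453 = n9164 := d1_1 D11453 (iv D9164) (iv F13711)
theorem F20261 : act 3 n11453 = n11436 := d21_1 D11453 (iv D11436) (iv D9127) (iv D4409) F3360 D2126 D4431 (iv F13711)
def n11455 : Q := act 1 n9164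
theorem D11455 : act 1 n9164 = n11455 := rfl
def n11456 : Q := act 3 n9164
theorem D11456 : act 3 n9164 = n11456 := rfl
theorem F20265 : act 0 n11456 = n11436 := d2_1 D11456 (iv F20261) F20259
theorem F20266 : act 2 n11456 = n11435 := d11_1 D11456 (iv D11435) (iv D9126) F6722 D4430 D9163 D11453 F20261 (iv D11436) (iv D9127) (iv D4409) F3360 D2126 D4431 D9164
theorem F20267 : act 5 n11456 = n11456 := d16_2 F17462 D11456 (iv D11456)
def n11457 : Q := act 4 n9164
theorem D11457 : act 4 n9164 = n11457 := rfl
def n11458 : Q := act 0 n9179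
theorem D11458 : act 0 n9179 = n11458 := rfl
def n11459 : Q := act 3 n9179
theorem D11459 : act 3 n9179 = n11459 := rfl
theorem F20270 : act 1 n11459 = n9180 := d7_1 D11459 (iv D9180) D9179
def n11460 : Q := act 4 n9179
theorem D11460 : act 4 n9179 = n11460 := rfl
theorem F20271 : act 1 n11460 = n9181 := d8_1 D11460 (iv D9181) D9179
def n11461 : Q := act 5 n9179
theorem D11461 : act 5 n9179 = n11461 := rfl
def n11462 : Q := act 6 n9179
theorem D11462 : act 6 n9179 = n11462 := rfl
theorem F20272 : act 1 n11462 = n9754 := d10_1 D11462 (iv D9754) (iv D4723) (iv F6775) D9179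
def n11463 : Q := act 4 n9180
theorem D11463 : act 4 n9180 = n11463 := rfl
theorem F20273 : act 0 n11463 = n11439 := d3_1 D11463 (iv D11439) (iv F13739)
theorem F20274 : act 2 n11463 = n10303 := d12_1 D11463 (iv D10303) F16685
theorem F20275 : act 5 n11463 = n10313 := d18_2 (iv F17477) D11463 (iv D10313)
theorem F20276 : act 6 n11463 = n9755 := d19_2 (iv F13741) D11463 (iv D9755)
def n11464 : Q := act 3 n9181
theorem D11464 : act 3 n9181 = n11464 := rfl
theorem F20277 : act 6 n11464 = n9757 := d17_2 (iv F13743) D11464 (iv D9757)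
def n11465 : Q := act 3 n9192
theorem D11465 : act 3 n9192 = n11465 := rfl
theorem F20278 : act 1 n11465 = n9193 := d7_1 D11465 (iv D9193) D9192
def n11466 : Q := act 6 n9192
theorem D11466 : act 6 n9192 = n11466 := rfl
theorem F20279 : act 0 n11466 = n10403 := d5_1 D11466 F18407 (iv F17084)
theorem F20281 : act 2 n11466 = n9679 := d14_1 D11466 F14446 (iv F17085)
theorem F20282 : act 4 n11466 = n9290 := d19_1 D11466 (iv D9290) (iv F13762)
def n11467 : Q := act 2 n9193
theorem D11467 : act 2 n9193 = n11467 := rfl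
theorem F20284 : act 0 n11467 = n9194 := d1_1 D11467 (iv D9194) (iv F13763)
theorem F20286 : act 3 n11467 = n11442 := d21_1 D11467 (iv D11442) (iv D9144) (iv D4417) F3365 D2134 D4448 (iv F13763)
def n11468 : Q := act 4 n9193
theorem D11468 : act 4 n9193 = n11468 := rfl
theorem F20287 : act 0 n11468 = n9195 := d3_1 D11468 (iv D9195) (iv F13763)
def n11469 : Q := act 1 n9194
theorem D11469 : act 1 n9194 = n11469 := rfl
def n11470 : Q := act 3 n9194
theorem D11470 : act 3 n9194 = n11470 := rfl
theorem F20290 : act 0 n11470 = n11442 := d2_1 D11470 (iv F20286) F20284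
theorem F20291 : act 2 n11470 = n11441 := d11_1 D11470 (iv D11441) (iv D9143) F6732 D4447 D9193 D11467 F20286 (iv D11442) (iv D9144) (iv D4417) F3365 D2134 D4448 D9194
theorem F20292 : act 6 n11470 = n11470 := d17_2 F16187 D11470 (iv D11470)
def n11471 : Q := act 4 n9194
theorem D11471 : act 4 n9194 = n11471 := rfl
theorem F20293 : act 2 n11471 = n9195 := d12_1 D11471 (iv D9195) D9194
def n11481 : Q := act 4 n9288
theorem D11481 : act 4 n9288 = n11481 := rfl
theorem F20317 : act 1 n11481 = n9292 := d8_1 D11481 (iv D9292) (iv F13873)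
theorem F20319 : act 5 n11481 = n10367 := d18_2 (iv F17093) D11481 (iv D10367)
def n11485 : Q := act 4 n9293
theorem D11485 : act 4 n9293 = n11485 := rfl
theorem F20328 : act 1 n11485 = n9295 := d8_1 D11485 (iv D9295) D9293
theorem F20329 : act 2 n11485 = n11111 := d12_1 D11485 F19691 (iv F17410)
def n11486 : Q := act 5 n9293
theorem D11486 : act 5 n9293 = n11486 := rfl
theorem F20331 : act 1 n11486 = n10356 := d9_1 D11486 F18264 F17347 F16843 D9293
theorem F20332 : act 2 n11486 = n10517 := d13_1 D11486 F18608 (iv F17410)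
def n11490 : Q := act 5 n9300
theorem D11490 : act 5 n9300 = n11490 := rfl
theorem F20339 : act 0 n11490 = n9303 := d4_1 D11490 (iv D9303) D9300
theorem F20340 : act 4 n11490 = n9542 := d18_1 D11490 (iv D9542) (iv F13887)
def n11491 : Q := act 6 n9300
theorem D11491 : act 6 n9300 = n11491 := rfl
theorem F20341 : act 0 n11491 = n9304 := d5_1 D11491 (iv D9304) D9300
theorem F20342 : act 4 n11491 = n9543 := d19_1 D11491 (iv D9543) (iv F13887)
def n11492 : Q := act 5 n9302
theorem D11492 : act 5 n9302 = n11492 := rfl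
theorem F20343 : act 3 n11492 = n9303 := d16_1 D11492 (iv D9303) D9302
theorem F20344 : act 4 n11492 = n9951 := d18_1 D11492 (iv D9951) (iv F13890)
def n11493 : Q := act 6 n9302
theorem D11493 : act 6 n9302 = n11493 := rfl
theorem F20345 : act 3 n11493 = n9304 := d17_1 D11493 (iv D9304) D9302
theorem F20346 : act 4 n11493 = n9952 := d19_1 D11493 (iv D9952) (iv F13890)
def n11494 : Q := act 1 n9303
theorem D11494 : act 1 n9303 = n11494 := rfl
theorem F20347 : act 4 n11494 = n9547 := d8_2 (iv F13891) D11494 (iv D9547)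
theorem F20348 : act 5 n11494 = n9308 := d9_2 D9303 D11494 (iv D9308) (iv D4505) D4503
def n11495 : Q := act 6 n9303
theorem D11495 : act 6 n9303 = n11495 := rfl
theorem F20349 : act 4 n11495 = n9548 := d19_1 D11495 (iv D9548) (iv F13891)
theorem F20350 : act 5 n11495 = n11491 := d22_2 D9303 D11495 (iv D11491) (iv D9300)
def n11496 : Q := act 1 n9304
theorem D11496 : act 1 n9304 = n11496 := rfl
theorem F20351 : act 4 n11496 = n9549 := d8_2 (iv F13892) D11496 (iv D9549)
theorem F20352 : act 6 n11496 = n9309 := d10_2 D9304 D11496 (iv D9309) (iv D4506) D4503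
def n11497 : Q := act 5 n9304
theorem D11497 : act 5 n9304 = n11497 := rfl
theorem F20353 : act 0 n11497 = n11495 := d4_1 D11497 F20350 F20341
theorem F20354 : act 4 n11497 = n9550 := d18_1 D11497 (iv D9550) (iv F13892)
theorem F20355 : act 6 n11497 = n11490 := d20_2 D9304 D11497 (iv D11490) D11491 (iv F20350) (iv D11495) (iv D9303)
def n11498 : Q := act 1 n9305
theorem D11498 : act 1 n9305 = n11498 := rfl
theorem F20356 : act 3 n11498 = n11498 := d7_2 F16042 D11498 (iv D11498)
theorem F20357 : act 4 n11498 = n9957 := d8_2 (iv F13894) D11498 (iv D9957)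
def n11499 : Q := act 5 n9305
theorem D11499 : act 5 n9305 = n11499 := rfl
theorem F20358 : act 0 n11499 = n9311 := d4_1 D11499 (iv D9311) (iv F13893)
theorem F20359 : act 2 n11499 = n9306 := d13_1 D11499 (iv D9306) D9305
theorem F20360 : act 3 n11499 = n11499 := d16_1 D11499 (iv D11499) F16042
theorem F20361 : act 4 n11499 = n9959 := d18_1 D11499 (iv D9959) (iv F13894)
def n11500 : Q := act 6 n9305
theorem D11500 : act 6 n9305 = n11500 := rfl
theorem F20362 : act 0 n11500 = n9312 := d5_1 D11500 (iv D9312) (iv F13893)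
theorem F20363 : act 2 n11500 = n9307 := d14_1 D11500 (iv D9307) D9305
theorem F20364 : act 3 n11500 = n11500 := d17_1 D11500 (iv D11500) F16042
theorem F20365 : act 4 n11500 = n9960 := d19_1 D11500 (iv D9960) (iv F13894)
def n11501 : Q := act 1 n9306
theorem D11501 : act 1 n9306 = n11501 := rfl
theorem F20366 : act 3 n11501 = n9308 := d7_2 (iv F13896) D11501 (iv D9308)
theorem F20367 : act 4 n11501 = n9961 := d8_2 (iv F13897) D11501 (iv D9961)
def n11502 : Q := act 1 n9307
theorem D11502 : act 1 n9307 = n11502 := rfl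
theorem F20368 : act 3 n11502 = n9309 := d7_2 (iv F13899) D11502 (iv D9309)
theorem F20369 : act 4 n11502 = n9962 := d8_2 (iv F13900) D11502 (iv D9962)
def n11503 : Q := act 0 n9308
theorem D11503 : act 0 n9308 = n11503 := rfl
theorem F20370 : act 4 n11503 = n9551 := d3_2 (iv F13901) D11503 (iv D9551)
theorem F20371 : act 2 n11494 = n11503 := d12_3 F20370 (iv F16331) (iv F20347)
def n11504 : Q := act 2 n9308
theorem D11504 : act 2 n9308 = n11504 := rfl
theorem F20372 : act 0 n11504 = n11494 := d1_1 D11504 F20371 (iv D11503)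
theorem F20373 : act 4 n11504 = n9552 := d12_2 (iv F13901) D11504 (iv D9552)
theorem F20374 : act 5 n11504 = n11503 := d13_2 F20348 D11504 (iv F20371)
def n11505 : Q := act 6 n9308
theorem D11505 : act 6 n9308 = n11505 := rfl
theorem F20375 : act 4 n11505 = n9553 := d19_1 D11505 (iv D9553) (iv F13901)
def n11506 : Q := act 0 n9309
theorem D11506 : act 0 n9309 = n11506 := rfl
theorem F20376 : act 4 n11506 = n9554 := d3_2 (iv F13902) D11506 (iv D9554)
def n11507 : Q := act 2 n9309
theorem D11507 : act 2 n9309 = n11507 := rfl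
theorem F20377 : act 4 n11507 = n9555 := d12_2 (iv F13902) D11507 (iv D9555)
def n11508 : Q := act 5 n9309
theorem D11508 : act 5 n9309 = n11508 := rfl
theorem F20378 : act 4 n11508 = n9556 := d18_1 D11508 (iv D9556) (iv F13902)
def n11509 : Q := act 1 n9311
theorem D11509 : act 1 n9311 = n11509 := rfl
theorem F20379 : act 3 n11509 = n11509 := d7_2 F16044 D11509 (iv D11509)
theorem F20380 : act 4 n11509 = n9971 := d8_2 (iv F13905) D11509 (iv D9971)
theorem F20381 : act 5 n11509 = n11509 := d9_2 D9311 D11509 (iv D11509) (iv D9311) F6865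
def n11510 : Q := act 6 n9311
theorem D11510 : act 6 n9311 = n11510 := rfl
theorem F20382 : act 2 n11510 = n9314 := d14_1 D11510 (iv D9314) (iv F13904)
theorem F20383 : act 3 n11510 = n11510 := d17_1 D11510 (iv D11510) F16044
theorem F20384 : act 4 n11510 = n9972 := d19_1 D11510 (iv D9972) (iv F13905)
theorem F20385 : act 5 n11510 = n11500 := d22_2 D9311 D11510 (iv D11500) F13893
def n11511 : Q := act 1 n9312
theorem D11511 : act 1 n9312 = n11511 := rfl
theorem F20386 : act 3 n11511 = n11511 := d7_2 F16040 D11511 (iv D11511)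
theorem F20387 : act 4 n11511 = n9973 := d8_2 (iv F13907) D11511 (iv D9973)
theorem F20388 : act 6 n11511 = n11511 := d10_2 D9312 D11511 (iv D11511) (iv D9312) F6865
def n11512 : Q := act 5 n9312
theorem D11512 : act 5 n9312 = n11512 := rfl
theorem F20389 : act 0 n11512 = n11510 := d4_1 D11512 F20385 F20362
theorem F20390 : act 2 n11512 = n9316 := d13_1 D11512 (iv D9316) (iv F13906)
theorem F20391 : act 3 n11512 = n11512 := d16_1 D11512 (iv D11512) F16040
theorem F20392 : act 4 n11512 = n9974 := d18_1 D11512 (iv D9974) (iv F13907)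
theorem F20393 : act 6 n11512 = n11499 := d20_2 D9312 D11512 (iv D11499) D11500 (iv F20385) (iv D11510) (iv D9311)
def n11513 : Q := act 0 n9313
theorem D11513 : act 0 n9313 = n11513 := rfl
theorem F20394 : act 3 n11513 = n9317 := d2_2 (iv F13908) D11513 (iv D9317)
theorem F20395 : act 4 n11513 = n9975 := d3_2 (iv F13909) D11513 (iv D9975)
theorem F20396 : act 5 n11513 = n9325 := d4_2 (iv F13910) D11513 (iv D9325)
def n11514 : Q := act 2 n9313
theorem D11514 : act 2 n9313 = n11514 := rfl
theorem F20397 : act 4 n11514 = n9976 := d12_2 (iv F13909) D11514 (iv D9976)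
theorem F20398 : act 5 n11514 = n9326 := d13_2 (iv F13910) D11514 (iv D9326)
def n11515 : Q := act 6 n9313
theorem D11515 : act 6 n9313 = n11515 := rfl
theorem F20399 : act 3 n11515 = n9319 := d17_1 D11515 (iv D9319) (iv F13908)
theorem F20400 : act 4 n11515 = n9977 := d19_1 D11515 (iv D9977) (iv F13909)
def n11516 : Q := act 1 n9314
theorem D11516 : act 1 n9314 = n11516 := rfl
theorem F20401 : act 3 n11516 = n9320 := d7_2 (iv F13911) D11516 (iv D9320)
theorem F20402 : act 4 n11516 = n9978 := d8_2 (iv F13912) D11516 (iv D9978)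
def n11517 : Q := act 0 n9315
theorem D11517 : act 0 n9315 = n11517 := rfl
theorem F20403 : act 3 n11517 = n9321 := d2_2 (iv F13914) D11517 (iv D9321)
theorem F20404 : act 4 n11517 = n9979 := d3_2 (iv F13915) D11517 (iv D9979)
theorem F20405 : act 6 n11517 = n9328 := d5_2 (iv F13916) D11517 (iv D9328)
def n11518 : Q := act 2 n9315
theorem D11518 : act 2 n9315 = n11518 := rfl
theorem F20406 : act 4 n11518 = n9980 := d12_2 (iv F13915) D11518 (iv D9980)
theorem F20407 : act 6 n11518 = n9329 := d14_2 (iv F13916) D11518 (iv D9329)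
def n11519 : Q := act 5 n9315
theorem D11519 : act 5 n9315 = n11519 := rfl
theorem F20408 : act 3 n11519 = n9323 := d16_1 D11519 (iv D9323) (iv F13914)
theorem F20409 : act 4 n11519 = n9981 := d18_1 D11519 (iv D9981) (iv F13915)
def n11520 : Q := act 1 n9316
theorem D11520 : act 1 n9316 = n11520 := rfl
theorem F20410 : act 3 n11520 = n9324 := d7_2 (iv F13918) D11520 (iv D9324)
theorem F20411 : act 4 n11520 = n9982 := d8_2 (iv F13919) D11520 (iv D9982)
def n11521 : Q := act 1 n9317
theorem D11521 : act 1 n9317 = n11521 := rfl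
theorem F20412 : act 4 n11521 = n9557 := d8_2 (iv F13921) D11521 (iv D9557)
def n11522 : Q := act 2 n9317
theorem D11522 : act 2 n9317 = n11522 := rfl
theorem F20413 : act 0 n11522 = n9318 := d1_1 D11522 (iv D9318) D9317
theorem F20414 : act 4 n11522 = n9558 := d12_2 (iv F13921) D11522 (iv D9558)
theorem F20415 : act 5 n11522 = n9332 := d13_2 (iv F13922) D11522 (iv D9332)
def n11523 : Q := act 3 n9318
theorem D11523 : act 3 n9318 = n11523 := rfl
theorem F20416 : act 5 n11523 = n9334 := d16_2 (iv F13924) D11523 (iv D9334)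
def n11524 : Q := act 6 n9318
theorem D11524 : act 6 n9318 = n11524 := rfl
theorem F20417 : act 2 n11524 = n9319 := d14_1 D11524 (iv D9319) D9318
theorem F20418 : act 4 n11524 = n9560 := d19_1 D11524 (iv D9560) (iv F13923)
def n11525 : Q := act 1 n9319
theorem D11525 : act 1 n9319 = n11525 := rfl
theorem F20419 : act 4 n11525 = n9561 := d8_2 (iv F13925) D11525 (iv D9561)
theorem F20420 : act 6 n11525 = n9320 := d10_2 D9319 D11525 (iv D9320) (iv D4511) D4510
def n11526 : Q := act 0 n9320
theorem D11526 : act 0 n9320 = n11526 := rfl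
theorem F20421 : act 4 n11526 = n9562 := d3_2 (iv F13926) D11526 (iv D9562)
def n11527 : Q := act 2 n9320
theorem D11527 : act 2 n9320 = n11527 := rfl
theorem F20422 : act 4 n11527 = n9563 := d12_2 (iv F13926) D11527 (iv D9563)
def n11528 : Q := act 5 n9320
theorem D11528 : act 5 n9320 = n11528 := rfl
theorem F20423 : act 1 n11528 = n11508 := d9_1 D11528 (iv D11508) (iv D9309) (iv F6874) D9320
theorem F20424 : act 4 n11528 = n9564 := d18_1 D11528 (iv D9564) (iv F13926)
def n11529 : Q := act 1 n9321
theorem D11529 : act 1 n9321 = n11529 := rfl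
theorem F20425 : act 4 n11529 = n9565 := d8_2 (iv F13927) D11529 (iv D9565)
def n11530 : Q := act 2 n9321
theorem D11530 : act 2 n9321 = n11530 := rfl
theorem F20426 : act 0 n11530 = n9322 := d1_1 D11530 (iv D9322) D9321
theorem F20427 : act 4 n11530 = n9566 := d12_2 (iv F13927) D11530 (iv D9566)
theorem F20428 : act 6 n11530 = n9338 := d14_2 (iv F13928) D11530 (iv D9338)
def n11531 : Q := act 3 n9322
theorem D11531 : act 3 n9322 = n11531 := rfl
theorem F20429 : act 6 n11531 = n9340 := d17_2 (iv F13930) D11531 (iv D9340)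
def n11532 : Q := act 5 n9322
theorem D11532 : act 5 n9322 = n11532 := rfl
theorem F20430 : act 2 n11532 = n9323 := d13_1 D11532 (iv D9323) D9322
theorem F20431 : act 4 n11532 = n9568 := d18_1 D11532 (iv D9568) (iv F13929)
def n11533 : Q := act 1 n9323
theorem D11533 : act 1 n9323 = n11533 := rfl
theorem F20432 : act 4 n11533 = n9569 := d8_2 (iv F13931) D11533 (iv D9569)
theorem F20433 : act 5 n11533 = n9324 := d9_2 D9323 D11533 (iv D9324) (iv D4513) D4512
def n11534 : Q := act 0 n9324
theorem D11534 : act 0 n9324 = n11534 := rfl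
theorem F20434 : act 4 n11534 = n9570 := d3_2 (iv F13932) D11534 (iv D9570)
def n11535 : Q := act 2 n9324
theorem D11535 : act 2 n9324 = n11535 := rfl
theorem F20435 : act 4 n11535 = n9571 := d12_2 (iv F13932) D11535 (iv D9571)
def n11536 : Q := act 6 n9324
theorem D11536 : act 6 n9324 = n11536 := rfl
theorem F20436 : act 1 n11536 = n11505 := d10_1 D11536 (iv D11505) (iv D9308) (iv F6879) D9324
theorem F20437 : act 4 n11536 = n9572 := d19_1 D11536 (iv D9572) (iv F13932)
def n11537 : Q := act 1 n9325
theorem D11537 : act 1 n9325 = n11537 := rfl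
theorem F20438 : act 3 n11537 = n9331 := d7_2 (iv F13933) D11537 (iv D9331)
theorem F20439 : act 4 n11537 = n9999 := d8_2 (iv F13934) D11537 (iv D9999)
def n11538 : Q := act 2 n9325
theorem D11538 : act 2 n9325 = n11538 := rfl
theorem F20440 : act 0 n11538 = n9326 := d1_1 D11538 (iv D9326) D9325
theorem F20441 : act 4 n11538 = n10000 := d12_2 (iv F13934) D11538 (iv D10000)
def n11539 : Q := act 6 n9325
theorem D11539 : act 6 n9325 = n11539 := rfl
theorem F20442 : act 0 n11539 = n9327 := d5_1 D11539 (iv D9327) D9325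
theorem F20443 : act 3 n11539 = n9333 := d17_1 D11539 (iv D9333) (iv F13933)
theorem F20444 : act 4 n11539 = n10001 := d19_1 D11539 (iv D10001) (iv F13934)
theorem F20445 : act 5 n11539 = n11515 := d22_2 F20396 D11539 (iv D11515) D11513
def n11540 : Q := act 3 n9326
theorem D11540 : act 3 n9326 = n11540 := rfl
theorem F20446 : act 1 n11540 = n11540 := d7_1 D11540 (iv D11540) F13935
def n11541 : Q := act 6 n9326
theorem D11541 : act 6 n9326 = n11541 := rfl
theorem F20447 : act 2 n11541 = n9327 := d14_1 D11541 (iv D9327) D9326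
theorem F20448 : act 4 n11541 = n10003 := d19_1 D11541 (iv D10003) (iv F13936)
def n11542 : Q := act 5 n9327
theorem D11542 : act 5 n9327 = n11542 := rfl
theorem F20449 : act 0 n11542 = n11515 := d4_1 D11542 (iv F20445) F20442
theorem F20450 : act 3 n11542 = n9336 := d16_1 D11542 (iv D9336) (iv F13937)
theorem F20451 : act 4 n11542 = n10005 := d18_1 D11542 (iv D10005) (iv F13938)
theorem F20452 : act 6 n11542 = n11513 := d20_2 D9327 D11542 F20396 D11539 F20445 (iv D11515) F13910
def n11543 : Q := act 1 n9328
theorem D11543 : act 1 n9328 = n11543 := rfl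
theorem F20453 : act 3 n11543 = n9337 := d7_2 (iv F13939) D11543 (iv D9337)
theorem F20454 : act 4 n11543 = n10009 := d8_2 (iv F13940) D11543 (iv D10009)
def n11544 : Q := act 2 n9328
theorem D11544 : act 2 n9328 = n11544 := rfl
theorem F20455 : act 0 n11544 = n9329 := d1_1 D11544 (iv D9329) D9328
theorem F20456 : act 4 n11544 = n10010 := d12_2 (iv F13940) D11544 (iv D10010)
def n11545 : Q := act 5 n9328
theorem D11545 : act 5 n9328 = n11545 := rfl
theorem F20457 : act 0 n11545 = n9330 := d4_1 D11545 (iv D9330) D9328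
theorem F20458 : act 3 n11545 = n9339 := d16_1 D11545 (iv D9339) (iv F13939)
theorem F20459 : act 4 n11545 = n10011 := d18_1 D11545 (iv D10011) (iv F13940)
theorem F20460 : act 6 n11545 = n11519 := d22_1 D11545 (iv D11519) F13916 D9328
def n11546 : Q := act 3 n9329
theorem D11546 : act 3 n9329 = n11546 := rfl
theorem F20461 : act 1 n11546 = n11546 := d7_1 D11546 (iv D11546) F13941
def n11547 : Q := act 5 n9329
theorem D11547 : act 5 n9329 = n11547 := rfl
theorem F20462 : act 2 n11547 = n9330 := d13_1 D11547 (iv D9330) D9329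
theorem F20463 : act 4 n11547 = n10013 := d18_1 D11547 (iv D10013) (iv F13942)
def n11548 : Q := act 6 n9330
theorem D11548 : act 6 n9330 = n11548 := rfl
theorem F20464 : act 0 n11548 = n11519 := d5_1 D11548 (iv F20460) F20457
theorem F20465 : act 3 n11548 = n9342 := d17_1 D11548 (iv D9342) (iv F13943)
theorem F20466 : act 4 n11548 = n10015 := d19_1 D11548 (iv D10015) (iv F13944)
theorem F20467 : act 5 n11548 = n11517 := d20_1 D11548 F20405 D11545 F20460 (iv D11519) F13916 D9330
def n11549 : Q := act 0 n9331
theorem D11549 : act 0 n9331 = n11549 := rfl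
theorem F20468 : act 1 n11549 = n10019 := d0_2 D9331 D11549 (iv D10019) (iv D5173) (iv D2496) (iv D1215) (iv F1843) D2175 D4516
theorem F20469 : act 4 n11549 = n9573 := d3_2 (iv F13945) D11549 (iv D9573)
theorem F20470 : act 2 n9331 = n11549 := d12_3 F20469 F20107 (iv F13945)
def n11550 : Q := act 5 n9331
theorem D11550 : act 5 n9331 = n11550 := rfl
theorem F20471 : act 4 n11550 = n9575 := d18_1 D11550 (iv D9575) (iv F13945)
def n11551 : Q := act 6 n9331
theorem D11551 : act 6 n9331 = n11551 := rfl
theorem F20472 : act 4 n11551 = n9576 := d19_1 D11551 (iv D9576) (iv F13945)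
def n11552 : Q := act 1 n9332
theorem D11552 : act 1 n9332 = n11552 := rfl
theorem F20473 : act 2 n11552 = n10019 := d6_2 D9332 D11552 (iv F20468) (iv F20470) (iv D9331)
theorem F20474 : act 4 n11552 = n9577 := d8_2 (iv F13947) D11552 (iv D9577)
theorem F20475 : act 0 n10020 = n11552 := d3_3 F20474 F20105 (iv F17806)
def n11553 : Q := act 3 n9332
theorem D11553 : act 3 n9332 = n11553 := rfl
theorem F20476 : act 0 n11553 = n9334 := d2_1 D11553 (iv D9334) (iv F13946)
def n11554 : Q := act 6 n9332
theorem D11554 : act 6 n9332 = n11554 := rfl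
theorem F20477 : act 0 n11554 = n9335 := d5_1 D11554 (iv D9335) (iv F13946)
theorem F20478 : act 2 n11554 = n9333 := d14_1 D11554 (iv D9333) D9332
theorem F20479 : act 4 n11554 = n9579 := d19_1 D11554 (iv D9579) (iv F13947)
theorem F20480 : act 5 n11554 = n11524 := d22_2 F20415 D11554 (iv D11524) (iv F20413)
def n11555 : Q := act 1 n9333
theorem D11555 : act 1 n9333 = n11555 := rfl
theorem F20481 : act 4 n11555 = n9580 := d8_2 (iv F13949) D11555 (iv D9580)
def n11556 : Q := act 2 n9334
theorem D11556 : act 2 n9334 = n11556 := rfl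
def n11557 : Q := act 4 n9334
theorem D11557 : act 4 n9334 = n11557 := rfl
theorem F20482 : act 1 n11557 = n9352 := d8_1 D11557 (iv D9352) (iv F13951)
theorem F20483 : act 3 n11557 = n9582 := d15_1 D11557 (iv D9582) (iv D4637) (iv F6886) D9334
def n11558 : Q := act 6 n9334
theorem D11558 : act 6 n9334 = n11558 := rfl
theorem F20484 : act 3 n11558 = n9335 := d17_1 D11558 (iv D9335) D9334
def n11559 : Q := act 1 n9335
theorem D11559 : act 1 n9335 = n11559 := rfl
theorem F20485 : act 4 n11559 = n9584 := d8_2 (iv F13953) D11559 (iv D9584)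
theorem F20486 : act 6 n11559 = n9354 := d10_2 D9335 D11559 (iv D9354) (iv D4526) (iv F6885)
def n11560 : Q := act 5 n9335
theorem D11560 : act 5 n9335 = n11560 := rfl
theorem F20487 : act 0 n11560 = n11524 := d4_1 D11560 (iv F20480) F20477
theorem F20488 : act 2 n11560 = n9336 := d13_1 D11560 (iv D9336) (iv F13952)
theorem F20489 : act 4 n11560 = n9585 := d18_1 D11560 (iv D9585) (iv F13953)
theorem F20490 : act 6 n11560 = n11522 := d20_2 D9335 D11560 F20415 D11554 F20480 (iv D11524) F13924
def n11561 : Q := act 1 n9336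
theorem D11561 : act 1 n9336 = n11561 := rfl
theorem F20491 : act 4 n11561 = n9586 := d8_2 (iv F13955) D11561 (iv D9586)
def n11562 : Q := act 0 n9337
theorem D11562 : act 0 n9337 = n11562 := rfl
theorem F20492 : act 1 n11562 = n10042 := d0_2 D9337 D11562 (iv D10042) (iv D5183) (iv D2500) (iv D1217) (iv F1846) D2176 D4519
theorem F20493 : act 4 n11562 = n9587 := d3_2 (iv F13957) D11562 (iv D9587)
def n11563 : Q := act 2 n9337
theorem D11563 : act 2 n9337 = n11563 := rfl
theorem F20494 : act 4 n11563 = n9588 := d12_2 (iv F13957) D11563 (iv D9588)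
def n11564 : Q := act 5 n9337
theorem D11564 : act 5 n9337 = n11564 := rfl
theorem F20495 : act 4 n11564 = n9589 := d18_1 D11564 (iv D9589) (iv F13957)
def n11565 : Q := act 6 n9337
theorem D11565 : act 6 n9337 = n11565 := rfl
theorem F20496 : act 4 n11565 = n9590 := d19_1 D11565 (iv D9590) (iv F13957)
def n11566 : Q := act 1 n9338
theorem D11566 : act 1 n9338 = n11566 := rfl
theorem F20497 : act 4 n11566 = n9591 := d8_2 (iv F13959) D11566 (iv D9591)
def n11567 : Q := act 3 n9338
theorem D11567 : act 3 n9338 = n11567 := rfl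
theorem F20498 : act 0 n11567 = n9340 := d2_1 D11567 (iv D9340) (iv F13958)
def n11568 : Q := act 5 n9338
theorem D11568 : act 5 n9338 = n11568 := rfl
theorem F20499 : act 0 n11568 = n9341 := d4_1 D11568 (iv D9341) (iv F13958)
theorem F20500 : act 2 n11568 = n9339 := d13_1 D11568 (iv D9339) D9338
theorem F20501 : act 4 n11568 = n9593 := d18_1 D11568 (iv D9593) (iv F13959)
theorem F20502 : act 6 n11568 = n11532 := d22_1 D11568 (iv D11532) F13930 (iv F13958)
def n11569 : Q := act 1 n9339
theorem D11569 : act 1 n9339 = n11569 := rfl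
theorem F20503 : act 4 n11569 = n9594 := d8_2 (iv F13961) D11569 (iv D9594)
def n11570 : Q := act 2 n9340
theorem D11570 : act 2 n9340 = n11570 := rfl
def n11571 : Q := act 4 n9340
theorem D11571 : act 4 n9340 = n11571 := rfl
theorem F20504 : act 1 n11571 = n9366 := d8_1 D11571 (iv D9366) (iv F13963)
theorem F20505 : act 3 n11571 = n9596 := d15_1 D11571 (iv D9596) (iv D4643) (iv F6890) D9340
def n11572 : Q := act 5 n9340
theorem D11572 : act 5 n9340 = n11572 := rfl
theorem F20506 : act 3 n11572 = n9341 := d16_1 D11572 (iv D9341) D9340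
def n11573 : Q := act 1 n9341
theorem D11573 : act 1 n9341 = n11573 := rfl
theorem F20507 : act 4 n11573 = n9598 := d8_2 (iv F13965) D11573 (iv D9598)
theorem F20508 : act 5 n11573 = n9368 := d9_2 D9341 D11573 (iv D9368) (iv D4532) (iv F6889)
def n11574 : Q := act 6 n9341
theorem D11574 : act 6 n9341 = n11574 := rfl
theorem F20509 : act 0 n11574 = n11532 := d5_1 D11574 (iv F20502) F20499
theorem F20510 : act 2 n11574 = n9342 := d14_1 D11574 (iv D9342) (iv F13964)
theorem F20511 : act 4 n11574 = n9599 := d19_1 D11574 (iv D9599) (iv F13965)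
theorem F20512 : act 5 n11574 = n11530 := d20_1 D11574 F20428 D11568 F20502 (iv D11532) F13930 D9341
def n11575 : Q := act 1 n9342
theorem D11575 : act 1 n9342 = n11575 := rfl
theorem F20513 : act 4 n11575 = n9600 := d8_2 (iv F13967) D11575 (iv D9600)
def n11576 : Q := act 0 n9347
theorem D11576 : act 0 n9347 = n11576 := rfl
theorem F20514 : act 2 n11576 = n11576 := d1_2 F16356 D11576 (iv D11576)
theorem F20515 : act 4 n11576 = n9610 := d3_2 (iv F13977) D11576 (iv D9610)
def n11577 : Q := act 3 n9347
theorem D11577 : act 3 n9347 = n11577 := rfl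
theorem F20516 : act 1 n11577 = n9348 := d7_1 D11577 (iv D9348) D9347
def n11578 : Q := act 5 n9347
theorem D11578 : act 5 n9347 = n11578 := rfl
theorem F20517 : act 2 n11578 = n11578 := d13_1 D11578 (iv D11578) F16356
theorem F20518 : act 4 n11578 = n9612 := d18_1 D11578 (iv D9612) (iv F13977)
def n11579 : Q := act 6 n9347
theorem D11579 : act 6 n9347 = n11579 := rfl
theorem F20519 : act 2 n11579 = n11579 := d14_1 D11579 (iv D11579) F16356
theorem F20520 : act 4 n11579 = n9613 := d19_1 D11579 (iv D9613) (iv F13977)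
def n11580 : Q := act 4 n9348
theorem D11580 : act 4 n9348 = n11580 := rfl
theorem F20521 : act 0 n11580 = n9352 := d3_1 D11580 (iv D9352) (iv F13978)
theorem F20522 : act 3 n11580 = n9614 := d15_1 D11580 (iv D9614) (iv D4651) (iv F6895) D9348
def n11581 : Q := act 1 n9349
theorem D11581 : act 1 n9349 = n11581 := rfl
theorem F20523 : act 4 n11581 = n9616 := d8_2 (iv F13981) D11581 (iv D9616)
def n11582 : Q := act 6 n9352
theorem D11582 : act 6 n9352 = n11582 := rfl
theorem F20524 : act 3 n11582 = n9622 := d17_1 D11582 (iv D9622) (iv F13985)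
theorem F20525 : act 4 n11582 = n9353 := d19_1 D11582 (iv D9353) D9352
theorem F20526 : act 5 n10074 = n11582 := d18_0 F20525 F17237 D10074
def n11583 : Q := act 1 n9353
theorem D11583 : act 1 n9353 = n11583 := rfl
theorem F20527 : act 3 n11583 = n9354 := d7_2 (iv F13986) D11583 (iv D9354)
def n11584 : Q := act 0 n9354
theorem D11584 : act 0 n9354 = n11584 := rfl
theorem F20528 : act 4 n11584 = n9625 := d3_2 (iv F13987) D11584 (iv D9625)
def n11585 : Q := act 5 n9354
theorem D11585 : act 5 n9354 = n11585 := rfl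
theorem F20529 : act 1 n11585 = n10040 := d9_1 D11585 (iv D10040) F7878 F17078 D9354
theorem F20530 : act 2 n11585 = n11573 := d13_1 D11585 F20508 F17426
theorem F20531 : act 4 n11585 = n9626 := d18_1 D11585 (iv D9626) (iv F13987)
def n11586 : Q := act 0 n9361
theorem D11586 : act 0 n9361 = n11586 := rfl
theorem F20532 : act 2 n11586 = n11586 := d1_2 F17505 D11586 (iv D11586)
theorem F20533 : act 4 n11586 = n9639 := d3_2 (iv F14002) D11586 (iv D9639)
def n11587 : Q := act 3 n9361
theorem D11587 : act 3 n9361 = n11587 := rfl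
theorem F20534 : act 1 n11587 = n9362 := d7_1 D11587 (iv D9362) D9361
def n11588 : Q := act 5 n9361
theorem D11588 : act 5 n9361 = n11588 := rfl
theorem F20535 : act 2 n11588 = n11588 := d13_1 D11588 (iv D11588) F17505
theorem F20536 : act 4 n11588 = n9641 := d18_1 D11588 (iv D9641) (iv F14002)
def n11589 : Q := act 6 n9361
theorem D11589 : act 6 n9361 = n11589 := rfl
theorem F20537 : act 2 n11589 = n11589 := d14_1 D11589 (iv D11589) F17505
theorem F20538 : act 4 n11589 = n9642 := d19_1 D11589 (iv D9642) (iv F14002)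
def n11590 : Q := act 4 n9362
theorem D11590 : act 4 n9362 = n11590 := rfl
theorem F20539 : act 0 n11590 = n9366 := d3_1 D11590 (iv D9366) (iv F14003)
theorem F20540 : act 3 n11590 = n9643 := d15_1 D11590 (iv D9643) (iv D4665) (iv F6909) D9362
def n11591 : Q := act 1 n9363
theorem D11591 : act 1 n9363 = n11591 := rfl
theorem F20541 : act 4 n11591 = n9645 := d8_2 (iv F14006) D11591 (iv D9645)
def n11592 : Q := act 5 n9366
theorem D11592 : act 5 n9366 = n11592 := rfl
theorem F20542 : act 3 n11592 = n9651 := d16_1 D11592 (iv D9651) (iv F14010)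
theorem F20543 : act 4 n11592 = n9367 := d18_1 D11592 (iv D9367) D9366
theorem F20544 : act 6 n10084 = n11592 := d19_0 F20543 (iv F17479) D10084
def n11593 : Q := act 1 n9367
theorem D11593 : act 1 n9367 = n11593 := rfl
theorem F20545 : act 3 n11593 = n9368 := d7_2 (iv F14011) D11593 (iv D9368)
def n11594 : Q := act 0 n9368
theorem D11594 : act 0 n9368 = n11594 := rfl
theorem F20546 : act 2 n11594 = n11584 := d1_2 (iv F17426) D11594 (iv D11584)
theorem F20547 : act 4 n11594 = n9654 := d3_2 (iv F14012) D11594 (iv D9654)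
def n11595 : Q := act 6 n9368
theorem D11595 : act 6 n9368 = n11595 := rfl
theorem F20548 : act 1 n11595 = n10063 := d10_1 D11595 (iv D10063) F7897 (iv F16868) D9368
theorem F20549 : act 2 n11595 = n11559 := d14_1 D11595 F20486 (iv F17426)
theorem F20550 : act 4 n11595 = n9655 := d19_1 D11595 (iv D9655) (iv F14012)
def n11596 : Q := act 0 n9390
theorem D11596 : act 0 n9390 = n11596 := rfl
theorem F20551 : act 2 n11596 = n10067 := d1_2 F17215 D11596 (iv D10067)
theorem F20552 : act 4 n11596 = n10277 := d3_2 F17191 D11596 F18136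
def n11597 : Q := act 3 n9390
theorem D11597 : act 3 n9390 = n11597 := rfl
theorem F20553 : act 1 n11597 = n9391 := d7_1 D11597 (iv D9391) D9390
def n11598 : Q := act 5 n9390
theorem D11598 : act 5 n9390 = n11598 := rfl
theorem F20554 : act 1 n11598 = n11578 := d9_1 D11598 (iv D11578) (iv D9347) (iv F14812) D9390
theorem F20555 : act 2 n11598 = n10068 := d13_1 D11598 (iv D10068) F17215
theorem F20556 : act 4 n11598 = n10280 := d18_1 D11598 (iv D10280) F17191
def n11599 : Q := act 6 n9390
theorem D11599 : act 6 n9390 = n11599 := rfl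
theorem F20557 : act 1 n11599 = n10033 := d10_1 D11599 F17828 F7878 (iv F17181) D9390
theorem F20558 : act 2 n11599 = n10030 := d14_1 D11599 F17820 F17215
theorem F20559 : act 4 n11599 = n10196 := d19_1 D11599 F18056 F17191
def n11600 : Q := act 4 n9391
theorem D11600 : act 4 n9391 = n11600 := rfl
theorem F20560 : act 0 n11600 = n11302 := d3_1 D11600 (iv D11302) F14914
theorem F20561 : act 2 n11600 = n11580 := d12_1 D11600 (iv D11580) (iv F14058)
theorem F20562 : act 3 n11600 = n10282 := d15_1 D11600 (iv D10282) (iv D5598) (iv F17180) D9391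
theorem F20563 : act 5 n11600 = n11580 := d18_2 (iv F16335) D11600 (iv D11580)
theorem F20564 : act 6 n11600 = n10074 := d19_2 F17236 D11600 (iv D10074)
def n11601 : Q := act 0 n9421
theorem D11601 : act 0 n9421 = n11601 := rfl
theorem F20565 : act 2 n11601 = n10077 := d1_2 F16866 D11601 (iv D10077)
theorem F20566 : act 4 n11601 = n10298 := d3_2 (iv F17482) D11601 F18162
def n11602 : Q := act 3 n9421
theorem D11602 : act 3 n9421 = n11602 := rfl
theorem F20567 : act 1 n11602 = n9422 := d7_1 D11602 (iv D9422) D9421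
def n11603 : Q := act 5 n9421
theorem D11603 : act 5 n9421 = n11603 := rfl
theorem F20568 : act 1 n11603 = n10056 := d9_1 D11603 F17866 F7897 F16740 D9421
theorem F20569 : act 2 n11603 = n10053 := d13_1 D11603 F17858 F16866
theorem F20570 : act 4 n11603 = n10248 := d18_1 D11603 F18106 (iv F17482)
def n11604 : Q := act 6 n9421
theorem D11604 : act 6 n9421 = n11604 := rfl
theorem F20571 : act 1 n11604 = n11589 := d10_1 D11604 (iv D11589) (iv D9361) (iv F16667) D9421
theorem F20572 : act 2 n11604 = n10078 := d14_1 D11604 (iv D10078) F16866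
theorem F20573 : act 4 n11604 = n10301 := d19_1 D11604 (iv D10301) (iv F17482)
def n11605 : Q := act 4 n9422
theorem D11605 : act 4 n9422 = n11605 := rfl
theorem F20574 : act 0 n11605 = n11305 := d3_1 D11605 (iv D11305) F16765
theorem F20575 : act 2 n11605 = n11590 := d12_1 D11605 (iv D11590) (iv F14115)
theorem F20576 : act 3 n11605 = n10303 := d15_1 D11605 (iv D10303) (iv D5641) (iv F16680) D9422
theorem F20577 : act 5 n11605 = n10084 := d18_2 (iv F17480) D11605 (iv D10084)
theorem F20578 : act 6 n11605 = n11590 := d19_2 (iv F17481) D11605 (iv D11590)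
def n11606 : Q := act 1 n9542
theorem D11606 : act 1 n9542 = n11606 := rfl
theorem F20579 : act 3 n11606 = n10100 := d7_2 (iv F14264) D11606 (iv D10100)
theorem F20580 : act 5 n11606 = n10100 := d9_2 D9542 D11606 (iv D10100) (iv D5494) (iv F7041)
def n11607 : Q := act 1 n9543
theorem D11607 : act 1 n9543 = n11607 := rfl
theorem F20581 : act 3 n11607 = n10101 := d7_2 (iv F14266) D11607 (iv D10101)
theorem F20582 : act 6 n11607 = n10101 := d10_2 D9543 D11607 (iv D10101) (iv D5495) (iv F7041)
def n11608 : Q := act 1 n9545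
theorem D11608 : act 1 n9545 = n11608 := rfl
def n11609 : Q := act 6 n9545
theorem D11609 : act 6 n9545 = n11609 := rfl
theorem F20583 : act 2 n11609 = n9548 := d14_1 D11609 (iv D9548) (iv F14267)
theorem F20584 : act 5 n11609 = n11224 := d22_2 D9545 D11609 (iv D11224) F16049
def n11610 : Q := act 1 n9546
theorem D11610 : act 1 n9546 = n11610 := rfl
def n11611 : Q := act 5 n9546
theorem D11611 : act 5 n9546 = n11611 := rfl
theorem F20585 : act 0 n11611 = n11609 := d4_1 D11611 F20584 F19921
theorem F20586 : act 2 n11611 = n9550 := d13_1 D11611 (iv D9550) (iv F14268)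
theorem F20587 : act 6 n11611 = n11223 := d20_2 D9546 D11611 (iv D11223) D11224 (iv F20584) (iv D11609) (iv D9545)
def n11612 : Q := act 6 n9547
theorem D11612 : act 6 n9547 = n11612 := rfl
theorem F20588 : act 3 n11612 = n10112 := d17_1 D11612 (iv D10112) (iv F14269)
def n11613 : Q := act 1 n9548
theorem D11613 : act 1 n9548 = n11613 := rfl
theorem F20589 : act 3 n11613 = n10113 := d7_2 (iv F14271) D11613 (iv D10113)
def n11614 : Q := act 0 n9549
theorem D11614 : act 0 n9549 = n11614 := rfl
theorem F20590 : act 3 n11614 = n10114 := d2_2 (iv F14273) D11614 (iv D10114)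
theorem F20591 : act 6 n11614 = n9554 := d5_2 (iv F14274) D11614 (iv D9554)
def n11615 : Q := act 2 n9549
theorem D11615 : act 2 n9549 = n11615 := rfl
theorem F20592 : act 6 n11615 = n9555 := d14_2 (iv F14274) D11615 (iv D9555)
def n11616 : Q := act 5 n9549
theorem D11616 : act 5 n9549 = n11616 := rfl
theorem F20593 : act 3 n11616 = n10116 := d16_1 D11616 (iv D10116) (iv F14273)
def n11617 : Q := act 1 n9550
theorem D11617 : act 1 n9550 = n11617 := rfl
theorem F20594 : act 3 n11617 = n10117 := d7_2 (iv F14276) D11617 (iv D10117)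
def n11618 : Q := act 1 n9551
theorem D11618 : act 1 n9551 = n11618 := rfl
theorem F20595 : act 2 n11618 = n11608 := d6_2 F16331 D11618 (iv D11608) F14267 D9547
theorem F20596 : act 3 n11618 = n10118 := d7_2 (iv F14278) D11618 (iv D10118)
def n11619 : Q := act 6 n9551
theorem D11619 : act 6 n9551 = n11619 := rfl
theorem F20597 : act 0 n11619 = n9553 := d5_1 D11619 (iv D9553) D9551
theorem F20598 : act 2 n11619 = n11612 := d14_1 D11619 (iv D11612) F16331
theorem F20599 : act 3 n11619 = n10120 := d17_1 D11619 (iv D10120) (iv F14278)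
theorem F20600 : act 5 n11619 = n11612 := d22_2 (iv F16329) D11619 (iv D11612) (iv F16330)
def n11620 : Q := act 6 n9552
theorem D11620 : act 6 n9552 = n11620 := rfl
theorem F20601 : act 0 n11620 = n11612 := d5_1 D11620 (iv D11612) (iv F16330)
theorem F20602 : act 2 n11620 = n9553 := d14_1 D11620 (iv D9553) D9552
theorem F20603 : act 3 n11620 = n10123 := d17_1 D11620 F17981 F17970
theorem F20604 : act 5 n11620 = n9553 := d20_1 D11620 (iv D9553) (iv F14270) D11612 (iv F20600) (iv D11619) F16329
def n11621 : Q := act 1 n9554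
theorem D11621 : act 1 n9554 = n11621 := rfl
theorem F20605 : act 3 n11621 = n10124 := d7_2 (iv F14280) D11621 (iv D10124)
def n11622 : Q := act 2 n9554
theorem D11622 : act 2 n9554 = n11622 := rfl
theorem F20606 : act 0 n11622 = n9555 := d1_1 D11622 (iv D9555) D9554
def n11623 : Q := act 5 n9554
theorem D11623 : act 5 n9554 = n11623 := rfl
theorem F20607 : act 0 n11623 = n9556 := d4_1 D11623 (iv D9556) D9554
theorem F20608 : act 3 n11623 = n10126 := d16_1 D11623 (iv D10126) (iv F14280)
theorem F20609 : act 6 n11623 = n11616 := d22_1 D11623 (iv D11616) F14274 D9554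
def n11624 : Q := act 3 n9555
theorem D11624 : act 3 n9555 = n11624 := rfl
def n11625 : Q := act 5 n9555
theorem D11625 : act 5 n9555 = n11625 := rfl
theorem F20610 : act 2 n11625 = n9556 := d13_1 D11625 (iv D9556) D9555
def n11626 : Q := act 6 n9556
theorem D11626 : act 6 n9556 = n11626 := rfl
theorem F20611 : act 0 n11626 = n11616 := d5_1 D11626 (iv F20609) F20607
theorem F20612 : act 3 n11626 = n10129 := d17_1 D11626 (iv D10129) (iv F14281)
theorem F20613 : act 5 n11626 = n11614 := d20_1 D11626 F20591 D11623 F20609 (iv D11616) F14274 D9556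
def n11627 : Q := act 0 n9557
theorem D11627 : act 0 n9557 = n11627 := rfl
theorem F20614 : act 3 n11627 = n10130 := d2_2 (iv F14282) D11627 (iv D10130)
def n11628 : Q := act 2 n9557
theorem D11628 : act 2 n9557 = n11628 := rfl
def n11629 : Q := act 5 n9557
theorem D11629 : act 5 n9557 = n11629 := rfl
theorem F20615 : act 1 n11629 = n9575 := d9_1 D11629 (iv D9575) (iv D4634) (iv F7048) D9557
theorem F20616 : act 3 n11629 = n10132 := d16_1 D11629 (iv D10132) (iv F14282)
def n11630 : Q := act 6 n9557
theorem D11630 : act 6 n9557 = n11630 := rfl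
theorem F20617 : act 3 n11630 = n10133 := d17_1 D11630 (iv D10133) (iv F14282)
def n11631 : Q := act 1 n9558
theorem D11631 : act 1 n9558 = n11631 := rfl
def n11632 : Q := act 3 n9558
theorem D11632 : act 3 n9558 = n11632 := rfl
theorem F20618 : act 0 n11632 = n9559 := d2_1 D11632 (iv D9559) (iv F14283)
theorem F20619 : act 5 n11632 = n9578 := d16_2 (iv F14284) D11632 (iv D9578)
def n11633 : Q := act 2 n9559
theorem D11633 : act 2 n9559 = n11633 := rfl
theorem F20620 : act 5 n11633 = n9581 := d13_2 (iv F14285) D11633 (iv D9581)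
def n11634 : Q := act 4 n9559
theorem D11634 : act 4 n9559 = n11634 := rfl
theorem F20621 : act 5 n11634 = n9582 := d18_2 (iv F14285) D11634 (iv D9582)
def n11635 : Q := act 6 n9559
theorem D11635 : act 6 n9559 = n11635 := rfl
theorem F20622 : act 3 n11635 = n9560 := d17_1 D11635 (iv D9560) D9559
def n11636 : Q := act 1 n9560
theorem D11636 : act 1 n9560 = n11636 := rfl
def n11637 : Q := act 0 n9561
theorem D11637 : act 0 n9561 = n11637 := rfl
theorem F20623 : act 3 n11637 = n10140 := d2_2 (iv F14287) D11637 (iv D10140)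
theorem F20624 : act 6 n11637 = n9562 := d5_2 (iv F14288) D11637 (iv D9562)
def n11638 : Q := act 2 n9561
theorem D11638 : act 2 n9561 = n11638 := rfl
theorem F20625 : act 6 n11638 = n9563 := d14_2 (iv F14288) D11638 (iv D9563)
def n11639 : Q := act 5 n9561
theorem D11639 : act 5 n9561 = n11639 := rfl
theorem F20626 : act 3 n11639 = n10142 := d16_1 D11639 (iv D10142) (iv F14287)
def n11640 : Q := act 1 n9562
theorem D11640 : act 1 n9562 = n11640 := rfl
theorem F20627 : act 3 n11640 = n10143 := d7_2 (iv F14289) D11640 (iv D10143)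
def n11641 : Q := act 2 n9562
theorem D11641 : act 2 n9562 = n11641 := rfl
theorem F20628 : act 0 n11641 = n9563 := d1_1 D11641 (iv D9563) D9562
def n11642 : Q := act 5 n9562
theorem D11642 : act 5 n9562 = n11642 := rfl
theorem F20629 : act 0 n11642 = n9564 := d4_1 D11642 (iv D9564) D9562
theorem F20630 : act 3 n11642 = n10145 := d16_1 D11642 (iv D10145) (iv F14289)
theorem F20631 : act 6 n11642 = n11639 := d22_1 D11642 (iv D11639) F14288 D9562
theorem F20632 : act 1 n10164 = n11642 := d24_14 F20631 (iv D11639) (iv D9561) (iv D4628) F3528 (iv D1090) (iv F1202) (iv D650) D649 (iv F2174) D2662 D5521 D10161 (iv F18018)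
theorem F20633 : act 5 n11640 = n10240 := d9_4 (iv F18018) F20632 (iv D11642) D11640 F18091
def n11643 : Q := act 3 n9563
theorem D11643 : act 3 n9563 = n11643 := rfl
def n11644 : Q := act 5 n9563
theorem D11644 : act 5 n9563 = n11644 := rfl
theorem F20634 : act 2 n11644 = n9564 := d13_1 D11644 (iv D9564) D9563
def n11645 : Q := act 6 n9564
theorem D11645 : act 6 n9564 = n11645 := rfl
theorem F20635 : act 0 n11645 = n11639 := d5_1 D11645 (iv F20631) F20629
theorem F20636 : act 3 n11645 = n10148 := d17_1 D11645 (iv D10148) (iv F14291)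
theorem F20637 : act 5 n11645 = n11637 := d20_1 D11645 F20624 D11642 F20631 (iv D11639) F14288 D9564
def n11646 : Q := act 0 n9565
theorem D11646 : act 0 n9565 = n11646 := rfl
theorem F20638 : act 3 n11646 = n10149 := d2_2 (iv F14292) D11646 (iv D10149)
def n11647 : Q := act 2 n9565
theorem D11647 : act 2 n9565 = n11647 := rfl
def n11648 : Q := act 5 n9565
theorem D11648 : act 5 n9565 = n11648 := rfl
theorem F20639 : act 3 n11648 = n10151 := d16_1 D11648 (iv D10151) (iv F14292)
def n11649 : Q := act 6 n9565
theorem D11649 : act 6 n9565 = n11649 := rfl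
theorem F20640 : act 1 n11649 = n9590 := d10_1 D11649 (iv D9590) (iv D4640) (iv F7053) D9565
theorem F20641 : act 3 n11649 = n10152 := d17_1 D11649 (iv D10152) (iv F14292)
def n11650 : Q := act 1 n9566
theorem D11650 : act 1 n9566 = n11650 := rfl
def n11651 : Q := act 3 n9566
theorem D11651 : act 3 n9566 = n11651 := rfl
theorem F20642 : act 0 n11651 = n9567 := d2_1 D11651 (iv D9567) (iv F14293)
theorem F20643 : act 6 n11651 = n9592 := d17_2 (iv F14294) D11651 (iv D9592)
def n11652 : Q := act 2 n9567
theorem D11652 : act 2 n9567 = n11652 := rfl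
theorem F20644 : act 6 n11652 = n9595 := d14_2 (iv F14295) D11652 (iv D9595)
def n11653 : Q := act 4 n9567
theorem D11653 : act 4 n9567 = n11653 := rfl
theorem F20645 : act 6 n11653 = n9596 := d19_2 (iv F14295) D11653 (iv D9596)
def n11654 : Q := act 5 n9567
theorem D11654 : act 5 n9567 = n11654 := rfl
theorem F20646 : act 3 n11654 = n9568 := d16_1 D11654 (iv D9568) D9567
def n11655 : Q := act 1 n9568
theorem D11655 : act 1 n9568 = n11655 := rfl
def n11656 : Q := act 0 n9569
theorem D11656 : act 0 n9569 = n11656 := rfl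
theorem F20647 : act 3 n11656 = n10159 := d2_2 (iv F14297) D11656 (iv D10159)
theorem F20648 : act 5 n11656 = n9570 := d4_2 (iv F14298) D11656 (iv D9570)
def n11657 : Q := act 2 n9569
theorem D11657 : act 2 n9569 = n11657 := rfl
theorem F20649 : act 5 n11657 = n9571 := d13_2 (iv F14298) D11657 (iv D9571)
def n11658 : Q := act 6 n9569
theorem D11658 : act 6 n9569 = n11658 := rfl
theorem F20650 : act 3 n11658 = n10161 := d17_1 D11658 (iv D10161) (iv F14297)
def n11659 : Q := act 1 n9570
theorem D11659 : act 1 n9570 = n11659 := rfl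
theorem F20651 : act 3 n11659 = n10162 := d7_2 (iv F14299) D11659 (iv D10162)
def n11660 : Q := act 2 n9570
theorem D11660 : act 2 n9570 = n11660 := rfl
theorem F20652 : act 0 n11660 = n9571 := d1_1 D11660 (iv D9571) D9570
def n11661 : Q := act 6 n9570
theorem D11661 : act 6 n9570 = n11661 := rfl
theorem F20653 : act 0 n11661 = n9572 := d5_1 D11661 (iv D9572) D9570
theorem F20654 : act 3 n11661 = n10164 := d17_1 D11661 (iv D10164) (iv F14299)
theorem F20655 : act 5 n11661 = n11658 := d22_2 F20648 D11661 (iv D11658) D11656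
theorem F20656 : act 1 n11661 = n10145 := d24_2 D11658 (iv F20655) F18001 (iv D10142) (iv D5513) (iv D2658) F2171 (iv D647) D648 F1198 D1091 (iv F3532) D4632 D9569
theorem F20657 : act 6 n10188 = n11659 := d10_4 D11661 F20656 F18001 (iv F18041) (iv D11659)
def n11662 : Q := act 3 n9571
theorem D11662 : act 3 n9571 = n11662 := rfl
def n11663 : Q := act 6 n9571
theorem D11663 : act 6 n9571 = n11663 := rfl
theorem F20658 : act 2 n11663 = n9572 := d14_1 D11663 (iv D9572) D9571
def n11664 : Q := act 5 n9572
theorem D11664 : act 5 n9572 = n11664 := rfl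
theorem F20659 : act 0 n11664 = n11658 := d4_1 D11664 (iv F20655) F20653
theorem F20660 : act 3 n11664 = n10167 := d16_1 D11664 (iv D10167) (iv F14301)
theorem F20661 : act 6 n11664 = n11656 := d20_2 D9572 D11664 F20648 D11661 F20655 (iv D11658) F14298
def n11665 : Q := act 5 n9573
theorem D11665 : act 5 n9573 = n11665 := rfl
theorem F20662 : act 0 n11665 = n9575 := d4_1 D11665 (iv D9575) D9573
theorem F20663 : act 2 n11665 = n9575 := d13_1 D11665 (iv D9575) (iv F20107)
theorem F20664 : act 3 n11665 = n10169 := d16_1 D11665 (iv D10169) (iv F14303)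
def n11666 : Q := act 6 n9573
theorem D11666 : act 6 n9573 = n11666 := rfl
theorem F20665 : act 0 n11666 = n9576 := d5_1 D11666 (iv D9576) D9573
theorem F20666 : act 2 n11666 = n9576 := d14_1 D11666 (iv D9576) (iv F20107)
theorem F20667 : act 3 n11666 = n10170 := d17_1 D11666 (iv D10170) (iv F14303)
def n11667 : Q := act 6 n9575
theorem D11667 : act 6 n9575 = n11667 := rfl
theorem F20668 : act 3 n11667 = n10175 := d17_1 D11667 (iv D10175) (iv F14304)
theorem F20669 : act 5 n11667 = n11666 := d22_2 D9575 D11667 (iv D11666) (iv D9573)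
def n11668 : Q := act 1 n9576
theorem D11668 : act 1 n9576 = n11668 := rfl
theorem F20670 : act 3 n11668 = n10176 := d7_2 (iv F14305) D11668 (iv D10176)
theorem F20671 : act 6 n11668 = n9580 := d10_2 D9576 D11668 (iv D9580) (iv D4636) D4634
def n11669 : Q := act 5 n9576
theorem D11669 : act 5 n9576 = n11669 := rfl
theorem F20672 : act 0 n11669 = n11667 := d4_1 D11669 F20669 F20665
theorem F20673 : act 2 n11669 = n11667 := d13_1 D11669 F20669 F20666
theorem F20674 : act 3 n11669 = n10177 := d16_1 D11669 (iv D10177) (iv F14305)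
theorem F20675 : act 6 n11669 = n11665 := d20_2 D9576 D11669 (iv D11665) D11666 (iv F20669) (iv D11667) (iv D9575)
def n11670 : Q := act 3 n9577
theorem D11670 : act 3 n9577 = n11670 := rfl
theorem F20676 : act 0 n11670 = n10172 := d2_1 D11670 (iv D10172) (iv F20105)
theorem F20677 : act 1 n11670 = n9578 := d7_1 D11670 (iv D9578) D9577
theorem F20678 : act 2 n11670 = n11670 := d11_1 D11670 (iv D11670) F20106 (iv F14303) F20107 F7057 D5526 D10172 F20108 (iv D10172) (iv D5526) (iv F7057) (iv F20107) F14303 (iv F20106)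
def n11671 : Q := act 5 n9577
theorem D11671 : act 5 n9577 = n11671 := rfl
theorem F20679 : act 0 n11671 = n10173 := d4_1 D11671 (iv D10173) (iv F20105)
theorem F20680 : act 2 n11671 = n10169 := d13_1 D11671 (iv D10169) (iv F20106)
def n11672 : Q := act 6 n9577
theorem D11672 : act 6 n9577 = n11672 := rfl
theorem F20681 : act 0 n11672 = n10174 := d5_1 D11672 (iv D10174) (iv F20105)
theorem F20682 : act 2 n11672 = n10170 := d14_1 D11672 (iv D10170) (iv F20106)
def n11673 : Q := act 4 n9578
theorem D11673 : act 4 n9578 = n11673 := rfl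
theorem F20683 : act 0 n11673 = n9582 := d3_1 D11673 (iv D9582) (iv F14306)
def n11674 : Q := act 6 n9578
theorem D11674 : act 6 n9578 = n11674 := rfl
theorem F20684 : act 0 n11674 = n9583 := d5_1 D11674 (iv D9583) (iv F14306)
theorem F20685 : act 3 n11674 = n9579 := d17_1 D11674 (iv D9579) D9578
theorem F20686 : act 5 n11674 = n11635 := d22_2 F20619 D11674 (iv D11635) (iv F20618)
def n11675 : Q := act 1 n9579
theorem D11675 : act 1 n9579 = n11675 := rfl
def n11676 : Q := act 0 n9580
theorem D11676 : act 0 n9580 = n11676 := rfl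
theorem F20687 : act 3 n11676 = n10186 := d2_2 (iv F14310) D11676 (iv D10186)
def n11677 : Q := act 2 n9580
theorem D11677 : act 2 n9580 = n11677 := rfl
def n11678 : Q := act 5 n9580
theorem D11678 : act 5 n9580 = n11678 := rfl
theorem F20688 : act 1 n11678 = n11639 := d9_1 D11678 (iv D11639) (iv D9561) (iv F7061) D9580
theorem F20689 : act 3 n11678 = n10188 := d16_1 D11678 (iv D10188) (iv F14310)
theorem F20690 : act 6 n10162 = n11678 := d17_0 F20689 F20657 F20651
def n11679 : Q := act 1 n9581
theorem D11679 : act 1 n9581 = n11679 := rfl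
theorem F20691 : act 2 n11679 = n9619 := d6_2 D9581 D11679 (iv D9619) (iv D4654) (iv F7062)
def n11680 : Q := act 4 n9581
theorem D11680 : act 4 n9581 = n11680 := rfl
theorem F20692 : act 2 n11680 = n9582 := d12_1 D11680 (iv D9582) D9581
def n11681 : Q := act 6 n9581
theorem D11681 : act 6 n9581 = n11681 := rfl
theorem F20693 : act 2 n11681 = n9583 := d14_1 D11681 (iv D9583) D9581
def n11682 : Q := act 6 n9582
theorem D11682 : act 6 n9582 = n11682 := rfl
theorem F20694 : act 4 n11682 = n9583 := d19_1 D11682 (iv D9583) D9582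
def n11683 : Q := act 1 n9583
theorem D11683 : act 1 n9583 = n11683 := rfl
theorem F20695 : act 3 n11683 = n9584 := d7_2 (iv F14312) D11683 (iv D9584)
theorem F20696 : act 6 n11683 = n9623 := d10_2 D9583 D11683 (iv D9623) (iv D4656) (iv F7062)
def n11684 : Q := act 5 n9583
theorem D11684 : act 5 n9583 = n11684 := rfl
theorem F20697 : act 0 n11684 = n11635 := d4_1 D11684 (iv F20686) F20684
theorem F20698 : act 3 n11684 = n9585 := d16_1 D11684 (iv D9585) (iv F14312)
theorem F20699 : act 6 n11684 = n11632 := d20_2 D9583 D11684 F20619 D11674 F20686 (iv D11635) F14285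
def n11685 : Q := act 0 n9584
theorem D11685 : act 0 n9584 = n11685 := rfl
theorem F20700 : act 6 n11685 = n9625 := d5_2 (iv F14313) D11685 (iv D9625)
def n11686 : Q := act 5 n9584
theorem D11686 : act 5 n9584 = n11686 := rfl
def n11687 : Q := act 1 n9585
theorem D11687 : act 1 n9585 = n11687 := rfl
def n11688 : Q := act 0 n9586
theorem D11688 : act 0 n9586 = n11688 := rfl
theorem F20701 : act 3 n11688 = n10204 := d2_2 (iv F14317) D11688 (iv D10204)
def n11689 : Q := act 2 n9586
theorem D11689 : act 2 n9586 = n11689 := rfl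
def n11690 : Q := act 6 n9586
theorem D11690 : act 6 n9586 = n11690 := rfl
theorem F20702 : act 1 n11690 = n11630 := d10_1 D11690 (iv D11630) (iv D9557) (iv F7066) D9586
theorem F20703 : act 3 n11690 = n10206 := d17_1 D11690 (iv D10206) (iv F14317)
def n11691 : Q := act 2 n9587
theorem D11691 : act 2 n9587 = n11691 := rfl
theorem F20704 : act 0 n11691 = n9588 := d1_1 D11691 (iv D9588) D9587
def n11692 : Q := act 5 n9587
theorem D11692 : act 5 n9587 = n11692 := rfl
theorem F20705 : act 0 n11692 = n9589 := d4_1 D11692 (iv D9589) D9587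
theorem F20706 : act 3 n11692 = n10221 := d16_1 D11692 (iv D10221) (iv F14319)
def n11693 : Q := act 6 n9587
theorem D11693 : act 6 n9587 = n11693 := rfl
theorem F20707 : act 0 n11693 = n9590 := d5_1 D11693 (iv D9590) D9587
theorem F20708 : act 3 n11693 = n10222 := d17_1 D11693 (iv D10222) (iv F14319)
def n11694 : Q := act 1 n9588
theorem D11694 : act 1 n9588 = n11694 := rfl
theorem F20709 : act 2 n11694 = n9591 := d6_2 D9588 D11694 (iv D9591) (iv D4641) D4640
def n11696 : Q := act 5 n9588
theorem D11696 : act 5 n9588 = n11696 := rfl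
theorem F20710 : act 2 n11696 = n9589 := d13_1 D11696 (iv D9589) D9588
def n11697 : Q := act 6 n9588
theorem D11697 : act 6 n9588 = n11697 := rfl
theorem F20711 : act 2 n11697 = n9590 := d14_1 D11697 (iv D9590) D9588
def n11698 : Q := act 1 n9589
theorem D11698 : act 1 n9589 = n11698 := rfl
theorem F20712 : act 3 n11698 = n10227 := d7_2 (iv F14320) D11698 (iv D10227)
theorem F20713 : act 5 n11698 = n9594 := d9_2 D9589 D11698 (iv D9594) (iv D4642) D4640
def n11699 : Q := act 6 n9589
theorem D11699 : act 6 n9589 = n11699 := rfl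
theorem F20714 : act 3 n11699 = n10228 := d17_1 D11699 (iv D10228) (iv F14320)
theorem F20715 : act 5 n11699 = n11693 := d22_2 D9589 D11699 (iv D11693) (iv D9587)
def n11700 : Q := act 5 n9590
theorem D11700 : act 5 n9590 = n11700 := rfl
theorem F20716 : act 0 n11700 = n11699 := d4_1 D11700 F20715 F20707
theorem F20717 : act 3 n11700 = n10229 := d16_1 D11700 (iv D10229) (iv F14321)
theorem F20718 : act 6 n11700 = n11692 := d20_2 D9590 D11700 (iv D11692) D11693 (iv F20715) (iv D11699) (iv D9589)
def n11701 : Q := act 0 n9591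
theorem D11701 : act 0 n9591 = n11701 := rfl
def n11702 : Q := act 3 n9591
theorem D11702 : act 3 n9591 = n11702 := rfl
theorem F20719 : act 1 n11702 = n9592 := d7_1 D11702 (iv D9592) D9591
theorem F20720 : act 2 n11702 = n11702 := d6_0 F20719 (iv F18094) F18093 F18094 (iv F20719)
def n11703 : Q := act 5 n9591
theorem D11703 : act 5 n9591 = n11703 := rfl
def n11704 : Q := act 6 n9591
theorem D11704 : act 6 n9591 = n11704 := rfl
def n11705 : Q := act 4 n9592
theorem D11705 : act 4 n9592 = n11705 := rfl
theorem F20721 : act 0 n11705 = n9596 := d3_1 D11705 (iv D9596) (iv F14322)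
def n11706 : Q := act 5 n9592
theorem D11706 : act 5 n9592 = n11706 := rfl
theorem F20722 : act 0 n11706 = n9597 := d4_1 D11706 (iv D9597) (iv F14322)
theorem F20723 : act 3 n11706 = n9593 := d16_1 D11706 (iv D9593) D9592
theorem F20724 : act 6 n11706 = n11654 := d22_1 D11706 (iv D11654) F14295 (iv F14322)
def n11707 : Q := act 1 n9593
theorem D11707 : act 1 n9593 = n11707 := rfl
def n11708 : Q := act 0 n9594
theorem D11708 : act 0 n9594 = n11708 := rfl
theorem F20725 : act 3 n11708 = n10238 := d2_2 (iv F14326) D11708 (iv D10238)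
def n11709 : Q := act 2 n9594
theorem D11709 : act 2 n9594 = n11709 := rfl
def n11710 : Q := act 6 n9594
theorem D11710 : act 6 n9594 = n11710 := rfl
theorem F20726 : act 1 n11710 = n11658 := d10_1 D11710 (iv D11658) (iv D9569) (iv F7071) D9594
theorem F20727 : act 3 n11710 = n10240 := d17_1 D11710 (iv D10240) (iv F14326)
theorem F20728 : act 5 n10143 = n11710 := d16_0 F20727 (iv F20633) F20627
def n11711 : Q := act 1 n9595
theorem D11711 : act 1 n9595 = n11711 := rfl
theorem F20729 : act 2 n11711 = n9648 := d6_2 D9595 D11711 (iv D9648) (iv D4668) (iv F7072)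
def n11712 : Q := act 4 n9595
theorem D11712 : act 4 n9595 = n11712 := rfl
theorem F20730 : act 2 n11712 = n9596 := d12_1 D11712 (iv D9596) D9595
def n11713 : Q := act 5 n9595
theorem D11713 : act 5 n9595 = n11713 := rfl
theorem F20731 : act 2 n11713 = n9597 := d13_1 D11713 (iv D9597) D9595
def n11714 : Q := act 5 n9596
theorem D11714 : act 5 n9596 = n11714 := rfl
theorem F20732 : act 4 n11714 = n9597 := d18_1 D11714 (iv D9597) D9596
def n11715 : Q := act 1 n9597
theorem D11715 : act 1 n9597 = n11715 := rfl
theorem F20733 : act 3 n11715 = n9598 := d7_2 (iv F14328) D11715 (iv D9598)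
theorem F20734 : act 5 n11715 = n9652 := d9_2 D9597 D11715 (iv D9652) (iv D4670) (iv F7072)
def n11716 : Q := act 6 n9597
theorem D11716 : act 6 n9597 = n11716 := rfl
theorem F20735 : act 0 n11716 = n11654 := d5_1 D11716 (iv F20724) F20722
theorem F20736 : act 3 n11716 = n9599 := d17_1 D11716 (iv D9599) (iv F14328)
theorem F20737 : act 5 n11716 = n11651 := d20_1 D11716 F20643 D11706 F20724 (iv D11654) F14295 D9597
def n11717 : Q := act 0 n9598
theorem D11717 : act 0 n9598 = n11717 := rfl
theorem F20738 : act 5 n11717 = n9654 := d4_2 (iv F14329) D11717 (iv D9654)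
def n11718 : Q := act 6 n9598
theorem D11718 : act 6 n9598 = n11718 := rfl
def n11719 : Q := act 1 n9599
theorem D11719 : act 1 n9599 = n11719 := rfl
def n11720 : Q := act 0 n9600
theorem D11720 : act 0 n9600 = n11720 := rfl
theorem F20739 : act 3 n11720 = n10256 := d2_2 (iv F14333) D11720 (iv D10256)
def n11721 : Q := act 2 n9600
theorem D11721 : act 2 n9600 = n11721 := rfl
def n11722 : Q := act 5 n9600
theorem D11722 : act 5 n9600 = n11722 := rfl
theorem F20740 : act 1 n11722 = n11648 := d9_1 D11722 (iv D11648) (iv D9565) (iv F7076) D9600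
theorem F20741 : act 3 n11722 = n10258 := d16_1 D11722 (iv D10258) (iv F14333)
def n11723 : Q := act 1 n9610
theorem D11723 : act 1 n9610 = n11723 := rfl
theorem F20742 : act 0 n11723 = n10171 := d0_1 D11723 (iv D10171) (iv F20105) (iv D9577) F7058 F3537 (iv F3543) D4650 D9610
theorem F20743 : act 2 n10178 = n11723 := d1_0 F20742 F18026 D10178
def n11724 : Q := act 3 n9610
theorem D11724 : act 3 n9610 = n11724 := rfl
theorem F20744 : act 0 n11724 = n9611 := d2_1 D11724 (iv D9611) D9610
def n11725 : Q := act 5 n9610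
theorem D11725 : act 5 n9610 = n11725 := rfl
theorem F20745 : act 0 n11725 = n9612 := d4_1 D11725 (iv D9612) D9610
theorem F20746 : act 2 n11725 = n11725 := d13_1 D11725 (iv D11725) F16355
def n11726 : Q := act 6 n9610
theorem D11726 : act 6 n9610 = n11726 := rfl
theorem F20747 : act 0 n11726 = n9613 := d5_1 D11726 (iv D9613) D9610
theorem F20748 : act 2 n11726 = n11726 := d14_1 D11726 (iv D11726) F16355
def n11727 : Q := act 2 n9611
theorem D11727 : act 2 n9611 = n11727 := rfl
def n11728 : Q := act 4 n9611
theorem D11728 : act 4 n9611 = n11728 := rfl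
theorem F20749 : act 1 n11728 = n9614 := d8_1 D11728 (iv D9614) (iv F14350)
def n11729 : Q := act 5 n9611
theorem D11729 : act 5 n9611 = n11729 := rfl
theorem F20750 : act 3 n11729 = n9612 := d16_1 D11729 (iv D9612) D9611
def n11730 : Q := act 6 n9611
theorem D11730 : act 6 n9611 = n11730 := rfl
theorem F20751 : act 3 n11730 = n9613 := d17_1 D11730 (iv D9613) D9611
def n11731 : Q := act 6 n9612
theorem D11731 : act 6 n9612 = n11731 := rfl
theorem F20752 : act 2 n11731 = n11731 := d14_1 D11731 (iv D11731) F16357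
theorem F20753 : act 5 n11731 = n11726 := d22_2 D9612 D11731 (iv D11726) (iv D9610)
def n11732 : Q := act 1 n9613
theorem D11732 : act 1 n9613 = n11732 := rfl
theorem F20754 : act 6 n11732 = n9616 := d10_2 D9613 D11732 (iv D9616) (iv D4652) D4650
def n11733 : Q := act 5 n9613
theorem D11733 : act 5 n9613 = n11733 := rfl
theorem F20755 : act 0 n11733 = n11731 := d4_1 D11733 F20753 F20747
theorem F20756 : act 2 n11733 = n11733 := d13_1 D11733 (iv D11733) F16358
theorem F20757 : act 6 n11733 = n11725 := d20_2 D9613 D11733 (iv D11725) D11726 (iv F20753) (iv D11731) (iv D9612)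
def n11734 : Q := act 6 n9614
theorem D11734 : act 6 n9614 = n11734 := rfl
theorem F20758 : act 0 n11734 = n9622 := d5_1 D11734 (iv D9622) (iv F14351)
theorem F20759 : act 4 n11734 = n9615 := d19_1 D11734 (iv D9615) D9614
theorem F20760 : act 5 n11734 = n10290 := d20_1 D11734 F18155 F13642 D9622 F17408 (iv F18146) F18145
def n11735 : Q := act 1 n9615
theorem D11735 : act 1 n9615 = n11735 := rfl
theorem F20761 : act 3 n11735 = n9616 := d7_2 (iv F14353) D11735 (iv D9616)
def n11736 : Q := act 0 n9616
theorem D11736 : act 0 n9616 = n11736 := rfl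
def n11737 : Q := act 5 n9616
theorem D11737 : act 5 n9616 = n11737 := rfl
theorem F20762 : act 1 n11737 = n10288 := d9_1 D11737 (iv D10288) (iv D5604) F17110 D9616
def n11738 : Q := act 0 n9619
theorem D11738 : act 0 n9619 = n11738 := rfl
def n11739 : Q := act 4 n9619
theorem D11739 : act 4 n9619 = n11739 := rfl
theorem F20763 : act 1 n11739 = n9620 := d8_1 D11739 (iv D9620) D9619
def n11740 : Q := act 5 n9619
theorem D11740 : act 5 n9619 = n11740 := rfl
def n11741 : Q := act 6 n9619
theorem D11741 : act 6 n9619 = n11741 := rfl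
def n11742 : Q := act 3 n9620
theorem D11742 : act 3 n9620 = n11742 := rfl
def n11743 : Q := act 6 n9620
theorem D11743 : act 6 n9620 = n11743 := rfl
theorem F20764 : act 2 n11743 = n9622 := d14_1 D11743 (iv D9622) (iv F14358)
theorem F20765 : act 4 n11743 = n9621 := d19_1 D11743 (iv D9621) D9620
theorem F20766 : act 5 n11743 = n10292 := d22_2 F20229 D11743 (iv F20251) F20248
def n11744 : Q := act 1 n9621
theorem D11744 : act 1 n9621 = n11744 := rfl
def n11745 : Q := act 1 n9622
theorem D11745 : act 1 n9622 = n11745 := rfl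
theorem F20767 : act 4 n11745 = n9623 := d8_2 (iv F14360) D11745 (iv D9623)
def n11746 : Q := act 0 n9623
theorem D11746 : act 0 n9623 = n11746 := rfl
theorem F20768 : act 3 n11746 = n9625 := d2_2 (iv F14361) D11746 (iv D9625)
def n11747 : Q := act 2 n9623
theorem D11747 : act 2 n9623 = n11747 := rfl
def n11748 : Q := act 5 n9623
theorem D11748 : act 5 n9623 = n11748 := rfl
theorem F20769 : act 1 n11748 = n10217 := d9_1 D11748 (iv D10217) F8416 F17111 D9623
theorem F20770 : act 3 n11748 = n9626 := d16_1 D11748 (iv D9626) (iv F14361)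
def n11749 : Q := act 1 n9625
theorem D11749 : act 1 n9625 = n11749 := rfl
def n11750 : Q := act 5 n9625
theorem D11750 : act 5 n9625 = n11750 := rfl
theorem F20771 : act 0 n11750 = n9626 := d4_1 D11750 (iv D9626) D9625
theorem F20772 : act 2 n11750 = n11717 := d13_1 D11750 F20738 F17425
theorem F20773 : act 6 n11750 = n11686 := d22_1 D11750 (iv D11686) F14313 D9625
def n11751 : Q := act 6 n9626
theorem D11751 : act 6 n9626 = n11751 := rfl
theorem F20774 : act 0 n11751 = n11686 := d5_1 D11751 (iv F20773) F20771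
theorem F20775 : act 2 n11751 = n11718 := d14_1 D11751 (iv D11718) F17427
theorem F20776 : act 5 n11751 = n11685 := d20_1 D11751 F20700 D11750 F20773 (iv D11686) F14313 D9626
def n11752 : Q := act 1 n9639
theorem D11752 : act 1 n9639 = n11752 := rfl
def n11753 : Q := act 3 n9639
theorem D11753 : act 3 n9639 = n11753 := rfl
theorem F20777 : act 0 n11753 = n9640 := d2_1 D11753 (iv D9640) D9639
def n11754 : Q := act 5 n9639
theorem D11754 : act 5 n9639 = n11754 := rfl
theorem F20778 : act 0 n11754 = n9641 := d4_1 D11754 (iv D9641) D9639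
theorem F20779 : act 2 n11754 = n11754 := d13_1 D11754 (iv D11754) F17504
def n11755 : Q := act 6 n9639
theorem D11755 : act 6 n9639 = n11755 := rfl
theorem F20780 : act 0 n11755 = n9642 := d5_1 D11755 (iv D9642) D9639
theorem F20781 : act 2 n11755 = n11755 := d14_1 D11755 (iv D11755) F17504
def n11756 : Q := act 2 n9640
theorem D11756 : act 2 n9640 = n11756 := rfl
def n11757 : Q := act 4 n9640
theorem D11757 : act 4 n9640 = n11757 := rfl
theorem F20782 : act 1 n11757 = n9643 := d8_1 D11757 (iv D9643) (iv F14385)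
def n11758 : Q := act 5 n9640
theorem D11758 : act 5 n9640 = n11758 := rfl
theorem F20783 : act 3 n11758 = n9641 := d16_1 D11758 (iv D9641) D9640
def n11759 : Q := act 6 n9640
theorem D11759 : act 6 n9640 = n11759 := rfl
theorem F20784 : act 3 n11759 = n9642 := d17_1 D11759 (iv D9642) D9640
def n11760 : Q := act 1 n9641
theorem D11760 : act 1 n9641 = n11760 := rfl
theorem F20785 : act 5 n11760 = n9645 := d9_2 D9641 D11760 (iv D9645) (iv D4666) D4664
def n11761 : Q := act 6 n9641
theorem D11761 : act 6 n9641 = n11761 := rfl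
theorem F20786 : act 2 n11761 = n11761 := d14_1 D11761 (iv D11761) F17506
theorem F20787 : act 5 n11761 = n11755 := d22_2 D9641 D11761 (iv D11755) (iv D9639)
def n11762 : Q := act 5 n9642
theorem D11762 : act 5 n9642 = n11762 := rfl
theorem F20788 : act 0 n11762 = n11761 := d4_1 D11762 F20787 F20780
theorem F20789 : act 2 n11762 = n11762 := d13_1 D11762 (iv D11762) F17507
theorem F20790 : act 6 n11762 = n11754 := d20_2 D9642 D11762 (iv D11754) D11755 (iv F20787) (iv D11761) (iv D9641)
def n11763 : Q := act 5 n9643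
theorem D11763 : act 5 n9643 = n11763 := rfl
theorem F20791 : act 0 n11763 = n9651 := d4_1 D11763 (iv D9651) (iv F14386)
theorem F20792 : act 4 n11763 = n9644 := d18_1 D11763 (iv D9644) D9643
theorem F20793 : act 6 n11763 = n10311 := d20_2 F18172 D11763 F18181 F13665 D9651 (iv F17475) (iv F18171)
def n11764 : Q := act 1 n9644
theorem D11764 : act 1 n9644 = n11764 := rfl
theorem F20794 : act 3 n11764 = n9645 := d7_2 (iv F14388) D11764 (iv D9645)
def n11765 : Q := act 0 n9645
theorem D11765 : act 0 n9645 = n11765 := rfl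
def n11766 : Q := act 6 n9645
theorem D11766 : act 6 n9645 = n11766 := rfl
theorem F20795 : act 1 n11766 = n10310 := d10_1 D11766 (iv D10310) (iv D5647) F16712 D9645
def n11767 : Q := act 0 n9648
theorem D11767 : act 0 n9648 = n11767 := rfl
def n11768 : Q := act 4 n9648
theorem D11768 : act 4 n9648 = n11768 := rfl
theorem F20796 : act 1 n11768 = n9649 := d8_1 D11768 (iv D9649) D9648
def n11769 : Q := act 5 n9648
theorem D11769 : act 5 n9648 = n11769 := rfl
def n11770 : Q := act 6 n9648
theorem D11770 : act 6 n9648 = n11770 := rfl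
def n11771 : Q := act 3 n9649
theorem D11771 : act 3 n9649 = n11771 := rfl
def n11772 : Q := act 5 n9649
theorem D11772 : act 5 n9649 = n11772 := rfl
theorem F20797 : act 2 n11772 = n9651 := d13_1 D11772 (iv D9651) (iv F14393)
theorem F20798 : act 4 n11772 = n9650 := d18_1 D11772 (iv D9650) D9649
theorem F20799 : act 6 n11772 = n10313 := d22_1 D11772 (iv F20275) F20276 F14585
def n11773 : Q := act 1 n9650
theorem D11773 : act 1 n9650 = n11773 := rfl
def n11774 : Q := act 1 n9651
theorem D11774 : act 1 n9651 = n11774 := rfl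
theorem F20800 : act 4 n11774 = n9652 := d8_2 (iv F14395) D11774 (iv D9652)
def n11775 : Q := act 0 n9652
theorem D11775 : act 0 n9652 = n11775 := rfl
theorem F20801 : act 3 n11775 = n9654 := d2_2 (iv F14396) D11775 (iv D9654)
def n11776 : Q := act 2 n9652
theorem D11776 : act 2 n9652 = n11776 := rfl
def n11777 : Q := act 6 n9652
theorem D11777 : act 6 n9652 = n11777 := rfl
theorem F20802 : act 1 n11777 = n10269 := d10_1 D11777 (iv D10269) F8439 (iv F16873) D9652
theorem F20803 : act 3 n11777 = n9655 := d17_1 D11777 (iv D9655) (iv F14396)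
def n11778 : Q := act 1 n9654
theorem D11778 : act 1 n9654 = n11778 := rfl
def n11779 : Q := act 6 n9654
theorem D11779 : act 6 n9654 = n11779 := rfl
theorem F20804 : act 0 n11779 = n9655 := d5_1 D11779 (iv D9655) D9654
theorem F20805 : act 2 n11779 = n11685 := d14_1 D11779 F20700 (iv F17425)
theorem F20806 : act 5 n11779 = n11718 := d22_2 F20738 D11779 (iv D11718) D11717
def n11780 : Q := act 5 n9655
theorem D11780 : act 5 n9655 = n11780 := rfl
theorem F20807 : act 0 n11780 = n11718 := d4_1 D11780 (iv F20806) F20804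
theorem F20808 : act 2 n11780 = n11686 := d13_1 D11780 (iv D11686) (iv F17428)
theorem F20809 : act 6 n11780 = n11717 := d20_2 D9655 D11780 F20738 D11779 F20806 (iv D11718) F14329
def n11781 : Q := act 1 n9676
theorem D11781 : act 1 n9676 = n11781 := rfl
theorem F20810 : act 2 n11781 = n9680 := d6_2 D9676 D11781 (iv D9680) (iv D4686) (iv F7130)
def n11782 : Q := act 3 n9676
theorem D11782 : act 3 n9676 = n11782 := rfl
theorem F20811 : act 0 n11782 = n11782 := d2_1 D11782 (iv D11782) F16365
theorem F20812 : act 5 n11782 = n11782 := d16_2 F14440 D11782 (iv D11782)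
theorem F20813 : act 2 n11782 = n11782 := d21_2 D9676 D11782 (iv D11782) (iv D9676) (iv D4684) F14690 D4684 F14695
def n11783 : Q := act 4 n9676
theorem D11783 : act 4 n9676 = n11783 := rfl
theorem F20815 : act 2 n11783 = n9677 := d12_1 D11783 (iv D9677) D9676
def n11784 : Q := act 6 n9676
theorem D11784 : act 6 n9676 = n11784 := rfl
def n11785 : Q := act 6 n9677
theorem D11785 : act 6 n9677 = n11785 := rfl
def n11786 : Q := act 1 n9678
theorem D11786 : act 1 n9678 = n11786 := rfl
theorem F20825 : act 6 n11786 = n9684 := d10_2 D9678 D11786 (iv D9684) (iv D4688) (iv F7130)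
def n11787 : Q := act 0 n9679
theorem D11787 : act 0 n9679 = n11787 := rfl
theorem F20826 : act 2 n11787 = n10403 := d1_2 F20281 D11787 (iv F20279)
theorem F20827 : act 4 n11787 = n9815 := d3_2 (iv F14445) D11787 (iv D9815)
theorem F20829 : act 6 n11787 = n9685 := d5_2 (iv F14446) D11787 (iv D9685)
def n11788 : Q := act 0 n9680
theorem D11788 : act 0 n9680 = n11788 := rfl
theorem F20830 : act 3 n11788 = n11738 := d2_2 (iv F14447) D11788 (iv D11738)
def n11789 : Q := act 4 n9680
theorem D11789 : act 4 n9680 = n11789 := rfl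
theorem F20831 : act 1 n11789 = n9681 := d8_1 D11789 (iv D9681) D9680
def n11790 : Q := act 5 n9680
theorem D11790 : act 5 n9680 = n11790 := rfl
theorem F20832 : act 3 n11790 = n11740 := d16_1 D11790 (iv D11740) (iv F14447)
def n11791 : Q := act 6 n9680
theorem D11791 : act 6 n9680 = n11791 := rfl
theorem F20833 : act 3 n11791 = n11741 := d17_1 D11791 (iv D11741) (iv F14447)
def n11792 : Q := act 3 n9681
theorem D11792 : act 3 n9681 = n11792 := rfl
theorem F20834 : act 0 n11792 = n9697 := d2_1 D11792 (iv D9697) (iv F14448)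
theorem F20835 : act 4 n11792 = n11742 := d15_2 D9681 D11792 (iv D11742) (iv D9620) (iv F7134)
theorem F20836 : act 2 n11792 = n11450 := d21_2 (iv F14449) D11792 (iv D11450) F13691 F6746 F14694 (iv F3574) (iv F7135)
def n11793 : Q := act 1 n9682
theorem D11793 : act 1 n9682 = n11793 := rfl
theorem F20837 : act 3 n11793 = n11744 := d7_2 (iv F14452) D11793 (iv D11744)
def n11794 : Q := act 0 n9684
theorem D11794 : act 0 n9684 = n11794 := rfl
theorem F20838 : act 1 n11794 = n11155 := d0_2 D9684 D11794 F19775 F12718 (iv F19654) F19655 (iv D9703) (iv D4697) (iv F7137)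
theorem F20839 : act 3 n11794 = n9685 := d2_2 (iv F14458) D11794 (iv D9685)
theorem F20840 : act 5 n11465 = n11794 := d16_0 F20839 (iv F17086) D11465
def n11796 : Q := act 5 n9684
theorem D11796 : act 5 n9684 = n11796 := rfl
theorem F20841 : act 0 n11796 = n11465 := d4_1 D11796 F20840 (iv D11794)
theorem F20842 : act 1 n11796 = n10325 := d9_1 D11796 (iv D10325) F8636 F17107 D9684
def n11797 : Q := act 1 n9690
theorem D11797 : act 1 n9690 = n11797 := rfl
def n11798 : Q := act 3 n9690
theorem D11798 : act 3 n9690 = n11798 := rfl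
theorem F20844 : act 0 n11798 = n9691 := d2_1 D11798 (iv D9691) D9690
theorem F20845 : act 2 n11798 = n9691 := d21_2 (iv F14467) D11798 (iv D9691) F7145 (iv F7409) F16346 F7409 D4863
theorem F20846 : act 1 n11727 = n11798 := d6_5 F20845 F14468 F7147 (iv F14350) D11727
theorem F20847 : act 3 n11797 = n11727 := d7_0 F20846 (iv D11798) D11797
def n11799 : Q := act 4 n9690
theorem D11799 : act 4 n9690 = n11799 := rfl
theorem F20848 : act 0 n11799 = n9692 := d3_1 D11799 (iv D9692) D9690
theorem F20849 : act 2 n11799 = n9857 := d12_1 D11799 (iv D9857) (iv F14467)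
def n11800 : Q := act 5 n9690
theorem D11800 : act 5 n9690 = n11800 := rfl
theorem F20850 : act 0 n11800 = n9693 := d4_1 D11800 (iv D9693) D9690
theorem F20851 : act 2 n11800 = n9858 := d13_1 D11800 (iv D9858) (iv F14467)
def n11801 : Q := act 6 n9690
theorem D11801 : act 6 n9690 = n11801 := rfl
theorem F20852 : act 0 n11801 = n9694 := d5_1 D11801 (iv D9694) D9690
theorem F20853 : act 2 n11801 = n9859 := d14_1 D11801 (iv D9859) (iv F14467)
def n11802 : Q := act 4 n9691
theorem D11802 : act 4 n9691 = n11802 := rfl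
theorem F20854 : act 1 n11802 = n9695 := d8_1 D11802 (iv D9695) (iv F14468)
def n11803 : Q := act 5 n9691
theorem D11803 : act 5 n9691 = n11803 := rfl
theorem F20855 : act 3 n11803 = n9693 := d16_1 D11803 (iv D9693) D9691
def n11804 : Q := act 6 n9691
theorem D11804 : act 6 n9691 = n11804 := rfl
theorem F20856 : act 3 n11804 = n9694 := d17_1 D11804 (iv D9694) D9691
def n11805 : Q := act 3 n9692
theorem D11805 : act 3 n9692 = n11805 := rfl
theorem F20857 : act 1 n11805 = n9697 := d7_1 D11805 (iv D9697) (iv F14469)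
def n11806 : Q := act 5 n9692
theorem D11806 : act 5 n9692 = n11806 := rfl
theorem F20858 : act 2 n11806 = n9861 := d13_1 D11806 (iv D9861) (iv F14470)
theorem F20859 : act 4 n11806 = n9693 := d18_1 D11806 (iv D9693) D9692
def n11807 : Q := act 6 n9692
theorem D11807 : act 6 n9692 = n11807 := rfl
theorem F20860 : act 2 n11807 = n9862 := d14_1 D11807 (iv D9862) (iv F14470)
theorem F20861 : act 4 n11807 = n9694 := d19_1 D11807 (iv D9694) D9692
def n11808 : Q := act 6 n9693
theorem D11808 : act 6 n9693 = n11808 := rfl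
theorem F20862 : act 2 n11808 = n9863 := d14_1 D11808 (iv D9863) (iv F14471)
theorem F20863 : act 5 n11808 = n11801 := d22_2 D9693 D11808 (iv D11801) (iv D9690)
def n11809 : Q := act 1 n9694
theorem D11809 : act 1 n9694 = n11809 := rfl
theorem F20864 : act 6 n11809 = n9699 := d10_2 D9694 D11809 (iv D9699) (iv D4695) D4692
def n11810 : Q := act 5 n9694
theorem D11810 : act 5 n9694 = n11810 := rfl
theorem F20865 : act 0 n11810 = n11808 := d4_1 D11810 F20863 F20852
theorem F20866 : act 2 n11810 = n9865 := d13_1 D11810 (iv D9865) (iv F14472)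
theorem F20867 : act 6 n11810 = n11800 := d20_2 D9694 D11810 (iv D11800) D11801 (iv F20863) (iv D11808) (iv D9693)
def n11811 : Q := act 3 n9695
theorem D11811 : act 3 n9695 = n11811 := rfl
theorem F20868 : act 0 n11811 = n11742 := d2_1 D11811 (iv D11742) (iv F14473)
theorem F20869 : act 4 n11811 = n9697 := d15_2 D9695 D11811 (iv D9697) (iv D4694) D4693
def n11812 : Q := act 6 n9695
theorem D11812 : act 6 n9695 = n11812 := rfl
theorem F20870 : act 0 n11812 = n11743 := d5_1 D11812 (iv D11743) (iv F14473)
theorem F20871 : act 2 n11812 = n11734 := d14_1 D11812 (iv D11734) (iv F14474)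
theorem F20872 : act 4 n11812 = n9696 := d19_1 D11812 (iv D9696) D9695
theorem F20873 : act 5 n11812 = n10334 := d20_1 D11812 (iv F20230) F20229 D11743 F20766 (iv F20251) F20250
def n11813 : Q := act 1 n9696
theorem D11813 : act 1 n9696 = n11813 := rfl
theorem F20874 : act 3 n11813 = n9699 := d7_2 (iv F14477) D11813 (iv D9699)
def n11814 : Q := act 2 n9697
theorem D11814 : act 2 n9697 = n11814 := rfl
theorem F20875 : act 0 n11814 = n11450 := d1_1 D11814 (iv F20836) F20834
theorem F20876 : act 3 n11814 = n10315 := d11_2 D9697 D11814 F18185 F8616 F17115 (iv F7136) (iv F14449) D11792 F20836 (iv D11450) F13691 F6746 F14694 (iv F3574) (iv F7148)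
theorem F20877 : act 5 n11814 = n11792 := d13_2 F20252 D11814 F20836
theorem F20878 : act 6 n10335 = n11814 := d17_0 F20876 F18187 D10335
def n11815 : Q := act 6 n9697
theorem D11815 : act 6 n9697 = n11815 := rfl
theorem F20879 : act 2 n11815 = n10335 := d14_1 D11815 F20878 (iv D11814)
theorem F20880 : act 3 n11815 = n9698 := d17_1 D11815 (iv D9698) D9697
theorem F20881 : act 5 n11815 = n10335 := d22_2 F20252 D11815 F20878 F20875
def n11816 : Q := act 1 n9698
theorem D11816 : act 1 n9698 = n11816 := rfl
theorem F20882 : act 4 n11816 = n9699 := d8_2 (iv F14479) D11816 (iv D9699)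
def n11817 : Q := act 0 n9699
theorem D11817 : act 0 n9699 = n11817 := rfl
def n11818 : Q := act 2 n9699
theorem D11818 : act 2 n9699 = n11818 := rfl
theorem F20883 : act 1 n11818 = n9704 := d6_1 D11818 (iv D9704) (iv D4697) (iv F7149) D9699
def n11819 : Q := act 5 n9699
theorem D11819 : act 5 n9699 = n11819 := rfl
theorem F20884 : act 1 n11819 = n10332 := d9_1 D11819 (iv D10332) (iv D5703) F17112 D9699
def n11820 : Q := act 0 n9701
theorem D11820 : act 0 n9701 = n11820 := rfl
theorem F20887 : act 5 n11820 = n10429 := d4_2 (iv F17406) D11820 (iv D10429)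
def n11821 : Q := act 2 n9701
theorem D11821 : act 2 n9701 = n11821 := rfl
theorem F20889 : act 4 n11821 = n9704 := d12_2 (iv F14484) D11821 (iv D9704)
theorem F20890 : act 5 n11821 = n10430 := d13_2 (iv F17406) D11821 (iv D10430)
theorem F20891 : act 6 n11821 = n9875 := d14_2 (iv F14485) D11821 (iv D9875)
def n11822 : Q := act 2 n9703
theorem D11822 : act 2 n9703 = n11822 := rfl
theorem F20892 : act 0 n11822 = n9704 := d1_1 D11822 (iv D9704) D9703
theorem F20893 : act 5 n11822 = n10433 := d13_2 F17445 D11822 (iv D10433)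
theorem F20894 : act 6 n11822 = n9879 := d14_2 (iv F14491) D11822 (iv D9879)
def n11823 : Q := act 3 n9704
theorem D11823 : act 3 n9704 = n11823 := rfl
theorem F20895 : act 5 n11823 = n10434 := d16_2 (iv F17447) D11823 (iv D10434)
theorem F20896 : act 6 n11823 = n9880 := d17_2 (iv F14492) D11823 (iv D9880)
def n11824 : Q := act 1 n9733
theorem D11824 : act 1 n9733 = n11824 := rfl
theorem F20897 : act 2 n11824 = n9740 := d6_2 D9733 D11824 (iv D9740) (iv D4717) (iv F7188)
def n11825 : Q := act 3 n9733
theorem D11825 : act 3 n9733 = n11825 := rfl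
theorem F20898 : act 0 n11825 = n11825 := d2_1 D11825 (iv D11825) F17512
theorem F20899 : act 6 n11825 = n11825 := d17_2 F16103 D11825 (iv D11825)
theorem F20900 : act 2 n11825 = n11825 := d21_2 D9733 D11825 (iv D11825) (iv D9733) (iv D4714) F16451 D4714 F16459
def n11826 : Q := act 4 n9733
theorem D11826 : act 4 n9733 = n11826 := rfl
theorem F20902 : act 2 n11826 = n9734 := d12_1 D11826 (iv D9734) D9733
def n11827 : Q := act 5 n9733
theorem D11827 : act 5 n9733 = n11827 := rfl
theorem F20905 : act 2 n11827 = n9735 := d13_1 D11827 (iv D9735) D9733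
def n11829 : Q := act 1 n9735
theorem D11829 : act 1 n9735 = n11829 := rfl
theorem F20912 : act 5 n11829 = n9744 := d9_2 D9735 D11829 (iv D9744) (iv D4719) (iv F7188)
def n11831 : Q := act 0 n9740
theorem D11831 : act 0 n9740 = n11831 := rfl
theorem F20917 : act 3 n11831 = n11767 := d2_2 (iv F14558) D11831 (iv D11767)
def n11832 : Q := act 4 n9740
theorem D11832 : act 4 n9740 = n11832 := rfl
theorem F20918 : act 1 n11832 = n9741 := d8_1 D11832 (iv D9741) D9740
def n11833 : Q := act 5 n9740
theorem D11833 : act 5 n9740 = n11833 := rfl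
theorem F20919 : act 3 n11833 = n11769 := d16_1 D11833 (iv D11769) (iv F14558)
def n11834 : Q := act 6 n9740
theorem D11834 : act 6 n9740 = n11834 := rfl
def n11835 : Q := act 3 n9741
theorem D11835 : act 3 n9741 = n11835 := rfl
theorem F20921 : act 0 n11835 = n9757 := d2_1 D11835 (iv D9757) (iv F14559)
theorem F20922 : act 4 n11835 = n11771 := d15_2 D9741 D11835 (iv D11771) (iv D9649) (iv F7192)
theorem F20923 : act 2 n11835 = n11464 := d21_2 (iv F14560) D11835 (iv D11464) F13742 F6776 F16457 (iv F3596) (iv F7193)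
def n11836 : Q := act 1 n9742
theorem D11836 : act 1 n9742 = n11836 := rfl
theorem F20924 : act 3 n11836 = n11773 := d7_2 (iv F14563) D11836 (iv D11773)
def n11838 : Q := act 2 n9744
theorem D11838 : act 2 n9744 = n11838 := rfl
def n11839 : Q := act 6 n9744
theorem D11839 : act 6 n9744 = n11839 := rfl
theorem F20930 : act 3 n11839 = n9747 := d17_1 D11839 (iv D9747) (iv F14569)
def n11840 : Q := act 1 n9750
theorem D11840 : act 1 n9750 = n11840 := rfl
def n11841 : Q := act 3 n9750
theorem D11841 : act 3 n9750 = n11841 := rfl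
theorem F20931 : act 0 n11841 = n9751 := d2_1 D11841 (iv D9751) D9750
theorem F20932 : act 2 n11841 = n9751 := d21_2 (iv F14579) D11841 (iv D9751) F7203 (iv F7476) F17502 F7476 D4901
theorem F20933 : act 1 n11756 = n11841 := d6_5 F20932 F14580 F7205 (iv F14385) D11756
theorem F20934 : act 3 n11840 = n11756 := d7_0 F20933 (iv D11841) D11840
def n11842 : Q := act 4 n9750
theorem D11842 : act 4 n9750 = n11842 := rfl
theorem F20935 : act 0 n11842 = n9752 := d3_1 D11842 (iv D9752) D9750
theorem F20936 : act 2 n11842 = n9890 := d12_1 D11842 (iv D9890) (iv F14579)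
def n11843 : Q := act 5 n9750
theorem D11843 : act 5 n9750 = n11843 := rfl
theorem F20937 : act 0 n11843 = n9753 := d4_1 D11843 (iv D9753) D9750
theorem F20938 : act 2 n11843 = n9891 := d13_1 D11843 (iv D9891) (iv F14579)
def n11844 : Q := act 6 n9750
theorem D11844 : act 6 n9750 = n11844 := rfl
theorem F20939 : act 0 n11844 = n9754 := d5_1 D11844 (iv D9754) D9750
theorem F20940 : act 2 n11844 = n9892 := d14_1 D11844 (iv D9892) (iv F14579)
def n11845 : Q := act 4 n9751
theorem D11845 : act 4 n9751 = n11845 := rfl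
theorem F20941 : act 1 n11845 = n9755 := d8_1 D11845 (iv D9755) (iv F14580)
def n11846 : Q := act 5 n9751
theorem D11846 : act 5 n9751 = n11846 := rfl
theorem F20942 : act 3 n11846 = n9753 := d16_1 D11846 (iv D9753) D9751
def n11847 : Q := act 6 n9751
theorem D11847 : act 6 n9751 = n11847 := rfl
theorem F20943 : act 3 n11847 = n9754 := d17_1 D11847 (iv D9754) D9751
def n11848 : Q := act 3 n9752
theorem D11848 : act 3 n9752 = n11848 := rfl
theorem F20944 : act 1 n11848 = n9757 := d7_1 D11848 (iv D9757) (iv F14581)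
def n11849 : Q := act 5 n9752
theorem D11849 : act 5 n9752 = n11849 := rfl
theorem F20945 : act 2 n11849 = n9894 := d13_1 D11849 (iv D9894) (iv F14582)
theorem F20946 : act 4 n11849 = n9753 := d18_1 D11849 (iv D9753) D9752
def n11850 : Q := act 6 n9752
theorem D11850 : act 6 n9752 = n11850 := rfl
theorem F20947 : act 2 n11850 = n9895 := d14_1 D11850 (iv D9895) (iv F14582)
theorem F20948 : act 4 n11850 = n9754 := d19_1 D11850 (iv D9754) D9752
def n11851 : Q := act 1 n9753
theorem D11851 : act 1 n9753 = n11851 := rfl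
theorem F20949 : act 5 n11851 = n9759 := d9_2 D9753 D11851 (iv D9759) (iv D4726) D4723
def n11852 : Q := act 6 n9753
theorem D11852 : act 6 n9753 = n11852 := rfl
theorem F20950 : act 2 n11852 = n9897 := d14_1 D11852 (iv D9897) (iv F14583)
theorem F20951 : act 5 n11852 = n11844 := d22_2 D9753 D11852 (iv D11844) (iv D9750)
def n11853 : Q := act 5 n9754
theorem D11853 : act 5 n9754 = n11853 := rfl
theorem F20952 : act 0 n11853 = n11852 := d4_1 D11853 F20951 F20939
theorem F20953 : act 2 n11853 = n9898 := d13_1 D11853 (iv D9898) (iv F14584)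
theorem F20954 : act 6 n11853 = n11843 := d20_2 D9754 D11853 (iv D11843) D11844 (iv F20951) (iv D11852) (iv D9753)
def n11854 : Q := act 3 n9755
theorem D11854 : act 3 n9755 = n11854 := rfl
theorem F20955 : act 0 n11854 = n11771 := d2_1 D11854 (iv D11771) (iv F14585)
theorem F20956 : act 4 n11854 = n9757 := d15_2 D9755 D11854 (iv D9757) (iv D4725) D4724
def n11855 : Q := act 5 n9755
theorem D11855 : act 5 n9755 = n11855 := rfl
theorem F20957 : act 0 n11855 = n11772 := d4_1 D11855 (iv D11772) (iv F14585)
theorem F20958 : act 2 n11855 = n11763 := d13_1 D11855 (iv D11763) (iv F14586)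
theorem F20959 : act 4 n11855 = n9756 := d18_1 D11855 (iv D9756) D9755
theorem F20960 : act 6 n11855 = n10354 := d20_2 F20276 D11855 (iv F20238) F20239 D11772 F20799 (iv F20275)
def n11856 : Q := act 1 n9756
theorem D11856 : act 1 n9756 = n11856 := rfl
theorem F20961 : act 3 n11856 = n9759 := d7_2 (iv F14589) D11856 (iv D9759)
def n11857 : Q := act 2 n9757
theorem D11857 : act 2 n9757 = n11857 := rfl
theorem F20962 : act 0 n11857 = n11464 := d1_1 D11857 (iv F20923) F20921
theorem F20963 : act 3 n11857 = n10337 := d11_2 D9757 D11857 F18229 F8734 (iv F16492) (iv F7194) (iv F14560) D11835 F20923 (iv D11464) F13742 F6776 F16457 (iv F3596) (iv F7206)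
theorem F20964 : act 6 n11857 = n11835 := d14_2 F20277 D11857 F20923
theorem F20965 : act 5 n10355 = n11857 := d16_0 F20963 F18230 D10355
def n11858 : Q := act 5 n9757
theorem D11858 : act 5 n9757 = n11858 := rfl
theorem F20966 : act 2 n11858 = n10355 := d13_1 D11858 F20965 (iv D11857)
theorem F20967 : act 3 n11858 = n9758 := d16_1 D11858 (iv D9758) D9757
theorem F20968 : act 6 n11858 = n10355 := d22_1 D11858 F20965 F20964 F20921
def n11859 : Q := act 1 n9758
theorem D11859 : act 1 n9758 = n11859 := rfl
theorem F20969 : act 4 n11859 = n9759 := d8_2 (iv F14591) D11859 (iv D9759)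
def n11860 : Q := act 0 n9759
theorem D11860 : act 0 n9759 = n11860 := rfl
def n11861 : Q := act 2 n9759
theorem D11861 : act 2 n9759 = n11861 := rfl
theorem F20970 : act 1 n11861 = n9764 := d6_1 D11861 (iv D9764) (iv D4728) (iv F7207) D9759
def n11862 : Q := act 6 n9759
theorem D11862 : act 6 n9759 = n11862 := rfl
theorem F20971 : act 1 n11862 = n10353 := d10_1 D11862 (iv D10353) (iv D5758) F16705 D9759
def n11863 : Q := act 0 n9761
theorem D11863 : act 0 n9761 = n11863 := rfl
theorem F20972 : act 3 n11863 = n9850 := d2_2 (iv F14595) D11863 (iv D9850)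
theorem F20974 : act 5 n11863 = n9907 := d4_2 (iv F14597) D11863 (iv D9907)
def n11864 : Q := act 2 n9761
theorem D11864 : act 2 n9761 = n11864 := rfl
theorem F20976 : act 4 n11864 = n9764 := d12_2 (iv F14596) D11864 (iv D9764)
theorem F20977 : act 5 n11864 = n9908 := d13_2 (iv F14597) D11864 (iv D9908)
theorem F20978 : act 6 n11864 = n10477 := d14_2 (iv F17491) D11864 (iv D10477)
def n11865 : Q := act 2 n9763
theorem D11865 : act 2 n9763 = n11865 := rfl
theorem F20979 : act 0 n11865 = n9764 := d1_1 D11865 (iv D9764) D9763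
theorem F20980 : act 5 n11865 = n9912 := d13_2 (iv F14603) D11865 (iv D9912)
theorem F20981 : act 6 n11865 = n10480 := d14_2 (iv F17485) D11865 (iv D10480)
def n11866 : Q := act 3 n9764
theorem D11866 : act 3 n9764 = n11866 := rfl
theorem F20982 : act 5 n11866 = n9913 := d16_2 (iv F14604) D11866 (iv D9913)
theorem F20983 : act 6 n11866 = n10481 := d17_2 (iv F17490) D11866 (iv D10481)
def n11867 : Q := act 1 n9851
theorem D11867 : act 1 n9851 = n11867 := rfl
theorem F20984 : act 3 n11867 = n9856 := d7_2 (iv F17525) D11867 (iv D9856)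
def n11868 : Q := act 4 n9851
theorem D11868 : act 4 n9851 = n11868 := rfl
theorem F20985 : act 0 n11868 = n9852 := d3_1 D11868 (iv D9852) D9851
def n11869 : Q := act 5 n9851
theorem D11869 : act 5 n9851 = n11869 := rfl
theorem F20989 : act 3 n11869 = n9858 := d16_1 D11869 (iv D9858) (iv F17525)
def n11870 : Q := act 6 n9851
theorem D11870 : act 6 n9851 = n11870 := rfl
theorem F20990 : act 0 n11870 = n9854 := d5_1 D11870 (iv D9854) D9851
theorem F20991 : act 2 n11870 = n11870 := d14_1 D11870 (iv D11870) F17524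
theorem F20992 : act 3 n11870 = n9859 := d17_1 D11870 (iv D9859) (iv F17525)
def n11871 : Q := act 3 n9852
theorem D11871 : act 3 n9852 = n11871 := rfl
theorem F20993 : act 1 n11871 = n9855 := d7_1 D11871 (iv D9855) (iv F17526)
theorem F20994 : act 4 n11871 = n9860 := d15_2 D9852 D11871 (iv D9860) (iv D4864) (iv F7409)
def n11872 : Q := act 5 n9852
theorem D11872 : act 5 n9852 = n11872 := rfl
theorem F20996 : act 4 n11872 = n9853 := d18_1 D11872 (iv D9853) D9852
def n11873 : Q := act 6 n9852
theorem D11873 : act 6 n9852 = n11873 := rfl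
theorem F20997 : act 2 n11873 = n11873 := d14_1 D11873 (iv D11873) F17527
theorem F20998 : act 4 n11873 = n9854 := d19_1 D11873 (iv D9854) D9852
def n11874 : Q := act 6 n9853
theorem D11874 : act 6 n9853 = n11874 := rfl
theorem F20999 : act 2 n11874 = n11874 := d14_1 D11874 (iv D11874) F17528
theorem F21000 : act 3 n11874 = n9863 := d17_1 D11874 (iv D9863) (iv F17529)
theorem F21001 : act 5 n11874 = n11870 := d22_2 D9853 D11874 (iv D11870) (iv D9851)
def n11875 : Q := act 5 n9854
theorem D11875 : act 5 n9854 = n11875 := rfl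
theorem F21004 : act 3 n11875 = n9865 := d16_1 D11875 (iv D9865) (iv F17531)
theorem F21005 : act 6 n11875 = n11869 := d20_2 D9854 D11875 (iv D11869) D11870 (iv F21001) (iv D11874) (iv D9853)
def n11876 : Q := act 0 n9856
theorem D11876 : act 0 n9856 = n11876 := rfl
def n11877 : Q := act 2 n9856
theorem D11877 : act 2 n9856 = n11877 := rfl
def n11878 : Q := act 4 n9856
theorem D11878 : act 4 n9856 = n11878 := rfl
theorem F21006 : act 1 n11878 = n9857 := d8_1 D11878 (iv D9857) D9856
def n11879 : Q := act 5 n9856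
theorem D11879 : act 5 n9856 = n11879 := rfl
def n11880 : Q := act 6 n9856
theorem D11880 : act 6 n9856 = n11880 := rfl
def n11881 : Q := act 3 n9857
theorem D11881 : act 3 n9857 = n11881 := rfl
theorem F21007 : act 0 n11881 = n9860 := d2_1 D11881 (iv D9860) (iv F17535)
def n11882 : Q := act 5 n9857
theorem D11882 : act 5 n9857 = n11882 := rfl
theorem F21009 : act 4 n11882 = n9858 := d18_1 D11882 (iv D9858) D9857
def n11883 : Q := act 6 n9857
theorem D11883 : act 6 n9857 = n11883 := rfl
theorem F21010 : act 0 n11883 = n9862 := d5_1 D11883 (iv D9862) (iv F17535)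
theorem F21011 : act 4 n11883 = n9859 := d19_1 D11883 (iv D9859) D9857
def n11884 : Q := act 1 n9858
theorem D11884 : act 1 n9858 = n11884 := rfl
def n11885 : Q := act 1 n9859
theorem D11885 : act 1 n9859 = n11885 := rfl
def n11886 : Q := act 2 n9860
theorem D11886 : act 2 n9860 = n11886 := rfl
def n11887 : Q := act 5 n9860
theorem D11887 : act 5 n9860 = n11887 := rfl
theorem F21012 : act 3 n11887 = n9861 := d16_1 D11887 (iv D9861) D9860
def n11888 : Q := act 6 n9860
theorem D11888 : act 6 n9860 = n11888 := rfl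
theorem F21013 : act 3 n11888 = n9862 := d17_1 D11888 (iv D9862) D9860
def n11889 : Q := act 6 n9861
theorem D11889 : act 6 n9861 = n11889 := rfl
theorem F21014 : act 4 n11889 = n9863 := d19_1 D11889 (iv D9863) (iv F17539)
theorem F21015 : act 5 n11889 = n11883 := d22_2 D9861 D11889 (iv D11883) F17535
def n11890 : Q := act 1 n9862
theorem D11890 : act 1 n9862 = n11890 := rfl
theorem F21016 : act 4 n11890 = n9864 := d8_2 (iv F17540) D11890 (iv D9864)
theorem F21017 : act 6 n11890 = n9868 := d10_2 D9862 D11890 (iv D9868) (iv D4868) (iv F7412)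
def n11891 : Q := act 5 n9862
theorem D11891 : act 5 n9862 = n11891 := rfl
theorem F21019 : act 4 n11891 = n9865 := d18_1 D11891 (iv D9865) (iv F17540)
theorem F21020 : act 6 n11891 = n11882 := d20_2 D9862 D11891 (iv D11882) D11883 (iv F21015) (iv D11889) (iv D9861)
def n11892 : Q := act 1 n9863
theorem D11892 : act 1 n9863 = n11892 := rfl
def n11893 : Q := act 0 n9864
theorem D11893 : act 0 n9864 = n11893 := rfl
theorem F21021 : act 6 n11893 = n9870 := d5_2 (iv F17542) D11893 (iv D9870)
def n11894 : Q := act 2 n9864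
theorem D11894 : act 2 n9864 = n11894 := rfl
theorem F21022 : act 6 n11894 = n9871 := d14_2 (iv F17542) D11894 (iv D9871)
def n11895 : Q := act 5 n9864
theorem D11895 : act 5 n9864 = n11895 := rfl
def n11896 : Q := act 1 n9865
theorem D11896 : act 1 n9865 = n11896 := rfl
def n11897 : Q := act 1 n9866
theorem D11897 : act 1 n9866 = n11897 := rfl
theorem F21023 : act 3 n11897 = n9930 := d7_2 (iv F17546) D11897 (iv D9930)
theorem F21024 : act 4 n11897 = n11140 := d8_2 (iv F17547) D11897 F19757
def n11898 : Q := act 6 n9866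
theorem D11898 : act 6 n9866 = n11898 := rfl
theorem F21025 : act 0 n11898 = n11146 := d5_1 D11898 (iv D11146) (iv F17545)
theorem F21026 : act 2 n11898 = n9867 := d14_1 D11898 (iv D9867) D9866
theorem F21027 : act 3 n11898 = n9869 := d17_1 D11898 F17554 (iv F17546)
theorem F21028 : act 4 n11898 = n11146 := d19_1 D11898 (iv D11146) (iv F17547)
theorem F21029 : act 5 n11898 = n9867 := d20_1 D11898 (iv D9867) (iv F12712) D11146 (iv F19823) F19824 (iv F17548)
def n11899 : Q := act 1 n9867
theorem D11899 : act 1 n9867 = n11899 := rfl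
theorem F21030 : act 3 n11899 = n9868 := d7_2 (iv F17549) D11899 (iv D9868)
def n11900 : Q := act 0 n9868
theorem D11900 : act 0 n9868 = n11900 := rfl
theorem F21031 : act 4 n11900 = n9870 := d3_2 (iv F17550) D11900 (iv D9870)
def n11901 : Q := act 2 n9868
theorem D11901 : act 2 n9868 = n11901 := rfl
theorem F21032 : act 1 n11901 = n9875 := d6_1 D11901 (iv D9875) (iv D4871) (iv F7413) D9868
theorem F21033 : act 4 n11901 = n9871 := d12_2 (iv F17550) D11901 (iv D9871)
def n11902 : Q := act 5 n9868
theorem D11902 : act 5 n9868 = n11902 := rfl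
theorem F21034 : act 4 n11902 = n9872 := d18_1 D11902 (iv D9872) (iv F17550)
def n11903 : Q := act 1 n9869
theorem D11903 : act 1 n9869 = n11903 := rfl
theorem F21035 : act 4 n11903 = n9873 := d8_2 (iv F17553) D11903 (iv D9873)
def n11904 : Q := act 1 n9870
theorem D11904 : act 1 n9870 = n11904 := rfl
def n11905 : Q := act 2 n9870
theorem D11905 : act 2 n9870 = n11905 := rfl
theorem F21036 : act 0 n11905 = n9871 := d1_1 D11905 (iv D9871) D9870
def n11906 : Q := act 5 n9870
theorem D11906 : act 5 n9870 = n11906 := rfl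
theorem F21037 : act 0 n11906 = n9872 := d4_1 D11906 (iv D9872) D9870
theorem F21038 : act 6 n11906 = n11895 := d22_1 D11906 (iv D11895) F17542 D9870
def n11907 : Q := act 3 n9871
theorem D11907 : act 3 n9871 = n11907 := rfl
theorem F21039 : act 1 n11907 = n9880 := d7_1 D11907 (iv D9880) (iv F17555)
def n11908 : Q := act 5 n9871
theorem D11908 : act 5 n9871 = n11908 := rfl
theorem F21040 : act 2 n11908 = n9872 := d13_1 D11908 (iv D9872) D9871
def n11909 : Q := act 1 n9872
theorem D11909 : act 1 n9872 = n11909 := rfl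
theorem F21041 : act 3 n11909 = n11150 := d7_2 F19818 D11909 (iv F19817)
theorem F21042 : act 5 n11909 = n9873 := d9_2 D9872 D11909 (iv D9873) (iv D4870) D4869
def n11910 : Q := act 6 n9872
theorem D11910 : act 6 n9872 = n11910 := rfl
theorem F21043 : act 0 n11910 = n11895 := d5_1 D11910 (iv F21038) F21037
theorem F21044 : act 5 n11910 = n11893 := d20_1 D11910 F21021 D11906 F21038 (iv D11895) F17542 D9872
def n11911 : Q := act 0 n9873
theorem D11911 : act 0 n9873 = n11911 := rfl
theorem F21045 : act 3 n11911 = n11148 := d2_2 (iv F17556) D11911 (iv D11148)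
def n11912 : Q := act 2 n9873
theorem D11912 : act 2 n9873 = n11912 := rfl
theorem F21046 : act 1 n11912 = n9882 := d6_1 D11912 (iv D9882) (iv D4876) (iv F7416) D9873
def n11913 : Q := act 6 n9873
theorem D11913 : act 6 n9873 = n11913 := rfl
theorem F21047 : act 1 n11913 = n9933 := d10_1 D11913 (iv D9933) (iv D5056) (iv F7418) D9873
theorem F21048 : act 3 n11913 = n11144 := d17_1 D11913 F19762 (iv F17556)
def n11914 : Q := act 2 n9874
theorem D11914 : act 2 n9874 = n11914 := rfl
theorem F21049 : act 0 n11914 = n9875 := d1_1 D11914 (iv D9875) D9874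
theorem F21050 : act 4 n11914 = n9879 := d12_2 (iv F17558) D11914 (iv D9879)
def n11915 : Q := act 3 n9875
theorem D11915 : act 3 n9875 = n11915 := rfl
def n11916 : Q := act 5 n9875
theorem D11916 : act 5 n9875 = n11916 := rfl
theorem F21051 : act 2 n11916 = n9876 := d13_1 D11916 (iv D9876) D9875
theorem F21052 : act 4 n11916 = n9881 := d18_1 D11916 (iv D9881) (iv F17559)
def n11917 : Q := act 2 n9877
theorem D11917 : act 2 n9877 = n11917 := rfl
theorem F21053 : act 4 n11917 = n9882 := d12_2 (iv F17563) D11917 (iv D9882)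
def n11918 : Q := act 6 n9877
theorem D11918 : act 6 n9877 = n11918 := rfl
theorem F21055 : act 3 n11918 = n9918 := d17_1 D11918 (iv D9918) (iv F17562)
theorem F21056 : act 4 n11918 = n9883 := d19_1 D11918 (iv D9883) (iv F17563)
theorem F21057 : act 5 n11918 = n10400 := d22_2 F18383 D11918 (iv D10400) (iv F18380)
def n11919 : Q := act 2 n9878
theorem D11919 : act 2 n9878 = n11919 := rfl
theorem F21058 : act 6 n11919 = n11157 := d14_2 (iv F17565) D11919 F19778
def n11920 : Q := act 1 n9879
theorem D11920 : act 1 n9879 = n11920 := rfl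
def n11921 : Q := act 3 n9879
theorem D11921 : act 3 n9879 = n11921 := rfl
theorem F21059 : act 0 n11921 = n9880 := d2_1 D11921 (iv D9880) (iv F17566)
theorem F21060 : act 2 n11921 = n10481 := d21_2 D9879 D11921 (iv D10481) (iv D6041) F4569 F2340 (iv F3705) D4873
def n11922 : Q := act 2 n9880
theorem D11922 : act 2 n9880 = n11922 := rfl
theorem F21061 : act 0 n11922 = n10481 := d1_1 D11922 (iv F21060) F21059
theorem F21062 : act 3 n11922 = n10480 := d11_2 D9880 D11922 (iv D10480) F9173 F4570 (iv F7425) D9879 D11921 F21060 (iv D10481) (iv D6041) F4569 F2340 (iv F3705) D4874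
def n11923 : Q := act 4 n9880
theorem D11923 : act 4 n9880 = n11923 := rfl
def n11924 : Q := act 5 n9880
theorem D11924 : act 5 n9880 = n11924 := rfl
theorem F21063 : act 3 n11924 = n9881 := d16_1 D11924 (iv D9881) D9880
def n11925 : Q := act 1 n9881
theorem D11925 : act 1 n9881 = n11925 := rfl
def n11926 : Q := act 3 n9882
theorem D11926 : act 3 n9882 = n11926 := rfl
def n11927 : Q := act 6 n9882
theorem D11927 : act 6 n9882 = n11927 := rfl
theorem F21064 : act 2 n11927 = n9883 := d14_1 D11927 (iv D9883) D9882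
theorem F21065 : act 5 n11927 = n10398 := d22_2 F18379 D11927 (iv D10398) (iv F18378)
def n11928 : Q := act 1 n9884
theorem D11928 : act 1 n9884 = n11928 := rfl
theorem F21066 : act 3 n11928 = n9889 := d7_2 (iv F17572) D11928 (iv D9889)
def n11929 : Q := act 4 n9884
theorem D11929 : act 4 n9884 = n11929 := rfl
theorem F21067 : act 0 n11929 = n9885 := d3_1 D11929 (iv D9885) D9884
def n11930 : Q := act 5 n9884
theorem D11930 : act 5 n9884 = n11930 := rfl
theorem F21069 : act 0 n11930 = n9886 := d4_1 D11930 (iv D9886) D9884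
theorem F21070 : act 2 n11930 = n11930 := d13_1 D11930 (iv D11930) F17571
theorem F21071 : act 3 n11930 = n9891 := d16_1 D11930 (iv D9891) (iv F17572)
def n11931 : Q := act 6 n9884
theorem D11931 : act 6 n9884 = n11931 := rfl
theorem F21072 : act 0 n11931 = n9887 := d5_1 D11931 (iv D9887) D9884
theorem F21074 : act 3 n11931 = n9892 := d17_1 D11931 (iv D9892) (iv F17572)
def n11932 : Q := act 3 n9885
theorem D11932 : act 3 n9885 = n11932 := rfl
theorem F21075 : act 1 n11932 = n9888 := d7_1 D11932 (iv D9888) (iv F17573)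
theorem F21076 : act 4 n11932 = n9893 := d15_2 D9885 D11932 (iv D9893) (iv D4902) (iv F7476)
def n11933 : Q := act 5 n9885
theorem D11933 : act 5 n9885 = n11933 := rfl
theorem F21077 : act 2 n11933 = n11933 := d13_1 D11933 (iv D11933) F17574
theorem F21078 : act 4 n11933 = n9886 := d18_1 D11933 (iv D9886) D9885
def n11934 : Q := act 6 n9885
theorem D11934 : act 6 n9885 = n11934 := rfl
theorem F21080 : act 4 n11934 = n9887 := d19_1 D11934 (iv D9887) D9885
def n11935 : Q := act 6 n9886
theorem D11935 : act 6 n9886 = n11935 := rfl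
theorem F21082 : act 3 n11935 = n9897 := d17_1 D11935 (iv D9897) (iv F17576)
theorem F21083 : act 5 n11935 = n11931 := d22_2 D9886 D11935 (iv D11931) (iv D9884)
def n11936 : Q := act 5 n9887
theorem D11936 : act 5 n9887 = n11936 := rfl
theorem F21084 : act 0 n11936 = n11935 := d4_1 D11936 F21083 F21072
theorem F21085 : act 2 n11936 = n11936 := d13_1 D11936 (iv D11936) F17577
theorem F21086 : act 3 n11936 = n9898 := d16_1 D11936 (iv D9898) (iv F17578)
theorem F21087 : act 6 n11936 = n11930 := d20_2 D9887 D11936 (iv D11930) D11931 (iv F21083) (iv D11935) (iv D9886)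
def n11937 : Q := act 0 n9889
theorem D11937 : act 0 n9889 = n11937 := rfl
def n11938 : Q := act 2 n9889
theorem D11938 : act 2 n9889 = n11938 := rfl
def n11939 : Q := act 4 n9889
theorem D11939 : act 4 n9889 = n11939 := rfl
theorem F21088 : act 1 n11939 = n9890 := d8_1 D11939 (iv D9890) D9889
def n11940 : Q := act 5 n9889
theorem D11940 : act 5 n9889 = n11940 := rfl
def n11941 : Q := act 6 n9889
theorem D11941 : act 6 n9889 = n11941 := rfl
def n11942 : Q := act 3 n9890
theorem D11942 : act 3 n9890 = n11942 := rfl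
theorem F21089 : act 0 n11942 = n9893 := d2_1 D11942 (iv D9893) (iv F17582)
def n11943 : Q := act 5 n9890
theorem D11943 : act 5 n9890 = n11943 := rfl
theorem F21090 : act 0 n11943 = n9894 := d4_1 D11943 (iv D9894) (iv F17582)
theorem F21091 : act 4 n11943 = n9891 := d18_1 D11943 (iv D9891) D9890
def n11944 : Q := act 6 n9890
theorem D11944 : act 6 n9890 = n11944 := rfl
theorem F21092 : act 0 n11944 = n9895 := d5_1 D11944 (iv D9895) (iv F17582)
theorem F21093 : act 4 n11944 = n9892 := d19_1 D11944 (iv D9892) D9890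
def n11945 : Q := act 1 n9891
theorem D11945 : act 1 n9891 = n11945 := rfl
def n11946 : Q := act 1 n9892
theorem D11946 : act 1 n9892 = n11946 := rfl
def n11947 : Q := act 2 n9893
theorem D11947 : act 2 n9893 = n11947 := rfl
def n11948 : Q := act 5 n9893
theorem D11948 : act 5 n9893 = n11948 := rfl
theorem F21094 : act 3 n11948 = n9894 := d16_1 D11948 (iv D9894) D9893
def n11949 : Q := act 6 n9893
theorem D11949 : act 6 n9893 = n11949 := rfl
theorem F21095 : act 3 n11949 = n9895 := d17_1 D11949 (iv D9895) D9893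
def n11950 : Q := act 1 n9894
theorem D11950 : act 1 n9894 = n11950 := rfl
theorem F21096 : act 4 n11950 = n9896 := d8_2 (iv F17586) D11950 (iv D9896)
theorem F21097 : act 5 n11950 = n9901 := d9_2 D9894 D11950 (iv D9901) (iv D4906) (iv F7479)
def n11951 : Q := act 6 n9894
theorem D11951 : act 6 n9894 = n11951 := rfl
theorem F21098 : act 4 n11951 = n9897 := d19_1 D11951 (iv D9897) (iv F17586)
theorem F21099 : act 5 n11951 = n11944 := d22_2 D9894 D11951 (iv D11944) F17582
def n11952 : Q := act 5 n9895
theorem D11952 : act 5 n9895 = n11952 := rfl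
theorem F21100 : act 0 n11952 = n11951 := d4_1 D11952 F21099 F21092
theorem F21101 : act 4 n11952 = n9898 := d18_1 D11952 (iv D9898) (iv F17587)
theorem F21102 : act 6 n11952 = n11943 := d20_2 D9895 D11952 (iv D11943) D11944 (iv F21099) (iv D11951) (iv D9894)
def n11953 : Q := act 0 n9896
theorem D11953 : act 0 n9896 = n11953 := rfl
theorem F21103 : act 5 n11953 = n9903 := d4_2 (iv F17588) D11953 (iv D9903)
def n11954 : Q := act 2 n9896
theorem D11954 : act 2 n9896 = n11954 := rfl
theorem F21104 : act 5 n11954 = n9904 := d13_2 (iv F17588) D11954 (iv D9904)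
def n11955 : Q := act 6 n9896
theorem D11955 : act 6 n9896 = n11955 := rfl
def n11956 : Q := act 1 n9897
theorem D11956 : act 1 n9897 = n11956 := rfl
def n11957 : Q := act 1 n9898
theorem D11957 : act 1 n9898 = n11957 := rfl
def n11958 : Q := act 1 n9899
theorem D11958 : act 1 n9899 = n11958 := rfl
theorem F21105 : act 3 n11958 = n9939 := d7_2 (iv F17593) D11958 (iv D9939)
theorem F21106 : act 4 n11958 = n11167 := d8_2 (iv F17594) D11958 F19790
def n11959 : Q := act 5 n9899
theorem D11959 : act 5 n9899 = n11959 := rfl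
theorem F21107 : act 0 n11959 = n11173 := d4_1 D11959 (iv D11173) (iv F17592)
theorem F21108 : act 2 n11959 = n9900 := d13_1 D11959 (iv D9900) D9899
theorem F21109 : act 3 n11959 = n9902 := d16_1 D11959 F17601 (iv F17593)
theorem F21110 : act 4 n11959 = n11173 := d18_1 D11959 (iv D11173) (iv F17594)
theorem F21111 : act 6 n11959 = n9900 := d20_2 (iv F17595) D11959 (iv D9900) (iv F12755) D11173 F19800 F19786
def n11960 : Q := act 1 n9900
theorem D11960 : act 1 n9900 = n11960 := rfl
theorem F21112 : act 3 n11960 = n9901 := d7_2 (iv F17596) D11960 (iv D9901)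
def n11961 : Q := act 0 n9901
theorem D11961 : act 0 n9901 = n11961 := rfl
theorem F21113 : act 4 n11961 = n9903 := d3_2 (iv F17597) D11961 (iv D9903)
def n11962 : Q := act 2 n9901
theorem D11962 : act 2 n9901 = n11962 := rfl
theorem F21114 : act 1 n11962 = n9908 := d6_1 D11962 (iv D9908) (iv D4909) (iv F7480) D9901
theorem F21115 : act 4 n11962 = n9904 := d12_2 (iv F17597) D11962 (iv D9904)
def n11963 : Q := act 6 n9901
theorem D11963 : act 6 n9901 = n11963 := rfl
theorem F21116 : act 4 n11963 = n9905 := d19_1 D11963 (iv D9905) (iv F17597)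
def n11964 : Q := act 1 n9902
theorem D11964 : act 1 n9902 = n11964 := rfl
theorem F21117 : act 4 n11964 = n9906 := d8_2 (iv F17600) D11964 (iv D9906)
def n11965 : Q := act 1 n9903
theorem D11965 : act 1 n9903 = n11965 := rfl
def n11966 : Q := act 2 n9903
theorem D11966 : act 2 n9903 = n11966 := rfl
theorem F21118 : act 0 n11966 = n9904 := d1_1 D11966 (iv D9904) D9903
def n11967 : Q := act 6 n9903
theorem D11967 : act 6 n9903 = n11967 := rfl
theorem F21119 : act 0 n11967 = n9905 := d5_1 D11967 (iv D9905) D9903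
theorem F21120 : act 5 n11967 = n11955 := d22_2 F21103 D11967 (iv D11955) D11953
def n11968 : Q := act 3 n9904
theorem D11968 : act 3 n9904 = n11968 := rfl
theorem F21121 : act 1 n11968 = n9913 := d7_1 D11968 (iv D9913) (iv F17602)
def n11969 : Q := act 6 n9904
theorem D11969 : act 6 n9904 = n11969 := rfl
theorem F21122 : act 2 n11969 = n9905 := d14_1 D11969 (iv D9905) D9904
def n11970 : Q := act 1 n9905
theorem D11970 : act 1 n9905 = n11970 := rfl
theorem F21123 : act 3 n11970 = n11177 := d7_2 F19783 D11970 F19803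
theorem F21124 : act 6 n11970 = n9906 := d10_2 D9905 D11970 (iv D9906) (iv D4908) D4907
def n11971 : Q := act 5 n9905
theorem D11971 : act 5 n9905 = n11971 := rfl
theorem F21125 : act 0 n11971 = n11955 := d4_1 D11971 (iv F21120) F21119
theorem F21126 : act 6 n11971 = n11953 := d20_2 D9905 D11971 F21103 D11967 F21120 (iv D11955) F17588
def n11972 : Q := act 0 n9906
theorem D11972 : act 0 n9906 = n11972 := rfl
theorem F21127 : act 3 n11972 = n11175 := d2_2 (iv F17603) D11972 (iv D11175)
def n11973 : Q := act 2 n9906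
theorem D11973 : act 2 n9906 = n11973 := rfl
theorem F21128 : act 1 n11973 = n9915 := d6_1 D11973 (iv D9915) (iv D4914) (iv F7483) D9906
def n11974 : Q := act 5 n9906
theorem D11974 : act 5 n9906 = n11974 := rfl
theorem F21129 : act 1 n11974 = n9941 := d9_1 D11974 (iv D9941) (iv D5109) (iv F15774) D9906
theorem F21130 : act 3 n11974 = n11170 := d16_1 D11974 F19794 (iv F17603)
def n11975 : Q := act 2 n9907
theorem D11975 : act 2 n9907 = n11975 := rfl
theorem F21131 : act 0 n11975 = n9908 := d1_1 D11975 (iv D9908) D9907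
theorem F21132 : act 4 n11975 = n9912 := d12_2 (iv F17605) D11975 (iv D9912)
def n11976 : Q := act 3 n9908
theorem D11976 : act 3 n9908 = n11976 := rfl
theorem F21133 : act 2 n11976 = n11915 := d21_2 D9908 D11976 (iv D11915) (iv D9875) F7419 D4951 (iv F17604) (iv D9907)
def n11977 : Q := act 6 n9908
theorem D11977 : act 6 n9908 = n11977 := rfl
theorem F21134 : act 2 n11977 = n9909 := d14_1 D11977 (iv D9909) D9908
def n11979 : Q := act 5 n9910
theorem D11979 : act 5 n9910 = n11979 := rfl
theorem F21140 : act 6 n11979 = n10446 := d22_1 D11979 (iv D10446) D10447 F18475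
def n11980 : Q := act 2 n9911
theorem D11980 : act 2 n9911 = n11980 := rfl
theorem F21141 : act 5 n11980 = n11184 := d13_2 F17612 D11980 F19814
def n11981 : Q := act 1 n9912
theorem D11981 : act 1 n9912 = n11981 := rfl
def n11982 : Q := act 3 n9912
theorem D11982 : act 3 n9912 = n11982 := rfl
theorem F21142 : act 0 n11982 = n9913 := d2_1 D11982 (iv D9913) (iv F17613)
theorem F21143 : act 2 n11982 = n10434 := d21_2 D9912 D11982 (iv D10434) (iv D6009) F4543 F2327 (iv F3730) D4911
def n11983 : Q := act 2 n9913
theorem D11983 : act 2 n9913 = n11983 := rfl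
theorem F21144 : act 0 n11983 = n10434 := d1_1 D11983 (iv F21143) F21142
theorem F21145 : act 3 n11983 = n10433 := d11_2 D9913 D11983 (iv D10433) F9118 F4544 (iv F7492) D9912 D11982 F21143 (iv D10434) (iv D6009) F4543 F2327 (iv F3730) D4912
theorem F21146 : act 6 n11924 = n11983 := d17_0 F21145 F18449 (iv F21063)
def n11984 : Q := act 4 n9913
theorem D11984 : act 4 n9913 = n11984 := rfl
def n11985 : Q := act 6 n9913
theorem D11985 : act 6 n9913 = n11985 := rfl
theorem F21147 : act 2 n11985 = n11924 := d14_1 D11985 F21146 (iv D11983)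
theorem F21148 : act 3 n11985 = n9914 := d17_1 D11985 (iv D9914) D9913
theorem F21149 : act 5 n11922 = n11985 := d22_0 (iv D11985) (iv F20982) F20983 (iv F21061)
def n11986 : Q := act 1 n9914
theorem D11986 : act 1 n9914 = n11986 := rfl
def n11987 : Q := act 3 n9915
theorem D11987 : act 3 n9915 = n11987 := rfl
def n11988 : Q := act 5 n9915
theorem D11988 : act 5 n9915 = n11988 := rfl
theorem F21150 : act 2 n11988 = n9916 := d13_1 D11988 (iv D9916) D9915
def n11991 : Q := act 4 n9919
theorem D11991 : act 4 n9919 = n11991 := rfl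
theorem F21157 : act 1 n11991 = n11134 := d8_1 D11991 (iv D11134) (iv F17623)
def n11992 : Q := act 6 n9919
theorem D11992 : act 6 n9919 = n11992 := rfl
theorem F21159 : act 3 n11992 = n9920 := d17_1 D11992 (iv D9920) D9919
def n11997 : Q := act 1 n9925
theorem D11997 : act 1 n9925 = n11997 := rfl
theorem F21170 : act 2 n11997 = n9930 := d6_2 D9925 D11997 (iv D9930) (iv D5055) (iv F7683)
theorem F21171 : act 4 n11997 = n9927 := d8_2 (iv F17637) D11997 (iv D9927)
def n11998 : Q := act 3 n9925
theorem D11998 : act 3 n9925 = n11998 := rfl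
theorem F21172 : act 0 n11998 = n11998 := d2_1 D11998 (iv D11998) F17636
theorem F21173 : act 5 n11998 = n11998 := d16_2 F17638 D11998 (iv D11998)
theorem F21174 : act 2 n11998 = n11998 := d21_2 D9925 D11998 (iv D11998) (iv D9925) (iv D5051) F14831 D5051 F16311
def n11999 : Q := act 6 n9925
theorem D11999 : act 6 n9925 = n11999 := rfl
theorem F21177 : act 4 n11999 = n9929 := d19_1 D11999 (iv D9929) (iv F17637)
def n12000 : Q := act 0 n9927
theorem D12000 : act 0 n9927 = n12000 := rfl
theorem F21179 : act 2 n12000 = n9931 := d1_2 (iv F17643) D12000 (iv D9931)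
def n12001 : Q := act 3 n9927
theorem D12001 : act 3 n9927 = n12001 := rfl
theorem F21180 : act 1 n12001 = n9928 := d7_1 D12001 (iv D9928) D9927
def n12002 : Q := act 5 n9927
theorem D12002 : act 5 n9927 = n12002 := rfl
theorem F21181 : act 1 n12002 = n12002 := d9_1 D12002 (iv D12002) (iv D9927) F16316 D9927
theorem F21182 : act 2 n12002 = n9932 := d13_1 D12002 (iv D9932) (iv F17643)
def n12003 : Q := act 6 n9927
theorem D12003 : act 6 n9927 = n12003 := rfl
theorem F21183 : act 2 n12003 = n9933 := d14_1 D12003 (iv D9933) (iv F17643)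
def n12004 : Q := act 4 n9928
theorem D12004 : act 4 n9928 = n12004 := rfl
theorem F21184 : act 0 n12004 = n12004 := d3_1 D12004 (iv D12004) F17644
theorem F21185 : act 2 n12004 = n12004 := d12_1 D12004 (iv D12004) F17646
theorem F21186 : act 5 n12004 = n12004 := d18_2 F17645 D12004 (iv D12004)
def n12005 : Q := act 6 n9928
theorem D12005 : act 6 n9928 = n12005 := rfl
theorem F21187 : act 0 n12005 = n12005 := d5_1 D12005 (iv D12005) F17644
theorem F21188 : act 2 n12005 = n12005 := d14_1 D12005 (iv D12005) F17646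
theorem F21189 : act 3 n12005 = n9929 := d17_1 D12005 (iv D9929) D9928
theorem F21190 : act 5 n12005 = n12005 := d22_2 F17645 D12005 (iv D12005) F17644
def n12006 : Q := act 1 n9929
theorem D12006 : act 1 n9929 = n12006 := rfl
def n12007 : Q := act 0 n9930
theorem D12007 : act 0 n9930 = n12007 := rfl
theorem F21191 : act 4 n12007 = n9931 := d3_2 (iv F17650) D12007 (iv D9931)
def n12008 : Q := act 5 n9930
theorem D12008 : act 5 n9930 = n12008 := rfl
theorem F21192 : act 1 n12008 = n11872 := d9_1 D12008 (iv D11872) F17526 (iv F7691) D9930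
theorem F21193 : act 4 n12008 = n9932 := d18_1 D12008 (iv D9932) (iv F17650)
def n12009 : Q := act 6 n9930
theorem D12009 : act 6 n9930 = n12009 := rfl
theorem F21194 : act 4 n12009 = n9933 := d19_1 D12009 (iv D9933) (iv F17650)
def n12010 : Q := act 1 n9931
theorem D12010 : act 1 n9931 = n12010 := rfl
theorem F21195 : act 3 n12010 = n11136 := d7_2 (iv F17651) D12010 (iv D11136)
def n12011 : Q := act 5 n9931
theorem D12011 : act 5 n9931 = n12011 := rfl
theorem F21196 : act 0 n12011 = n9932 := d4_1 D12011 (iv D9932) D9931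
theorem F21197 : act 3 n12011 = n11138 := d16_1 D12011 (iv D11138) (iv F17651)
def n12012 : Q := act 6 n9931
theorem D12012 : act 6 n9931 = n12012 := rfl
theorem F21198 : act 0 n12012 = n9933 := d5_1 D12012 (iv D9933) D9931
theorem F21199 : act 3 n12012 = n11139 := d17_1 D12012 (iv D11139) (iv F17651)
def n12013 : Q := act 6 n9932
theorem D12013 : act 6 n9932 = n12013 := rfl
theorem F21200 : act 3 n12013 = n11143 := d17_1 D12013 (iv D11143) (iv F17653)
theorem F21201 : act 5 n12013 = n12012 := d22_2 D9932 D12013 (iv D12012) (iv D9931)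
def n12014 : Q := act 5 n9933
theorem D12014 : act 5 n9933 = n12014 := rfl
theorem F21202 : act 0 n12014 = n12013 := d4_1 D12014 F21201 F21198
theorem F21203 : act 3 n12014 = n11145 := d16_1 D12014 (iv D11145) (iv F17654)
theorem F21204 : act 6 n12014 = n12011 := d20_2 D9933 D12014 (iv D12011) D12012 (iv F21201) (iv D12013) (iv D9932)
def n12015 : Q := act 1 n9934
theorem D12015 : act 1 n9934 = n12015 := rfl
theorem F21205 : act 2 n12015 = n9939 := d6_2 D9934 D12015 (iv D9939) (iv D5103) (iv F7739)
theorem F21206 : act 4 n12015 = n9936 := d8_2 (iv F17656) D12015 (iv D9936)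
def n12016 : Q := act 3 n9934
theorem D12016 : act 3 n9934 = n12016 := rfl
theorem F21207 : act 0 n12016 = n12016 := d2_1 D12016 (iv D12016) F17655
theorem F21208 : act 6 n12016 = n12016 := d17_2 F17657 D12016 (iv D12016)
theorem F21209 : act 2 n12016 = n12016 := d21_2 D9934 D12016 (iv D12016) (iv D9934) (iv D5086) F16716 D5086 F17453
def n12018 : Q := act 0 n9936
theorem D12018 : act 0 n9936 = n12018 := rfl
theorem F21214 : act 2 n12018 = n9940 := d1_2 (iv F17662) D12018 (iv D9940)
def n12019 : Q := act 3 n9936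
theorem D12019 : act 3 n9936 = n12019 := rfl
theorem F21215 : act 1 n12019 = n9937 := d7_1 D12019 (iv D9937) D9936
def n12020 : Q := act 5 n9936
theorem D12020 : act 5 n9936 = n12020 := rfl
theorem F21216 : act 2 n12020 = n9941 := d13_1 D12020 (iv D9941) (iv F17662)
def n12021 : Q := act 6 n9936
theorem D12021 : act 6 n9936 = n12021 := rfl
theorem F21217 : act 1 n12021 = n12021 := d10_1 D12021 (iv D12021) (iv D9936) F17450 D9936
theorem F21218 : act 2 n12021 = n9942 := d14_1 D12021 (iv D9942) (iv F17662)
def n12022 : Q := act 4 n9937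
theorem D12022 : act 4 n9937 = n12022 := rfl
theorem F21219 : act 0 n12022 = n12022 := d3_1 D12022 (iv D12022) F17663
theorem F21220 : act 2 n12022 = n12022 := d12_1 D12022 (iv D12022) F17665
theorem F21221 : act 6 n12022 = n12022 := d19_2 F17664 D12022 (iv D12022)
def n12023 : Q := act 5 n9937
theorem D12023 : act 5 n9937 = n12023 := rfl
theorem F21222 : act 0 n12023 = n12023 := d4_1 D12023 (iv D12023) F17663
theorem F21223 : act 2 n12023 = n12023 := d13_1 D12023 (iv D12023) F17665
theorem F21224 : act 3 n12023 = n9938 := d16_1 D12023 (iv D9938) D9937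
theorem F21225 : act 6 n12023 = n12023 := d22_1 D12023 (iv D12023) F17664 F17663
def n12024 : Q := act 1 n9938
theorem D12024 : act 1 n9938 = n12024 := rfl
def n12025 : Q := act 0 n9939
theorem D12025 : act 0 n9939 = n12025 := rfl
theorem F21226 : act 4 n12025 = n9940 := d3_2 (iv F17669) D12025 (iv D9940)
def n12026 : Q := act 5 n9939
theorem D12026 : act 5 n9939 = n12026 := rfl
theorem F21227 : act 4 n12026 = n9941 := d18_1 D12026 (iv D9941) (iv F17669)
def n12027 : Q := act 6 n9939
theorem D12027 : act 6 n9939 = n12027 := rfl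
theorem F21229 : act 4 n12027 = n9942 := d19_1 D12027 (iv D9942) (iv F17669)
def n12028 : Q := act 1 n9940
theorem D12028 : act 1 n9940 = n12028 := rfl
theorem F21230 : act 3 n12028 = n11163 := d7_2 (iv F17670) D12028 (iv D11163)
def n12029 : Q := act 5 n9940
theorem D12029 : act 5 n9940 = n12029 := rfl
theorem F21231 : act 0 n12029 = n9941 := d4_1 D12029 (iv D9941) D9940
theorem F21232 : act 3 n12029 = n11165 := d16_1 D12029 (iv D11165) (iv F17670)
def n12030 : Q := act 6 n9940
theorem D12030 : act 6 n9940 = n12030 := rfl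
theorem F21233 : act 0 n12030 = n9942 := d5_1 D12030 (iv D9942) D9940
theorem F21234 : act 3 n12030 = n11166 := d17_1 D12030 (iv D11166) (iv F17670)
def n12031 : Q := act 6 n9941
theorem D12031 : act 6 n9941 = n12031 := rfl
theorem F21235 : act 3 n12031 = n11171 := d17_1 D12031 (iv D11171) (iv F17671)
theorem F21236 : act 5 n12031 = n12030 := d22_2 D9941 D12031 (iv D12030) (iv D9940)
def n12032 : Q := act 5 n9942
theorem D12032 : act 5 n9942 = n12032 := rfl
theorem F21237 : act 0 n12032 = n12031 := d4_1 D12032 F21236 F21233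
theorem F21238 : act 3 n12032 = n11172 := d16_1 D12032 (iv D11172) (iv F17673)
theorem F21239 : act 6 n12032 = n12029 := d20_2 D9942 D12032 (iv D12029) D12030 (iv F21236) (iv D12031) (iv D9941)
def n12033 : Q := act 3 n9943
theorem D12033 : act 3 n9943 = n12033 := rfl
theorem F21240 : act 0 n12033 = n9947 := d2_1 D12033 (iv D9947) (iv F17674)
theorem F21241 : act 1 n12033 = n10633 := d7_1 D12033 (iv F19842) (iv F19844)
theorem F21242 : act 2 n12033 = n10702 := d11_1 D12033 (iv D10702) F11383 D7996 F17701 (iv D5142) D5141 D9947 (iv F17700) (iv D7661) F5638 D3827 D7999 F17703 D9943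
theorem F21243 : act 4 n10636 = n12033 := d8_0 F21241 F18870 D10636
def n12034 : Q := act 5 n9943
theorem D12034 : act 5 n9943 = n12034 := rfl
theorem F21244 : act 0 n12034 = n9948 := d4_1 D12034 (iv D9948) (iv F17674)
theorem F21245 : act 2 n12034 = n9945 := d13_1 D12034 (iv D9945) D9943
theorem F21246 : act 4 n12034 = n10098 := d18_1 D12034 (iv D10098) (iv F17675)
def n12035 : Q := act 6 n9943
theorem D12035 : act 6 n9943 = n12035 := rfl
theorem F21247 : act 0 n12035 = n9949 := d5_1 D12035 (iv D9949) (iv F17674)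
theorem F21248 : act 2 n12035 = n9946 := d14_1 D12035 (iv D9946) D9943
theorem F21249 : act 4 n12035 = n10099 := d19_1 D12035 (iv D10099) (iv F17675)
def n12036 : Q := act 1 n9945
theorem D12036 : act 1 n9945 = n12036 := rfl
theorem F21250 : act 4 n12036 = n10100 := d8_2 (iv F17678) D12036 (iv D10100)
def n12037 : Q := act 1 n9946
theorem D12037 : act 1 n9946 = n12037 := rfl
theorem F21251 : act 4 n12037 = n10101 := d8_2 (iv F17680) D12037 (iv D10101)
def n12038 : Q := act 4 n9947
theorem D12038 : act 4 n9947 = n12038 := rfl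
theorem F21252 : act 0 n12038 = n10636 := d3_1 D12038 F21243 F21240
theorem F21253 : act 1 n12038 = n12038 := d8_1 D12038 (iv D12038) F17681
theorem F21254 : act 2 n12038 = n10686 := d12_1 D12038 F18984 F17700
theorem F21255 : act 3 n12038 = n10103 := d15_1 D12038 (iv D10103) (iv D5496) (iv F7817) D9947
def n12039 : Q := act 5 n9947
theorem D12039 : act 5 n9947 = n12039 := rfl
theorem F21256 : act 2 n12039 = n10705 := d13_1 D12039 (iv D10705) F17700
theorem F21257 : act 3 n12039 = n9948 := d16_1 D12039 (iv D9948) D9947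
def n12040 : Q := act 6 n9947
theorem D12040 : act 6 n9947 = n12040 := rfl
theorem F21258 : act 2 n12040 = n10706 := d14_1 D12040 (iv D10706) F17700
theorem F21259 : act 3 n12040 = n9949 := d17_1 D12040 (iv D9949) D9947
def n12041 : Q := act 1 n9948
theorem D12041 : act 1 n9948 = n12041 := rfl
theorem F21260 : act 4 n12041 = n10106 := d8_2 (iv F17683) D12041 (iv D10106)
theorem F21261 : act 5 n12041 = n12041 := d9_2 D9948 D12041 (iv D12041) (iv D9948) F7816
def n12042 : Q := act 6 n9948
theorem D12042 : act 6 n9948 = n12042 := rfl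
theorem F21262 : act 2 n12042 = n9954 := d14_1 D12042 (iv D9954) (iv F17682)
theorem F21263 : act 4 n12042 = n10107 := d19_1 D12042 (iv D10107) (iv F17683)
theorem F21264 : act 5 n12042 = n12035 := d22_2 D9948 D12042 (iv D12035) F17674
def n12043 : Q := act 1 n9949
theorem D12043 : act 1 n9949 = n12043 := rfl
theorem F21265 : act 4 n12043 = n10108 := d8_2 (iv F17685) D12043 (iv D10108)
theorem F21266 : act 6 n12043 = n12043 := d10_2 D9949 D12043 (iv D12043) (iv D9949) F7816
def n12044 : Q := act 5 n9949
theorem D12044 : act 5 n9949 = n12044 := rfl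
theorem F21267 : act 0 n12044 = n12042 := d4_1 D12044 F21264 F21247
theorem F21268 : act 2 n12044 = n9956 := d13_1 D12044 (iv D9956) (iv F17684)
theorem F21269 : act 4 n12044 = n10109 := d18_1 D12044 (iv D10109) (iv F17685)
theorem F21270 : act 6 n12044 = n12034 := d20_2 D9949 D12044 (iv D12034) D12035 (iv F21264) (iv D12042) (iv D9948)
def n12045 : Q := act 1 n9951
theorem D12045 : act 1 n9951 = n12045 := rfl
theorem F21271 : act 3 n12045 = n9953 := d7_2 (iv F17686) D12045 (iv D9953)
theorem F21272 : act 5 n12045 = n9961 := d9_2 D9951 D12045 (iv D9961) (iv D5146) (iv F7818)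
def n12046 : Q := act 6 n9951
theorem D12046 : act 6 n9951 = n12046 := rfl
theorem F21273 : act 2 n12046 = n10843 := d14_1 D12046 F19263 F19242
theorem F21274 : act 3 n12046 = n9954 := d17_1 D12046 (iv D9954) (iv F17686)
theorem F21275 : act 5 n12046 = n10839 := d22_2 D9951 D12046 (iv D10839) F17702
def n12047 : Q := act 1 n9952
theorem D12047 : act 1 n9952 = n12047 := rfl
theorem F21276 : act 3 n12047 = n9955 := d7_2 (iv F17687) D12047 (iv D9955)
theorem F21277 : act 6 n12047 = n9962 := d10_2 D9952 D12047 (iv D9962) (iv D5147) (iv F7818)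
def n12048 : Q := act 5 n9952
theorem D12048 : act 5 n9952 = n12048 := rfl
theorem F21278 : act 0 n12048 = n12046 := d4_1 D12048 F21275 F19252
theorem F21279 : act 2 n12048 = n10841 := d13_1 D12048 F19258 F19245
theorem F21280 : act 3 n12048 = n9956 := d16_1 D12048 (iv D9956) (iv F17687)
theorem F21281 : act 6 n12048 = n10838 := d20_2 D9952 D12048 (iv D10838) D10839 (iv F21275) (iv D12046) (iv D9951)
def n12049 : Q := act 0 n9953
theorem D12049 : act 0 n9953 = n12049 := rfl
theorem F21282 : act 4 n12049 = n10110 := d3_2 (iv F17688) D12049 (iv D10110)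
theorem F21283 : act 5 n12049 = n9963 := d4_2 (iv F17689) D12049 (iv D9963)
def n12050 : Q := act 2 n9953
theorem D12050 : act 2 n9953 = n12050 := rfl
theorem F21284 : act 4 n12050 = n10111 := d12_2 (iv F17688) D12050 (iv D10111)
theorem F21285 : act 5 n12050 = n9964 := d13_2 (iv F17689) D12050 (iv D9964)
def n12051 : Q := act 6 n9953
theorem D12051 : act 6 n9953 = n12051 := rfl
theorem F21286 : act 4 n12051 = n10112 := d19_1 D12051 (iv D10112) (iv F17688)
def n12052 : Q := act 1 n9954
theorem D12052 : act 1 n9954 = n12052 := rfl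
theorem F21287 : act 4 n12052 = n10113 := d8_2 (iv F17690) D12052 (iv D10113)
def n12053 : Q := act 0 n9955
theorem D12053 : act 0 n9955 = n12053 := rfl
theorem F21288 : act 4 n12053 = n10114 := d3_2 (iv F17692) D12053 (iv D10114)
theorem F21289 : act 6 n12053 = n9966 := d5_2 (iv F17693) D12053 (iv D9966)
def n12054 : Q := act 2 n9955
theorem D12054 : act 2 n9955 = n12054 := rfl
theorem F21290 : act 4 n12054 = n10115 := d12_2 (iv F17692) D12054 (iv D10115)
theorem F21291 : act 6 n12054 = n9967 := d14_2 (iv F17693) D12054 (iv D9967)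
def n12055 : Q := act 5 n9955
theorem D12055 : act 5 n9955 = n12055 := rfl
theorem F21292 : act 4 n12055 = n10116 := d18_1 D12055 (iv D10116) (iv F17692)
def n12056 : Q := act 1 n9956
theorem D12056 : act 1 n9956 = n12056 := rfl
theorem F21293 : act 4 n12056 = n10117 := d8_2 (iv F17695) D12056 (iv D10117)
def n12057 : Q := act 0 n9957
theorem D12057 : act 0 n9957 = n12057 := rfl
def n12058 : Q := act 3 n9957
theorem D12058 : act 3 n9957 = n12058 := rfl
theorem F21294 : act 1 n12058 = n9958 := d7_1 D12058 (iv D9958) D9957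
theorem F21295 : act 4 n12058 = n12058 := d15_2 F20357 D12058 (iv D12058) (iv F20357) F20356
theorem F21296 : act 2 n12058 = n12058 := d21_4 (iv F19236) D10831 (iv F19238) D12058 (iv D12058) F19238 (iv D10831) D10830
def n12059 : Q := act 5 n9957
theorem D12059 : act 5 n9957 = n12059 := rfl
def n12060 : Q := act 6 n9957
theorem D12060 : act 6 n9957 = n12060 := rfl
def n12061 : Q := act 5 n9958
theorem D12061 : act 5 n9958 = n12061 := rfl
theorem F21297 : act 0 n12061 = n9969 := d4_1 D12061 (iv D9969) (iv F17697)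
theorem F21298 : act 2 n12061 = n9969 := d13_1 D12061 (iv D9969) (iv F17699)
theorem F21299 : act 3 n12061 = n9959 := d16_1 D12061 (iv D9959) D9958
theorem F21300 : act 4 n12061 = n12061 := d18_1 D12061 (iv D12061) F17698
def n12062 : Q := act 6 n9958
theorem D12062 : act 6 n9958 = n12062 := rfl
theorem F21301 : act 0 n12062 = n9970 := d5_1 D12062 (iv D9970) (iv F17697)
theorem F21302 : act 2 n12062 = n9970 := d14_1 D12062 (iv D9970) (iv F17699)
theorem F21303 : act 3 n12062 = n9960 := d17_1 D12062 (iv D9960) D9958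
theorem F21304 : act 4 n12062 = n12062 := d19_1 D12062 (iv D12062) F17698
def n12063 : Q := act 1 n9959
theorem D12063 : act 1 n9959 = n12063 := rfl
def n12064 : Q := act 1 n9960
theorem D12064 : act 1 n9960 = n12064 := rfl
def n12065 : Q := act 0 n9961
theorem D12065 : act 0 n9961 = n12065 := rfl
theorem F21305 : act 3 n12065 = n9963 := d2_2 (iv F17708) D12065 (iv D9963)
def n12066 : Q := act 2 n9961
theorem D12066 : act 2 n9961 = n12066 := rfl
def n12067 : Q := act 6 n9961
theorem D12067 : act 6 n9961 = n12067 := rfl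
theorem F21306 : act 3 n12067 = n9965 := d17_1 D12067 (iv D9965) (iv F17708)
def n12068 : Q := act 0 n9962
theorem D12068 : act 0 n9962 = n12068 := rfl
theorem F21307 : act 3 n12068 = n9966 := d2_2 (iv F17709) D12068 (iv D9966)
def n12069 : Q := act 2 n9962
theorem D12069 : act 2 n9962 = n12069 := rfl
def n12070 : Q := act 5 n9962
theorem D12070 : act 5 n9962 = n12070 := rfl
theorem F21308 : act 3 n12070 = n9968 := d16_1 D12070 (iv D9968) (iv F17709)
def n12071 : Q := act 1 n9963
theorem D12071 : act 1 n9963 = n12071 := rfl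
theorem F21309 : act 4 n12071 = n10118 := d8_2 (iv F17710) D12071 (iv D10118)
def n12072 : Q := act 2 n9963
theorem D12072 : act 2 n9963 = n12072 := rfl
theorem F21310 : act 0 n12072 = n9964 := d1_1 D12072 (iv D9964) D9963
theorem F21311 : act 4 n12072 = n10119 := d12_2 (iv F17710) D12072 (iv D10119)
def n12073 : Q := act 6 n9963
theorem D12073 : act 6 n9963 = n12073 := rfl
theorem F21312 : act 0 n12073 = n9965 := d5_1 D12073 (iv D9965) D9963
theorem F21313 : act 4 n12073 = n10120 := d19_1 D12073 (iv D10120) (iv F17710)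
theorem F21314 : act 5 n12073 = n12051 := d22_2 F21283 D12073 (iv D12051) D12049
def n12074 : Q := act 3 n9964
theorem D12074 : act 3 n9964 = n12074 := rfl
theorem F21315 : act 1 n12074 = n12074 := d7_1 D12074 (iv D12074) F17711
def n12075 : Q := act 6 n9964
theorem D12075 : act 6 n9964 = n12075 := rfl
theorem F21316 : act 2 n12075 = n9965 := d14_1 D12075 (iv D9965) D9964
theorem F21317 : act 4 n12075 = n10122 := d19_1 D12075 (iv D10122) (iv F17712)
def n12076 : Q := act 5 n9965
theorem D12076 : act 5 n9965 = n12076 := rfl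
theorem F21318 : act 0 n12076 = n12051 := d4_1 D12076 (iv F21314) F21312
theorem F21319 : act 4 n12076 = n10123 := d18_1 D12076 (iv D10123) (iv F17713)
theorem F21320 : act 6 n12076 = n12049 := d20_2 D9965 D12076 F21283 D12073 F21314 (iv D12051) F17689
def n12077 : Q := act 1 n9966
theorem D12077 : act 1 n9966 = n12077 := rfl
theorem F21321 : act 4 n12077 = n10124 := d8_2 (iv F17714) D12077 (iv D10124)
def n12078 : Q := act 2 n9966
theorem D12078 : act 2 n9966 = n12078 := rfl
theorem F21322 : act 0 n12078 = n9967 := d1_1 D12078 (iv D9967) D9966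
theorem F21323 : act 4 n12078 = n10125 := d12_2 (iv F17714) D12078 (iv D10125)
def n12079 : Q := act 5 n9966
theorem D12079 : act 5 n9966 = n12079 := rfl
theorem F21324 : act 0 n12079 = n9968 := d4_1 D12079 (iv D9968) D9966
theorem F21325 : act 4 n12079 = n10126 := d18_1 D12079 (iv D10126) (iv F17714)
theorem F21326 : act 6 n12079 = n12055 := d22_1 D12079 (iv D12055) F17693 D9966
def n12080 : Q := act 3 n9967
theorem D12080 : act 3 n9967 = n12080 := rfl
theorem F21327 : act 1 n12080 = n12080 := d7_1 D12080 (iv D12080) F17715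
def n12081 : Q := act 5 n9967
theorem D12081 : act 5 n9967 = n12081 := rfl
theorem F21328 : act 2 n12081 = n9968 := d13_1 D12081 (iv D9968) D9967
theorem F21329 : act 4 n12081 = n10128 := d18_1 D12081 (iv D10128) (iv F17716)
def n12082 : Q := act 6 n9968
theorem D12082 : act 6 n9968 = n12082 := rfl
theorem F21330 : act 0 n12082 = n12055 := d5_1 D12082 (iv F21326) F21324
theorem F21331 : act 4 n12082 = n10129 := d19_1 D12082 (iv D10129) (iv F17717)
theorem F21332 : act 5 n12082 = n12053 := d20_1 D12082 F21289 D12079 F21326 (iv D12055) F17693 D9968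
def n12083 : Q := act 1 n9969
theorem D12083 : act 1 n9969 = n12083 := rfl
theorem F21333 : act 3 n12083 = n9971 := d7_2 (iv F17718) D12083 (iv D9971)
theorem F21334 : act 4 n12083 = n12083 := d8_2 F17719 D12083 (iv D12083)
theorem F21335 : act 5 n12083 = n12083 := d9_2 D9969 D12083 (iv D12083) (iv D9969) F7828
def n12084 : Q := act 6 n9969
theorem D12084 : act 6 n9969 = n12084 := rfl
theorem F21336 : act 3 n12084 = n9972 := d17_1 D12084 (iv D9972) (iv F17718)
theorem F21337 : act 4 n12084 = n12084 := d19_1 D12084 (iv D12084) F17719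
theorem F21338 : act 5 n12084 = n12062 := d22_2 D9969 D12084 (iv D12062) F17697
def n12085 : Q := act 1 n9970
theorem D12085 : act 1 n9970 = n12085 := rfl
theorem F21339 : act 3 n12085 = n9973 := d7_2 (iv F17720) D12085 (iv D9973)
theorem F21340 : act 4 n12085 = n12085 := d8_2 F17721 D12085 (iv D12085)
theorem F21341 : act 6 n12085 = n12085 := d10_2 D9970 D12085 (iv D12085) (iv D9970) F7828
def n12086 : Q := act 5 n9970
theorem D12086 : act 5 n9970 = n12086 := rfl
theorem F21342 : act 0 n12086 = n12084 := d4_1 D12086 F21338 F21301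
theorem F21343 : act 2 n12086 = n12084 := d13_1 D12086 F21338 F21302
theorem F21344 : act 3 n12086 = n9974 := d16_1 D12086 (iv D9974) (iv F17720)
theorem F21345 : act 4 n12086 = n12086 := d18_1 D12086 (iv D12086) F17721
theorem F21346 : act 6 n12086 = n12061 := d20_2 D9970 D12086 (iv D12061) D12062 (iv F21338) (iv D12084) (iv D9969)
def n12087 : Q := act 0 n9971
theorem D12087 : act 0 n9971 = n12087 := rfl
def n12088 : Q := act 2 n9971
theorem D12088 : act 2 n9971 = n12088 := rfl
theorem F21348 : act 1 n12088 = n9976 := d6_1 D12088 (iv D9976) (iv D5153) (iv F7829) D9971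
theorem F21349 : act 5 n12088 = n12088 := d13_2 F17722 D12088 (iv D12088)
def n12089 : Q := act 6 n9971
theorem D12089 : act 6 n9971 = n12089 := rfl
def n12090 : Q := act 1 n9972
theorem D12090 : act 1 n9972 = n12090 := rfl
def n12091 : Q := act 0 n9973
theorem D12091 : act 0 n9973 = n12091 := rfl
def n12092 : Q := act 2 n9973
theorem D12092 : act 2 n9973 = n12092 := rfl
theorem F21351 : act 1 n12092 = n9980 := d6_1 D12092 (iv D9980) (iv D5155) (iv F7830) D9973
theorem F21352 : act 6 n12092 = n12092 := d14_2 F17725 D12092 (iv D12092)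
def n12093 : Q := act 5 n9973
theorem D12093 : act 5 n9973 = n12093 := rfl
def n12094 : Q := act 1 n9974
theorem D12094 : act 1 n9974 = n12094 := rfl
def n12095 : Q := act 1 n9975
theorem D12095 : act 1 n9975 = n12095 := rfl
theorem F21353 : act 3 n12095 = n9983 := d7_2 (iv F17729) D12095 (iv D9983)
def n12096 : Q := act 2 n9975
theorem D12096 : act 2 n9975 = n12096 := rfl
theorem F21354 : act 0 n12096 = n9976 := d1_1 D12096 (iv D9976) D9975
theorem F21355 : act 5 n12096 = n10000 := d13_2 (iv F17730) D12096 (iv D10000)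
def n12097 : Q := act 3 n9976
theorem D12097 : act 3 n9976 = n12097 := rfl
theorem F21356 : act 5 n12097 = n10002 := d16_2 (iv F17731) D12097 (iv D10002)
def n12098 : Q := act 6 n9976
theorem D12098 : act 6 n9976 = n12098 := rfl
theorem F21357 : act 2 n12098 = n9977 := d14_1 D12098 (iv D9977) D9976
def n12099 : Q := act 1 n9977
theorem D12099 : act 1 n9977 = n12099 := rfl
theorem F21358 : act 3 n12099 = n9987 := d7_2 (iv F17732) D12099 (iv D9987)
theorem F21359 : act 6 n12099 = n9978 := d10_2 D9977 D12099 (iv D9978) (iv D5154) D5153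
def n12100 : Q := act 0 n9978
theorem D12100 : act 0 n9978 = n12100 := rfl
theorem F21360 : act 3 n12100 = n9988 := d2_2 (iv F17733) D12100 (iv D9988)
def n12101 : Q := act 2 n9978
theorem D12101 : act 2 n9978 = n12101 := rfl
def n12102 : Q := act 5 n9978
theorem D12102 : act 5 n9978 = n12102 := rfl
theorem F21361 : act 1 n12102 = n12070 := d9_1 D12102 (iv D12070) (iv D9962) (iv F7834) D9978
theorem F21362 : act 3 n12102 = n9990 := d16_1 D12102 (iv D9990) (iv F17733)
def n12103 : Q := act 1 n9979
theorem D12103 : act 1 n9979 = n12103 := rfl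
theorem F21363 : act 3 n12103 = n9991 := d7_2 (iv F17734) D12103 (iv D9991)
def n12104 : Q := act 2 n9979
theorem D12104 : act 2 n9979 = n12104 := rfl
theorem F21364 : act 0 n12104 = n9980 := d1_1 D12104 (iv D9980) D9979
theorem F21365 : act 6 n12104 = n10010 := d14_2 (iv F17735) D12104 (iv D10010)
def n12105 : Q := act 3 n9980
theorem D12105 : act 3 n9980 = n12105 := rfl
theorem F21366 : act 6 n12105 = n10012 := d17_2 (iv F17736) D12105 (iv D10012)
def n12106 : Q := act 5 n9980
theorem D12106 : act 5 n9980 = n12106 := rfl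
theorem F21367 : act 2 n12106 = n9981 := d13_1 D12106 (iv D9981) D9980
def n12107 : Q := act 1 n9981
theorem D12107 : act 1 n9981 = n12107 := rfl
theorem F21368 : act 3 n12107 = n9995 := d7_2 (iv F17737) D12107 (iv D9995)
theorem F21369 : act 5 n12107 = n9982 := d9_2 D9981 D12107 (iv D9982) (iv D5156) D5155
def n12108 : Q := act 0 n9982
theorem D12108 : act 0 n9982 = n12108 := rfl
theorem F21370 : act 3 n12108 = n9996 := d2_2 (iv F17738) D12108 (iv D9996)
def n12109 : Q := act 2 n9982
theorem D12109 : act 2 n9982 = n12109 := rfl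
def n12110 : Q := act 6 n9982
theorem D12110 : act 6 n9982 = n12110 := rfl
theorem F21371 : act 1 n12110 = n12067 := d10_1 D12110 (iv D12067) (iv D9961) (iv F7839) D9982
theorem F21372 : act 3 n12110 = n9998 := d17_1 D12110 (iv D9998) (iv F17738)
def n12111 : Q := act 5 n9983
theorem D12111 : act 5 n9983 = n12111 := rfl
theorem F21373 : act 1 n12111 = n10021 := d9_1 D12111 (iv D10021) (iv D5173) (iv F7841) D9983
theorem F21374 : act 4 n12111 = n10132 := d18_1 D12111 (iv D10132) (iv F17739)
def n12112 : Q := act 6 n9983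
theorem D12112 : act 6 n9983 = n12112 := rfl
theorem F21375 : act 4 n12112 = n10133 := d19_1 D12112 (iv D10133) (iv F17739)
def n12113 : Q := act 1 n9984
theorem D12113 : act 1 n9984 = n12113 := rfl
theorem F21376 : act 4 n12113 = n10134 := d8_2 (iv F17741) D12113 (iv D10134)
def n12114 : Q := act 3 n9984
theorem D12114 : act 3 n9984 = n12114 := rfl
theorem F21377 : act 0 n12114 = n9985 := d2_1 D12114 (iv D9985) (iv F17740)
theorem F21378 : act 5 n12114 = n10024 := d16_2 (iv F17742) D12114 (iv D10024)
def n12115 : Q := act 2 n9985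
theorem D12115 : act 2 n9985 = n12115 := rfl
theorem F21379 : act 5 n12115 = n10027 := d13_2 (iv F17744) D12115 (iv D10027)
def n12116 : Q := act 4 n9985
theorem D12116 : act 4 n9985 = n12116 := rfl
theorem F21380 : act 1 n12116 = n12116 := d8_1 D12116 (iv D12116) F17743
theorem F21381 : act 3 n12116 = n10137 := d15_1 D12116 (iv D10137) (iv D5511) (iv F7843) D9985
theorem F21382 : act 5 n12116 = n10028 := d18_2 (iv F17744) D12116 (iv D10028)
def n12117 : Q := act 6 n9985
theorem D12117 : act 6 n9985 = n12117 := rfl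
theorem F21383 : act 3 n12117 = n9986 := d17_1 D12117 (iv D9986) D9985
def n12118 : Q := act 1 n9986
theorem D12118 : act 1 n9986 = n12118 := rfl
theorem F21384 : act 4 n12118 = n10139 := d8_2 (iv F17746) D12118 (iv D10139)
theorem F21385 : act 6 n12118 = n12118 := d10_2 D9986 D12118 (iv D12118) (iv D9986) F7842
def n12119 : Q := act 0 n9987
theorem D12119 : act 0 n9987 = n12119 := rfl
theorem F21386 : act 4 n12119 = n10140 := d3_2 (iv F17747) D12119 (iv D10140)
theorem F21387 : act 6 n12119 = n9988 := d5_2 (iv F17748) D12119 (iv D9988)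
def n12120 : Q := act 2 n9987
theorem D12120 : act 2 n9987 = n12120 := rfl
theorem F21388 : act 4 n12120 = n10141 := d12_2 (iv F17747) D12120 (iv D10141)
theorem F21389 : act 6 n12120 = n9989 := d14_2 (iv F17748) D12120 (iv D9989)
def n12121 : Q := act 5 n9987
theorem D12121 : act 5 n9987 = n12121 := rfl
theorem F21390 : act 4 n12121 = n10142 := d18_1 D12121 (iv D10142) (iv F17747)
def n12122 : Q := act 1 n9988
theorem D12122 : act 1 n9988 = n12122 := rfl
theorem F21391 : act 4 n12122 = n10143 := d8_2 (iv F17749) D12122 (iv D10143)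
def n12123 : Q := act 2 n9988
theorem D12123 : act 2 n9988 = n12123 := rfl
theorem F21392 : act 0 n12123 = n9989 := d1_1 D12123 (iv D9989) D9988
theorem F21393 : act 4 n12123 = n10144 := d12_2 (iv F17749) D12123 (iv D10144)
def n12124 : Q := act 5 n9988
theorem D12124 : act 5 n9988 = n12124 := rfl
theorem F21394 : act 0 n12124 = n9990 := d4_1 D12124 (iv D9990) D9988
theorem F21395 : act 4 n12124 = n10145 := d18_1 D12124 (iv D10145) (iv F17749)
theorem F21396 : act 6 n12124 = n12121 := d22_1 D12124 (iv D12121) F17748 D9988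
def n12125 : Q := act 3 n9989
theorem D12125 : act 3 n9989 = n12125 := rfl
theorem F21397 : act 1 n12125 = n12125 := d7_1 D12125 (iv D12125) F17750
def n12126 : Q := act 5 n9989
theorem D12126 : act 5 n9989 = n12126 := rfl
theorem F21398 : act 2 n12126 = n9990 := d13_1 D12126 (iv D9990) D9989
theorem F21399 : act 4 n12126 = n10147 := d18_1 D12126 (iv D10147) (iv F17751)
def n12127 : Q := act 6 n9990
theorem D12127 : act 6 n9990 = n12127 := rfl
theorem F21400 : act 0 n12127 = n12121 := d5_1 D12127 (iv F21396) F21394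
theorem F21401 : act 4 n12127 = n10148 := d19_1 D12127 (iv D10148) (iv F17753)
theorem F21402 : act 5 n12127 = n12119 := d20_1 D12127 F21387 D12124 F21396 (iv D12121) F17748 D9990
def n12128 : Q := act 0 n9991
theorem D12128 : act 0 n9991 = n12128 := rfl
theorem F21403 : act 4 n12128 = n10149 := d3_2 (iv F17754) D12128 (iv D10149)
def n12129 : Q := act 2 n9991
theorem D12129 : act 2 n9991 = n12129 := rfl
theorem F21404 : act 4 n12129 = n10150 := d12_2 (iv F17754) D12129 (iv D10150)
def n12130 : Q := act 5 n9991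
theorem D12130 : act 5 n9991 = n12130 := rfl
theorem F21405 : act 4 n12130 = n10151 := d18_1 D12130 (iv D10151) (iv F17754)
def n12131 : Q := act 6 n9991
theorem D12131 : act 6 n9991 = n12131 := rfl
theorem F21406 : act 1 n12131 = n10045 := d10_1 D12131 (iv D10045) (iv D5183) (iv F7848) D9991
theorem F21407 : act 4 n12131 = n10152 := d19_1 D12131 (iv D10152) (iv F17754)
def n12132 : Q := act 1 n9992
theorem D12132 : act 1 n9992 = n12132 := rfl
theorem F21408 : act 4 n12132 = n10153 := d8_2 (iv F17756) D12132 (iv D10153)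
def n12133 : Q := act 3 n9992
theorem D12133 : act 3 n9992 = n12133 := rfl
theorem F21409 : act 0 n12133 = n9993 := d2_1 D12133 (iv D9993) (iv F17755)
theorem F21410 : act 6 n12133 = n10047 := d17_2 (iv F17757) D12133 (iv D10047)
def n12134 : Q := act 2 n9993
theorem D12134 : act 2 n9993 = n12134 := rfl
theorem F21411 : act 6 n12134 = n10050 := d14_2 (iv F17759) D12134 (iv D10050)
def n12135 : Q := act 4 n9993
theorem D12135 : act 4 n9993 = n12135 := rfl
theorem F21412 : act 1 n12135 = n12135 := d8_1 D12135 (iv D12135) F17758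
theorem F21413 : act 3 n12135 = n10156 := d15_1 D12135 (iv D10156) (iv D5519) (iv F7850) D9993
theorem F21414 : act 6 n12135 = n10051 := d19_2 (iv F17759) D12135 (iv D10051)
def n12136 : Q := act 5 n9993
theorem D12136 : act 5 n9993 = n12136 := rfl
theorem F21415 : act 3 n12136 = n9994 := d16_1 D12136 (iv D9994) D9993
def n12137 : Q := act 1 n9994
theorem D12137 : act 1 n9994 = n12137 := rfl
theorem F21416 : act 4 n12137 = n10158 := d8_2 (iv F17761) D12137 (iv D10158)
theorem F21417 : act 5 n12137 = n12137 := d9_2 D9994 D12137 (iv D12137) (iv D9994) F7849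
def n12138 : Q := act 0 n9995
theorem D12138 : act 0 n9995 = n12138 := rfl
theorem F21418 : act 4 n12138 = n10159 := d3_2 (iv F17762) D12138 (iv D10159)
theorem F21419 : act 5 n12138 = n9996 := d4_2 (iv F17763) D12138 (iv D9996)
def n12139 : Q := act 2 n9995
theorem D12139 : act 2 n9995 = n12139 := rfl
theorem F21420 : act 4 n12139 = n10160 := d12_2 (iv F17762) D12139 (iv D10160)
theorem F21421 : act 5 n12139 = n9997 := d13_2 (iv F17763) D12139 (iv D9997)
def n12140 : Q := act 6 n9995
theorem D12140 : act 6 n9995 = n12140 := rfl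
theorem F21422 : act 4 n12140 = n10161 := d19_1 D12140 (iv D10161) (iv F17762)
def n12141 : Q := act 1 n9996
theorem D12141 : act 1 n9996 = n12141 := rfl
theorem F21423 : act 4 n12141 = n10162 := d8_2 (iv F17764) D12141 (iv D10162)
def n12142 : Q := act 2 n9996
theorem D12142 : act 2 n9996 = n12142 := rfl
theorem F21424 : act 0 n12142 = n9997 := d1_1 D12142 (iv D9997) D9996
theorem F21425 : act 4 n12142 = n10163 := d12_2 (iv F17764) D12142 (iv D10163)
def n12143 : Q := act 6 n9996
theorem D12143 : act 6 n9996 = n12143 := rfl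
theorem F21426 : act 0 n12143 = n9998 := d5_1 D12143 (iv D9998) D9996
theorem F21427 : act 4 n12143 = n10164 := d19_1 D12143 (iv D10164) (iv F17764)
theorem F21428 : act 5 n12143 = n12140 := d22_2 F21419 D12143 (iv D12140) D12138
def n12144 : Q := act 3 n9997
theorem D12144 : act 3 n9997 = n12144 := rfl
theorem F21429 : act 1 n12144 = n12144 := d7_1 D12144 (iv D12144) F17765
def n12145 : Q := act 6 n9997
theorem D12145 : act 6 n9997 = n12145 := rfl
theorem F21430 : act 2 n12145 = n9998 := d14_1 D12145 (iv D9998) D9997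
theorem F21431 : act 4 n12145 = n10166 := d19_1 D12145 (iv D10166) (iv F17766)
def n12146 : Q := act 5 n9998
theorem D12146 : act 5 n9998 = n12146 := rfl
theorem F21432 : act 0 n12146 = n12140 := d4_1 D12146 (iv F21428) F21426
theorem F21433 : act 4 n12146 = n10167 := d18_1 D12146 (iv D10167) (iv F17768)
theorem F21434 : act 6 n12146 = n12138 := d20_2 D9998 D12146 F21419 D12143 F21428 (iv D12140) F17763
def n12147 : Q := act 0 n9999
theorem D12147 : act 0 n9999 = n12147 := rfl
theorem F21435 : act 3 n12147 = n10019 := d2_2 (iv F17769) D12147 (iv D10019)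
def n12148 : Q := act 2 n9999
theorem D12148 : act 2 n9999 = n12148 := rfl
def n12149 : Q := act 5 n9999
theorem D12149 : act 5 n9999 = n12149 := rfl
theorem F21436 : act 3 n12149 = n10021 := d16_1 D12149 (iv D10021) (iv F17769)
def n12150 : Q := act 6 n9999
theorem D12150 : act 6 n9999 = n12150 := rfl
theorem F21437 : act 3 n12150 = n10022 := d17_1 D12150 (iv D10022) (iv F17769)
def n12151 : Q := act 1 n10000
theorem D12151 : act 1 n10000 = n12151 := rfl
def n12152 : Q := act 3 n10000
theorem D12152 : act 3 n10000 = n12152 := rfl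
theorem F21438 : act 0 n12152 = n10002 := d2_1 D12152 (iv D10002) (iv F17770)
def n12153 : Q := act 6 n10000
theorem D12153 : act 6 n10000 = n12153 := rfl
theorem F21439 : act 0 n12153 = n10003 := d5_1 D12153 (iv D10003) (iv F17770)
theorem F21440 : act 2 n12153 = n10001 := d14_1 D12153 (iv D10001) D10000
theorem F21441 : act 5 n12153 = n12098 := d22_2 F21355 D12153 (iv D12098) (iv F21354)
def n12154 : Q := act 1 n10001
theorem D12154 : act 1 n10001 = n12154 := rfl
theorem F21442 : act 3 n12154 = n10026 := d7_2 (iv F17772) D12154 (iv D10026)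
def n12155 : Q := act 2 n10002
theorem D12155 : act 2 n10002 = n12155 := rfl
def n12156 : Q := act 4 n10002
theorem D12156 : act 4 n10002 = n12156 := rfl
theorem F21443 : act 1 n12156 = n12156 := d8_1 D12156 (iv D12156) F17774
def n12157 : Q := act 6 n10002
theorem D12157 : act 6 n10002 = n12157 := rfl
theorem F21444 : act 3 n12157 = n10003 := d17_1 D12157 (iv D10003) D10002
def n12158 : Q := act 1 n10003
theorem D12158 : act 1 n10003 = n12158 := rfl
theorem F21445 : act 6 n12158 = n12158 := d10_2 D10003 D12158 (iv D12158) (iv D10003) F7855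
def n12159 : Q := act 5 n10003
theorem D12159 : act 5 n10003 = n12159 := rfl
theorem F21446 : act 0 n12159 = n12098 := d4_1 D12159 (iv F21441) F21439
theorem F21447 : act 2 n12159 = n10005 := d13_1 D12159 (iv D10005) (iv F17775)
theorem F21448 : act 6 n12159 = n12096 := d20_2 D10003 D12159 F21355 D12153 F21441 (iv D12098) F17731
def n12160 : Q := act 0 n10004
theorem D12160 : act 0 n10004 = n12160 := rfl
theorem F21449 : act 3 n12160 = n10032 := d2_2 (iv F17776) D12160 (iv D10032)
theorem F21450 : act 6 n12160 = n10006 := d5_2 (iv F17777) D12160 (iv D10006)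
def n12161 : Q := act 2 n10004
theorem D12161 : act 2 n10004 = n12161 := rfl
theorem F21451 : act 6 n12161 = n10007 := d14_2 (iv F17777) D12161 (iv D10007)
def n12162 : Q := act 5 n10004
theorem D12162 : act 5 n10004 = n12162 := rfl
theorem F21452 : act 3 n12162 = n10034 := d16_1 D12162 (iv D10034) (iv F17776)
def n12163 : Q := act 1 n10005
theorem D12163 : act 1 n10005 = n12163 := rfl
theorem F21453 : act 3 n12163 = n10035 := d7_2 (iv F17779) D12163 (iv D10035)
def n12164 : Q := act 1 n10006
theorem D12164 : act 1 n10006 = n12164 := rfl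
theorem F21454 : act 3 n12164 = n10036 := d7_2 (iv F17781) D12164 (iv D10036)
def n12165 : Q := act 2 n10006
theorem D12165 : act 2 n10006 = n12165 := rfl
theorem F21455 : act 0 n12165 = n10007 := d1_1 D12165 (iv D10007) D10006
def n12166 : Q := act 5 n10006
theorem D12166 : act 5 n10006 = n12166 := rfl
theorem F21456 : act 0 n12166 = n10008 := d4_1 D12166 (iv D10008) D10006
theorem F21457 : act 3 n12166 = n10038 := d16_1 D12166 (iv D10038) (iv F17781)
theorem F21458 : act 6 n12166 = n12162 := d22_1 D12166 (iv D12162) F17777 D10006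
def n12167 : Q := act 3 n10007
theorem D12167 : act 3 n10007 = n12167 := rfl
theorem F21459 : act 1 n12167 = n12167 := d7_1 D12167 (iv D12167) F17782
def n12168 : Q := act 5 n10007
theorem D12168 : act 5 n10007 = n12168 := rfl
theorem F21460 : act 2 n12168 = n10008 := d13_1 D12168 (iv D10008) D10007
def n12169 : Q := act 6 n10008
theorem D12169 : act 6 n10008 = n12169 := rfl
theorem F21461 : act 0 n12169 = n12162 := d5_1 D12169 (iv F21458) F21456
theorem F21462 : act 3 n12169 = n10041 := d17_1 D12169 (iv D10041) (iv F17784)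
theorem F21463 : act 5 n12169 = n12160 := d20_1 D12169 F21450 D12166 F21458 (iv D12162) F17777 D10008
def n12170 : Q := act 0 n10009
theorem D12170 : act 0 n10009 = n12170 := rfl
theorem F21464 : act 3 n12170 = n10042 := d2_2 (iv F17785) D12170 (iv D10042)
def n12171 : Q := act 2 n10009
theorem D12171 : act 2 n10009 = n12171 := rfl
def n12172 : Q := act 5 n10009
theorem D12172 : act 5 n10009 = n12172 := rfl
theorem F21465 : act 3 n12172 = n10044 := d16_1 D12172 (iv D10044) (iv F17785)
def n12173 : Q := act 6 n10009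
theorem D12173 : act 6 n10009 = n12173 := rfl
theorem F21466 : act 3 n12173 = n10045 := d17_1 D12173 (iv D10045) (iv F17785)
def n12174 : Q := act 1 n10010
theorem D12174 : act 1 n10010 = n12174 := rfl
def n12175 : Q := act 3 n10010
theorem D12175 : act 3 n10010 = n12175 := rfl
theorem F21467 : act 0 n12175 = n10012 := d2_1 D12175 (iv D10012) (iv F17786)
def n12176 : Q := act 5 n10010
theorem D12176 : act 5 n10010 = n12176 := rfl
theorem F21468 : act 0 n12176 = n10013 := d4_1 D12176 (iv D10013) (iv F17786)
theorem F21469 : act 2 n12176 = n10011 := d13_1 D12176 (iv D10011) D10010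
theorem F21470 : act 6 n12176 = n12106 := d22_1 D12176 (iv D12106) F17736 (iv F17786)
def n12177 : Q := act 1 n10011
theorem D12177 : act 1 n10011 = n12177 := rfl
theorem F21471 : act 3 n12177 = n10049 := d7_2 (iv F17788) D12177 (iv D10049)
def n12178 : Q := act 2 n10012
theorem D12178 : act 2 n10012 = n12178 := rfl
def n12179 : Q := act 4 n10012
theorem D12179 : act 4 n10012 = n12179 := rfl
theorem F21472 : act 1 n12179 = n12179 := d8_1 D12179 (iv D12179) F17790
def n12180 : Q := act 5 n10012
theorem D12180 : act 5 n10012 = n12180 := rfl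
theorem F21473 : act 3 n12180 = n10013 := d16_1 D12180 (iv D10013) D10012
def n12181 : Q := act 1 n10013
theorem D12181 : act 1 n10013 = n12181 := rfl
theorem F21474 : act 5 n12181 = n12181 := d9_2 D10013 D12181 (iv D12181) (iv D10013) F7859
def n12182 : Q := act 6 n10013
theorem D12182 : act 6 n10013 = n12182 := rfl
theorem F21475 : act 0 n12182 = n12106 := d5_1 D12182 (iv F21470) F21468
theorem F21476 : act 2 n12182 = n10015 := d14_1 D12182 (iv D10015) (iv F17791)
theorem F21477 : act 5 n12182 = n12104 := d20_1 D12182 F21365 D12176 F21470 (iv D12106) F17736 D10013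
def n12183 : Q := act 0 n10014
theorem D12183 : act 0 n10014 = n12183 := rfl
theorem F21478 : act 3 n12183 = n10055 := d2_2 (iv F17792) D12183 (iv D10055)
theorem F21479 : act 4 n12183 = n12166 := d3_2 (iv F17793) D12183 F21456
theorem F21480 : act 5 n12183 = n10016 := d4_2 (iv F17794) D12183 (iv D10016)
def n12184 : Q := act 2 n10014
theorem D12184 : act 2 n10014 = n12184 := rfl
theorem F21481 : act 4 n12184 = n12168 := d12_2 (iv F17793) D12184 F21460
theorem F21482 : act 5 n12184 = n10017 := d13_2 (iv F17794) D12184 (iv D10017)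
def n12185 : Q := act 6 n10014
theorem D12185 : act 6 n10014 = n12185 := rfl
theorem F21483 : act 3 n12185 = n10057 := d17_1 D12185 (iv D10057) (iv F17792)
theorem F21484 : act 4 n12185 = n12169 := d19_1 D12185 (iv D12169) (iv F17793)
def n12186 : Q := act 1 n10015
theorem D12186 : act 1 n10015 = n12186 := rfl
theorem F21485 : act 3 n12186 = n10058 := d7_2 (iv F17796) D12186 (iv D10058)
def n12187 : Q := act 1 n10016
theorem D12187 : act 1 n10016 = n12187 := rfl
theorem F21486 : act 3 n12187 = n10059 := d7_2 (iv F17798) D12187 (iv D10059)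
theorem F21487 : act 4 n12187 = n12164 := d8_2 (iv F17799) D12187 (iv D12164)
def n12188 : Q := act 2 n10016
theorem D12188 : act 2 n10016 = n12188 := rfl
theorem F21488 : act 0 n12188 = n10017 := d1_1 D12188 (iv D10017) D10016
theorem F21489 : act 4 n12188 = n12165 := d12_2 (iv F17799) D12188 (iv D12165)
def n12189 : Q := act 6 n10016
theorem D12189 : act 6 n10016 = n12189 := rfl
theorem F21490 : act 0 n12189 = n10018 := d5_1 D12189 (iv D10018) D10016
theorem F21491 : act 3 n12189 = n10061 := d17_1 D12189 (iv D10061) (iv F17798)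
theorem F21492 : act 4 n12189 = n12160 := d19_1 D12189 F21450 (iv F17799)
theorem F21493 : act 5 n12189 = n12185 := d22_2 F21480 D12189 (iv D12185) D12183
def n12190 : Q := act 3 n10017
theorem D12190 : act 3 n10017 = n12190 := rfl
theorem F21494 : act 1 n12190 = n12190 := d7_1 D12190 (iv D12190) F17800
def n12191 : Q := act 6 n10017
theorem D12191 : act 6 n10017 = n12191 := rfl
theorem F21495 : act 2 n12191 = n10018 := d14_1 D12191 (iv D10018) D10017
theorem F21496 : act 4 n12191 = n12161 := d19_1 D12191 F21451 (iv F17801)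
def n12192 : Q := act 5 n10018
theorem D12192 : act 5 n10018 = n12192 := rfl
theorem F21497 : act 0 n12192 = n12185 := d4_1 D12192 (iv F21493) F21490
theorem F21498 : act 3 n12192 = n10064 := d16_1 D12192 (iv D10064) (iv F17803)
theorem F21499 : act 4 n12192 = n12162 := d18_1 D12192 (iv D12162) (iv F17804)
theorem F21500 : act 6 n12192 = n12183 := d20_2 D10018 D12192 F21480 D12189 F21493 (iv D12185) F17794
def n12193 : Q := act 5 n10019
theorem D12193 : act 5 n10019 = n12193 := rfl
theorem F21501 : act 0 n12193 = n10021 := d4_1 D12193 (iv D10021) D10019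
theorem F21502 : act 4 n12193 = n10169 := d18_1 D12193 (iv D10169) (iv F17805)
def n12194 : Q := act 6 n10019
theorem D12194 : act 6 n10019 = n12194 := rfl
theorem F21503 : act 0 n12194 = n10022 := d5_1 D12194 (iv D10022) D10019
theorem F21504 : act 4 n12194 = n10170 := d19_1 D12194 (iv D10170) (iv F17805)
def n12195 : Q := act 1 n10020
theorem D12195 : act 1 n10020 = n12195 := rfl
theorem F21505 : act 2 n12195 = n10023 := d6_2 D10020 D12195 (iv D10023) (iv D5174) D5173
theorem F21506 : act 4 n12195 = n10171 := d8_2 (iv F17806) D12195 (iv D10171)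
def n12196 : Q := act 3 n10020
theorem D12196 : act 3 n10020 = n12196 := rfl
def n12197 : Q := act 5 n10020
theorem D12197 : act 5 n10020 = n12197 := rfl
theorem F21507 : act 2 n12197 = n10021 := d13_1 D12197 (iv D10021) D10020
theorem F21508 : act 4 n12197 = n10173 := d18_1 D12197 (iv D10173) (iv F17806)
def n12198 : Q := act 6 n10020
theorem D12198 : act 6 n10020 = n12198 := rfl
theorem F21509 : act 2 n12198 = n10022 := d14_1 D12198 (iv D10022) D10020
theorem F21510 : act 4 n12198 = n10174 := d19_1 D12198 (iv D10174) (iv F17806)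
def n12199 : Q := act 6 n10021
theorem D12199 : act 6 n10021 = n12199 := rfl
theorem F21511 : act 4 n12199 = n10175 := d19_1 D12199 (iv D10175) (iv F17807)
theorem F21512 : act 5 n12199 = n12194 := d22_2 D10021 D12199 (iv D12194) (iv D10019)
def n12200 : Q := act 1 n10022
theorem D12200 : act 1 n10022 = n12200 := rfl
theorem F21513 : act 4 n12200 = n10176 := d8_2 (iv F17808) D12200 (iv D10176)
theorem F21514 : act 6 n12200 = n10026 := d10_2 D10022 D12200 (iv D10026) (iv D5175) D5173
def n12201 : Q := act 5 n10022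
theorem D12201 : act 5 n10022 = n12201 := rfl
theorem F21515 : act 0 n12201 = n12199 := d4_1 D12201 F21512 F21503
theorem F21516 : act 4 n12201 = n10177 := d18_1 D12201 (iv D10177) (iv F17808)
theorem F21517 : act 6 n12201 = n12193 := d20_2 D10022 D12201 (iv D12193) D12194 (iv F21512) (iv D12199) (iv D10021)
def n12202 : Q := act 0 n10023
theorem D12202 : act 0 n10023 = n12202 := rfl
theorem F21518 : act 1 n12202 = n12202 := d0_2 D10023 D12202 (iv D12202) (iv D10023) F7864 F3932 F14952 (iv F3932) (iv F7864)
theorem F21519 : act 4 n12202 = n10178 := d3_2 (iv F17809) D12202 (iv D10178)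
def n12203 : Q := act 3 n10023
theorem D12203 : act 3 n10023 = n12203 := rfl
theorem F21520 : act 1 n12203 = n10024 := d7_1 D12203 (iv D10024) D10023
def n12204 : Q := act 5 n10023
theorem D12204 : act 5 n10023 = n12204 := rfl
theorem F21521 : act 4 n12204 = n10180 := d18_1 D12204 (iv D10180) (iv F17809)
def n12205 : Q := act 6 n10023
theorem D12205 : act 6 n10023 = n12205 := rfl
theorem F21522 : act 4 n12205 = n10181 := d19_1 D12205 (iv D10181) (iv F17809)
def n12206 : Q := act 2 n10024
theorem D12206 : act 2 n10024 = n12206 := rfl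
theorem F21523 : act 0 n12206 = n10027 := d1_1 D12206 (iv D10027) (iv F17810)
theorem F21524 : act 3 n12206 = n12155 := d21_1 D12206 (iv D12155) (iv D10002) (iv D5166) F3921 D2497 D5176 (iv F17810)
def n12207 : Q := act 4 n10024
theorem D12207 : act 4 n10024 = n12207 := rfl
theorem F21525 : act 0 n12207 = n10028 := d3_1 D12207 (iv D10028) (iv F17810)
theorem F21526 : act 3 n12207 = n10183 := d15_1 D12207 (iv D10183) (iv D5530) (iv F7865) D10024
def n12208 : Q := act 6 n10024
theorem D12208 : act 6 n10024 = n12208 := rfl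
theorem F21527 : act 0 n12208 = n10029 := d5_1 D12208 (iv D10029) (iv F17810)
theorem F21528 : act 3 n12208 = n10025 := d17_1 D12208 (iv D10025) D10024
theorem F21529 : act 5 n12208 = n12117 := d22_2 F21378 D12208 (iv D12117) (iv F21377)
def n12209 : Q := act 1 n10025
theorem D12209 : act 1 n10025 = n12209 := rfl
theorem F21530 : act 4 n12209 = n10185 := d8_2 (iv F17813) D12209 (iv D10185)
def n12210 : Q := act 0 n10026
theorem D12210 : act 0 n10026 = n12210 := rfl
theorem F21531 : act 4 n12210 = n10186 := d3_2 (iv F17815) D12210 (iv D10186)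
def n12211 : Q := act 2 n10026
theorem D12211 : act 2 n10026 = n12211 := rfl
theorem F21532 : act 4 n12211 = n10187 := d12_2 (iv F17815) D12211 (iv D10187)
def n12212 : Q := act 5 n10026
theorem D12212 : act 5 n10026 = n12212 := rfl
theorem F21533 : act 1 n12212 = n12121 := d9_1 D12212 (iv D12121) (iv D9987) (iv F7868) D10026
theorem F21534 : act 4 n12212 = n10188 := d18_1 D12212 (iv D10188) (iv F17815)
def n12213 : Q := act 1 n10027
theorem D12213 : act 1 n10027 = n12213 := rfl
theorem F21535 : act 2 n12213 = n10065 := d6_2 D10027 D12213 (iv D10065) (iv D5201) (iv F7869)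
def n12214 : Q := act 3 n10027
theorem D12214 : act 3 n10027 = n12214 := rfl
theorem F21536 : act 0 n12214 = n12155 := d2_1 D12214 (iv F21524) F21523
theorem F21537 : act 2 n12214 = n12152 := d11_1 D12214 (iv D12152) (iv D10000) F7854 D5174 D10024 D12206 F21524 (iv D12155) (iv D10002) (iv D5166) F3921 D2497 D5176 D10027
theorem F21538 : act 2 n12196 = n10863 := d25_19 (iv F1853) (iv F3455) D4523 D9348 (iv F14058) (iv F20553) (iv D11597) (iv F17215) (iv F17881) (iv F21535) (iv D12213) D12214 F21537 (iv D12152) (iv D10000) D9999 F17769 D10020 D12196 F19289 (iv D8021) (iv D3837) F2985 D1851 F15029 F2997 F14815 D1805 D3744 (iv F14727) F14769 (iv D1918) (iv D942) (iv F1633) F14816 (iv D883) F871 F471 (iv F533) F532 D517 F988 D529 D1049 F14684 F1050 (iv D296) (iv D143) F139 D67 F142 F143 D149 D304 D596 F1107 F14710 (iv D582) (iv D295) F286 (iv F146) (iv D53) (iv F114) (iv F233) (iv F475) F15164 D464 F897 D476 D944 F14704 F2931 (iv D1049) (iv D529) (iv F988) F14709 F14702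
theorem E6992 : n12147 = n10853 := ((c21_7 D10020 D12196 F21538 (iv D10863) (iv D8011) (iv F11950) D10853 F21435 (iv D10019))).symm
theorem F21539 : act 0 n10853 = n9999 := (sb E6992 (iv D12147))
theorem F21540 : act 3 n10853 = n10019 := (sb E6992 F21435)
theorem E6993 : n12148 = n10852 := ((c21_9 (iv D12148) F17769 D10020 D12196 F21538 (iv D10863) (iv D8011) (iv F11950) D10852)).symm
theorem F21541 : act 2 n10852 = n9999 := (sb E6993 (iv D12148))
def n12215 : Q := act 4 n10027
theorem D12215 : act 4 n10027 = n12215 := rfl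
theorem F21542 : act 2 n12215 = n10028 := d12_1 D12215 (iv D10028) D10027
def n12216 : Q := act 6 n10027
theorem D12216 : act 6 n10027 = n12216 := rfl
theorem F21543 : act 2 n12216 = n10029 := d14_1 D12216 (iv D10029) D10027
def n12217 : Q := act 6 n10028
theorem D12217 : act 6 n10028 = n12217 := rfl
theorem F21544 : act 3 n12217 = n10192 := d17_1 D12217 (iv D10192) (iv F17817)
theorem F21545 : act 4 n12217 = n10029 := d19_1 D12217 (iv D10029) D10028
def n12218 : Q := act 1 n10029
theorem D12218 : act 1 n10029 = n12218 := rfl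
theorem F21546 : act 3 n12218 = n10030 := d7_2 (iv F17818) D12218 (iv D10030)
theorem F21547 : act 6 n12218 = n10065 := d10_2 D10029 D12218 (iv D10065) F17217 (iv F7869)
def n12219 : Q := act 5 n10029
theorem D12219 : act 5 n10029 = n12219 := rfl
theorem F21548 : act 0 n12219 = n12117 := d4_1 D12219 (iv F21529) F21527
theorem F21549 : act 3 n12219 = n10031 := d16_1 D12219 (iv D10031) (iv F17818)
theorem F21550 : act 6 n12219 = n12114 := d20_2 D10029 D12219 F21378 D12208 F21529 (iv D12117) F17744
def n12220 : Q := act 0 n10030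
theorem D12220 : act 0 n10030 = n12220 := rfl
theorem F21551 : act 4 n12220 = n10195 := d3_2 (iv F17819) D12220 (iv D10195)
theorem F21552 : act 6 n12220 = n10067 := d5_2 (iv F17820) D12220 (iv D10067)
def n12221 : Q := act 5 n10030
theorem D12221 : act 5 n10030 = n12221 := rfl
theorem F21553 : act 4 n12221 = n10197 := d18_1 D12221 (iv D10197) (iv F17819)
def n12222 : Q := act 1 n10031
theorem D12222 : act 1 n10031 = n12222 := rfl
theorem F21554 : act 4 n12222 = n10198 := d8_2 (iv F17823) D12222 (iv D10198)
def n12223 : Q := act 1 n10032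
theorem D12223 : act 1 n10032 = n12223 := rfl
theorem F21555 : act 4 n12223 = n10199 := d8_2 (iv F17825) D12223 (iv D10199)
def n12224 : Q := act 2 n10032
theorem D12224 : act 2 n10032 = n12224 := rfl
theorem F21556 : act 0 n12224 = n10033 := d1_1 D12224 (iv D10033) D10032
theorem F21557 : act 4 n12224 = n10200 := d12_2 (iv F17825) D12224 (iv D10200)
theorem F21558 : act 6 n12224 = n10037 := d14_2 (iv F17826) D12224 (iv D10037)
def n12225 : Q := act 3 n10033
theorem D12225 : act 3 n10033 = n12225 := rfl
theorem F21559 : act 6 n12225 = n10039 := d17_2 (iv F17828) D12225 (iv D10039)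
def n12226 : Q := act 5 n10033
theorem D12226 : act 5 n10033 = n12226 := rfl
theorem F21560 : act 2 n12226 = n10034 := d13_1 D12226 (iv D10034) D10033
theorem F21561 : act 4 n12226 = n10202 := d18_1 D12226 (iv D10202) (iv F17827)
def n12227 : Q := act 1 n10034
theorem D12227 : act 1 n10034 = n12227 := rfl
theorem F21562 : act 4 n12227 = n10203 := d8_2 (iv F17829) D12227 (iv D10203)
theorem F21563 : act 5 n12227 = n10035 := d9_2 D10034 D12227 (iv D10035) (iv D5179) D5178
def n12228 : Q := act 0 n10035
theorem D12228 : act 0 n10035 = n12228 := rfl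
theorem F21564 : act 4 n12228 = n10204 := d3_2 (iv F17830) D12228 (iv D10204)
def n12229 : Q := act 2 n10035
theorem D12229 : act 2 n10035 = n12229 := rfl
theorem F21565 : act 4 n12229 = n10205 := d12_2 (iv F17830) D12229 (iv D10205)
def n12230 : Q := act 6 n10035
theorem D12230 : act 6 n10035 = n12230 := rfl
theorem F21566 : act 1 n12230 = n12112 := d10_1 D12230 (iv D12112) (iv D9983) (iv F7876) D10035
theorem F21567 : act 4 n12230 = n10206 := d19_1 D12230 (iv D10206) (iv F17830)
def n12231 : Q := act 0 n10036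
theorem D12231 : act 0 n10036 = n12231 := rfl
theorem F21568 : act 4 n12231 = n10207 := d3_2 (iv F17831) D12231 (iv D10207)
def n12232 : Q := act 2 n10036
theorem D12232 : act 2 n10036 = n12232 := rfl
theorem F21569 : act 4 n12232 = n10208 := d12_2 (iv F17831) D12232 (iv D10208)
def n12233 : Q := act 5 n10036
theorem D12233 : act 5 n10036 = n12233 := rfl
theorem F21570 : act 4 n12233 = n10209 := d18_1 D12233 (iv D10209) (iv F17831)
def n12234 : Q := act 6 n10036
theorem D12234 : act 6 n10036 = n12234 := rfl
theorem F21571 : act 4 n12234 = n10210 := d19_1 D12234 (iv D10210) (iv F17831)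
def n12235 : Q := act 1 n10037
theorem D12235 : act 1 n10037 = n12235 := rfl
theorem F21572 : act 4 n12235 = n10211 := d8_2 (iv F17833) D12235 (iv D10211)
def n12236 : Q := act 3 n10037
theorem D12236 : act 3 n10037 = n12236 := rfl
theorem F21573 : act 0 n12236 = n10039 := d2_1 D12236 (iv D10039) (iv F17832)
def n12237 : Q := act 5 n10037
theorem D12237 : act 5 n10037 = n12237 := rfl
theorem F21574 : act 0 n12237 = n10040 := d4_1 D12237 (iv D10040) (iv F17832)
theorem F21575 : act 2 n12237 = n10038 := d13_1 D12237 (iv D10038) D10037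
theorem F21576 : act 4 n12237 = n10213 := d18_1 D12237 (iv D10213) (iv F17833)
theorem F21577 : act 6 n12237 = n12226 := d22_1 D12237 (iv D12226) F17828 (iv F17832)
def n12238 : Q := act 1 n10038
theorem D12238 : act 1 n10038 = n12238 := rfl
theorem F21578 : act 4 n12238 = n10214 := d8_2 (iv F17835) D12238 (iv D10214)
def n12239 : Q := act 2 n10039
theorem D12239 : act 2 n10039 = n12239 := rfl
def n12240 : Q := act 4 n10039
theorem D12240 : act 4 n10039 = n12240 := rfl
theorem F21579 : act 1 n12240 = n10074 := d8_1 D12240 (iv D10074) (iv F17837)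
theorem F21580 : act 3 n12240 = n10216 := d15_1 D12240 (iv D10216) (iv D5545) (iv F7879) D10039
def n12241 : Q := act 5 n10039
theorem D12241 : act 5 n10039 = n12241 := rfl
theorem F21581 : act 3 n12241 = n10040 := d16_1 D12241 (iv D10040) D10039
def n12242 : Q := act 6 n10040
theorem D12242 : act 6 n10040 = n12242 := rfl
theorem F21582 : act 0 n12242 = n12226 := d5_1 D12242 (iv F21577) F21574
theorem F21583 : act 2 n12242 = n10041 := d14_1 D12242 (iv D10041) (iv F17838)
theorem F21584 : act 4 n12242 = n10218 := d19_1 D12242 (iv D10218) (iv F17839)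
theorem F21585 : act 5 n12242 = n12224 := d20_1 D12242 F21558 D12237 F21577 (iv D12226) F17828 D10040
def n12243 : Q := act 1 n10041
theorem D12243 : act 1 n10041 = n12243 := rfl
theorem F21586 : act 4 n12243 = n10219 := d8_2 (iv F17841) D12243 (iv D10219)
theorem F21587 : act 6 n12243 = n11575 := d10_2 D10041 D12243 (iv D11575) (iv D9342) (iv F7880)
def n12244 : Q := act 2 n10042
theorem D12244 : act 2 n10042 = n12244 := rfl
theorem F21588 : act 0 n12244 = n10043 := d1_1 D12244 (iv D10043) D10042
theorem F21589 : act 4 n12244 = n10220 := d12_2 (iv F17843) D12244 (iv D10220)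
def n12245 : Q := act 5 n10042
theorem D12245 : act 5 n10042 = n12245 := rfl
theorem F21590 : act 0 n12245 = n10044 := d4_1 D12245 (iv D10044) D10042
theorem F21591 : act 4 n12245 = n10221 := d18_1 D12245 (iv D10221) (iv F17843)
def n12246 : Q := act 6 n10042
theorem D12246 : act 6 n10042 = n12246 := rfl
theorem F21592 : act 0 n12246 = n10045 := d5_1 D12246 (iv D10045) D10042
theorem F21593 : act 4 n12246 = n10222 := d19_1 D12246 (iv D10222) (iv F17843)
def n12247 : Q := act 1 n10043
theorem D12247 : act 1 n10043 = n12247 := rfl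
theorem F21594 : act 2 n12247 = n10046 := d6_2 D10043 D12247 (iv D10046) (iv D5184) D5183
theorem F21595 : act 4 n12247 = n10223 := d8_2 (iv F17844) D12247 (iv D10223)
def n12248 : Q := act 3 n10043
theorem D12248 : act 3 n10043 = n12248 := rfl
def n12249 : Q := act 5 n10043
theorem D12249 : act 5 n10043 = n12249 := rfl
theorem F21596 : act 2 n12249 = n10044 := d13_1 D12249 (iv D10044) D10043
theorem F21597 : act 4 n12249 = n10225 := d18_1 D12249 (iv D10225) (iv F17844)
def n12250 : Q := act 6 n10043
theorem D12250 : act 6 n10043 = n12250 := rfl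
theorem F21598 : act 2 n12250 = n10045 := d14_1 D12250 (iv D10045) D10043
theorem F21599 : act 4 n12250 = n10226 := d19_1 D12250 (iv D10226) (iv F17844)
def n12251 : Q := act 1 n10044
theorem D12251 : act 1 n10044 = n12251 := rfl
theorem F21600 : act 4 n12251 = n10227 := d8_2 (iv F17845) D12251 (iv D10227)
theorem F21601 : act 5 n12251 = n10049 := d9_2 D10044 D12251 (iv D10049) (iv D5185) D5183
def n12252 : Q := act 6 n10044
theorem D12252 : act 6 n10044 = n12252 := rfl
theorem F21602 : act 4 n12252 = n10228 := d19_1 D12252 (iv D10228) (iv F17845)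
theorem F21603 : act 5 n12252 = n12246 := d22_2 D10044 D12252 (iv D12246) (iv D10042)
def n12253 : Q := act 5 n10045
theorem D12253 : act 5 n10045 = n12253 := rfl
theorem F21604 : act 0 n12253 = n12252 := d4_1 D12253 F21603 F21592
theorem F21605 : act 4 n12253 = n10229 := d18_1 D12253 (iv D10229) (iv F17846)
theorem F21606 : act 6 n12253 = n12245 := d20_2 D10045 D12253 (iv D12245) D12246 (iv F21603) (iv D12252) (iv D10044)
def n12254 : Q := act 0 n10046
theorem D12254 : act 0 n10046 = n12254 := rfl
theorem F21607 : act 1 n12254 = n12254 := d0_2 D10046 D12254 (iv D12254) (iv D10046) F7883 F3937 F16863 (iv F3937) (iv F7883)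
theorem F21608 : act 4 n12254 = n10230 := d3_2 (iv F17847) D12254 (iv D10230)
def n12255 : Q := act 3 n10046
theorem D12255 : act 3 n10046 = n12255 := rfl
theorem F21609 : act 1 n12255 = n10047 := d7_1 D12255 (iv D10047) D10046
def n12256 : Q := act 5 n10046
theorem D12256 : act 5 n10046 = n12256 := rfl
theorem F21610 : act 4 n12256 = n10232 := d18_1 D12256 (iv D10232) (iv F17847)
def n12257 : Q := act 6 n10046
theorem D12257 : act 6 n10046 = n12257 := rfl
theorem F21611 : act 4 n12257 = n10233 := d19_1 D12257 (iv D10233) (iv F17847)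
def n12258 : Q := act 2 n10047
theorem D12258 : act 2 n10047 = n12258 := rfl
theorem F21612 : act 0 n12258 = n10050 := d1_1 D12258 (iv D10050) (iv F17848)
theorem F21613 : act 3 n12258 = n12178 := d21_1 D12258 (iv D12178) (iv D10012) (iv D5170) F3925 D2501 D5186 (iv F17848)
def n12259 : Q := act 4 n10047
theorem D12259 : act 4 n10047 = n12259 := rfl
theorem F21614 : act 0 n12259 = n10051 := d3_1 D12259 (iv D10051) (iv F17848)
theorem F21615 : act 3 n12259 = n10235 := d15_1 D12259 (iv D10235) (iv D5553) (iv F7884) D10047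
def n12260 : Q := act 5 n10047
theorem D12260 : act 5 n10047 = n12260 := rfl
theorem F21616 : act 0 n12260 = n10052 := d4_1 D12260 (iv D10052) (iv F17848)
theorem F21617 : act 3 n12260 = n10048 := d16_1 D12260 (iv D10048) D10047
theorem F21618 : act 6 n12260 = n12136 := d22_1 D12260 (iv D12136) F17759 (iv F17848)
def n12261 : Q := act 1 n10048
theorem D12261 : act 1 n10048 = n12261 := rfl
theorem F21619 : act 4 n12261 = n10237 := d8_2 (iv F17851) D12261 (iv D10237)
def n12262 : Q := act 0 n10049
theorem D12262 : act 0 n10049 = n12262 := rfl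
theorem F21620 : act 4 n12262 = n10238 := d3_2 (iv F17853) D12262 (iv D10238)
def n12263 : Q := act 2 n10049
theorem D12263 : act 2 n10049 = n12263 := rfl
theorem F21621 : act 4 n12263 = n10239 := d12_2 (iv F17853) D12263 (iv D10239)
def n12264 : Q := act 6 n10049
theorem D12264 : act 6 n10049 = n12264 := rfl
theorem F21622 : act 1 n12264 = n12140 := d10_1 D12264 (iv D12140) (iv D9995) (iv F7887) D10049
theorem F21623 : act 4 n12264 = n10240 := d19_1 D12264 (iv D10240) (iv F17853)
def n12265 : Q := act 1 n10050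
theorem D12265 : act 1 n10050 = n12265 := rfl
theorem F21624 : act 2 n12265 = n10075 := d6_2 D10050 D12265 (iv D10075) (iv D5222) (iv F7888)
def n12266 : Q := act 3 n10050
theorem D12266 : act 3 n10050 = n12266 := rfl
theorem F21625 : act 0 n12266 = n12178 := d2_1 D12266 (iv F21613) F21612
theorem F21626 : act 2 n12266 = n12175 := d11_1 D12266 (iv D12175) (iv D10010) F7858 D5184 D10047 D12258 F21613 (iv D12178) (iv D10012) (iv D5170) F3925 D2501 D5186 D10050
theorem F21627 : act 2 n12248 = n10873 := d25_19 (iv F1857) (iv F3460) D4529 D9362 (iv F14115) (iv F20567) (iv D11602) (iv F16866) (iv F17905) (iv F21624) (iv D12265) D12266 F21626 (iv D12175) (iv D10010) D10009 F17785 D10043 D12248 F19308 (iv D8031) (iv D3841) F2990 D1855 F15660 F3001 F16674 D1813 D3763 (iv F16514) F16570 (iv D1941) (iv D952) (iv F1636) F16675 (iv D885) F872 F472 (iv F535) F534 D519 F993 D533 D1057 F16447 F1057 (iv D301) (iv D146) F140 D70 F149 F150 D153 D307 D601 F1119 F16488 (iv D589) (iv D300) F288 F15710 (iv D55) (iv F115) (iv F234) (iv F476)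 F15396 D466 F900 D480 D954 F16474 F2939 (iv D1057) (iv D533) (iv F993) F16483 F16471
theorem E6994 : n12170 = n10857 := ((c21_7 D10043 D12248 F21627 (iv D10873) (iv D8015) (iv F11953) D10857 F21464 (iv D10042))).symm
theorem F21628 : act 0 n10857 = n10009 := (sb E6994 (iv D12170))
theorem F21629 : act 3 n10857 = n10042 := (sb E6994 F21464)
theorem E6995 : n12171 = n10856 := ((c21_9 (iv D12171) F17785 D10043 D12248 F21627 (iv D10873) (iv D8015) (iv F11953) D10856)).symm
theorem F21630 : act 2 n10856 = n10009 := (sb E6995 (iv D12171))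
def n12267 : Q := act 4 n10050
theorem D12267 : act 4 n10050 = n12267 := rfl
theorem F21631 : act 2 n12267 = n10051 := d12_1 D12267 (iv D10051) D10050
def n12268 : Q := act 5 n10050
theorem D12268 : act 5 n10050 = n12268 := rfl
theorem F21632 : act 2 n12268 = n10052 := d13_1 D12268 (iv D10052) D10050
def n12269 : Q := act 5 n10051
theorem D12269 : act 5 n10051 = n12269 := rfl
theorem F21633 : act 3 n12269 = n10244 := d16_1 D12269 (iv D10244) (iv F17855)
theorem F21634 : act 4 n12269 = n10052 := d18_1 D12269 (iv D10052) D10051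
def n12270 : Q := act 1 n10052
theorem D12270 : act 1 n10052 = n12270 := rfl
theorem F21635 : act 3 n12270 = n10053 := d7_2 (iv F17856) D12270 (iv D10053)
theorem F21636 : act 5 n12270 = n10075 := d9_2 D10052 D12270 (iv D10075) F16865 (iv F7888)
def n12271 : Q := act 6 n10052
theorem D12271 : act 6 n10052 = n12271 := rfl
theorem F21637 : act 0 n12271 = n12136 := d5_1 D12271 (iv F21618) F21616
theorem F21638 : act 3 n12271 = n10054 := d17_1 D12271 (iv D10054) (iv F17856)
theorem F21639 : act 5 n12271 = n12133 := d20_1 D12271 F21410 D12260 F21618 (iv D12136) F17759 D10052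
def n12272 : Q := act 0 n10053
theorem D12272 : act 0 n10053 = n12272 := rfl
theorem F21640 : act 4 n12272 = n10247 := d3_2 (iv F17857) D12272 (iv D10247)
theorem F21641 : act 5 n12272 = n10077 := d4_2 (iv F17858) D12272 (iv D10077)
def n12273 : Q := act 6 n10053
theorem D12273 : act 6 n10053 = n12273 := rfl
theorem F21642 : act 4 n12273 = n10249 := d19_1 D12273 (iv D10249) (iv F17857)
def n12274 : Q := act 1 n10054
theorem D12274 : act 1 n10054 = n12274 := rfl
theorem F21643 : act 4 n12274 = n10250 := d8_2 (iv F17861) D12274 (iv D10250)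
def n12275 : Q := act 1 n10055
theorem D12275 : act 1 n10055 = n12275 := rfl
theorem F21644 : act 4 n12275 = n10251 := d8_2 (iv F17863) D12275 (iv D10251)
def n12276 : Q := act 2 n10055
theorem D12276 : act 2 n10055 = n12276 := rfl
theorem F21645 : act 0 n12276 = n10056 := d1_1 D12276 (iv D10056) D10055
theorem F21646 : act 4 n12276 = n10252 := d12_2 (iv F17863) D12276 (iv D10252)
theorem F21647 : act 5 n12276 = n10060 := d13_2 (iv F17864) D12276 (iv D10060)
def n12277 : Q := act 3 n10056
theorem D12277 : act 3 n10056 = n12277 := rfl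
theorem F21648 : act 5 n12277 = n10062 := d16_2 (iv F17866) D12277 (iv D10062)
def n12278 : Q := act 6 n10056
theorem D12278 : act 6 n10056 = n12278 := rfl
theorem F21649 : act 2 n12278 = n10057 := d14_1 D12278 (iv D10057) D10056
theorem F21650 : act 4 n12278 = n10254 := d19_1 D12278 (iv D10254) (iv F17865)
def n12279 : Q := act 1 n10057
theorem D12279 : act 1 n10057 = n12279 := rfl
theorem F21651 : act 4 n12279 = n10255 := d8_2 (iv F17867) D12279 (iv D10255)
theorem F21652 : act 6 n12279 = n10058 := d10_2 D10057 D12279 (iv D10058) (iv D5189) D5188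
def n12280 : Q := act 0 n10058
theorem D12280 : act 0 n10058 = n12280 := rfl
theorem F21653 : act 4 n12280 = n10256 := d3_2 (iv F17868) D12280 (iv D10256)
def n12281 : Q := act 2 n10058
theorem D12281 : act 2 n10058 = n12281 := rfl
theorem F21654 : act 4 n12281 = n10257 := d12_2 (iv F17868) D12281 (iv D10257)
def n12282 : Q := act 5 n10058
theorem D12282 : act 5 n10058 = n12282 := rfl
theorem F21655 : act 1 n12282 = n12130 := d9_1 D12282 (iv D12130) (iv D9991) (iv F7895) D10058
theorem F21656 : act 4 n12282 = n10258 := d18_1 D12282 (iv D10258) (iv F17868)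
def n12283 : Q := act 0 n10059
theorem D12283 : act 0 n10059 = n12283 := rfl
theorem F21657 : act 1 n12283 = n12231 := d0_2 D10059 D12283 (iv D12231) (iv D10036) (iv D5180) (iv D2499) (iv F2059) D2503 D5190
theorem F21658 : act 4 n12283 = n10259 := d3_2 (iv F17869) D12283 (iv D10259)
def n12284 : Q := act 2 n10059
theorem D12284 : act 2 n10059 = n12284 := rfl
theorem F21659 : act 4 n12284 = n10260 := d12_2 (iv F17869) D12284 (iv D10260)
def n12285 : Q := act 5 n10059
theorem D12285 : act 5 n10059 = n12285 := rfl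
theorem F21660 : act 4 n12285 = n10261 := d18_1 D12285 (iv D10261) (iv F17869)
def n12286 : Q := act 6 n10059
theorem D12286 : act 6 n10059 = n12286 := rfl
theorem F21661 : act 4 n12286 = n10262 := d19_1 D12286 (iv D10262) (iv F17869)
def n12287 : Q := act 1 n10060
theorem D12287 : act 1 n10060 = n12287 := rfl
theorem F21662 : act 4 n12287 = n10263 := d8_2 (iv F17871) D12287 (iv D10263)
def n12288 : Q := act 3 n10060
theorem D12288 : act 3 n10060 = n12288 := rfl
theorem F21663 : act 0 n12288 = n10062 := d2_1 D12288 (iv D10062) (iv F17870)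
def n12289 : Q := act 6 n10060
theorem D12289 : act 6 n10060 = n12289 := rfl
theorem F21664 : act 0 n12289 = n10063 := d5_1 D12289 (iv D10063) (iv F17870)
theorem F21665 : act 2 n12289 = n10061 := d14_1 D12289 (iv D10061) D10060
theorem F21666 : act 4 n12289 = n10265 := d19_1 D12289 (iv D10265) (iv F17871)
theorem F21667 : act 5 n12289 = n12278 := d22_2 F21647 D12289 (iv D12278) (iv F21645)
def n12290 : Q := act 1 n10061
theorem D12290 : act 1 n10061 = n12290 := rfl
theorem F21668 : act 4 n12290 = n10266 := d8_2 (iv F17873) D12290 (iv D10266)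
def n12291 : Q := act 2 n10062
theorem D12291 : act 2 n10062 = n12291 := rfl
def n12292 : Q := act 4 n10062
theorem D12292 : act 4 n10062 = n12292 := rfl
theorem F21669 : act 1 n12292 = n10084 := d8_1 D12292 (iv D10084) (iv F17875)
theorem F21670 : act 3 n12292 = n10268 := d15_1 D12292 (iv D10268) (iv D5568) (iv F7898) D10062
def n12293 : Q := act 6 n10062
theorem D12293 : act 6 n10062 = n12293 := rfl
theorem F21671 : act 3 n12293 = n10063 := d17_1 D12293 (iv D10063) D10062
def n12294 : Q := act 5 n10063
theorem D12294 : act 5 n10063 = n12294 := rfl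
theorem F21672 : act 0 n12294 = n12278 := d4_1 D12294 (iv F21667) F21664
theorem F21673 : act 2 n12294 = n10064 := d13_1 D12294 (iv D10064) (iv F17876)
theorem F21674 : act 4 n12294 = n10270 := d18_1 D12294 (iv D10270) (iv F17877)
theorem F21675 : act 6 n12294 = n12276 := d20_2 D10063 D12294 F21647 D12289 F21667 (iv D12278) F17866
def n12295 : Q := act 1 n10064
theorem D12295 : act 1 n10064 = n12295 := rfl
theorem F21676 : act 4 n12295 = n10271 := d8_2 (iv F17879) D12295 (iv D10271)
theorem F21677 : act 5 n12295 = n11561 := d9_2 D10064 D12295 (iv D11561) (iv D9336) (iv F7899)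
def n12296 : Q := act 0 n10065
theorem D12296 : act 0 n10065 = n12296 := rfl
theorem F21678 : act 3 n12296 = n10067 := d2_2 (iv F17881) D12296 (iv D10067)
def n12297 : Q := act 4 n10065
theorem D12297 : act 4 n10065 = n12297 := rfl
theorem F21679 : act 1 n12297 = n10066 := d8_1 D12297 (iv D10066) D10065
theorem F21680 : act 3 n12297 = n10272 := d15_1 D12297 F18131 F8472 (iv F7922) (iv F17881)
def n12298 : Q := act 5 n10065
theorem D12298 : act 5 n10065 = n12298 := rfl
theorem F21681 : act 1 n12298 = n12298 := d9_1 D12298 (iv D12298) (iv D10065) F7918 D10065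
theorem F21682 : act 3 n12298 = n10068 := d16_1 D12298 (iv D10068) (iv F17881)
def n12299 : Q := act 1 n10067
theorem D12299 : act 1 n10067 = n12299 := rfl
theorem F21683 : act 4 n12299 = n10276 := d8_2 (iv F17887) D12299 (iv D10276)
def n12300 : Q := act 5 n10067
theorem D12300 : act 5 n10067 = n12300 := rfl
theorem F21684 : act 0 n12300 = n10068 := d4_1 D12300 (iv D10068) D10067
theorem F21685 : act 4 n12300 = n10278 := d18_1 D12300 (iv D10278) (iv F17887)
theorem F21686 : act 6 n12300 = n12221 := d22_1 D12300 (iv D12221) F17820 D10067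
def n12301 : Q := act 6 n10068
theorem D12301 : act 6 n10068 = n12301 := rfl
theorem F21687 : act 0 n12301 = n12221 := d5_1 D12301 (iv F21686) F21684
theorem F21688 : act 4 n12301 = n10281 := d19_1 D12301 (iv D10281) (iv F17889)
theorem F21689 : act 5 n12301 = n12220 := d20_1 D12301 F21552 D12300 F21686 (iv D12221) F17820 D10068
def n12302 : Q := act 2 n10069
theorem D12302 : act 2 n10069 = n12302 := rfl
theorem F21690 : act 0 n12302 = n10070 := d1_1 D12302 (iv D10070) D10069
theorem F21691 : act 4 n12302 = n10283 := d12_2 (iv F17891) D12302 (iv D10283)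
theorem F21692 : act 5 n12302 = n10070 := d13_2 (iv F17893) D12302 (iv D10070)
theorem F21693 : act 6 n12302 = n11303 := d14_2 (iv F17892) D12302 (iv D11303)
def n12303 : Q := act 1 n10070
theorem D12303 : act 1 n10070 = n12303 := rfl
theorem F21694 : act 2 n12303 = n10071 := d6_2 D10070 D12303 (iv D10071) (iv D5209) D5208
theorem F21695 : act 4 n12303 = n10284 := d8_2 (iv F17894) D12303 (iv D10284)
def n12304 : Q := act 3 n10070
theorem D12304 : act 3 n10070 = n12304 := rfl
theorem F21696 : act 6 n12304 = n11304 := d17_2 (iv F17895) D12304 (iv D11304)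
def n12305 : Q := act 0 n10071
theorem D12305 : act 0 n10071 = n12305 := rfl
theorem F21697 : act 4 n12305 = n10286 := d3_2 (iv F17896) D12305 (iv D10286)
def n12306 : Q := act 3 n10071
theorem D12306 : act 3 n10071 = n12306 := rfl
theorem F21698 : act 1 n12306 = n10072 := d7_1 D12306 (iv D10072) D10071
def n12307 : Q := act 5 n10071
theorem D12307 : act 5 n10071 = n12307 := rfl
theorem F21699 : act 4 n12307 = n10288 := d18_1 D12307 (iv D10288) (iv F17896)
def n12308 : Q := act 6 n10071
theorem D12308 : act 6 n10071 = n12308 := rfl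
theorem F21700 : act 1 n12308 = n11286 := d10_1 D12308 (iv D11286) F13377 (iv F17179) D10071
theorem F21701 : act 4 n12308 = n10289 := d19_1 D12308 (iv D10289) (iv F17896)
def n12309 : Q := act 4 n10072
theorem D12309 : act 4 n10072 = n12309 := rfl
theorem F21702 : act 0 n12309 = n10074 := d3_1 D12309 (iv D10074) (iv F17897)
theorem F21703 : act 2 n12309 = n11582 := d12_1 D12309 F20525 (iv F17899)
theorem F21704 : act 3 n12309 = n10290 := d15_1 D12309 (iv D10290) (iv D5605) (iv F7933) D10072
theorem F21705 : act 6 n12309 = n11302 := d19_2 (iv F17898) D12309 (iv D11302)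
def n12310 : Q := act 1 n10073
theorem D12310 : act 1 n10073 = n12310 := rfl
theorem F21706 : act 3 n12310 = n11581 := d7_2 (iv F17901) D12310 (iv D11581)
def n12311 : Q := act 4 n10073
theorem D12311 : act 4 n10073 = n12311 := rfl
theorem F21707 : act 0 n12311 = n11582 := d3_1 D12311 F20525 (iv F17900)
theorem F21708 : act 2 n12311 = n10074 := d12_1 D12311 (iv D10074) D10073
theorem F21709 : act 3 n12311 = n11734 := d15_1 D12311 F20759 F14353 (iv F13981) (iv F17901)
theorem F21710 : act 5 n12311 = n12309 := d18_2 (iv F17902) D12311 (iv D12309)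
theorem F21711 : act 6 n12311 = n11580 := d19_2 (iv F17903) D12311 (iv D11580)
def n12312 : Q := act 0 n10075
theorem D12312 : act 0 n10075 = n12312 := rfl
theorem F21712 : act 3 n12312 = n10077 := d2_2 (iv F17905) D12312 (iv D10077)
def n12313 : Q := act 4 n10075
theorem D12313 : act 4 n10075 = n12313 := rfl
theorem F21713 : act 1 n12313 = n10076 := d8_1 D12313 (iv D10076) D10075
theorem F21714 : act 3 n12313 = n10293 := d15_1 D12313 F18157 F8525 (iv F7965) (iv F17905)
def n12314 : Q := act 6 n10075
theorem D12314 : act 6 n10075 = n12314 := rfl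
theorem F21715 : act 1 n12314 = n12314 := d10_1 D12314 (iv D12314) (iv D10075) F7961 D10075
theorem F21716 : act 3 n12314 = n10078 := d17_1 D12314 (iv D10078) (iv F17905)
def n12315 : Q := act 1 n10077
theorem D12315 : act 1 n10077 = n12315 := rfl
theorem F21717 : act 4 n12315 = n10297 := d8_2 (iv F17911) D12315 (iv D10297)
def n12316 : Q := act 6 n10077
theorem D12316 : act 6 n10077 = n12316 := rfl
theorem F21718 : act 0 n12316 = n10078 := d5_1 D12316 (iv D10078) D10077
theorem F21719 : act 4 n12316 = n10299 := d19_1 D12316 (iv D10299) (iv F17911)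
theorem F21720 : act 5 n12316 = n12273 := d22_2 F21641 D12316 (iv D12273) D12272
def n12317 : Q := act 5 n10078
theorem D12317 : act 5 n10078 = n12317 := rfl
theorem F21721 : act 0 n12317 = n12273 := d4_1 D12317 (iv F21720) F21718
theorem F21722 : act 4 n12317 = n10302 := d18_1 D12317 (iv D10302) (iv F17913)
theorem F21723 : act 6 n12317 = n12272 := d20_2 D10078 D12317 F21641 D12316 F21720 (iv D12273) F17858
def n12318 : Q := act 2 n10079
theorem D12318 : act 2 n10079 = n12318 := rfl
theorem F21724 : act 0 n12318 = n10080 := d1_1 D12318 (iv D10080) D10079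
theorem F21725 : act 4 n12318 = n10304 := d12_2 (iv F17916) D12318 (iv D10304)
theorem F21726 : act 5 n12318 = n11306 := d13_2 (iv F17917) D12318 (iv D11306)
theorem F21727 : act 6 n12318 = n10080 := d14_2 (iv F17918) D12318 (iv D10080)
def n12319 : Q := act 1 n10080
theorem D12319 : act 1 n10080 = n12319 := rfl
theorem F21728 : act 2 n12319 = n10081 := d6_2 D10080 D12319 (iv D10081) (iv D5230) D5229
theorem F21729 : act 4 n12319 = n10305 := d8_2 (iv F17919) D12319 (iv D10305)
def n12320 : Q := act 3 n10080
theorem D12320 : act 3 n10080 = n12320 := rfl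
theorem F21730 : act 5 n12320 = n11307 := d16_2 (iv F17920) D12320 (iv D11307)
def n12321 : Q := act 0 n10081
theorem D12321 : act 0 n10081 = n12321 := rfl
theorem F21731 : act 4 n12321 = n10307 := d3_2 (iv F17921) D12321 (iv D10307)
def n12322 : Q := act 3 n10081
theorem D12322 : act 3 n10081 = n12322 := rfl
theorem F21732 : act 1 n12322 = n10082 := d7_1 D12322 (iv D10082) D10081
def n12323 : Q := act 5 n10081
theorem D12323 : act 5 n10081 = n12323 := rfl
theorem F21733 : act 1 n12323 = n11296 := d9_1 D12323 (iv D11296) F13382 (iv F16768) D10081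
theorem F21734 : act 4 n12323 = n10309 := d18_1 D12323 (iv D10309) (iv F17921)
def n12324 : Q := act 6 n10081
theorem D12324 : act 6 n10081 = n12324 := rfl
theorem F21735 : act 4 n12324 = n10310 := d19_1 D12324 (iv D10310) (iv F17921)
def n12325 : Q := act 4 n10082
theorem D12325 : act 4 n10082 = n12325 := rfl
theorem F21736 : act 0 n12325 = n10084 := d3_1 D12325 (iv D10084) (iv F17922)
theorem F21737 : act 2 n12325 = n11592 := d12_1 D12325 F20543 (iv F17924)
theorem F21738 : act 3 n12325 = n10311 := d15_1 D12325 (iv D10311) (iv D5648) (iv F7976) D10082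
theorem F21739 : act 5 n12325 = n11305 := d18_2 (iv F17923) D12325 (iv D11305)
def n12326 : Q := act 1 n10083
theorem D12326 : act 1 n10083 = n12326 := rfl
theorem F21740 : act 3 n12326 = n11591 := d7_2 (iv F17926) D12326 (iv D11591)
def n12327 : Q := act 4 n10083
theorem D12327 : act 4 n10083 = n12327 := rfl
theorem F21741 : act 0 n12327 = n11592 := d3_1 D12327 F20543 (iv F17925)
theorem F21742 : act 2 n12327 = n10084 := d12_1 D12327 (iv D10084) D10083
theorem F21743 : act 3 n12327 = n11763 := d15_1 D12327 F20792 F14388 (iv F14006) (iv F17926)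
theorem F21744 : act 5 n12327 = n11590 := d18_2 (iv F17927) D12327 (iv D11590)
theorem F21745 : act 6 n12327 = n12325 := d19_2 (iv F17928) D12327 (iv D12325)
def n12328 : Q := act 1 n10085
theorem D12328 : act 1 n10085 = n12328 := rfl
theorem F21746 : act 0 n12328 = n12328 := d0_1 D12328 (iv D12328) F17930 F17020 F13479 F6622 (iv F13479) (iv F17020) (iv F17930)
theorem F21747 : act 4 n12328 = n10089 := d8_2 (iv F17931) D12328 (iv D10089)
def n12329 : Q := act 3 n10085
theorem D12329 : act 3 n10085 = n12329 := rfl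
theorem F21748 : act 0 n12329 = n10086 := d2_1 D12329 (iv D10086) (iv F17930)
theorem F21749 : act 5 n12329 = n10086 := d16_2 (iv F17932) D12329 (iv D10086)
theorem F21750 : act 6 n12329 = n11308 := d17_2 (iv F17933) D12329 (iv D11308)
def n12330 : Q := act 2 n10086
theorem D12330 : act 2 n10086 = n12330 := rfl
theorem F21751 : act 6 n12330 = n11309 := d14_2 (iv F17934) D12330 (iv D11309)
def n12331 : Q := act 4 n10086
theorem D12331 : act 4 n10086 = n12331 := rfl
def n12332 : Q := act 1 n10087
theorem D12332 : act 1 n10087 = n12332 := rfl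
theorem F21754 : act 0 n12332 = n12332 := d0_1 D12332 (iv D12332) F17935 F17441 F13445 F6607 (iv F13445) (iv F17441) (iv F17935)
theorem F21755 : act 2 n12332 = n12328 := d6_2 D10087 D12332 (iv D12328) (iv D10085) (iv F8131)
theorem F21756 : act 4 n12332 = n10093 := d8_2 (iv F17936) D12332 (iv D10093)
theorem F21757 : act 5 n12332 = n12328 := d9_2 (iv F17937) D12332 (iv D12328) F17932 F17020
theorem F21758 : act 6 n12332 = n12328 := d10_2 (iv F17938) D12332 (iv D12328) F17933 (iv F17441)
def n12333 : Q := act 3 n10087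
theorem D12333 : act 3 n10087 = n12333 := rfl
theorem F21759 : act 0 n12333 = n10088 := d2_1 D12333 (iv D10088) (iv F17935)
theorem F21760 : act 5 n12333 = n11311 := d16_2 (iv F17937) D12333 (iv D11311)
theorem F21761 : act 6 n12333 = n10088 := d17_2 (iv F17938) D12333 (iv D10088)
def n12334 : Q := act 2 n10088
theorem D12334 : act 2 n10088 = n12334 := rfl
theorem F21762 : act 5 n12334 = n11312 := d13_2 (iv F17939) D12334 (iv D11312)
def n12335 : Q := act 4 n10088
theorem D12335 : act 4 n10088 = n12335 := rfl
theorem F21764 : act 5 n12335 = n11313 := d18_2 (iv F17939) D12335 (iv D11313)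
def n12336 : Q := act 3 n10089
theorem D12336 : act 3 n10089 = n12336 := rfl
def n12340 : Q := act 3 n10093
theorem D12340 : act 3 n10093 = n12340 := rfl
theorem F21776 : act 1 n12340 = n10094 := d7_1 D12340 (iv D10094) D10093
def n12344 : Q := act 2 n10097
theorem D12344 : act 2 n10097 = n12344 := rfl
theorem F21788 : act 0 n12344 = n10102 := d1_1 D12344 (iv D10102) (iv F17955)
theorem F21789 : act 3 n12344 = n11231 := d21_1 D12344 F19930 F16048 (iv D4621) F3522 D2651 D5496 (iv F17955)
def n12345 : Q := act 4 n10097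
theorem D12345 : act 4 n10097 = n12345 := rfl
theorem F21790 : act 0 n12345 = n10103 := d3_1 D12345 (iv D10103) (iv F17955)
theorem F21791 : act 1 n12345 = n10637 := d8_1 D12345 (iv F19855) F19854
theorem F21792 : act 3 n12345 = n10636 := d15_1 D12345 F21243 (iv D12033) F17675 D10097
def n12346 : Q := act 5 n10097
theorem D12346 : act 5 n10097 = n12346 := rfl
theorem F21793 : act 0 n12346 = n10104 := d4_1 D12346 (iv D10104) (iv F17955)
theorem F21794 : act 3 n12346 = n10098 := d16_1 D12346 (iv D10098) D10097
def n12347 : Q := act 6 n10097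
theorem D12347 : act 6 n10097 = n12347 := rfl
theorem F21795 : act 0 n12347 = n10105 := d5_1 D12347 (iv D10105) (iv F17955)
theorem F21796 : act 3 n12347 = n10099 := d17_1 D12347 (iv D10099) D10097
def n12348 : Q := act 1 n10098
theorem D12348 : act 1 n10098 = n12348 := rfl
def n12349 : Q := act 1 n10099
theorem D12349 : act 1 n10099 = n12349 := rfl
def n12350 : Q := act 0 n10100
theorem D12350 : act 0 n10100 = n12350 := rfl
def n12351 : Q := act 2 n10100
theorem D12351 : act 2 n10100 = n12351 := rfl
def n12352 : Q := act 6 n10100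
theorem D12352 : act 6 n10100 = n12352 := rfl
def n12353 : Q := act 0 n10101
theorem D12353 : act 0 n10101 = n12353 := rfl
def n12354 : Q := act 2 n10101
theorem D12354 : act 2 n10101 = n12354 := rfl
def n12355 : Q := act 5 n10101
theorem D12355 : act 5 n10101 = n12355 := rfl
def n12356 : Q := act 1 n10102
theorem D12356 : act 1 n10102 = n12356 := rfl
theorem F21797 : act 2 n12356 = n12356 := d6_2 D10102 D12356 (iv D12356) (iv D10102) F8375
def n12357 : Q := act 3 n10102
theorem D12357 : act 3 n10102 = n12357 := rfl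
theorem F21798 : act 0 n12357 = n11231 := d2_1 D12357 (iv F21789) F21788
theorem F21799 : act 2 n12357 = n11222 := d11_1 D12357 (iv D11222) F16050 F7042 D5493 D10097 D12344 F21789 F19930 F16048 (iv D4621) F3522 D2651 D5496 D10102
theorem F21800 : act 4 n11225 = n12357 := d12_0 F21799 F19918 D11225
def n12358 : Q := act 4 n10102
theorem D12358 : act 4 n10102 = n12358 := rfl
theorem F21801 : act 2 n12358 = n10103 := d12_1 D12358 (iv D10103) D10102
def n12359 : Q := act 5 n10102
theorem D12359 : act 5 n10102 = n12359 := rfl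
theorem F21802 : act 2 n12359 = n10104 := d13_1 D12359 (iv D10104) D10102
def n12360 : Q := act 6 n10102
theorem D12360 : act 6 n10102 = n12360 := rfl
theorem F21803 : act 2 n12360 = n10105 := d14_1 D12360 (iv D10105) D10102
def n12361 : Q := act 5 n10103
theorem D12361 : act 5 n10103 = n12361 := rfl
theorem F21804 : act 4 n12361 = n10104 := d18_1 D12361 (iv D10104) D10103
def n12362 : Q := act 6 n10103
theorem D12362 : act 6 n10103 = n12362 := rfl
theorem F21805 : act 4 n12362 = n10105 := d19_1 D12362 (iv D10105) D10103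
def n12363 : Q := act 1 n10104
theorem D12363 : act 1 n10104 = n12363 := rfl
theorem F21806 : act 3 n12363 = n10106 := d7_2 (iv F17961) D12363 (iv D10106)
theorem F21807 : act 5 n12363 = n12363 := d9_2 D10104 D12363 (iv D12363) (iv D10104) F8375
def n12364 : Q := act 6 n10104
theorem D12364 : act 6 n10104 = n12364 := rfl
theorem F21808 : act 3 n12364 = n10107 := d17_1 D12364 (iv D10107) (iv F17961)
theorem F21809 : act 5 n12364 = n12347 := d22_2 D10104 D12364 (iv D12347) F17955
def n12365 : Q := act 1 n10105
theorem D12365 : act 1 n10105 = n12365 := rfl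
theorem F21810 : act 3 n12365 = n10108 := d7_2 (iv F17962) D12365 (iv D10108)
theorem F21811 : act 6 n12365 = n12365 := d10_2 D10105 D12365 (iv D12365) (iv D10105) F8375
def n12366 : Q := act 5 n10105
theorem D12366 : act 5 n10105 = n12366 := rfl
theorem F21812 : act 0 n12366 = n12364 := d4_1 D12366 F21809 F21795
theorem F21813 : act 3 n12366 = n10109 := d16_1 D12366 (iv D10109) (iv F17962)
theorem F21814 : act 6 n12366 = n12346 := d20_2 D10105 D12366 (iv D12346) D12347 (iv F21809) (iv D12364) (iv D10104)
def n12367 : Q := act 0 n10106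
theorem D12367 : act 0 n10106 = n12367 := rfl
def n12368 : Q := act 2 n10106
theorem D12368 : act 2 n10106 = n12368 := rfl
theorem F21816 : act 1 n12368 = n10111 := d6_1 D12368 (iv D10111) (iv D5499) (iv F8376) D10106
theorem F21817 : act 5 n12368 = n12368 := d13_2 F17963 D12368 (iv D12368)
def n12369 : Q := act 6 n10106
theorem D12369 : act 6 n10106 = n12369 := rfl
def n12370 : Q := act 1 n10107
theorem D12370 : act 1 n10107 = n12370 := rfl
def n12371 : Q := act 0 n10108
theorem D12371 : act 0 n10108 = n12371 := rfl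
def n12372 : Q := act 2 n10108
theorem D12372 : act 2 n10108 = n12372 := rfl
theorem F21819 : act 1 n12372 = n10115 := d6_1 D12372 (iv D10115) (iv D5501) (iv F8377) D10108
theorem F21820 : act 6 n12372 = n12372 := d14_2 F17966 D12372 (iv D12372)
def n12373 : Q := act 5 n10108
theorem D12373 : act 5 n10108 = n12373 := rfl
def n12374 : Q := act 1 n10109
theorem D12374 : act 1 n10109 = n12374 := rfl
def n12375 : Q := act 1 n10110
theorem D12375 : act 1 n10110 = n12375 := rfl
theorem F21821 : act 3 n12375 = n11323 := d7_2 (iv F17970) D12375 F20110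
theorem F21822 : act 0 n11629 = n12375 := d2_3 F21821 F20109 (iv F20616)
theorem F21823 : act 5 n11627 = n12375 := d16_0 F21821 F20111 (iv F20614)
theorem F21824 : act 1 n12350 = n11665 := d0_8 (iv F20615) F21822 (iv D12375) (iv D10110) (iv D5499) (iv F8373) D10100 D12350 F20662
def n12376 : Q := act 2 n10110
theorem D12376 : act 2 n10110 = n12376 := rfl
theorem F21825 : act 0 n12376 = n10111 := d1_1 D12376 (iv D10111) D10110
theorem F21826 : act 5 n12376 = n10119 := d13_2 (iv F17971) D12376 (iv D10119)
theorem F21827 : act 1 n12376 = n10278 := d23_2 (iv F17971) D12376 F18137 (iv D5595) D5594 F8473 (iv F17117) F3358 (iv D1093) (iv D550) F556 (iv D164) D163 D327 D644 D1286 F2168 D2654 D5503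
theorem F21828 : act 0 n12368 = n12368 := d0_7 F21827 F18137 F16286 (iv F18137) (iv F21827) F21825 (iv F21816) F21816 (iv F21825)
theorem E6996 : n12367 = n10106 := (c1_4 D12368 F21828 (iv D12368) D12367)
theorem F21829 : act 0 n10106 = n10106 := (sb E6996 (iv D12367))
theorem F21830 : act 0 n12363 = n12363 := d2_3 F21806 F21829 (iv F21806)
theorem F21831 : act 0 n12041 = n12041 := d3_3 F21260 F21829 (iv F21260)
theorem F21832 : act 0 n12369 = n12369 := d5_3 (iv D12369) F21829 D12369
theorem F21833 : act 5 n12369 = n12369 := d22_2 F17963 D12369 (iv D12369) F21829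
def n12377 : Q := act 3 n10111
theorem D12377 : act 3 n10111 = n12377 := rfl
theorem F21834 : act 5 n12377 = n10121 := d16_2 (iv F17972) D12377 (iv D10121)
theorem F21835 : act 2 n12377 = n10121 := d21_2 D10111 D12377 (iv D10121) (iv D5504) (iv F7045) D9552 (iv F17970) (iv D10110)
def n12378 : Q := act 6 n10111
theorem D12378 : act 6 n10111 = n12378 := rfl
theorem F21836 : act 2 n12378 = n10112 := d14_1 D12378 (iv D10112) D10111
def n12379 : Q := act 1 n10112
theorem D12379 : act 1 n10112 = n12379 := rfl
theorem F21837 : act 6 n12379 = n10113 := d10_2 D10112 D12379 (iv D10113) (iv D5500) D5499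
def n12380 : Q := act 0 n10113
theorem D12380 : act 0 n10113 = n12380 := rfl
def n12381 : Q := act 2 n10113
theorem D12381 : act 2 n10113 = n12381 := rfl
def n12382 : Q := act 5 n10113
theorem D12382 : act 5 n10113 = n12382 := rfl
theorem F21838 : act 1 n12382 = n12355 := d9_1 D12382 (iv D12355) (iv D10101) (iv F8379) D10113
def n12383 : Q := act 1 n10114
theorem D12383 : act 1 n10114 = n12383 := rfl
def n12384 : Q := act 2 n10114
theorem D12384 : act 2 n10114 = n12384 := rfl
theorem F21839 : act 0 n12384 = n10115 := d1_1 D12384 (iv D10115) D10114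
theorem F21840 : act 6 n12384 = n10125 := d14_2 (iv F17973) D12384 (iv D10125)
def n12385 : Q := act 3 n10115
theorem D12385 : act 3 n10115 = n12385 := rfl
theorem F21841 : act 6 n12385 = n10127 := d17_2 (iv F17974) D12385 (iv D10127)
def n12386 : Q := act 5 n10115
theorem D12386 : act 5 n10115 = n12386 := rfl
theorem F21842 : act 2 n12386 = n10116 := d13_1 D12386 (iv D10116) D10115
def n12387 : Q := act 1 n10116
theorem D12387 : act 1 n10116 = n12387 := rfl
theorem F21843 : act 5 n12387 = n10117 := d9_2 D10116 D12387 (iv D10117) (iv D5502) D5501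
def n12388 : Q := act 0 n10117
theorem D12388 : act 0 n10117 = n12388 := rfl
def n12389 : Q := act 2 n10117
theorem D12389 : act 2 n10117 = n12389 := rfl
def n12390 : Q := act 6 n10117
theorem D12390 : act 6 n10117 = n12390 := rfl
theorem F21844 : act 1 n12390 = n12352 := d10_1 D12390 (iv D12352) (iv D10100) (iv F8382) D10117
def n12391 : Q := act 0 n10118
theorem D12391 : act 0 n10118 = n12391 := rfl
theorem F21845 : act 1 n12391 = n10130 := d0_2 D10118 D12391 (iv D10130) (iv D5509) (iv D2656) (iv D1288) (iv F2167) D2654 D5503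
theorem F21846 : act 5 n12391 = n11618 := d23_4 F21826 (iv D10119) D10118 D12391 F20595 (iv D11608) (iv F19919) (iv D11223) F16050 F7041 (iv D2650) D2652 (iv F8376) D10106 F21829 F17963 D12368 F21816 (iv F21825)
def n12392 : Q := act 2 n10118
theorem D12392 : act 2 n10118 = n12392 := rfl
def n12393 : Q := act 5 n10118
theorem D12393 : act 5 n10118 = n12393 := rfl
theorem F21847 : act 0 n12393 = n11618 := d4_1 D12393 (iv F21846) (iv D12391)
theorem F21848 : act 1 n12393 = n11627 := d9_1 D12393 F21823 (iv D12375) F17971 D10118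
theorem F21849 : act 3 n12393 = n12391 := d16_1 D12393 F21846 F20596
def n12394 : Q := act 6 n10118
theorem D12394 : act 6 n10118 = n12394 := rfl
def n12395 : Q := act 1 n10119
theorem D12395 : act 1 n10119 = n12395 := rfl
theorem F21850 : act 5 n12395 = n10276 := d9_2 F21826 D12395 (iv D10276) D10278 (iv F21827)
def n12396 : Q := act 3 n10119
theorem D12396 : act 3 n10119 = n12396 := rfl
theorem F21851 : act 0 n12396 = n10121 := d2_1 D12396 (iv D10121) (iv F17975)
def n12397 : Q := act 6 n10119
theorem D12397 : act 6 n10119 = n12397 := rfl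
theorem F21852 : act 0 n12397 = n10122 := d5_1 D12397 (iv D10122) (iv F17975)
theorem F21853 : act 2 n12397 = n10120 := d14_1 D12397 (iv D10120) D10119
theorem F21854 : act 5 n12397 = n12378 := d22_2 F21826 D12397 (iv D12378) (iv F21825)
def n12398 : Q := act 1 n10120
theorem D12398 : act 1 n10120 = n12398 := rfl
def n12399 : Q := act 4 n10121
theorem D12399 : act 4 n10121 = n12399 := rfl
theorem F21855 : act 1 n12399 = n12399 := d8_1 D12399 (iv D12399) F17978
def n12400 : Q := act 6 n10121
theorem D12400 : act 6 n10121 = n12400 := rfl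
theorem F21856 : act 3 n12400 = n10122 := d17_1 D12400 (iv D10122) D10121
def n12401 : Q := act 1 n10122
theorem D12401 : act 1 n10122 = n12401 := rfl
theorem F21857 : act 6 n12401 = n12401 := d10_2 D10122 D12401 (iv D12401) (iv D10122) F8383
def n12402 : Q := act 5 n10122
theorem D12402 : act 5 n10122 = n12402 := rfl
theorem F21858 : act 0 n12402 = n12378 := d4_1 D12402 (iv F21854) F21852
theorem F21859 : act 2 n12402 = n10123 := d13_1 D12402 (iv D10123) (iv F17979)
theorem F21860 : act 6 n12402 = n12376 := d20_2 D10122 D12402 F21826 D12397 F21854 (iv D12378) F17972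
def n12403 : Q := act 1 n10123
theorem D12403 : act 1 n10123 = n12403 := rfl
def n12404 : Q := act 0 n10124
theorem D12404 : act 0 n10124 = n12404 := rfl
theorem F21861 : act 1 n12404 = n10149 := d0_2 D10124 D12404 (iv D10149) (iv D5517) (iv D2660) (iv D1290) (iv F2169) D2655 D5506
def n12405 : Q := act 2 n10124
theorem D12405 : act 2 n10124 = n12405 := rfl
def n12406 : Q := act 5 n10124
theorem D12406 : act 5 n10124 = n12406 := rfl
def n12407 : Q := act 6 n10124
theorem D12407 : act 6 n10124 = n12407 := rfl
def n12408 : Q := act 1 n10125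
theorem D12408 : act 1 n10125 = n12408 := rfl
def n12409 : Q := act 3 n10125
theorem D12409 : act 3 n10125 = n12409 := rfl
theorem F21862 : act 0 n12409 = n10127 := d2_1 D12409 (iv D10127) (iv F17982)
def n12410 : Q := act 5 n10125
theorem D12410 : act 5 n10125 = n12410 := rfl
theorem F21863 : act 0 n12410 = n10128 := d4_1 D12410 (iv D10128) (iv F17982)
theorem F21864 : act 2 n12410 = n10126 := d13_1 D12410 (iv D10126) D10125
theorem F21865 : act 6 n12410 = n12386 := d22_1 D12410 (iv D12386) F17974 (iv F17982)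
def n12411 : Q := act 1 n10126
theorem D12411 : act 1 n10126 = n12411 := rfl
def n12412 : Q := act 2 n10127
theorem D12412 : act 2 n10127 = n12412 := rfl
def n12413 : Q := act 4 n10127
theorem D12413 : act 4 n10127 = n12413 := rfl
theorem F21866 : act 1 n12413 = n12413 := d8_1 D12413 (iv D12413) F17985
def n12414 : Q := act 5 n10127
theorem D12414 : act 5 n10127 = n12414 := rfl
theorem F21867 : act 3 n12414 = n10128 := d16_1 D12414 (iv D10128) D10127
def n12415 : Q := act 1 n10128
theorem D12415 : act 1 n10128 = n12415 := rfl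
theorem F21868 : act 5 n12415 = n12415 := d9_2 D10128 D12415 (iv D12415) (iv D10128) F8384
def n12416 : Q := act 6 n10128
theorem D12416 : act 6 n10128 = n12416 := rfl
theorem F21869 : act 0 n12416 = n12386 := d5_1 D12416 (iv F21865) F21863
theorem F21870 : act 2 n12416 = n10129 := d14_1 D12416 (iv D10129) (iv F17986)
theorem F21871 : act 5 n12416 = n12384 := d20_1 D12416 F21840 D12410 F21865 (iv D12386) F17974 D10128
def n12417 : Q := act 1 n10129
theorem D12417 : act 1 n10129 = n12417 := rfl
def n12418 : Q := act 6 n10130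
theorem D12418 : act 6 n10130 = n12418 := rfl
theorem F21872 : act 0 n12418 = n10133 := d5_1 D12418 (iv D10133) D10130
theorem F21873 : act 1 n11700 = n12418 := d24_14 (iv D12418) (iv F20111) F20110 D11620 F20604 (iv F14300) (iv D9572) (iv F14298) (iv D9569) (iv F7071) (iv D4642) D4640 D9590 D11700
def n12419 : Q := act 1 n10131
theorem D12419 : act 1 n10131 = n12419 := rfl
theorem F21874 : act 2 n12419 = n10134 := d6_2 D10131 D12419 (iv D10134) (iv D5510) D5509
def n12420 : Q := act 6 n10131
theorem D12420 : act 6 n10131 = n12420 := rfl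
theorem F21875 : act 2 n12420 = n10133 := d14_1 D12420 (iv D10133) D10131
theorem F21876 : act 5 n12420 = n11324 := d22_2 F20097 D12420 (iv D11324) D11322
def n12421 : Q := act 6 n10132
theorem D12421 : act 6 n10132 = n12421 := rfl
theorem F21877 : act 5 n12421 = n12418 := d22_2 D10132 D12421 (iv D12418) (iv D10130)
def n12422 : Q := act 5 n10133
theorem D12422 : act 5 n10133 = n12422 := rfl
theorem F21878 : act 0 n12422 = n12421 := d4_1 D12422 F21877 F21872
theorem F21879 : act 2 n12422 = n11324 := d13_1 D12422 (iv F21876) F21875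
theorem F21880 : act 6 n12422 = n11323 := d20_2 D10133 D12422 F20111 D12418 (iv F21877) (iv D12421) (iv D10132)
def n12423 : Q := act 0 n10134
theorem D12423 : act 0 n10134 = n12423 := rfl
def n12424 : Q := act 3 n10134
theorem D12424 : act 3 n10134 = n12424 := rfl
theorem F21881 : act 1 n12424 = n10135 := d7_1 D12424 (iv D10135) D10134
def n12425 : Q := act 5 n10134
theorem D12425 : act 5 n10134 = n12425 := rfl
theorem F21882 : act 1 n12425 = n10180 := d9_1 D12425 (iv D10180) (iv D5529) (iv F8386) D10134
def n12426 : Q := act 6 n10134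
theorem D12426 : act 6 n10134 = n12426 := rfl
def n12427 : Q := act 2 n10135
theorem D12427 : act 2 n10135 = n12427 := rfl
theorem F21883 : act 0 n12427 = n10136 := d1_1 D12427 (iv D10136) (iv F17990)
theorem F21884 : act 5 n12427 = n10182 := d13_2 (iv F17991) D12427 (iv D10182)
theorem F21885 : act 3 n12427 = n11633 := d21_1 D12427 (iv D11633) (iv D9559) (iv D4627) F3527 D2657 D5511 (iv F17990)
def n12428 : Q := act 4 n10135
theorem D12428 : act 4 n10135 = n12428 := rfl
theorem F21886 : act 0 n12428 = n10137 := d3_1 D12428 (iv D10137) (iv F17990)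
theorem F21887 : act 5 n12428 = n10183 := d18_2 (iv F17991) D12428 (iv D10183)
def n12429 : Q := act 1 n10136
theorem D12429 : act 1 n10136 = n12429 := rfl
theorem F21888 : act 2 n12429 = n12429 := d6_2 D10136 D12429 (iv D12429) (iv D10136) F8387
theorem F21889 : act 5 n12429 = n12429 := d9_2 (iv F17992) D12429 (iv D12429) F17992 F16287
def n12430 : Q := act 3 n10136
theorem D12430 : act 3 n10136 = n12430 := rfl
theorem F21890 : act 0 n12430 = n11633 := d2_1 D12430 (iv F21885) F21883
theorem F21891 : act 2 n12430 = n11632 := d11_1 D12430 (iv D11632) (iv D9558) F7047 D5510 D10135 D12427 F21885 (iv D11633) (iv D9559) (iv D4627) F3527 D2657 D5511 D10136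
theorem F21892 : act 5 n12430 = n10189 := d16_2 (iv F17992) D12430 (iv D10189)
def n12431 : Q := act 4 n10136
theorem D12431 : act 4 n10136 = n12431 := rfl
theorem F21893 : act 2 n12431 = n10137 := d12_1 D12431 (iv D10137) D10136
theorem F21894 : act 5 n12431 = n10190 := d18_2 (iv F17992) D12431 (iv D10190)
def n12432 : Q := act 6 n10136
theorem D12432 : act 6 n10136 = n12432 := rfl
theorem F21895 : act 2 n12432 = n10138 := d14_1 D12432 (iv D10138) D10136
def n12433 : Q := act 6 n10137
theorem D12433 : act 6 n10137 = n12433 := rfl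
theorem F21896 : act 4 n12433 = n10138 := d19_1 D12433 (iv D10138) D10137
def n12434 : Q := act 1 n10138
theorem D12434 : act 1 n10138 = n12434 := rfl
theorem F21897 : act 3 n12434 = n10139 := d7_2 (iv F17995) D12434 (iv D10139)
theorem F21898 : act 6 n12434 = n12434 := d10_2 D10138 D12434 (iv D12434) (iv D10138) F8387
def n12435 : Q := act 0 n10139
theorem D12435 : act 0 n10139 = n12435 := rfl
def n12436 : Q := act 2 n10139
theorem D12436 : act 2 n10139 = n12436 := rfl
theorem F21900 : act 1 n12436 = n10141 := d6_1 D12436 (iv D10141) (iv D5513) (iv F8389) D10139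
theorem F21901 : act 6 n12436 = n12436 := d14_2 F17996 D12436 (iv D12436)
def n12437 : Q := act 5 n10139
theorem D12437 : act 5 n10139 = n12437 := rfl
def n12438 : Q := act 1 n10140
theorem D12438 : act 1 n10140 = n12438 := rfl
def n12439 : Q := act 2 n10140
theorem D12439 : act 2 n10140 = n12439 := rfl
theorem F21902 : act 0 n12439 = n10141 := d1_1 D12439 (iv D10141) D10140
theorem F21903 : act 6 n12439 = n10144 := d14_2 (iv F17997) D12439 (iv D10144)
def n12440 : Q := act 3 n10141
theorem D12440 : act 3 n10141 = n12440 := rfl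
theorem F21904 : act 6 n12440 = n10146 := d17_2 (iv F17998) D12440 (iv D10146)
def n12441 : Q := act 5 n10141
theorem D12441 : act 5 n10141 = n12441 := rfl
theorem F21905 : act 2 n12441 = n10142 := d13_1 D12441 (iv D10142) D10141
def n12442 : Q := act 0 n10143
theorem D12442 : act 0 n10143 = n12442 := rfl
theorem F21906 : act 6 n11698 = n12442 := d22_3 F20728 (iv D11710) (iv F20713) (iv D12442)
def n12443 : Q := act 2 n10143
theorem D12443 : act 2 n10143 = n12443 := rfl
def n12444 : Q := act 6 n10143
theorem D12444 : act 6 n10143 = n12444 := rfl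
theorem F21907 : act 0 n12444 = n11698 := d5_1 D12444 F21906 (iv D12442)
theorem F21908 : act 5 n11708 = n12444 := d22_0 (iv D12444) F20728 (iv D11710) D11708
def n12445 : Q := act 1 n10144
theorem D12445 : act 1 n10144 = n12445 := rfl
def n12446 : Q := act 3 n10144
theorem D12446 : act 3 n10144 = n12446 := rfl
theorem F21909 : act 0 n12446 = n10146 := d2_1 D12446 (iv D10146) (iv F17999)
def n12447 : Q := act 5 n10144
theorem D12447 : act 5 n10144 = n12447 := rfl
theorem F21910 : act 0 n12447 = n10147 := d4_1 D12447 (iv D10147) (iv F17999)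
theorem F21911 : act 2 n12447 = n10145 := d13_1 D12447 (iv D10145) D10144
theorem F21912 : act 6 n12447 = n12441 := d22_1 D12447 (iv D12441) F17998 (iv F17999)
def n12448 : Q := act 2 n10146
theorem D12448 : act 2 n10146 = n12448 := rfl
def n12449 : Q := act 4 n10146
theorem D12449 : act 4 n10146 = n12449 := rfl
theorem F21913 : act 1 n12449 = n12449 := d8_1 D12449 (iv D12449) F18002
def n12450 : Q := act 5 n10146
theorem D12450 : act 5 n10146 = n12450 := rfl
theorem F21914 : act 3 n12450 = n10147 := d16_1 D12450 (iv D10147) D10146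
def n12451 : Q := act 1 n10147
theorem D12451 : act 1 n10147 = n12451 := rfl
theorem F21915 : act 2 n12451 = n12415 := d6_2 (iv F18003) D12451 (iv D12415) F17986 (iv F8392)
theorem F21916 : act 5 n12451 = n12451 := d9_2 D10147 D12451 (iv D12451) (iv D10147) F8391
def n12452 : Q := act 6 n10147
theorem D12452 : act 6 n10147 = n12452 := rfl
theorem F21917 : act 0 n12452 = n12441 := d5_1 D12452 (iv F21912) F21910
theorem F21918 : act 2 n12452 = n10148 := d14_1 D12452 (iv D10148) (iv F18003)
theorem F21919 : act 5 n12452 = n12439 := d20_1 D12452 F21903 D12447 F21912 (iv D12441) F17998 D10147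
def n12453 : Q := act 1 n10148
theorem D12453 : act 1 n10148 = n12453 := rfl
theorem F21920 : act 6 n12453 = n12417 := d10_2 D10148 D12453 (iv D12417) (iv D10129) (iv F8392)
def n12454 : Q := act 2 n10149
theorem D12454 : act 2 n10149 = n12454 := rfl
theorem F21921 : act 0 n12454 = n10150 := d1_1 D12454 (iv D10150) D10149
def n12455 : Q := act 5 n10149
theorem D12455 : act 5 n10149 = n12455 := rfl
theorem F21922 : act 0 n12455 = n10151 := d4_1 D12455 (iv D10151) D10149
def n12456 : Q := act 6 n10149
theorem D12456 : act 6 n10149 = n12456 := rfl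
theorem F21923 : act 0 n12456 = n10152 := d5_1 D12456 (iv D10152) D10149
def n12457 : Q := act 1 n10150
theorem D12457 : act 1 n10150 = n12457 := rfl
theorem F21924 : act 2 n12457 = n10153 := d6_2 D10150 D12457 (iv D10153) (iv D5518) D5517
def n12458 : Q := act 3 n10150
theorem D12458 : act 3 n10150 = n12458 := rfl
def n12459 : Q := act 5 n10150
theorem D12459 : act 5 n10150 = n12459 := rfl
theorem F21925 : act 2 n12459 = n10151 := d13_1 D12459 (iv D10151) D10150
def n12460 : Q := act 6 n10150
theorem D12460 : act 6 n10150 = n12460 := rfl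
theorem F21926 : act 2 n12460 = n10152 := d14_1 D12460 (iv D10152) D10150
def n12461 : Q := act 6 n10151
theorem D12461 : act 6 n10151 = n12461 := rfl
theorem F21927 : act 5 n12461 = n12456 := d22_2 D10151 D12461 (iv D12456) (iv D10149)
def n12462 : Q := act 5 n10152
theorem D12462 : act 5 n10152 = n12462 := rfl
theorem F21928 : act 0 n12462 = n12461 := d4_1 D12462 F21927 F21923
theorem F21929 : act 6 n12462 = n12455 := d20_2 D10152 D12462 (iv D12455) D12456 (iv F21927) (iv D12461) (iv D10151)
def n12463 : Q := act 0 n10153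
theorem D12463 : act 0 n10153 = n12463 := rfl
def n12464 : Q := act 3 n10153
theorem D12464 : act 3 n10153 = n12464 := rfl
theorem F21930 : act 1 n12464 = n10154 := d7_1 D12464 (iv D10154) D10153
def n12465 : Q := act 5 n10153
theorem D12465 : act 5 n10153 = n12465 := rfl
def n12466 : Q := act 6 n10153
theorem D12466 : act 6 n10153 = n12466 := rfl
theorem F21931 : act 1 n12466 = n10233 := d10_1 D12466 (iv D10233) (iv D5552) (iv F8394) D10153
def n12467 : Q := act 2 n10154
theorem D12467 : act 2 n10154 = n12467 := rfl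
theorem F21932 : act 0 n12467 = n10155 := d1_1 D12467 (iv D10155) (iv F18007)
theorem F21933 : act 6 n12467 = n10234 := d14_2 (iv F18008) D12467 (iv D10234)
theorem F21934 : act 3 n12467 = n11652 := d21_1 D12467 (iv D11652) (iv D9567) (iv D4631) F3531 D2661 D5519 (iv F18007)
def n12468 : Q := act 4 n10154
theorem D12468 : act 4 n10154 = n12468 := rfl
theorem F21935 : act 0 n12468 = n10156 := d3_1 D12468 (iv D10156) (iv F18007)
theorem F21936 : act 6 n12468 = n10235 := d19_2 (iv F18008) D12468 (iv D10235)
def n12469 : Q := act 1 n10155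
theorem D12469 : act 1 n10155 = n12469 := rfl
theorem F21937 : act 2 n12469 = n12469 := d6_2 D10155 D12469 (iv D12469) (iv D10155) F8395
theorem F21938 : act 6 n12469 = n12469 := d10_2 (iv F18009) D12469 (iv D12469) F18009 F17457
def n12470 : Q := act 3 n10155
theorem D12470 : act 3 n10155 = n12470 := rfl
theorem F21939 : act 0 n12470 = n11652 := d2_1 D12470 (iv F21934) F21932
theorem F21940 : act 2 n12470 = n11651 := d11_1 D12470 (iv D11651) (iv D9566) F7052 D5518 D10154 D12467 F21934 (iv D11652) (iv D9567) (iv D4631) F3531 D2661 D5519 D10155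
theorem F21941 : act 6 n12470 = n10241 := d17_2 (iv F18009) D12470 (iv D10241)
def n12471 : Q := act 4 n10155
theorem D12471 : act 4 n10155 = n12471 := rfl
theorem F21942 : act 2 n12471 = n10156 := d12_1 D12471 (iv D10156) D10155
theorem F21943 : act 6 n12471 = n10242 := d19_2 (iv F18009) D12471 (iv D10242)
def n12472 : Q := act 5 n10155
theorem D12472 : act 5 n10155 = n12472 := rfl
theorem F21944 : act 2 n12472 = n10157 := d13_1 D12472 (iv D10157) D10155
def n12473 : Q := act 5 n10156
theorem D12473 : act 5 n10156 = n12473 := rfl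
theorem F21945 : act 4 n12473 = n10157 := d18_1 D12473 (iv D10157) D10156
def n12474 : Q := act 1 n10157
theorem D12474 : act 1 n10157 = n12474 := rfl
theorem F21946 : act 3 n12474 = n10158 := d7_2 (iv F18012) D12474 (iv D10158)
theorem F21947 : act 5 n12474 = n12474 := d9_2 D10157 D12474 (iv D12474) (iv D10157) F8395
def n12475 : Q := act 0 n10158
theorem D12475 : act 0 n10158 = n12475 := rfl
theorem F21948 : act 5 n12475 = n12475 := d4_2 F18013 D12475 (iv D12475)
def n12476 : Q := act 2 n10158
theorem D12476 : act 2 n10158 = n12476 := rfl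
theorem F21949 : act 1 n12476 = n10160 := d6_1 D12476 (iv D10160) (iv D5521) (iv F8397) D10158
theorem F21950 : act 5 n12476 = n12476 := d13_2 F18013 D12476 (iv D12476)
def n12477 : Q := act 6 n10158
theorem D12477 : act 6 n10158 = n12477 := rfl
def n12478 : Q := act 1 n10159
theorem D12478 : act 1 n10159 = n12478 := rfl
def n12479 : Q := act 2 n10159
theorem D12479 : act 2 n10159 = n12479 := rfl
theorem F21951 : act 0 n12479 = n10160 := d1_1 D12479 (iv D10160) D10159
theorem F21952 : act 5 n12479 = n10163 := d13_2 (iv F18014) D12479 (iv D10163)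
def n12480 : Q := act 3 n10160
theorem D12480 : act 3 n10160 = n12480 := rfl
theorem F21953 : act 5 n12480 = n10165 := d16_2 (iv F18015) D12480 (iv D10165)
def n12481 : Q := act 6 n10160
theorem D12481 : act 6 n10160 = n12481 := rfl
theorem F21954 : act 2 n12481 = n10161 := d14_1 D12481 (iv D10161) D10160
def n12482 : Q := act 0 n10162
theorem D12482 : act 0 n10162 = n12482 := rfl
theorem F21955 : act 1 n12482 = n12442 := d0_2 D10162 D12482 (iv D12442) (iv D10143) (iv D5514) (iv D2659) (iv F2175) D2663 D5522
theorem F21956 : act 5 n12482 = n11668 := d22_0 F20671 D11678 (iv F20690) D12482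
def n12483 : Q := act 2 n10162
theorem D12483 : act 2 n10162 = n12483 := rfl
def n12484 : Q := act 5 n10162
theorem D12484 : act 5 n10162 = n12484 := rfl
theorem F21957 : act 0 n12484 = n11668 := d4_1 D12484 (iv F21956) (iv D12482)
theorem F21958 : act 6 n12484 = n11676 := d22_3 D11678 (iv F20690) D12484 (iv D11676)
def n12485 : Q := act 1 n10163
theorem D12485 : act 1 n10163 = n12485 := rfl
def n12486 : Q := act 3 n10163
theorem D12486 : act 3 n10163 = n12486 := rfl
theorem F21959 : act 0 n12486 = n10165 := d2_1 D12486 (iv D10165) (iv F18016)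
def n12487 : Q := act 6 n10163
theorem D12487 : act 6 n10163 = n12487 := rfl
theorem F21960 : act 0 n12487 = n10166 := d5_1 D12487 (iv D10166) (iv F18016)
theorem F21961 : act 2 n12487 = n10164 := d14_1 D12487 (iv D10164) D10163
theorem F21962 : act 5 n12487 = n12481 := d22_2 F21952 D12487 (iv D12481) (iv F21951)
def n12488 : Q := act 2 n10165
theorem D12488 : act 2 n10165 = n12488 := rfl
def n12489 : Q := act 4 n10165
theorem D12489 : act 4 n10165 = n12489 := rfl
theorem F21963 : act 1 n12489 = n12489 := d8_1 D12489 (iv D12489) F18019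
def n12490 : Q := act 6 n10165
theorem D12490 : act 6 n10165 = n12490 := rfl
theorem F21964 : act 3 n12490 = n10166 := d17_1 D12490 (iv D10166) D10165
def n12491 : Q := act 1 n10166
theorem D12491 : act 1 n10166 = n12491 := rfl
theorem F21965 : act 2 n12491 = n12401 := d6_2 (iv F18020) D12491 (iv D12401) F17979 (iv F8400)
theorem F21966 : act 6 n12491 = n12491 := d10_2 D10166 D12491 (iv D12491) (iv D10166) F8399
def n12492 : Q := act 5 n10166
theorem D12492 : act 5 n10166 = n12492 := rfl
theorem F21967 : act 0 n12492 = n12481 := d4_1 D12492 (iv F21962) F21960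
theorem F21968 : act 2 n12492 = n10167 := d13_1 D12492 (iv D10167) (iv F18020)
theorem F21969 : act 6 n12492 = n12479 := d20_2 D10166 D12492 F21952 D12487 F21962 (iv D12481) F18015
def n12493 : Q := act 1 n10167
theorem D12493 : act 1 n10167 = n12493 := rfl
theorem F21970 : act 5 n12493 = n12403 := d9_2 D10167 D12493 (iv D12403) (iv D10123) (iv F8400)
def n12494 : Q := act 1 n10169
theorem D12494 : act 1 n10169 = n12494 := rfl
theorem F21971 : act 0 n12494 = n11606 := d0_1 D12494 (iv D11606) F14263 D9547 (iv F16330) (iv F20110) F20109 F17989 (iv F18024)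
theorem F21972 : act 3 n12494 = n12350 := d7_2 F20664 D12494 F21824
theorem F21973 : act 5 n12494 = n12350 := d9_2 D10169 D12494 F21824 (iv D11665) F14302
def n12495 : Q := act 1 n10170
theorem D12495 : act 1 n10170 = n12495 := rfl
def n12496 : Q := act 3 n10171
theorem D12496 : act 3 n10171 = n12496 := rfl
theorem F21974 : act 1 n12496 = n10172 := d7_1 D12496 (iv D10172) D10171
def n12497 : Q := act 5 n10171
theorem D12497 : act 5 n10171 = n12497 := rfl
theorem F21975 : act 2 n12497 = n10180 := d13_1 D12497 (iv D10180) (iv F18026)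
def n12498 : Q := act 6 n10171
theorem D12498 : act 6 n10171 = n12498 := rfl
theorem F21976 : act 2 n12498 = n10181 := d14_1 D12498 (iv D10181) (iv F18026)
def n12499 : Q := act 4 n10172
theorem D12499 : act 4 n10172 = n12499 := rfl
theorem F21977 : act 2 n12499 = n12499 := d12_1 D12499 (iv D12499) F20108
def n12500 : Q := act 5 n10172
theorem D12500 : act 5 n10172 = n12500 := rfl
theorem F21979 : act 3 n12500 = n10173 := d16_1 D12500 (iv D10173) D10172
def n12501 : Q := act 6 n10172
theorem D12501 : act 6 n10172 = n12501 := rfl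
theorem F21980 : act 2 n12501 = n12501 := d14_1 D12501 (iv D12501) F20108
theorem F21981 : act 3 n12501 = n10174 := d17_1 D12501 (iv D10174) D10172
def n12502 : Q := act 1 n10173
theorem D12502 : act 1 n10173 = n12502 := rfl
def n12503 : Q := act 6 n10173
theorem D12503 : act 6 n10173 = n12503 := rfl
theorem F21982 : act 2 n12503 = n10175 := d14_1 D12503 (iv D10175) (iv F18027)
theorem F21983 : act 5 n12503 = n11672 := d22_2 D10173 D12503 (iv D11672) F20105
def n12504 : Q := act 1 n10174
theorem D12504 : act 1 n10174 = n12504 := rfl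
def n12505 : Q := act 5 n10174
theorem D12505 : act 5 n10174 = n12505 := rfl
theorem F21984 : act 0 n12505 = n12503 := d4_1 D12505 F21983 F20681
theorem F21985 : act 2 n12505 = n10177 := d13_1 D12505 (iv D10177) (iv F18028)
theorem F21986 : act 6 n12505 = n11671 := d20_2 D10174 D12505 (iv D11671) D11672 (iv F21983) (iv D12503) (iv D10173)
def n12506 : Q := act 1 n10175
theorem D12506 : act 1 n10175 = n12506 := rfl
def n12507 : Q := act 0 n10176
theorem D12507 : act 0 n10176 = n12507 := rfl
theorem F21987 : act 3 n12507 = n12484 := d2_2 F20670 D12507 F21957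
theorem F21988 : act 6 n12507 = n10186 := d5_2 (iv F18030) D12507 (iv D10186)
theorem F21989 : act 5 n12507 = n11659 := d22_0 (iv F20657) (iv D10188) (iv F18030) D12507
def n12508 : Q := act 2 n10176
theorem D12508 : act 2 n10176 = n12508 := rfl
theorem F21990 : act 6 n12508 = n10187 := d14_2 (iv F18030) D12508 (iv D10187)
def n12509 : Q := act 5 n10176
theorem D12509 : act 5 n10176 = n12509 := rfl
theorem F21991 : act 0 n12509 = n11659 := d4_1 D12509 (iv F21989) (iv D12507)
theorem F21992 : act 3 n12509 = n12482 := d16_1 D12509 F21956 F20670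
def n12510 : Q := act 1 n10177
theorem D12510 : act 1 n10177 = n12510 := rfl
def n12511 : Q := act 3 n10178
theorem D12511 : act 3 n10178 = n12511 := rfl
theorem F21993 : act 0 n12511 = n10179 := d2_1 D12511 (iv D10179) D10178
theorem F21994 : act 1 n12511 = n12511 := d7_1 D12511 (iv D12511) F18033
def n12512 : Q := act 5 n10178
theorem D12512 : act 5 n10178 = n12512 := rfl
theorem F21995 : act 0 n12512 = n10180 := d4_1 D12512 (iv D10180) D10178
def n12513 : Q := act 6 n10178
theorem D12513 : act 6 n10178 = n12513 := rfl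
theorem F21996 : act 0 n12513 = n10181 := d5_1 D12513 (iv D10181) D10178
def n12514 : Q := act 2 n10179
theorem D12514 : act 2 n10179 = n12514 := rfl
def n12515 : Q := act 4 n10179
theorem D12515 : act 4 n10179 = n12515 := rfl
theorem F21997 : act 1 n12515 = n10183 := d8_1 D12515 (iv D10183) (iv F18034)
def n12516 : Q := act 5 n10179
theorem D12516 : act 5 n10179 = n12516 := rfl
theorem F21998 : act 3 n12516 = n10180 := d16_1 D12516 (iv D10180) D10179
def n12517 : Q := act 6 n10179
theorem D12517 : act 6 n10179 = n12517 := rfl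
theorem F21999 : act 3 n12517 = n10181 := d17_1 D12517 (iv D10181) D10179
def n12518 : Q := act 6 n10180
theorem D12518 : act 6 n10180 = n12518 := rfl
theorem F22000 : act 5 n12518 = n12513 := d22_2 D10180 D12518 (iv D12513) (iv D10178)
def n12519 : Q := act 1 n10181
theorem D12519 : act 1 n10181 = n12519 := rfl
theorem F22001 : act 6 n12519 = n10185 := d10_2 D10181 D12519 (iv D10185) (iv D5531) D5529
def n12520 : Q := act 5 n10181
theorem D12520 : act 5 n10181 = n12520 := rfl
theorem F22002 : act 0 n12520 = n12518 := d4_1 D12520 F22000 F21996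
theorem F22003 : act 6 n12520 = n12512 := d20_2 D10181 D12520 (iv D12512) D12513 (iv F22000) (iv D12518) (iv D10180)
def n12521 : Q := act 1 n10182
theorem D12521 : act 1 n10182 = n12521 := rfl
theorem F22004 : act 3 n12521 = n11679 := d7_2 (iv F18036) D12521 (iv D11679)
def n12522 : Q := act 4 n10182
theorem D12522 : act 4 n10182 = n12522 := rfl
theorem F22005 : act 0 n12522 = n10190 := d3_1 D12522 (iv D10190) (iv F18035)
theorem F22006 : act 2 n12522 = n10183 := d12_1 D12522 (iv D10183) D10182
def n12523 : Q := act 6 n10182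
theorem D12523 : act 6 n10182 = n12523 := rfl
theorem F22007 : act 0 n12523 = n10191 := d5_1 D12523 (iv D10191) (iv F18035)
theorem F22008 : act 2 n12523 = n10184 := d14_1 D12523 (iv D10184) D10182
theorem F22009 : act 3 n12523 = n11681 := d17_1 D12523 (iv D11681) (iv F18036)
theorem F22010 : act 5 n12523 = n12432 := d22_2 F21884 D12523 (iv D12432) (iv F21883)
def n12524 : Q := act 6 n10183
theorem D12524 : act 6 n10183 = n12524 := rfl
theorem F22011 : act 0 n12524 = n10192 := d5_1 D12524 (iv D10192) (iv F18037)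
theorem F22012 : act 4 n12524 = n10184 := d19_1 D12524 (iv D10184) D10183
theorem F22013 : act 5 n12524 = n12433 := d22_2 F21887 D12524 (iv D12433) (iv F21886)
def n12525 : Q := act 1 n10184
theorem D12525 : act 1 n10184 = n12525 := rfl
theorem F22014 : act 3 n12525 = n10185 := d7_2 (iv F18039) D12525 (iv D10185)
def n12526 : Q := act 0 n10185
theorem D12526 : act 0 n10185 = n12526 := rfl
def n12527 : Q := act 2 n10185
theorem D12527 : act 2 n10185 = n12527 := rfl
theorem F22015 : act 1 n12527 = n10187 := d6_1 D12527 (iv D10187) (iv D5532) (iv F8403) D10185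
def n12528 : Q := act 5 n10185
theorem D12528 : act 5 n10185 = n12528 := rfl
theorem F22016 : act 1 n12528 = n12437 := d9_1 D12528 (iv D12437) (iv D10139) (iv F8404) D10185
def n12529 : Q := act 1 n10186
theorem D12529 : act 1 n10186 = n12529 := rfl
def n12530 : Q := act 2 n10186
theorem D12530 : act 2 n10186 = n12530 := rfl
theorem F22017 : act 0 n12530 = n10187 := d1_1 D12530 (iv D10187) D10186
def n12531 : Q := act 5 n10186
theorem D12531 : act 5 n10186 = n12531 := rfl
theorem F22018 : act 0 n12531 = n10188 := d4_1 D12531 (iv D10188) D10186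
theorem F22019 : act 6 n12531 = n12509 := d20_2 F21988 D12531 (iv D12509) F18030 D10188 F20657 (iv F21989)
theorem F22020 : act 1 n10228 = n12531 := d24_14 F22019 (iv D12509) (iv D10176) (iv D5528) D5527 (iv F17989) D12421 F21877 (iv F21873) F20718 (iv D11692) F14318 D10222 (iv F18080)
def n12532 : Q := act 3 n10187
theorem D12532 : act 3 n10187 = n12532 := rfl
def n12533 : Q := act 5 n10187
theorem D12533 : act 5 n10187 = n12533 := rfl
theorem F22021 : act 2 n12533 = n10188 := d13_1 D12533 (iv D10188) D10187
def n12534 : Q := act 4 n10189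
theorem D12534 : act 4 n10189 = n12534 := rfl
theorem F22022 : act 0 n12534 = n11680 := d3_1 D12534 (iv D11680) (iv F18042)
theorem F22023 : act 1 n12534 = n12534 := d8_1 D12534 (iv D12534) F18043
theorem F22024 : act 2 n12534 = n11673 := d12_1 D12534 (iv D11673) (iv F18044)
def n12535 : Q := act 6 n10189
theorem D12535 : act 6 n10189 = n12535 := rfl
theorem F22025 : act 0 n12535 = n11681 := d5_1 D12535 (iv D11681) (iv F18042)
theorem F22026 : act 2 n12535 = n11674 := d14_1 D12535 (iv D11674) (iv F18044)
theorem F22027 : act 3 n12535 = n10191 := d17_1 D12535 (iv D10191) D10189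
def n12536 : Q := act 3 n10190
theorem D12536 : act 3 n10190 = n12536 := rfl
theorem F22028 : act 1 n12536 = n12536 := d7_1 D12536 (iv D12536) F18045
def n12537 : Q := act 6 n10190
theorem D12537 : act 6 n10190 = n12537 := rfl
theorem F22029 : act 2 n12537 = n10192 := d14_1 D12537 (iv D10192) (iv F18046)
theorem F22030 : act 4 n12537 = n10191 := d19_1 D12537 (iv D10191) D10190
def n12538 : Q := act 1 n10191
theorem D12538 : act 1 n10191 = n12538 := rfl
theorem F22031 : act 6 n12538 = n12538 := d10_2 D10191 D12538 (iv D12538) (iv D10191) F16287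
def n12539 : Q := act 5 n10191
theorem D12539 : act 5 n10191 = n12539 := rfl
theorem F22032 : act 0 n12539 = n12432 := d4_1 D12539 (iv F22010) F22007
theorem F22033 : act 2 n12539 = n10194 := d13_1 D12539 (iv D10194) (iv F18047)
theorem F22034 : act 6 n12539 = n12427 := d20_2 D10191 D12539 F21884 D12523 F22010 (iv D12432) F17992
def n12540 : Q := act 1 n10192
theorem D12540 : act 1 n10192 = n12540 := rfl
theorem F22035 : act 4 n12540 = n10193 := d8_2 (iv F18048) D12540 (iv D10193)
theorem F22036 : act 6 n12540 = n10272 := d10_2 D10192 D12540 (iv D10272) (iv D5591) (iv F8405)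
def n12541 : Q := act 5 n10192
theorem D12541 : act 5 n10192 = n12541 := rfl
theorem F22037 : act 0 n12541 = n12433 := d4_1 D12541 (iv F22013) F22011
theorem F22038 : act 4 n12541 = n10194 := d18_1 D12541 (iv D10194) (iv F18048)
theorem F22039 : act 6 n12541 = n12428 := d20_2 D10192 D12541 F21887 D12524 F22013 (iv D12433) F17994
def n12542 : Q := act 0 n10193
theorem D12542 : act 0 n10193 = n12542 := rfl
theorem F22040 : act 3 n12542 = n10195 := d2_2 (iv F18049) D12542 (iv D10195)
theorem F22041 : act 6 n12542 = n10273 := d5_2 (iv F18050) D12542 (iv D10273)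
def n12543 : Q := act 2 n10193
theorem D12543 : act 2 n10193 = n12543 := rfl
theorem F22042 : act 6 n12543 = n10274 := d14_2 (iv F18050) D12543 (iv D10274)
def n12544 : Q := act 5 n10193
theorem D12544 : act 5 n10193 = n12544 := rfl
theorem F22043 : act 3 n12544 = n10197 := d16_1 D12544 (iv D10197) (iv F18049)
def n12545 : Q := act 1 n10194
theorem D12545 : act 1 n10194 = n12545 := rfl
theorem F22044 : act 3 n12545 = n10198 := d7_2 (iv F18052) D12545 (iv D10198)
def n12546 : Q := act 1 n10195
theorem D12546 : act 1 n10195 = n12546 := rfl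
def n12547 : Q := act 2 n10195
theorem D12547 : act 2 n10195 = n12547 := rfl
theorem F22045 : act 0 n12547 = n10196 := d1_1 D12547 (iv D10196) D10195
theorem F22046 : act 6 n12547 = n10277 := d14_2 (iv F18054) D12547 (iv D10277)
def n12548 : Q := act 3 n10196
theorem D12548 : act 3 n10196 = n12548 := rfl
theorem F22047 : act 1 n12548 = n10201 := d7_1 D12548 (iv D10201) (iv F18055)
theorem F22048 : act 6 n12548 = n10279 := d17_2 (iv F18056) D12548 (iv D10279)
def n12549 : Q := act 5 n10196
theorem D12549 : act 5 n10196 = n12549 := rfl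
theorem F22049 : act 2 n12549 = n10197 := d13_1 D12549 (iv D10197) D10196
def n12550 : Q := act 1 n10197
theorem D12550 : act 1 n10197 = n12550 := rfl
theorem F22050 : act 5 n12550 = n10198 := d9_2 D10197 D12550 (iv D10198) (iv D5537) D5536
def n12551 : Q := act 0 n10198
theorem D12551 : act 0 n10198 = n12551 := rfl
def n12552 : Q := act 2 n10198
theorem D12552 : act 2 n10198 = n12552 := rfl
theorem F22051 : act 1 n12552 = n10205 := d6_1 D12552 (iv D10205) (iv D5541) (iv F8409) D10198
def n12553 : Q := act 6 n10198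
theorem D12553 : act 6 n10198 = n12553 := rfl
theorem F22052 : act 1 n12553 = n12426 := d10_1 D12553 (iv D12426) (iv D10134) (iv F8410) D10198
def n12554 : Q := act 0 n10199
theorem D12554 : act 0 n10199 = n12554 := rfl
def n12555 : Q := act 2 n10199
theorem D12555 : act 2 n10199 = n12555 := rfl
def n12556 : Q := act 5 n10199
theorem D12556 : act 5 n10199 = n12556 := rfl
def n12557 : Q := act 6 n10199
theorem D12557 : act 6 n10199 = n12557 := rfl
theorem F22053 : act 1 n12557 = n10210 := d10_1 D12557 (iv D10210) (iv D5542) (iv F8411) D10199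
def n12558 : Q := act 1 n10200
theorem D12558 : act 1 n10200 = n12558 := rfl
def n12559 : Q := act 3 n10200
theorem D12559 : act 3 n10200 = n12559 := rfl
theorem F22054 : act 0 n12559 = n10201 := d2_1 D12559 (iv D10201) (iv F18057)
theorem F22055 : act 6 n12559 = n10212 := d17_2 (iv F18058) D12559 (iv D10212)
def n12560 : Q := act 2 n10201
theorem D12560 : act 2 n10201 = n12560 := rfl
theorem F22056 : act 6 n12560 = n10215 := d14_2 (iv F18059) D12560 (iv D10215)
def n12561 : Q := act 4 n10201
theorem D12561 : act 4 n10201 = n12561 := rfl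
theorem F22057 : act 6 n12561 = n10216 := d19_2 (iv F18059) D12561 (iv D10216)
def n12562 : Q := act 5 n10201
theorem D12562 : act 5 n10201 = n12562 := rfl
theorem F22058 : act 3 n12562 = n10202 := d16_1 D12562 (iv D10202) D10201
def n12563 : Q := act 1 n10202
theorem D12563 : act 1 n10202 = n12563 := rfl
def n12564 : Q := act 0 n10203
theorem D12564 : act 0 n10203 = n12564 := rfl
theorem F22059 : act 5 n12564 = n10204 := d4_2 (iv F18061) D12564 (iv D10204)
def n12565 : Q := act 2 n10203
theorem D12565 : act 2 n10203 = n12565 := rfl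
theorem F22060 : act 5 n12565 = n10205 := d13_2 (iv F18061) D12565 (iv D10205)
def n12566 : Q := act 6 n10203
theorem D12566 : act 6 n10203 = n12566 := rfl
def n12567 : Q := act 1 n10204
theorem D12567 : act 1 n10204 = n12567 := rfl
def n12568 : Q := act 2 n10204
theorem D12568 : act 2 n10204 = n12568 := rfl
theorem F22061 : act 0 n12568 = n10205 := d1_1 D12568 (iv D10205) D10204
def n12569 : Q := act 6 n10204
theorem D12569 : act 6 n10204 = n12569 := rfl
theorem F22062 : act 0 n12569 = n10206 := d5_1 D12569 (iv D10206) D10204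
theorem F22063 : act 5 n12569 = n12566 := d22_2 F22059 D12569 (iv D12566) D12564
theorem F22064 : act 1 n12569 = n11645 := d24_2 D12566 (iv F22063) (iv D11645) (iv D9564) (iv D4629) (iv D2227) (iv D1088) (iv D547) D549 (iv F1198) D1295 (iv F4177) D5540 D10203
theorem F22065 : act 3 n12453 = n12569 := d7_0 F22064 F20636 D12453
theorem E6997 : n12567 = n11626 := ((c10_5 D12569 F22064 (iv D11645) F14290 D11626 (iv D12567))).symm
theorem F22066 : act 1 n11626 = n10204 := (sb E6997 (iv D12567))
theorem F22067 : act 1 n12564 = n12461 := d24_5 (iv F20624) (iv F20637) (iv F22064) (iv D12569) (iv F22059) (iv D12461) (iv D10151) (iv D5517) F4169 D2676 D5555 D10240 (iv F20633) (iv D11640)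
theorem F22068 : act 1 n12456 = n11614 := d9_3 (iv F22059) F22067 F21927 (iv F20613) F22066
theorem F22069 : act 3 n12383 = n12456 := d7_0 F22068 F20590 D12383
theorem F22070 : act 6 n11621 = n12404 := d10_4 D12456 F22068 F20591 D11621 F21861
theorem F22071 : act 1 n12455 = n11667 := d24_5 D11626 F20613 (iv F22068) (iv D12456) D12455 (iv D11667) (iv D9575) (iv D4634) D4636 F7061 D9561 F14288 D9564 F14290
theorem F22072 : act 3 n12506 = n12455 := d7_0 F22071 F20668 D12506
theorem F22073 : act 0 n11648 = n12506 := d2_3 F22072 F21922 (iv F20639)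
theorem F22074 : act 5 n11646 = n12506 := d16_0 F22072 (iv D12455) (iv F20638)
theorem F22075 : act 6 n12383 = n11646 := d24_0 F22074 (iv D12506) (iv D10175) (iv D5527) (iv D2664) D2666 F4174 D5513 F8390 D5516 F8392 D10129 F17988 D12383
theorem F22076 : act 0 n11649 = n12383 := d5_3 F22075 (iv D11646) D11649
theorem F22077 : act 1 n11646 = n12407 := d10_1 F22075 (iv D12407) (iv D10124) (iv F17973) D12383
theorem F22078 : act 0 n12407 = n11621 := d0_1 F22077 (iv D11621) (iv D9554) (iv D4625) F3525 D2228 D4630 D9565 D11646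
theorem F22079 : act 3 n12407 = n12404 := d7_2 (iv F20638) F22077 F21861
theorem F22080 : act 5 n12407 = n12495 := d9_2 (iv F22074) F22077 (iv D12495) (iv F18029) D12506
theorem F22081 : act 1 n12353 = n11693 := d0_8 (iv F20640) F22076 (iv D12383) (iv D10114) (iv D5501) (iv F8374) D10101 D12353 F20707
theorem E6998 : n12417 = n11688 := ((c7_3 (iv F20612) F22066 (iv F20701) (iv D12417))).symm
theorem F22082 : act 1 n11688 = n10129 := (sb E6998 (iv D12417))
theorem F22083 : act 6 n11688 = n12453 := (sb E6998 (iv F21920))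
theorem F22084 : act 0 n12453 = n11690 := d5_1 F22083 (iv D11690) D11688
def n12570 : Q := act 3 n10205
theorem D12570 : act 3 n10205 = n12570 := rfl
def n12571 : Q := act 6 n10205
theorem D12571 : act 6 n10205 = n12571 := rfl
theorem F22085 : act 2 n12571 = n10206 := d14_1 D12571 (iv D10206) D10205
def n12572 : Q := act 5 n10206
theorem D12572 : act 5 n10206 = n12572 := rfl
theorem F22086 : act 0 n12572 = n12566 := d4_1 D12572 (iv F22063) F22062
theorem F22087 : act 6 n12572 = n12564 := d20_2 D10206 D12572 F22059 D12569 F22063 (iv D12566) F18061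
def n12573 : Q := act 2 n10207
theorem D12573 : act 2 n10207 = n12573 := rfl
theorem F22088 : act 0 n12573 = n10208 := d1_1 D12573 (iv D10208) D10207
def n12574 : Q := act 5 n10207
theorem D12574 : act 5 n10207 = n12574 := rfl
theorem F22089 : act 0 n12574 = n10209 := d4_1 D12574 (iv D10209) D10207
def n12575 : Q := act 6 n10207
theorem D12575 : act 6 n10207 = n12575 := rfl
theorem F22090 : act 0 n12575 = n10210 := d5_1 D12575 (iv D10210) D10207
def n12576 : Q := act 1 n10208
theorem D12576 : act 1 n10208 = n12576 := rfl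
theorem F22091 : act 2 n12576 = n10211 := d6_2 D10208 D12576 (iv D10211) (iv D5543) D5542
def n12577 : Q := act 3 n10208
theorem D12577 : act 3 n10208 = n12577 := rfl
def n12578 : Q := act 5 n10208
theorem D12578 : act 5 n10208 = n12578 := rfl
theorem F22092 : act 2 n12578 = n10209 := d13_1 D12578 (iv D10209) D10208
def n12579 : Q := act 6 n10208
theorem D12579 : act 6 n10208 = n12579 := rfl
theorem F22093 : act 2 n12579 = n10210 := d14_1 D12579 (iv D10210) D10208
def n12580 : Q := act 1 n10209
theorem D12580 : act 1 n10209 = n12580 := rfl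
theorem F22094 : act 5 n12580 = n10214 := d9_2 D10209 D12580 (iv D10214) (iv D5544) D5542
theorem F22095 : act 6 n12387 = n12580 := d24_0 F22094 (iv D10214) F8415 (iv D5540) (iv D2669) (iv D1294) (iv F2171) (iv D1288) D1289 F2173 D2655 (iv F8380) D10116 D12387
theorem F22096 : act 0 n12390 = n10214 := d22_4 (iv F22094) (iv F22095) F21843 D12390
theorem F22097 : act 6 n10214 = n12388 := d5_2 D12390 F22096 (iv D12388)
theorem F22098 : act 1 n12388 = n12566 := d10_1 F22097 (iv D12566) (iv D10203) (iv F8415) D10214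
theorem F22099 : act 6 n10209 = n12411 := d10_2 F22095 (iv D12580) (iv D12411) F17984 D12387
theorem F22100 : act 5 n12411 = n12575 := d22_2 D10209 F22099 (iv D12575) (iv D10207)
theorem F22101 : act 1 n12575 = n12406 := d9_1 F22100 (iv D12406) (iv D10124) D10126 D12411
def n12581 : Q := act 5 n10210
theorem D12581 : act 5 n10210 = n12581 := rfl
theorem F22102 : act 0 n12581 = n12411 := d4_1 D12581 F22100 F22090
theorem F22103 : act 6 n12581 = n12574 := d20_2 D10210 D12581 (iv D12574) D12575 (iv F22100) (iv F22099) (iv D10209)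
theorem F22104 : act 1 n12581 = n11619 := d24_2 D10210 D12581 (iv D11619) F16329 (iv F20110) (iv F21880) (iv D12422) (iv F18062) (iv D10206) (iv F18061) (iv D10203) (iv F8415) (iv D5544) D5542
theorem F22105 : act 3 n12398 = n12581 := d7_0 F22104 F20599 D12398
theorem F22106 : act 5 n10262 = n12398 := d16_0 F22105 (iv D12581) (iv F18118)
def n12582 : Q := act 0 n10211
theorem D12582 : act 0 n10211 = n12582 := rfl
def n12583 : Q := act 3 n10211
theorem D12583 : act 3 n10211 = n12583 := rfl
theorem F22107 : act 1 n12583 = n10212 := d7_1 D12583 (iv D10212) D10211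
def n12584 : Q := act 5 n10211
theorem D12584 : act 5 n10211 = n12584 := rfl
def n12585 : Q := act 6 n10211
theorem D12585 : act 6 n10211 = n12585 := rfl
def n12586 : Q := act 2 n10212
theorem D12586 : act 2 n10212 = n12586 := rfl
theorem F22108 : act 0 n12586 = n10215 := d1_1 D12586 (iv D10215) (iv F18063)
theorem F22109 : act 3 n12586 = n10267 := d21_1 D12586 (iv D10267) (iv D5568) (iv D2682) F2180 D2672 D5545 (iv F18063)
def n12587 : Q := act 4 n10212
theorem D12587 : act 4 n10212 = n12587 := rfl
theorem F22110 : act 0 n12587 = n10216 := d3_1 D12587 (iv D10216) (iv F18063)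
def n12588 : Q := act 5 n10212
theorem D12588 : act 5 n10212 = n12588 := rfl
theorem F22111 : act 0 n12588 = n10217 := d4_1 D12588 (iv D10217) (iv F18063)
theorem F22112 : act 3 n12588 = n10213 := d16_1 D12588 (iv D10213) D10212
theorem F22113 : act 6 n12588 = n12562 := d22_1 D12588 (iv D12562) F18059 (iv F18063)
def n12589 : Q := act 1 n10213
theorem D12589 : act 1 n10213 = n12589 := rfl
def n12590 : Q := act 2 n10214
theorem D12590 : act 2 n10214 = n12590 := rfl
def n12591 : Q := act 1 n10215
theorem D12591 : act 1 n10215 = n12591 := rfl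
theorem F22114 : act 2 n12591 = n10291 := d6_2 D10215 D12591 (iv D10291) (iv D5608) (iv F8416)
def n12592 : Q := act 3 n10215
theorem D12592 : act 3 n10215 = n12592 := rfl
theorem F22115 : act 0 n12592 = n10267 := d2_1 D12592 (iv F22109) F22108
theorem F22116 : act 2 n12592 = n10264 := d11_1 D12592 (iv D10264) (iv D5566) F4191 D5543 D10212 D12586 F22109 (iv D10267) (iv D5568) (iv D2682) F2180 D2672 D5545 D10215
def n12593 : Q := act 4 n10215
theorem D12593 : act 4 n10215 = n12593 := rfl
theorem F22117 : act 2 n12593 = n10216 := d12_1 D12593 (iv D10216) D10215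
def n12594 : Q := act 5 n10215
theorem D12594 : act 5 n10215 = n12594 := rfl
theorem F22118 : act 2 n12594 = n10217 := d13_1 D12594 (iv D10217) D10215
def n12595 : Q := act 5 n10216
theorem D12595 : act 5 n10216 = n12595 := rfl
theorem F22119 : act 4 n12595 = n10217 := d18_1 D12595 (iv D10217) D10216
def n12596 : Q := act 6 n10217
theorem D12596 : act 6 n10217 = n12596 := rfl
theorem F22120 : act 0 n12596 = n12562 := d5_1 D12596 (iv F22113) F22111
theorem F22121 : act 3 n12596 = n10218 := d17_1 D12596 (iv D10218) (iv F18068)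
theorem F22122 : act 5 n12596 = n12559 := d20_1 D12596 F22055 D12588 F22113 (iv D12562) F18059 D10217
def n12597 : Q := act 1 n10218
theorem D12597 : act 1 n10218 = n12597 := rfl
def n12598 : Q := act 0 n10219
theorem D12598 : act 0 n10219 = n12598 := rfl
theorem F22123 : act 6 n12598 = n11720 := d5_2 (iv F18072) D12598 (iv D11720)
def n12599 : Q := act 2 n10219
theorem D12599 : act 2 n10219 = n12599 := rfl
theorem F22124 : act 6 n12599 = n11721 := d14_2 (iv F18072) D12599 (iv D11721)
def n12600 : Q := act 5 n10219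
theorem D12600 : act 5 n10219 = n12600 := rfl
theorem F22125 : act 1 n12600 = n12556 := d9_1 D12600 (iv D12556) (iv D10199) (iv F8419) D10219
theorem F22126 : act 6 n12493 = n12600 := d24_0 (iv D12600) (iv D10219) (iv D5547) (iv D2673) (iv D1295) (iv D648) (iv D328) D327 D646 D1291 D2663 D5524 D10167 D12493
theorem F22127 : act 6 n12556 = n12478 := d10_2 F22126 F22125 (iv D12478) (iv F18022) D12493
theorem E6999 : n12403 = n11720 := ((c22_5 (iv F21970) F22126 (iv D12600) F18072 D11720)).symm
theorem F22128 : act 1 n11720 = n10123 := (sb E6999 (iv D12403))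
theorem F22129 : act 5 n11720 = n12493 := (sb E6999 (iv F21970))
theorem F22130 : act 0 n12493 = n11722 := d22_4 (iv D11722) (iv F18072) D12600 (iv F22126)
theorem F22131 : act 0 n12510 = n10240 := d0_7 D12493 F22130 F20740 F22073 (iv D12506) (iv F18031) D12510 F18091 (iv F18021)
theorem F22132 : act 6 n10238 = n12510 := d5_0 F22131 (iv D10240) D10238
theorem F22133 : act 1 n11620 = n10256 := d7_3 (iv F20739) F22128 (iv F20603)
def n12602 : Q := act 3 n10220
theorem D12602 : act 3 n10220 = n12602 := rfl
theorem F22134 : act 0 n12602 = n10224 := d2_1 D12602 (iv D10224) (iv F18073)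
def n12603 : Q := act 5 n10220
theorem D12603 : act 5 n10220 = n12603 := rfl
theorem F22135 : act 0 n12603 = n10225 := d4_1 D12603 (iv D10225) (iv F18073)
theorem F22136 : act 2 n12603 = n10221 := d13_1 D12603 (iv D10221) D10220
def n12604 : Q := act 6 n10220
theorem D12604 : act 6 n10220 = n12604 := rfl
theorem F22137 : act 0 n12604 = n10226 := d5_1 D12604 (iv D10226) (iv F18073)
theorem F22138 : act 2 n12604 = n10222 := d14_1 D12604 (iv D10222) D10220
def n12605 : Q := act 1 n10221
theorem D12605 : act 1 n10221 = n12605 := rfl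
def n12606 : Q := act 1 n10222
theorem D12606 : act 1 n10222 = n12606 := rfl
theorem F22139 : act 0 n12606 = n11607 := d0_1 D12606 (iv D11607) F14265 D9549 D11614 (iv F22068) F21923 F18006 (iv F18075)
theorem F22140 : act 3 n12606 = n12353 := d7_2 F20708 D12606 F22081
theorem F22141 : act 5 n12606 = n12529 := d9_2 F18080 D12606 (iv D12529) D12531 (iv F22020)
theorem F22142 : act 6 n12606 = n12353 := d10_2 D10222 D12606 F22081 (iv D11693) F14318
theorem F22143 : act 6 n12355 = n12529 := d22_1 D12355 (iv F22141) F22142 (iv D12353)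
theorem F22144 : act 6 n12605 = n12393 := d24_6 F22143 (iv F22141) (iv D12606) (iv D10222) D10221 D12605 (iv D12393) (iv D10118) D10120 F17977 D12379 F21837 D12382 F21838
def n12607 : Q := act 0 n10223
theorem D12607 : act 0 n10223 = n12607 := rfl
theorem F22145 : act 2 n12607 = n10230 := d1_2 (iv F18076) D12607 (iv D10230)
def n12608 : Q := act 3 n10223
theorem D12608 : act 3 n10223 = n12608 := rfl
theorem F22146 : act 1 n12608 = n10224 := d7_1 D12608 (iv D10224) D10223
def n12609 : Q := act 5 n10223
theorem D12609 : act 5 n10223 = n12609 := rfl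
theorem F22147 : act 2 n12609 = n10232 := d13_1 D12609 (iv D10232) (iv F18076)
def n12610 : Q := act 6 n10223
theorem D12610 : act 6 n10223 = n12610 := rfl
theorem F22148 : act 2 n12610 = n10233 := d14_1 D12610 (iv D10233) (iv F18076)
def n12611 : Q := act 2 n10224
theorem D12611 : act 2 n10224 = n12611 := rfl
def n12612 : Q := act 4 n10224
theorem D12612 : act 4 n10224 = n12612 := rfl
def n12613 : Q := act 5 n10224
theorem D12613 : act 5 n10224 = n12613 := rfl
theorem F22149 : act 3 n12613 = n10225 := d16_1 D12613 (iv D10225) D10224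
def n12614 : Q := act 6 n10224
theorem D12614 : act 6 n10224 = n12614 := rfl
theorem F22150 : act 3 n12614 = n10226 := d17_1 D12614 (iv D10226) D10224
def n12615 : Q := act 1 n10225
theorem D12615 : act 1 n10225 = n12615 := rfl
def n12616 : Q := act 6 n10225
theorem D12616 : act 6 n10225 = n12616 := rfl
theorem F22151 : act 2 n12616 = n10228 := d14_1 D12616 (iv D10228) (iv F18077)
theorem F22152 : act 5 n12616 = n12604 := d22_2 D10225 D12616 (iv D12604) F18073
def n12617 : Q := act 1 n10226
theorem D12617 : act 1 n10226 = n12617 := rfl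
def n12618 : Q := act 5 n10226
theorem D12618 : act 5 n10226 = n12618 := rfl
theorem F22153 : act 0 n12618 = n12616 := d4_1 D12618 F22152 F22137
theorem F22154 : act 2 n12618 = n10229 := d13_1 D12618 (iv D10229) (iv F18078)
theorem F22155 : act 6 n12618 = n12603 := d20_2 D10226 D12618 (iv D12603) D12604 (iv F22152) (iv D12616) (iv D10225)
def n12619 : Q := act 0 n10227
theorem D12619 : act 0 n10227 = n12619 := rfl
theorem F22156 : act 3 n12619 = n12444 := d2_2 F20712 D12619 F21907
theorem F22157 : act 5 n12619 = n10238 := d4_2 (iv F18079) D12619 (iv D10238)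
theorem F22158 : act 6 n11640 = n12619 := d22_3 F18079 D10240 (iv F20633) (iv D12619)
def n12620 : Q := act 2 n10227
theorem D12620 : act 2 n10227 = n12620 := rfl
theorem F22159 : act 5 n12620 = n10239 := d13_2 (iv F18079) D12620 (iv D10239)
def n12621 : Q := act 6 n10227
theorem D12621 : act 6 n10227 = n12621 := rfl
theorem F22160 : act 0 n12621 = n11640 := d5_1 D12621 F22158 (iv D12619)
theorem F22161 : act 1 n12621 = n12509 := d10_1 D12621 (iv F22019) (iv F22020) (iv D10228) D10227
theorem F22162 : act 3 n12621 = n12442 := d17_1 D12621 (iv F21906) F20712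
theorem F22163 : act 5 n12621 = n12510 := d20_1 D12621 (iv F22132) (iv F22157) (iv F22158) F20633 (iv D10240) (iv F18079)
def n12622 : Q := act 1 n10229
theorem D12622 : act 1 n10229 = n12622 := rfl
theorem F22164 : act 0 n12622 = n11630 := d0_1 D12622 (iv F20702) (iv F22084) (iv D12453) F18004 (iv F18041) (iv F22018) (iv F22020) (iv F18081)
theorem F22165 : act 3 n12622 = n12418 := d7_2 F20717 D12622 (iv F21873)
theorem F22166 : act 6 n12622 = n11627 := d10_2 (iv F18082) D12622 (iv F21848) (iv F22144) (iv D12605)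
def n12623 : Q := act 3 n10230
theorem D12623 : act 3 n10230 = n12623 := rfl
theorem F22167 : act 0 n12623 = n10231 := d2_1 D12623 (iv D10231) D10230
theorem F22168 : act 1 n12623 = n12623 := d7_1 D12623 (iv D12623) F18083
def n12624 : Q := act 5 n10230
theorem D12624 : act 5 n10230 = n12624 := rfl
theorem F22169 : act 0 n12624 = n10232 := d4_1 D12624 (iv D10232) D10230
def n12625 : Q := act 6 n10230
theorem D12625 : act 6 n10230 = n12625 := rfl
theorem F22170 : act 0 n12625 = n10233 := d5_1 D12625 (iv D10233) D10230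
def n12626 : Q := act 2 n10231
theorem D12626 : act 2 n10231 = n12626 := rfl
def n12627 : Q := act 4 n10231
theorem D12627 : act 4 n10231 = n12627 := rfl
theorem F22171 : act 1 n12627 = n10235 := d8_1 D12627 (iv D10235) (iv F18084)
def n12628 : Q := act 5 n10231
theorem D12628 : act 5 n10231 = n12628 := rfl
theorem F22172 : act 3 n12628 = n10232 := d16_1 D12628 (iv D10232) D10231
def n12629 : Q := act 6 n10231
theorem D12629 : act 6 n10231 = n12629 := rfl
theorem F22173 : act 3 n12629 = n10233 := d17_1 D12629 (iv D10233) D10231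
def n12630 : Q := act 1 n10232
theorem D12630 : act 1 n10232 = n12630 := rfl
theorem F22174 : act 5 n12630 = n10237 := d9_2 D10232 D12630 (iv D10237) (iv D5554) D5552
def n12631 : Q := act 6 n10232
theorem D12631 : act 6 n10232 = n12631 := rfl
theorem F22175 : act 5 n12631 = n12625 := d22_2 D10232 D12631 (iv D12625) (iv D10230)
def n12632 : Q := act 5 n10233
theorem D12632 : act 5 n10233 = n12632 := rfl
theorem F22176 : act 0 n12632 = n12631 := d4_1 D12632 F22175 F22170
theorem F22177 : act 6 n12632 = n12624 := d20_2 D10233 D12632 (iv D12624) D12625 (iv F22175) (iv D12631) (iv D10232)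
def n12633 : Q := act 1 n10234
theorem D12633 : act 1 n10234 = n12633 := rfl
theorem F22178 : act 3 n12633 = n11711 := d7_2 (iv F18086) D12633 (iv D11711)
def n12634 : Q := act 4 n10234
theorem D12634 : act 4 n10234 = n12634 := rfl
theorem F22179 : act 0 n12634 = n10242 := d3_1 D12634 (iv D10242) (iv F18085)
theorem F22180 : act 2 n12634 = n10235 := d12_1 D12634 (iv D10235) D10234
def n12635 : Q := act 5 n10234
theorem D12635 : act 5 n10234 = n12635 := rfl
theorem F22181 : act 0 n12635 = n10243 := d4_1 D12635 (iv D10243) (iv F18085)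
theorem F22182 : act 2 n12635 = n10236 := d13_1 D12635 (iv D10236) D10234
theorem F22183 : act 3 n12635 = n11713 := d16_1 D12635 (iv D11713) (iv F18086)
theorem F22184 : act 6 n12635 = n12472 := d22_1 D12635 (iv D12472) F18009 (iv F18085)
def n12636 : Q := act 5 n10235
theorem D12636 : act 5 n10235 = n12636 := rfl
theorem F22185 : act 0 n12636 = n10244 := d4_1 D12636 (iv D10244) (iv F18087)
theorem F22186 : act 4 n12636 = n10236 := d18_1 D12636 (iv D10236) D10235
theorem F22187 : act 6 n12636 = n12473 := d22_1 D12636 (iv D12473) F18011 (iv F18087)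
def n12637 : Q := act 1 n10236
theorem D12637 : act 1 n10236 = n12637 := rfl
theorem F22188 : act 3 n12637 = n10237 := d7_2 (iv F18089) D12637 (iv D10237)
def n12638 : Q := act 0 n10237
theorem D12638 : act 0 n10237 = n12638 := rfl
def n12639 : Q := act 2 n10237
theorem D12639 : act 2 n10237 = n12639 := rfl
theorem F22189 : act 1 n12639 = n10239 := d6_1 D12639 (iv D10239) (iv D5555) (iv F8422) D10237
def n12640 : Q := act 6 n10237
theorem D12640 : act 6 n10237 = n12640 := rfl
theorem F22190 : act 1 n12640 = n12477 := d10_1 D12640 (iv D12477) (iv D10158) (iv F8423) D10237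
def n12641 : Q := act 1 n10238
theorem D12641 : act 1 n10238 = n12641 := rfl
theorem F22191 : act 6 n12641 = n12494 := d10_2 (iv F22132) D12641 (iv D12494) (iv F18032) D12510
theorem F22192 : act 5 n12352 = n12641 := d24_1 D12352 (iv D12641) F22132 (iv F22163) F22161 (iv F22019) (iv D12531) D12529 (iv F22143) (iv D12355) (iv D10101) (iv D5495) D5494 D10100
def n12642 : Q := act 2 n10238
theorem D12642 : act 2 n10238 = n12642 := rfl
theorem F22193 : act 0 n12642 = n10239 := d1_1 D12642 (iv D10239) D10238
def n12643 : Q := act 3 n10239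
theorem D12643 : act 3 n10239 = n12643 := rfl
def n12644 : Q := act 6 n10239
theorem D12644 : act 6 n10239 = n12644 := rfl
theorem F22194 : act 2 n12644 = n10240 := d14_1 D12644 (iv D10240) D10239
def n12645 : Q := act 4 n10241
theorem D12645 : act 4 n10241 = n12645 := rfl
theorem F22195 : act 0 n12645 = n11712 := d3_1 D12645 (iv D11712) (iv F18092)
theorem F22196 : act 1 n12645 = n12645 := d8_1 D12645 (iv D12645) F18093
theorem F22197 : act 2 n12645 = n11705 := d12_1 D12645 (iv D11705) (iv F18094)
def n12646 : Q := act 5 n10241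
theorem D12646 : act 5 n10241 = n12646 := rfl
theorem F22198 : act 0 n12646 = n11713 := d4_1 D12646 (iv D11713) (iv F18092)
theorem F22199 : act 2 n12646 = n11706 := d13_1 D12646 (iv D11706) (iv F18094)
theorem F22200 : act 3 n12646 = n10243 := d16_1 D12646 (iv D10243) D10241
def n12647 : Q := act 3 n10242
theorem D12647 : act 3 n10242 = n12647 := rfl
theorem F22201 : act 1 n12647 = n12647 := d7_1 D12647 (iv D12647) F18095
def n12648 : Q := act 5 n10242
theorem D12648 : act 5 n10242 = n12648 := rfl
theorem F22202 : act 2 n12648 = n10244 := d13_1 D12648 (iv D10244) (iv F18096)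
theorem F22203 : act 4 n12648 = n10243 := d18_1 D12648 (iv D10243) D10242
def n12649 : Q := act 1 n10243
theorem D12649 : act 1 n10243 = n12649 := rfl
theorem F22204 : act 5 n12649 = n12649 := d9_2 D10243 D12649 (iv D12649) (iv D10243) F17457
def n12650 : Q := act 6 n10243
theorem D12650 : act 6 n10243 = n12650 := rfl
theorem F22205 : act 0 n12650 = n12472 := d5_1 D12650 (iv F22184) F22181
theorem F22206 : act 2 n12650 = n10246 := d14_1 D12650 (iv D10246) (iv F18097)
theorem F22207 : act 5 n12650 = n12467 := d20_1 D12650 F21933 D12635 F22184 (iv D12472) F18009 D10243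
def n12651 : Q := act 1 n10244
theorem D12651 : act 1 n10244 = n12651 := rfl
theorem F22208 : act 4 n12651 = n10245 := d8_2 (iv F18098) D12651 (iv D10245)
theorem F22209 : act 5 n12651 = n10293 := d9_2 D10244 D12651 (iv D10293) (iv D5634) (iv F8424)
def n12652 : Q := act 6 n10244
theorem D12652 : act 6 n10244 = n12652 := rfl
theorem F22210 : act 0 n12652 = n12473 := d5_1 D12652 (iv F22187) F22185
theorem F22211 : act 4 n12652 = n10246 := d19_1 D12652 (iv D10246) (iv F18098)
theorem F22212 : act 5 n12652 = n12468 := d20_1 D12652 F21936 D12636 F22187 (iv D12473) F18011 D10244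
def n12653 : Q := act 0 n10245
theorem D12653 : act 0 n10245 = n12653 := rfl
theorem F22213 : act 3 n12653 = n10247 := d2_2 (iv F18099) D12653 (iv D10247)
theorem F22214 : act 5 n12653 = n10294 := d4_2 (iv F18100) D12653 (iv D10294)
def n12654 : Q := act 2 n10245
theorem D12654 : act 2 n10245 = n12654 := rfl
theorem F22215 : act 5 n12654 = n10295 := d13_2 (iv F18100) D12654 (iv D10295)
def n12655 : Q := act 6 n10245
theorem D12655 : act 6 n10245 = n12655 := rfl
theorem F22216 : act 3 n12655 = n10249 := d17_1 D12655 (iv D10249) (iv F18099)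
def n12656 : Q := act 1 n10246
theorem D12656 : act 1 n10246 = n12656 := rfl
theorem F22217 : act 3 n12656 = n10250 := d7_2 (iv F18102) D12656 (iv D10250)
def n12657 : Q := act 1 n10247
theorem D12657 : act 1 n10247 = n12657 := rfl
def n12658 : Q := act 2 n10247
theorem D12658 : act 2 n10247 = n12658 := rfl
theorem F22218 : act 0 n12658 = n10248 := d1_1 D12658 (iv D10248) D10247
theorem F22219 : act 5 n12658 = n10298 := d13_2 (iv F18104) D12658 (iv D10298)
def n12659 : Q := act 3 n10248
theorem D12659 : act 3 n10248 = n12659 := rfl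
theorem F22220 : act 1 n12659 = n10253 := d7_1 D12659 (iv D10253) (iv F18105)
theorem F22221 : act 5 n12659 = n10300 := d16_2 (iv F18106) D12659 (iv D10300)
def n12660 : Q := act 6 n10248
theorem D12660 : act 6 n10248 = n12660 := rfl
theorem F22222 : act 2 n12660 = n10249 := d14_1 D12660 (iv D10249) D10248
def n12661 : Q := act 1 n10249
theorem D12661 : act 1 n10249 = n12661 := rfl
theorem F22223 : act 6 n12661 = n10250 := d10_2 D10249 D12661 (iv D10250) (iv D5560) D5559
def n12662 : Q := act 0 n10250
theorem D12662 : act 0 n10250 = n12662 := rfl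
def n12663 : Q := act 2 n10250
theorem D12663 : act 2 n10250 = n12663 := rfl
theorem F22224 : act 1 n12663 = n10257 := d6_1 D12663 (iv D10257) (iv D5564) (iv F8428) D10250
def n12664 : Q := act 5 n10250
theorem D12664 : act 5 n10250 = n12664 := rfl
theorem F22225 : act 1 n12664 = n12465 := d9_1 D12664 (iv D12465) (iv D10153) (iv F8429) D10250
def n12665 : Q := act 0 n10251
theorem D12665 : act 0 n10251 = n12665 := rfl
theorem F22226 : act 3 n12665 = n12390 := d2_2 (iv F18107) D12665 F22096
theorem F22227 : act 6 n11617 = n12665 := d17_0 F22226 (iv D12390) (iv F20594)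
def n12666 : Q := act 2 n10251
theorem D12666 : act 2 n10251 = n12666 := rfl
def n12667 : Q := act 5 n10251
theorem D12667 : act 5 n10251 = n12667 := rfl
theorem F22228 : act 1 n12667 = n10261 := d9_1 D12667 (iv D10261) (iv D5565) (iv F8431) D10251
theorem F22229 : act 3 n12667 = n12580 := d16_1 D12667 F22094 (iv F18107)
def n12668 : Q := act 6 n10251
theorem D12668 : act 6 n10251 = n12668 := rfl
theorem F22230 : act 0 n12668 = n11617 := d5_1 D12668 F22227 (iv D12665)
theorem F22231 : act 3 n12668 = n12388 := d17_1 D12668 (iv F22097) (iv F18107)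
def n12669 : Q := act 1 n10252
theorem D12669 : act 1 n10252 = n12669 := rfl
def n12670 : Q := act 3 n10252
theorem D12670 : act 3 n10252 = n12670 := rfl
theorem F22232 : act 0 n12670 = n10253 := d2_1 D12670 (iv D10253) (iv F18108)
theorem F22233 : act 5 n12670 = n10264 := d16_2 (iv F18109) D12670 (iv D10264)
def n12671 : Q := act 2 n10253
theorem D12671 : act 2 n10253 = n12671 := rfl
theorem F22234 : act 5 n12671 = n10267 := d13_2 (iv F18110) D12671 (iv D10267)
def n12672 : Q := act 4 n10253
theorem D12672 : act 4 n10253 = n12672 := rfl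
theorem F22235 : act 5 n12672 = n10268 := d18_2 (iv F18110) D12672 (iv D10268)
def n12673 : Q := act 6 n10253
theorem D12673 : act 6 n10253 = n12673 := rfl
theorem F22236 : act 3 n12673 = n10254 := d17_1 D12673 (iv D10254) D10253
def n12674 : Q := act 1 n10254
theorem D12674 : act 1 n10254 = n12674 := rfl
def n12675 : Q := act 0 n10255
theorem D12675 : act 0 n10255 = n12675 := rfl
theorem F22237 : act 3 n12675 = n12598 := d2_2 (iv F18112) D12675 (iv D12598)
theorem F22238 : act 6 n12675 = n10256 := d5_2 (iv F18113) D12675 (iv D10256)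
theorem F22239 : act 1 n12422 = n12675 := d10_5 F22238 (iv F22133) (iv D11620) (iv F20110) (iv F21880)
def n12676 : Q := act 2 n10255
theorem D12676 : act 2 n10255 = n12676 := rfl
theorem F22240 : act 6 n12676 = n10257 := d14_2 (iv F18113) D12676 (iv D10257)
def n12677 : Q := act 5 n10255
theorem D12677 : act 5 n10255 = n12677 := rfl
theorem F22241 : act 3 n12677 = n12600 := d16_1 D12677 (iv D12600) (iv F18112)
def n12678 : Q := act 2 n10256
theorem D12678 : act 2 n10256 = n12678 := rfl
theorem F22242 : act 0 n12678 = n10257 := d1_1 D12678 (iv D10257) D10256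
theorem F22243 : act 1 n12678 = n11663 := d6_1 D12678 F20658 F14300 (iv F20602) F22133
def n12679 : Q := act 5 n10256
theorem D12679 : act 5 n10256 = n12679 := rfl
theorem F22244 : act 0 n12679 = n10258 := d4_1 D12679 (iv D10258) D10256
theorem F22245 : act 1 n12679 = n11664 := d9_1 D12679 (iv D11664) F14300 (iv F20604) F22133
theorem F22246 : act 3 n12679 = n12493 := d16_1 D12679 (iv F22129) F20739
theorem F22247 : act 6 n12679 = n12677 := d22_1 D12679 (iv D12677) F18113 D10256
def n12680 : Q := act 3 n10257
theorem D12680 : act 3 n10257 = n12680 := rfl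
def n12681 : Q := act 5 n10257
theorem D12681 : act 5 n10257 = n12681 := rfl
theorem F22248 : act 2 n12681 = n10258 := d13_1 D12681 (iv D10258) D10257
def n12682 : Q := act 6 n10258
theorem D12682 : act 6 n10258 = n12682 := rfl
theorem F22249 : act 0 n12682 = n12677 := d5_1 D12682 (iv F22247) F22244
theorem F22250 : act 1 n12682 = n12572 := d10_1 D12682 F22087 F22067 (iv D12461) (iv F18114)
theorem F22251 : act 5 n12682 = n12675 := d20_1 D12682 F22238 D12679 F22247 (iv D12677) F18113 D10258
theorem F22252 : act 1 n12380 = n12677 := d0_8 F22250 F22086 (iv F22098) (iv D12388) (iv D10117) F8381 D10113 D12380 (iv F22249)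
theorem F22253 : act 3 n12556 = n12380 := d7_0 F22252 F22241 F22125
theorem F22254 : act 5 n10266 = n12380 := d9_0 F22252 (iv D12677) (iv D10255) (iv F8438) D10266
theorem F22255 : act 0 n12382 = n10266 := d4_3 F22254 (iv D12380) D12382
theorem F22256 : act 3 n12554 = n12382 := d2_0 F22255 F18123 D12554
theorem F22257 : act 5 n11613 = n12554 := d16_0 F22256 (iv D12382) (iv F20589)
theorem F22258 : act 0 n12556 = n11613 := d4_3 F22257 (iv D12554) D12556
def n12683 : Q := act 2 n10259
theorem D12683 : act 2 n10259 = n12683 := rfl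
theorem F22259 : act 0 n12683 = n10260 := d1_1 D12683 (iv D10260) D10259
def n12684 : Q := act 5 n10259
theorem D12684 : act 5 n10259 = n12684 := rfl
theorem F22260 : act 0 n12684 = n10261 := d4_1 D12684 (iv D10261) D10259
theorem F22261 : act 3 n12684 = n12574 := d16_1 D12684 (iv D12574) (iv F18116)
theorem F22262 : act 6 n12684 = n12398 := d22_1 D12684 (iv F22106) (iv D10262) D10259
theorem F22263 : act 1 n12394 = n12684 := d10_5 F22262 (iv D12398) (iv D10120) D10118 D12394
def n12685 : Q := act 6 n10259
theorem D12685 : act 6 n10259 = n12685 := rfl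
theorem F22264 : act 0 n12685 = n10262 := d5_1 D12685 (iv D10262) D10259
theorem F22265 : act 3 n12685 = n12575 := d17_1 D12685 (iv D12575) (iv F18116)
def n12686 : Q := act 1 n10260
theorem D12686 : act 1 n10260 = n12686 := rfl
theorem F22266 : act 2 n12686 = n10263 := d6_2 D10260 D12686 (iv D10263) (iv D5566) D5565
def n12687 : Q := act 3 n10260
theorem D12687 : act 3 n10260 = n12687 := rfl
def n12688 : Q := act 5 n10260
theorem D12688 : act 5 n10260 = n12688 := rfl
theorem F22267 : act 2 n12688 = n10261 := d13_1 D12688 (iv D10261) D10260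
def n12689 : Q := act 6 n10260
theorem D12689 : act 6 n10260 = n12689 := rfl
theorem F22268 : act 2 n12689 = n10262 := d14_1 D12689 (iv D10262) D10260
def n12690 : Q := act 6 n10261
theorem D12690 : act 6 n10261 = n12690 := rfl
theorem F22269 : act 0 n12690 = n12398 := d5_1 D12690 (iv F22262) F22260
theorem F22270 : act 3 n12690 = n12411 := d17_1 D12690 (iv F22099) (iv F18117)
theorem F22271 : act 5 n12690 = n12685 := d20_1 D12690 (iv D12685) D12684 F22262 (iv F22106) (iv D10262) D10261
theorem F22272 : act 1 n11623 = n12690 := d24_14 (iv D12690) (iv D10261) (iv D5565) D5567 F8438 D10255 F18113 D10258 F18114 D12461 F21927 F22068 F20591 D11623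
def n12691 : Q := act 1 n10262
theorem D12691 : act 1 n10262 = n12691 := rfl
theorem F22273 : act 3 n12691 = n12557 := d7_2 (iv F18118) D12691 F22053
theorem F22274 : act 5 n12691 = n12379 := d9_2 (iv F22106) D12691 (iv D12379) (iv F17977) D12398
theorem F22275 : act 6 n12691 = n10266 := d10_2 D10262 D12691 (iv D10266) (iv D5567) D5565
def n12692 : Q := act 0 n10263
theorem D12692 : act 0 n10263 = n12692 := rfl
def n12693 : Q := act 3 n10263
theorem D12693 : act 3 n10263 = n12693 := rfl
theorem F22276 : act 1 n12693 = n10264 := d7_1 D12693 (iv D10264) D10263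
def n12694 : Q := act 5 n10263
theorem D12694 : act 5 n10263 = n12694 := rfl
def n12695 : Q := act 6 n10263
theorem D12695 : act 6 n10263 = n12695 := rfl
def n12696 : Q := act 4 n10264
theorem D12696 : act 4 n10264 = n12696 := rfl
theorem F22277 : act 0 n12696 = n10268 := d3_1 D12696 (iv D10268) (iv F18119)
def n12697 : Q := act 6 n10264
theorem D12697 : act 6 n10264 = n12697 := rfl
theorem F22278 : act 0 n12697 = n10269 := d5_1 D12697 (iv D10269) (iv F18119)
theorem F22279 : act 3 n12697 = n10265 := d17_1 D12697 (iv D10265) D10264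
theorem F22280 : act 5 n12697 = n12673 := d22_2 F22233 D12697 (iv D12673) (iv F22232)
def n12698 : Q := act 1 n10265
theorem D12698 : act 1 n10265 = n12698 := rfl
def n12699 : Q := act 2 n10266
theorem D12699 : act 2 n10266 = n12699 := rfl
def n12700 : Q := act 1 n10267
theorem D12700 : act 1 n10267 = n12700 := rfl
theorem F22281 : act 2 n12700 = n10312 := d6_2 D10267 D12700 (iv D10312) (iv D5651) (iv F8439)
def n12701 : Q := act 4 n10267
theorem D12701 : act 4 n10267 = n12701 := rfl
theorem F22282 : act 2 n12701 = n10268 := d12_1 D12701 (iv D10268) D10267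
def n12702 : Q := act 6 n10267
theorem D12702 : act 6 n10267 = n12702 := rfl
theorem F22283 : act 2 n12702 = n10269 := d14_1 D12702 (iv D10269) D10267
def n12703 : Q := act 6 n10268
theorem D12703 : act 6 n10268 = n12703 := rfl
theorem F22284 : act 4 n12703 = n10269 := d19_1 D12703 (iv D10269) D10268
def n12704 : Q := act 5 n10269
theorem D12704 : act 5 n10269 = n12704 := rfl
theorem F22285 : act 0 n12704 = n12673 := d4_1 D12704 (iv F22280) F22278
theorem F22286 : act 3 n12704 = n10270 := d16_1 D12704 (iv D10270) (iv F18125)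
theorem F22287 : act 6 n12704 = n12670 := d20_2 D10269 D12704 F22233 D12697 F22280 (iv D12673) F18110
def n12705 : Q := act 1 n10270
theorem D12705 : act 1 n10270 = n12705 := rfl
def n12706 : Q := act 0 n10271
theorem D12706 : act 0 n10271 = n12706 := rfl
theorem F22288 : act 3 n12706 = n12564 := d2_2 (iv F18129) D12706 (iv D12564)
theorem F22289 : act 5 n12706 = n11688 := d4_2 (iv F18130) D12706 (iv D11688)
def n12707 : Q := act 2 n10271
theorem D12707 : act 2 n10271 = n12707 := rfl
theorem F22290 : act 5 n12707 = n11689 := d13_2 (iv F18130) D12707 (iv D11689)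
def n12708 : Q := act 6 n10271
theorem D12708 : act 6 n10271 = n12708 := rfl
theorem F22291 : act 1 n12708 = n12668 := d10_1 D12708 (iv D12668) (iv D10251) (iv F8443) D10271
theorem F22292 : act 3 n12708 = n12566 := d17_1 D12708 (iv D12566) (iv F18129)
theorem F22293 : act 5 n12708 = n12453 := d22_2 (iv F18130) D12708 (iv F22083) (iv D11688)
theorem F22294 : act 5 n12438 = n12668 := d9_4 F22293 (iv D12453) F18005 D12438 (iv F22291)
def n12709 : Q := act 0 n10272
theorem D12709 : act 0 n10272 = n12709 := rfl
theorem F22295 : act 4 n12709 = n10273 := d3_2 (iv F18131) D12709 (iv D10273)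
def n12710 : Q := act 2 n10272
theorem D12710 : act 2 n10272 = n12710 := rfl
theorem F22296 : act 1 n12710 = n12710 := d6_1 D12710 (iv D12710) (iv D10272) F16203 D10272
theorem F22297 : act 4 n12710 = n10274 := d12_2 (iv F18131) D12710 (iv D10274)
def n12711 : Q := act 5 n10272
theorem D12711 : act 5 n10272 = n12711 := rfl
theorem F22299 : act 4 n12711 = n10275 := d18_1 D12711 (iv D10275) (iv F18131)
def n12712 : Q := act 1 n10273
theorem D12712 : act 1 n10273 = n12712 := rfl
theorem F22300 : act 3 n12712 = n10276 := d7_2 (iv F18132) D12712 (iv D10276)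
def n12713 : Q := act 2 n10273
theorem D12713 : act 2 n10273 = n12713 := rfl
theorem F22301 : act 0 n12713 = n10274 := d1_1 D12713 (iv D10274) D10273
def n12714 : Q := act 5 n10273
theorem D12714 : act 5 n10273 = n12714 := rfl
theorem F22302 : act 0 n12714 = n10275 := d4_1 D12714 (iv D10275) D10273
theorem F22303 : act 3 n12714 = n10278 := d16_1 D12714 (iv D10278) (iv F18132)
theorem F22304 : act 6 n12714 = n12544 := d22_1 D12714 (iv D12544) F18050 D10273
def n12715 : Q := act 3 n10274
theorem D12715 : act 3 n10274 = n12715 := rfl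
def n12716 : Q := act 5 n10274
theorem D12716 : act 5 n10274 = n12716 := rfl
theorem F22306 : act 2 n12716 = n10275 := d13_1 D12716 (iv D10275) D10274
def n12717 : Q := act 6 n10275
theorem D12717 : act 6 n10275 = n12717 := rfl
theorem F22307 : act 0 n12717 = n12544 := d5_1 D12717 (iv F22304) F22302
theorem F22308 : act 3 n12717 = n10281 := d17_1 D12717 (iv D10281) (iv F18135)
theorem F22309 : act 5 n12717 = n12542 := d20_1 D12717 F22041 D12714 F22304 (iv D12544) F18050 D10275
def n12718 : Q := act 0 n10276
theorem D12718 : act 0 n10276 = n12718 := rfl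
theorem F22310 : act 1 n12718 = n12718 := d0_2 D10276 D12718 (iv D12718) (iv D10276) (iv D5593) (iv D2694) F15221 D2694 D5593
def n12719 : Q := act 2 n10276
theorem D12719 : act 2 n10276 = n12719 := rfl
def n12720 : Q := act 6 n10276
theorem D12720 : act 6 n10276 = n12720 := rfl
def n12721 : Q := act 1 n10277
theorem D12721 : act 1 n10277 = n12721 := rfl
def n12722 : Q := act 3 n10277
theorem D12722 : act 3 n10277 = n12722 := rfl
theorem F22311 : act 0 n12722 = n10279 := d2_1 D12722 (iv D10279) (iv F18136)
def n12723 : Q := act 5 n10277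
theorem D12723 : act 5 n10277 = n12723 := rfl
theorem F22312 : act 0 n12723 = n10280 := d4_1 D12723 (iv D10280) (iv F18136)
theorem F22313 : act 2 n12723 = n10278 := d13_1 D12723 (iv D10278) D10277
theorem F22314 : act 6 n12723 = n12549 := d22_1 D12723 (iv D12549) F18056 (iv F18136)
def n12724 : Q := act 2 n10279
theorem D12724 : act 2 n10279 = n12724 := rfl
def n12725 : Q := act 4 n10279
theorem D12725 : act 4 n10279 = n12725 := rfl
theorem F22315 : act 1 n12725 = n10282 := d8_1 D12725 (iv D10282) (iv F18139)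
def n12726 : Q := act 5 n10279
theorem D12726 : act 5 n10279 = n12726 := rfl
theorem F22316 : act 1 n12726 = n11729 := d9_1 D12726 (iv D11729) F14350 (iv F17190) (iv F18139)
theorem F22317 : act 3 n12726 = n10280 := d16_1 D12726 (iv D10280) D10279
def n12727 : Q := act 6 n10280
theorem D12727 : act 6 n10280 = n12727 := rfl
theorem F22318 : act 0 n12727 = n12549 := d5_1 D12727 (iv F22314) F22312
theorem F22319 : act 2 n12727 = n10281 := d14_1 D12727 (iv D10281) (iv F18141)
theorem F22320 : act 5 n12727 = n12547 := d20_1 D12727 F22046 D12723 F22314 (iv D12549) F18056 D10280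
def n12728 : Q := act 1 n10281
theorem D12728 : act 1 n10281 = n12728 := rfl
theorem F22321 : act 6 n12728 = n12728 := d10_2 D10281 D12728 (iv D12728) (iv D10281) F16286
def n12729 : Q := act 1 n10283
theorem D12729 : act 1 n10283 = n12729 := rfl
def n12730 : Q := act 3 n10283
theorem D12730 : act 3 n10283 = n12730 := rfl
theorem F22322 : act 0 n12730 = n10285 := d2_1 D12730 (iv D10285) (iv F18147)
theorem F22323 : act 5 n12730 = n10285 := d16_2 (iv F18148) D12730 (iv D10285)
theorem F22324 : act 6 n12730 = n11435 := d17_2 (iv F18149) D12730 (iv D11435)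
def n12731 : Q := act 0 n10284
theorem D12731 : act 0 n10284 = n12731 := rfl
theorem F22325 : act 2 n12731 = n10286 := d1_2 (iv F18150) D12731 (iv D10286)
def n12732 : Q := act 3 n10284
theorem D12732 : act 3 n10284 = n12732 := rfl
theorem F22326 : act 1 n12732 = n10285 := d7_1 D12732 (iv D10285) D10284
def n12733 : Q := act 5 n10284
theorem D12733 : act 5 n10284 = n12733 := rfl
theorem F22327 : act 2 n12733 = n10288 := d13_1 D12733 (iv D10288) (iv F18150)
def n12734 : Q := act 6 n10284
theorem D12734 : act 6 n10284 = n12734 := rfl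
theorem F22328 : act 1 n12734 = n11401 := d10_1 D12734 F20199 F13622 (iv F17025) D10284
theorem F22329 : act 2 n12734 = n10289 := d14_1 D12734 (iv D10289) (iv F18150)
def n12735 : Q := act 2 n10285
theorem D12735 : act 2 n10285 = n12735 := rfl
theorem F22330 : act 6 n12735 = n11436 := d14_2 (iv F18151) D12735 (iv D11436)
def n12736 : Q := act 4 n10285
theorem D12736 : act 4 n10285 = n12736 := rfl
theorem F22331 : act 6 n12736 = n11437 := d19_2 (iv F18151) D12736 (iv D11437)
def n12737 : Q := act 1 n10286
theorem D12737 : act 1 n10286 = n12737 := rfl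
def n12738 : Q := act 3 n10286
theorem D12738 : act 3 n10286 = n12738 := rfl
theorem F22332 : act 0 n12738 = n10287 := d2_1 D12738 (iv D10287) D10286
def n12739 : Q := act 5 n10286
theorem D12739 : act 5 n10286 = n12739 := rfl
theorem F22333 : act 0 n12739 = n10288 := d4_1 D12739 (iv D10288) D10286
def n12740 : Q := act 6 n10286
theorem D12740 : act 6 n10286 = n12740 := rfl
theorem F22334 : act 0 n12740 = n10289 := d5_1 D12740 (iv D10289) D10286
def n12741 : Q := act 2 n10287
theorem D12741 : act 2 n10287 = n12741 := rfl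
def n12742 : Q := act 4 n10287
theorem D12742 : act 4 n10287 = n12742 := rfl
theorem F22335 : act 1 n12742 = n10290 := d8_1 D12742 (iv D10290) (iv F18152)
def n12743 : Q := act 5 n10287
theorem D12743 : act 5 n10287 = n12743 := rfl
theorem F22336 : act 3 n12743 = n10288 := d16_1 D12743 (iv D10288) D10287
def n12744 : Q := act 6 n10287
theorem D12744 : act 6 n10287 = n12744 := rfl
theorem F22337 : act 1 n12744 = n11398 := d10_1 D12744 (iv D11398) F13617 (iv F17187) (iv F18152)
theorem F22338 : act 3 n12744 = n10289 := d17_1 D12744 (iv D10289) D10287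
def n12745 : Q := act 6 n10288
theorem D12745 : act 6 n10288 = n12745 := rfl
theorem F22339 : act 5 n12745 = n12740 := d22_2 D10288 D12745 (iv D12740) (iv D10286)
def n12746 : Q := act 5 n10289
theorem D12746 : act 5 n10289 = n12746 := rfl
theorem F22340 : act 0 n12746 = n12745 := d4_1 D12746 F22339 F22334
theorem F22341 : act 6 n12746 = n12739 := d20_2 D10289 D12746 (iv D12739) D12740 (iv F22339) (iv D12745) (iv D10288)
def n12747 : Q := act 0 n10291
theorem D12747 : act 0 n10291 = n12747 := rfl
def n12748 : Q := act 4 n10291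
theorem D12748 : act 4 n10291 = n12748 := rfl
theorem F22342 : act 1 n12748 = n10292 := d8_1 D12748 (iv D10292) D10291
def n12749 : Q := act 5 n10291
theorem D12749 : act 5 n10291 = n12749 := rfl
def n12750 : Q := act 6 n10291
theorem D12750 : act 6 n10291 = n12750 := rfl
def n12751 : Q := act 3 n10292
theorem D12751 : act 3 n10292 = n12751 := rfl
def n12752 : Q := act 0 n10293
theorem D12752 : act 0 n10293 = n12752 := rfl
theorem F22343 : act 4 n12752 = n10294 := d3_2 (iv F18157) D12752 (iv D10294)
def n12753 : Q := act 2 n10293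
theorem D12753 : act 2 n10293 = n12753 := rfl
theorem F22344 : act 1 n12753 = n12753 := d6_1 D12753 (iv D12753) (iv D10293) F17417 D10293
theorem F22345 : act 4 n12753 = n10295 := d12_2 (iv F18157) D12753 (iv D10295)
def n12754 : Q := act 6 n10293
theorem D12754 : act 6 n10293 = n12754 := rfl
theorem F22347 : act 4 n12754 = n10296 := d19_1 D12754 (iv D10296) (iv F18157)
def n12755 : Q := act 1 n10294
theorem D12755 : act 1 n10294 = n12755 := rfl
theorem F22348 : act 3 n12755 = n10297 := d7_2 (iv F18158) D12755 (iv D10297)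
def n12756 : Q := act 2 n10294
theorem D12756 : act 2 n10294 = n12756 := rfl
theorem F22349 : act 0 n12756 = n10295 := d1_1 D12756 (iv D10295) D10294
def n12757 : Q := act 6 n10294
theorem D12757 : act 6 n10294 = n12757 := rfl
theorem F22351 : act 3 n12757 = n10299 := d17_1 D12757 (iv D10299) (iv F18158)
theorem F22352 : act 5 n12757 = n12655 := d22_2 F22214 D12757 (iv D12655) D12653
def n12758 : Q := act 3 n10295
theorem D12758 : act 3 n10295 = n12758 := rfl
def n12759 : Q := act 6 n10295
theorem D12759 : act 6 n10295 = n12759 := rfl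
theorem F22354 : act 2 n12759 = n10296 := d14_1 D12759 (iv D10296) D10295
def n12760 : Q := act 5 n10296
theorem D12760 : act 5 n10296 = n12760 := rfl
theorem F22356 : act 3 n12760 = n10302 := d16_1 D12760 (iv D10302) (iv F18161)
theorem F22357 : act 6 n12760 = n12653 := d20_2 D10296 D12760 F22214 D12757 F22352 (iv D12655) F18100
def n12761 : Q := act 0 n10297
theorem D12761 : act 0 n10297 = n12761 := rfl
theorem F22358 : act 1 n12761 = n12761 := d0_2 D10297 D12761 (iv D12761) (iv D10297) (iv D5636) (iv D2714) F16681 D2714 D5636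
def n12762 : Q := act 2 n10297
theorem D12762 : act 2 n10297 = n12762 := rfl
def n12763 : Q := act 5 n10297
theorem D12763 : act 5 n10297 = n12763 := rfl
def n12764 : Q := act 6 n10297
theorem D12764 : act 6 n10297 = n12764 := rfl
def n12765 : Q := act 1 n10298
theorem D12765 : act 1 n10298 = n12765 := rfl
def n12766 : Q := act 3 n10298
theorem D12766 : act 3 n10298 = n12766 := rfl
theorem F22359 : act 0 n12766 = n10300 := d2_1 D12766 (iv D10300) (iv F18162)
def n12767 : Q := act 6 n10298
theorem D12767 : act 6 n10298 = n12767 := rfl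
theorem F22360 : act 0 n12767 = n10301 := d5_1 D12767 (iv D10301) (iv F18162)
theorem F22361 : act 2 n12767 = n10299 := d14_1 D12767 (iv D10299) D10298
theorem F22362 : act 5 n12767 = n12660 := d22_2 F22219 D12767 (iv D12660) (iv F22218)
def n12768 : Q := act 1 n10299
theorem D12768 : act 1 n10299 = n12768 := rfl
def n12769 : Q := act 2 n10300
theorem D12769 : act 2 n10300 = n12769 := rfl
def n12770 : Q := act 4 n10300
theorem D12770 : act 4 n10300 = n12770 := rfl
theorem F22363 : act 1 n12770 = n10303 := d8_1 D12770 (iv D10303) (iv F18165)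
def n12771 : Q := act 6 n10300
theorem D12771 : act 6 n10300 = n12771 := rfl
theorem F22364 : act 1 n12771 = n11759 := d10_1 D12771 (iv D11759) F14385 (iv F16686) (iv F18165)
theorem F22365 : act 3 n12771 = n10301 := d17_1 D12771 (iv D10301) D10300
def n12772 : Q := act 5 n10301
theorem D12772 : act 5 n10301 = n12772 := rfl
theorem F22366 : act 0 n12772 = n12660 := d4_1 D12772 (iv F22362) F22360
theorem F22367 : act 2 n12772 = n10302 := d13_1 D12772 (iv D10302) (iv F18167)
theorem F22368 : act 6 n12772 = n12658 := d20_2 D10301 D12772 F22219 D12767 F22362 (iv D12660) F18106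
def n12773 : Q := act 1 n10302
theorem D12773 : act 1 n10302 = n12773 := rfl
theorem F22369 : act 5 n12773 = n12773 := d9_2 D10302 D12773 (iv D12773) (iv D10302) F17503
def n12774 : Q := act 1 n10304
theorem D12774 : act 1 n10304 = n12774 := rfl
theorem F22370 : act 2 n12774 = n12729 := d6_2 D10304 D12774 (iv D12729) (iv D10283) (iv F8532)
def n12775 : Q := act 3 n10304
theorem D12775 : act 3 n10304 = n12775 := rfl
theorem F22371 : act 0 n12775 = n10306 := d2_1 D12775 (iv D10306) (iv F18173)
theorem F22372 : act 5 n12775 = n11441 := d16_2 (iv F18174) D12775 (iv D11441)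
theorem F22373 : act 6 n12775 = n10306 := d17_2 (iv F18175) D12775 (iv D10306)
def n12776 : Q := act 0 n10305
theorem D12776 : act 0 n10305 = n12776 := rfl
theorem F22374 : act 2 n12776 = n10307 := d1_2 (iv F18176) D12776 (iv D10307)
def n12777 : Q := act 3 n10305
theorem D12777 : act 3 n10305 = n12777 := rfl
theorem F22375 : act 1 n12777 = n10306 := d7_1 D12777 (iv D10306) D10305
def n12778 : Q := act 5 n10305
theorem D12778 : act 5 n10305 = n12778 := rfl
theorem F22376 : act 1 n12778 = n11423 := d9_1 D12778 F20218 F13632 (iv F16838) D10305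
theorem F22377 : act 2 n12778 = n10309 := d13_1 D12778 (iv D10309) (iv F18176)
def n12779 : Q := act 6 n10305
theorem D12779 : act 6 n10305 = n12779 := rfl
theorem F22378 : act 2 n12779 = n10310 := d14_1 D12779 (iv D10310) (iv F18176)
def n12780 : Q := act 2 n10306
theorem D12780 : act 2 n10306 = n12780 := rfl
theorem F22379 : act 5 n12780 = n11442 := d13_2 (iv F18177) D12780 (iv D11442)
def n12781 : Q := act 4 n10306
theorem D12781 : act 4 n10306 = n12781 := rfl
theorem F22380 : act 5 n12781 = n11443 := d18_2 (iv F18177) D12781 (iv D11443)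
def n12782 : Q := act 1 n10307
theorem D12782 : act 1 n10307 = n12782 := rfl
def n12783 : Q := act 3 n10307
theorem D12783 : act 3 n10307 = n12783 := rfl
theorem F22381 : act 0 n12783 = n10308 := d2_1 D12783 (iv D10308) D10307
def n12784 : Q := act 5 n10307
theorem D12784 : act 5 n10307 = n12784 := rfl
theorem F22382 : act 0 n12784 = n10309 := d4_1 D12784 (iv D10309) D10307
def n12785 : Q := act 6 n10307
theorem D12785 : act 6 n10307 = n12785 := rfl
theorem F22383 : act 0 n12785 = n10310 := d5_1 D12785 (iv D10310) D10307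
def n12786 : Q := act 2 n10308
theorem D12786 : act 2 n10308 = n12786 := rfl
def n12787 : Q := act 4 n10308
theorem D12787 : act 4 n10308 = n12787 := rfl
theorem F22384 : act 1 n12787 = n10311 := d8_1 D12787 (iv D10311) (iv F18178)
def n12788 : Q := act 5 n10308
theorem D12788 : act 5 n10308 = n12788 := rfl
theorem F22385 : act 1 n12788 = n11420 := d9_1 D12788 (iv D11420) F13627 (iv F16840) (iv F18178)
theorem F22386 : act 3 n12788 = n10309 := d16_1 D12788 (iv D10309) D10308
def n12789 : Q := act 6 n10308
theorem D12789 : act 6 n10308 = n12789 := rfl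
theorem F22387 : act 3 n12789 = n10310 := d17_1 D12789 (iv D10310) D10308
def n12790 : Q := act 6 n10309
theorem D12790 : act 6 n10309 = n12790 := rfl
theorem F22388 : act 5 n12790 = n12785 := d22_2 D10309 D12790 (iv D12785) (iv D10307)
def n12791 : Q := act 5 n10310
theorem D12791 : act 5 n10310 = n12791 := rfl
theorem F22389 : act 0 n12791 = n12790 := d4_1 D12791 F22388 F22383
theorem F22390 : act 6 n12791 = n12784 := d20_2 D10310 D12791 (iv D12784) D12785 (iv F22388) (iv D12790) (iv D10309)
def n12792 : Q := act 0 n10312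
theorem D12792 : act 0 n10312 = n12792 := rfl
def n12793 : Q := act 4 n10312
theorem D12793 : act 4 n10312 = n12793 := rfl
theorem F22391 : act 1 n12793 = n10313 := d8_1 D12793 (iv D10313) D10312
def n12794 : Q := act 5 n10312
theorem D12794 : act 5 n10312 = n12794 := rfl
def n12795 : Q := act 6 n10312
theorem D12795 : act 6 n10312 = n12795 := rfl
def n12796 : Q := act 3 n10313
theorem D12796 : act 3 n10313 = n12796 := rfl
def n12797 : Q := act 0 n10314
theorem D12797 : act 0 n10314 = n12797 := rfl
theorem F22392 : act 2 n12797 = n12797 := d1_2 F18183 D12797 (iv D12797)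
def n12798 : Q := act 4 n10314
theorem D12798 : act 4 n10314 = n12798 := rfl
theorem F22393 : act 1 n12798 = n10315 := d8_1 D12798 (iv D10315) D10314
def n12799 : Q := act 5 n10314
theorem D12799 : act 5 n10314 = n12799 := rfl
theorem F22395 : act 1 n12799 = n11790 := d9_1 D12799 (iv D11790) (iv D9680) (iv F17194) D10314
theorem F22396 : act 2 n12799 = n12799 := d13_1 D12799 (iv D12799) F18183
def n12800 : Q := act 6 n10314
theorem D12800 : act 6 n10314 = n12800 := rfl
theorem F22397 : act 1 n12800 = n10333 := d10_1 D12800 (iv D10333) (iv D5703) (iv F8614) D10314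
theorem F22398 : act 2 n12800 = n12800 := d14_1 D12800 (iv D12800) F18183
def n12801 : Q := act 2 n10316
theorem D12801 : act 2 n10316 = n12801 := rfl
theorem F22399 : act 0 n12801 = n10319 := d1_1 D12801 (iv D10319) (iv F18188)
theorem F22400 : act 5 n12801 = n10319 := d13_2 (iv F18190) D12801 (iv D10319)
theorem F22401 : act 6 n12801 = n11453 := d14_2 (iv F18191) D12801 (iv D11453)
theorem F22402 : act 3 n12801 = n12735 := d21_1 D12801 (iv D12735) (iv D10285) (iv D5601) F4212 D2741 D5691 (iv F18188)
def n12802 : Q := act 4 n10316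
theorem D12802 : act 4 n10316 = n12802 := rfl
theorem F22403 : act 0 n12802 = n10320 := d3_1 D12802 (iv D10320) (iv F18188)
theorem F22404 : act 1 n12802 = n11178 := d8_1 D12802 F19805 (iv F18189)
theorem F22406 : act 5 n12802 = n10320 := d18_2 (iv F18190) D12802 (iv D10320)
def n12803 : Q := act 2 n10317
theorem D12803 : act 2 n10317 = n12803 := rfl
def n12804 : Q := act 4 n10317
theorem D12804 : act 4 n10317 = n12804 := rfl
theorem F22408 : act 1 n12804 = n10320 := d8_1 D12804 (iv D10320) (iv F18192)
theorem F22409 : act 3 n12804 = n10358 := d15_1 D12804 (iv D10358) (iv D5826) (iv F8628) D10317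
def n12805 : Q := act 5 n10317
theorem D12805 : act 5 n10317 = n12805 := rfl
theorem F22412 : act 3 n12805 = n10318 := d16_1 D12805 (iv D10318) D10317
theorem F22413 : act 6 n12805 = n10342 := d20_2 (iv F18249) D12805 F18243 (iv F18480) (iv F18481) (iv D10346) D10345
def n12806 : Q := act 1 n10319
theorem D12806 : act 1 n10319 = n12806 := rfl
def n12807 : Q := act 3 n10319
theorem D12807 : act 3 n10319 = n12807 := rfl
theorem F22414 : act 0 n12807 = n12735 := d2_1 D12807 (iv F22402) F22399
theorem F22415 : act 2 n12807 = n12730 := d11_1 D12807 (iv D12730) (iv D10283) F8479 D5688 D10316 D12801 F22402 (iv D12735) (iv D10285) (iv D5601) F4212 D2741 D5691 D10319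
theorem F22416 : act 5 n12807 = n12735 := d16_2 F22400 D12807 (iv F22402)
theorem F22417 : act 6 n12807 = n11456 := d17_2 (iv F18198) D12807 (iv D11456)
def n12808 : Q := act 4 n10319
theorem D12808 : act 4 n10319 = n12808 := rfl
theorem F22418 : act 2 n12808 = n10320 := d12_1 D12808 (iv D10320) D10319
theorem F22419 : act 6 n12808 = n11457 := d19_2 (iv F18198) D12808 (iv D11457)
def n12809 : Q := act 2 n10321
theorem D12809 : act 2 n10321 = n12809 := rfl
theorem F22420 : act 0 n12809 = n10323 := d1_1 D12809 (iv D10323) (iv F18201)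
theorem F22421 : act 6 n12809 = n10412 := d14_2 (iv F18203) D12809 (iv D10412)
def n12810 : Q := act 4 n10321
theorem D12810 : act 4 n10321 = n12810 := rfl
theorem F22422 : act 0 n12810 = n10324 := d3_1 D12810 (iv D10324) (iv F18201)
theorem F22425 : act 6 n12810 = n10411 := d19_2 (iv F18203) D12810 F18422
def n12811 : Q := act 5 n10321
theorem D12811 : act 5 n10321 = n12811 := rfl
theorem F22426 : act 0 n12811 = n10325 := d4_1 D12811 (iv D10325) (iv F18201)
theorem F22427 : act 1 n12811 = n11063 := d9_1 D12811 F19582 (iv D9878) (iv F17443) (iv F18202)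
theorem F22429 : act 6 n12811 = n10339 := d20_2 (iv F18203) D12811 F18237 (iv D10326) D10325 (iv F18402) F18401
def n12812 : Q := act 1 n10323
theorem D12812 : act 1 n10323 = n12812 := rfl
theorem F22430 : act 2 n12812 = n10327 := d6_2 D10323 D12812 (iv D10327) (iv D5698) (iv F8636)
def n12813 : Q := act 3 n10323
theorem D12813 : act 3 n10323 = n12813 := rfl
def n12814 : Q := act 4 n10323
theorem D12814 : act 4 n10323 = n12814 := rfl
theorem F22431 : act 2 n12814 = n10324 := d12_1 D12814 (iv D10324) D10323
def n12815 : Q := act 5 n10323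
theorem D12815 : act 5 n10323 = n12815 := rfl
theorem F22432 : act 2 n12815 = n10325 := d13_1 D12815 (iv D10325) D10323
def n12816 : Q := act 6 n10323
theorem D12816 : act 6 n10323 = n12816 := rfl
theorem F22433 : act 0 n12816 = n10412 := d5_1 D12816 (iv F22421) F22420
theorem F22434 : act 2 n12816 = n10326 := d14_1 D12816 (iv D10326) D10323
def n12818 : Q := act 6 n10324
theorem D12818 : act 6 n10324 = n12818 := rfl
theorem F22437 : act 0 n12818 = n10411 := d5_1 D12818 (iv F22425) F22422
theorem F22438 : act 1 n12818 = n10812 := d10_1 D12818 (iv D10812) F11556 (iv F17133) (iv F18209)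
def n12819 : Q := act 0 n10327
theorem D12819 : act 0 n10327 = n12819 := rfl
theorem F22441 : act 3 n12819 = n12747 := d2_2 (iv F18215) D12819 (iv D12747)
def n12820 : Q := act 4 n10327
theorem D12820 : act 4 n10327 = n12820 := rfl
theorem F22442 : act 1 n12820 = n10328 := d8_1 D12820 (iv D10328) D10327
def n12821 : Q := act 5 n10327
theorem D12821 : act 5 n10327 = n12821 := rfl
theorem F22443 : act 3 n12821 = n12749 := d16_1 D12821 (iv D12749) (iv F18215)
def n12822 : Q := act 6 n10327
theorem D12822 : act 6 n10327 = n12822 := rfl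
theorem F22444 : act 1 n12822 = n11448 := d10_1 D12822 (iv D11448) (iv D9149) (iv F17185) D10327
theorem F22445 : act 3 n12822 = n12750 := d17_1 D12822 (iv D12750) (iv F18215)
def n12823 : Q := act 3 n10328
theorem D12823 : act 3 n10328 = n12823 := rfl
theorem F22446 : act 0 n12823 = n10335 := d2_1 D12823 (iv D10335) (iv F18216)
theorem F22447 : act 4 n12823 = n12751 := d15_2 D10328 D12823 (iv D12751) (iv D10292) (iv F8640)
theorem F22448 : act 6 n12823 = n11450 := d17_2 (iv F18218) D12823 (iv D11450)
def n12824 : Q := act 1 n10329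
theorem D12824 : act 1 n10329 = n12824 := rfl
def n12825 : Q := act 3 n10329
theorem D12825 : act 3 n10329 = n12825 := rfl
theorem F22449 : act 0 n12825 = n10330 := d2_1 D12825 (iv D10330) D10329
def n12826 : Q := act 4 n10329
theorem D12826 : act 4 n10329 = n12826 := rfl
theorem F22450 : act 0 n12826 = n10331 := d3_1 D12826 (iv D10331) D10329
theorem F22451 : act 2 n12826 = n10414 := d12_1 D12826 (iv D10414) (iv F18219)
def n12827 : Q := act 5 n10329
theorem D12827 : act 5 n10329 = n12827 := rfl
theorem F22452 : act 0 n12827 = n10332 := d4_1 D12827 (iv D10332) D10329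
theorem F22453 : act 2 n12827 = n10415 := d13_1 D12827 (iv D10415) (iv F18219)
def n12828 : Q := act 6 n10329
theorem D12828 : act 6 n10329 = n12828 := rfl
theorem F22454 : act 0 n12828 = n10333 := d5_1 D12828 (iv D10333) D10329
theorem F22455 : act 2 n12828 = n10416 := d14_1 D12828 (iv D10416) (iv F18219)
def n12829 : Q := act 2 n10330
theorem D12829 : act 2 n10330 = n12829 := rfl
theorem F22456 : act 1 n12829 = n12741 := d6_1 D12829 (iv D12741) F18152 (iv F8652) (iv F18220)
def n12830 : Q := act 4 n10330
theorem D12830 : act 4 n10330 = n12830 := rfl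
theorem F22457 : act 1 n12830 = n10334 := d8_1 D12830 (iv D10334) (iv F18220)
def n12831 : Q := act 5 n10330
theorem D12831 : act 5 n10330 = n12831 := rfl
theorem F22458 : act 3 n12831 = n10332 := d16_1 D12831 (iv D10332) D10330
def n12832 : Q := act 6 n10330
theorem D12832 : act 6 n10330 = n12832 := rfl
theorem F22459 : act 3 n12832 = n10333 := d17_1 D12832 (iv D10333) D10330
def n12833 : Q := act 3 n10331
theorem D12833 : act 3 n10331 = n12833 := rfl
theorem F22460 : act 1 n12833 = n10335 := d7_1 D12833 (iv D10335) (iv F18221)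
def n12834 : Q := act 5 n10331
theorem D12834 : act 5 n10331 = n12834 := rfl
theorem F22461 : act 2 n12834 = n10418 := d13_1 D12834 (iv D10418) (iv F18222)
theorem F22462 : act 4 n12834 = n10332 := d18_1 D12834 (iv D10332) D10331
def n12835 : Q := act 6 n10331
theorem D12835 : act 6 n10331 = n12835 := rfl
theorem F22463 : act 2 n12835 = n10419 := d14_1 D12835 (iv D10419) (iv F18222)
theorem F22464 : act 4 n12835 = n10333 := d19_1 D12835 (iv D10333) D10331
def n12836 : Q := act 6 n10332
theorem D12836 : act 6 n10332 = n12836 := rfl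
theorem F22465 : act 2 n12836 = n10421 := d14_1 D12836 (iv D10421) (iv F18223)
theorem F22466 : act 5 n12836 = n12828 := d22_2 D10332 D12836 (iv D12828) (iv D10329)
def n12837 : Q := act 5 n10333
theorem D12837 : act 5 n10333 = n12837 := rfl
theorem F22467 : act 0 n12837 = n12836 := d4_1 D12837 F22466 F22454
theorem F22468 : act 2 n12837 = n10422 := d13_1 D12837 (iv D10422) (iv F18224)
theorem F22469 : act 6 n12837 = n12827 := d20_2 D10333 D12837 (iv D12827) D12828 (iv F22466) (iv D12836) (iv D10332)
def n12838 : Q := act 3 n10334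
theorem D12838 : act 3 n10334 = n12838 := rfl
theorem F22470 : act 0 n12838 = n12751 := d2_1 D12838 (iv D12751) (iv F18225)
theorem F22471 : act 4 n12838 = n10335 := d15_2 D10334 D12838 (iv D10335) (iv D5705) D5704
def n12839 : Q := act 0 n10336
theorem D12839 : act 0 n10336 = n12839 := rfl
theorem F22472 : act 2 n12839 = n12839 := d1_2 F18227 D12839 (iv D12839)
def n12840 : Q := act 4 n10336
theorem D12840 : act 4 n10336 = n12840 := rfl
theorem F22473 : act 1 n12840 = n10337 := d8_1 D12840 (iv D10337) D10336
def n12841 : Q := act 5 n10336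
theorem D12841 : act 5 n10336 = n12841 := rfl
theorem F22475 : act 1 n12841 = n10352 := d9_1 D12841 (iv D10352) (iv D5758) (iv F8732) D10336
theorem F22476 : act 2 n12841 = n12841 := d13_1 D12841 (iv D12841) F18227
def n12842 : Q := act 6 n10336
theorem D12842 : act 6 n10336 = n12842 := rfl
def n12843 : Q := act 2 n10338
theorem D12843 : act 2 n10338 = n12843 := rfl
theorem F22479 : act 0 n12843 = n10340 := d1_1 D12843 (iv D10340) (iv F18232)
theorem F22480 : act 5 n12843 = n11467 := d13_2 (iv F18234) D12843 (iv D11467)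
theorem F22481 : act 6 n12843 = n10340 := d14_2 (iv F18235) D12843 (iv D10340)
theorem F22482 : act 3 n12843 = n12780 := d21_1 D12843 (iv D12780) (iv D10306) (iv D5644) F4238 D2771 D5746 (iv F18232)
def n12844 : Q := act 4 n10338
theorem D12844 : act 4 n10338 = n12844 := rfl
theorem F22483 : act 0 n12844 = n10341 := d3_1 D12844 (iv D10341) (iv F18232)
theorem F22484 : act 1 n12844 = n11151 := d8_1 D12844 F19769 (iv F18233)
def n12845 : Q := act 2 n10339
theorem D12845 : act 2 n10339 = n12845 := rfl
theorem F22488 : act 5 n12845 = n12816 := d13_2 (iv F18237) D12845 F22434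
def n12846 : Q := act 4 n10339
theorem D12846 : act 4 n10339 = n12846 := rfl
theorem F22489 : act 1 n12846 = n10341 := d8_1 D12846 (iv D10341) (iv F18236)
def n12847 : Q := act 1 n10340
theorem D12847 : act 1 n10340 = n12847 := rfl
def n12848 : Q := act 3 n10340
theorem D12848 : act 3 n10340 = n12848 := rfl
theorem F22492 : act 0 n12848 = n12780 := d2_1 D12848 (iv F22482) F22479
theorem F22493 : act 2 n12848 = n12775 := d11_1 D12848 (iv D12775) (iv D10304) F8533 D5743 D10338 D12843 F22482 (iv D12780) (iv D10306) (iv D5644) F4238 D2771 D5746 D10340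
theorem F22494 : act 5 n12848 = n11470 := d16_2 (iv F18238) D12848 (iv D11470)
theorem F22495 : act 6 n12848 = n12780 := d17_2 F22481 D12848 (iv F22482)
def n12849 : Q := act 4 n10340
theorem D12849 : act 4 n10340 = n12849 := rfl
theorem F22496 : act 2 n12849 = n10341 := d12_1 D12849 (iv D10341) D10340
def n12850 : Q := act 2 n10342
theorem D12850 : act 2 n10342 = n12850 := rfl
theorem F22498 : act 0 n12850 = n10343 := d1_1 D12850 (iv D10343) (iv F18241)
theorem F22499 : act 5 n12850 = n10459 := d13_2 (iv F18243) D12850 (iv D10459)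
def n12851 : Q := act 4 n10342
theorem D12851 : act 4 n10342 = n12851 := rfl
theorem F22500 : act 0 n12851 = n10344 := d3_1 D12851 (iv D10344) (iv F18241)
theorem F22502 : act 3 n12851 = n10364 := d15_1 D12851 (iv D10364) F17290 (iv F8752) D10342
theorem F22503 : act 5 n12851 = n10458 := d18_2 (iv F18243) D12851 F18501
def n12852 : Q := act 1 n10343
theorem D12852 : act 1 n10343 = n12852 := rfl
theorem F22504 : act 2 n12852 = n10347 := d6_2 D10343 D12852 (iv D10347) (iv D5753) (iv F8753)
def n12853 : Q := act 3 n10343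
theorem D12853 : act 3 n10343 = n12853 := rfl
def n12854 : Q := act 4 n10343
theorem D12854 : act 4 n10343 = n12854 := rfl
theorem F22505 : act 2 n12854 = n10344 := d12_1 D12854 (iv D10344) D10343
def n12855 : Q := act 5 n10343
theorem D12855 : act 5 n10343 = n12855 := rfl
theorem F22506 : act 0 n12855 = n10459 := d4_1 D12855 (iv F22499) F22498
theorem F22507 : act 2 n12855 = n10345 := d13_1 D12855 (iv D10345) D10343
theorem F22508 : act 6 n12803 = n12855 := d14_0 F22507 (iv F18249) D12803
def n12856 : Q := act 6 n10343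
theorem D12856 : act 6 n10343 = n12856 := rfl
theorem F22509 : act 2 n12856 = n10346 := d14_1 D12856 (iv D10346) D10343
def n12857 : Q := act 5 n10344
theorem D12857 : act 5 n10344 = n12857 := rfl
theorem F22512 : act 3 n12857 = n10380 := d16_1 D12857 (iv D10380) (iv F18245)
theorem F22513 : act 4 n12857 = n10345 := d18_1 D12857 (iv D10345) D10344
theorem F22514 : act 6 n12804 = n12857 := d19_0 F22513 (iv F18249) D12804
def n12858 : Q := act 6 n10344
theorem D12858 : act 6 n10344 = n12858 := rfl
def n12859 : Q := act 0 n10347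
theorem D12859 : act 0 n10347 = n12859 := rfl
theorem F22517 : act 3 n12859 = n12792 := d2_2 (iv F18251) D12859 (iv D12792)
def n12860 : Q := act 4 n10347
theorem D12860 : act 4 n10347 = n12860 := rfl
theorem F22518 : act 1 n12860 = n10348 := d8_1 D12860 (iv D10348) D10347
def n12861 : Q := act 5 n10347
theorem D12861 : act 5 n10347 = n12861 := rfl
theorem F22519 : act 1 n12861 = n11461 := d9_1 D12861 (iv D11461) (iv D9179) (iv F16635) D10347
theorem F22520 : act 3 n12861 = n12794 := d16_1 D12861 (iv D12794) (iv F18251)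
def n12862 : Q := act 6 n10347
theorem D12862 : act 6 n10347 = n12862 := rfl
theorem F22521 : act 3 n12862 = n12795 := d17_1 D12862 (iv D12795) (iv F18251)
def n12863 : Q := act 3 n10348
theorem D12863 : act 3 n10348 = n12863 := rfl
theorem F22522 : act 0 n12863 = n10355 := d2_1 D12863 (iv D10355) (iv F18252)
theorem F22523 : act 4 n12863 = n12796 := d15_2 D10348 D12863 (iv D12796) (iv D10313) (iv F8757)
theorem F22524 : act 5 n12863 = n11464 := d16_2 (iv F18254) D12863 (iv D11464)
def n12864 : Q := act 1 n10349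
theorem D12864 : act 1 n10349 = n12864 := rfl
def n12865 : Q := act 3 n10349
theorem D12865 : act 3 n10349 = n12865 := rfl
theorem F22525 : act 0 n12865 = n10350 := d2_1 D12865 (iv D10350) D10349
def n12866 : Q := act 4 n10349
theorem D12866 : act 4 n10349 = n12866 := rfl
theorem F22526 : act 0 n12866 = n10351 := d3_1 D12866 (iv D10351) D10349
def n12867 : Q := act 5 n10349
theorem D12867 : act 5 n10349 = n12867 := rfl
theorem F22528 : act 0 n12867 = n10352 := d4_1 D12867 (iv D10352) D10349
theorem F22529 : act 2 n12867 = n10462 := d13_1 D12867 (iv D10462) (iv F18255)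
def n12868 : Q := act 6 n10349
theorem D12868 : act 6 n10349 = n12868 := rfl
theorem F22530 : act 0 n12868 = n10353 := d5_1 D12868 (iv D10353) D10349
def n12869 : Q := act 2 n10350
theorem D12869 : act 2 n10350 = n12869 := rfl
theorem F22532 : act 1 n12869 = n12786 := d6_1 D12869 (iv D12786) F18178 (iv F8769) (iv F18256)
def n12870 : Q := act 4 n10350
theorem D12870 : act 4 n10350 = n12870 := rfl
theorem F22533 : act 1 n12870 = n10354 := d8_1 D12870 (iv D10354) (iv F18256)
def n12871 : Q := act 5 n10350
theorem D12871 : act 5 n10350 = n12871 := rfl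
theorem F22534 : act 3 n12871 = n10352 := d16_1 D12871 (iv D10352) D10350
def n12872 : Q := act 6 n10350
theorem D12872 : act 6 n10350 = n12872 := rfl
theorem F22535 : act 3 n12872 = n10353 := d17_1 D12872 (iv D10353) D10350
def n12873 : Q := act 3 n10351
theorem D12873 : act 3 n10351 = n12873 := rfl
theorem F22536 : act 1 n12873 = n10355 := d7_1 D12873 (iv D10355) (iv F18257)
def n12874 : Q := act 5 n10351
theorem D12874 : act 5 n10351 = n12874 := rfl
def n12875 : Q := act 6 n10351
theorem D12875 : act 6 n10351 = n12875 := rfl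
def n12876 : Q := act 6 n10352
theorem D12876 : act 6 n10352 = n12876 := rfl
theorem F22542 : act 5 n12876 = n12868 := d22_2 D10352 D12876 (iv D12868) (iv D10349)
def n12877 : Q := act 5 n10353
theorem D12877 : act 5 n10353 = n12877 := rfl
theorem F22545 : act 6 n12877 = n12867 := d20_2 D10353 D12877 (iv D12867) D12868 (iv F22542) (iv D12876) (iv D10352)
def n12878 : Q := act 3 n10354
theorem D12878 : act 3 n10354 = n12878 := rfl
theorem F22546 : act 0 n12878 = n12796 := d2_1 D12878 (iv D12796) (iv F18261)
theorem F22547 : act 4 n12878 = n10355 := d15_2 D10354 D12878 (iv D10355) (iv D5760) D5759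
def n12879 : Q := act 4 n10356
theorem D12879 : act 4 n10356 = n12879 := rfl
theorem F22548 : act 0 n12879 = n10361 := d3_1 D12879 (iv D10361) (iv F18263)
theorem F22550 : act 5 n12879 = n10361 := d18_2 (iv F18264) D12879 (iv D10361)
def n12883 : Q := act 5 n10362
theorem D12883 : act 5 n10362 = n12883 := rfl
theorem F22562 : act 0 n12883 = n10365 := d4_1 D12883 (iv D10365) (iv F18283)
theorem F22564 : act 2 n12883 = n10380 := d13_1 D12883 (iv D10380) (iv F18285)
def n12884 : Q := act 3 n10367
theorem D12884 : act 3 n10367 = n12884 := rfl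
theorem F22567 : act 0 n12884 = n10369 := d2_1 D12884 (iv D10369) (iv F18301)
theorem F22568 : act 4 n12884 = n11794 := d15_2 D10367 D12884 F20839 F14459 (iv F17123)
def n12885 : Q := act 6 n10367
theorem D12885 : act 6 n10367 = n12885 := rfl
theorem F22569 : act 0 n12885 = n10371 := d5_1 D12885 (iv D10371) (iv F18301)
def n12886 : Q := act 1 n10368
theorem D12886 : act 1 n10368 = n12886 := rfl
theorem F22574 : act 6 n12886 = n10517 := d10_2 D10368 D12886 F18607 (iv F12787) (iv F17122)
def n12888 : Q := act 5 n10369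
theorem D12888 : act 5 n10369 = n12888 := rfl
def n12889 : Q := act 6 n10369
theorem D12889 : act 6 n10369 = n12889 := rfl
theorem F22580 : act 1 n12889 = n11785 := d10_1 D12889 (iv D11785) F14441 (iv F17132) (iv F18306)
def n12890 : Q := act 6 n10370
theorem D12890 : act 6 n10370 = n12890 := rfl
theorem F22586 : act 5 n12890 = n12885 := d22_2 D10370 D12890 (iv D12885) F18301
def n12891 : Q := act 5 n10371
theorem D12891 : act 5 n10371 = n12891 := rfl
theorem F22591 : act 6 n12891 = n11481 := d20_2 D10371 D12891 F20319 D12885 (iv F22586) (iv D12890) (iv D10370)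
def n12892 : Q := act 1 n10374
theorem D12892 : act 1 n10374 = n12892 := rfl
theorem F22592 : act 4 n12892 = n11793 := d8_2 (iv F18324) D12892 (iv D11793)
def n12893 : Q := act 3 n10374
theorem D12893 : act 3 n10374 = n12893 := rfl
theorem F22596 : act 6 n12893 = n11792 := d17_2 (iv F18326) D12893 (iv D11792)
def n12905 : Q := act 1 n10389
theorem D12905 : act 1 n10389 = n12905 := rfl
theorem F22633 : act 4 n12905 = n11836 := d8_2 (iv F18375) D12905 (iv D11836)
def n12906 : Q := act 3 n10389
theorem D12906 : act 3 n10389 = n12906 := rfl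
theorem F22634 : act 0 n12906 = n11858 := d2_1 D12906 F20967 (iv F18374)
theorem F22635 : act 2 n12906 = n12863 := d11_1 D12906 (iv D12863) F18253 F8759 (iv F16499) (iv F7208) (iv F14590) (iv F20967) F20966 (iv D10355) F8770 F4351 (iv F4511) D5966 D10389
theorem F22636 : act 5 n12906 = n11835 := d16_2 (iv F18376) D12906 (iv D11835)
theorem F22637 : act 6 n12906 = n12863 := d17_2 (iv F18377) D12906 (iv D12863)
def n12907 : Q := act 1 n10390
theorem D12907 : act 1 n10390 = n12907 := rfl
theorem F22638 : act 2 n12907 = n11925 := d6_2 D10390 D12907 (iv D11925) F17567 F17434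
def n12908 : Q := act 3 n10390
theorem D12908 : act 3 n10390 = n12908 := rfl
theorem F22639 : act 0 n12908 = n10395 := d2_1 D12908 (iv D10395) (iv F18378)
theorem F22640 : act 5 n12908 = n11926 := d16_2 (iv F18379) D12908 (iv D11926)
theorem F22641 : act 2 n12908 = n11926 := d21_2 D10390 D12908 (iv D11926) (iv D9882) F7427 F3711 D2897 (iv F9078)
def n12909 : Q := act 4 n10390
theorem D12909 : act 4 n10390 = n12909 := rfl
theorem F22642 : act 0 n12909 = n10396 := d3_1 D12909 (iv D10396) (iv F18378)
theorem F22644 : act 5 n12909 = n11917 := d18_2 (iv F18379) D12909 F21053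
def n12911 : Q := act 6 n10391
theorem D12911 : act 6 n10391 = n12911 := rfl
def n12912 : Q := act 1 n10392
theorem D12912 : act 1 n10392 = n12912 := rfl
theorem F22651 : act 6 n12912 = n10432 := d10_2 D10392 D12912 (iv D10432) (iv F17446) F17434
def n12913 : Q := act 2 n10393
theorem D12913 : act 2 n10393 = n12913 := rfl
theorem F22653 : act 1 n12913 = n11787 := d6_1 D12913 F20826 (iv D10403) F17409 D10393
theorem F22654 : act 4 n12913 = n10490 := d12_2 (iv F18386) D12913 (iv D10490)
theorem F22655 : act 6 n12913 = n10436 := d14_2 (iv F18387) D12913 (iv D10436)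
def n12914 : Q := act 0 n10394
theorem D12914 : act 0 n10394 = n12914 := rfl
theorem F22657 : act 2 n12914 = n10404 := d1_2 (iv F18388) D12914 (iv D10404)
def n12915 : Q := act 3 n10394
theorem D12915 : act 3 n10394 = n12915 := rfl
theorem F22658 : act 1 n12915 = n10395 := d7_1 D12915 (iv D10395) D10394
def n12916 : Q := act 4 n10394
theorem D12916 : act 4 n10394 = n12916 := rfl
theorem F22659 : act 1 n12916 = n10396 := d8_1 D12916 (iv D10396) D10394
theorem F22660 : act 2 n12916 = n10405 := d12_1 D12916 (iv D10405) (iv F18388)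
def n12918 : Q := act 6 n10394
theorem D12918 : act 6 n10394 = n12918 := rfl
theorem F22662 : act 2 n12918 = n10407 := d14_1 D12918 (iv D10407) (iv F18388)
def n12919 : Q := act 2 n10395
theorem D12919 : act 2 n10395 = n12919 := rfl
theorem F22663 : act 0 n12919 = n11926 := d1_1 D12919 (iv F22641) F22639
theorem F22664 : act 3 n12919 = n10397 := d11_2 D10395 D12919 F18391 F9085 (iv F16983) D5983 D10390 D12908 F22641 (iv D11926) (iv D9882) F7427 F3711 D2897 D5986
def n12921 : Q := act 6 n10395
theorem D12921 : act 6 n10395 = n12921 := rfl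
def n12924 : Q := act 6 n10396
theorem D12924 : act 6 n10396 = n12924 := rfl
def n12926 : Q := act 6 n10397
theorem D12926 : act 6 n10397 = n12926 := rfl
theorem F22672 : act 0 n12926 = n11927 := d5_1 D12926 (iv D11927) (iv F18390)
def n12927 : Q := act 1 n10398
theorem D12927 : act 1 n10398 = n12927 := rfl
def n12928 : Q := act 1 n10399
theorem D12928 : act 1 n10399 = n12928 := rfl
theorem F22676 : act 0 n12928 = n12846 := d0_1 D12928 F22489 (iv F22483) F22484 (iv D11151) (iv D8525) (iv F7421) D9877 (iv F18393)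
theorem F22679 : act 5 n12928 = n10411 := d9_2 D10399 D12928 (iv D10411) (iv D5996) (iv F9083)
def n12929 : Q := act 6 n10399
theorem D12929 : act 6 n10399 = n12929 := rfl
theorem F22682 : act 3 n12929 = n10500 := d17_1 D12929 (iv D10500) (iv F18394)
theorem F22683 : act 4 n12929 = n10402 := d19_1 D12929 (iv D10402) (iv F18395)
theorem F22684 : act 5 n12929 = n12911 := d20_1 D12929 (iv D12911) F18383 D11918 F21057 (iv D10400) D10399
def n12930 : Q := act 2 n10401
theorem D12930 : act 2 n10401 = n12930 := rfl
theorem F22686 : act 5 n12930 = n10412 := d13_2 (iv F18401) D12930 (iv D10412)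
theorem F22687 : act 6 n12930 = n12815 := d14_2 (iv F18402) D12930 F22432
def n12931 : Q := act 1 n10402
theorem D12931 : act 1 n10402 = n12931 := rfl
theorem F22688 : act 3 n12931 = n10403 := d7_2 (iv F18404) D12931 (iv D10403)
theorem F22689 : act 6 n12931 = n11796 := d10_2 D10402 D12931 F20842 (iv F18402) (iv D10401)
def n12932 : Q := act 1 n10404
theorem D12932 : act 1 n10404 = n12932 := rfl
theorem F22690 : act 3 n12932 = n10413 := d7_2 (iv F18408) D12932 (iv D10413)
def n12933 : Q := act 4 n10404
theorem D12933 : act 4 n10404 = n12933 := rfl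
def n12934 : Q := act 5 n10404
theorem D12934 : act 5 n10404 = n12934 := rfl
theorem F22693 : act 3 n12934 = n10415 := d16_1 D12934 (iv D10415) (iv F18408)
def n12935 : Q := act 6 n10404
theorem D12935 : act 6 n10404 = n12935 := rfl
theorem F22695 : act 3 n12935 = n10416 := d17_1 D12935 (iv D10416) (iv F18408)
def n12937 : Q := act 5 n10405
theorem D12937 : act 5 n10405 = n12937 := rfl
theorem F22698 : act 4 n12937 = n10406 := d18_1 D12937 (iv D10406) D10405
def n12938 : Q := act 6 n10405
theorem D12938 : act 6 n10405 = n12938 := rfl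
theorem F22700 : act 4 n12938 = n10407 := d19_1 D12938 (iv D10407) D10405
def n12939 : Q := act 1 n10406
theorem D12939 : act 1 n10406 = n12939 := rfl
theorem F22701 : act 3 n12939 = n10420 := d7_2 (iv F18410) D12939 (iv D10420)
theorem F22702 : act 5 n12939 = n10410 := d9_2 D10406 D12939 (iv D10410) (iv D5995) D5993
def n12940 : Q := act 6 n10406
theorem D12940 : act 6 n10406 = n12940 := rfl
theorem F22703 : act 3 n12940 = n10421 := d17_1 D12940 (iv D10421) (iv F18410)
theorem F22704 : act 5 n12940 = n12935 := d22_2 D10406 D12940 (iv D12935) (iv D10404)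
def n12941 : Q := act 5 n10407
theorem D12941 : act 5 n10407 = n12941 := rfl
theorem F22706 : act 3 n12941 = n10422 := d16_1 D12941 (iv D10422) (iv F18412)
theorem F22707 : act 6 n12941 = n12934 := d20_2 D10407 D12941 (iv D12934) D12935 (iv F22704) (iv D12940) (iv D10406)
def n12943 : Q := act 1 n10409
theorem D12943 : act 1 n10409 = n12943 := rfl
theorem F22712 : act 4 n12943 = n10410 := d8_2 (iv F18418) D12943 (iv D10410)
def n12944 : Q := act 0 n10410
theorem D12944 : act 0 n10410 = n12944 := rfl
theorem F22713 : act 3 n12944 = n10426 := d2_2 (iv F18420) D12944 (iv D10426)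
def n12945 : Q := act 2 n10410
theorem D12945 : act 2 n10410 = n12945 := rfl
theorem F22714 : act 1 n12945 = n10412 := d6_1 D12945 (iv D10412) (iv D5997) (iv F9100) D10410
def n12946 : Q := act 6 n10410
theorem D12946 : act 6 n10410 = n12946 := rfl
theorem F22715 : act 1 n12946 = n10428 := d10_1 D12946 (iv D10428) (iv D6006) (iv F9102) D10410
theorem F22716 : act 3 n12946 = n10428 := d17_1 D12946 (iv D10428) (iv F18420)
def n12947 : Q := act 2 n10411
theorem D12947 : act 2 n10411 = n12947 := rfl
theorem F22717 : act 4 n12947 = n10412 := d12_2 (iv F18422) D12947 (iv D10412)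
def n12948 : Q := act 3 n10412
theorem D12948 : act 3 n10412 = n12948 := rfl
def n12949 : Q := act 0 n10413
theorem D12949 : act 0 n10413 = n12949 := rfl
def n12950 : Q := act 2 n10413
theorem D12950 : act 2 n10413 = n12950 := rfl
def n12951 : Q := act 4 n10413
theorem D12951 : act 4 n10413 = n12951 := rfl
theorem F22718 : act 1 n12951 = n10414 := d8_1 D12951 (iv D10414) D10413
def n12952 : Q := act 5 n10413
theorem D12952 : act 5 n10413 = n12952 := rfl
def n12953 : Q := act 6 n10413
theorem D12953 : act 6 n10413 = n12953 := rfl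
def n12955 : Q := act 5 n10414
theorem D12955 : act 5 n10414 = n12955 := rfl
theorem F22721 : act 4 n12955 = n10415 := d18_1 D12955 (iv D10415) D10414
def n12956 : Q := act 6 n10414
theorem D12956 : act 6 n10414 = n12956 := rfl
theorem F22723 : act 4 n12956 = n10416 := d19_1 D12956 (iv D10416) D10414
def n12957 : Q := act 1 n10415
theorem D12957 : act 1 n10415 = n12957 := rfl
def n12958 : Q := act 1 n10416
theorem D12958 : act 1 n10416 = n12958 := rfl
def n12962 : Q := act 1 n10418
theorem D12962 : act 1 n10418 = n12962 := rfl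
theorem F22727 : act 4 n12962 = n10420 := d8_2 (iv F18427) D12962 (iv D10420)
theorem F22728 : act 5 n12962 = n10425 := d9_2 D10418 D12962 (iv D10425) (iv D6005) (iv F9111)
def n12963 : Q := act 6 n10418
theorem D12963 : act 6 n10418 = n12963 := rfl
theorem F22729 : act 4 n12963 = n10421 := d19_1 D12963 (iv D10421) (iv F18427)
def n12965 : Q := act 0 n10420
theorem D12965 : act 0 n10420 = n12965 := rfl
theorem F22734 : act 5 n12965 = n10426 := d4_2 (iv F18430) D12965 (iv D10426)
def n12966 : Q := act 2 n10420
theorem D12966 : act 2 n10420 = n12966 := rfl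
theorem F22735 : act 5 n12966 = n10427 := d13_2 (iv F18430) D12966 (iv D10427)
def n12967 : Q := act 6 n10420
theorem D12967 : act 6 n10420 = n12967 := rfl
def n12968 : Q := act 1 n10421
theorem D12968 : act 1 n10421 = n12968 := rfl
def n12969 : Q := act 1 n10422
theorem D12969 : act 1 n10422 = n12969 := rfl
def n12973 : Q := act 0 n10425
theorem D12973 : act 0 n10425 = n12973 := rfl
theorem F22741 : act 4 n12973 = n10426 := d3_2 (iv F18437) D12973 (iv D10426)
def n12974 : Q := act 2 n10425
theorem D12974 : act 2 n10425 = n12974 := rfl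
theorem F22742 : act 1 n12974 = n10430 := d6_1 D12974 (iv D10430) (iv D6007) (iv F9114) D10425
theorem F22743 : act 4 n12974 = n10427 := d12_2 (iv F18437) D12974 (iv D10427)
def n12975 : Q := act 6 n10425
theorem D12975 : act 6 n10425 = n12975 := rfl
theorem F22744 : act 4 n12975 = n10428 := d19_1 D12975 (iv D10428) (iv F18437)
def n12976 : Q := act 1 n10426
theorem D12976 : act 1 n10426 = n12976 := rfl
def n12977 : Q := act 2 n10426
theorem D12977 : act 2 n10426 = n12977 := rfl
theorem F22745 : act 0 n12977 = n10427 := d1_1 D12977 (iv D10427) D10426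
def n12978 : Q := act 6 n10426
theorem D12978 : act 6 n10426 = n12978 := rfl
theorem F22746 : act 0 n12978 = n10428 := d5_1 D12978 (iv D10428) D10426
theorem F22747 : act 5 n12978 = n12967 := d22_2 F22734 D12978 (iv D12967) D12965
def n12979 : Q := act 3 n10427
theorem D12979 : act 3 n10427 = n12979 := rfl
theorem F22748 : act 1 n12979 = n10434 := d7_1 D12979 (iv D10434) (iv F18438)
def n12980 : Q := act 6 n10427
theorem D12980 : act 6 n10427 = n12980 := rfl
theorem F22749 : act 2 n12980 = n10428 := d14_1 D12980 (iv D10428) D10427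
def n12981 : Q := act 5 n10428
theorem D12981 : act 5 n10428 = n12981 := rfl
theorem F22750 : act 0 n12981 = n12967 := d4_1 D12981 (iv F22747) F22746
theorem F22751 : act 6 n12981 = n12965 := d20_2 D10428 D12981 F22734 D12978 F22747 (iv D12967) F18430
def n12982 : Q := act 1 n10429
theorem D12982 : act 1 n10429 = n12982 := rfl
theorem F22753 : act 4 n12982 = n10432 := d8_2 (iv F18440) D12982 (iv D10432)
def n12983 : Q := act 2 n10429
theorem D12983 : act 2 n10429 = n12983 := rfl
theorem F22754 : act 0 n12983 = n10430 := d1_1 D12983 (iv D10430) D10429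
theorem F22755 : act 4 n12983 = n10433 := d12_2 (iv F18440) D12983 (iv D10433)
def n12984 : Q := act 3 n10430
theorem D12984 : act 3 n10430 = n12984 := rfl
def n12985 : Q := act 6 n10430
theorem D12985 : act 6 n10430 = n12985 := rfl
theorem F22759 : act 4 n12985 = n10435 := d19_1 D12985 (iv D10435) (iv F18442)
theorem F22760 : act 5 n11914 = n12985 := d22_0 (iv D12985) (iv F20890) F20891 (iv F21049)
def n12986 : Q := act 2 n10432
theorem D12986 : act 2 n10432 = n12986 := rfl
def n12987 : Q := act 1 n10433
theorem D12987 : act 1 n10433 = n12987 := rfl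
def n12988 : Q := act 4 n10434
theorem D12988 : act 4 n10434 = n12988 := rfl
def n12989 : Q := act 6 n10434
theorem D12989 : act 6 n10434 = n12989 := rfl
theorem F22761 : act 0 n12989 = n11924 := d5_1 D12989 F21146 F21144
theorem F22762 : act 3 n12989 = n10435 := d17_1 D12989 (iv D10435) D10434
theorem F22763 : act 5 n11921 = n12989 := d22_0 (iv D12989) (iv F20895) F20896 (iv F21059)
def n12990 : Q := act 1 n10435
theorem D12990 : act 1 n10435 = n12990 := rfl
def n12991 : Q := act 3 n10436
theorem D12991 : act 3 n10436 = n12991 := rfl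
theorem F22765 : act 1 n12991 = n11065 := d7_1 D12991 F19585 (iv F18454)
theorem F22766 : act 5 n12991 = n11066 := d16_2 (iv F18456) D12991 F19587
def n12992 : Q := act 1 n10437
theorem D12992 : act 1 n10437 = n12992 := rfl
theorem F22767 : act 2 n12992 = n11986 := d6_2 D10437 D12992 (iv D11986) F17614 (iv F15942)
def n12993 : Q := act 3 n10437
theorem D12993 : act 3 n10437 = n12993 := rfl
theorem F22770 : act 2 n12993 = n11987 := d21_2 D10437 D12993 (iv D11987) (iv D9915) F7494 F3736 D2912 (iv F9130)
def n12997 : Q := act 1 n10439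
theorem D12997 : act 1 n10439 = n12997 := rfl
theorem F22780 : act 5 n12997 = n10479 := d9_2 D10439 D12997 (iv D10479) F17486 (iv F15942)
def n12999 : Q := act 0 n10441
theorem D12999 : act 0 n10441 = n12999 := rfl
theorem F22786 : act 2 n12999 = n10451 := d1_2 (iv F18467) D12999 (iv D10451)
def n13000 : Q := act 3 n10441
theorem D13000 : act 3 n10441 = n13000 := rfl
def n13002 : Q := act 5 n10441
theorem D13002 : act 5 n10441 = n13002 := rfl
theorem F22790 : act 2 n13002 = n10453 := d13_1 D13002 (iv D10453) (iv F18467)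
def n13013 : Q := act 1 n10447
theorem D13013 : act 1 n10447 = n13013 := rfl
theorem F22808 : act 6 n13013 = n10458 := d10_2 D10447 D13013 (iv D10458) (iv D6028) (iv F9135)
theorem F22809 : act 5 n12858 = n13013 := d24_1 D12858 (iv D13013) (iv D10447) D10446 F18472 (iv F21140) (iv D11979) (iv D9910) (iv D4910) (iv D2364) (iv F3595) (iv F6777) (iv F16521) (iv F18244)
def n13015 : Q := act 2 n10448
theorem D13015 : act 2 n10448 = n13015 := rfl
theorem F22814 : act 0 n13015 = n12803 := d1_1 D13015 (iv D12803) (iv F18478)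
theorem F22815 : act 5 n13015 = n12856 := d13_2 F18481 D13015 F22509
theorem F22816 : act 6 n13015 = n10459 := d14_2 (iv F18480) D13015 (iv D10459)
def n13017 : Q := act 1 n10451
theorem D13017 : act 1 n10451 = n13017 := rfl
theorem F22819 : act 3 n13017 = n10460 := d7_2 (iv F18487) D13017 (iv D10460)
def n13025 : Q := act 1 n10454
theorem D13025 : act 1 n10454 = n13025 := rfl
theorem F22832 : act 3 n13025 = n10468 := d7_2 (iv F18491) D13025 (iv D10468)
theorem F22833 : act 6 n13025 = n10457 := d10_2 D10454 D13025 (iv D10457) (iv D6027) D6025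
def n13028 : Q := act 1 n10456
theorem D13028 : act 1 n10456 = n13028 := rfl
theorem F22841 : act 4 n13028 = n10457 := d8_2 (iv F18497) D13028 (iv D10457)
def n13029 : Q := act 0 n10457
theorem D13029 : act 0 n10457 = n13029 := rfl
theorem F22842 : act 3 n13029 = n10473 := d2_2 (iv F18499) D13029 (iv D10473)
def n13030 : Q := act 2 n10457
theorem D13030 : act 2 n10457 = n13030 := rfl
theorem F22843 : act 1 n13030 = n10459 := d6_1 D13030 (iv D10459) (iv D6029) (iv F9153) D10457
def n13031 : Q := act 5 n10457
theorem D13031 : act 5 n10457 = n13031 := rfl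
theorem F22844 : act 1 n13031 = n10475 := d9_1 D13031 (iv D10475) (iv D6038) (iv F9155) D10457
theorem F22845 : act 3 n13031 = n10475 := d16_1 D13031 (iv D10475) (iv F18499)
def n13032 : Q := act 2 n10458
theorem D13032 : act 2 n10458 = n13032 := rfl
theorem F22846 : act 4 n13032 = n10459 := d12_2 (iv F18501) D13032 (iv D10459)
def n13033 : Q := act 3 n10459
theorem D13033 : act 3 n10459 = n13033 := rfl
def n13034 : Q := act 0 n10460
theorem D13034 : act 0 n10460 = n13034 := rfl
def n13035 : Q := act 2 n10460
theorem D13035 : act 2 n10460 = n13035 := rfl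
def n13036 : Q := act 4 n10460
theorem D13036 : act 4 n10460 = n13036 := rfl
theorem F22847 : act 1 n13036 = n10461 := d8_1 D13036 (iv D10461) D10460
def n13037 : Q := act 5 n10460
theorem D13037 : act 5 n10460 = n13037 := rfl
def n13038 : Q := act 6 n10460
theorem D13038 : act 6 n10460 = n13038 := rfl
def n13042 : Q := act 1 n10462
theorem D13042 : act 1 n10462 = n13042 := rfl
def n13043 : Q := act 1 n10463
theorem D13043 : act 1 n10463 = n13043 := rfl
def n13048 : Q := act 1 n10466
theorem D13048 : act 1 n10466 = n13048 := rfl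
theorem F22858 : act 4 n13048 = n10468 := d8_2 (iv F18508) D13048 (iv D10468)
theorem F22859 : act 6 n13048 = n10472 := d10_2 D10466 D13048 (iv D10472) (iv D6037) (iv F9166)
def n13051 : Q := act 0 n10468
theorem D13051 : act 0 n10468 = n13051 := rfl
theorem F22864 : act 6 n13051 = n10473 := d5_2 (iv F18510) D13051 (iv D10473)
def n13052 : Q := act 2 n10468
theorem D13052 : act 2 n10468 = n13052 := rfl
theorem F22865 : act 6 n13052 = n10474 := d14_2 (iv F18510) D13052 (iv D10474)
def n13053 : Q := act 5 n10468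
theorem D13053 : act 5 n10468 = n13053 := rfl
def n13054 : Q := act 1 n10469
theorem D13054 : act 1 n10469 = n13054 := rfl
def n13058 : Q := act 0 n10472
theorem D13058 : act 0 n10472 = n13058 := rfl
theorem F22870 : act 4 n13058 = n10473 := d3_2 (iv F18516) D13058 (iv D10473)
def n13059 : Q := act 2 n10472
theorem D13059 : act 2 n10472 = n13059 := rfl
theorem F22871 : act 1 n13059 = n10477 := d6_1 D13059 (iv D10477) (iv D6039) (iv F9169) D10472
theorem F22872 : act 4 n13059 = n10474 := d12_2 (iv F18516) D13059 (iv D10474)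
def n13060 : Q := act 5 n10472
theorem D13060 : act 5 n10472 = n13060 := rfl
theorem F22873 : act 4 n13060 = n10475 := d18_1 D13060 (iv D10475) (iv F18516)
def n13061 : Q := act 1 n10473
theorem D13061 : act 1 n10473 = n13061 := rfl
def n13062 : Q := act 2 n10473
theorem D13062 : act 2 n10473 = n13062 := rfl
theorem F22874 : act 0 n13062 = n10474 := d1_1 D13062 (iv D10474) D10473
def n13063 : Q := act 5 n10473
theorem D13063 : act 5 n10473 = n13063 := rfl
theorem F22875 : act 0 n13063 = n10475 := d4_1 D13063 (iv D10475) D10473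
theorem F22876 : act 6 n13063 = n13053 := d22_1 D13063 (iv D13053) F18510 D10473
def n13064 : Q := act 3 n10474
theorem D13064 : act 3 n10474 = n13064 := rfl
theorem F22877 : act 1 n13064 = n10481 := d7_1 D13064 (iv D10481) (iv F18517)
def n13065 : Q := act 5 n10474
theorem D13065 : act 5 n10474 = n13065 := rfl
theorem F22878 : act 2 n13065 = n10475 := d13_1 D13065 (iv D10475) D10474
def n13066 : Q := act 6 n10475
theorem D13066 : act 6 n10475 = n13066 := rfl
theorem F22879 : act 0 n13066 = n13053 := d5_1 D13066 (iv F22876) F22875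
theorem F22880 : act 5 n13066 = n13051 := d20_1 D13066 F22864 D13063 F22876 (iv D13053) F18510 D10475
def n13068 : Q := act 2 n10476
theorem D13068 : act 2 n10476 = n13068 := rfl
theorem F22884 : act 4 n13068 = n10480 := d12_2 (iv F18519) D13068 (iv D10480)
theorem F22885 : act 5 n13068 = n11977 := d13_2 (iv F18520) D13068 F21134
def n13069 : Q := act 3 n10477
theorem D13069 : act 3 n10477 = n13069 := rfl
def n13070 : Q := act 5 n10477
theorem D13070 : act 5 n10477 = n13070 := rfl
theorem F22887 : act 2 n13070 = n10478 := d13_1 D13070 (iv D10478) D10477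
theorem F22888 : act 4 n13070 = n10482 := d18_1 D13070 (iv D10482) (iv F18521)
def n13071 : Q := act 2 n10479
theorem D13071 : act 2 n10479 = n13071 := rfl
def n13072 : Q := act 1 n10480
theorem D13072 : act 1 n10480 = n13072 := rfl
def n13073 : Q := act 4 n10481
theorem D13073 : act 4 n10481 = n13073 := rfl
def n13074 : Q := act 5 n10481
theorem D13074 : act 5 n10481 = n13074 := rfl
theorem F22890 : act 0 n13074 = n11985 := d4_1 D13074 (iv F21149) F21061
theorem F22891 : act 2 n13074 = n12989 := d13_1 D13074 (iv F22763) F21060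
theorem F22892 : act 3 n13074 = n10482 := d16_1 D13074 (iv D10482) D10481
theorem F22893 : act 6 n13074 = n11982 := d22_3 (iv F20982) F20983 D13074 F21142
def n13075 : Q := act 1 n10482
theorem D13075 : act 1 n10482 = n13075 := rfl
def n13078 : Q := act 4 n10485
theorem D13078 : act 4 n10485 = n13078 := rfl
def n13079 : Q := act 6 n10485
theorem D13079 : act 6 n10485 = n13079 := rfl
theorem F22906 : act 2 n13079 = n11992 := d14_1 D13079 (iv D11992) (iv F18542)
def n13093 : Q := act 6 n10495
theorem D13093 : act 6 n10495 = n13093 := rfl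
theorem F22936 : act 2 n13093 = n10500 := d14_1 D13093 (iv D10500) (iv F18561)
def n13118 : Q := act 4 n10517
theorem D13118 : act 4 n10517 = n13118 := rfl
theorem F22985 : act 1 n13118 = n11110 := d8_1 D13118 F19689 (iv F18607)
theorem F22986 : act 5 n13118 = n11111 := d18_2 (iv F18608) D13118 F19691
def n13283 : Q := act 5 n10633
theorem D13283 : act 5 n10633 = n13283 := rfl
theorem F23333 : act 0 n13283 = n10634 := d4_1 D13283 (iv D10634) D10633
theorem F23334 : act 2 n13283 = n10647 := d13_1 D13283 (iv D10647) (iv F18869)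
theorem F23335 : act 4 n13283 = n10638 := d18_1 D13283 (iv D10638) (iv F18870)
def n13284 : Q := act 6 n10633
theorem D13284 : act 6 n10633 = n13284 := rfl
theorem F23336 : act 0 n13284 = n10635 := d5_1 D13284 (iv D10635) D10633
theorem F23337 : act 2 n13284 = n10648 := d14_1 D13284 (iv D10648) (iv F18869)
theorem F23338 : act 4 n13284 = n10639 := d19_1 D13284 (iv D10639) (iv F18870)
def n13285 : Q := act 6 n10634
theorem D13285 : act 6 n10634 = n13285 := rfl
theorem F23339 : act 2 n13285 = n10653 := d14_1 D13285 (iv D10653) (iv F18872)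
theorem F23340 : act 4 n13285 = n10643 := d19_1 D13285 (iv D10643) (iv F18873)
theorem F23341 : act 5 n13285 = n13284 := d22_2 D10634 D13285 (iv D13284) (iv D10633)
def n13286 : Q := act 5 n10635
theorem D13286 : act 5 n10635 = n13286 := rfl
theorem F23342 : act 0 n13286 = n13285 := d4_1 D13286 F23341 F23336
theorem F23343 : act 2 n13286 = n10655 := d13_1 D13286 (iv D10655) (iv F18875)
theorem F23344 : act 4 n13286 = n10644 := d18_1 D13286 (iv D10644) (iv F18876)
theorem F23345 : act 6 n13286 = n13283 := d20_2 D10635 D13286 (iv D13283) D13284 (iv F23341) (iv D13285) (iv D10634)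
def n13287 : Q := act 2 n10636
theorem D13287 : act 2 n10636 = n13287 := rfl
theorem F23346 : act 0 n13287 = n10686 := d1_1 D13287 (iv F21254) F21252
theorem F23347 : act 1 n13287 = n10663 := d6_1 D13287 (iv D10663) (iv D6857) (iv F10127) D10636
theorem F23348 : act 4 n13287 = n10702 := d12_2 (iv F21243) D13287 (iv F21242)
theorem F23349 : act 3 n10735 = n13287 := d15_5 F23348 (iv D10702) F11384 D7734 D10735
def n13288 : Q := act 5 n10636
theorem D13288 : act 5 n10636 = n13288 := rfl
def n13289 : Q := act 6 n10636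
theorem D13289 : act 6 n10636 = n13289 := rfl
def n13290 : Q := act 5 n10637
theorem D13290 : act 5 n10637 = n13290 := rfl
theorem F23350 : act 0 n13290 = n10641 := d4_1 D13290 (iv D10641) (iv F18877)
theorem F23351 : act 3 n13290 = n10638 := d16_1 D13290 (iv D10638) D10637
def n13291 : Q := act 6 n10637
theorem D13291 : act 6 n10637 = n13291 := rfl
theorem F23352 : act 0 n13291 = n10642 := d5_1 D13291 (iv D10642) (iv F18877)
theorem F23353 : act 3 n13291 = n10639 := d17_1 D13291 (iv D10639) D10637
def n13292 : Q := act 1 n10638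
theorem D13292 : act 1 n10638 = n13292 := rfl
def n13293 : Q := act 1 n10639
theorem D13293 : act 1 n10639 = n13293 := rfl
def n13294 : Q := act 5 n10640
theorem D13294 : act 5 n10640 = n13294 := rfl
theorem F23354 : act 2 n13294 = n10641 := d13_1 D13294 (iv D10641) D10640
def n13295 : Q := act 6 n10640
theorem D13295 : act 6 n10640 = n13295 := rfl
theorem F23355 : act 2 n13295 = n10642 := d14_1 D13295 (iv D10642) D10640
def n13296 : Q := act 6 n10641
theorem D13296 : act 6 n10641 = n13296 := rfl
theorem F23356 : act 3 n13296 = n10643 := d17_1 D13296 (iv D10643) (iv F18884)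
theorem F23357 : act 5 n13296 = n13291 := d22_2 D10641 D13296 (iv D13291) F18877
def n13297 : Q := act 5 n10642
theorem D13297 : act 5 n10642 = n13297 := rfl
theorem F23358 : act 0 n13297 = n13296 := d4_1 D13297 F23357 F23352
theorem F23359 : act 3 n13297 = n10644 := d16_1 D13297 (iv D10644) (iv F18886)
theorem F23360 : act 6 n13297 = n13290 := d20_2 D10642 D13297 (iv D13290) D13291 (iv F23357) (iv D13296) (iv D10641)
def n13298 : Q := act 1 n10643
theorem D13298 : act 1 n10643 = n13298 := rfl
theorem F23361 : act 6 n13298 = n13298 := d10_2 D10643 D13298 (iv D13298) (iv D10643) F16109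
def n13299 : Q := act 1 n10644
theorem D13299 : act 1 n10644 = n13299 := rfl
theorem F23362 : act 5 n13299 = n13299 := d9_2 D10644 D13299 (iv D13299) (iv D10644) F17224
def n13300 : Q := act 0 n10645
theorem D13300 : act 0 n10645 = n13300 := rfl
theorem F23363 : act 1 n13300 = n10830 := d0_2 D10645 D13300 (iv D10830) (iv D7995) (iv D3826) (iv D1842) (iv F2624) D3280 D6803
theorem F23364 : act 4 n13300 = n10662 := d3_2 (iv F18892) D13300 (iv D10662)
theorem F23365 : act 2 n10701 = n13300 := d12_3 F23364 F19073 (iv F19008)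
def n13301 : Q := act 2 n10645
theorem D13301 : act 2 n10645 = n13301 := rfl
theorem F23366 : act 0 n13301 = n10701 := d1_1 D13301 F23365 (iv D13300)
theorem F23367 : act 1 n13301 = n10702 := d6_1 D13301 (iv F21242) F21241 F18869 D10645
theorem F23368 : act 4 n13301 = n10663 := d12_2 (iv F18892) D13301 (iv D10663)
theorem F23369 : act 3 n10701 = n13301 := d7_0 F23367 (iv D10702) D10701
def n13302 : Q := act 3 n10645
theorem D13302 : act 3 n10645 = n13302 := rfl
theorem F23370 : act 1 n13302 = n10646 := d7_1 D13302 (iv D10646) D10645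
theorem F23371 : act 4 n13302 = n10831 := d15_2 (iv F18892) D13302 (iv D10831) F11933 (iv F10300)
theorem F23372 : act 2 n13302 = n11498 := d25_9 (iv F3899) D5142 (iv F17701) (iv D7996) (iv F11383) D10701 F23369 (iv D13301) D13302 (iv D11498) F16042 (iv D9305) (iv D4504) (iv F6559) F16035 (iv D2069) (iv D1016) (iv D514) F531 F530 D272 D536 D1064 F1841 (iv F3441) F3442 (iv D1210) F1135 D1210 D2485 F3907 D5150 (iv F17699) (iv D9958) (iv D5145) (iv F7818) (iv D5142) D5141 D9947 (iv F17700) F11385 (iv D3673) (iv D1773) (iv D880) (iv F1560) F15407 D1757 D3640 (iv F16016) F16015 (iv D7595) F5589 (iv F3348) (iv D2104) (iv D1032) (iv D521) F536 (iv D135) F128 F72 (iv F128) (iv F266) D265 D521 D1032 D2104 D4385 F6695 F15605 (iv F6695) (iv F16022) (iv F16029) (iv D4375) F3343 F1881 F1194 D1285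
def n13303 : Q := act 5 n10645
theorem D13303 : act 5 n10645 = n13303 := rfl
theorem F23373 : act 4 n13303 = n10664 := d18_1 D13303 (iv D10664) (iv F18892)
def n13304 : Q := act 6 n10645
theorem D13304 : act 6 n10645 = n13304 := rfl
theorem F23374 : act 4 n13304 = n10665 := d19_1 D13304 (iv D10665) (iv F18892)
def n13305 : Q := act 5 n10646
theorem D13305 : act 5 n10646 = n13305 := rfl
theorem F23375 : act 0 n13305 = n10650 := d4_1 D13305 (iv D10650) (iv F18893)
theorem F23376 : act 2 n13305 = n11492 := d13_1 D13305 (iv D11492) (iv F18895)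
theorem F23377 : act 3 n13305 = n10647 := d16_1 D13305 (iv D10647) D10646
theorem F23378 : act 4 n13305 = n10834 := d18_1 D13305 (iv D10834) (iv F18894)
def n13306 : Q := act 6 n10646
theorem D13306 : act 6 n10646 = n13306 := rfl
theorem F23379 : act 0 n13306 = n10651 := d5_1 D13306 (iv D10651) (iv F18893)
theorem F23380 : act 2 n13306 = n11493 := d14_1 D13306 (iv D11493) (iv F18895)
theorem F23381 : act 3 n13306 = n10648 := d17_1 D13306 (iv D10648) D10646
theorem F23382 : act 4 n13306 = n10835 := d19_1 D13306 (iv D10835) (iv F18894)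
def n13307 : Q := act 1 n10647
theorem D13307 : act 1 n10647 = n13307 := rfl
theorem F23383 : act 4 n13307 = n10666 := d8_2 (iv F18897) D13307 (iv D10666)
def n13308 : Q := act 1 n10648
theorem D13308 : act 1 n10648 = n13308 := rfl
theorem F23384 : act 4 n13308 = n10667 := d8_2 (iv F18899) D13308 (iv D10667)
def n13309 : Q := act 5 n10649
theorem D13309 : act 5 n10649 = n13309 := rfl
theorem F23385 : act 0 n13309 = n11492 := d4_1 D13309 (iv D11492) (iv F18900)
theorem F23386 : act 2 n13309 = n10650 := d13_1 D13309 (iv D10650) D10649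
theorem F23387 : act 3 n13309 = n11490 := d16_1 D13309 (iv D11490) (iv F18903)
theorem F23388 : act 4 n13309 = n10838 := d18_1 D13309 (iv D10838) (iv F18902)
def n13310 : Q := act 6 n10649
theorem D13310 : act 6 n10649 = n13310 := rfl
theorem F23389 : act 0 n13310 = n11493 := d5_1 D13310 (iv D11493) (iv F18900)
theorem F23390 : act 2 n13310 = n10651 := d14_1 D13310 (iv D10651) D10649
theorem F23391 : act 3 n13310 = n11491 := d17_1 D13310 (iv D11491) (iv F18903)
theorem F23392 : act 4 n13310 = n10839 := d19_1 D13310 (iv D10839) (iv F18902)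
def n13311 : Q := act 1 n10650
theorem D13311 : act 1 n10650 = n13311 := rfl
theorem F23393 : act 3 n13311 = n10652 := d7_2 (iv F18904) D13311 (iv D10652)
theorem F23394 : act 4 n13311 = n10840 := d8_2 (iv F18905) D13311 (iv D10840)
theorem F23395 : act 5 n13311 = n10656 := d9_2 D10650 D13311 (iv D10656) (iv D6807) (iv F10227)
def n13312 : Q := act 6 n10650
theorem D13312 : act 6 n10650 = n13312 := rfl
theorem F23396 : act 3 n13312 = n10653 := d17_1 D13312 (iv D10653) (iv F18904)
theorem F23397 : act 4 n13312 = n10841 := d19_1 D13312 (iv D10841) (iv F18905)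
theorem F23398 : act 5 n13312 = n13306 := d22_2 D10650 D13312 (iv D13306) F18893
def n13313 : Q := act 1 n10651
theorem D13313 : act 1 n10651 = n13313 := rfl
theorem F23399 : act 3 n13313 = n10654 := d7_2 (iv F18906) D13313 (iv D10654)
theorem F23400 : act 4 n13313 = n10842 := d8_2 (iv F18907) D13313 (iv D10842)
theorem F23401 : act 6 n13313 = n10657 := d10_2 D10651 D13313 (iv D10657) (iv D6808) (iv F10227)
def n13314 : Q := act 5 n10651
theorem D13314 : act 5 n10651 = n13314 := rfl
theorem F23402 : act 0 n13314 = n13312 := d4_1 D13314 F23398 F23379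
theorem F23403 : act 3 n13314 = n10655 := d16_1 D13314 (iv D10655) (iv F18906)
theorem F23404 : act 4 n13314 = n10843 := d18_1 D13314 (iv D10843) (iv F18907)
theorem F23405 : act 6 n13314 = n13305 := d20_2 D10651 D13314 (iv D13305) D13306 (iv F23398) (iv D13312) (iv D10650)
def n13315 : Q := act 0 n10652
theorem D13315 : act 0 n10652 = n13315 := rfl
theorem F23406 : act 2 n13315 = n13315 := d1_2 F18908 D13315 (iv D13315)
theorem F23407 : act 4 n13315 = n10668 := d3_2 (iv F18909) D13315 (iv D10668)
theorem F23408 : act 5 n13315 = n10658 := d4_2 (iv F18910) D13315 (iv D10658)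
def n13316 : Q := act 6 n10652
theorem D13316 : act 6 n10652 = n13316 := rfl
theorem F23409 : act 2 n13316 = n13316 := d14_1 D13316 (iv D13316) F18908
theorem F23410 : act 4 n13316 = n10669 := d19_1 D13316 (iv D10669) (iv F18909)
def n13317 : Q := act 1 n10653
theorem D13317 : act 1 n10653 = n13317 := rfl
theorem F23411 : act 4 n13317 = n10670 := d8_2 (iv F18911) D13317 (iv D10670)
def n13318 : Q := act 0 n10654
theorem D13318 : act 0 n10654 = n13318 := rfl
theorem F23412 : act 2 n13318 = n13318 := d1_2 F18913 D13318 (iv D13318)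
theorem F23413 : act 4 n13318 = n10671 := d3_2 (iv F18914) D13318 (iv D10671)
theorem F23414 : act 6 n13318 = n10660 := d5_2 (iv F18915) D13318 (iv D10660)
def n13319 : Q := act 5 n10654
theorem D13319 : act 5 n10654 = n13319 := rfl
theorem F23415 : act 2 n13319 = n13319 := d13_1 D13319 (iv D13319) F18913
theorem F23416 : act 4 n13319 = n10672 := d18_1 D13319 (iv D10672) (iv F18914)
def n13320 : Q := act 1 n10655
theorem D13320 : act 1 n10655 = n13320 := rfl
theorem F23417 : act 4 n13320 = n10673 := d8_2 (iv F18917) D13320 (iv D10673)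
def n13321 : Q := act 0 n10656
theorem D13321 : act 0 n10656 = n13321 := rfl
theorem F23418 : act 3 n13321 = n10658 := d2_2 (iv F18919) D13321 (iv D10658)
theorem F23419 : act 4 n13321 = n10852 := d3_2 (iv F18920) D13321 (iv D10852)
theorem F23420 : act 2 n11537 = n13321 := d12_3 F23419 F21541 (iv F20439)
def n13322 : Q := act 2 n10656
theorem D13322 : act 2 n10656 = n13322 := rfl
theorem F23421 : act 0 n13322 = n11537 := d1_1 D13322 F23420 (iv D13321)
theorem F23422 : act 1 n13322 = n10853 := d6_1 D13322 (iv D10853) (iv D8006) (iv F15665) D10656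
theorem F23423 : act 4 n13322 = n10853 := d12_2 (iv F18920) D13322 (iv D10853)
theorem F23424 : act 3 n13322 = n11549 := d21_1 D13322 (iv F20470) (iv F20438) F23420 F23418 F18923 (iv F23418) (iv D13321)
def n13323 : Q := act 6 n10656
theorem D13323 : act 6 n10656 = n13323 := rfl
theorem F23425 : act 3 n13323 = n10659 := d17_1 D13323 (iv D10659) (iv F18919)
theorem F23426 : act 4 n13323 = n10854 := d19_1 D13323 (iv D10854) (iv F18920)
def n13324 : Q := act 0 n10657
theorem D13324 : act 0 n10657 = n13324 := rfl
theorem F23427 : act 3 n13324 = n10660 := d2_2 (iv F18921) D13324 (iv D10660)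
theorem F23428 : act 4 n13324 = n10856 := d3_2 (iv F18922) D13324 (iv D10856)
theorem F23429 : act 2 n11543 = n13324 := d12_3 F23428 F21630 (iv F20454)
theorem E7000 : n11563 = n11562 := ((c21_9 (iv D11563) (iv F20453) F23429 F23427 F18927 (iv F23427) (iv F23429) F20453 D11562)).symm
theorem F23430 : act 2 n11562 = n9337 := (sb E7000 (iv D11563))
theorem E7001 : n9588 = n9587 := (((F20493).symm.trans (sb E7000 F20494))).symm
theorem E7002 : n11691 = n4640 := ((((iv D9587)).symm.trans (sb E7001 (iv F20704)))).symm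
theorem E7003 : n11694 = n5548 := (((F14318).symm.trans (sb E7001 D11694))).symm
theorem E7005 : n11696 = n11692 := (((D11692).symm.trans (sb E7001 D11696))).symm
theorem E7006 : n11697 = n11693 := (((D11693).symm.trans (sb E7001 D11697))).symm
theorem F23431 : act 2 n4640 = n9587 := (sb E7002 (iv D11691))
theorem E7007 : n10220 = n9591 := ((D10220).symm.trans (sb E7003 F20709))
theorem F23432 : act 2 n11692 = n9589 := (sb E7005 F20710)
theorem F23433 : act 2 n11693 = n9590 := (sb E7006 F20711)
theorem E7008 : n11701 = n5549 := ((D11701).symm.trans (sb E7007 F18073))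
theorem F23434 : act 2 n9591 = n5548 := (sb E7007 (iv D10220))
theorem E7010 : n12602 = n11702 := (((D11702).symm.trans (sb E7007 D12602))).symm
theorem E7011 : n12244 = n11566 := ((((iv F20497)).symm.trans (sb E7007 (iv F21589)))).symm
theorem E7012 : n12603 = n11703 := (((D11703).symm.trans (sb E7007 D12603))).symm
theorem E7013 : n12604 = n11704 := (((D11704).symm.trans (sb E7007 D12604))).symm
theorem F23435 : act 0 n5549 = n9591 := (sb E7008 (iv D11701))
theorem F23436 : act 0 n11702 = n10224 := (sb E7010 F22134)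
theorem F23437 : act 0 n11566 = n10043 := (sb E7011 F21588)
theorem F23438 : act 2 n11566 = n10042 := (sb E7011 (iv D12244))
theorem F23439 : act 0 n11703 = n10225 := (sb E7012 F22135)
theorem F23440 : act 2 n11703 = n10221 := (sb E7012 F22136)
theorem F23441 : act 6 n11703 = n12618 := (sb E7012 (iv F22155))
theorem F23442 : act 0 n11704 = n10226 := (sb E7013 F22137)
theorem F23443 : act 2 n11704 = n10222 := (sb E7013 F22138)
theorem F23444 : act 5 n11704 = n12616 := (sb E7013 (iv F22152))
theorem F23445 : act 2 n12614 = n12614 := d21_6 F23443 (iv F20708) F23433 F14321 (iv F18078) (iv F22150) F22150 (iv F23442)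
theorem E7014 : n12611 = n10224 := (c14_4 D12614 F23445 (iv D12614) D12611)
theorem F23446 : act 2 n10224 = n10224 := (sb E7014 (iv D12611))
theorem F23447 : act 2 n12612 = n12612 := d12_3 (iv D12612) F23446 D12612
theorem F23448 : act 2 n12613 = n12613 := d13_3 (iv D12613) F23446 D12613
theorem E7015 : n12607 = n11752 := ((c0_9 (iv D10223) F23435 (iv D9591) F7068 F3540 (iv F3552) D4664 D9639 D11752 (iv D12607))).symm
theorem F23449 : act 0 n11752 = n10223 := (sb E7015 (iv D12607))
theorem F23450 : act 2 n11752 = n10230 := (sb E7015 F22145)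
theorem F23451 : act 2 n11700 = n11699 := d13_3 F20715 F23433 D11700
def n13325 : Q := act 2 n10657
theorem D13325 : act 2 n10657 = n13325 := rfl
theorem F23452 : act 0 n13325 = n11543 := d1_1 D13325 F23429 (iv D13324)
theorem F23453 : act 1 n13325 = n10857 := d6_1 D13325 (iv D10857) (iv D8008) (iv F15711) D10657
theorem F23454 : act 4 n13325 = n10857 := d12_2 (iv F18922) D13325 (iv D10857)
theorem F23455 : act 3 n13325 = n11562 := d21_1 D13325 F23430 (iv F20453) F23429 F23427 F18927 (iv F23427) (iv D13324)
def n13326 : Q := act 5 n10657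
theorem D13326 : act 5 n10657 = n13326 := rfl
theorem F23456 : act 3 n13326 = n10661 := d16_1 D13326 (iv D10661) (iv F18921)
theorem F23457 : act 4 n13326 = n10858 := d18_1 D13326 (iv D10858) (iv F18922)
def n13327 : Q := act 1 n10658
theorem D13327 : act 1 n10658 = n13327 := rfl
theorem F23458 : act 4 n13327 = n10674 := d8_2 (iv F18924) D13327 (iv D10674)
def n13328 : Q := act 6 n10658
theorem D13328 : act 6 n10658 = n13328 := rfl
theorem F23459 : act 0 n13328 = n10659 := d5_1 D13328 (iv D10659) D10658
theorem F23460 : act 2 n13328 = n13328 := d14_1 D13328 (iv D13328) F18923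
theorem F23461 : act 4 n13328 = n10675 := d19_1 D13328 (iv D10675) (iv F18924)
theorem F23462 : act 5 n13328 = n13316 := d22_2 F23408 D13328 (iv D13316) D13315
def n13329 : Q := act 5 n10659
theorem D13329 : act 5 n10659 = n13329 := rfl
theorem F23463 : act 0 n13329 = n13316 := d4_1 D13329 (iv F23462) F23459
theorem F23464 : act 2 n13329 = n13329 := d13_1 D13329 (iv D13329) F18925
theorem F23465 : act 4 n13329 = n10676 := d18_1 D13329 (iv D10676) (iv F18926)
theorem F23466 : act 6 n13329 = n13315 := d20_2 D10659 D13329 F23408 D13328 F23462 (iv D13316) F18910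
def n13330 : Q := act 1 n10660
theorem D13330 : act 1 n10660 = n13330 := rfl
theorem F23467 : act 4 n13330 = n10677 := d8_2 (iv F18928) D13330 (iv D10677)
def n13331 : Q := act 5 n10660
theorem D13331 : act 5 n10660 = n13331 := rfl
theorem F23468 : act 0 n13331 = n10661 := d4_1 D13331 (iv D10661) D10660
theorem F23469 : act 2 n13331 = n13331 := d13_1 D13331 (iv D13331) F18927
theorem F23470 : act 4 n13331 = n10678 := d18_1 D13331 (iv D10678) (iv F18928)
theorem F23471 : act 6 n13331 = n13319 := d22_1 D13331 (iv D13319) F18915 D10660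
def n13332 : Q := act 6 n10661
theorem D13332 : act 6 n10661 = n13332 := rfl
theorem F23472 : act 0 n13332 = n13319 := d5_1 D13332 (iv F23471) F23468
theorem F23473 : act 2 n13332 = n13332 := d14_1 D13332 (iv D13332) F18929
theorem F23474 : act 4 n13332 = n10679 := d19_1 D13332 (iv D10679) (iv F18930)
theorem F23475 : act 5 n13332 = n13318 := d20_1 D13332 F23414 D13331 F23471 (iv D13319) F18915 D10661
def n13333 : Q := act 5 n10662
theorem D13333 : act 5 n10662 = n13333 := rfl
theorem F23476 : act 0 n13333 = n10664 := d4_1 D13333 (iv D10664) D10662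
theorem F23477 : act 2 n13333 = n10732 := d13_1 D13333 (iv D10732) (iv F19073)
theorem F23478 : act 3 n13333 = n10930 := d16_1 D13333 (iv D10930) (iv F18932)
def n13334 : Q := act 6 n10662
theorem D13334 : act 6 n10662 = n13334 := rfl
theorem F23479 : act 0 n13334 = n10665 := d5_1 D13334 (iv D10665) D10662
theorem F23480 : act 2 n13334 = n10733 := d14_1 D13334 (iv D10733) (iv F19073)
theorem F23481 : act 3 n13334 = n10931 := d17_1 D13334 (iv D10931) (iv F18932)
def n13335 : Q := act 3 n10663
theorem D13335 : act 3 n10663 = n13335 := rfl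
theorem F23482 : act 0 n13335 = n10731 := d2_1 D13335 (iv D10731) (iv F19075)
theorem F23485 : act 4 n13335 = n10731 := d15_2 F23368 D13335 (iv D10731) (iv F19008) F23369
def n13336 : Q := act 5 n10663
theorem D13336 : act 5 n10663 = n13336 := rfl
theorem F23486 : act 0 n13336 = n10732 := d4_1 D13336 (iv D10732) (iv F19075)
theorem F23487 : act 2 n13336 = n10664 := d13_1 D13336 (iv D10664) D10663
def n13337 : Q := act 6 n10663
theorem D13337 : act 6 n10663 = n13337 := rfl
theorem F23488 : act 0 n13337 = n10733 := d5_1 D13337 (iv D10733) (iv F19075)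
theorem F23489 : act 2 n13337 = n10665 := d14_1 D13337 (iv D10665) D10663
def n13338 : Q := act 1 n10664
theorem D13338 : act 1 n10664 = n13338 := rfl
theorem F23490 : act 3 n13338 = n10932 := d7_2 (iv F18933) D13338 (iv D10932)
theorem F23491 : act 5 n13338 = n10666 := d9_2 D10664 D13338 (iv D10666) (iv D6858) D6857
def n13339 : Q := act 6 n10664
theorem D13339 : act 6 n10664 = n13339 := rfl
theorem F23492 : act 3 n13339 = n10933 := d17_1 D13339 (iv D10933) (iv F18933)
theorem F23493 : act 5 n13339 = n13334 := d22_2 D10664 D13339 (iv D13334) (iv D10662)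
def n13340 : Q := act 1 n10665
theorem D13340 : act 1 n10665 = n13340 := rfl
theorem F23494 : act 3 n13340 = n10934 := d7_2 (iv F18934) D13340 (iv D10934)
theorem F23495 : act 6 n13340 = n10667 := d10_2 D10665 D13340 (iv D10667) (iv D6859) D6857
def n13341 : Q := act 5 n10665
theorem D13341 : act 5 n10665 = n13341 := rfl
theorem F23496 : act 0 n13341 = n13339 := d4_1 D13341 F23493 F23479
theorem F23497 : act 3 n13341 = n10935 := d16_1 D13341 (iv D10935) (iv F18934)
theorem F23498 : act 6 n13341 = n13333 := d20_2 D10665 D13341 (iv D13333) D13334 (iv F23493) (iv D13339) (iv D10664)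
def n13342 : Q := act 0 n10666
theorem D13342 : act 0 n10666 = n13342 := rfl
theorem F23499 : act 3 n13342 = n10936 := d2_2 (iv F18935) D13342 (iv D10936)
def n13343 : Q := act 2 n10666
theorem D13343 : act 2 n10666 = n13343 := rfl
def n13344 : Q := act 6 n10666
theorem D13344 : act 6 n10666 = n13344 := rfl
theorem F23500 : act 3 n13344 = n10938 := d17_1 D13344 (iv D10938) (iv F18935)
def n13345 : Q := act 0 n10667
theorem D13345 : act 0 n10667 = n13345 := rfl
theorem F23501 : act 3 n13345 = n10939 := d2_2 (iv F18936) D13345 (iv D10939)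
def n13346 : Q := act 2 n10667
theorem D13346 : act 2 n10667 = n13346 := rfl
def n13347 : Q := act 5 n10667
theorem D13347 : act 5 n10667 = n13347 := rfl
theorem F23502 : act 3 n13347 = n10941 := d16_1 D13347 (iv D10941) (iv F18936)
def n13348 : Q := act 1 n10668
theorem D13348 : act 1 n10668 = n13348 := rfl
theorem F23503 : act 3 n13348 = n10942 := d7_2 (iv F18938) D13348 (iv D10942)
def n13349 : Q := act 1 n10669
theorem D13349 : act 1 n10669 = n13349 := rfl
theorem F23504 : act 3 n13349 = n10946 := d7_2 (iv F18941) D13349 (iv D10946)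
theorem F23505 : act 6 n13349 = n10670 := d10_2 D10669 D13349 (iv D10670) (iv D6861) D6860
def n13350 : Q := act 0 n10670
theorem D13350 : act 0 n10670 = n13350 := rfl
theorem F23506 : act 3 n13350 = n10947 := d2_2 (iv F18942) D13350 (iv D10947)
def n13351 : Q := act 2 n10670
theorem D13351 : act 2 n10670 = n13351 := rfl
def n13352 : Q := act 5 n10670
theorem D13352 : act 5 n10670 = n13352 := rfl
theorem F23507 : act 1 n13352 = n13347 := d9_1 D13352 (iv D13347) (iv D10667) (iv F10308) D10670
theorem F23508 : act 3 n13352 = n10949 := d16_1 D13352 (iv D10949) (iv F18942)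
def n13353 : Q := act 1 n10671
theorem D13353 : act 1 n10671 = n13353 := rfl
theorem F23509 : act 3 n13353 = n10950 := d7_2 (iv F18944) D13353 (iv D10950)
def n13354 : Q := act 1 n10672
theorem D13354 : act 1 n10672 = n13354 := rfl
theorem F23510 : act 3 n13354 = n10954 := d7_2 (iv F18947) D13354 (iv D10954)
theorem F23511 : act 5 n13354 = n10673 := d9_2 D10672 D13354 (iv D10673) (iv D6863) D6862
def n13355 : Q := act 0 n10673
theorem D13355 : act 0 n10673 = n13355 := rfl
theorem F23512 : act 3 n13355 = n10955 := d2_2 (iv F18948) D13355 (iv D10955)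
def n13356 : Q := act 2 n10673
theorem D13356 : act 2 n10673 = n13356 := rfl
def n13357 : Q := act 6 n10673
theorem D13357 : act 6 n10673 = n13357 := rfl
theorem F23513 : act 1 n13357 = n13344 := d10_1 D13357 (iv D13344) (iv D10666) (iv F10313) D10673
theorem F23514 : act 3 n13357 = n10957 := d17_1 D13357 (iv D10957) (iv F18948)
def n13358 : Q := act 0 n10674
theorem D13358 : act 0 n10674 = n13358 := rfl
theorem F23515 : act 1 n13358 = n10958 := d0_2 D10674 D13358 (iv D10958) (iv D8201) (iv D3917) (iv D1881) (iv F2639) D3307 D6864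
theorem F23516 : act 3 n13358 = n10958 := d2_2 (iv F18949) D13358 (iv D10958)
def n13359 : Q := act 2 n10674
theorem D13359 : act 2 n10674 = n13359 := rfl
def n13360 : Q := act 5 n10674
theorem D13360 : act 5 n10674 = n13360 := rfl
theorem F23518 : act 3 n13360 = n10960 := d16_1 D13360 (iv D10960) (iv F18949)
def n13361 : Q := act 6 n10674
theorem D13361 : act 6 n10674 = n13361 := rfl
theorem F23519 : act 3 n13361 = n10961 := d17_1 D13361 (iv D10961) (iv F18949)
def n13362 : Q := act 1 n10675
theorem D13362 : act 1 n10675 = n13362 := rfl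
theorem F23520 : act 3 n13362 = n10965 := d7_2 (iv F18952) D13362 (iv D10965)
def n13363 : Q := act 1 n10676
theorem D13363 : act 1 n10676 = n13363 := rfl
theorem F23521 : act 3 n13363 = n10973 := d7_2 (iv F18956) D13363 (iv D10973)
def n13364 : Q := act 0 n10677
theorem D13364 : act 0 n10677 = n13364 := rfl
theorem F23522 : act 1 n13364 = n10980 := d0_2 D10677 D13364 (iv D10980) (iv D8211) (iv D3921) (iv D1883) (iv F2642) D3308 D6867
theorem F23523 : act 3 n13364 = n10980 := d2_2 (iv F18958) D13364 (iv D10980)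
def n13365 : Q := act 2 n10677
theorem D13365 : act 2 n10677 = n13365 := rfl
def n13366 : Q := act 5 n10677
theorem D13366 : act 5 n10677 = n13366 := rfl
theorem F23525 : act 3 n13366 = n10982 := d16_1 D13366 (iv D10982) (iv F18958)
def n13367 : Q := act 6 n10677
theorem D13367 : act 6 n10677 = n13367 := rfl
theorem F23526 : act 3 n13367 = n10983 := d17_1 D13367 (iv D10983) (iv F18958)
def n13368 : Q := act 1 n10678
theorem D13368 : act 1 n10678 = n13368 := rfl
theorem F23527 : act 3 n13368 = n10987 := d7_2 (iv F18961) D13368 (iv D10987)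
def n13369 : Q := act 1 n10679
theorem D13369 : act 1 n10679 = n13369 := rfl
theorem F23528 : act 3 n13369 = n10995 := d7_2 (iv F18965) D13369 (iv D10995)
def n13370 : Q := act 1 n10680
theorem D13370 : act 1 n10680 = n13370 := rfl
theorem F23529 : act 3 n13370 = n10682 := d7_2 (iv F18969) D13370 (iv D10682)
theorem F23530 : act 4 n13370 = n10689 := d8_2 (iv F18970) D13370 (iv D10689)
theorem F23531 : act 5 n13370 = n10682 := d9_2 D10680 D13370 (iv D10682) (iv D7597) D7595
def n13371 : Q := act 1 n10681
theorem D13371 : act 1 n10681 = n13371 := rfl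
theorem F23532 : act 3 n13371 = n10683 := d7_2 (iv F18973) D13371 (iv D10683)
theorem F23533 : act 4 n13371 = n10691 := d8_2 (iv F18974) D13371 (iv D10691)
theorem F23534 : act 6 n13371 = n10683 := d10_2 D10681 D13371 (iv D10683) (iv D7598) D7595
def n13372 : Q := act 0 n10682
theorem D13372 : act 0 n10682 = n13372 := rfl
theorem F23535 : act 4 n13372 = n10693 := d3_2 (iv F18975) D13372 (iv D10693)
def n13373 : Q := act 2 n10682
theorem D13373 : act 2 n10682 = n13373 := rfl
theorem F23536 : act 1 n13373 = n10684 := d6_1 D13373 (iv D10684) (iv D7599) (iv F11295) D10682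
theorem F23537 : act 4 n13373 = n10694 := d12_2 (iv F18975) D13373 (iv D10694)
def n13374 : Q := act 6 n10682
theorem D13374 : act 6 n10682 = n13374 := rfl
theorem F23538 : act 4 n13374 = n10695 := d19_1 D13374 (iv D10695) (iv F18975)
def n13375 : Q := act 0 n10683
theorem D13375 : act 0 n10683 = n13375 := rfl
theorem F23539 : act 4 n13375 = n10696 := d3_2 (iv F18976) D13375 (iv D10696)
def n13376 : Q := act 2 n10683
theorem D13376 : act 2 n10683 = n13376 := rfl
theorem F23540 : act 1 n13376 = n10685 := d6_1 D13376 (iv D10685) (iv D7600) (iv F11298) D10683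
theorem F23541 : act 4 n13376 = n10697 := d12_2 (iv F18976) D13376 (iv D10697)
def n13377 : Q := act 5 n10683
theorem D13377 : act 5 n10683 = n13377 := rfl
theorem F23542 : act 4 n13377 = n10698 := d18_1 D13377 (iv D10698) (iv F18976)
def n13378 : Q := act 3 n10684
theorem D13378 : act 3 n10684 = n13378 := rfl
theorem F23543 : act 0 n13378 = n13378 := d2_1 D13378 (iv D13378) F18977
theorem F23544 : act 5 n13378 = n13378 := d16_2 F18979 D13378 (iv D13378)
def n13379 : Q := act 3 n10685
theorem D13379 : act 3 n10685 = n13379 := rfl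
theorem F23545 : act 0 n13379 = n13379 := d2_1 D13379 (iv D13379) F18980
theorem F23546 : act 6 n13379 = n13379 := d17_2 F18982 D13379 (iv D13379)
def n13380 : Q := act 5 n10686
theorem D13380 : act 5 n10686 = n13380 := rfl
theorem F23548 : act 4 n13380 = n10705 := d18_1 D13380 (iv D10705) (iv F18984)
def n13381 : Q := act 6 n10686
theorem D13381 : act 6 n10686 = n13381 := rfl
theorem F23549 : act 3 n13381 = n10745 := d17_1 D13381 (iv D10745) (iv F18983)
theorem F23550 : act 4 n13381 = n10706 := d19_1 D13381 (iv D10706) (iv F18984)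
def n13382 : Q := act 1 n10687
theorem D13382 : act 1 n10687 = n13382 := rfl
theorem F23551 : act 3 n13382 = n10758 := d7_2 (iv F18987) D13382 (iv D10758)
theorem F23552 : act 4 n13382 = n10711 := d8_2 (iv F18988) D13382 (iv D10711)
def n13383 : Q := act 1 n10688
theorem D13383 : act 1 n10688 = n13383 := rfl
theorem F23553 : act 3 n13383 = n10760 := d7_2 (iv F18991) D13383 (iv D10760)
theorem F23554 : act 4 n13383 = n10713 := d8_2 (iv F18992) D13383 (iv D10713)
def n13384 : Q := act 0 n10689
theorem D13384 : act 0 n10689 = n13384 := rfl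
theorem F23555 : act 5 n13384 = n10693 := d4_2 (iv F18993) D13384 (iv D10693)
def n13385 : Q := act 2 n10689
theorem D13385 : act 2 n10689 = n13385 := rfl
theorem F23556 : act 1 n13385 = n13385 := d6_1 D13385 (iv D13385) (iv D10689) F16107 D10689
theorem F23557 : act 5 n13385 = n10694 := d13_2 (iv F18993) D13385 (iv D10694)
def n13386 : Q := act 6 n10689
theorem D13386 : act 6 n10689 = n13386 := rfl
def n13387 : Q := act 1 n10690
theorem D13387 : act 1 n10690 = n13387 := rfl
def n13388 : Q := act 0 n10691
theorem D13388 : act 0 n10691 = n13388 := rfl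
theorem F23558 : act 6 n13388 = n10696 := d5_2 (iv F18996) D13388 (iv D10696)
def n13389 : Q := act 2 n10691
theorem D13389 : act 2 n10691 = n13389 := rfl
theorem F23559 : act 1 n13389 = n13389 := d6_1 D13389 (iv D13389) (iv D10691) F16108 D10691
theorem F23560 : act 6 n13389 = n10697 := d14_2 (iv F18996) D13389 (iv D10697)
def n13390 : Q := act 5 n10691
theorem D13390 : act 5 n10691 = n13390 := rfl
def n13391 : Q := act 1 n10692
theorem D13391 : act 1 n10692 = n13391 := rfl
def n13392 : Q := act 1 n10693
theorem D13392 : act 1 n10693 = n13392 := rfl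
def n13393 : Q := act 2 n10693
theorem D13393 : act 2 n10693 = n13393 := rfl
theorem F23561 : act 0 n13393 = n10694 := d1_1 D13393 (iv D10694) D10693
def n13394 : Q := act 6 n10693
theorem D13394 : act 6 n10693 = n13394 := rfl
theorem F23562 : act 0 n13394 = n10695 := d5_1 D13394 (iv D10695) D10693
theorem F23563 : act 5 n13394 = n13386 := d22_2 F23555 D13394 (iv D13386) D13384
def n13395 : Q := act 3 n10694
theorem D13395 : act 3 n10694 = n13395 := rfl
theorem F23564 : act 1 n13395 = n10699 := d7_1 D13395 (iv D10699) (iv F19000)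
def n13396 : Q := act 6 n10694
theorem D13396 : act 6 n10694 = n13396 := rfl
theorem F23565 : act 2 n13396 = n10695 := d14_1 D13396 (iv D10695) D10694
def n13397 : Q := act 5 n10695
theorem D13397 : act 5 n10695 = n13397 := rfl
theorem F23566 : act 0 n13397 = n13386 := d4_1 D13397 (iv F23563) F23562
theorem F23567 : act 6 n13397 = n13384 := d20_2 D10695 D13397 F23555 D13394 F23563 (iv D13386) F18993
def n13398 : Q := act 1 n10696
theorem D13398 : act 1 n10696 = n13398 := rfl
def n13399 : Q := act 2 n10696
theorem D13399 : act 2 n10696 = n13399 := rfl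
theorem F23568 : act 0 n13399 = n10697 := d1_1 D13399 (iv D10697) D10696
def n13400 : Q := act 5 n10696
theorem D13400 : act 5 n10696 = n13400 := rfl
theorem F23569 : act 0 n13400 = n10698 := d4_1 D13400 (iv D10698) D10696
theorem F23570 : act 6 n13400 = n13390 := d22_1 D13400 (iv D13390) F18996 D10696
def n13401 : Q := act 3 n10697
theorem D13401 : act 3 n10697 = n13401 := rfl
theorem F23571 : act 1 n13401 = n10700 := d7_1 D13401 (iv D10700) (iv F19001)
def n13402 : Q := act 5 n10697
theorem D13402 : act 5 n10697 = n13402 := rfl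
theorem F23572 : act 2 n13402 = n10698 := d13_1 D13402 (iv D10698) D10697
def n13403 : Q := act 6 n10698
theorem D13403 : act 6 n10698 = n13403 := rfl
theorem F23573 : act 0 n13403 = n13390 := d5_1 D13403 (iv F23570) F23569
theorem F23574 : act 5 n13403 = n13388 := d20_1 D13403 F23558 D13400 F23570 (iv D13390) F18996 D10698
def n13404 : Q := act 4 n10699
theorem D13404 : act 4 n10699 = n13404 := rfl
theorem F23575 : act 0 n13404 = n13404 := d3_1 D13404 (iv D13404) F19002
theorem F23576 : act 2 n13404 = n13404 := d12_1 D13404 (iv D13404) F19004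
theorem F23577 : act 5 n13404 = n13404 := d18_2 F19003 D13404 (iv D13404)
def n13405 : Q := act 4 n10700
theorem D13405 : act 4 n10700 = n13405 := rfl
theorem F23578 : act 0 n13405 = n13405 := d3_1 D13405 (iv D13405) F19005
theorem F23579 : act 2 n13405 = n13405 := d12_1 D13405 (iv D13405) F19007
theorem F23580 : act 6 n13405 = n13405 := d19_2 F19006 D13405 (iv D13405)
def n13406 : Q := act 5 n10701
theorem D13406 : act 5 n10701 = n13406 := rfl
theorem F23581 : act 4 n13406 = n10732 := d18_1 D13406 (iv D10732) (iv F19008)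
def n13407 : Q := act 6 n10701
theorem D13407 : act 6 n10701 = n13407 := rfl
theorem F23582 : act 4 n13407 = n10733 := d19_1 D13407 (iv D10733) (iv F19008)
def n13408 : Q := act 5 n10702
theorem D13408 : act 5 n10702 = n13408 := rfl
theorem F23584 : act 3 n13408 = n10703 := d16_1 D13408 (iv D10703) D10702
def n13409 : Q := act 6 n10702
theorem D13409 : act 6 n10702 = n13409 := rfl
theorem F23585 : act 0 n13409 = n10706 := d5_1 D13409 (iv D10706) (iv F19009)
theorem F23586 : act 3 n13409 = n10704 := d17_1 D13409 (iv D10704) D10702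
def n13410 : Q := act 1 n10703
theorem D13410 : act 1 n10703 = n13410 := rfl
def n13411 : Q := act 1 n10704
theorem D13411 : act 1 n10704 = n13411 := rfl
theorem F23588 : act 4 n13411 = n10739 := d8_2 (iv F19015) D13411 (iv D10739)
def n13412 : Q := act 1 n10705
theorem D13412 : act 1 n10705 = n13412 := rfl
theorem F23589 : act 3 n13412 = n10707 := d7_2 (iv F19016) D13412 (iv D10707)
theorem F23590 : act 5 n13412 = n10711 := d9_2 D10705 D13412 (iv D10711) (iv D7665) (iv F11385)
def n13413 : Q := act 6 n10705
theorem D13413 : act 6 n10705 = n13413 := rfl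
theorem F23591 : act 3 n13413 = n10708 := d17_1 D13413 (iv D10708) (iv F19016)
theorem F23592 : act 5 n13413 = n13409 := d22_2 D10705 D13413 (iv D13409) F19009
def n13414 : Q := act 1 n10706
theorem D13414 : act 1 n10706 = n13414 := rfl
theorem F23593 : act 3 n13414 = n10709 := d7_2 (iv F19017) D13414 (iv D10709)
theorem F23594 : act 6 n13414 = n10713 := d10_2 D10706 D13414 (iv D10713) (iv D7666) (iv F11385)
def n13415 : Q := act 5 n10706
theorem D13415 : act 5 n10706 = n13415 := rfl
theorem F23595 : act 0 n13415 = n13413 := d4_1 D13415 F23592 F23585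
theorem F23596 : act 3 n13415 = n10710 := d16_1 D13415 (iv D10710) (iv F19017)
theorem F23597 : act 6 n13415 = n13408 := d20_2 D10706 D13415 (iv D13408) D13409 (iv F23592) (iv D13413) (iv D10705)
def n13416 : Q := act 0 n10707
theorem D13416 : act 0 n10707 = n13416 := rfl
theorem F23598 : act 4 n13416 = n10750 := d3_2 (iv F19018) D13416 (iv D10750)
theorem F23599 : act 5 n13416 = n10715 := d4_2 (iv F19019) D13416 (iv D10715)
def n13417 : Q := act 2 n10707
theorem D13417 : act 2 n10707 = n13417 := rfl
theorem F23600 : act 1 n13417 = n10845 := d6_1 D13417 (iv D10845) (iv D8002) (iv F11386) D10707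
theorem F23601 : act 4 n13417 = n10751 := d12_2 (iv F19018) D13417 (iv D10751)
theorem F23602 : act 5 n13417 = n10716 := d13_2 (iv F19019) D13417 (iv D10716)
def n13418 : Q := act 6 n10707
theorem D13418 : act 6 n10707 = n13418 := rfl
theorem F23603 : act 4 n13418 = n10752 := d19_1 D13418 (iv D10752) (iv F19018)
def n13419 : Q := act 1 n10708
theorem D13419 : act 1 n10708 = n13419 := rfl
theorem F23604 : act 4 n13419 = n10753 := d8_2 (iv F19021) D13419 (iv D10753)
def n13420 : Q := act 0 n10709
theorem D13420 : act 0 n10709 = n13420 := rfl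
theorem F23605 : act 4 n13420 = n10754 := d3_2 (iv F19023) D13420 (iv D10754)
theorem F23606 : act 6 n13420 = n10719 := d5_2 (iv F19024) D13420 (iv D10719)
def n13421 : Q := act 2 n10709
theorem D13421 : act 2 n10709 = n13421 := rfl
theorem F23607 : act 1 n13421 = n10849 := d6_1 D13421 (iv D10849) (iv D8004) (iv F11388) D10709
theorem F23608 : act 4 n13421 = n10755 := d12_2 (iv F19023) D13421 (iv D10755)
theorem F23609 : act 6 n13421 = n10720 := d14_2 (iv F19024) D13421 (iv D10720)
def n13422 : Q := act 5 n10709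
theorem D13422 : act 5 n10709 = n13422 := rfl
theorem F23610 : act 4 n13422 = n10756 := d18_1 D13422 (iv D10756) (iv F19023)
def n13423 : Q := act 1 n10710
theorem D13423 : act 1 n10710 = n13423 := rfl
theorem F23611 : act 4 n13423 = n10757 := d8_2 (iv F19027) D13423 (iv D10757)
def n13424 : Q := act 0 n10711
theorem D13424 : act 0 n10711 = n13424 := rfl
theorem F23612 : act 3 n13424 = n10715 := d2_2 (iv F19029) D13424 (iv D10715)
def n13425 : Q := act 2 n10711
theorem D13425 : act 2 n10711 = n13425 := rfl
theorem F23613 : act 1 n13425 = n13425 := d6_1 D13425 (iv D13425) (iv D10711) F11392 D10711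
def n13426 : Q := act 6 n10711
theorem D13426 : act 6 n10711 = n13426 := rfl
theorem F23614 : act 3 n13426 = n10717 := d17_1 D13426 (iv D10717) (iv F19029)
def n13427 : Q := act 1 n10712
theorem D13427 : act 1 n10712 = n13427 := rfl
theorem F23615 : act 3 n13427 = n10718 := d7_2 (iv F19031) D13427 (iv D10718)
theorem F23616 : act 4 n13427 = n13391 := d8_2 (iv F19032) D13427 (iv D13391)
def n13428 : Q := act 0 n10713
theorem D13428 : act 0 n10713 = n13428 := rfl
theorem F23617 : act 3 n13428 = n10719 := d2_2 (iv F19034) D13428 (iv D10719)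
def n13429 : Q := act 2 n10713
theorem D13429 : act 2 n10713 = n13429 := rfl
theorem F23618 : act 1 n13429 = n13429 := d6_1 D13429 (iv D13429) (iv D10713) F11394 D10713
def n13430 : Q := act 5 n10713
theorem D13430 : act 5 n10713 = n13430 := rfl
theorem F23619 : act 3 n13430 = n10721 := d16_1 D13430 (iv D10721) (iv F19034)
def n13431 : Q := act 1 n10714
theorem D13431 : act 1 n10714 = n13431 := rfl
theorem F23620 : act 3 n13431 = n10722 := d7_2 (iv F19037) D13431 (iv D10722)
theorem F23621 : act 4 n13431 = n13387 := d8_2 (iv F19038) D13431 (iv D13387)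
def n13432 : Q := act 1 n10715
theorem D13432 : act 1 n10715 = n13432 := rfl
theorem F23622 : act 4 n13432 = n10770 := d8_2 (iv F19040) D13432 (iv D10770)
def n13433 : Q := act 2 n10715
theorem D13433 : act 2 n10715 = n13433 := rfl
theorem F23623 : act 0 n13433 = n10716 := d1_1 D13433 (iv D10716) D10715
theorem F23624 : act 4 n13433 = n10771 := d12_2 (iv F19040) D13433 (iv D10771)
def n13434 : Q := act 6 n10715
theorem D13434 : act 6 n10715 = n13434 := rfl
theorem F23625 : act 0 n13434 = n10717 := d5_1 D13434 (iv D10717) D10715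
theorem F23626 : act 4 n13434 = n10772 := d19_1 D13434 (iv D10772) (iv F19040)
theorem F23627 : act 5 n13434 = n13418 := d22_2 F23599 D13434 (iv D13418) D13416
def n13435 : Q := act 3 n10716
theorem D13435 : act 3 n10716 = n13435 := rfl
theorem F23628 : act 1 n13435 = n10723 := d7_1 D13435 (iv D10723) (iv F19041)
def n13436 : Q := act 6 n10716
theorem D13436 : act 6 n10716 = n13436 := rfl
theorem F23629 : act 2 n13436 = n10717 := d14_1 D13436 (iv D10717) D10716
theorem F23630 : act 4 n13436 = n10774 := d19_1 D13436 (iv D10774) (iv F19042)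
def n13437 : Q := act 1 n10717
theorem D13437 : act 1 n10717 = n13437 := rfl
theorem F23631 : act 4 n13437 = n10775 := d8_2 (iv F19043) D13437 (iv D10775)
theorem F23632 : act 6 n13437 = n10718 := d10_2 D10717 D13437 (iv D10718) (iv D7668) D7667
def n13438 : Q := act 5 n10717
theorem D13438 : act 5 n10717 = n13438 := rfl
theorem F23633 : act 0 n13438 = n13418 := d4_1 D13438 (iv F23627) F23625
theorem F23634 : act 4 n13438 = n10776 := d18_1 D13438 (iv D10776) (iv F19043)
theorem F23635 : act 6 n13438 = n13416 := d20_2 D10717 D13438 F23599 D13434 F23627 (iv D13418) F19019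
def n13439 : Q := act 0 n10718
theorem D13439 : act 0 n10718 = n13439 := rfl
theorem F23636 : act 4 n13439 = n10777 := d3_2 (iv F19044) D13439 (iv D10777)
def n13440 : Q := act 2 n10718
theorem D13440 : act 2 n10718 = n13440 := rfl
theorem F23637 : act 1 n13440 = n10725 := d6_1 D13440 (iv D10725) (iv D7674) (iv F11397) D10718
theorem F23638 : act 4 n13440 = n10778 := d12_2 (iv F19044) D13440 (iv D10778)
def n13441 : Q := act 5 n10718
theorem D13441 : act 5 n10718 = n13441 := rfl
theorem F23639 : act 1 n13441 = n13377 := d9_1 D13441 (iv D13377) (iv D10683) (iv F11399) D10718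
theorem F23640 : act 4 n13441 = n10779 := d18_1 D13441 (iv D10779) (iv F19044)
def n13442 : Q := act 1 n10719
theorem D13442 : act 1 n10719 = n13442 := rfl
theorem F23641 : act 4 n13442 = n10780 := d8_2 (iv F19045) D13442 (iv D10780)
def n13443 : Q := act 2 n10719
theorem D13443 : act 2 n10719 = n13443 := rfl
theorem F23642 : act 0 n13443 = n10720 := d1_1 D13443 (iv D10720) D10719
theorem F23643 : act 4 n13443 = n10781 := d12_2 (iv F19045) D13443 (iv D10781)
def n13444 : Q := act 5 n10719
theorem D13444 : act 5 n10719 = n13444 := rfl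
theorem F23644 : act 0 n13444 = n10721 := d4_1 D13444 (iv D10721) D10719
theorem F23645 : act 4 n13444 = n10782 := d18_1 D13444 (iv D10782) (iv F19045)
theorem F23646 : act 6 n13444 = n13422 := d22_1 D13444 (iv D13422) F19024 D10719
def n13445 : Q := act 3 n10720
theorem D13445 : act 3 n10720 = n13445 := rfl
theorem F23647 : act 1 n13445 = n10726 := d7_1 D13445 (iv D10726) (iv F19046)
def n13446 : Q := act 5 n10720
theorem D13446 : act 5 n10720 = n13446 := rfl
theorem F23648 : act 2 n13446 = n10721 := d13_1 D13446 (iv D10721) D10720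
theorem F23649 : act 4 n13446 = n10784 := d18_1 D13446 (iv D10784) (iv F19047)
def n13447 : Q := act 1 n10721
theorem D13447 : act 1 n10721 = n13447 := rfl
theorem F23650 : act 4 n13447 = n10785 := d8_2 (iv F19048) D13447 (iv D10785)
theorem F23651 : act 5 n13447 = n10722 := d9_2 D10721 D13447 (iv D10722) (iv D7670) D7669
def n13448 : Q := act 6 n10721
theorem D13448 : act 6 n10721 = n13448 := rfl
theorem F23652 : act 0 n13448 = n13422 := d5_1 D13448 (iv F23646) F23644
theorem F23653 : act 4 n13448 = n10786 := d19_1 D13448 (iv D10786) (iv F19048)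
theorem F23654 : act 5 n13448 = n13420 := d20_1 D13448 F23606 D13444 F23646 (iv D13422) F19024 D10721
def n13449 : Q := act 0 n10722
theorem D13449 : act 0 n10722 = n13449 := rfl
theorem F23655 : act 4 n13449 = n10787 := d3_2 (iv F19049) D13449 (iv D10787)
def n13450 : Q := act 2 n10722
theorem D13450 : act 2 n10722 = n13450 := rfl
theorem F23656 : act 1 n13450 = n10728 := d6_1 D13450 (iv D10728) (iv D7678) (iv F11402) D10722
theorem F23657 : act 4 n13450 = n10788 := d12_2 (iv F19049) D13450 (iv D10788)
def n13451 : Q := act 6 n10722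
theorem D13451 : act 6 n10722 = n13451 := rfl
theorem F23658 : act 1 n13451 = n13374 := d10_1 D13451 (iv D13374) (iv D10682) (iv F11404) D10722
theorem F23659 : act 4 n13451 = n10789 := d19_1 D13451 (iv D10789) (iv F19049)
def n13452 : Q := act 4 n10723
theorem D13452 : act 4 n10723 = n13452 := rfl
theorem F23660 : act 2 n13452 = n10883 := d12_1 D13452 (iv D10883) (iv F19051)
theorem F23661 : act 3 n13452 = n10793 := d15_1 D13452 (iv D10793) (iv D7761) (iv F11408) D10723
theorem F23662 : act 5 n13452 = n10883 := d18_2 (iv F19050) D13452 (iv D10883)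
def n13453 : Q := act 6 n10723
theorem D13453 : act 6 n10723 = n13453 := rfl
theorem F23663 : act 2 n13453 = n10884 := d14_1 D13453 (iv D10884) (iv F19051)
theorem F23664 : act 3 n13453 = n10724 := d17_1 D13453 (iv D10724) D10723
def n13454 : Q := act 1 n10724
theorem D13454 : act 1 n10724 = n13454 := rfl
theorem F23665 : act 4 n13454 = n10795 := d8_2 (iv F19053) D13454 (iv D10795)
def n13455 : Q := act 3 n10725
theorem D13455 : act 3 n10725 = n13455 := rfl
theorem F23666 : act 0 n13455 = n10895 := d2_1 D13455 F19351 (iv F19054)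
theorem F23667 : act 5 n13455 = n10893 := d16_2 (iv F19056) D13455 (iv D10893)
def n13456 : Q := act 4 n10726
theorem D13456 : act 4 n10726 = n13456 := rfl
theorem F23668 : act 2 n13456 = n10894 := d12_1 D13456 (iv D10894) (iv F19058)
theorem F23669 : act 3 n13456 = n10800 := d15_1 D13456 (iv D10800) (iv D7769) (iv F11417) D10726
theorem F23670 : act 6 n13456 = n10894 := d19_2 (iv F19057) D13456 (iv D10894)
def n13457 : Q := act 5 n10726
theorem D13457 : act 5 n10726 = n13457 := rfl
theorem F23671 : act 2 n13457 = n10895 := d13_1 D13457 (iv D10895) (iv F19058)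
theorem F23672 : act 3 n13457 = n10727 := d16_1 D13457 (iv D10727) D10726
theorem F23673 : act 6 n13457 = n13455 := d22_1 D13457 F23667 (iv F19388) F19386
def n13458 : Q := act 1 n10727
theorem D13458 : act 1 n10727 = n13458 := rfl
theorem F23674 : act 2 n13458 = n13454 := d6_2 (iv F19059) D13458 (iv D13454) F19052 (iv F17228)
theorem F23675 : act 4 n13458 = n10802 := d8_2 (iv F19060) D13458 (iv D10802)
def n13459 : Q := act 3 n10728
theorem D13459 : act 3 n10728 = n13459 := rfl
theorem F23676 : act 0 n13459 = n10884 := d2_1 D13459 F19328 (iv F19062)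
theorem F23677 : act 5 n13459 = n13453 := d16_2 (iv F19064) D13459 F23664
theorem F23678 : act 6 n13459 = n10882 := d17_2 (iv F19065) D13459 (iv D10882)
def n13460 : Q := act 5 n10731
theorem D13460 : act 5 n10731 = n13460 := rfl
theorem F23680 : act 3 n13460 = n10732 := d16_1 D13460 (iv D10732) D10731
def n13461 : Q := act 6 n10731
theorem D13461 : act 6 n10731 = n13461 := rfl
theorem F23682 : act 3 n13461 = n10733 := d17_1 D13461 (iv D10733) D10731
def n13462 : Q := act 1 n10732
theorem D13462 : act 1 n10732 = n13462 := rfl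
theorem F23683 : act 5 n13462 = n10738 := d9_2 D10732 D13462 (iv D10738) (iv D7735) D7733
def n13463 : Q := act 6 n10732
theorem D13463 : act 6 n10732 = n13463 := rfl
theorem F23684 : act 2 n13463 = n13341 := d14_1 D13463 F23498 F23477
theorem F23685 : act 5 n13463 = n13337 := d22_2 D10732 D13463 (iv D13337) F19075
def n13464 : Q := act 1 n10733
theorem D13464 : act 1 n10733 = n13464 := rfl
theorem F23686 : act 6 n13464 = n10739 := d10_2 D10733 D13464 (iv D10739) (iv D7736) D7733
def n13465 : Q := act 5 n10733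
theorem D13465 : act 5 n10733 = n13465 := rfl
theorem F23687 : act 0 n13465 = n13463 := d4_1 D13465 F23685 F23488
theorem F23688 : act 2 n13465 = n13339 := d13_1 D13465 F23493 F23480
theorem F23689 : act 6 n13465 = n13336 := d20_2 D10733 D13465 (iv D13336) D13337 (iv F23685) (iv D13463) (iv D10732)
def n13466 : Q := act 4 n10734
theorem D13466 : act 4 n10734 = n13466 := rfl
theorem F23690 : act 0 n13466 = n10741 := d3_1 D13466 (iv D10741) (iv F19068)
theorem F23691 : act 1 n13466 = n13466 := d8_1 D13466 (iv D13466) F19071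
theorem F23692 : act 2 n13466 = n10735 := d12_1 D13466 (iv D10735) D10734
def n13467 : Q := act 5 n10734
theorem D13467 : act 5 n10734 = n13467 := rfl
theorem F23693 : act 0 n13467 = n10742 := d4_1 D13467 (iv D10742) (iv F19068)
theorem F23694 : act 2 n13467 = n10736 := d13_1 D13467 (iv D10736) D10734
theorem F23695 : act 3 n13467 = n13294 := d16_1 D13467 (iv D13294) (iv F19069)
def n13468 : Q := act 6 n10734
theorem D13468 : act 6 n10734 = n13468 := rfl
theorem F23696 : act 0 n13468 = n10743 := d5_1 D13468 (iv D10743) (iv F19068)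
theorem F23697 : act 2 n13468 = n10737 := d14_1 D13468 (iv D10737) D10734
theorem F23698 : act 3 n13468 = n13295 := d17_1 D13468 (iv D13295) (iv F19069)
def n13469 : Q := act 5 n10735
theorem D13469 : act 5 n10735 = n13469 := rfl
def n13470 : Q := act 6 n10735
theorem D13470 : act 6 n10735 = n13470 := rfl
theorem F23702 : act 4 n13470 = n10737 := d19_1 D13470 (iv D10737) D10735
def n13471 : Q := act 1 n10736
theorem D13471 : act 1 n10736 = n13471 := rfl
theorem F23703 : act 3 n13471 = n10738 := d7_2 (iv F19078) D13471 (iv D10738)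
def n13472 : Q := act 1 n10737
theorem D13472 : act 1 n10737 = n13472 := rfl
theorem F23704 : act 3 n13472 = n10739 := d7_2 (iv F19080) D13472 (iv D10739)
def n13473 : Q := act 0 n10738
theorem D13473 : act 0 n10738 = n13473 := rfl
def n13474 : Q := act 2 n10738
theorem D13474 : act 2 n10738 = n13474 := rfl
theorem F23705 : act 1 n13474 = n10937 := d6_1 D13474 (iv D10937) (iv D8191) (iv F11498) D10738
def n13475 : Q := act 6 n10738
theorem D13475 : act 6 n10738 = n13475 := rfl
def n13476 : Q := act 0 n10739
theorem D13476 : act 0 n10739 = n13476 := rfl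
def n13477 : Q := act 2 n10739
theorem D13477 : act 2 n10739 = n13477 := rfl
theorem F23709 : act 1 n13477 = n10940 := d6_1 D13477 (iv D10940) (iv D8192) (iv F11500) D10739
def n13478 : Q := act 5 n10739
theorem D13478 : act 5 n10739 = n13478 := rfl
def n13479 : Q := act 4 n10740
theorem D13479 : act 4 n10740 = n13479 := rfl
theorem F23710 : act 0 n13479 = n11200 := d3_1 D13479 F19861 (iv F19081)
theorem F23711 : act 2 n13479 = n11197 := d12_1 D13479 F19855 (iv F19082)
def n13480 : Q := act 5 n10740
theorem D13480 : act 5 n10740 = n13480 := rfl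
theorem F23712 : act 0 n13480 = n13294 := d4_1 D13480 (iv D13294) (iv F19081)
theorem F23713 : act 2 n13480 = n13290 := d13_1 D13480 (iv D13290) (iv F19082)
theorem F23714 : act 3 n13480 = n10742 := d16_1 D13480 (iv D10742) D10740
def n13481 : Q := act 6 n10740
theorem D13481 : act 6 n10740 = n13481 := rfl
theorem F23715 : act 0 n13481 = n13295 := d5_1 D13481 (iv D13295) (iv F19081)
theorem F23716 : act 2 n13481 = n13291 := d14_1 D13481 (iv D13291) (iv F19082)
theorem F23717 : act 3 n13481 = n10743 := d17_1 D13481 (iv D10743) D10740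
def n13482 : Q := act 3 n10741
theorem D13482 : act 3 n10741 = n13482 := rfl
theorem F23718 : act 1 n13482 = n12344 := d7_1 D13482 F21789 F19929
def n13483 : Q := act 5 n10741
theorem D13483 : act 5 n10741 = n13483 := rfl
theorem F23719 : act 2 n13483 = n10744 := d13_1 D13483 (iv D10744) (iv F19083)
theorem F23720 : act 4 n13483 = n10742 := d18_1 D13483 (iv D10742) D10741
def n13484 : Q := act 6 n10741
theorem D13484 : act 6 n10741 = n13484 := rfl
theorem F23721 : act 2 n13484 = n10745 := d14_1 D13484 (iv D10745) (iv F19083)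
theorem F23722 : act 4 n13484 = n10743 := d19_1 D13484 (iv D10743) D10741
def n13485 : Q := act 1 n10742
theorem D13485 : act 1 n10742 = n13485 := rfl
def n13486 : Q := act 6 n10742
theorem D13486 : act 6 n10742 = n13486 := rfl
theorem F23723 : act 2 n13486 = n10747 := d14_1 D13486 (iv D10747) (iv F19084)
theorem F23724 : act 5 n13486 = n13468 := d22_2 D10742 D13486 (iv D13468) F19068
def n13487 : Q := act 1 n10743
theorem D13487 : act 1 n10743 = n13487 := rfl
def n13488 : Q := act 5 n10743
theorem D13488 : act 5 n10743 = n13488 := rfl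
theorem F23725 : act 0 n13488 = n13486 := d4_1 D13488 F23724 F23696
theorem F23726 : act 2 n13488 = n10749 := d13_1 D13488 (iv D10749) (iv F19085)
theorem F23727 : act 6 n13488 = n13467 := d20_2 D10743 D13488 (iv D13467) D13468 (iv F23724) (iv D13486) (iv D10742)
def n13489 : Q := act 1 n10744
theorem D13489 : act 1 n10744 = n13489 := rfl
theorem F23728 : act 4 n13489 = n10746 := d8_2 (iv F19086) D13489 (iv D10746)
theorem F23729 : act 5 n13489 = n10758 := d9_2 D10744 D13489 (iv D10758) (iv D7745) (iv F11501)
def n13490 : Q := act 6 n10744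
theorem D13490 : act 6 n10744 = n13490 := rfl
theorem F23730 : act 4 n13490 = n10747 := d19_1 D13490 (iv D10747) (iv F19086)
theorem F23731 : act 5 n13490 = n13470 := d22_2 D10744 D13490 (iv D13470) F19076
def n13491 : Q := act 1 n10745
theorem D13491 : act 1 n10745 = n13491 := rfl
theorem F23732 : act 4 n13491 = n10748 := d8_2 (iv F19087) D13491 (iv D10748)
theorem F23733 : act 6 n13491 = n10760 := d10_2 D10745 D13491 (iv D10760) (iv D7746) (iv F11501)
def n13492 : Q := act 5 n10745
theorem D13492 : act 5 n10745 = n13492 := rfl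
theorem F23736 : act 6 n13492 = n13469 := d20_2 D10745 D13492 (iv D13469) D13470 (iv F23731) (iv D13490) (iv D10744)
def n13493 : Q := act 0 n10746
theorem D13493 : act 0 n10746 = n13493 := rfl
theorem F23737 : act 3 n13493 = n10750 := d2_2 (iv F19088) D13493 (iv D10750)
theorem F23738 : act 5 n13493 = n10762 := d4_2 (iv F19089) D13493 (iv D10762)
def n13494 : Q := act 2 n10746
theorem D13494 : act 2 n10746 = n13494 := rfl
theorem F23739 : act 5 n13494 = n10763 := d13_2 (iv F19089) D13494 (iv D10763)
def n13495 : Q := act 6 n10746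
theorem D13495 : act 6 n10746 = n13495 := rfl
theorem F23740 : act 3 n13495 = n10752 := d17_1 D13495 (iv D10752) (iv F19088)
def n13496 : Q := act 1 n10747
theorem D13496 : act 1 n10747 = n13496 := rfl
theorem F23741 : act 3 n13496 = n10753 := d7_2 (iv F19090) D13496 (iv D10753)
def n13497 : Q := act 0 n10748
theorem D13497 : act 0 n10748 = n13497 := rfl
theorem F23742 : act 3 n13497 = n10754 := d2_2 (iv F19092) D13497 (iv D10754)
theorem F23743 : act 6 n13497 = n10766 := d5_2 (iv F19093) D13497 (iv D10766)
def n13498 : Q := act 2 n10748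
theorem D13498 : act 2 n10748 = n13498 := rfl
theorem F23744 : act 6 n13498 = n10767 := d14_2 (iv F19093) D13498 (iv D10767)
def n13499 : Q := act 5 n10748
theorem D13499 : act 5 n10748 = n13499 := rfl
theorem F23745 : act 3 n13499 = n10756 := d16_1 D13499 (iv D10756) (iv F19092)
def n13500 : Q := act 1 n10749
theorem D13500 : act 1 n10749 = n13500 := rfl
theorem F23746 : act 3 n13500 = n10757 := d7_2 (iv F19095) D13500 (iv D10757)
def n13501 : Q := act 1 n10750
theorem D13501 : act 1 n10750 = n13501 := rfl
def n13502 : Q := act 2 n10750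
theorem D13502 : act 2 n10750 = n13502 := rfl
theorem F23747 : act 0 n13502 = n10751 := d1_1 D13502 (iv D10751) D10750
theorem F23748 : act 5 n13502 = n10771 := d13_2 (iv F19097) D13502 (iv D10771)
def n13503 : Q := act 3 n10751
theorem D13503 : act 3 n10751 = n13503 := rfl
theorem F23749 : act 1 n13503 = n10944 := d7_1 D13503 (iv D10944) (iv F19098)
theorem F23750 : act 5 n13503 = n10773 := d16_2 (iv F19099) D13503 (iv D10773)
def n13504 : Q := act 6 n10751
theorem D13504 : act 6 n10751 = n13504 := rfl
theorem F23751 : act 2 n13504 = n10752 := d14_1 D13504 (iv D10752) D10751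
def n13505 : Q := act 1 n10752
theorem D13505 : act 1 n10752 = n13505 := rfl
theorem F23752 : act 6 n13505 = n10753 := d10_2 D10752 D13505 (iv D10753) (iv D7742) D7741
def n13506 : Q := act 0 n10753
theorem D13506 : act 0 n10753 = n13506 := rfl
def n13507 : Q := act 2 n10753
theorem D13507 : act 2 n10753 = n13507 := rfl
theorem F23753 : act 1 n13507 = n10948 := d6_1 D13507 (iv D10948) (iv D8196) (iv F11505) D10753
def n13508 : Q := act 5 n10753
theorem D13508 : act 5 n10753 = n13508 := rfl
theorem F23754 : act 1 n13508 = n13478 := d9_1 D13508 (iv D13478) (iv D10739) (iv F11506) D10753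
def n13509 : Q := act 1 n10754
theorem D13509 : act 1 n10754 = n13509 := rfl
def n13510 : Q := act 2 n10754
theorem D13510 : act 2 n10754 = n13510 := rfl
theorem F23755 : act 0 n13510 = n10755 := d1_1 D13510 (iv D10755) D10754
theorem F23756 : act 6 n13510 = n10781 := d14_2 (iv F19100) D13510 (iv D10781)
def n13511 : Q := act 3 n10755
theorem D13511 : act 3 n10755 = n13511 := rfl
theorem F23757 : act 1 n13511 = n10952 := d7_1 D13511 (iv D10952) (iv F19101)
theorem F23758 : act 6 n13511 = n10783 := d17_2 (iv F19102) D13511 (iv D10783)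
def n13512 : Q := act 5 n10755
theorem D13512 : act 5 n10755 = n13512 := rfl
theorem F23759 : act 2 n13512 = n10756 := d13_1 D13512 (iv D10756) D10755
def n13513 : Q := act 1 n10756
theorem D13513 : act 1 n10756 = n13513 := rfl
theorem F23760 : act 5 n13513 = n10757 := d9_2 D10756 D13513 (iv D10757) (iv D7744) D7743
def n13514 : Q := act 0 n10757
theorem D13514 : act 0 n10757 = n13514 := rfl
def n13515 : Q := act 2 n10757
theorem D13515 : act 2 n10757 = n13515 := rfl
theorem F23761 : act 1 n13515 = n10956 := d6_1 D13515 (iv D10956) (iv D8200) (iv F11509) D10757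
def n13516 : Q := act 6 n10757
theorem D13516 : act 6 n10757 = n13516 := rfl
theorem F23762 : act 1 n13516 = n13475 := d10_1 D13516 (iv D13475) (iv D10738) (iv F11510) D10757
def n13517 : Q := act 0 n10758
theorem D13517 : act 0 n10758 = n13517 := rfl
theorem F23763 : act 4 n13517 = n10762 := d3_2 (iv F19103) D13517 (iv D10762)
def n13518 : Q := act 2 n10758
theorem D13518 : act 2 n10758 = n13518 := rfl
theorem F23764 : act 4 n13518 = n10763 := d12_2 (iv F19103) D13518 (iv D10763)
def n13519 : Q := act 6 n10758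
theorem D13519 : act 6 n10758 = n13519 := rfl
theorem F23765 : act 4 n13519 = n10764 := d19_1 D13519 (iv D10764) (iv F19103)
def n13520 : Q := act 1 n10759
theorem D13520 : act 1 n10759 = n13520 := rfl
theorem F23766 : act 3 n13520 = n13391 := d7_2 (iv F19105) D13520 (iv D13391)
theorem F23767 : act 4 n13520 = n10765 := d8_2 (iv F19106) D13520 (iv D10765)
def n13521 : Q := act 0 n10760
theorem D13521 : act 0 n10760 = n13521 := rfl
theorem F23768 : act 4 n13521 = n10766 := d3_2 (iv F19108) D13521 (iv D10766)
def n13522 : Q := act 2 n10760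
theorem D13522 : act 2 n10760 = n13522 := rfl
theorem F23769 : act 4 n13522 = n10767 := d12_2 (iv F19108) D13522 (iv D10767)
def n13523 : Q := act 5 n10760
theorem D13523 : act 5 n10760 = n13523 := rfl
theorem F23770 : act 4 n13523 = n10768 := d18_1 D13523 (iv D10768) (iv F19108)
def n13524 : Q := act 1 n10761
theorem D13524 : act 1 n10761 = n13524 := rfl
theorem F23771 : act 3 n13524 = n13387 := d7_2 (iv F19111) D13524 (iv D13387)
theorem F23772 : act 4 n13524 = n10769 := d8_2 (iv F19112) D13524 (iv D10769)
def n13525 : Q := act 1 n10762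
theorem D13525 : act 1 n10762 = n13525 := rfl
theorem F23773 : act 3 n13525 = n10770 := d7_2 (iv F19114) D13525 (iv D10770)
def n13526 : Q := act 2 n10762
theorem D13526 : act 2 n10762 = n13526 := rfl
theorem F23774 : act 0 n13526 = n10763 := d1_1 D13526 (iv D10763) D10762
def n13527 : Q := act 6 n10762
theorem D13527 : act 6 n10762 = n13527 := rfl
theorem F23775 : act 0 n13527 = n10764 := d5_1 D13527 (iv D10764) D10762
theorem F23776 : act 3 n13527 = n10772 := d17_1 D13527 (iv D10772) (iv F19114)
theorem F23777 : act 5 n13527 = n13495 := d22_2 F23738 D13527 (iv D13495) D13493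
def n13528 : Q := act 3 n10763
theorem D13528 : act 3 n10763 = n13528 := rfl
def n13529 : Q := act 6 n10763
theorem D13529 : act 6 n10763 = n13529 := rfl
theorem F23778 : act 2 n13529 = n10764 := d14_1 D13529 (iv D10764) D10763
def n13530 : Q := act 1 n10764
theorem D13530 : act 1 n10764 = n13530 := rfl
theorem F23779 : act 3 n13530 = n10775 := d7_2 (iv F19115) D13530 (iv D10775)
theorem F23780 : act 6 n13530 = n10765 := d10_2 D10764 D13530 (iv D10765) (iv D7748) D7747
def n13531 : Q := act 5 n10764
theorem D13531 : act 5 n10764 = n13531 := rfl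
theorem F23781 : act 0 n13531 = n13495 := d4_1 D13531 (iv F23777) F23775
theorem F23782 : act 3 n13531 = n10776 := d16_1 D13531 (iv D10776) (iv F19115)
theorem F23783 : act 6 n13531 = n13493 := d20_2 D10764 D13531 F23738 D13527 F23777 (iv D13495) F19089
def n13532 : Q := act 0 n10765
theorem D13532 : act 0 n10765 = n13532 := rfl
theorem F23784 : act 3 n13532 = n10777 := d2_2 (iv F19116) D13532 (iv D10777)
def n13533 : Q := act 2 n10765
theorem D13533 : act 2 n10765 = n13533 := rfl
theorem F23785 : act 1 n13533 = n11386 := d6_1 D13533 (iv D11386) (iv D9092) (iv F11514) D10765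
def n13534 : Q := act 5 n10765
theorem D13534 : act 5 n10765 = n13534 := rfl
theorem F23786 : act 1 n13534 = n11359 := d9_1 D13534 (iv D11359) (iv D9080) (iv F11516) D10765
theorem F23787 : act 3 n13534 = n10779 := d16_1 D13534 (iv D10779) (iv F19116)
def n13535 : Q := act 1 n10766
theorem D13535 : act 1 n10766 = n13535 := rfl
theorem F23788 : act 3 n13535 = n10780 := d7_2 (iv F19117) D13535 (iv D10780)
def n13536 : Q := act 2 n10766
theorem D13536 : act 2 n10766 = n13536 := rfl
theorem F23789 : act 0 n13536 = n10767 := d1_1 D13536 (iv D10767) D10766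
def n13537 : Q := act 5 n10766
theorem D13537 : act 5 n10766 = n13537 := rfl
theorem F23790 : act 0 n13537 = n10768 := d4_1 D13537 (iv D10768) D10766
theorem F23791 : act 3 n13537 = n10782 := d16_1 D13537 (iv D10782) (iv F19117)
theorem F23792 : act 6 n13537 = n13499 := d22_1 D13537 (iv D13499) F19093 D10766
def n13538 : Q := act 3 n10767
theorem D13538 : act 3 n10767 = n13538 := rfl
def n13539 : Q := act 5 n10767
theorem D13539 : act 5 n10767 = n13539 := rfl
theorem F23793 : act 2 n13539 = n10768 := d13_1 D13539 (iv D10768) D10767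
def n13540 : Q := act 1 n10768
theorem D13540 : act 1 n10768 = n13540 := rfl
theorem F23794 : act 3 n13540 = n10785 := d7_2 (iv F19118) D13540 (iv D10785)
theorem F23795 : act 5 n13540 = n10769 := d9_2 D10768 D13540 (iv D10769) (iv D7750) D7749
def n13541 : Q := act 6 n10768
theorem D13541 : act 6 n10768 = n13541 := rfl
theorem F23796 : act 0 n13541 = n13499 := d5_1 D13541 (iv F23792) F23790
theorem F23797 : act 3 n13541 = n10786 := d17_1 D13541 (iv D10786) (iv F19118)
theorem F23798 : act 5 n13541 = n13497 := d20_1 D13541 F23743 D13537 F23792 (iv D13499) F19093 D10768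
def n13542 : Q := act 0 n10769
theorem D13542 : act 0 n10769 = n13542 := rfl
theorem F23799 : act 3 n13542 = n10787 := d2_2 (iv F19119) D13542 (iv D10787)
def n13543 : Q := act 2 n10769
theorem D13543 : act 2 n10769 = n13543 := rfl
theorem F23800 : act 1 n13543 = n11376 := d6_1 D13543 (iv D11376) (iv D9088) (iv F11519) D10769
def n13544 : Q := act 6 n10769
theorem D13544 : act 6 n10769 = n13544 := rfl
theorem F23801 : act 1 n13544 = n11356 := d10_1 D13544 (iv D11356) (iv D9079) (iv F11521) D10769
theorem F23802 : act 3 n13544 = n10789 := d17_1 D13544 (iv D10789) (iv F19119)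
def n13545 : Q := act 0 n10770
theorem D13545 : act 0 n10770 = n13545 := rfl
def n13546 : Q := act 2 n10770
theorem D13546 : act 2 n10770 = n13546 := rfl
def n13547 : Q := act 5 n10770
theorem D13547 : act 5 n10770 = n13547 := rfl
def n13548 : Q := act 6 n10770
theorem D13548 : act 6 n10770 = n13548 := rfl
def n13549 : Q := act 1 n10771
theorem D13549 : act 1 n10771 = n13549 := rfl
def n13550 : Q := act 3 n10771
theorem D13550 : act 3 n10771 = n13550 := rfl
theorem F23803 : act 0 n13550 = n10773 := d2_1 D13550 (iv D10773) (iv F19120)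
def n13551 : Q := act 6 n10771
theorem D13551 : act 6 n10771 = n13551 := rfl
theorem F23804 : act 0 n13551 = n10774 := d5_1 D13551 (iv D10774) (iv F19120)
theorem F23805 : act 2 n13551 = n10772 := d14_1 D13551 (iv D10772) D10771
theorem F23806 : act 5 n13551 = n13504 := d22_2 F23748 D13551 (iv D13504) (iv F23747)
def n13552 : Q := act 1 n10772
theorem D13552 : act 1 n10772 = n13552 := rfl
def n13553 : Q := act 2 n10773
theorem D13553 : act 2 n10773 = n13553 := rfl
def n13554 : Q := act 4 n10773
theorem D13554 : act 4 n10773 = n13554 := rfl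
theorem F23807 : act 1 n13554 = n10793 := d8_1 D13554 (iv D10793) (iv F19123)
def n13555 : Q := act 6 n10773
theorem D13555 : act 6 n10773 = n13555 := rfl
theorem F23808 : act 3 n13555 = n10774 := d17_1 D13555 (iv D10774) D10773
def n13556 : Q := act 1 n10774
theorem D13556 : act 1 n10774 = n13556 := rfl
theorem F23809 : act 6 n13556 = n10795 := d10_2 D10774 D13556 (iv D10795) (iv D7762) (iv F11522)
def n13557 : Q := act 5 n10774
theorem D13557 : act 5 n10774 = n13557 := rfl
theorem F23810 : act 0 n13557 = n13504 := d4_1 D13557 (iv F23806) F23804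
theorem F23811 : act 2 n13557 = n10776 := d13_1 D13557 (iv D10776) (iv F19124)
theorem F23812 : act 6 n13557 = n13502 := d20_2 D10774 D13557 F23748 D13551 F23806 (iv D13504) F19099
def n13558 : Q := act 0 n10775
theorem D13558 : act 0 n10775 = n13558 := rfl
theorem F23813 : act 6 n13558 = n10777 := d5_2 (iv F19125) D13558 (iv D10777)
def n13559 : Q := act 2 n10775
theorem D13559 : act 2 n10775 = n13559 := rfl
theorem F23814 : act 6 n13559 = n10778 := d14_2 (iv F19125) D13559 (iv D10778)
def n13560 : Q := act 5 n10775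
theorem D13560 : act 5 n10775 = n13560 := rfl
def n13561 : Q := act 1 n10776
theorem D13561 : act 1 n10776 = n13561 := rfl
def n13562 : Q := act 1 n10777
theorem D13562 : act 1 n10777 = n13562 := rfl
def n13563 : Q := act 2 n10777
theorem D13563 : act 2 n10777 = n13563 := rfl
theorem F23815 : act 0 n13563 = n10778 := d1_1 D13563 (iv D10778) D10777
def n13564 : Q := act 5 n10777
theorem D13564 : act 5 n10777 = n13564 := rfl
theorem F23816 : act 0 n13564 = n10779 := d4_1 D13564 (iv D10779) D10777
theorem F23817 : act 6 n13564 = n13560 := d22_1 D13564 (iv D13560) F19125 D10777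
def n13565 : Q := act 3 n10778
theorem D13565 : act 3 n10778 = n13565 := rfl
theorem F23818 : act 1 n13565 = n10796 := d7_1 D13565 (iv D10796) (iv F19128)
def n13566 : Q := act 5 n10778
theorem D13566 : act 5 n10778 = n13566 := rfl
theorem F23819 : act 1 n13566 = n11029 := d9_1 D13566 (iv D11029) (iv D8248) (iv F17171) (iv F19128)
theorem F23820 : act 2 n13566 = n10779 := d13_1 D13566 (iv D10779) D10778
def n13567 : Q := act 6 n10779
theorem D13567 : act 6 n10779 = n13567 := rfl
theorem F23821 : act 0 n13567 = n13560 := d5_1 D13567 (iv F23817) F23816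
theorem F23822 : act 5 n13567 = n13558 := d20_1 D13567 F23813 D13564 F23817 (iv D13560) F19125 D10779
def n13568 : Q := act 0 n10780
theorem D13568 : act 0 n10780 = n13568 := rfl
def n13569 : Q := act 2 n10780
theorem D13569 : act 2 n10780 = n13569 := rfl
def n13570 : Q := act 5 n10780
theorem D13570 : act 5 n10780 = n13570 := rfl
def n13571 : Q := act 6 n10780
theorem D13571 : act 6 n10780 = n13571 := rfl
def n13572 : Q := act 1 n10781
theorem D13572 : act 1 n10781 = n13572 := rfl
def n13573 : Q := act 3 n10781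
theorem D13573 : act 3 n10781 = n13573 := rfl
theorem F23823 : act 0 n13573 = n10783 := d2_1 D13573 (iv D10783) (iv F19130)
def n13574 : Q := act 5 n10781
theorem D13574 : act 5 n10781 = n13574 := rfl
theorem F23824 : act 0 n13574 = n10784 := d4_1 D13574 (iv D10784) (iv F19130)
theorem F23825 : act 2 n13574 = n10782 := d13_1 D13574 (iv D10782) D10781
theorem F23826 : act 6 n13574 = n13512 := d22_1 D13574 (iv D13512) F19102 (iv F19130)
def n13575 : Q := act 1 n10782
theorem D13575 : act 1 n10782 = n13575 := rfl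
def n13576 : Q := act 2 n10783
theorem D13576 : act 2 n10783 = n13576 := rfl
def n13577 : Q := act 4 n10783
theorem D13577 : act 4 n10783 = n13577 := rfl
theorem F23827 : act 1 n13577 = n10800 := d8_1 D13577 (iv D10800) (iv F19133)
def n13578 : Q := act 5 n10783
theorem D13578 : act 5 n10783 = n13578 := rfl
theorem F23828 : act 3 n13578 = n10784 := d16_1 D13578 (iv D10784) D10783
def n13579 : Q := act 1 n10784
theorem D13579 : act 1 n10784 = n13579 := rfl
theorem F23829 : act 5 n13579 = n10802 := d9_2 D10784 D13579 (iv D10802) (iv D7770) (iv F11523)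
def n13580 : Q := act 6 n10784
theorem D13580 : act 6 n10784 = n13580 := rfl
theorem F23830 : act 0 n13580 = n13512 := d5_1 D13580 (iv F23826) F23824
theorem F23831 : act 2 n13580 = n10786 := d14_1 D13580 (iv D10786) (iv F19134)
theorem F23832 : act 5 n13580 = n13510 := d20_1 D13580 F23756 D13574 F23826 (iv D13512) F19102 D10784
def n13581 : Q := act 0 n10785
theorem D13581 : act 0 n10785 = n13581 := rfl
theorem F23833 : act 5 n13581 = n10787 := d4_2 (iv F19135) D13581 (iv D10787)
def n13582 : Q := act 2 n10785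
theorem D13582 : act 2 n10785 = n13582 := rfl
theorem F23834 : act 5 n13582 = n10788 := d13_2 (iv F19135) D13582 (iv D10788)
def n13583 : Q := act 6 n10785
theorem D13583 : act 6 n10785 = n13583 := rfl
def n13584 : Q := act 1 n10786
theorem D13584 : act 1 n10786 = n13584 := rfl
def n13585 : Q := act 1 n10787
theorem D13585 : act 1 n10787 = n13585 := rfl
def n13586 : Q := act 2 n10787
theorem D13586 : act 2 n10787 = n13586 := rfl
theorem F23835 : act 0 n13586 = n10788 := d1_1 D13586 (iv D10788) D10787
def n13587 : Q := act 6 n10787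
theorem D13587 : act 6 n10787 = n13587 := rfl
theorem F23836 : act 0 n13587 = n10789 := d5_1 D13587 (iv D10789) D10787
theorem F23837 : act 5 n13587 = n13583 := d22_2 F23833 D13587 (iv D13583) D13581
def n13588 : Q := act 3 n10788
theorem D13588 : act 3 n10788 = n13588 := rfl
theorem F23838 : act 1 n13588 = n10803 := d7_1 D13588 (iv D10803) (iv F19138)
def n13589 : Q := act 6 n10788
theorem D13589 : act 6 n10788 = n13589 := rfl
theorem F23839 : act 1 n13589 = n11007 := d10_1 D13589 (iv D11007) (iv D8225) (iv F17156) (iv F19138)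
theorem F23840 : act 2 n13589 = n10789 := d14_1 D13589 (iv D10789) D10788
def n13590 : Q := act 5 n10789
theorem D13590 : act 5 n10789 = n13590 := rfl
theorem F23841 : act 0 n13590 = n13583 := d4_1 D13590 (iv F23837) F23836
theorem F23842 : act 6 n13590 = n13581 := d20_2 D10789 D13590 F23833 D13587 F23837 (iv D13583) F19135
def n13591 : Q := act 0 n10790
theorem D13591 : act 0 n10790 = n13591 := rfl
theorem F23843 : act 2 n13591 = n13591 := d1_2 F19140 D13591 (iv D13591)
def n13592 : Q := act 3 n10790
theorem D13592 : act 3 n10790 = n13592 := rfl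
theorem F23844 : act 1 n13592 = n10791 := d7_1 D13592 (iv D10791) D10790
def n13593 : Q := act 5 n10790
theorem D13593 : act 5 n10790 = n13593 := rfl
theorem F23845 : act 1 n13593 = n11006 := d9_1 D13593 (iv D11006) (iv D8225) (iv F11526) D10790
def n13594 : Q := act 6 n10790
theorem D13594 : act 6 n10790 = n13594 := rfl
theorem F23847 : act 2 n13594 = n13594 := d14_1 D13594 (iv D13594) F19140
def n13595 : Q := act 4 n10791
theorem D13595 : act 4 n10791 = n13595 := rfl
theorem F23848 : act 0 n13595 = n10793 := d3_1 D13595 (iv D10793) (iv F19141)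
theorem F23849 : act 5 n13595 = n11008 := d18_2 (iv F19142) D13595 (iv D11008)
def n13596 : Q := act 1 n10792
theorem D13596 : act 1 n10792 = n13596 := rfl
def n13597 : Q := act 4 n10792
theorem D13597 : act 4 n10792 = n13597 := rfl
theorem F23850 : act 2 n13597 = n10793 := d12_1 D13597 (iv D10793) D10792
theorem F23851 : act 5 n13597 = n11010 := d18_2 (iv F19143) D13597 (iv D11010)
def n13598 : Q := act 6 n10792
theorem D13598 : act 6 n10792 = n13598 := rfl
theorem F23852 : act 2 n13598 = n10794 := d14_1 D13598 (iv D10794) D10792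
theorem F23853 : act 3 n13598 = n11060 := d17_1 D13598 F19572 F19168
theorem F23854 : act 5 n13598 = n11056 := d22_2 (iv F19143) D13598 (iv D11056) F12309
def n13599 : Q := act 6 n10793
theorem D13599 : act 6 n10793 = n13599 := rfl
theorem F23855 : act 4 n13599 = n10794 := d19_1 D13599 (iv D10794) D10793
def n13600 : Q := act 1 n10794
theorem D13600 : act 1 n10794 = n13600 := rfl
theorem F23856 : act 3 n13600 = n10795 := d7_2 (iv F19145) D13600 (iv D10795)
def n13601 : Q := act 0 n10795
theorem D13601 : act 0 n10795 = n13601 := rfl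
def n13602 : Q := act 5 n10795
theorem D13602 : act 5 n10795 = n13602 := rfl
theorem F23857 : act 1 n13602 = n13582 := d9_1 D13602 F23834 F19138 F17155 D10795
theorem F23858 : act 2 n13602 = n13579 := d13_1 D13602 F23829 F19155
def n13603 : Q := act 4 n10796
theorem D13603 : act 4 n10796 = n13603 := rfl
theorem F23859 : act 0 n13603 = n11035 := d3_1 D13603 F19537 (iv F19146)
theorem F23860 : act 5 n13603 = n11031 := d18_2 (iv F19147) D13603 (iv D11031)
def n13604 : Q := act 0 n10797
theorem D13604 : act 0 n10797 = n13604 := rfl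
theorem F23861 : act 2 n13604 = n13604 := d1_2 F19148 D13604 (iv D13604)
def n13605 : Q := act 3 n10797
theorem D13605 : act 3 n10797 = n13605 := rfl
theorem F23862 : act 1 n13605 = n10798 := d7_1 D13605 (iv D10798) D10797
def n13606 : Q := act 5 n10797
theorem D13606 : act 5 n10797 = n13606 := rfl
theorem F23863 : act 2 n13606 = n13606 := d13_1 D13606 (iv D13606) F19148
def n13607 : Q := act 6 n10797
theorem D13607 : act 6 n10797 = n13607 := rfl
def n13608 : Q := act 4 n10798
theorem D13608 : act 4 n10798 = n13608 := rfl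
theorem F23866 : act 0 n13608 = n10800 := d3_1 D13608 (iv D10800) (iv F19149)
theorem F23867 : act 6 n13608 = n11031 := d19_2 (iv F19150) D13608 (iv D11031)
def n13609 : Q := act 1 n10799
theorem D13609 : act 1 n10799 = n13609 := rfl
def n13610 : Q := act 4 n10799
theorem D13610 : act 4 n10799 = n13610 := rfl
theorem F23868 : act 2 n13610 = n10800 := d12_1 D13610 (iv D10800) D10799
theorem F23869 : act 6 n13610 = n11033 := d19_2 (iv F19151) D13610 (iv D11033)
def n13611 : Q := act 5 n10799
theorem D13611 : act 5 n10799 = n13611 := rfl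
theorem F23870 : act 2 n13611 = n10801 := d13_1 D13611 (iv D10801) D10799
theorem F23871 : act 3 n13611 = n11090 := d16_1 D13611 F19633 F19196
theorem F23872 : act 6 n13611 = n11086 := d22_1 D13611 (iv D11086) (iv F19203) F19201
def n13612 : Q := act 5 n10800
theorem D13612 : act 5 n10800 = n13612 := rfl
theorem F23873 : act 4 n13612 = n10801 := d18_1 D13612 (iv D10801) D10800
theorem F23874 : act 6 n13612 = n13603 := d22_1 D13612 F23860 (iv F23867) F23866
def n13613 : Q := act 1 n10801
theorem D13613 : act 1 n10801 = n13613 := rfl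
theorem F23875 : act 3 n13613 = n10802 := d7_2 (iv F19153) D13613 (iv D10802)
def n13614 : Q := act 0 n10802
theorem D13614 : act 0 n10802 = n13614 := rfl
theorem F23876 : act 2 n13614 = n13601 := d1_2 (iv F19155) D13614 (iv D13601)
def n13615 : Q := act 6 n10802
theorem D13615 : act 6 n10802 = n13615 := rfl
theorem F23877 : act 1 n13615 = n13559 := d10_1 D13615 F23814 F19128 F17172 D10802
theorem F23878 : act 2 n13615 = n13556 := d14_1 D13615 F23809 (iv F19155)
def n13616 : Q := act 4 n10803
theorem D13616 : act 4 n10803 = n13616 := rfl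
theorem F23879 : act 0 n13616 = n11012 := d3_1 D13616 F19513 (iv F19156)
theorem F23880 : act 5 n13616 = n13599 := d18_2 (iv F19157) D13616 F23855
theorem F23881 : act 6 n13616 = n11008 := d19_2 (iv F19158) D13616 (iv D11008)
def n13617 : Q := act 2 n10804
theorem D13617 : act 2 n10804 = n13617 := rfl
theorem F23882 : act 0 n13617 = n13617 := d1_1 D13617 (iv D13617) F19159
theorem F23883 : act 5 n13617 = n13617 := d13_2 F19161 D13617 (iv D13617)
def n13618 : Q := act 4 n10804
theorem D13618 : act 4 n10804 = n13618 := rfl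
theorem F23884 : act 0 n13618 = n13618 := d3_1 D13618 (iv D13618) F19159
theorem F23885 : act 1 n13618 = n10807 := d8_1 D13618 (iv D10807) (iv F19160)
theorem F23886 : act 3 n13618 = n10826 := d15_1 D13618 (iv D10826) (iv D7821) (iv F11552) D10804
theorem F23887 : act 5 n13618 = n13618 := d18_2 F19161 D13618 (iv D13618)
def n13619 : Q := act 6 n10804
theorem D13619 : act 6 n10804 = n13619 := rfl
def n13620 : Q := act 1 n10806
theorem D13620 : act 1 n10806 = n13620 := rfl
theorem F23891 : act 3 n13620 = n13596 := d7_2 (iv F19168) D13620 (iv D13596)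
def n13621 : Q := act 4 n10806
theorem D13621 : act 4 n10806 = n13621 := rfl
theorem F23892 : act 0 n13621 = n10810 := d3_1 D13621 (iv D10810) (iv F19166)
theorem F23893 : act 2 n13621 = n10807 := d12_1 D13621 (iv D10807) D10806
theorem F23894 : act 5 n13621 = n11049 := d18_2 (iv F19167) D13621 (iv D11049)
def n13622 : Q := act 0 n10808
theorem D13622 : act 0 n10808 = n13622 := rfl
theorem F23895 : act 2 n13622 = n11444 := d1_2 (iv F19172) D13622 (iv D11444)
def n13623 : Q := act 3 n10808
theorem D13623 : act 3 n10808 = n13623 := rfl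
theorem F23896 : act 1 n13623 = n10809 := d7_1 D13623 (iv D10809) D10808
def n13624 : Q := act 4 n10808
theorem D13624 : act 4 n10808 = n13624 := rfl
theorem F23897 : act 1 n13624 = n10810 := d8_1 D13624 (iv D10810) D10808
theorem F23898 : act 2 n13624 = n11446 := d12_1 D13624 (iv D11446) (iv F19172)
def n13625 : Q := act 5 n10808
theorem D13625 : act 5 n10808 = n13625 := rfl
theorem F23899 : act 1 n13625 = n11053 := d9_1 D13625 (iv D11053) (iv D8282) (iv F11555) D10808
theorem F23900 : act 2 n13625 = n11447 := d13_1 D13625 (iv D11447) (iv F19172)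
def n13626 : Q := act 6 n10808
theorem D13626 : act 6 n10808 = n13626 := rfl
theorem F23901 : act 2 n13626 = n11448 := d14_1 D13626 (iv D11448) (iv F19172)
def n13627 : Q := act 4 n10809
theorem D13627 : act 4 n10809 = n13627 := rfl
theorem F23902 : act 0 n13627 = n13597 := d3_1 D13627 (iv D13597) (iv F19173)
theorem F23903 : act 2 n13627 = n13595 := d12_1 D13627 (iv D13595) (iv F19174)
theorem F23904 : act 5 n13627 = n11055 := d18_2 (iv F19175) D13627 (iv D11055)
def n13628 : Q := act 6 n10809
theorem D13628 : act 6 n10809 = n13628 := rfl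
theorem F23905 : act 0 n13628 = n13598 := d5_1 D13628 (iv D13598) (iv F19173)
theorem F23906 : act 2 n13628 = n11014 := d14_1 D13628 F19517 (iv F19174)
theorem F23907 : act 3 n13628 = n10811 := d17_1 D13628 (iv D10811) D10809
theorem F23908 : act 5 n13628 = n11011 := d20_1 D13628 (iv D11011) (iv F19143) D13598 F23854 (iv D11056) (iv F19175)
def n13629 : Q := act 3 n10810
theorem D13629 : act 3 n10810 = n13629 := rfl
theorem F23909 : act 5 n13629 = n11057 := d16_2 (iv F19177) D13629 (iv D11057)
def n13630 : Q := act 6 n10810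
theorem D13630 : act 6 n10810 = n13630 := rfl
theorem F23911 : act 4 n13630 = n10811 := d19_1 D13630 (iv D10811) D10810
def n13631 : Q := act 1 n10811
theorem D13631 : act 1 n10811 = n13631 := rfl
def n13632 : Q := act 1 n10813
theorem D13632 : act 1 n10813 = n13632 := rfl
theorem F23912 : act 2 n13632 = n11455 := d6_2 D10813 D13632 (iv D11455) (iv D9164) (iv F11573)
def n13633 : Q := act 4 n10813
theorem D13633 : act 4 n10813 = n13633 := rfl
theorem F23913 : act 0 n13633 = n11088 := d3_1 D13633 F19630 (iv F19181)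
theorem F23914 : act 2 n13633 = n10814 := d12_1 D13633 (iv D10814) D10813
theorem F23915 : act 5 n13633 = n11079 := d18_2 (iv F19182) D13633 (iv D11079)
def n13634 : Q := act 2 n10815
theorem D13634 : act 2 n10815 = n13634 := rfl
theorem F23916 : act 0 n13634 = n13634 := d1_1 D13634 (iv D13634) F19187
theorem F23917 : act 6 n13634 = n13634 := d14_2 F19189 D13634 (iv D13634)
def n13635 : Q := act 4 n10815
theorem D13635 : act 4 n10815 = n13635 := rfl
theorem F23919 : act 1 n13635 = n10818 := d8_1 D13635 (iv D10818) (iv F19188)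
def n13636 : Q := act 5 n10815
theorem D13636 : act 5 n10815 = n13636 := rfl
theorem F23923 : act 3 n13636 = n10816 := d16_1 D13636 (iv D10816) D10815
def n13637 : Q := act 1 n10817
theorem D13637 : act 1 n10817 = n13637 := rfl
theorem F23925 : act 3 n13637 = n13609 := d7_2 (iv F19196) D13637 (iv D13609)
def n13638 : Q := act 4 n10817
theorem D13638 : act 4 n10817 = n13638 := rfl
theorem F23926 : act 0 n13638 = n10821 := d3_1 D13638 (iv D10821) (iv F19194)
theorem F23927 : act 2 n13638 = n10818 := d12_1 D13638 (iv D10818) D10817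
theorem F23928 : act 6 n13638 = n11079 := d19_2 (iv F19195) D13638 (iv D11079)
def n13639 : Q := act 0 n10819
theorem D13639 : act 0 n10819 = n13639 := rfl
theorem F23929 : act 2 n13639 = n11458 := d1_2 (iv F19200) D13639 (iv D11458)
def n13640 : Q := act 3 n10819
theorem D13640 : act 3 n10819 = n13640 := rfl
theorem F23930 : act 1 n13640 = n10820 := d7_1 D13640 (iv D10820) D10819
def n13641 : Q := act 4 n10819
theorem D13641 : act 4 n10819 = n13641 := rfl
theorem F23931 : act 1 n13641 = n10821 := d8_1 D13641 (iv D10821) D10819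
theorem F23932 : act 2 n13641 = n11460 := d12_1 D13641 (iv D11460) (iv F19200)
def n13642 : Q := act 5 n10819
theorem D13642 : act 5 n10819 = n13642 := rfl
theorem F23933 : act 2 n13642 = n11461 := d13_1 D13642 (iv D11461) (iv F19200)
def n13643 : Q := act 6 n10819
theorem D13643 : act 6 n10819 = n13643 := rfl
theorem F23935 : act 2 n13643 = n11462 := d14_1 D13643 (iv D11462) (iv F19200)
def n13644 : Q := act 4 n10820
theorem D13644 : act 4 n10820 = n13644 := rfl
theorem F23936 : act 0 n13644 = n13610 := d3_1 D13644 (iv D13610) (iv F19201)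

end Cfsg.Agent.Helper17.SuzbTC
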