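import Cfsg.Agent.Helper17.SuzbTC.Facts2

set_option autoImplicit false
set_option linter.all false

noncomputable section

namespace Cfsg.Agent.Helper17.SuzbTC

theorem F23937 : act 2 n13644 = n13608 := d12_1 D13644 (iv D13608) (iv F19202)
theorem F23938 : act 6 n13644 = n11085 := d19_2 (iv F19203) D13644 (iv D11085)
def n13645 : Q := act 5 n10820
theorem D13645 : act 5 n10820 = n13645 := rfl
theorem F23939 : act 0 n13645 = n13611 := d4_1 D13645 (iv D13611) (iv F19201)
theorem F23940 : act 2 n13645 = n11037 := d13_1 D13645 F19541 (iv F19202)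
theorem F23941 : act 3 n13645 = n10822 := d16_1 D13645 (iv D10822) D10820
theorem F23942 : act 6 n13645 = n11034 := d20_2 (iv F19203) D13645 (iv D11034) (iv F19151) D13611 F23872 (iv D11086)
def n13646 : Q := act 3 n10821
theorem D13646 : act 3 n10821 = n13646 := rfl
theorem F23943 : act 6 n13646 = n11087 := d17_2 (iv F19205) D13646 (iv D11087)
def n13647 : Q := act 5 n10821
theorem D13647 : act 5 n10821 = n13647 := rfl
theorem F23944 : act 2 n13647 = n10823 := d13_1 D13647 (iv D10823) (iv F19204)
theorem F23945 : act 4 n13647 = n10822 := d18_1 D13647 (iv D10822) D10821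
theorem F23946 : act 6 n13647 = n13633 := d22_1 D13647 F23915 (iv F23928) F23926
def n13648 : Q := act 1 n10822
theorem D13648 : act 1 n10822 = n13648 := rfl
def n13649 : Q := act 1 n10824
theorem D13649 : act 1 n10824 = n13649 := rfl
theorem F23947 : act 2 n13649 = n11469 := d6_2 D10824 D13649 (iv D11469) (iv D9194) (iv F11613)
def n13650 : Q := act 4 n10824
theorem D13650 : act 4 n10824 = n13650 := rfl
theorem F23948 : act 0 n13650 = n11058 := d3_1 D13650 F19569 (iv F19211)
theorem F23949 : act 2 n13650 = n10825 := d12_1 D13650 (iv D10825) D10824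
theorem F23950 : act 5 n13650 = n13630 := d18_2 (iv F19212) D13650 F23911
theorem F23951 : act 6 n13650 = n11049 := d19_2 (iv F19213) D13650 (iv D11049)
def n13653 : Q := act 3 n10830
theorem D13653 : act 3 n10830 = n13653 := rfl
theorem F23960 : act 0 n13653 = n10831 := d2_1 D13653 (iv D10831) D10830
theorem F23961 : act 2 n12057 = n13653 := d21_0 (iv D13653) (iv F19236) D10831 (iv F19238) D12058 F21296 (iv D12058) D12057
def n13654 : Q := act 5 n10830
theorem D13654 : act 5 n10830 = n13654 := rfl
theorem F23962 : act 0 n13654 = n10832 := d4_1 D13654 (iv D10832) D10830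
theorem F23963 : act 2 n13654 = n10832 := d13_1 D13654 (iv D10832) F19236
theorem F23964 : act 4 n13654 = n10930 := d18_1 D13654 (iv D10930) (iv F19235)
def n13655 : Q := act 6 n10830
theorem D13655 : act 6 n10830 = n13655 := rfl
theorem F23965 : act 0 n13655 = n10833 := d5_1 D13655 (iv D10833) D10830
theorem F23966 : act 2 n13655 = n10833 := d14_1 D13655 (iv D10833) F19236
theorem F23967 : act 4 n13655 = n10931 := d19_1 D13655 (iv D10931) (iv F19235)
def n13656 : Q := act 5 n10831
theorem D13656 : act 5 n10831 = n13656 := rfl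
theorem F23968 : act 2 n13656 = n12059 := d13_1 D13656 (iv D12059) F19238
theorem F23969 : act 3 n13656 = n10832 := d16_1 D13656 (iv D10832) D10831
def n13657 : Q := act 6 n10831
theorem D13657 : act 6 n10831 = n13657 := rfl
theorem F23970 : act 2 n13657 = n12060 := d14_1 D13657 (iv D12060) F19238
theorem F23971 : act 3 n13657 = n10833 := d17_1 D13657 (iv D10833) D10831
def n13658 : Q := act 1 n10832
theorem D13658 : act 1 n10832 = n13658 := rfl
theorem F23972 : act 4 n13658 = n10932 := d8_2 (iv F19239) D13658 (iv D10932)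
theorem F23973 : act 5 n13658 = n10836 := d9_2 D10832 D13658 (iv D10836) (iv D7997) D7995
def n13659 : Q := act 6 n10832
theorem D13659 : act 6 n10832 = n13659 := rfl
theorem F23974 : act 4 n13659 = n10933 := d19_1 D13659 (iv D10933) (iv F19239)
theorem F23975 : act 5 n13659 = n13655 := d22_2 D10832 D13659 (iv D13655) (iv D10830)
def n13660 : Q := act 1 n10833
theorem D13660 : act 1 n10833 = n13660 := rfl
theorem F23976 : act 4 n13660 = n10934 := d8_2 (iv F19240) D13660 (iv D10934)
theorem F23977 : act 6 n13660 = n10837 := d10_2 D10833 D13660 (iv D10837) (iv D7998) D7995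
def n13661 : Q := act 5 n10833
theorem D13661 : act 5 n10833 = n13661 := rfl
theorem F23978 : act 0 n13661 = n13659 := d4_1 D13661 F23975 F23965
theorem F23979 : act 2 n13661 = n13659 := d13_1 D13661 F23975 F23966
theorem F23980 : act 4 n13661 = n10935 := d18_1 D13661 (iv D10935) (iv F19240)
theorem F23981 : act 6 n13661 = n13654 := d20_2 D10833 D13661 (iv D13654) D13655 (iv F23975) (iv D13659) (iv D10832)
def n13662 : Q := act 1 n10834
theorem D13662 : act 1 n10834 = n13662 := rfl
theorem F23982 : act 3 n13662 = n10836 := d7_2 (iv F19243) D13662 (iv D10836)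
def n13663 : Q := act 1 n10835
theorem D13663 : act 1 n10835 = n13663 := rfl
theorem F23983 : act 3 n13663 = n10837 := d7_2 (iv F19246) D13663 (iv D10837)
def n13664 : Q := act 0 n10836
theorem D13664 : act 0 n10836 = n13664 := rfl
theorem F23984 : act 4 n13664 = n10936 := d3_2 (iv F19247) D13664 (iv D10936)
def n13665 : Q := act 2 n10836
theorem D13665 : act 2 n10836 = n13665 := rfl
theorem F23985 : act 4 n13665 = n10937 := d12_2 (iv F19247) D13665 (iv D10937)
def n13666 : Q := act 6 n10836
theorem D13666 : act 6 n10836 = n13666 := rfl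
theorem F23986 : act 4 n13666 = n10938 := d19_1 D13666 (iv D10938) (iv F19247)
def n13667 : Q := act 0 n10837
theorem D13667 : act 0 n10837 = n13667 := rfl
theorem F23987 : act 4 n13667 = n10939 := d3_2 (iv F19248) D13667 (iv D10939)
def n13668 : Q := act 2 n10837
theorem D13668 : act 2 n10837 = n13668 := rfl
theorem F23988 : act 4 n13668 = n10940 := d12_2 (iv F19248) D13668 (iv D10940)
def n13669 : Q := act 5 n10837
theorem D13669 : act 5 n10837 = n13669 := rfl
theorem F23989 : act 4 n13669 = n10941 := d18_1 D13669 (iv D10941) (iv F19248)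
def n13670 : Q := act 1 n10838
theorem D13670 : act 1 n10838 = n13670 := rfl
theorem F23990 : act 3 n13670 = n12036 := d7_2 (iv F19251) D13670 (iv D12036)
def n13671 : Q := act 1 n10839
theorem D13671 : act 1 n10839 = n13671 := rfl
theorem F23991 : act 3 n13671 = n12037 := d7_2 (iv F19254) D13671 (iv D12037)
def n13672 : Q := act 0 n10840
theorem D13672 : act 0 n10840 = n13672 := rfl
theorem F23992 : act 3 n13672 = n10844 := d2_2 (iv F19255) D13672 (iv D10844)
theorem F23993 : act 5 n13672 = n10852 := d4_2 (iv F19256) D13672 (iv D10852)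
theorem F23994 : act 0 n12088 = n12088 := d23_11 D10838 F19250 D10840 D13672 F23993 F21541 (iv D9999) (iv D5165) (iv F7832) D9976 (iv F21348) F21349 (iv D12088) (iv D9971) (iv F17704) (iv D9959) (iv D5145) (iv F7818) (iv F17702)
theorem E7016 : n12087 = n9971 := (c1_4 D12088 F23994 (iv D12088) D12087)
theorem F23995 : act 0 n9971 = n9971 := (sb E7016 (iv D12087))
theorem F23996 : act 0 n12083 = n12083 := d2_3 F21333 F23995 (iv F21333)
theorem F23997 : act 0 n11509 = n11509 := d3_3 F20380 F23995 (iv F20380)
theorem F23998 : act 0 n12089 = n12089 := d5_3 (iv D12089) F23995 D12089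
theorem F23999 : act 5 n12089 = n12089 := d22_2 F17722 D12089 (iv D12089) F23995
theorem F24000 : act 2 n12149 = n13672 := d13_3 F23993 F21541 D12149
def n13673 : Q := act 2 n10840
theorem D13673 : act 2 n10840 = n13673 := rfl
theorem F24001 : act 0 n13673 = n12149 := d1_1 D13673 F24000 (iv D13672)
theorem F24002 : act 5 n13673 = n10853 := d13_2 (iv F19256) D13673 (iv D10853)
theorem F24003 : act 3 n12193 = n13673 := d16_3 F24002 F21540 D12193
def n13674 : Q := act 6 n10840
theorem D13674 : act 6 n10840 = n13674 := rfl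
theorem F24004 : act 3 n13674 = n10846 := d17_1 D13674 (iv D10846) (iv F19255)
def n13675 : Q := act 1 n10841
theorem D13675 : act 1 n10841 = n13675 := rfl
theorem F24005 : act 3 n13675 = n10847 := d7_2 (iv F19257) D13675 (iv D10847)
def n13676 : Q := act 0 n10842
theorem D13676 : act 0 n10842 = n13676 := rfl
theorem F24006 : act 3 n13676 = n10848 := d2_2 (iv F19259) D13676 (iv D10848)
theorem F24007 : act 6 n13676 = n10856 := d5_2 (iv F19260) D13676 (iv D10856)
theorem F24008 : act 2 n12173 = n13676 := d14_3 F24007 F21630 D12173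
def n13677 : Q := act 2 n10842
theorem D13677 : act 2 n10842 = n13677 := rfl
theorem F24009 : act 0 n13677 = n12173 := d1_1 D13677 F24008 (iv D13676)
theorem F24010 : act 6 n13677 = n10857 := d14_2 (iv F19260) D13677 (iv D10857)
theorem F24011 : act 3 n12246 = n13677 := d17_3 F24010 F21629 D12246
def n13678 : Q := act 5 n10842
theorem D13678 : act 5 n10842 = n13678 := rfl
theorem F24012 : act 3 n13678 = n10850 := d16_1 D13678 (iv D10850) (iv F19259)
def n13679 : Q := act 1 n10843
theorem D13679 : act 1 n10843 = n13679 := rfl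
theorem F24013 : act 3 n13679 = n10851 := d7_2 (iv F19262) D13679 (iv D10851)
def n13680 : Q := act 1 n10844
theorem D13680 : act 1 n10844 = n13680 := rfl
theorem F24014 : act 4 n13680 = n10942 := d8_2 (iv F19264) D13680 (iv D10942)
def n13681 : Q := act 2 n10844
theorem D13681 : act 2 n10844 = n13681 := rfl
theorem F24015 : act 0 n13681 = n10845 := d1_1 D13681 (iv D10845) D10844
theorem F24016 : act 4 n13681 = n10943 := d12_2 (iv F19264) D13681 (iv D10943)
theorem F24017 : act 5 n13681 = n10861 := d13_2 (iv F19265) D13681 (iv D10861)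
def n13682 : Q := act 3 n10845
theorem D13682 : act 3 n10845 = n13682 := rfl
theorem F24018 : act 5 n13682 = n10863 := d16_2 (iv F19267) D13682 (iv D10863)
def n13683 : Q := act 6 n10845
theorem D13683 : act 6 n10845 = n13683 := rfl
theorem F24019 : act 2 n13683 = n10846 := d14_1 D13683 (iv D10846) D10845
theorem F24020 : act 4 n13683 = n10945 := d19_1 D13683 (iv D10945) (iv F19266)
def n13684 : Q := act 1 n10846
theorem D13684 : act 1 n10846 = n13684 := rfl
theorem F24021 : act 4 n13684 = n10946 := d8_2 (iv F19268) D13684 (iv D10946)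
theorem F24022 : act 6 n13684 = n10847 := d10_2 D10846 D13684 (iv D10847) (iv D8003) D8002
def n13685 : Q := act 0 n10847
theorem D13685 : act 0 n10847 = n13685 := rfl
theorem F24023 : act 4 n13685 = n10947 := d3_2 (iv F19269) D13685 (iv D10947)
def n13686 : Q := act 2 n10847
theorem D13686 : act 2 n10847 = n13686 := rfl
theorem F24024 : act 4 n13686 = n10948 := d12_2 (iv F19269) D13686 (iv D10948)
def n13687 : Q := act 5 n10847
theorem D13687 : act 5 n10847 = n13687 := rfl
theorem F24025 : act 1 n13687 = n13669 := d9_1 D13687 (iv D13669) (iv D10837) (iv F11944) D10847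
theorem F24026 : act 4 n13687 = n10949 := d18_1 D13687 (iv D10949) (iv F19269)
def n13688 : Q := act 1 n10848
theorem D13688 : act 1 n10848 = n13688 := rfl
theorem F24027 : act 4 n13688 = n10950 := d8_2 (iv F19270) D13688 (iv D10950)
def n13689 : Q := act 2 n10848
theorem D13689 : act 2 n10848 = n13689 := rfl
theorem F24028 : act 0 n13689 = n10849 := d1_1 D13689 (iv D10849) D10848
theorem F24029 : act 4 n13689 = n10951 := d12_2 (iv F19270) D13689 (iv D10951)
theorem F24030 : act 6 n13689 = n10871 := d14_2 (iv F19271) D13689 (iv D10871)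
def n13690 : Q := act 3 n10849
theorem D13690 : act 3 n10849 = n13690 := rfl
theorem F24031 : act 6 n13690 = n10873 := d17_2 (iv F19273) D13690 (iv D10873)
def n13691 : Q := act 5 n10849
theorem D13691 : act 5 n10849 = n13691 := rfl
theorem F24032 : act 2 n13691 = n10850 := d13_1 D13691 (iv D10850) D10849
theorem F24033 : act 4 n13691 = n10953 := d18_1 D13691 (iv D10953) (iv F19272)
def n13692 : Q := act 1 n10850
theorem D13692 : act 1 n10850 = n13692 := rfl
theorem F24034 : act 4 n13692 = n10954 := d8_2 (iv F19274) D13692 (iv D10954)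
theorem F24035 : act 5 n13692 = n10851 := d9_2 D10850 D13692 (iv D10851) (iv D8005) D8004
def n13693 : Q := act 0 n10851
theorem D13693 : act 0 n10851 = n13693 := rfl
theorem F24036 : act 4 n13693 = n10955 := d3_2 (iv F19275) D13693 (iv D10955)
def n13694 : Q := act 2 n10851
theorem D13694 : act 2 n10851 = n13694 := rfl
theorem F24037 : act 4 n13694 = n10956 := d12_2 (iv F19275) D13694 (iv D10956)
def n13695 : Q := act 6 n10851
theorem D13695 : act 6 n10851 = n13695 := rfl
theorem F24038 : act 1 n13695 = n13666 := d10_1 D13695 (iv D13666) (iv D10836) (iv F11949) D10851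
theorem F24039 : act 4 n13695 = n10957 := d19_1 D13695 (iv D10957) (iv F19275)
def n13696 : Q := act 1 n10852
theorem D13696 : act 1 n10852 = n13696 := rfl
theorem F24040 : act 2 n13696 = n12151 := d6_2 (iv F21541) D13696 (iv D12151) (iv D10000) D9999
theorem F24041 : act 3 n13696 = n10860 := d7_2 (iv F19276) D13696 (iv D10860)
def n13697 : Q := act 6 n10852
theorem D13697 : act 6 n10852 = n13697 := rfl
theorem F24042 : act 0 n13697 = n10854 := d5_1 D13697 (iv D10854) D10852
theorem F24043 : act 2 n13697 = n12150 := d14_1 D13697 (iv D12150) (iv F21541)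
theorem F24044 : act 3 n13697 = n10862 := d17_1 D13697 (iv D10862) (iv F19276)
theorem F24045 : act 5 n13697 = n13674 := d22_2 F23993 D13697 (iv D13674) D13672
def n13698 : Q := act 6 n10853
theorem D13698 : act 6 n10853 = n13698 := rfl
theorem F24046 : act 0 n13698 = n12150 := d5_1 D13698 (iv D12150) (iv F21539)
theorem F24047 : act 2 n13698 = n10854 := d14_1 D13698 (iv D10854) D10853
theorem F24048 : act 3 n13698 = n12194 := d17_1 D13698 (iv D12194) (iv F21540)
def n13699 : Q := act 1 n10854
theorem D13699 : act 1 n10854 = n13699 := rfl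
theorem F24049 : act 3 n13699 = n10865 := d7_2 (iv F19277) D13699 (iv D10865)
theorem F24050 : act 6 n13699 = n10855 := d10_2 D10854 D13699 (iv D10855) (iv D8007) D8006
def n13700 : Q := act 5 n10854
theorem D13700 : act 5 n10854 = n13700 := rfl
theorem F24051 : act 0 n13700 = n13674 := d4_1 D13700 (iv F24045) F24042
theorem F24052 : act 3 n13700 = n10866 := d16_1 D13700 (iv D10866) (iv F19277)
theorem F24053 : act 6 n13700 = n13672 := d20_2 D10854 D13700 F23993 D13697 F24045 (iv D13674) F19256
def n13701 : Q := act 0 n10855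
theorem D13701 : act 0 n10855 = n13701 := rfl
theorem F24054 : act 3 n13701 = n10867 := d2_2 (iv F19278) D13701 (iv D10867)
def n13702 : Q := act 2 n10855
theorem D13702 : act 2 n10855 = n13702 := rfl
def n13703 : Q := act 5 n10855
theorem D13703 : act 5 n10855 = n13703 := rfl
theorem F24055 : act 1 n13703 = n13326 := d9_1 D13703 (iv D13326) (iv D10657) (iv F11952) D10855
theorem F24056 : act 3 n13703 = n10869 := d16_1 D13703 (iv D10869) (iv F19278)
def n13704 : Q := act 1 n10856
theorem D13704 : act 1 n10856 = n13704 := rfl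
theorem F24057 : act 2 n13704 = n12174 := d6_2 (iv F21630) D13704 (iv D12174) (iv D10010) D10009
theorem F24058 : act 3 n13704 = n10870 := d7_2 (iv F19279) D13704 (iv D10870)
def n13705 : Q := act 5 n10856
theorem D13705 : act 5 n10856 = n13705 := rfl
theorem F24059 : act 0 n13705 = n10858 := d4_1 D13705 (iv D10858) D10856
theorem F24060 : act 2 n13705 = n12172 := d13_1 D13705 (iv D12172) (iv F21630)
theorem F24061 : act 3 n13705 = n10872 := d16_1 D13705 (iv D10872) (iv F19279)
theorem F24062 : act 6 n13705 = n13678 := d22_1 D13705 (iv D13678) F19260 D10856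
def n13706 : Q := act 5 n10857
theorem D13706 : act 5 n10857 = n13706 := rfl
theorem F24063 : act 0 n13706 = n12172 := d4_1 D13706 (iv D12172) (iv F21628)
theorem F24064 : act 2 n13706 = n10858 := d13_1 D13706 (iv D10858) D10857
theorem F24065 : act 3 n13706 = n12245 := d16_1 D13706 (iv D12245) (iv F21629)
def n13707 : Q := act 1 n10858
theorem D13707 : act 1 n10858 = n13707 := rfl
theorem F24066 : act 3 n13707 = n10875 := d7_2 (iv F19280) D13707 (iv D10875)
theorem F24067 : act 4 n13707 = n13703 := d8_2 F23457 D13707 F24055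
theorem F24068 : act 5 n13707 = n10859 := d9_2 D10858 D13707 (iv D10859) (iv D8009) D8008
def n13708 : Q := act 6 n10858
theorem D13708 : act 6 n10858 = n13708 := rfl
theorem F24069 : act 0 n13708 = n13678 := d5_1 D13708 (iv F24062) F24059
theorem F24070 : act 3 n13708 = n10876 := d17_1 D13708 (iv D10876) (iv F19280)
theorem F24071 : act 5 n13708 = n13676 := d20_1 D13708 F24007 D13705 F24062 (iv D13678) F19260 D10858
def n13709 : Q := act 0 n10859
theorem D13709 : act 0 n10859 = n13709 := rfl
theorem F24072 : act 3 n13709 = n10877 := d2_2 (iv F19281) D13709 (iv D10877)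
theorem F24073 : act 4 n13709 = n13701 := d3_2 (iv F19282) D13709 (iv D13701)
def n13710 : Q := act 2 n10859
theorem D13710 : act 2 n10859 = n13710 := rfl
theorem F24074 : act 1 n13710 = n13702 := d6_1 D13710 (iv D13702) (iv D10855) (iv F15994) D10859
theorem F24075 : act 4 n13710 = n13702 := d12_2 (iv F19282) D13710 (iv D13702)
def n13711 : Q := act 6 n10859
theorem D13711 : act 6 n10859 = n13711 := rfl
theorem F24076 : act 1 n13711 = n13323 := d10_1 D13711 (iv D13323) (iv D10656) (iv F11957) D10859
theorem F24077 : act 3 n13711 = n10879 := d17_1 D13711 (iv D10879) (iv F19281)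
theorem F24078 : act 4 n13711 = n13699 := d19_1 D13711 F24050 (iv F19282)
def n13712 : Q := act 0 n10860
theorem D13712 : act 0 n10860 = n13712 := rfl
theorem F24079 : act 4 n13712 = n10958 := d3_2 (iv F19283) D13712 (iv D10958)
def n13713 : Q := act 2 n10860
theorem D13713 : act 2 n10860 = n13713 := rfl
theorem F24080 : act 4 n13713 = n10959 := d12_2 (iv F19283) D13713 (iv D10959)
def n13714 : Q := act 5 n10860
theorem D13714 : act 5 n10860 = n13714 := rfl
theorem F24081 : act 4 n13714 = n10960 := d18_1 D13714 (iv D10960) (iv F19283)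
def n13715 : Q := act 6 n10860
theorem D13715 : act 6 n10860 = n13715 := rfl
theorem F24082 : act 4 n13715 = n10961 := d19_1 D13715 (iv D10961) (iv F19283)
def n13716 : Q := act 1 n10861
theorem D13716 : act 1 n10861 = n13716 := rfl
theorem F24083 : act 4 n13716 = n10962 := d8_2 (iv F19285) D13716 (iv D10962)
def n13717 : Q := act 3 n10861
theorem D13717 : act 3 n10861 = n13717 := rfl
theorem F24084 : act 0 n13717 = n10863 := d2_1 D13717 (iv D10863) (iv F19284)
def n13718 : Q := act 6 n10861
theorem D13718 : act 6 n10861 = n13718 := rfl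
theorem F24085 : act 0 n13718 = n10864 := d5_1 D13718 (iv D10864) (iv F19284)
theorem F24086 : act 2 n13718 = n10862 := d14_1 D13718 (iv D10862) D10861
theorem F24087 : act 4 n13718 = n10964 := d19_1 D13718 (iv D10964) (iv F19285)
theorem F24088 : act 5 n13718 = n13683 := d22_2 F24017 D13718 (iv D13683) (iv F24015)
def n13719 : Q := act 1 n10862
theorem D13719 : act 1 n10862 = n13719 := rfl
theorem F24089 : act 4 n13719 = n10965 := d8_2 (iv F19287) D13719 (iv D10965)
def n13720 : Q := act 4 n10863
theorem D13720 : act 4 n10863 = n13720 := rfl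
theorem F24090 : act 1 n13720 = n10883 := d8_1 D13720 (iv D10883) (iv F19289)
theorem F24091 : act 3 n13720 = n10966 := d15_1 D13720 (iv D10966) (iv D8204) (iv F11960) D10863
def n13721 : Q := act 6 n10863
theorem D13721 : act 6 n10863 = n13721 := rfl
theorem F24092 : act 3 n13721 = n10864 := d17_1 D13721 (iv D10864) D10863
def n13722 : Q := act 1 n10864
theorem D13722 : act 1 n10864 = n13722 := rfl
theorem F24093 : act 4 n13722 = n10968 := d8_2 (iv F19291) D13722 (iv D10968)
theorem F24094 : act 6 n13722 = n10885 := d10_2 D10864 D13722 (iv D10885) (iv D8022) (iv F11959)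
def n13723 : Q := act 5 n10864
theorem D13723 : act 5 n10864 = n13723 := rfl
theorem F24095 : act 0 n13723 = n13683 := d4_1 D13723 (iv F24088) F24085
theorem F24096 : act 2 n13723 = n10866 := d13_1 D13723 (iv D10866) (iv F19290)
theorem F24097 : act 4 n13723 = n10969 := d18_1 D13723 (iv D10969) (iv F19291)
theorem F24098 : act 6 n13723 = n13681 := d20_2 D10864 D13723 F24017 D13718 F24088 (iv D13683) F19267
def n13724 : Q := act 0 n10865
theorem D13724 : act 0 n10865 = n13724 := rfl
theorem F24099 : act 4 n13724 = n10970 := d3_2 (iv F19292) D13724 (iv D10970)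
theorem F24100 : act 6 n13724 = n10867 := d5_2 (iv F19293) D13724 (iv D10867)
def n13725 : Q := act 2 n10865
theorem D13725 : act 2 n10865 = n13725 := rfl
theorem F24101 : act 4 n13725 = n10971 := d12_2 (iv F19292) D13725 (iv D10971)
theorem F24102 : act 6 n13725 = n10868 := d14_2 (iv F19293) D13725 (iv D10868)
def n13726 : Q := act 5 n10865
theorem D13726 : act 5 n10865 = n13726 := rfl
theorem F24103 : act 4 n13726 = n10972 := d18_1 D13726 (iv D10972) (iv F19292)
def n13727 : Q := act 1 n10866
theorem D13727 : act 1 n10866 = n13727 := rfl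
theorem F24104 : act 4 n13727 = n10973 := d8_2 (iv F19295) D13727 (iv D10973)
def n13728 : Q := act 1 n10867
theorem D13728 : act 1 n10867 = n13728 := rfl
theorem F24105 : act 4 n13728 = n10974 := d8_2 (iv F19297) D13728 (iv D10974)
def n13729 : Q := act 2 n10867
theorem D13729 : act 2 n10867 = n13729 := rfl
theorem F24106 : act 0 n13729 = n10868 := d1_1 D13729 (iv D10868) D10867
theorem F24107 : act 4 n13729 = n10975 := d12_2 (iv F19297) D13729 (iv D10975)
def n13730 : Q := act 5 n10867
theorem D13730 : act 5 n10867 = n13730 := rfl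
theorem F24108 : act 0 n13730 = n10869 := d4_1 D13730 (iv D10869) D10867
theorem F24109 : act 4 n13730 = n10976 := d18_1 D13730 (iv D10976) (iv F19297)
theorem F24110 : act 6 n13730 = n13726 := d22_1 D13730 (iv D13726) F19293 D10867
def n13731 : Q := act 3 n10868
theorem D13731 : act 3 n10868 = n13731 := rfl
theorem F24111 : act 1 n13731 = n10890 := d7_1 D13731 (iv D10890) (iv F19298)
def n13732 : Q := act 5 n10868
theorem D13732 : act 5 n10868 = n13732 := rfl
theorem F24112 : act 1 n13732 = n13732 := d9_1 D13732 (iv D13732) F19298 F17249 (iv F19298)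
theorem F24113 : act 2 n13732 = n10869 := d13_1 D13732 (iv D10869) D10868
theorem F24114 : act 4 n13732 = n10978 := d18_1 D13732 (iv D10978) (iv F19299)
def n13733 : Q := act 6 n10869
theorem D13733 : act 6 n10869 = n13733 := rfl
theorem F24115 : act 0 n13733 = n13726 := d5_1 D13733 (iv F24110) F24108
theorem F24116 : act 4 n13733 = n10979 := d19_1 D13733 (iv D10979) (iv F19301)
theorem F24117 : act 5 n13733 = n13724 := d20_1 D13733 F24100 D13730 F24110 (iv D13726) F19293 D10869
def n13734 : Q := act 0 n10870
theorem D13734 : act 0 n10870 = n13734 := rfl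
theorem F24118 : act 4 n13734 = n10980 := d3_2 (iv F19302) D13734 (iv D10980)
def n13735 : Q := act 2 n10870
theorem D13735 : act 2 n10870 = n13735 := rfl
theorem F24119 : act 4 n13735 = n10981 := d12_2 (iv F19302) D13735 (iv D10981)
def n13736 : Q := act 5 n10870
theorem D13736 : act 5 n10870 = n13736 := rfl
theorem F24120 : act 4 n13736 = n10982 := d18_1 D13736 (iv D10982) (iv F19302)
def n13737 : Q := act 6 n10870
theorem D13737 : act 6 n10870 = n13737 := rfl
theorem F24121 : act 4 n13737 = n10983 := d19_1 D13737 (iv D10983) (iv F19302)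
def n13738 : Q := act 1 n10871
theorem D13738 : act 1 n10871 = n13738 := rfl
theorem F24122 : act 4 n13738 = n10984 := d8_2 (iv F19304) D13738 (iv D10984)
def n13739 : Q := act 3 n10871
theorem D13739 : act 3 n10871 = n13739 := rfl
theorem F24123 : act 0 n13739 = n10873 := d2_1 D13739 (iv D10873) (iv F19303)
def n13740 : Q := act 5 n10871
theorem D13740 : act 5 n10871 = n13740 := rfl
theorem F24124 : act 0 n13740 = n10874 := d4_1 D13740 (iv D10874) (iv F19303)
theorem F24125 : act 2 n13740 = n10872 := d13_1 D13740 (iv D10872) D10871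
theorem F24126 : act 4 n13740 = n10986 := d18_1 D13740 (iv D10986) (iv F19304)
theorem F24127 : act 6 n13740 = n13691 := d22_1 D13740 (iv D13691) F19273 (iv F19303)
def n13741 : Q := act 1 n10872
theorem D13741 : act 1 n10872 = n13741 := rfl
theorem F24128 : act 4 n13741 = n10987 := d8_2 (iv F19306) D13741 (iv D10987)
def n13742 : Q := act 4 n10873
theorem D13742 : act 4 n10873 = n13742 := rfl
theorem F24129 : act 1 n13742 = n10894 := d8_1 D13742 (iv D10894) (iv F19308)
theorem F24130 : act 3 n13742 = n10988 := d15_1 D13742 (iv D10988) (iv D8214) (iv F11965) D10873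
def n13743 : Q := act 5 n10873
theorem D13743 : act 5 n10873 = n13743 := rfl
theorem F24131 : act 3 n13743 = n10874 := d16_1 D13743 (iv D10874) D10873
def n13744 : Q := act 1 n10874
theorem D13744 : act 1 n10874 = n13744 := rfl
theorem F24132 : act 4 n13744 = n10990 := d8_2 (iv F19310) D13744 (iv D10990)
theorem F24133 : act 5 n13744 = n10896 := d9_2 D10874 D13744 (iv D10896) (iv D8032) (iv F11964)
def n13745 : Q := act 6 n10874
theorem D13745 : act 6 n10874 = n13745 := rfl
theorem F24134 : act 0 n13745 = n13691 := d5_1 D13745 (iv F24127) F24124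
theorem F24135 : act 2 n13745 = n10876 := d14_1 D13745 (iv D10876) (iv F19309)
theorem F24136 : act 4 n13745 = n10991 := d19_1 D13745 (iv D10991) (iv F19310)
theorem F24137 : act 5 n13745 = n13689 := d20_1 D13745 F24030 D13740 F24127 (iv D13691) F19273 D10874
def n13746 : Q := act 0 n10875
theorem D13746 : act 0 n10875 = n13746 := rfl
theorem F24138 : act 4 n13746 = n10992 := d3_2 (iv F19311) D13746 (iv D10992)
theorem F24139 : act 5 n13746 = n10877 := d4_2 (iv F19312) D13746 (iv D10877)
def n13747 : Q := act 2 n10875
theorem D13747 : act 2 n10875 = n13747 := rfl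
theorem F24140 : act 4 n13747 = n10993 := d12_2 (iv F19311) D13747 (iv D10993)
theorem F24141 : act 5 n13747 = n10878 := d13_2 (iv F19312) D13747 (iv D10878)
def n13748 : Q := act 6 n10875
theorem D13748 : act 6 n10875 = n13748 := rfl
theorem F24142 : act 4 n13748 = n10994 := d19_1 D13748 (iv D10994) (iv F19311)
def n13749 : Q := act 1 n10876
theorem D13749 : act 1 n10876 = n13749 := rfl
theorem F24143 : act 4 n13749 = n10995 := d8_2 (iv F19314) D13749 (iv D10995)
def n13750 : Q := act 1 n10877
theorem D13750 : act 1 n10877 = n13750 := rfl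
theorem F24144 : act 4 n13750 = n10996 := d8_2 (iv F19316) D13750 (iv D10996)
def n13751 : Q := act 2 n10877
theorem D13751 : act 2 n10877 = n13751 := rfl
theorem F24145 : act 0 n13751 = n10878 := d1_1 D13751 (iv D10878) D10877
theorem F24146 : act 4 n13751 = n10997 := d12_2 (iv F19316) D13751 (iv D10997)
def n13752 : Q := act 6 n10877
theorem D13752 : act 6 n10877 = n13752 := rfl
theorem F24147 : act 0 n13752 = n10879 := d5_1 D13752 (iv D10879) D10877
theorem F24148 : act 4 n13752 = n10998 := d19_1 D13752 (iv D10998) (iv F19316)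
theorem F24149 : act 5 n13752 = n13748 := d22_2 F24139 D13752 (iv D13748) D13746
def n13753 : Q := act 3 n10878
theorem D13753 : act 3 n10878 = n13753 := rfl
theorem F24150 : act 1 n13753 = n10901 := d7_1 D13753 (iv D10901) (iv F19317)
def n13754 : Q := act 6 n10878
theorem D13754 : act 6 n10878 = n13754 := rfl
theorem F24151 : act 1 n13754 = n13754 := d10_1 D13754 (iv D13754) F19317 F16222 (iv F19317)
theorem F24152 : act 2 n13754 = n10879 := d14_1 D13754 (iv D10879) D10878
theorem F24153 : act 4 n13754 = n11000 := d19_1 D13754 (iv D11000) (iv F19318)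
def n13755 : Q := act 5 n10879
theorem D13755 : act 5 n10879 = n13755 := rfl
theorem F24154 : act 0 n13755 = n13748 := d4_1 D13755 (iv F24149) F24147
theorem F24155 : act 4 n13755 = n11001 := d18_1 D13755 (iv D11001) (iv F19320)
theorem F24156 : act 6 n13755 = n13746 := d20_2 D10879 D13755 F24139 D13752 F24149 (iv D13748) F19312
def n13756 : Q := act 1 n10880
theorem D13756 : act 1 n10880 = n13756 := rfl
theorem F24157 : act 2 n13756 = n10881 := d6_2 D10880 D13756 (iv D10881) (iv D8019) D8018
theorem F24158 : act 4 n13756 = n11002 := d8_2 (iv F19322) D13756 (iv D11002)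
def n13757 : Q := act 3 n10880
theorem D13757 : act 3 n10880 = n13757 := rfl
theorem F24159 : act 0 n13757 = n13757 := d2_1 D13757 (iv D13757) F19321
theorem F24160 : act 5 n13757 = n13757 := d16_2 F19323 D13757 (iv D13757)
theorem F24161 : act 6 n13757 = n13378 := d17_2 (iv F19324) D13757 (iv D13378)
theorem F24162 : act 2 n13757 = n13378 := d21_2 D10880 D13757 (iv D13378) (iv D10684) F11300 F15176 (iv F11968) F16160
def n13758 : Q := act 0 n10881
theorem D13758 : act 0 n10881 = n13758 := rfl
theorem F24163 : act 4 n13758 = n11004 := d3_2 (iv F19325) D13758 (iv D11004)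
def n13759 : Q := act 3 n10881
theorem D13759 : act 3 n10881 = n13759 := rfl
theorem F24164 : act 1 n13759 = n10882 := d7_1 D13759 (iv D10882) D10881
def n13760 : Q := act 5 n10881
theorem D13760 : act 5 n10881 = n13760 := rfl
theorem F24165 : act 4 n13760 = n11006 := d18_1 D13760 (iv D11006) (iv F19325)
def n13761 : Q := act 6 n10881
theorem D13761 : act 6 n10881 = n13761 := rfl
theorem F24166 : act 4 n13761 = n11007 := d19_1 D13761 (iv D11007) (iv F19325)
def n13762 : Q := act 4 n10882
theorem D13762 : act 4 n10882 = n13762 := rfl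
theorem F24167 : act 0 n13762 = n10883 := d3_1 D13762 (iv D10883) (iv F19326)
theorem F24168 : act 3 n13762 = n11008 := d15_1 D13762 (iv D11008) (iv D8226) (iv F11971) D10882
def n13763 : Q := act 6 n10883
theorem D13763 : act 6 n10883 = n13763 := rfl
theorem F24169 : act 3 n13763 = n11012 := d17_1 D13763 (iv D11012) (iv F19327)
theorem F24170 : act 4 n13763 = n10884 := d19_1 D13763 (iv D10884) D10883
def n13764 : Q := act 1 n10884
theorem D13764 : act 1 n10884 = n13764 := rfl
theorem F24171 : act 3 n13764 = n10885 := d7_2 (iv F19328) D13764 (iv D10885)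
def n13765 : Q := act 5 n10884
theorem D13765 : act 5 n10884 = n13765 := rfl
theorem F24172 : act 0 n13765 = n13453 := d4_1 D13765 (iv F23677) F23676
theorem F24173 : act 2 n13765 = n13459 := d13_1 D13765 F23677 F23663
theorem F24174 : act 3 n13765 = n10886 := d16_1 D13765 (iv D10886) (iv F19328)
theorem F24175 : act 6 n13765 = n10903 := d20_2 D10884 D13765 F19372 (iv F23678) F23677 (iv D13453) F19050
def n13766 : Q := act 0 n10885
theorem D13766 : act 0 n10885 = n13766 := rfl
theorem F24176 : act 4 n13766 = n11015 := d3_2 (iv F19329) D13766 (iv D11015)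
def n13767 : Q := act 2 n10885
theorem D13767 : act 2 n10885 = n13767 := rfl
theorem F24177 : act 1 n13767 = n10888 := d6_1 D13767 (iv D10888) (iv D8023) (iv F11976) D10885
theorem F24178 : act 4 n13767 = n11016 := d12_2 (iv F19329) D13767 (iv D11016)
def n13768 : Q := act 5 n10885
theorem D13768 : act 5 n10885 = n13768 := rfl
theorem F24179 : act 4 n13768 = n11017 := d18_1 D13768 (iv D11017) (iv F19329)
def n13769 : Q := act 1 n10886
theorem D13769 : act 1 n10886 = n13769 := rfl
theorem F24180 : act 4 n13769 = n11018 := d8_2 (iv F19332) D13769 (iv D11018)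
def n13770 : Q := act 2 n10887
theorem D13770 : act 2 n10887 = n13770 := rfl
theorem F24181 : act 0 n13770 = n10888 := d1_1 D13770 (iv D10888) D10887
theorem F24182 : act 4 n13770 = n11019 := d12_2 (iv F19335) D13770 (iv D11019)
theorem F24183 : act 5 n13770 = n10888 := d13_2 (iv F19337) D13770 (iv D10888)
theorem F24184 : act 6 n13770 = n10889 := d14_2 (iv F19336) D13770 (iv D10889)
def n13771 : Q := act 3 n10888
theorem D13771 : act 3 n10888 = n13771 := rfl
theorem F24185 : act 6 n13771 = n10890 := d17_2 (iv F19339) D13771 (iv D10890)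
def n13772 : Q := act 1 n10889
theorem D13772 : act 1 n10889 = n13772 := rfl
theorem F24186 : act 4 n13772 = n11021 := d8_2 (iv F19341) D13772 (iv D11021)
def n13773 : Q := act 3 n10889
theorem D13773 : act 3 n10889 = n13773 := rfl
theorem F24187 : act 0 n13773 = n10890 := d2_1 D13773 (iv D10890) (iv F19340)
theorem F24188 : act 5 n13773 = n13773 := d16_2 F19342 D13773 (iv D13773)
def n13774 : Q := act 2 n10890
theorem D13774 : act 2 n10890 = n13774 := rfl
theorem F24189 : act 5 n13774 = n13774 := d13_2 F19343 D13774 (iv D13774)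
def n13775 : Q := act 4 n10890
theorem D13775 : act 4 n10890 = n13775 := rfl
theorem F24190 : act 3 n13775 = n11024 := d15_1 D13775 (iv D11024) (iv D8241) (iv F11987) D10890
theorem F24191 : act 5 n13775 = n13775 := d18_2 F19343 D13775 (iv D13775)
def n13776 : Q := act 1 n10891
theorem D13776 : act 1 n10891 = n13776 := rfl
theorem F24192 : act 2 n13776 = n10892 := d6_2 D10891 D13776 (iv D10892) (iv D8029) D8028
theorem F24193 : act 4 n13776 = n11025 := d8_2 (iv F19345) D13776 (iv D11025)
def n13777 : Q := act 3 n10891
theorem D13777 : act 3 n10891 = n13777 := rfl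
theorem F24194 : act 0 n13777 = n13777 := d2_1 D13777 (iv D13777) F19344
theorem F24195 : act 5 n13777 = n13379 := d16_2 (iv F19346) D13777 (iv D13379)
theorem F24196 : act 6 n13777 = n13777 := d17_2 F19347 D13777 (iv D13777)
theorem F24197 : act 2 n13777 = n13379 := d21_2 D10891 D13777 (iv D13379) (iv D10685) F11302 F17039 (iv F11991) F17229
def n13778 : Q := act 0 n10892
theorem D13778 : act 0 n10892 = n13778 := rfl
theorem F24198 : act 4 n13778 = n11027 := d3_2 (iv F19348) D13778 (iv D11027)
def n13779 : Q := act 3 n10892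
theorem D13779 : act 3 n10892 = n13779 := rfl
theorem F24199 : act 1 n13779 = n10893 := d7_1 D13779 (iv D10893) D10892
def n13780 : Q := act 5 n10892
theorem D13780 : act 5 n10892 = n13780 := rfl
theorem F24200 : act 4 n13780 = n11029 := d18_1 D13780 (iv D11029) (iv F19348)
def n13781 : Q := act 6 n10892
theorem D13781 : act 6 n10892 = n13781 := rfl
theorem F24201 : act 4 n13781 = n11030 := d19_1 D13781 (iv D11030) (iv F19348)
def n13782 : Q := act 4 n10893
theorem D13782 : act 4 n10893 = n13782 := rfl
theorem F24202 : act 0 n13782 = n10894 := d3_1 D13782 (iv D10894) (iv F19349)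
theorem F24203 : act 3 n13782 = n11031 := d15_1 D13782 (iv D11031) (iv D8249) (iv F11994) D10893
def n13783 : Q := act 5 n10894
theorem D13783 : act 5 n10894 = n13783 := rfl
theorem F24204 : act 3 n13783 = n11035 := d16_1 D13783 (iv D11035) (iv F19350)
theorem F24205 : act 4 n13783 = n10895 := d18_1 D13783 (iv D10895) D10894
def n13784 : Q := act 1 n10895
theorem D13784 : act 1 n10895 = n13784 := rfl
theorem F24206 : act 3 n13784 = n10896 := d7_2 (iv F19351) D13784 (iv D10896)
def n13785 : Q := act 6 n10895
theorem D13785 : act 6 n10895 = n13785 := rfl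
theorem F24207 : act 0 n13785 = n13457 := d5_1 D13785 F23673 F23666
theorem F24208 : act 2 n13785 = n13455 := d14_1 D13785 (iv F23673) F23671
theorem F24209 : act 3 n13785 = n10897 := d17_1 D13785 (iv D10897) (iv F19351)
theorem F24210 : act 5 n13785 = n10910 := d20_1 D13785 F19388 (iv F23667) (iv F23673) (iv D13457) F19057 D10895
def n13786 : Q := act 0 n10896
theorem D13786 : act 0 n10896 = n13786 := rfl
theorem F24211 : act 4 n13786 = n11038 := d3_2 (iv F19352) D13786 (iv D11038)
def n13787 : Q := act 2 n10896
theorem D13787 : act 2 n10896 = n13787 := rfl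
theorem F24212 : act 1 n13787 = n10899 := d6_1 D13787 (iv D10899) (iv D8033) (iv F11999) D10896
theorem F24213 : act 4 n13787 = n11039 := d12_2 (iv F19352) D13787 (iv D11039)
def n13788 : Q := act 6 n10896
theorem D13788 : act 6 n10896 = n13788 := rfl
theorem F24214 : act 4 n13788 = n11040 := d19_1 D13788 (iv D11040) (iv F19352)
def n13789 : Q := act 1 n10897
theorem D13789 : act 1 n10897 = n13789 := rfl
theorem F24215 : act 2 n13789 = n13772 := d6_2 (iv F19354) D13789 (iv D13772) (iv D10889) F16097
theorem F24216 : act 4 n13789 = n11041 := d8_2 (iv F19355) D13789 (iv D11041)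
def n13790 : Q := act 2 n10898
theorem D13790 : act 2 n10898 = n13790 := rfl
theorem F24217 : act 0 n13790 = n10899 := d1_1 D13790 (iv D10899) D10898
theorem F24218 : act 4 n13790 = n11042 := d12_2 (iv F19359) D13790 (iv D11042)
theorem F24219 : act 5 n13790 = n10900 := d13_2 (iv F19360) D13790 (iv D10900)
theorem F24220 : act 6 n13790 = n10899 := d14_2 (iv F19361) D13790 (iv D10899)
def n13791 : Q := act 3 n10899
theorem D13791 : act 3 n10899 = n13791 := rfl
theorem F24221 : act 5 n13791 = n10901 := d16_2 (iv F19363) D13791 (iv D10901)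
def n13792 : Q := act 1 n10900
theorem D13792 : act 1 n10900 = n13792 := rfl
theorem F24222 : act 2 n13792 = n13769 := d6_2 D10900 D13792 (iv D13769) F19331 F17225
theorem F24223 : act 4 n13792 = n11044 := d8_2 (iv F19365) D13792 (iv D11044)
def n13793 : Q := act 3 n10900
theorem D13793 : act 3 n10900 = n13793 := rfl
theorem F24224 : act 0 n13793 = n10901 := d2_1 D13793 (iv D10901) (iv F19364)
theorem F24225 : act 6 n13793 = n13793 := d17_2 F19366 D13793 (iv D13793)
def n13794 : Q := act 2 n10901
theorem D13794 : act 2 n10901 = n13794 := rfl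
theorem F24226 : act 6 n13794 = n13794 := d14_2 F19367 D13794 (iv D13794)
def n13795 : Q := act 4 n10901
theorem D13795 : act 4 n10901 = n13795 := rfl
theorem F24227 : act 3 n13795 = n11047 := d15_1 D13795 (iv D11047) (iv D8264) (iv F12010) D10901
theorem F24228 : act 6 n13795 = n13795 := d19_2 F19367 D13795 (iv D13795)
def n13796 : Q := act 0 n10902
theorem D13796 : act 0 n10902 = n13796 := rfl
theorem F24229 : act 2 n13796 = n13796 := d1_2 F19368 D13796 (iv D13796)
theorem F24230 : act 4 n13796 = n13591 := d3_2 (iv F19369) D13796 (iv D13591)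
def n13797 : Q := act 3 n10902
theorem D13797 : act 3 n10902 = n13797 := rfl
theorem F24231 : act 1 n13797 = n10903 := d7_1 D13797 (iv D10903) D10902
def n13798 : Q := act 5 n10902
theorem D13798 : act 5 n10902 = n13798 := rfl
theorem F24232 : act 1 n13798 = n13760 := d9_1 D13798 (iv D13760) (iv D10881) (iv F16325) D10902
theorem F24234 : act 4 n13798 = n13593 := d18_1 D13798 (iv D13593) (iv F19369)
def n13799 : Q := act 6 n10902
theorem D13799 : act 6 n10902 = n13799 := rfl
theorem F24235 : act 2 n13799 = n13799 := d14_1 D13799 (iv D13799) F19368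
theorem F24236 : act 4 n13799 = n13594 := d19_1 D13799 (iv D13594) (iv F19369)
def n13800 : Q := act 4 n10903
theorem D13800 : act 4 n10903 = n13800 := rfl
theorem F24237 : act 0 n13800 = n13452 := d3_1 D13800 (iv D13452) (iv F19370)
theorem F24238 : act 2 n13800 = n13762 := d12_1 D13800 (iv D13762) (iv F19371)
theorem F24239 : act 3 n13800 = n13595 := d15_1 D13800 (iv D13595) (iv D10791) F16327 D10903
theorem F24240 : act 5 n13800 = n13762 := d18_2 (iv F19372) D13800 (iv D13762)
def n13801 : Q := act 1 n10904
theorem D13801 : act 1 n10904 = n13801 := rfl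
theorem F24241 : act 0 n13801 = n13801 := d0_1 D13801 (iv D13801) F19373 (iv F17219) F12074 F15632 (iv F12074) F17219 (iv F19373)
theorem F24242 : act 4 n13801 = n10916 := d8_2 (iv F19374) D13801 (iv D10916)
def n13802 : Q := act 3 n10904
theorem D13802 : act 3 n10904 = n13802 := rfl
theorem F24243 : act 0 n13802 = n10905 := d2_1 D13802 (iv D10905) (iv F19373)
theorem F24244 : act 5 n13802 = n10905 := d16_2 (iv F19375) D13802 (iv D10905)
theorem F24245 : act 6 n13802 = n10906 := d17_2 (iv F19376) D13802 (iv D10906)
def n13803 : Q := act 2 n10905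
theorem D13803 : act 2 n10905 = n13803 := rfl
theorem F24246 : act 6 n13803 = n10907 := d14_2 (iv F19377) D13803 (iv D10907)
def n13804 : Q := act 4 n10905
theorem D13804 : act 4 n10905 = n13804 := rfl
theorem F24247 : act 3 n13804 = n10919 := d15_1 D13804 (iv D10919) (iv D8116) (iv F12034) D10905
def n13805 : Q := act 2 n10906
theorem D13805 : act 2 n10906 = n13805 := rfl
theorem F24249 : act 0 n13805 = n10907 := d1_1 D13805 (iv D10907) (iv F19378)
theorem F24250 : act 5 n13805 = n13805 := d13_2 F19379 D13805 (iv D13805)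
theorem F24251 : act 3 n13805 = n13774 := d21_1 D13805 (iv D13774) (iv D10890) (iv D8026) F5882 D3852 D8058 (iv F19378)
def n13807 : Q := act 1 n10907
theorem D13807 : act 1 n10907 = n13807 := rfl
theorem F24255 : act 2 n13807 = n13807 := d6_2 D10907 D13807 (iv D13807) (iv D10907) F16089
def n13808 : Q := act 3 n10907
theorem D13808 : act 3 n10907 = n13808 := rfl
theorem F24256 : act 0 n13808 = n13774 := d2_1 D13808 (iv F24251) F24249
theorem F24257 : act 2 n13808 = n13773 := d11_1 D13808 (iv D13773) (iv D10889) F11985 D8056 D10906 D13805 F24251 (iv D13774) (iv D10890) (iv D8026) F5882 D3852 D8058 D10907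
theorem F24258 : act 5 n13808 = n13808 := d16_2 F19380 D13808 (iv D13808)
def n13810 : Q := act 0 n10909
theorem D13810 : act 0 n10909 = n13810 := rfl
theorem F24261 : act 2 n13810 = n13810 := d1_2 F19384 D13810 (iv D13810)
theorem F24262 : act 4 n13810 = n13604 := d3_2 (iv F19385) D13810 (iv D13604)
def n13811 : Q := act 3 n10909
theorem D13811 : act 3 n10909 = n13811 := rfl
theorem F24263 : act 1 n13811 = n10910 := d7_1 D13811 (iv D10910) D10909
def n13812 : Q := act 5 n10909
theorem D13812 : act 5 n10909 = n13812 := rfl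
theorem F24264 : act 2 n13812 = n13812 := d13_1 D13812 (iv D13812) F19384
theorem F24265 : act 4 n13812 = n13606 := d18_1 D13812 (iv D13606) (iv F19385)
def n13813 : Q := act 6 n10909
theorem D13813 : act 6 n10909 = n13813 := rfl
def n13814 : Q := act 4 n10910
theorem D13814 : act 4 n10910 = n13814 := rfl
theorem F24269 : act 0 n13814 = n13456 := d3_1 D13814 (iv D13456) (iv F19386)
theorem F24270 : act 2 n13814 = n13782 := d12_1 D13814 (iv D13782) (iv F19387)
theorem F24271 : act 3 n13814 = n13608 := d15_1 D13814 (iv D13608) (iv D10798) F17460 D10910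
theorem F24272 : act 6 n13814 = n13782 := d19_2 (iv F19388) D13814 (iv D13782)
def n13815 : Q := act 1 n10911
theorem D13815 : act 1 n10911 = n13815 := rfl
theorem F24273 : act 0 n13815 = n13815 := d0_1 D13815 (iv D13815) F19389 F17226 F12039 F15629 (iv F12039) (iv F17226) (iv F19389)
theorem F24274 : act 2 n13815 = n13801 := d6_2 D10911 D13815 (iv D13801) (iv D10904) F16082
theorem F24275 : act 4 n13815 = n10923 := d8_2 (iv F19390) D13815 (iv D10923)
theorem F24276 : act 5 n13815 = n13801 := d9_2 (iv F19391) D13815 (iv D13801) F19375 (iv F17219)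
theorem F24277 : act 6 n13815 = n13801 := d10_2 (iv F19392) D13815 (iv D13801) F19376 (iv F17226)
def n13816 : Q := act 3 n10911
theorem D13816 : act 3 n10911 = n13816 := rfl
theorem F24278 : act 0 n13816 = n10912 := d2_1 D13816 (iv D10912) (iv F19389)
theorem F24279 : act 5 n13816 = n10913 := d16_2 (iv F19391) D13816 (iv D10913)
theorem F24280 : act 6 n13816 = n10912 := d17_2 (iv F19392) D13816 (iv D10912)
def n13817 : Q := act 2 n10912
theorem D13817 : act 2 n10912 = n13817 := rfl
theorem F24281 : act 5 n13817 = n10914 := d13_2 (iv F19394) D13817 (iv D10914)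
def n13819 : Q := act 2 n10913
theorem D13819 : act 2 n10913 = n13819 := rfl
theorem F24285 : act 0 n13819 = n10914 := d1_1 D13819 (iv D10914) (iv F19395)
theorem F24286 : act 6 n13819 = n13819 := d14_2 F19397 D13819 (iv D13819)
theorem F24287 : act 3 n13819 = n13794 := d21_1 D13819 (iv D13794) (iv D10901) (iv D8036) F5889 D3862 D8081 (iv F19395)
def n13820 : Q := act 4 n10913
theorem D13820 : act 4 n10913 = n13820 := rfl
theorem F24290 : act 3 n13820 = n10927 := d15_1 D13820 (iv D10927) (iv D8178) (iv F12075) D10913
def n13821 : Q := act 1 n10914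
theorem D13821 : act 1 n10914 = n13821 := rfl
theorem F24292 : act 2 n13821 = n13821 := d6_2 D10914 D13821 (iv D13821) (iv D10914) F16087
def n13822 : Q := act 3 n10914
theorem D13822 : act 3 n10914 = n13822 := rfl
theorem F24293 : act 0 n13822 = n13794 := d2_1 D13822 (iv F24287) F24285
theorem F24294 : act 2 n13822 = n13793 := d11_1 D13822 (iv D13793) (iv D10900) F12008 D8079 D10913 D13819 F24287 (iv D13794) (iv D10901) (iv D8036) F5889 D3862 D8081 D10914
theorem F24295 : act 6 n13822 = n13822 := d17_2 F19398 D13822 (iv D13822)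
def n13824 : Q := act 3 n10916
theorem D13824 : act 3 n10916 = n13824 := rfl
theorem F24299 : act 1 n13824 = n10917 := d7_1 D13824 (iv D10917) D10916
def n13826 : Q := act 4 n10918
theorem D13826 : act 4 n10918 = n13826 := rfl
theorem F24303 : act 1 n13826 = n13078 := d8_1 D13826 (iv D13078) (iv F19406)
theorem F24304 : act 2 n13826 = n10919 := d12_1 D13826 (iv D10919) D10918
def n13829 : Q := act 6 n10921
theorem D13829 : act 6 n10921 = n13829 := rfl
theorem F24310 : act 1 n13829 = n13079 := d10_1 D13829 (iv D13079) (iv F19406) F19407 D10921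
def n13838 : Q := act 1 n10930
theorem D13838 : act 1 n10930 = n13838 := rfl
def n13839 : Q := act 1 n10931
theorem D13839 : act 1 n10931 = n13839 := rfl
def n13840 : Q := act 0 n10932
theorem D13840 : act 0 n10932 = n13840 := rfl
theorem F24336 : act 5 n13840 = n10936 := d4_2 (iv F19438) D13840 (iv D10936)
def n13841 : Q := act 2 n10932
theorem D13841 : act 2 n10932 = n13841 := rfl
theorem F24337 : act 5 n13841 = n10937 := d13_2 (iv F19438) D13841 (iv D10937)
def n13842 : Q := act 6 n10932
theorem D13842 : act 6 n10932 = n13842 := rfl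
def n13843 : Q := act 1 n10933
theorem D13843 : act 1 n10933 = n13843 := rfl
def n13844 : Q := act 0 n10934
theorem D13844 : act 0 n10934 = n13844 := rfl
theorem F24338 : act 6 n13844 = n10939 := d5_2 (iv F19440) D13844 (iv D10939)
def n13845 : Q := act 2 n10934
theorem D13845 : act 2 n10934 = n13845 := rfl
theorem F24339 : act 6 n13845 = n10940 := d14_2 (iv F19440) D13845 (iv D10940)
def n13846 : Q := act 5 n10934
theorem D13846 : act 5 n10934 = n13846 := rfl
def n13847 : Q := act 1 n10935
theorem D13847 : act 1 n10935 = n13847 := rfl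
def n13848 : Q := act 1 n10936
theorem D13848 : act 1 n10936 = n13848 := rfl
def n13849 : Q := act 2 n10936
theorem D13849 : act 2 n10936 = n13849 := rfl
theorem F24340 : act 0 n13849 = n10937 := d1_1 D13849 (iv D10937) D10936
def n13850 : Q := act 6 n10936
theorem D13850 : act 6 n10936 = n13850 := rfl
theorem F24341 : act 0 n13850 = n10938 := d5_1 D13850 (iv D10938) D10936
theorem F24342 : act 5 n13850 = n13842 := d22_2 F24336 D13850 (iv D13842) D13840
def n13851 : Q := act 3 n10937
theorem D13851 : act 3 n10937 = n13851 := rfl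
def n13852 : Q := act 6 n10937
theorem D13852 : act 6 n10937 = n13852 := rfl
theorem F24343 : act 2 n13852 = n10938 := d14_1 D13852 (iv D10938) D10937
def n13853 : Q := act 5 n10938
theorem D13853 : act 5 n10938 = n13853 := rfl
theorem F24344 : act 0 n13853 = n13842 := d4_1 D13853 (iv F24342) F24341
theorem F24345 : act 6 n13853 = n13840 := d20_2 D10938 D13853 F24336 D13850 F24342 (iv D13842) F19438
def n13854 : Q := act 1 n10939
theorem D13854 : act 1 n10939 = n13854 := rfl
def n13855 : Q := act 2 n10939
theorem D13855 : act 2 n10939 = n13855 := rfl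
theorem F24346 : act 0 n13855 = n10940 := d1_1 D13855 (iv D10940) D10939
def n13856 : Q := act 5 n10939
theorem D13856 : act 5 n10939 = n13856 := rfl
theorem F24347 : act 0 n13856 = n10941 := d4_1 D13856 (iv D10941) D10939
theorem F24348 : act 6 n13856 = n13846 := d22_1 D13856 (iv D13846) F19440 D10939
def n13857 : Q := act 3 n10940
theorem D13857 : act 3 n10940 = n13857 := rfl
def n13858 : Q := act 5 n10940
theorem D13858 : act 5 n10940 = n13858 := rfl
theorem F24349 : act 2 n13858 = n10941 := d13_1 D13858 (iv D10941) D10940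
def n13859 : Q := act 6 n10941
theorem D13859 : act 6 n10941 = n13859 := rfl
theorem F24350 : act 0 n13859 = n13846 := d5_1 D13859 (iv F24348) F24347
theorem F24351 : act 5 n13859 = n13844 := d20_1 D13859 F24338 D13856 F24348 (iv D13846) F19440 D10941
def n13860 : Q := act 0 n10942
theorem D13860 : act 0 n10942 = n13860 := rfl
def n13861 : Q := act 2 n10942
theorem D13861 : act 2 n10942 = n13861 := rfl
theorem F24352 : act 5 n13860 = n13861 := d23_0 (iv D13861) (iv D10942) (iv D8193) F5979 D3918 F5984 (iv F5988) (iv F11526) (iv D7760) F15034 (iv D3715) F2907 D1886 (iv F5984) (iv F12203) (iv F19445) (iv D10943) D10942 D13860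
def n13862 : Q := act 5 n10942
theorem D13862 : act 5 n10942 = n13862 := rfl
theorem F24353 : act 0 n13862 = n13861 := d4_1 D13862 (iv F24352) (iv D13860)
theorem F24354 : act 1 n13862 = n10960 := d9_1 D13862 (iv D10960) (iv D8201) (iv F12199) D10942
theorem F24355 : act 2 n13862 = n13860 := d13_1 D13862 F24352 (iv D13861)
def n13863 : Q := act 6 n10942
theorem D13863 : act 6 n10942 = n13863 := rfl
def n13864 : Q := act 1 n10943
theorem D13864 : act 1 n10943 = n13864 := rfl
def n13865 : Q := act 3 n10943
theorem D13865 : act 3 n10943 = n13865 := rfl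
theorem F24356 : act 0 n13865 = n10944 := d2_1 D13865 (iv D10944) (iv F19444)
theorem F24357 : act 5 n13865 = n10963 := d16_2 (iv F19445) D13865 (iv D10963)
theorem F24358 : act 2 n13865 = n10944 := d21_2 D10943 D13865 (iv D10944) (iv D8194) (iv F10305) F16110 F10305 D8193
def n13866 : Q := act 4 n10944
theorem D13866 : act 4 n10944 = n13866 := rfl
theorem F24359 : act 5 n13866 = n10966 := d18_2 (iv F19446) D13866 (iv D10966)
def n13867 : Q := act 6 n10944
theorem D13867 : act 6 n10944 = n13867 := rfl
theorem F24360 : act 3 n13867 = n10945 := d17_1 D13867 (iv D10945) D10944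
def n13868 : Q := act 1 n10945
theorem D13868 : act 1 n10945 = n13868 := rfl
def n13869 : Q := act 0 n10946
theorem D13869 : act 0 n10946 = n13869 := rfl
theorem F24361 : act 6 n13869 = n10947 := d5_2 (iv F19448) D13869 (iv D10947)
def n13870 : Q := act 2 n10946
theorem D13870 : act 2 n10946 = n13870 := rfl
theorem F24362 : act 6 n13870 = n10948 := d14_2 (iv F19448) D13870 (iv D10948)
def n13871 : Q := act 5 n10946
theorem D13871 : act 5 n10946 = n13871 := rfl
def n13872 : Q := act 1 n10947
theorem D13872 : act 1 n10947 = n13872 := rfl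
def n13873 : Q := act 2 n10947
theorem D13873 : act 2 n10947 = n13873 := rfl
theorem F24363 : act 0 n13873 = n10948 := d1_1 D13873 (iv D10948) D10947
def n13874 : Q := act 5 n10947
theorem D13874 : act 5 n10947 = n13874 := rfl
theorem F24364 : act 0 n13874 = n10949 := d4_1 D13874 (iv D10949) D10947
theorem F24365 : act 6 n13874 = n13871 := d22_1 D13874 (iv D13871) F19448 D10947
def n13875 : Q := act 3 n10948
theorem D13875 : act 3 n10948 = n13875 := rfl
def n13876 : Q := act 5 n10948
theorem D13876 : act 5 n10948 = n13876 := rfl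
theorem F24366 : act 2 n13876 = n10949 := d13_1 D13876 (iv D10949) D10948
def n13877 : Q := act 6 n10949
theorem D13877 : act 6 n10949 = n13877 := rfl
theorem F24367 : act 0 n13877 = n13871 := d5_1 D13877 (iv F24365) F24364
theorem F24368 : act 5 n13877 = n13869 := d20_1 D13877 F24361 D13874 F24365 (iv D13871) F19448 D10949
def n13878 : Q := act 0 n10950
theorem D13878 : act 0 n10950 = n13878 := rfl
def n13879 : Q := act 2 n10950
theorem D13879 : act 2 n10950 = n13879 := rfl
def n13880 : Q := act 5 n10950
theorem D13880 : act 5 n10950 = n13880 := rfl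
def n13881 : Q := act 6 n10950
theorem D13881 : act 6 n10950 = n13881 := rfl
theorem F24369 : act 1 n13881 = n10983 := d10_1 D13881 (iv D10983) (iv D8211) (iv F12201) D10950
def n13882 : Q := act 1 n10951
theorem D13882 : act 1 n10951 = n13882 := rfl
def n13883 : Q := act 3 n10951
theorem D13883 : act 3 n10951 = n13883 := rfl
theorem F24370 : act 0 n13883 = n10952 := d2_1 D13883 (iv D10952) (iv F19450)
theorem F24371 : act 6 n13883 = n10985 := d17_2 (iv F19451) D13883 (iv D10985)
theorem F24372 : act 2 n13883 = n10952 := d21_2 D10951 D13883 (iv D10952) (iv D8198) (iv F10309) F17223 F10309 D8197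
def n13884 : Q := act 4 n10952
theorem D13884 : act 4 n10952 = n13884 := rfl
theorem F24373 : act 6 n13884 = n10988 := d19_2 (iv F19452) D13884 (iv D10988)
def n13885 : Q := act 5 n10952
theorem D13885 : act 5 n10952 = n13885 := rfl
theorem F24374 : act 3 n13885 = n10953 := d16_1 D13885 (iv D10953) D10952
def n13886 : Q := act 1 n10953
theorem D13886 : act 1 n10953 = n13886 := rfl
def n13887 : Q := act 0 n10954
theorem D13887 : act 0 n10954 = n13887 := rfl
theorem F24375 : act 5 n13887 = n10955 := d4_2 (iv F19454) D13887 (iv D10955)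
def n13888 : Q := act 2 n10954
theorem D13888 : act 2 n10954 = n13888 := rfl
theorem F24376 : act 5 n13888 = n10956 := d13_2 (iv F19454) D13888 (iv D10956)
def n13889 : Q := act 6 n10954
theorem D13889 : act 6 n10954 = n13889 := rfl
def n13890 : Q := act 1 n10955
theorem D13890 : act 1 n10955 = n13890 := rfl
def n13891 : Q := act 2 n10955
theorem D13891 : act 2 n10955 = n13891 := rfl
theorem F24377 : act 0 n13891 = n10956 := d1_1 D13891 (iv D10956) D10955
def n13892 : Q := act 6 n10955
theorem D13892 : act 6 n10955 = n13892 := rfl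
theorem F24378 : act 0 n13892 = n10957 := d5_1 D13892 (iv D10957) D10955
theorem F24379 : act 5 n13892 = n13889 := d22_2 F24375 D13892 (iv D13889) D13887
def n13893 : Q := act 3 n10956
theorem D13893 : act 3 n10956 = n13893 := rfl
def n13894 : Q := act 6 n10956
theorem D13894 : act 6 n10956 = n13894 := rfl
theorem F24380 : act 2 n13894 = n10957 := d14_1 D13894 (iv D10957) D10956
def n13895 : Q := act 5 n10957
theorem D13895 : act 5 n10957 = n13895 := rfl
theorem F24381 : act 0 n13895 = n13889 := d4_1 D13895 (iv F24379) F24378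
theorem F24382 : act 6 n13895 = n13887 := d20_2 D10957 D13895 F24375 D13892 F24379 (iv D13889) F19454
def n13896 : Q := act 2 n10958
theorem D13896 : act 2 n10958 = n13896 := rfl
theorem F24383 : act 0 n13896 = n10959 := d1_1 D13896 (iv D10959) D10958
def n13897 : Q := act 5 n10958
theorem D13897 : act 5 n10958 = n13897 := rfl
theorem F24384 : act 0 n13897 = n10960 := d4_1 D13897 (iv D10960) D10958
def n13898 : Q := act 6 n10958
theorem D13898 : act 6 n10958 = n13898 := rfl
theorem F24385 : act 0 n13898 = n10961 := d5_1 D13898 (iv D10961) D10958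
def n13899 : Q := act 1 n10959
theorem D13899 : act 1 n10959 = n13899 := rfl
theorem F24386 : act 2 n13899 = n10962 := d6_2 D10959 D13899 (iv D10962) (iv D8202) D8201
def n13900 : Q := act 3 n10959
theorem D13900 : act 3 n10959 = n13900 := rfl
def n13901 : Q := act 5 n10959
theorem D13901 : act 5 n10959 = n13901 := rfl
theorem F24387 : act 2 n13901 = n10960 := d13_1 D13901 (iv D10960) D10959
def n13902 : Q := act 6 n10959
theorem D13902 : act 6 n10959 = n13902 := rfl
theorem F24388 : act 2 n13902 = n10961 := d14_1 D13902 (iv D10961) D10959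
def n13903 : Q := act 6 n10960
theorem D13903 : act 6 n10960 = n13903 := rfl
theorem F24389 : act 5 n13903 = n13898 := d22_2 D10960 D13903 (iv D13898) (iv D10958)
def n13904 : Q := act 1 n10961
theorem D13904 : act 1 n10961 = n13904 := rfl
theorem F24390 : act 6 n13904 = n10965 := d10_2 D10961 D13904 (iv D10965) (iv D8203) D8201
def n13905 : Q := act 5 n10961
theorem D13905 : act 5 n10961 = n13905 := rfl
theorem F24391 : act 0 n13905 = n13903 := d4_1 D13905 F24389 F24385
theorem F24392 : act 6 n13905 = n13897 := d20_2 D10961 D13905 (iv D13897) D13898 (iv F24389) (iv D13903) (iv D10960)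
def n13906 : Q := act 0 n10962
theorem D13906 : act 0 n10962 = n13906 := rfl
def n13907 : Q := act 3 n10962
theorem D13907 : act 3 n10962 = n13907 := rfl
theorem F24393 : act 1 n13907 = n10963 := d7_1 D13907 (iv D10963) D10962
theorem F24394 : act 2 n11009 = n13907 := d6_0 F24393 F19457 F12206 D8229 D11009
theorem E7017 : n13906 = n13899 := (c21_9 F24386 D13907 (iv F24394) (iv F19554) F19553 F19554 F24394 (iv D13907) D13906)
theorem F24395 : act 0 n13899 = n10962 := (sb E7017 (iv D13906))
theorem F24396 : act 1 n11004 = n13896 := d0_8 D13899 F24395 (iv D10962) F12203 F5984 (iv F5988) D8225 D11004 F24383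
def n13908 : Q := act 5 n10962
theorem D13908 : act 5 n10962 = n13908 := rfl
def n13909 : Q := act 6 n10962
theorem D13909 : act 6 n10962 = n13909 := rfl
def n13910 : Q := act 4 n10963
theorem D13910 : act 4 n10963 = n13910 := rfl
theorem F24397 : act 0 n13910 = n10966 := d3_1 D13910 (iv D10966) (iv F19456)
theorem F24398 : act 2 n13910 = n10966 := d12_1 D13910 (iv D10966) (iv F19457)
def n13911 : Q := act 6 n10963
theorem D13911 : act 6 n10963 = n13911 := rfl
theorem F24399 : act 0 n13911 = n10967 := d5_1 D13911 (iv D10967) (iv F19456)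
theorem F24400 : act 2 n13911 = n10967 := d14_1 D13911 (iv D10967) (iv F19457)
theorem F24401 : act 3 n13911 = n10964 := d17_1 D13911 (iv D10964) D10963
theorem F24402 : act 5 n13911 = n13867 := d22_2 F24357 D13911 (iv D13867) (iv F24356)
def n13912 : Q := act 1 n10964
theorem D13912 : act 1 n10964 = n13912 := rfl
def n13913 : Q := act 0 n10965
theorem D13913 : act 0 n10965 = n13913 := rfl
def n13914 : Q := act 2 n10965
theorem D13914 : act 2 n10965 = n13914 := rfl
def n13915 : Q := act 5 n10965
theorem D13915 : act 5 n10965 = n13915 := rfl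
theorem F24403 : act 1 n13915 = n13871 := d9_1 D13915 (iv D13871) (iv D10946) (iv F12205) D10965
def n13916 : Q := act 6 n10966
theorem D13916 : act 6 n10966 = n13916 := rfl
theorem F24404 : act 4 n13916 = n10967 := d19_1 D13916 (iv D10967) D10966
def n13917 : Q := act 1 n10967
theorem D13917 : act 1 n10967 = n13917 := rfl
theorem F24405 : act 3 n13917 = n10968 := d7_2 (iv F19462) D13917 (iv D10968)
theorem F24406 : act 6 n13917 = n11013 := d10_2 D10967 D13917 (iv D11013) (iv D8231) (iv F12206)
def n13918 : Q := act 5 n10967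
theorem D13918 : act 5 n10967 = n13918 := rfl
theorem F24407 : act 0 n13918 = n13867 := d4_1 D13918 (iv F24402) F24399
theorem F24408 : act 2 n13918 = n13867 := d13_1 D13918 (iv F24402) F24400
theorem F24409 : act 3 n13918 = n10969 := d16_1 D13918 (iv D10969) (iv F19462)
theorem F24410 : act 6 n13918 = n13865 := d20_2 D10967 D13918 F24357 D13911 F24402 (iv D13867) F19446
def n13919 : Q := act 0 n10968
theorem D13919 : act 0 n10968 = n13919 := rfl
theorem F24411 : act 6 n13919 = n11015 := d5_2 (iv F19463) D13919 (iv D11015)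
def n13920 : Q := act 2 n10968
theorem D13920 : act 2 n10968 = n13920 := rfl
theorem F24412 : act 1 n13920 = n10971 := d6_1 D13920 (iv D10971) (iv D8206) (iv F12207) D10968
theorem F24413 : act 6 n13920 = n11016 := d14_2 (iv F19463) D13920 (iv D11016)
def n13921 : Q := act 5 n10968
theorem D13921 : act 5 n10968 = n13921 := rfl
def n13922 : Q := act 1 n10969
theorem D13922 : act 1 n10969 = n13922 := rfl
def n13923 : Q := act 1 n10970
theorem D13923 : act 1 n10970 = n13923 := rfl
def n13924 : Q := act 2 n10970
theorem D13924 : act 2 n10970 = n13924 := rfl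
theorem F24414 : act 0 n13924 = n10971 := d1_1 D13924 (iv D10971) D10970
theorem F24415 : act 6 n13924 = n10975 := d14_2 (iv F19467) D13924 (iv D10975)
def n13925 : Q := act 3 n10971
theorem D13925 : act 3 n10971 = n13925 := rfl
theorem F24416 : act 6 n13925 = n10977 := d17_2 (iv F19468) D13925 (iv D10977)
def n13926 : Q := act 5 n10971
theorem D13926 : act 5 n10971 = n13926 := rfl
theorem F24417 : act 2 n13926 = n10972 := d13_1 D13926 (iv D10972) D10971
def n13927 : Q := act 1 n10972
theorem D13927 : act 1 n10972 = n13927 := rfl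
theorem F24418 : act 5 n13927 = n10973 := d9_2 D10972 D13927 (iv D10973) (iv D8207) D8206
def n13928 : Q := act 0 n10973
theorem D13928 : act 0 n10973 = n13928 := rfl
def n13929 : Q := act 2 n10973
theorem D13929 : act 2 n10973 = n13929 := rfl
def n13930 : Q := act 6 n10973
theorem D13930 : act 6 n10973 = n13930 := rfl
theorem F24419 : act 1 n13930 = n13863 := d10_1 D13930 (iv D13863) (iv D10942) (iv F12210) D10973
def n13931 : Q := act 0 n10974
theorem D13931 : act 0 n10974 = n13931 := rfl
def n13932 : Q := act 2 n10974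
theorem D13932 : act 2 n10974 = n13932 := rfl
def n13933 : Q := act 5 n10974
theorem D13933 : act 5 n10974 = n13933 := rfl
def n13934 : Q := act 6 n10974
theorem D13934 : act 6 n10974 = n13934 := rfl
def n13935 : Q := act 1 n10975
theorem D13935 : act 1 n10975 = n13935 := rfl
def n13936 : Q := act 3 n10975
theorem D13936 : act 3 n10975 = n13936 := rfl
theorem F24420 : act 0 n13936 = n10977 := d2_1 D13936 (iv D10977) (iv F19469)
def n13937 : Q := act 5 n10975
theorem D13937 : act 5 n10975 = n13937 := rfl
theorem F24421 : act 0 n13937 = n10978 := d4_1 D13937 (iv D10978) (iv F19469)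
theorem F24422 : act 2 n13937 = n10976 := d13_1 D13937 (iv D10976) D10975
theorem F24423 : act 6 n13937 = n13926 := d22_1 D13937 (iv D13926) F19468 (iv F19469)
def n13938 : Q := act 1 n10976
theorem D13938 : act 1 n10976 = n13938 := rfl
def n13939 : Q := act 2 n10977
theorem D13939 : act 2 n10977 = n13939 := rfl
def n13940 : Q := act 4 n10977
theorem D13940 : act 4 n10977 = n13940 := rfl
theorem F24424 : act 1 n13940 = n11024 := d8_1 D13940 (iv D11024) (iv F19472)
def n13941 : Q := act 5 n10977
theorem D13941 : act 5 n10977 = n13941 := rfl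
theorem F24426 : act 3 n13941 = n10978 := d16_1 D13941 (iv D10978) D10977
def n13942 : Q := act 6 n10978
theorem D13942 : act 6 n10978 = n13942 := rfl
theorem F24427 : act 0 n13942 = n13926 := d5_1 D13942 (iv F24423) F24421
theorem F24428 : act 2 n13942 = n10979 := d14_1 D13942 (iv D10979) (iv F19474)
theorem F24429 : act 5 n13942 = n13924 := d20_1 D13942 F24415 D13937 F24423 (iv D13926) F19468 D10978
def n13943 : Q := act 1 n10979
theorem D13943 : act 1 n10979 = n13943 := rfl
theorem F24430 : act 6 n13943 = n13369 := d10_2 D10979 D13943 (iv D13369) (iv D10679) (iv F12212)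
def n13944 : Q := act 2 n10980
theorem D13944 : act 2 n10980 = n13944 := rfl
theorem F24431 : act 0 n13944 = n10981 := d1_1 D13944 (iv D10981) D10980
def n13945 : Q := act 5 n10980
theorem D13945 : act 5 n10980 = n13945 := rfl
theorem F24432 : act 0 n13945 = n10982 := d4_1 D13945 (iv D10982) D10980
def n13946 : Q := act 6 n10980
theorem D13946 : act 6 n10980 = n13946 := rfl
theorem F24433 : act 0 n13946 = n10983 := d5_1 D13946 (iv D10983) D10980
def n13947 : Q := act 1 n10981
theorem D13947 : act 1 n10981 = n13947 := rfl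
theorem F24434 : act 2 n13947 = n10984 := d6_2 D10981 D13947 (iv D10984) (iv D8212) D8211
def n13948 : Q := act 3 n10981
theorem D13948 : act 3 n10981 = n13948 := rfl
def n13949 : Q := act 5 n10981
theorem D13949 : act 5 n10981 = n13949 := rfl
theorem F24435 : act 2 n13949 = n10982 := d13_1 D13949 (iv D10982) D10981
def n13950 : Q := act 6 n10981
theorem D13950 : act 6 n10981 = n13950 := rfl
theorem F24436 : act 2 n13950 = n10983 := d14_1 D13950 (iv D10983) D10981
def n13951 : Q := act 1 n10982
theorem D13951 : act 1 n10982 = n13951 := rfl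
theorem F24437 : act 5 n13951 = n10987 := d9_2 D10982 D13951 (iv D10987) (iv D8213) D8211
def n13952 : Q := act 6 n10982
theorem D13952 : act 6 n10982 = n13952 := rfl
theorem F24438 : act 5 n13952 = n13946 := d22_2 D10982 D13952 (iv D13946) (iv D10980)
def n13953 : Q := act 5 n10983
theorem D13953 : act 5 n10983 = n13953 := rfl
theorem F24439 : act 0 n13953 = n13952 := d4_1 D13953 F24438 F24433
theorem F24440 : act 6 n13953 = n13945 := d20_2 D10983 D13953 (iv D13945) D13946 (iv F24438) (iv D13952) (iv D10982)
def n13954 : Q := act 0 n10984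
theorem D13954 : act 0 n10984 = n13954 := rfl
def n13955 : Q := act 3 n10984
theorem D13955 : act 3 n10984 = n13955 := rfl
theorem F24441 : act 1 n13955 = n10985 := d7_1 D13955 (iv D10985) D10984
theorem F24442 : act 2 n11032 = n13955 := d6_0 F24441 F19478 F12216 D8252 D11032
theorem E7018 : n13954 = n13947 := (c21_9 F24434 D13955 (iv F24442) (iv F19615) F19614 F19615 F24442 (iv D13955) D13954)
theorem F24443 : act 0 n13947 = n10984 := (sb E7018 (iv D13954))
theorem F24444 : act 1 n11027 = n13944 := d0_8 D13947 F24443 (iv D10984) F12213 F5985 (iv F6002) D8248 D11027 F24431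
def n13956 : Q := act 5 n10984
theorem D13956 : act 5 n10984 = n13956 := rfl
def n13957 : Q := act 6 n10984
theorem D13957 : act 6 n10984 = n13957 := rfl
def n13958 : Q := act 4 n10985
theorem D13958 : act 4 n10985 = n13958 := rfl
theorem F24445 : act 0 n13958 = n10988 := d3_1 D13958 (iv D10988) (iv F19477)
theorem F24446 : act 2 n13958 = n10988 := d12_1 D13958 (iv D10988) (iv F19478)
def n13959 : Q := act 5 n10985
theorem D13959 : act 5 n10985 = n13959 := rfl
theorem F24447 : act 0 n13959 = n10989 := d4_1 D13959 (iv D10989) (iv F19477)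
theorem F24448 : act 2 n13959 = n10989 := d13_1 D13959 (iv D10989) (iv F19478)
theorem F24449 : act 3 n13959 = n10986 := d16_1 D13959 (iv D10986) D10985
theorem F24450 : act 6 n13959 = n13885 := d22_1 D13959 (iv D13885) F19452 (iv F19477)
def n13960 : Q := act 1 n10986
theorem D13960 : act 1 n10986 = n13960 := rfl
def n13961 : Q := act 0 n10987
theorem D13961 : act 0 n10987 = n13961 := rfl
def n13962 : Q := act 2 n10987
theorem D13962 : act 2 n10987 = n13962 := rfl
def n13963 : Q := act 6 n10987
theorem D13963 : act 6 n10987 = n13963 := rfl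
theorem F24451 : act 1 n13963 = n13889 := d10_1 D13963 (iv D13889) (iv D10954) (iv F12215) D10987
def n13964 : Q := act 5 n10988
theorem D13964 : act 5 n10988 = n13964 := rfl
theorem F24452 : act 4 n13964 = n10989 := d18_1 D13964 (iv D10989) D10988
def n13965 : Q := act 1 n10989
theorem D13965 : act 1 n10989 = n13965 := rfl
theorem F24453 : act 3 n13965 = n10990 := d7_2 (iv F19483) D13965 (iv D10990)
theorem F24454 : act 5 n13965 = n11036 := d9_2 D10989 D13965 (iv D11036) (iv D8254) (iv F12216)
def n13966 : Q := act 6 n10989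
theorem D13966 : act 6 n10989 = n13966 := rfl
theorem F24455 : act 0 n13966 = n13885 := d5_1 D13966 (iv F24450) F24447
theorem F24456 : act 2 n13966 = n13885 := d14_1 D13966 (iv F24450) F24448
theorem F24457 : act 3 n13966 = n10991 := d17_1 D13966 (iv D10991) (iv F19483)
theorem F24458 : act 5 n13966 = n13883 := d20_1 D13966 F24371 D13959 F24450 (iv D13885) F19452 D10989
def n13967 : Q := act 0 n10990
theorem D13967 : act 0 n10990 = n13967 := rfl
theorem F24459 : act 5 n13967 = n11038 := d4_2 (iv F19484) D13967 (iv D11038)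
def n13968 : Q := act 2 n10990
theorem D13968 : act 2 n10990 = n13968 := rfl
theorem F24460 : act 1 n13968 = n10993 := d6_1 D13968 (iv D10993) (iv D8216) (iv F12217) D10990
theorem F24461 : act 5 n13968 = n11039 := d13_2 (iv F19484) D13968 (iv D11039)
def n13969 : Q := act 6 n10990
theorem D13969 : act 6 n10990 = n13969 := rfl
def n13970 : Q := act 1 n10991
theorem D13970 : act 1 n10991 = n13970 := rfl
def n13971 : Q := act 1 n10992
theorem D13971 : act 1 n10992 = n13971 := rfl
theorem F24462 : act 3 n13971 = n13938 := d7_2 (iv F19488) D13971 (iv D13938)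
def n13972 : Q := act 2 n10992
theorem D13972 : act 2 n10992 = n13972 := rfl
theorem F24463 : act 0 n13972 = n10993 := d1_1 D13972 (iv D10993) D10992
theorem F24464 : act 5 n13972 = n10997 := d13_2 (iv F19489) D13972 (iv D10997)
def n13973 : Q := act 3 n10993
theorem D13973 : act 3 n10993 = n13973 := rfl
theorem F24465 : act 5 n13973 = n10999 := d16_2 (iv F19490) D13973 (iv D10999)
def n13974 : Q := act 6 n10993
theorem D13974 : act 6 n10993 = n13974 := rfl
theorem F24466 : act 2 n13974 = n10994 := d14_1 D13974 (iv D10994) D10993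
def n13975 : Q := act 1 n10994
theorem D13975 : act 1 n10994 = n13975 := rfl
theorem F24467 : act 3 n13975 = n13943 := d7_2 (iv F19491) D13975 (iv D13943)
theorem F24468 : act 6 n13975 = n10995 := d10_2 D10994 D13975 (iv D10995) (iv D8217) D8216
def n13976 : Q := act 0 n10995
theorem D13976 : act 0 n10995 = n13976 := rfl
def n13977 : Q := act 2 n10995
theorem D13977 : act 2 n10995 = n13977 := rfl
def n13978 : Q := act 5 n10995
theorem D13978 : act 5 n10995 = n13978 := rfl
theorem F24469 : act 1 n13978 = n13880 := d9_1 D13978 (iv D13880) (iv D10950) (iv F12221) D10995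
def n13979 : Q := act 0 n10996
theorem D13979 : act 0 n10996 = n13979 := rfl
theorem F24470 : act 1 n13979 = n13931 := d0_2 D10996 D13979 (iv D13931) (iv D10974) (iv D8208) (iv D3920) (iv F3034) D3924 D8218
theorem F24471 : act 3 n13979 = n13931 := d2_2 (iv F19492) D13979 (iv D13931)
def n13980 : Q := act 2 n10996
theorem D13980 : act 2 n10996 = n13980 := rfl
def n13981 : Q := act 5 n10996
theorem D13981 : act 5 n10996 = n13981 := rfl
theorem F24472 : act 3 n13981 = n13933 := d16_1 D13981 (iv D13933) (iv F19492)
def n13982 : Q := act 6 n10996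
theorem D13982 : act 6 n10996 = n13982 := rfl
theorem F24473 : act 3 n13982 = n13934 := d17_1 D13982 (iv D13934) (iv F19492)
def n13983 : Q := act 1 n10997
theorem D13983 : act 1 n10997 = n13983 := rfl
def n13984 : Q := act 3 n10997
theorem D13984 : act 3 n10997 = n13984 := rfl
theorem F24474 : act 0 n13984 = n10999 := d2_1 D13984 (iv D10999) (iv F19493)
def n13985 : Q := act 6 n10997
theorem D13985 : act 6 n10997 = n13985 := rfl
theorem F24475 : act 0 n13985 = n11000 := d5_1 D13985 (iv D11000) (iv F19493)
theorem F24476 : act 2 n13985 = n10998 := d14_1 D13985 (iv D10998) D10997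
theorem F24477 : act 5 n13985 = n13974 := d22_2 F24464 D13985 (iv D13974) (iv F24463)
def n13986 : Q := act 1 n10998
theorem D13986 : act 1 n10998 = n13986 := rfl
theorem F24478 : act 3 n13986 = n13923 := d7_2 (iv F19495) D13986 (iv D13923)
def n13987 : Q := act 2 n10999
theorem D13987 : act 2 n10999 = n13987 := rfl
def n13988 : Q := act 4 n10999
theorem D13988 : act 4 n10999 = n13988 := rfl
theorem F24479 : act 1 n13988 = n11047 := d8_1 D13988 (iv D11047) (iv F19497)
def n13989 : Q := act 6 n10999
theorem D13989 : act 6 n10999 = n13989 := rfl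
theorem F24481 : act 3 n13989 = n11000 := d17_1 D13989 (iv D11000) D10999
def n13990 : Q := act 5 n11000
theorem D13990 : act 5 n11000 = n13990 := rfl
theorem F24482 : act 0 n13990 = n13974 := d4_1 D13990 (iv F24477) F24475
theorem F24483 : act 2 n13990 = n11001 := d13_1 D13990 (iv D11001) (iv F19499)
theorem F24484 : act 6 n13990 = n13972 := d20_2 D11000 D13990 F24464 D13985 F24477 (iv D13974) F19490
def n13991 : Q := act 1 n11001
theorem D13991 : act 1 n11001 = n13991 := rfl
theorem F24485 : act 3 n13991 = n13927 := d7_2 (iv F19501) D13991 (iv D13927)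
theorem F24486 : act 5 n13991 = n13363 := d9_2 D11001 D13991 (iv D13363) (iv D10676) (iv F12224)
def n13992 : Q := act 0 n11002
theorem D13992 : act 0 n11002 = n13992 := rfl
theorem F24487 : act 2 n13992 = n11004 := d1_2 (iv F19503) D13992 (iv D11004)
def n13993 : Q := act 3 n11002
theorem D13993 : act 3 n11002 = n13993 := rfl
theorem F24488 : act 1 n13993 = n11003 := d7_1 D13993 (iv D11003) D11002
def n13994 : Q := act 5 n11002
theorem D13994 : act 5 n11002 = n13994 := rfl
theorem F24489 : act 1 n13994 = n13994 := d9_1 D13994 (iv D13994) (iv D11002) F16229 D11002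
theorem F24490 : act 2 n13994 = n11006 := d13_1 D13994 (iv D11006) (iv F19503)
def n13995 : Q := act 6 n11002
theorem D13995 : act 6 n11002 = n13995 := rfl
theorem F24491 : act 1 n13995 = n13396 := d10_1 D13995 (iv D13396) F19000 F17230 D11002
theorem F24492 : act 2 n13995 = n11007 := d14_1 D13995 (iv D11007) (iv F19503)
def n13996 : Q := act 4 n11003
theorem D13996 : act 4 n11003 = n13996 := rfl
theorem F24493 : act 0 n13996 = n13996 := d3_1 D13996 (iv D13996) F19504
theorem F24494 : act 2 n13996 = n13996 := d12_1 D13996 (iv D13996) F19507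
theorem F24495 : act 5 n13996 = n13996 := d18_2 F19505 D13996 (iv D13996)
theorem F24496 : act 6 n13996 = n13404 := d19_2 (iv F19506) D13996 (iv D13404)
def n13997 : Q := act 3 n11004
theorem D13997 : act 3 n11004 = n13997 := rfl
theorem F24497 : act 0 n13997 = n11005 := d2_1 D13997 (iv D11005) D11004
def n13998 : Q := act 5 n11004
theorem D13998 : act 5 n11004 = n13998 := rfl
theorem F24498 : act 0 n13998 = n11006 := d4_1 D13998 (iv D11006) D11004
def n13999 : Q := act 6 n11004
theorem D13999 : act 6 n11004 = n13999 := rfl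
theorem F24499 : act 0 n13999 = n11007 := d5_1 D13999 (iv D11007) D11004
def n14000 : Q := act 2 n11005
theorem D14000 : act 2 n11005 = n14000 := rfl
def n14001 : Q := act 4 n11005
theorem D14001 : act 4 n11005 = n14001 := rfl
theorem F24500 : act 1 n14001 = n11008 := d8_1 D14001 (iv D11008) (iv F19508)
def n14002 : Q := act 5 n11005
theorem D14002 : act 5 n11005 = n14002 := rfl
theorem F24501 : act 3 n14002 = n11006 := d16_1 D14002 (iv D11006) D11005
def n14003 : Q := act 6 n11005
theorem D14003 : act 6 n11005 = n14003 := rfl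
theorem F24502 : act 3 n14003 = n11007 := d17_1 D14003 (iv D11007) D11005
def n14004 : Q := act 6 n11006
theorem D14004 : act 6 n11006 = n14004 := rfl
theorem F24503 : act 5 n14004 = n13999 := d22_2 D11006 D14004 (iv D13999) (iv D11004)
def n14005 : Q := act 5 n11007
theorem D14005 : act 5 n11007 = n14005 := rfl
theorem F24504 : act 0 n14005 = n14004 := d4_1 D14005 F24503 F24499
theorem F24505 : act 6 n14005 = n13998 := d20_2 D11007 D14005 (iv D13998) D13999 (iv F24503) (iv D14004) (iv D11006)
def n14006 : Q := act 0 n11009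
theorem D14006 : act 0 n11009 = n14006 := rfl
def n14007 : Q := act 4 n11009
theorem D14007 : act 4 n11009 = n14007 := rfl
theorem F24506 : act 1 n14007 = n11010 := d8_1 D14007 (iv D11010) D11009
def n14008 : Q := act 5 n11009
theorem D14008 : act 5 n11009 = n14008 := rfl
def n14009 : Q := act 6 n11009
theorem D14009 : act 6 n11009 = n14009 := rfl
def n14010 : Q := act 3 n11010
theorem D14010 : act 3 n11010 = n14010 := rfl
def n14011 : Q := act 6 n11010
theorem D14011 : act 6 n11010 = n14011 := rfl
theorem F24507 : act 2 n14011 = n11012 := d14_1 D14011 (iv D11012) (iv F19510)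
theorem F24508 : act 4 n14011 = n11011 := d19_1 D14011 (iv D11011) D11010
def n14012 : Q := act 1 n11011
theorem D14012 : act 1 n11011 = n14012 := rfl
theorem F24509 : act 3 n14012 = n13649 := d7_2 (iv F19512) D14012 (iv D13649)
def n14013 : Q := act 1 n11012
theorem D14013 : act 1 n11012 = n14013 := rfl
theorem F24510 : act 4 n14013 = n11013 := d8_2 (iv F19513) D14013 (iv D11013)
def n14014 : Q := act 5 n11012
theorem D14014 : act 5 n11012 = n14014 := rfl
theorem F24511 : act 0 n14014 = n13599 := d4_1 D14014 (iv F23880) F23879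
theorem F24512 : act 4 n14014 = n11014 := d18_1 D14014 (iv D11014) (iv F19513)
theorem F24513 : act 6 n14014 = n13595 := d20_2 D11012 D14014 F23849 (iv F23881) F23880 (iv D13599) F19144
def n14015 : Q := act 0 n11013
theorem D14015 : act 0 n11013 = n14015 := rfl
theorem F24514 : act 3 n14015 = n11015 := d2_2 (iv F19514) D14015 (iv D11015)
def n14016 : Q := act 2 n11013
theorem D14016 : act 2 n11013 = n14016 := rfl
def n14017 : Q := act 5 n11013
theorem D14017 : act 5 n11013 = n14017 := rfl
theorem F24515 : act 3 n14017 = n11017 := d16_1 D14017 (iv D11017) (iv F19514)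
def n14018 : Q := act 1 n11014
theorem D14018 : act 1 n11014 = n14018 := rfl
theorem F24516 : act 3 n14018 = n11018 := d7_2 (iv F19516) D14018 (iv D11018)
def n14019 : Q := act 1 n11015
theorem D14019 : act 1 n11015 = n14019 := rfl
def n14020 : Q := act 2 n11015
theorem D14020 : act 2 n11015 = n14020 := rfl
theorem F24517 : act 0 n14020 = n11016 := d1_1 D14020 (iv D11016) D11015
def n14021 : Q := act 5 n11015
theorem D14021 : act 5 n11015 = n14021 := rfl
theorem F24518 : act 0 n14021 = n11017 := d4_1 D14021 (iv D11017) D11015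
theorem F24519 : act 6 n14021 = n13921 := d22_1 D14021 (iv D13921) F19463 D11015
def n14022 : Q := act 3 n11016
theorem D14022 : act 3 n11016 = n14022 := rfl
theorem F24520 : act 1 n14022 = n11020 := d7_1 D14022 (iv D11020) (iv F19518)
def n14023 : Q := act 5 n11016
theorem D14023 : act 5 n11016 = n14023 := rfl
theorem F24521 : act 2 n14023 = n11017 := d13_1 D14023 (iv D11017) D11016
def n14024 : Q := act 1 n11017
theorem D14024 : act 1 n11017 = n14024 := rfl
theorem F24522 : act 5 n14024 = n11018 := d9_2 D11017 D14024 (iv D11018) (iv D8233) D8232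
def n14025 : Q := act 6 n11017
theorem D14025 : act 6 n11017 = n14025 := rfl
theorem F24523 : act 0 n14025 = n13921 := d5_1 D14025 (iv F24519) F24518
theorem F24524 : act 5 n14025 = n13919 := d20_1 D14025 F24411 D14021 F24519 (iv D13921) F19463 D11017
def n14026 : Q := act 0 n11018
theorem D14026 : act 0 n11018 = n14026 := rfl
def n14027 : Q := act 6 n11018
theorem D14027 : act 6 n11018 = n14027 := rfl
theorem F24525 : act 1 n14027 = n13594 := d10_1 D14027 (iv D13594) (iv D10790) (iv F12237) D11018
def n14028 : Q := act 1 n11019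
theorem D14028 : act 1 n11019 = n14028 := rfl
def n14029 : Q := act 3 n11019
theorem D14029 : act 3 n11019 = n14029 := rfl
theorem F24526 : act 0 n14029 = n11020 := d2_1 D14029 (iv D11020) (iv F19519)
theorem F24527 : act 5 n14029 = n11020 := d16_2 (iv F19520) D14029 (iv D11020)
theorem F24528 : act 6 n14029 = n11022 := d17_2 (iv F19521) D14029 (iv D11022)
def n14030 : Q := act 2 n11020
theorem D14030 : act 2 n11020 = n14030 := rfl
theorem F24529 : act 6 n14030 = n11023 := d14_2 (iv F19522) D14030 (iv D11023)
def n14031 : Q := act 4 n11020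
theorem D14031 : act 4 n11020 = n14031 := rfl
theorem F24530 : act 6 n14031 = n11024 := d19_2 (iv F19522) D14031 (iv D11024)
def n14032 : Q := act 0 n11021
theorem D14032 : act 0 n11021 = n14032 := rfl
def n14033 : Q := act 3 n11021
theorem D14033 : act 3 n11021 = n14033 := rfl
theorem F24531 : act 1 n14033 = n11022 := d7_1 D14033 (iv D11022) D11021
def n14034 : Q := act 5 n11021
theorem D14034 : act 5 n11021 = n14034 := rfl
theorem F24532 : act 1 n14034 = n14034 := d9_1 D14034 (iv D14034) (iv D11021) F17250 D11021
def n14035 : Q := act 6 n11021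
theorem D14035 : act 6 n11021 = n14035 := rfl
def n14036 : Q := act 4 n11022
theorem D14036 : act 4 n11022 = n14036 := rfl
theorem F24533 : act 0 n14036 = n11024 := d3_1 D14036 (iv D11024) (iv F19523)
theorem F24534 : act 5 n14036 = n14036 := d18_2 F19524 D14036 (iv D14036)
def n14037 : Q := act 1 n11023
theorem D14037 : act 1 n11023 = n14037 := rfl
def n14038 : Q := act 4 n11023
theorem D14038 : act 4 n11023 = n14038 := rfl
theorem F24535 : act 2 n14038 = n11024 := d12_1 D14038 (iv D11024) D11023
theorem F24536 : act 5 n14038 = n14038 := d18_2 F19525 D14038 (iv D14038)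
def n14039 : Q := act 0 n11025
theorem D14039 : act 0 n11025 = n14039 := rfl
theorem F24537 : act 2 n14039 = n11027 := d1_2 (iv F19527) D14039 (iv D11027)
def n14040 : Q := act 3 n11025
theorem D14040 : act 3 n11025 = n14040 := rfl
theorem F24538 : act 1 n14040 = n11026 := d7_1 D14040 (iv D11026) D11025
def n14041 : Q := act 5 n11025
theorem D14041 : act 5 n11025 = n14041 := rfl
theorem F24539 : act 1 n14041 = n13402 := d9_1 D14041 (iv D13402) F19001 F17255 D11025
theorem F24540 : act 2 n14041 = n11029 := d13_1 D14041 (iv D11029) (iv F19527)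
def n14042 : Q := act 6 n11025
theorem D14042 : act 6 n11025 = n14042 := rfl
theorem F24541 : act 1 n14042 = n14042 := d10_1 D14042 (iv D14042) (iv D11025) F17254 D11025
theorem F24542 : act 2 n14042 = n11030 := d14_1 D14042 (iv D11030) (iv F19527)
def n14043 : Q := act 4 n11026
theorem D14043 : act 4 n11026 = n14043 := rfl
theorem F24543 : act 0 n14043 = n14043 := d3_1 D14043 (iv D14043) F19528
theorem F24544 : act 2 n14043 = n14043 := d12_1 D14043 (iv D14043) F19531
theorem F24545 : act 5 n14043 = n13405 := d18_2 (iv F19529) D14043 (iv D13405)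
theorem F24546 : act 6 n14043 = n14043 := d19_2 F19530 D14043 (iv D14043)
def n14044 : Q := act 3 n11027
theorem D14044 : act 3 n11027 = n14044 := rfl
theorem F24547 : act 0 n14044 = n11028 := d2_1 D14044 (iv D11028) D11027
def n14045 : Q := act 5 n11027
theorem D14045 : act 5 n11027 = n14045 := rfl
theorem F24548 : act 0 n14045 = n11029 := d4_1 D14045 (iv D11029) D11027
def n14046 : Q := act 6 n11027
theorem D14046 : act 6 n11027 = n14046 := rfl
theorem F24549 : act 0 n14046 = n11030 := d5_1 D14046 (iv D11030) D11027
def n14047 : Q := act 2 n11028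
theorem D14047 : act 2 n11028 = n14047 := rfl
def n14048 : Q := act 4 n11028
theorem D14048 : act 4 n11028 = n14048 := rfl
theorem F24550 : act 1 n14048 = n11031 := d8_1 D14048 (iv D11031) (iv F19532)
def n14049 : Q := act 5 n11028
theorem D14049 : act 5 n11028 = n14049 := rfl
theorem F24551 : act 3 n14049 = n11029 := d16_1 D14049 (iv D11029) D11028
def n14050 : Q := act 6 n11028
theorem D14050 : act 6 n11028 = n14050 := rfl
def n14051 : Q := act 6 n11029
theorem D14051 : act 6 n11029 = n14051 := rfl
theorem F24553 : act 5 n14051 = n14046 := d22_2 D11029 D14051 (iv D14046) (iv D11027)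
def n14052 : Q := act 5 n11030
theorem D14052 : act 5 n11030 = n14052 := rfl
theorem F24554 : act 0 n14052 = n14051 := d4_1 D14052 F24553 F24549
theorem F24555 : act 6 n14052 = n14045 := d20_2 D11030 D14052 (iv D14045) D14046 (iv F24553) (iv D14051) (iv D11029)
def n14053 : Q := act 0 n11032
theorem D14053 : act 0 n11032 = n14053 := rfl
def n14054 : Q := act 4 n11032
theorem D14054 : act 4 n11032 = n14054 := rfl
theorem F24556 : act 1 n14054 = n11033 := d8_1 D14054 (iv D11033) D11032
def n14055 : Q := act 5 n11032
theorem D14055 : act 5 n11032 = n14055 := rfl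
def n14056 : Q := act 6 n11032
theorem D14056 : act 6 n11032 = n14056 := rfl
def n14057 : Q := act 3 n11033
theorem D14057 : act 3 n11033 = n14057 := rfl
def n14058 : Q := act 5 n11033
theorem D14058 : act 5 n11033 = n14058 := rfl
theorem F24557 : act 2 n14058 = n11035 := d13_1 D14058 (iv D11035) (iv F19534)
theorem F24558 : act 4 n14058 = n11034 := d18_1 D14058 (iv D11034) D11033
def n14059 : Q := act 1 n11034
theorem D14059 : act 1 n11034 = n14059 := rfl
theorem F24559 : act 3 n14059 = n13632 := d7_2 (iv F19536) D14059 (iv D13632)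
def n14060 : Q := act 1 n11035
theorem D14060 : act 1 n11035 = n14060 := rfl
theorem F24560 : act 4 n14060 = n11036 := d8_2 (iv F19537) D14060 (iv D11036)
def n14061 : Q := act 6 n11035
theorem D14061 : act 6 n11035 = n14061 := rfl
theorem F24561 : act 0 n14061 = n13612 := d5_1 D14061 F23874 F23859
theorem F24562 : act 4 n14061 = n11037 := d19_1 D14061 (iv D11037) (iv F19537)
theorem F24563 : act 5 n14061 = n13608 := d20_1 D14061 F23867 (iv F23860) (iv F23874) (iv D13612) F19152 D11035
def n14062 : Q := act 0 n11036
theorem D14062 : act 0 n11036 = n14062 := rfl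
theorem F24564 : act 3 n14062 = n11038 := d2_2 (iv F19538) D14062 (iv D11038)
def n14063 : Q := act 2 n11036
theorem D14063 : act 2 n11036 = n14063 := rfl
def n14064 : Q := act 6 n11036
theorem D14064 : act 6 n11036 = n14064 := rfl
theorem F24565 : act 3 n14064 = n11040 := d17_1 D14064 (iv D11040) (iv F19538)
def n14065 : Q := act 1 n11037
theorem D14065 : act 1 n11037 = n14065 := rfl
theorem F24566 : act 3 n14065 = n11041 := d7_2 (iv F19540) D14065 (iv D11041)
def n14066 : Q := act 1 n11038
theorem D14066 : act 1 n11038 = n14066 := rfl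
def n14067 : Q := act 2 n11038
theorem D14067 : act 2 n11038 = n14067 := rfl
theorem F24567 : act 0 n14067 = n11039 := d1_1 D14067 (iv D11039) D11038
def n14068 : Q := act 6 n11038
theorem D14068 : act 6 n11038 = n14068 := rfl
theorem F24568 : act 0 n14068 = n11040 := d5_1 D14068 (iv D11040) D11038
theorem F24569 : act 5 n14068 = n13969 := d22_2 F24459 D14068 (iv D13969) D13967
def n14069 : Q := act 3 n11039
theorem D14069 : act 3 n11039 = n14069 := rfl
theorem F24570 : act 1 n14069 = n11043 := d7_1 D14069 (iv D11043) (iv F19542)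
def n14070 : Q := act 6 n11039
theorem D14070 : act 6 n11039 = n14070 := rfl
theorem F24571 : act 2 n14070 = n11040 := d14_1 D14070 (iv D11040) D11039
def n14071 : Q := act 1 n11040
theorem D14071 : act 1 n11040 = n14071 := rfl
theorem F24572 : act 6 n14071 = n11041 := d10_2 D11040 D14071 (iv D11041) (iv D8256) D8255
theorem F24573 : act 2 n14035 = n14071 := d14_3 F24572 F19543 D14035
def n14072 : Q := act 5 n11040
theorem D14072 : act 5 n11040 = n14072 := rfl
theorem F24574 : act 0 n14072 = n13969 := d4_1 D14072 (iv F24569) F24568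
theorem F24575 : act 6 n14072 = n13967 := d20_2 D11040 D14072 F24459 D14068 F24569 (iv D13969) F19484
def n14073 : Q := act 0 n11041
theorem D14073 : act 0 n11041 = n14073 := rfl
theorem F24576 : act 2 n14073 = n14032 := d1_2 (iv F19543) D14073 (iv D14032)
def n14074 : Q := act 5 n11041
theorem D14074 : act 5 n11041 = n14074 := rfl
theorem F24577 : act 1 n14074 = n13606 := d9_1 D14074 (iv D13606) (iv D10797) (iv F12263) D11041
theorem F24578 : act 2 n14074 = n14034 := d13_1 D14074 (iv D14034) (iv F19543)
def n14075 : Q := act 1 n11042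
theorem D14075 : act 1 n11042 = n14075 := rfl
theorem F24579 : act 2 n14075 = n14028 := d6_2 D11042 D14075 (iv D14028) (iv D11019) F16079
def n14076 : Q := act 3 n11042
theorem D14076 : act 3 n11042 = n14076 := rfl
theorem F24580 : act 0 n14076 = n11043 := d2_1 D14076 (iv D11043) (iv F19544)
theorem F24581 : act 5 n14076 = n11045 := d16_2 (iv F19545) D14076 (iv D11045)
theorem F24582 : act 6 n14076 = n11043 := d17_2 (iv F19546) D14076 (iv D11043)
def n14077 : Q := act 2 n11043
theorem D14077 : act 2 n11043 = n14077 := rfl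
theorem F24583 : act 5 n14077 = n11046 := d13_2 (iv F19547) D14077 (iv D11046)
def n14078 : Q := act 4 n11043
theorem D14078 : act 4 n11043 = n14078 := rfl
theorem F24584 : act 5 n14078 = n11047 := d18_2 (iv F19547) D14078 (iv D11047)
def n14079 : Q := act 0 n11044
theorem D14079 : act 0 n11044 = n14079 := rfl
theorem F24585 : act 2 n14079 = n14026 := d1_2 (iv F19548) D14079 (iv D14026)
def n14080 : Q := act 3 n11044
theorem D14080 : act 3 n11044 = n14080 := rfl
theorem F24586 : act 1 n14080 = n11045 := d7_1 D14080 (iv D11045) D11044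
def n14081 : Q := act 5 n11044
theorem D14081 : act 5 n11044 = n14081 := rfl
theorem F24587 : act 2 n14081 = n14024 := d13_1 D14081 F24522 (iv F19548)
def n14082 : Q := act 6 n11044
theorem D14082 : act 6 n11044 = n14082 := rfl
theorem F24588 : act 1 n14082 = n14082 := d10_1 D14082 (iv D14082) (iv D11044) F16223 D11044
theorem F24589 : act 2 n14082 = n14027 := d14_1 D14082 (iv D14027) (iv F19548)
def n14083 : Q := act 4 n11045
theorem D14083 : act 4 n11045 = n14083 := rfl
theorem F24590 : act 0 n14083 = n11047 := d3_1 D14083 (iv D11047) (iv F19549)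
theorem F24591 : act 6 n14083 = n14083 := d19_2 F19550 D14083 (iv D14083)
def n14084 : Q := act 1 n11046
theorem D14084 : act 1 n11046 = n14084 := rfl
def n14085 : Q := act 4 n11046
theorem D14085 : act 4 n11046 = n14085 := rfl
theorem F24592 : act 2 n14085 = n11047 := d12_1 D14085 (iv D11047) D11046
theorem F24593 : act 6 n14085 = n14085 := d19_2 F19551 D14085 (iv D14085)
def n14086 : Q := act 0 n11048
theorem D14086 : act 0 n11048 = n14086 := rfl
theorem F24594 : act 2 n14086 = n14086 := d1_2 F19553 D14086 (iv D14086)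
theorem F24595 : act 3 n14086 = n14006 := d2_2 (iv F19554) D14086 (iv D14006)
def n14087 : Q := act 4 n11048
theorem D14087 : act 4 n11048 = n14087 := rfl
theorem F24596 : act 1 n14087 = n11049 := d8_1 D14087 (iv D11049) D11048
theorem F24597 : act 2 n14087 = n14087 := d12_1 D14087 (iv D14087) F19553
def n14088 : Q := act 5 n11048
theorem D14088 : act 5 n11048 = n14088 := rfl
theorem F24598 : act 2 n14088 = n14088 := d13_1 D14088 (iv D14088) F19553
theorem F24599 : act 3 n14088 = n14008 := d16_1 D14088 (iv D14008) (iv F19554)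
def n14089 : Q := act 6 n11048
theorem D14089 : act 6 n11048 = n14089 := rfl
theorem F24600 : act 2 n14089 = n14089 := d14_1 D14089 (iv D14089) F19553
theorem F24601 : act 3 n14089 = n14009 := d17_1 D14089 (iv D14009) (iv F19554)
def n14090 : Q := act 3 n11049
theorem D14090 : act 3 n11049 = n14090 := rfl
theorem F24602 : act 0 n14090 = n11057 := d2_1 D14090 (iv D11057) (iv F19555)
theorem F24603 : act 4 n14090 = n14010 := d15_2 D11049 D14090 (iv D14010) (iv D11010) (iv F12297)
theorem F24604 : act 2 n14090 = n13629 := d21_2 (iv F19556) D14090 (iv D13629) F19176 F11557 (iv F14729) (iv F6027) (iv F12298)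
def n14091 : Q := act 1 n11050
theorem D14091 : act 1 n11050 = n14091 := rfl
def n14092 : Q := act 3 n11050
theorem D14092 : act 3 n11050 = n14092 := rfl
theorem F24605 : act 0 n14092 = n11051 := d2_1 D14092 (iv D11051) D11050
def n14093 : Q := act 4 n11050
theorem D14093 : act 4 n11050 = n14093 := rfl
theorem F24606 : act 0 n14093 = n11052 := d3_1 D14093 (iv D11052) D11050
theorem F24607 : act 2 n14093 = n11137 := d12_1 D14093 (iv D11137) (iv F19557)
def n14094 : Q := act 5 n11050
theorem D14094 : act 5 n11050 = n14094 := rfl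
theorem F24608 : act 0 n14094 = n11053 := d4_1 D14094 (iv D11053) D11050
theorem F24609 : act 2 n14094 = n11138 := d13_1 D14094 (iv D11138) (iv F19557)
def n14095 : Q := act 6 n11050
theorem D14095 : act 6 n11050 = n14095 := rfl
theorem F24610 : act 0 n14095 = n11054 := d5_1 D14095 (iv D11054) D11050
theorem F24611 : act 2 n14095 = n11139 := d14_1 D14095 (iv D11139) (iv F19557)
def n14096 : Q := act 2 n11051
theorem D14096 : act 2 n11051 = n14096 := rfl
theorem F24612 : act 1 n14096 = n14000 := d6_1 D14096 (iv D14000) F19508 (iv F12310) (iv F19558)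
def n14097 : Q := act 4 n11051
theorem D14097 : act 4 n11051 = n14097 := rfl
theorem F24613 : act 1 n14097 = n11055 := d8_1 D14097 (iv D11055) (iv F19558)
def n14098 : Q := act 5 n11051
theorem D14098 : act 5 n11051 = n14098 := rfl
theorem F24614 : act 3 n14098 = n11053 := d16_1 D14098 (iv D11053) D11051
def n14099 : Q := act 6 n11051
theorem D14099 : act 6 n11051 = n14099 := rfl
theorem F24615 : act 3 n14099 = n11054 := d17_1 D14099 (iv D11054) D11051
def n14100 : Q := act 3 n11052
theorem D14100 : act 3 n11052 = n14100 := rfl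
theorem F24616 : act 1 n14100 = n11057 := d7_1 D14100 (iv D11057) (iv F19559)
def n14101 : Q := act 5 n11052
theorem D14101 : act 5 n11052 = n14101 := rfl
theorem F24617 : act 2 n14101 = n11141 := d13_1 D14101 (iv D11141) (iv F19560)
theorem F24618 : act 4 n14101 = n11053 := d18_1 D14101 (iv D11053) D11052
def n14102 : Q := act 6 n11052
theorem D14102 : act 6 n11052 = n14102 := rfl
theorem F24619 : act 2 n14102 = n11142 := d14_1 D14102 (iv D11142) (iv F19560)
theorem F24620 : act 4 n14102 = n11054 := d19_1 D14102 (iv D11054) D11052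
def n14103 : Q := act 6 n11053
theorem D14103 : act 6 n11053 = n14103 := rfl
theorem F24621 : act 2 n14103 = n11143 := d14_1 D14103 (iv D11143) (iv F19561)
theorem F24622 : act 5 n14103 = n14095 := d22_2 D11053 D14103 (iv D14095) (iv D11050)
def n14104 : Q := act 1 n11054
theorem D14104 : act 1 n11054 = n14104 := rfl
theorem F24623 : act 6 n14104 = n11059 := d10_2 D11054 D14104 (iv D11059) (iv D8285) D8282
def n14105 : Q := act 5 n11054
theorem D14105 : act 5 n11054 = n14105 := rfl
theorem F24624 : act 0 n14105 = n14103 := d4_1 D14105 F24622 F24610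
theorem F24625 : act 2 n14105 = n11145 := d13_1 D14105 (iv D11145) (iv F19562)
theorem F24626 : act 6 n14105 = n14094 := d20_2 D11054 D14105 (iv D14094) D14095 (iv F24622) (iv D14103) (iv D11053)
def n14106 : Q := act 3 n11055
theorem D14106 : act 3 n11055 = n14106 := rfl
theorem F24627 : act 0 n14106 = n14010 := d2_1 D14106 (iv D14010) (iv F19563)
theorem F24628 : act 4 n14106 = n11057 := d15_2 D11055 D14106 (iv D11057) (iv D8284) D8283
def n14107 : Q := act 6 n11055
theorem D14107 : act 6 n11055 = n14107 := rfl
theorem F24629 : act 0 n14107 = n14011 := d5_1 D14107 (iv D14011) (iv F19563)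
theorem F24630 : act 2 n14107 = n13616 := d14_1 D14107 F23881 (iv F19564)
theorem F24631 : act 4 n14107 = n11056 := d19_1 D14107 (iv D11056) D11055
def n14108 : Q := act 1 n11056
theorem D14108 : act 1 n11056 = n14108 := rfl
theorem F24632 : act 3 n14108 = n11059 := d7_2 (iv F19567) D14108 (iv D11059)
def n14109 : Q := act 2 n11057
theorem D14109 : act 2 n11057 = n14109 := rfl
theorem F24633 : act 0 n14109 = n13629 := d1_1 D14109 (iv F24604) F24602
theorem F24634 : act 3 n14109 = n13621 := d11_2 D11057 D14109 F23893 F19170 F14728 (iv F12299) (iv F19556) D14090 F24604 (iv D13629) F19176 F11557 (iv F14729) (iv F6027) (iv F12311)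
def n14110 : Q := act 6 n11057
theorem D14110 : act 6 n11057 = n14110 := rfl
theorem F24636 : act 3 n14110 = n11058 := d17_1 D14110 (iv D11058) D11057
def n14111 : Q := act 1 n11058
theorem D14111 : act 1 n11058 = n14111 := rfl
theorem F24637 : act 4 n14111 = n11059 := d8_2 (iv F19569) D14111 (iv D11059)
def n14112 : Q := act 5 n11058
theorem D14112 : act 5 n11058 = n14112 := rfl
theorem F24639 : act 2 n14112 = n11062 := d13_1 D14112 (iv D11062) (iv F19568)
theorem F24640 : act 4 n14112 = n11060 := d18_1 D14112 (iv D11060) (iv F19569)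
theorem F24641 : act 6 n14112 = n13621 := d20_2 D11058 D14112 F23894 (iv F23951) F23950 (iv D13630) F19177
def n14113 : Q := act 0 n11059
theorem D14113 : act 0 n11059 = n14113 := rfl
def n14114 : Q := act 2 n11059
theorem D14114 : act 2 n11059 = n14114 := rfl
theorem F24642 : act 1 n14114 = n11064 := d6_1 D14114 (iv D11064) (iv D8287) (iv F12312) D11059
def n14115 : Q := act 5 n11059
theorem D14115 : act 5 n11059 = n14115 := rfl
def n14116 : Q := act 1 n11060
theorem D14116 : act 1 n11060 = n14116 := rfl
def n14117 : Q := act 0 n11061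
theorem D14117 : act 0 n11061 = n14117 := rfl
theorem F24644 : act 4 n14117 = n11063 := d3_2 (iv F19574) D14117 (iv D11063)
theorem F24645 : act 6 n14117 = n11151 := d5_2 (iv F19575) D14117 (iv D11151)
def n14118 : Q := act 2 n11061
theorem D14118 : act 2 n11061 = n14118 := rfl
theorem F24647 : act 4 n14118 = n11064 := d12_2 (iv F19574) D14118 (iv D11064)
theorem F24648 : act 6 n14118 = n11152 := d14_2 (iv F19575) D14118 (iv D11152)
def n14120 : Q := act 1 n11062
theorem D14120 : act 1 n11062 = n14120 := rfl
theorem F24652 : act 0 n14120 = n12982 := d0_1 D14120 (iv D12982) (iv D10429) (iv D6007) (iv F9103) D10411 (iv F22437) F22438 (iv F19576)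
def n14121 : Q := act 2 n11063
theorem D14121 : act 2 n11063 = n14121 := rfl
theorem F24655 : act 0 n14121 = n11064 := d1_1 D14121 (iv D11064) D11063
theorem F24656 : act 5 n14121 = n11919 := d13_2 (iv F19582) D14121 (iv D11919)
theorem F24657 : act 6 n14121 = n11154 := d14_2 (iv F19581) D14121 (iv D11154)
def n14122 : Q := act 3 n11064
theorem D14122 : act 3 n11064 = n14122 := rfl
theorem F24658 : act 6 n14122 = n11156 := d17_2 (iv F19583) D14122 (iv D11156)
def n14123 : Q := act 5 n11064
theorem D14123 : act 5 n11064 = n14123 := rfl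
theorem F24659 : act 0 n14123 = n11919 := d4_1 D14123 (iv F24656) F24655
theorem F24660 : act 2 n14123 = n11065 := d13_1 D14123 (iv D11065) D11064
def n14124 : Q := act 2 n11066
theorem D14124 : act 2 n11066 = n14124 := rfl
theorem F24661 : act 0 n14124 = n12986 := d1_1 D14124 (iv D12986) (iv F19586)
def n14125 : Q := act 6 n11066
theorem D14125 : act 6 n11066 = n14125 := rfl
theorem F24662 : act 0 n14125 = n12912 := d5_1 D14125 F22651 (iv F19586)
theorem F24663 : act 1 n14125 = n13619 := d10_1 D14125 (iv D13619) F19160 (iv F12319) D11066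
def n14126 : Q := act 2 n11068
theorem D14126 : act 2 n11068 = n14126 := rfl
theorem F24665 : act 0 n14126 = n11069 := d1_1 D14126 (iv D11069) (iv F19591)
theorem F24666 : act 5 n14126 = n11069 := d13_2 (iv F19593) D14126 (iv D11069)
theorem F24667 : act 6 n14126 = n11073 := d14_2 (iv F19594) D14126 (iv D11073)
theorem F24668 : act 3 n14126 = n14030 := d21_1 D14126 (iv D14030) (iv D11020) (iv D8235) F5993 D3959 D8294 (iv F19591)
def n14128 : Q := act 1 n11069
theorem D14128 : act 1 n11069 = n14128 := rfl
def n14129 : Q := act 3 n11069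
theorem D14129 : act 3 n11069 = n14129 := rfl
theorem F24674 : act 0 n14129 = n14030 := d2_1 D14129 (iv F24668) F24665
theorem F24675 : act 2 n14129 = n14029 := d11_1 D14129 (iv D14029) (iv D11019) F12238 D8293 D11068 D14126 F24668 (iv D14030) (iv D11020) (iv D8235) F5993 D3959 D8294 D11069
theorem F24676 : act 5 n14129 = n14030 := d16_2 F24666 D14129 (iv F24668)
theorem F24677 : act 6 n14129 = n11076 := d17_2 (iv F19595) D14129 (iv D11076)
def n14131 : Q := act 2 n11071
theorem D14131 : act 2 n11071 = n14131 := rfl
theorem F24680 : act 6 n14131 = n13071 := d14_2 (iv F19599) D14131 (iv D13071)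
def n14134 : Q := act 1 n11073
theorem D14134 : act 1 n11073 = n14134 := rfl
theorem F24686 : act 3 n14134 = n14037 := d7_2 (iv F19604) D14134 (iv D14037)
def n14136 : Q := act 0 n11075
theorem D14136 : act 0 n11075 = n14136 := rfl
theorem F24690 : act 2 n14136 = n11158 := d1_2 (iv F19608) D14136 (iv D11158)
def n14137 : Q := act 3 n11075
theorem D14137 : act 3 n11075 = n14137 := rfl
theorem F24691 : act 1 n14137 = n11076 := d7_1 D14137 (iv D11076) D11075
def n14138 : Q := act 4 n11075
theorem D14138 : act 4 n11075 = n14138 := rfl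
theorem F24692 : act 1 n14138 = n11077 := d8_1 D14138 (iv D11077) D11075
theorem F24693 : act 2 n14138 = n11159 := d12_1 D14138 (iv D11159) (iv F19608)
def n14139 : Q := act 5 n11075
theorem D14139 : act 5 n11075 = n14139 := rfl
theorem F24694 : act 1 n14139 = n14139 := d9_1 D14139 (iv D14139) (iv D11075) F17455 D11075
theorem F24695 : act 2 n14139 = n11160 := d13_1 D14139 (iv D11160) (iv F19608)
def n14140 : Q := act 6 n11075
theorem D14140 : act 6 n11075 = n14140 := rfl
theorem F24696 : act 2 n14140 = n11161 := d14_1 D14140 (iv D11161) (iv F19608)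
def n14141 : Q := act 4 n11076
theorem D14141 : act 4 n11076 = n14141 := rfl
theorem F24697 : act 0 n14141 = n14038 := d3_1 D14141 (iv D14038) (iv F19609)
theorem F24698 : act 2 n14141 = n14036 := d12_1 D14141 (iv D14036) (iv F19610)
theorem F24699 : act 5 n14141 = n14141 := d18_2 F19611 D14141 (iv D14141)
def n14142 : Q := act 3 n11077
theorem D14142 : act 3 n11077 = n14142 := rfl
def n14143 : Q := act 0 n11078
theorem D14143 : act 0 n11078 = n14143 := rfl
theorem F24701 : act 2 n14143 = n14143 := d1_2 F19614 D14143 (iv D14143)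
theorem F24702 : act 3 n14143 = n14053 := d2_2 (iv F19615) D14143 (iv D14053)
def n14144 : Q := act 4 n11078
theorem D14144 : act 4 n11078 = n14144 := rfl
theorem F24703 : act 1 n14144 = n11079 := d8_1 D14144 (iv D11079) D11078
theorem F24704 : act 2 n14144 = n14144 := d12_1 D14144 (iv D14144) F19614
def n14145 : Q := act 5 n11078
theorem D14145 : act 5 n11078 = n14145 := rfl
theorem F24705 : act 2 n14145 = n14145 := d13_1 D14145 (iv D14145) F19614
theorem F24706 : act 3 n14145 = n14055 := d16_1 D14145 (iv D14055) (iv F19615)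
def n14146 : Q := act 6 n11078
theorem D14146 : act 6 n11078 = n14146 := rfl
theorem F24708 : act 3 n14146 = n14056 := d17_1 D14146 (iv D14056) (iv F19615)
def n14147 : Q := act 3 n11079
theorem D14147 : act 3 n11079 = n14147 := rfl
theorem F24709 : act 0 n14147 = n11087 := d2_1 D14147 (iv D11087) (iv F19616)
theorem F24710 : act 4 n14147 = n14057 := d15_2 D11079 D14147 (iv D14057) (iv D11033) (iv F12380)
theorem F24711 : act 2 n14147 = n13646 := d21_2 (iv F19617) D14147 (iv D13646) F19204 F11591 (iv F16516) (iv F6066) (iv F12381)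
def n14148 : Q := act 1 n11080
theorem D14148 : act 1 n11080 = n14148 := rfl
def n14149 : Q := act 3 n11080
theorem D14149 : act 3 n11080 = n14149 := rfl
theorem F24712 : act 0 n14149 = n11081 := d2_1 D14149 (iv D11081) D11080
def n14150 : Q := act 4 n11080
theorem D14150 : act 4 n11080 = n14150 := rfl
theorem F24713 : act 0 n14150 = n11082 := d3_1 D14150 (iv D11082) D11080
theorem F24714 : act 2 n14150 = n11164 := d12_1 D14150 (iv D11164) (iv F19618)
def n14151 : Q := act 5 n11080
theorem D14151 : act 5 n11080 = n14151 := rfl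
theorem F24715 : act 0 n14151 = n11083 := d4_1 D14151 (iv D11083) D11080
theorem F24716 : act 2 n14151 = n11165 := d13_1 D14151 (iv D11165) (iv F19618)
def n14152 : Q := act 6 n11080
theorem D14152 : act 6 n11080 = n14152 := rfl
theorem F24717 : act 0 n14152 = n11084 := d5_1 D14152 (iv D11084) D11080
theorem F24718 : act 2 n14152 = n11166 := d14_1 D14152 (iv D11166) (iv F19618)
def n14153 : Q := act 2 n11081
theorem D14153 : act 2 n11081 = n14153 := rfl
theorem F24719 : act 1 n14153 = n14047 := d6_1 D14153 (iv D14047) F19532 (iv F12391) (iv F19619)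
def n14154 : Q := act 4 n11081
theorem D14154 : act 4 n11081 = n14154 := rfl
theorem F24720 : act 1 n14154 = n11085 := d8_1 D14154 (iv D11085) (iv F19619)
def n14155 : Q := act 5 n11081
theorem D14155 : act 5 n11081 = n14155 := rfl
theorem F24721 : act 3 n14155 = n11083 := d16_1 D14155 (iv D11083) D11081
def n14156 : Q := act 6 n11081
theorem D14156 : act 6 n11081 = n14156 := rfl
theorem F24722 : act 3 n14156 = n11084 := d17_1 D14156 (iv D11084) D11081
def n14157 : Q := act 3 n11082
theorem D14157 : act 3 n11082 = n14157 := rfl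
theorem F24723 : act 1 n14157 = n11087 := d7_1 D14157 (iv D11087) (iv F19620)
def n14158 : Q := act 5 n11082
theorem D14158 : act 5 n11082 = n14158 := rfl
theorem F24724 : act 2 n14158 = n11168 := d13_1 D14158 (iv D11168) (iv F19621)
theorem F24725 : act 4 n14158 = n11083 := d18_1 D14158 (iv D11083) D11082
def n14159 : Q := act 6 n11082
theorem D14159 : act 6 n11082 = n14159 := rfl
theorem F24726 : act 2 n14159 = n11169 := d14_1 D14159 (iv D11169) (iv F19621)
theorem F24727 : act 4 n14159 = n11084 := d19_1 D14159 (iv D11084) D11082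
def n14160 : Q := act 1 n11083
theorem D14160 : act 1 n11083 = n14160 := rfl
theorem F24728 : act 5 n14160 = n11089 := d9_2 D11083 D14160 (iv D11089) (iv D8328) D8325
def n14161 : Q := act 6 n11083
theorem D14161 : act 6 n11083 = n14161 := rfl
theorem F24729 : act 2 n14161 = n11171 := d14_1 D14161 (iv D11171) (iv F19622)
theorem F24730 : act 5 n14161 = n14152 := d22_2 D11083 D14161 (iv D14152) (iv D11080)
def n14162 : Q := act 5 n11084
theorem D14162 : act 5 n11084 = n14162 := rfl
theorem F24731 : act 0 n14162 = n14161 := d4_1 D14162 F24730 F24717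
theorem F24732 : act 2 n14162 = n11172 := d13_1 D14162 (iv D11172) (iv F19623)
theorem F24733 : act 6 n14162 = n14151 := d20_2 D11084 D14162 (iv D14151) D14152 (iv F24730) (iv D14161) (iv D11083)
def n14163 : Q := act 3 n11085
theorem D14163 : act 3 n11085 = n14163 := rfl
theorem F24734 : act 0 n14163 = n14057 := d2_1 D14163 (iv D14057) (iv F19624)
theorem F24735 : act 4 n14163 = n11087 := d15_2 D11085 D14163 (iv D11087) (iv D8327) D8326
def n14164 : Q := act 5 n11085
theorem D14164 : act 5 n11085 = n14164 := rfl
theorem F24736 : act 0 n14164 = n14058 := d4_1 D14164 (iv D14058) (iv F19624)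
theorem F24737 : act 2 n14164 = n13603 := d13_1 D14164 F23860 (iv F19625)
theorem F24738 : act 4 n14164 = n11086 := d18_1 D14164 (iv D11086) D11085
def n14165 : Q := act 1 n11086
theorem D14165 : act 1 n11086 = n14165 := rfl
theorem F24739 : act 3 n14165 = n11089 := d7_2 (iv F19628) D14165 (iv D11089)
def n14166 : Q := act 2 n11087
theorem D14166 : act 2 n11087 = n14166 := rfl
theorem F24740 : act 0 n14166 = n13646 := d1_1 D14166 (iv F24711) F24709
theorem F24741 : act 3 n14166 = n13638 := d11_2 D11087 D14166 F23927 F19198 F16515 (iv F12382) (iv F19617) D14147 F24711 (iv D13646) F19204 F11591 (iv F16516) (iv F6066) (iv F12392)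
theorem F24742 : act 6 n14166 = n14147 := d14_2 F23943 D14166 F24711
def n14167 : Q := act 5 n11087
theorem D14167 : act 5 n11087 = n14167 := rfl
theorem F24743 : act 3 n14167 = n11088 := d16_1 D14167 (iv D11088) D11087
def n14168 : Q := act 1 n11088
theorem D14168 : act 1 n11088 = n14168 := rfl
theorem F24744 : act 4 n14168 = n11089 := d8_2 (iv F19630) D14168 (iv D11089)
def n14169 : Q := act 6 n11088
theorem D14169 : act 6 n11088 = n14169 := rfl
theorem F24746 : act 2 n14169 = n11092 := d14_1 D14169 (iv D11092) (iv F19629)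
theorem F24747 : act 4 n14169 = n11090 := d19_1 D14169 (iv D11090) (iv F19630)
theorem F24748 : act 5 n14169 = n13638 := d20_1 D14169 F23928 (iv F23915) (iv F23946) (iv D13647) F19205 D11088
def n14170 : Q := act 0 n11089
theorem D14170 : act 0 n11089 = n14170 := rfl
def n14171 : Q := act 2 n11089
theorem D14171 : act 2 n11089 = n14171 := rfl
theorem F24749 : act 1 n14171 = n11094 := d6_1 D14171 (iv D11094) (iv D8330) (iv F12393) D11089
def n14172 : Q := act 6 n11089
theorem D14172 : act 6 n11089 = n14172 := rfl
def n14173 : Q := act 1 n11090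
theorem D14173 : act 1 n11090 = n14173 := rfl
def n14174 : Q := act 0 n11091
theorem D14174 : act 0 n11091 = n14174 := rfl
theorem F24751 : act 4 n14174 = n11093 := d3_2 (iv F19635) D14174 (iv D11093)
theorem F24752 : act 5 n14174 = n11178 := d4_2 (iv F19636) D14174 (iv D11178)
def n14175 : Q := act 2 n11091
theorem D14175 : act 2 n11091 = n14175 := rfl
theorem F24754 : act 4 n14175 = n11094 := d12_2 (iv F19635) D14175 (iv D11094)
theorem F24755 : act 5 n14175 = n11179 := d13_2 (iv F19636) D14175 (iv D11179)
def n14178 : Q := act 2 n11093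
theorem D14178 : act 2 n11093 = n14178 := rfl
theorem F24762 : act 0 n14178 = n11094 := d1_1 D14178 (iv D11094) D11093
theorem F24763 : act 5 n14178 = n11181 := d13_2 (iv F19642) D14178 (iv D11181)
theorem F24764 : act 6 n14178 = n11980 := d14_2 F19643 D14178 (iv D11980)
def n14179 : Q := act 3 n11094
theorem D14179 : act 3 n11094 = n14179 := rfl
theorem F24765 : act 5 n14179 = n11183 := d16_2 (iv F19644) D14179 (iv D11183)
def n14180 : Q := act 6 n11094
theorem D14180 : act 6 n11094 = n14180 := rfl
theorem F24766 : act 0 n14180 = n11980 := d5_1 D14180 (iv F24764) F24762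
def n14181 : Q := act 2 n11096
theorem D14181 : act 2 n11096 = n14181 := rfl
theorem F24768 : act 0 n14181 = n13071 := d1_1 D14181 (iv D13071) (iv F19647)
def n14182 : Q := act 5 n11096
theorem D14182 : act 5 n11096 = n14182 := rfl
theorem F24770 : act 1 n14182 = n13636 := d9_1 D14182 (iv D13636) F19188 (iv F12400) D11096
def n14183 : Q := act 2 n11098
theorem D14183 : act 2 n11098 = n14183 := rfl
theorem F24773 : act 0 n14183 = n11099 := d1_1 D14183 (iv D11099) (iv F19654)
theorem F24774 : act 5 n14183 = n11103 := d13_2 (iv F19656) D14183 (iv D11103)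
theorem F24775 : act 6 n14183 = n11099 := d14_2 (iv F19657) D14183 (iv D11099)
theorem F24776 : act 3 n14183 = n14077 := d21_1 D14183 (iv D14077) (iv D11043) (iv D8258) F6007 D3982 D8337 (iv F19654)
def n14185 : Q := act 1 n11099
theorem D14185 : act 1 n11099 = n14185 := rfl
def n14186 : Q := act 3 n11099
theorem D14186 : act 3 n11099 = n14186 := rfl
theorem F24782 : act 0 n14186 = n14077 := d2_1 D14186 (iv F24776) F24773
theorem F24783 : act 2 n14186 = n14076 := d11_1 D14186 (iv D14076) (iv D11042) F12264 D8336 D11098 D14183 F24776 (iv D14077) (iv D11043) (iv D8258) F6007 D3982 D8337 D11099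
theorem F24784 : act 5 n14186 = n11106 := d16_2 (iv F19658) D14186 (iv D11106)
theorem F24785 : act 6 n14186 = n14077 := d17_2 F24775 D14186 (iv F24776)
def n14187 : Q := act 4 n11099
theorem D14187 : act 4 n11099 = n14187 := rfl
theorem F24787 : act 5 n14187 = n11107 := d18_2 (iv F19658) D14187 (iv D11107)
def n14188 : Q := act 2 n11101
theorem D14188 : act 2 n11101 = n14188 := rfl
theorem F24788 : act 5 n14188 = n12986 := d13_2 (iv F19662) D14188 (iv D12986)
def n14190 : Q := act 6 n11101
theorem D14190 : act 6 n11101 = n14190 := rfl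
theorem F24794 : act 5 n14190 = n14125 := d22_2 (iv F19662) D14190 (iv D14125) F19586
def n14191 : Q := act 1 n11103
theorem D14191 : act 1 n11103 = n14191 := rfl
theorem F24795 : act 3 n14191 = n14084 := d7_2 (iv F19669) D14191 (iv D14084)
def n14192 : Q := act 4 n11103
theorem D14192 : act 4 n11103 = n14192 := rfl
theorem F24796 : act 0 n14192 = n11107 := d3_1 D14192 (iv D11107) (iv F19667)
theorem F24797 : act 2 n14192 = n11104 := d12_1 D14192 (iv D11104) D11103
def n14193 : Q := act 0 n11105
theorem D14193 : act 0 n11105 = n14193 := rfl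
theorem F24799 : act 2 n14193 = n11185 := d1_2 (iv F19673) D14193 (iv D11185)
def n14194 : Q := act 3 n11105
theorem D14194 : act 3 n11105 = n14194 := rfl
theorem F24800 : act 1 n14194 = n11106 := d7_1 D14194 (iv D11106) D11105
def n14195 : Q := act 4 n11105
theorem D14195 : act 4 n11105 = n14195 := rfl
theorem F24801 : act 1 n14195 = n11107 := d8_1 D14195 (iv D11107) D11105
theorem F24802 : act 2 n14195 = n11186 := d12_1 D14195 (iv D11186) (iv F19673)
def n14196 : Q := act 5 n11105
theorem D14196 : act 5 n11105 = n14196 := rfl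
theorem F24803 : act 2 n14196 = n11187 := d13_1 D14196 (iv D11187) (iv F19673)
def n14197 : Q := act 6 n11105
theorem D14197 : act 6 n11105 = n14197 := rfl
theorem F24804 : act 1 n14197 = n14197 := d10_1 D14197 (iv D14197) (iv D11105) F16314 D11105
theorem F24805 : act 2 n14197 = n11188 := d14_1 D14197 (iv D11188) (iv F19673)
def n14198 : Q := act 4 n11106
theorem D14198 : act 4 n11106 = n14198 := rfl
theorem F24806 : act 0 n14198 = n14085 := d3_1 D14198 (iv D14085) (iv F19674)
theorem F24807 : act 2 n14198 = n14083 := d12_1 D14198 (iv D14083) (iv F19675)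
theorem F24808 : act 6 n14198 = n14198 := d19_2 F19676 D14198 (iv D14198)
def n14199 : Q := act 3 n11107
theorem D14199 : act 3 n11107 = n14199 := rfl
def n14226 : Q := act 0 n11136
theorem D14226 : act 0 n11136 = n14226 := rfl
def n14227 : Q := act 2 n11136
theorem D14227 : act 2 n11136 = n14227 := rfl
def n14228 : Q := act 4 n11136
theorem D14228 : act 4 n11136 = n14228 := rfl
theorem F24874 : act 1 n14228 = n11137 := d8_1 D14228 (iv D11137) D11136
def n14229 : Q := act 5 n11136
theorem D14229 : act 5 n11136 = n14229 := rfl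
def n14230 : Q := act 6 n11136
theorem D14230 : act 6 n11136 = n14230 := rfl
def n14231 : Q := act 3 n11137
theorem D14231 : act 3 n11137 = n14231 := rfl
theorem F24875 : act 0 n14231 = n11140 := d2_1 D14231 (iv D11140) (iv F19754)
def n14232 : Q := act 5 n11137
theorem D14232 : act 5 n11137 = n14232 := rfl
theorem F24876 : act 0 n14232 = n11141 := d4_1 D14232 (iv D11141) (iv F19754)
theorem F24877 : act 4 n14232 = n11138 := d18_1 D14232 (iv D11138) D11137
def n14233 : Q := act 6 n11137
theorem D14233 : act 6 n11137 = n14233 := rfl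
theorem F24878 : act 0 n14233 = n11142 := d5_1 D14233 (iv D11142) (iv F19754)
theorem F24879 : act 4 n14233 = n11139 := d19_1 D14233 (iv D11139) D11137
def n14234 : Q := act 1 n11138
theorem D14234 : act 1 n11138 = n14234 := rfl
def n14235 : Q := act 1 n11139
theorem D14235 : act 1 n11139 = n14235 := rfl
def n14236 : Q := act 2 n11140
theorem D14236 : act 2 n11140 = n14236 := rfl
def n14237 : Q := act 5 n11140
theorem D14237 : act 5 n11140 = n14237 := rfl
theorem F24880 : act 1 n14237 = n11887 := d9_1 D14237 (iv D11887) F17538 (iv F12712) (iv F19757)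
theorem F24881 : act 3 n14237 = n11141 := d16_1 D14237 (iv D11141) D11140
def n14238 : Q := act 6 n11140
theorem D14238 : act 6 n11140 = n14238 := rfl
theorem F24882 : act 3 n14238 = n11142 := d17_1 D14238 (iv D11142) D11140
def n14239 : Q := act 6 n11141
theorem D14239 : act 6 n11141 = n14239 := rfl
theorem F24883 : act 4 n14239 = n11143 := d19_1 D14239 (iv D11143) (iv F19759)
theorem F24884 : act 5 n14239 = n14233 := d22_2 D11141 D14239 (iv D14233) F19754
def n14240 : Q := act 1 n11142
theorem D14240 : act 1 n11142 = n14240 := rfl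
theorem F24885 : act 4 n14240 = n11144 := d8_2 (iv F19760) D14240 (iv D11144)
theorem F24886 : act 6 n14240 = n11147 := d10_2 D11142 D14240 (iv D11147) (iv D8523) (iv F12710)
def n14241 : Q := act 5 n11142
theorem D14241 : act 5 n11142 = n14241 := rfl
theorem F24887 : act 0 n14241 = n14239 := d4_1 D14241 F24884 F24878
theorem F24888 : act 4 n14241 = n11145 := d18_1 D14241 (iv D11145) (iv F19760)
theorem F24889 : act 6 n14241 = n14232 := d20_2 D11142 D14241 (iv D14232) D14233 (iv F24884) (iv D14239) (iv D11141)
def n14242 : Q := act 1 n11143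
theorem D14242 : act 1 n11143 = n14242 := rfl
theorem F24890 : act 6 n14242 = n11892 := d10_2 D11143 D14242 (iv D11892) (iv D9863) (iv F12711)
def n14243 : Q := act 0 n11144
theorem D14243 : act 0 n11144 = n14243 := rfl
theorem F24891 : act 6 n14243 = n11148 := d5_2 (iv F19762) D14243 (iv D11148)
def n14244 : Q := act 2 n11144
theorem D14244 : act 2 n11144 = n14244 := rfl
theorem F24892 : act 6 n14244 = n11149 := d14_2 (iv F19762) D14244 (iv D11149)
def n14245 : Q := act 5 n11144
theorem D14245 : act 5 n11144 = n14245 := rfl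
def n14246 : Q := act 1 n11145
theorem D14246 : act 1 n11145 = n14246 := rfl
def n14247 : Q := act 1 n11146
theorem D14247 : act 1 n11146 = n14247 := rfl
theorem F24893 : act 3 n14247 = n11147 := d7_2 (iv F19765) D14247 (iv D11147)
def n14248 : Q := act 0 n11147
theorem D14248 : act 0 n11147 = n14248 := rfl
theorem F24894 : act 4 n14248 = n11148 := d3_2 (iv F19766) D14248 (iv D11148)
def n14249 : Q := act 2 n11147
theorem D14249 : act 2 n11147 = n14249 := rfl
theorem F24895 : act 1 n14249 = n11152 := d6_1 D14249 (iv D11152) (iv D8525) (iv F12713) D11147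
theorem F24896 : act 4 n14249 = n11149 := d12_2 (iv F19766) D14249 (iv D11149)
def n14250 : Q := act 5 n11147
theorem D14250 : act 5 n11147 = n14250 := rfl
theorem F24897 : act 4 n14250 = n11150 := d18_1 D14250 (iv D11150) (iv F19766)
def n14251 : Q := act 1 n11148
theorem D14251 : act 1 n11148 = n14251 := rfl
def n14252 : Q := act 2 n11148
theorem D14252 : act 2 n11148 = n14252 := rfl
theorem F24898 : act 0 n14252 = n11149 := d1_1 D14252 (iv D11149) D11148
def n14253 : Q := act 5 n11148
theorem D14253 : act 5 n11148 = n14253 := rfl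
theorem F24899 : act 0 n14253 = n11150 := d4_1 D14253 (iv D11150) D11148
theorem F24900 : act 6 n14253 = n14245 := d22_1 D14253 (iv D14245) F19762 D11148
def n14254 : Q := act 3 n11149
theorem D14254 : act 3 n11149 = n14254 := rfl
theorem F24901 : act 1 n14254 = n11156 := d7_1 D14254 (iv D11156) (iv F19767)
def n14255 : Q := act 5 n11149
theorem D14255 : act 5 n11149 = n14255 := rfl
theorem F24902 : act 2 n14255 = n11150 := d13_1 D14255 (iv D11150) D11149
def n14256 : Q := act 6 n11150
theorem D14256 : act 6 n11150 = n14256 := rfl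
theorem F24903 : act 0 n14256 = n14245 := d5_1 D14256 (iv F24900) F24899
theorem F24904 : act 5 n14256 = n14243 := d20_1 D14256 F24891 D14253 F24900 (iv D14245) F19762 D11150
def n14257 : Q := act 2 n11151
theorem D14257 : act 2 n11151 = n14257 := rfl
theorem F24905 : act 0 n14257 = n11152 := d1_1 D14257 (iv D11152) D11151
theorem F24906 : act 4 n14257 = n11154 := d12_2 (iv F19769) D14257 (iv D11154)
def n14258 : Q := act 5 n11151
theorem D14258 : act 5 n11151 = n14258 := rfl
theorem F24907 : act 0 n14258 = n11153 := d4_1 D14258 (iv D11153) D11151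
theorem F24909 : act 4 n14258 = n11155 := d18_1 D14258 (iv D11155) (iv F19769)
theorem F24911 : act 1 n12884 = n14258 := d8_3 F24909 (iv F20838) (iv F22568)
def n14259 : Q := act 3 n11152
theorem D14259 : act 3 n11152 = n14259 := rfl
def n14260 : Q := act 5 n11152
theorem D14260 : act 5 n11152 = n14260 := rfl
theorem F24912 : act 2 n14260 = n11153 := d13_1 D14260 (iv D11153) D11152
def n14261 : Q := act 1 n11154
theorem D14261 : act 1 n11154 = n14261 := rfl
def n14262 : Q := act 3 n11154
theorem D14262 : act 3 n11154 = n14262 := rfl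
theorem F24914 : act 0 n14262 = n11156 := d2_1 D14262 (iv D11156) (iv F19774)
theorem F24915 : act 2 n14262 = n11183 := d21_2 D11154 D14262 (iv D11183) (iv D8554) F6235 F3139 (iv F6203) D8526
def n14264 : Q := act 2 n11156
theorem D14264 : act 2 n11156 = n14264 := rfl
theorem F24919 : act 0 n14264 = n11183 := d1_1 D14264 (iv F24915) F24914
theorem F24920 : act 3 n14264 = n11181 := d11_2 D11156 D14264 (iv D11181) F12761 F6236 (iv F12717) D11154 D14262 F24915 (iv D11183) (iv D8554) F6235 F3139 (iv F6203) D8527
def n14265 : Q := act 4 n11156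
theorem D14265 : act 4 n11156 = n14265 := rfl
def n14266 : Q := act 5 n11156
theorem D14266 : act 5 n11156 = n14266 := rfl
theorem F24921 : act 3 n14266 = n11157 := d16_1 D14266 (iv D11157) D11156
def n14267 : Q := act 1 n11157
theorem D14267 : act 1 n11157 = n14267 := rfl
theorem F24922 : act 2 n14267 = n14185 := d6_2 (iv F19778) D14267 (iv D14185) (iv D11099) (iv F12718)
def n14268 : Q := act 1 n11158
theorem D14268 : act 1 n11158 = n14268 := rfl
theorem F24923 : act 3 n14268 = n11965 := d7_2 (iv F19779) D14268 (iv D11965)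
def n14269 : Q := act 4 n11158
theorem D14269 : act 4 n11158 = n14269 := rfl
theorem F24924 : act 0 n14269 = n11159 := d3_1 D14269 (iv D11159) D11158
def n14270 : Q := act 5 n11158
theorem D14270 : act 5 n11158 = n14270 := rfl
theorem F24925 : act 0 n14270 = n11160 := d4_1 D14270 (iv D11160) D11158
theorem F24926 : act 3 n14270 = n11953 := d16_1 D14270 F21103 (iv F19779)
def n14271 : Q := act 6 n11158
theorem D14271 : act 6 n11158 = n14271 := rfl
theorem F24927 : act 0 n14271 = n11161 := d5_1 D14271 (iv D11161) D11158
theorem F24928 : act 3 n14271 = n11967 := d17_1 D14271 (iv D11967) (iv F19779)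
def n14272 : Q := act 3 n11159
theorem D14272 : act 3 n11159 = n14272 := rfl
theorem F24929 : act 1 n14272 = n11162 := d7_1 D14272 (iv D11162) (iv F19780)
theorem F24930 : act 4 n14272 = n11960 := d15_2 D11159 D14272 F21112 F17597 (iv F12725)
def n14273 : Q := act 5 n11159
theorem D14273 : act 5 n11159 = n14273 := rfl
theorem F24931 : act 1 n14273 = n11933 := d9_1 D14273 (iv D11933) F17573 (iv F12728) (iv F19780)
theorem F24932 : act 4 n14273 = n11160 := d18_1 D14273 (iv D11160) D11159
def n14274 : Q := act 6 n11159
theorem D14274 : act 6 n11159 = n14274 := rfl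
theorem F24933 : act 4 n14274 = n11161 := d19_1 D14274 (iv D11161) D11159
def n14275 : Q := act 6 n11160
theorem D14275 : act 6 n11160 = n14275 := rfl
theorem F24934 : act 3 n14275 = n11955 := d17_1 D14275 (iv D11955) (iv F19782)
theorem F24935 : act 5 n14275 = n14271 := d22_2 D11160 D14275 (iv D14271) (iv D11158)
def n14276 : Q := act 5 n11161
theorem D14276 : act 5 n11161 = n14276 := rfl
theorem F24936 : act 0 n14276 = n14275 := d4_1 D14276 F24935 F24927
theorem F24937 : act 3 n14276 = n11971 := d16_1 D14276 (iv D11971) (iv F19783)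
theorem F24938 : act 6 n14276 = n14270 := d20_2 D11161 D14276 (iv D14270) D14271 (iv F24935) (iv D14275) (iv D11160)
def n14277 : Q := act 0 n11163
theorem D14277 : act 0 n11163 = n14277 := rfl
def n14278 : Q := act 2 n11163
theorem D14278 : act 2 n11163 = n14278 := rfl
def n14279 : Q := act 4 n11163
theorem D14279 : act 4 n11163 = n14279 := rfl
theorem F24939 : act 1 n14279 = n11164 := d8_1 D14279 (iv D11164) D11163
def n14280 : Q := act 5 n11163
theorem D14280 : act 5 n11163 = n14280 := rfl
def n14281 : Q := act 6 n11163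
theorem D14281 : act 6 n11163 = n14281 := rfl
def n14282 : Q := act 3 n11164
theorem D14282 : act 3 n11164 = n14282 := rfl
theorem F24940 : act 0 n14282 = n11167 := d2_1 D14282 (iv D11167) (iv F19787)
def n14283 : Q := act 5 n11164
theorem D14283 : act 5 n11164 = n14283 := rfl
theorem F24941 : act 0 n14283 = n11168 := d4_1 D14283 (iv D11168) (iv F19787)
theorem F24942 : act 4 n14283 = n11165 := d18_1 D14283 (iv D11165) D11164
def n14284 : Q := act 6 n11164
theorem D14284 : act 6 n11164 = n14284 := rfl
theorem F24943 : act 0 n14284 = n11169 := d5_1 D14284 (iv D11169) (iv F19787)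
theorem F24944 : act 4 n14284 = n11166 := d19_1 D14284 (iv D11166) D11164
def n14285 : Q := act 1 n11165
theorem D14285 : act 1 n11165 = n14285 := rfl
def n14286 : Q := act 1 n11166
theorem D14286 : act 1 n11166 = n14286 := rfl
def n14287 : Q := act 2 n11167
theorem D14287 : act 2 n11167 = n14287 := rfl
def n14288 : Q := act 5 n11167
theorem D14288 : act 5 n11167 = n14288 := rfl
theorem F24945 : act 3 n14288 = n11168 := d16_1 D14288 (iv D11168) D11167
def n14289 : Q := act 6 n11167
theorem D14289 : act 6 n11167 = n14289 := rfl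
theorem F24947 : act 3 n14289 = n11169 := d17_1 D14289 (iv D11169) D11167
def n14290 : Q := act 1 n11168
theorem D14290 : act 1 n11168 = n14290 := rfl
theorem F24948 : act 4 n14290 = n11170 := d8_2 (iv F19791) D14290 (iv D11170)
theorem F24949 : act 5 n14290 = n11174 := d9_2 D11168 D14290 (iv D11174) (iv D8550) (iv F12753)
def n14291 : Q := act 6 n11168
theorem D14291 : act 6 n11168 = n14291 := rfl
theorem F24950 : act 4 n14291 = n11171 := d19_1 D14291 (iv D11171) (iv F19791)
theorem F24951 : act 5 n14291 = n14284 := d22_2 D11168 D14291 (iv D14284) F19787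
def n14292 : Q := act 5 n11169
theorem D14292 : act 5 n11169 = n14292 := rfl
theorem F24952 : act 0 n14292 = n14291 := d4_1 D14292 F24951 F24943
theorem F24953 : act 4 n14292 = n11172 := d18_1 D14292 (iv D11172) (iv F19793)
theorem F24954 : act 6 n14292 = n14283 := d20_2 D11169 D14292 (iv D14283) D14284 (iv F24951) (iv D14291) (iv D11168)
def n14293 : Q := act 0 n11170
theorem D14293 : act 0 n11170 = n14293 := rfl
theorem F24955 : act 5 n14293 = n11175 := d4_2 (iv F19794) D14293 (iv D11175)
def n14294 : Q := act 2 n11170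
theorem D14294 : act 2 n11170 = n14294 := rfl
theorem F24956 : act 5 n14294 = n11176 := d13_2 (iv F19794) D14294 (iv D11176)
def n14295 : Q := act 6 n11170
theorem D14295 : act 6 n11170 = n14295 := rfl
def n14296 : Q := act 1 n11171
theorem D14296 : act 1 n11171 = n14296 := rfl
def n14297 : Q := act 1 n11172
theorem D14297 : act 1 n11172 = n14297 := rfl
theorem F24957 : act 5 n14297 = n11957 := d9_2 D11172 D14297 (iv D11957) (iv D9898) (iv F12754)
def n14298 : Q := act 1 n11173
theorem D14298 : act 1 n11173 = n14298 := rfl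
theorem F24958 : act 3 n14298 = n11174 := d7_2 (iv F19799) D14298 (iv D11174)
def n14299 : Q := act 0 n11174
theorem D14299 : act 0 n11174 = n14299 := rfl
theorem F24959 : act 4 n14299 = n11175 := d3_2 (iv F19801) D14299 (iv D11175)
def n14300 : Q := act 2 n11174
theorem D14300 : act 2 n11174 = n14300 := rfl
theorem F24960 : act 1 n14300 = n11179 := d6_1 D14300 (iv D11179) (iv D8552) (iv F12756) D11174
theorem F24961 : act 4 n14300 = n11176 := d12_2 (iv F19801) D14300 (iv D11176)
def n14301 : Q := act 6 n11174
theorem D14301 : act 6 n11174 = n14301 := rfl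
theorem F24962 : act 1 n14301 = n14274 := d10_1 D14301 (iv D14274) F19780 (iv F12758) D11174
theorem F24963 : act 4 n14301 = n11177 := d19_1 D14301 (iv D11177) (iv F19801)
def n14302 : Q := act 1 n11175
theorem D14302 : act 1 n11175 = n14302 := rfl
def n14303 : Q := act 2 n11175
theorem D14303 : act 2 n11175 = n14303 := rfl
theorem F24964 : act 0 n14303 = n11176 := d1_1 D14303 (iv D11176) D11175
def n14304 : Q := act 6 n11175
theorem D14304 : act 6 n11175 = n14304 := rfl
theorem F24965 : act 0 n14304 = n11177 := d5_1 D14304 (iv D11177) D11175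
theorem F24966 : act 5 n14304 = n14295 := d22_2 F24955 D14304 (iv D14295) D14293
def n14305 : Q := act 3 n11176
theorem D14305 : act 3 n11176 = n14305 := rfl
theorem F24967 : act 1 n14305 = n11183 := d7_1 D14305 (iv D11183) (iv F19802)
def n14306 : Q := act 6 n11176
theorem D14306 : act 6 n11176 = n14306 := rfl
theorem F24968 : act 2 n14306 = n11177 := d14_1 D14306 (iv D11177) D11176
def n14307 : Q := act 5 n11177
theorem D14307 : act 5 n11177 = n14307 := rfl
theorem F24969 : act 0 n14307 = n14295 := d4_1 D14307 (iv F24966) F24965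
theorem F24970 : act 6 n14307 = n14293 := d20_2 D11177 D14307 F24955 D14304 F24966 (iv D14295) F19794
def n14308 : Q := act 2 n11178
theorem D14308 : act 2 n11178 = n14308 := rfl
theorem F24971 : act 0 n14308 = n11179 := d1_1 D14308 (iv D11179) D11178
theorem F24972 : act 4 n14308 = n11181 := d12_2 (iv F19805) D14308 (iv D11181)
def n14309 : Q := act 6 n11178
theorem D14309 : act 6 n11178 = n14309 := rfl
theorem F24974 : act 3 n14309 = n11192 := d17_1 D14309 (iv D11192) (iv F19804)
theorem F24975 : act 4 n14309 = n11182 := d19_1 D14309 (iv D11182) (iv F19805)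
def n14310 : Q := act 3 n11179
theorem D14310 : act 3 n11179 = n14310 := rfl
def n14312 : Q := act 1 n11181
theorem D14312 : act 1 n11181 = n14312 := rfl
def n14313 : Q := act 6 n11181
theorem D14313 : act 6 n11181 = n14313 := rfl
theorem F24981 : act 2 n14313 = n11182 := d14_1 D14313 (iv D11182) D11181
theorem F24982 : act 5 n14313 = n14180 := d20_1 D14313 (iv D14180) F19644 D11184 (iv F21141) (iv F24764) F24763
def n14314 : Q := act 4 n11183
theorem D14314 : act 4 n11183 = n14314 := rfl
def n14315 : Q := act 6 n11183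
theorem D14315 : act 6 n11183 = n14315 := rfl
theorem F24983 : act 3 n14315 = n11184 := d17_1 D14315 (iv D11184) D11183
def n14316 : Q := act 1 n11184
theorem D14316 : act 1 n11184 = n14316 := rfl
theorem F24984 : act 2 n14316 = n14128 := d6_2 (iv F19814) D14316 (iv D14128) (iv D11069) (iv F12762)
def n14317 : Q := act 1 n11185
theorem D14317 : act 1 n11185 = n14317 := rfl
theorem F24985 : act 3 n14317 = n11904 := d7_2 (iv F19815) D14317 (iv D11904)
def n14318 : Q := act 4 n11185
theorem D14318 : act 4 n11185 = n14318 := rfl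
theorem F24986 : act 0 n14318 = n11186 := d3_1 D14318 (iv D11186) D11185
def n14319 : Q := act 5 n11185
theorem D14319 : act 5 n11185 = n14319 := rfl
theorem F24987 : act 0 n14319 = n11187 := d4_1 D14319 (iv D11187) D11185
theorem F24988 : act 3 n14319 = n11906 := d16_1 D14319 (iv D11906) (iv F19815)
def n14320 : Q := act 6 n11185
theorem D14320 : act 6 n11185 = n14320 := rfl
theorem F24989 : act 0 n14320 = n11188 := d5_1 D14320 (iv D11188) D11185
theorem F24990 : act 3 n14320 = n11893 := d17_1 D14320 F21021 (iv F19815)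
def n14321 : Q := act 3 n11186
theorem D14321 : act 3 n11186 = n14321 := rfl
theorem F24991 : act 1 n14321 = n11189 := d7_1 D14321 (iv D11189) (iv F19816)
theorem F24992 : act 4 n14321 = n11899 := d15_2 D11186 D14321 F21030 F17550 (iv F12773)
def n14322 : Q := act 5 n11186
theorem D14322 : act 5 n11186 = n14322 := rfl
theorem F24993 : act 1 n14322 = n14250 := d9_1 D14322 (iv D14250) (iv D11147) (iv F12776) (iv F19816)
theorem F24994 : act 4 n14322 = n11187 := d18_1 D14322 (iv D11187) D11186
def n14323 : Q := act 6 n11186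
theorem D14323 : act 6 n11186 = n14323 := rfl
theorem F24995 : act 1 n14323 = n11873 := d10_1 D14323 (iv D11873) F17526 (iv F12777) (iv F19816)
theorem F24996 : act 4 n14323 = n11188 := d19_1 D14323 (iv D11188) D11186
def n14324 : Q := act 6 n11187
theorem D14324 : act 6 n11187 = n14324 := rfl
theorem F24997 : act 3 n14324 = n11910 := d17_1 D14324 (iv D11910) (iv F19818)
theorem F24998 : act 5 n14324 = n14320 := d22_2 D11187 D14324 (iv D14320) (iv D11185)
def n14325 : Q := act 5 n11188
theorem D14325 : act 5 n11188 = n14325 := rfl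
theorem F24999 : act 0 n14325 = n14324 := d4_1 D14325 F24998 F24989
theorem F25000 : act 3 n14325 = n11895 := d16_1 D14325 (iv D11895) (iv F19820)
theorem F25001 : act 6 n14325 = n14319 := d20_2 D11188 D14325 (iv D14319) D14320 (iv F24998) (iv D14324) (iv D11187)
def n14326 : Q := act 2 n11191
theorem D14326 : act 2 n11191 = n14326 := rfl
theorem F25002 : act 4 n14326 = n11980 := d12_2 (iv F19831) D14326 (iv D11980)
def n14327 : Q := act 2 n11193
theorem D14327 : act 2 n11193 = n14327 := rfl
theorem F25004 : act 4 n14327 = n11919 := d12_2 (iv F19839) D14327 (iv D11919)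
def n14328 : Q := act 5 n11194
theorem D14328 : act 5 n11194 = n14328 := rfl
theorem F25006 : act 0 n14328 = n11195 := d4_1 D14328 (iv D11195) D11194
theorem F25007 : act 2 n14328 = n11206 := d13_1 D14328 (iv D11206) (iv F19841)
theorem F25008 : act 3 n14328 = n13283 := d16_1 D14328 (iv D13283) (iv F19842)
theorem F25009 : act 4 n14328 = n11198 := d18_1 D14328 (iv D11198) (iv F19843)
def n14329 : Q := act 6 n11194
theorem D14329 : act 6 n11194 = n14329 := rfl
theorem F25010 : act 0 n14329 = n11196 := d5_1 D14329 (iv D11196) D11194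
theorem F25011 : act 2 n14329 = n11207 := d14_1 D14329 (iv D11207) (iv F19841)
theorem F25012 : act 3 n14329 = n13284 := d17_1 D14329 (iv D13284) (iv F19842)
theorem F25013 : act 4 n14329 = n11199 := d19_1 D14329 (iv D11199) (iv F19843)
def n14330 : Q := act 6 n11195
theorem D14330 : act 6 n11195 = n14330 := rfl
theorem F25014 : act 2 n14330 = n11211 := d14_1 D14330 (iv D11211) (iv F19846)
theorem F25015 : act 3 n14330 = n13285 := d17_1 D14330 (iv D13285) (iv F19847)
theorem F25016 : act 4 n14330 = n11203 := d19_1 D14330 (iv D11203) (iv F19848)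
theorem F25017 : act 5 n14330 = n14329 := d22_2 D11195 D14330 (iv D14329) (iv D11194)
def n14331 : Q := act 5 n11196
theorem D14331 : act 5 n11196 = n14331 := rfl
theorem F25018 : act 0 n14331 = n14330 := d4_1 D14331 F25017 F25010
theorem F25019 : act 2 n14331 = n11213 := d13_1 D14331 (iv D11213) (iv F19850)
theorem F25020 : act 3 n14331 = n13286 := d16_1 D14331 (iv D13286) (iv F19851)
theorem F25021 : act 4 n14331 = n11204 := d18_1 D14331 (iv D11204) (iv F19852)
theorem F25022 : act 6 n14331 = n14328 := d20_2 D11196 D14331 (iv D14328) D14329 (iv F25017) (iv D14330) (iv D11195)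
def n14332 : Q := act 5 n11197
theorem D14332 : act 5 n11197 = n14332 := rfl
theorem F25023 : act 0 n14332 = n11201 := d4_1 D14332 (iv D11201) (iv F19853)
theorem F25024 : act 3 n14332 = n11198 := d16_1 D14332 (iv D11198) D11197
theorem F25025 : act 4 n14332 = n13290 := d18_1 D14332 (iv D13290) (iv F19855)
def n14333 : Q := act 6 n11197
theorem D14333 : act 6 n11197 = n14333 := rfl
theorem F25026 : act 0 n14333 = n11202 := d5_1 D14333 (iv D11202) (iv F19853)
theorem F25027 : act 3 n14333 = n11199 := d17_1 D14333 (iv D11199) D11197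
theorem F25028 : act 4 n14333 = n13291 := d19_1 D14333 (iv D13291) (iv F19855)
def n14334 : Q := act 1 n11198
theorem D14334 : act 1 n11198 = n14334 := rfl
theorem F25029 : act 5 n14334 = n12348 := d9_2 D11198 D14334 (iv D12348) (iv D10098) F16051
def n14335 : Q := act 1 n11199
theorem D14335 : act 1 n11199 = n14335 := rfl
theorem F25030 : act 6 n14335 = n12349 := d10_2 D11199 D14335 (iv D12349) (iv D10099) F16051
def n14336 : Q := act 3 n11200
theorem D14336 : act 3 n11200 = n14336 := rfl
theorem F25031 : act 1 n14336 = n14336 := d7_1 D14336 (iv D14336) F19860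
def n14337 : Q := act 5 n11200
theorem D14337 : act 5 n11200 = n14337 := rfl
theorem F25032 : act 2 n14337 = n11201 := d13_1 D14337 (iv D11201) D11200
theorem F25033 : act 4 n14337 = n13294 := d18_1 D14337 (iv D13294) (iv F19861)
def n14338 : Q := act 6 n11200
theorem D14338 : act 6 n11200 = n14338 := rfl
theorem F25034 : act 2 n14338 = n11202 := d14_1 D14338 (iv D11202) D11200
theorem F25035 : act 4 n14338 = n13295 := d19_1 D14338 (iv D13295) (iv F19861)
def n14339 : Q := act 6 n11201
theorem D14339 : act 6 n11201 = n14339 := rfl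
theorem F25036 : act 3 n14339 = n11203 := d17_1 D14339 (iv D11203) (iv F19863)
theorem F25037 : act 4 n14339 = n13296 := d19_1 D14339 (iv D13296) (iv F19864)
theorem F25038 : act 5 n14339 = n14333 := d22_2 D11201 D14339 (iv D14333) F19853
def n14340 : Q := act 5 n11202
theorem D14340 : act 5 n11202 = n14340 := rfl
theorem F25039 : act 0 n14340 = n14339 := d4_1 D14340 F25038 F25026
theorem F25040 : act 3 n14340 = n11204 := d16_1 D14340 (iv D11204) (iv F19866)
theorem F25041 : act 4 n14340 = n13297 := d18_1 D14340 (iv D13297) (iv F19867)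
theorem F25042 : act 6 n14340 = n14332 := d20_2 D11202 D14340 (iv D14332) D14333 (iv F25038) (iv D14339) (iv D11201)
def n14341 : Q := act 1 n11203
theorem D14341 : act 1 n11203 = n14341 := rfl
theorem F25043 : act 6 n14341 = n14341 := d10_2 D11203 D14341 (iv D14341) (iv D11203) F16194
def n14342 : Q := act 1 n11204
theorem D14342 : act 1 n11204 = n14342 := rfl
theorem F25044 : act 5 n14342 = n14342 := d9_2 D11204 D14342 (iv D14342) (iv D11204) F17252
def n14343 : Q := act 5 n11205
theorem D14343 : act 5 n11205 = n14343 := rfl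
theorem F25045 : act 0 n14343 = n11208 := d4_1 D14343 (iv D11208) (iv F19873)
theorem F25046 : act 2 n14343 = n11490 := d13_1 D14343 (iv D11490) (iv F19874)
theorem F25047 : act 3 n14343 = n11206 := d16_1 D14343 (iv D11206) F19876
theorem F25048 : act 4 n14343 = n11223 := d18_1 D14343 (iv D11223) (iv F19875)
def n14344 : Q := act 6 n11205
theorem D14344 : act 6 n11205 = n14344 := rfl
theorem F25049 : act 0 n14344 = n11209 := d5_1 D14344 (iv D11209) (iv F19873)
theorem F25050 : act 2 n14344 = n11491 := d14_1 D14344 (iv D11491) (iv F19874)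
theorem F25051 : act 3 n14344 = n11207 := d17_1 D14344 (iv D11207) F19876
theorem F25052 : act 4 n14344 = n11224 := d19_1 D14344 (iv D11224) (iv F19875)
def n14345 : Q := act 1 n11206
theorem D14345 : act 1 n11206 = n14345 := rfl
theorem F25053 : act 4 n14345 = n11228 := d8_2 (iv F19878) D14345 (iv D11228)
def n14346 : Q := act 1 n11207
theorem D14346 : act 1 n11207 = n14346 := rfl
theorem F25054 : act 4 n14346 = n11229 := d8_2 (iv F19880) D14346 (iv D11229)
def n14347 : Q := act 1 n11208
theorem D14347 : act 1 n11208 = n14347 := rfl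
theorem F25055 : act 3 n14347 = n11210 := d7_2 (iv F19882) D14347 (iv D11210)
theorem F25056 : act 4 n14347 = n11608 := d8_2 (iv F19883) D14347 (iv D11608)
theorem F25057 : act 5 n14347 = n11216 := d9_2 D11208 D14347 (iv D11216) (iv D8803) (iv F13144)
def n14348 : Q := act 6 n11208
theorem D14348 : act 6 n11208 = n14348 := rfl
theorem F25058 : act 2 n14348 = n11495 := d14_1 D14348 (iv D11495) (iv F19881)
theorem F25059 : act 3 n14348 = n11211 := d17_1 D14348 (iv D11211) (iv F19882)
theorem F25060 : act 4 n14348 = n11609 := d19_1 D14348 (iv D11609) (iv F19883)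
theorem F25061 : act 5 n14348 = n14344 := d22_2 D11208 D14348 (iv D14344) F19873
def n14349 : Q := act 1 n11209
theorem D14349 : act 1 n11209 = n14349 := rfl
theorem F25062 : act 3 n14349 = n11212 := d7_2 (iv F19885) D14349 (iv D11212)
theorem F25063 : act 4 n14349 = n11610 := d8_2 (iv F19886) D14349 (iv D11610)
theorem F25064 : act 6 n14349 = n11217 := d10_2 D11209 D14349 (iv D11217) (iv D8804) (iv F13144)
def n14350 : Q := act 5 n11209
theorem D14350 : act 5 n11209 = n14350 := rfl
theorem F25065 : act 0 n14350 = n14348 := d4_1 D14350 F25061 F25049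
theorem F25066 : act 2 n14350 = n11497 := d13_1 D14350 (iv D11497) (iv F19884)
theorem F25067 : act 3 n14350 = n11213 := d16_1 D14350 (iv D11213) (iv F19885)
theorem F25068 : act 4 n14350 = n11611 := d18_1 D14350 (iv D11611) (iv F19886)
theorem F25069 : act 6 n14350 = n14343 := d20_2 D11209 D14350 (iv D14343) D14344 (iv F25061) (iv D14348) (iv D11208)
def n14351 : Q := act 0 n11210
theorem D14351 : act 0 n11210 = n14351 := rfl
theorem F25070 : act 2 n14351 = n14351 := d1_2 F19887 D14351 (iv D14351)
theorem F25071 : act 4 n14351 = n11240 := d3_2 (iv F19888) D14351 (iv D11240)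
theorem F25072 : act 5 n14351 = n11218 := d4_2 (iv F19889) D14351 (iv D11218)
def n14352 : Q := act 6 n11210
theorem D14352 : act 6 n11210 = n14352 := rfl
theorem F25073 : act 2 n14352 = n14352 := d14_1 D14352 (iv D14352) F19887
theorem F25074 : act 4 n14352 = n11241 := d19_1 D14352 (iv D11241) (iv F19888)
def n14353 : Q := act 1 n11211
theorem D14353 : act 1 n11211 = n14353 := rfl
theorem F25075 : act 4 n14353 = n11242 := d8_2 (iv F19890) D14353 (iv D11242)
def n14354 : Q := act 0 n11212
theorem D14354 : act 0 n11212 = n14354 := rfl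
theorem F25076 : act 2 n14354 = n14354 := d1_2 F19892 D14354 (iv D14354)
theorem F25077 : act 4 n14354 = n11243 := d3_2 (iv F19893) D14354 (iv D11243)
theorem F25078 : act 6 n14354 = n11220 := d5_2 (iv F19894) D14354 (iv D11220)
def n14355 : Q := act 5 n11212
theorem D14355 : act 5 n11212 = n14355 := rfl
theorem F25079 : act 2 n14355 = n14355 := d13_1 D14355 (iv D14355) F19892
theorem F25080 : act 4 n14355 = n11244 := d18_1 D14355 (iv D11244) (iv F19893)
def n14356 : Q := act 1 n11213
theorem D14356 : act 1 n11213 = n14356 := rfl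
theorem F25081 : act 4 n14356 = n11245 := d8_2 (iv F19896) D14356 (iv D11245)
def n14357 : Q := act 1 n11214
theorem D14357 : act 1 n11214 = n14357 := rfl
theorem F25082 : act 2 n14357 = n12391 := d6_2 (iv F19899) D14357 F21845 F20099 (iv D11270)
theorem F25083 : act 3 n14357 = n11246 := d7_2 (iv F19900) D14357 (iv D11246)
theorem F25084 : act 4 n14357 = n11216 := d8_2 (iv F19901) D14357 (iv D11216)
theorem F25085 : act 5 n14357 = n11608 := d9_2 D11214 D14357 (iv D11608) (iv D9545) (iv F16034)
theorem F25086 : act 0 n12392 = n14357 := d1_3 F25082 (iv D12391) D12392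
def n14358 : Q := act 1 n11215
theorem D14358 : act 1 n11215 = n14358 := rfl
theorem F25087 : act 3 n14358 = n11247 := d7_2 (iv F19904) D14358 (iv D11247)
theorem F25088 : act 4 n14358 = n11217 := d8_2 (iv F19905) D14358 (iv D11217)
theorem F25089 : act 6 n14358 = n11610 := d10_2 D11215 D14358 (iv D11610) (iv D9546) (iv F16034)
def n14359 : Q := act 0 n11216
theorem D14359 : act 0 n11216 = n14359 := rfl
theorem F25090 : act 3 n14359 = n11218 := d2_2 (iv F19906) D14359 (iv D11218)
theorem F25091 : act 4 n14359 = n12392 := d3_2 F25084 D14359 F25086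
theorem F25092 : act 2 n12071 = n14359 := d12_3 F25091 (iv D12392) (iv F21309)
def n14360 : Q := act 2 n11216
theorem D14360 : act 2 n11216 = n14360 := rfl
theorem F25093 : act 0 n14360 = n12071 := d1_1 D14360 F25092 (iv D14359)
theorem F25094 : act 1 n14360 = n11275 := d6_1 D14360 (iv D11275) (iv D8930) (iv F13151) D11216
theorem F25095 : act 4 n14360 = n12391 := d12_2 F25084 D14360 (iv F25082)
def n14361 : Q := act 6 n11216
theorem D14361 : act 6 n11216 = n14361 := rfl
theorem F25096 : act 3 n14361 = n11219 := d17_1 D14361 (iv D11219) (iv F19906)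
def n14362 : Q := act 0 n11217
theorem D14362 : act 0 n11217 = n14362 := rfl
theorem F25097 : act 3 n14362 = n11220 := d2_2 (iv F19907) D14362 (iv D11220)
def n14363 : Q := act 2 n11217
theorem D14363 : act 2 n11217 = n14363 := rfl
theorem F25098 : act 1 n14363 = n11279 := d6_1 D14363 (iv D11279) (iv D8932) (iv F13154) D11217
def n14364 : Q := act 5 n11217
theorem D14364 : act 5 n11217 = n14364 := rfl
theorem F25099 : act 3 n14364 = n11221 := d16_1 D14364 (iv D11221) (iv F19907)
def n14365 : Q := act 1 n11218
theorem D14365 : act 1 n11218 = n14365 := rfl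
theorem F25100 : act 4 n14365 = n11254 := d8_2 (iv F19909) D14365 (iv D11254)
def n14366 : Q := act 6 n11218
theorem D14366 : act 6 n11218 = n14366 := rfl
theorem F25101 : act 0 n14366 = n11219 := d5_1 D14366 (iv D11219) D11218
theorem F25102 : act 2 n14366 = n14366 := d14_1 D14366 (iv D14366) F19908
theorem F25103 : act 4 n14366 = n11255 := d19_1 D14366 (iv D11255) (iv F19909)
theorem F25104 : act 5 n14366 = n14352 := d22_2 F25072 D14366 (iv D14352) D14351
def n14367 : Q := act 5 n11219
theorem D14367 : act 5 n11219 = n14367 := rfl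
theorem F25105 : act 0 n14367 = n14352 := d4_1 D14367 (iv F25104) F25101
theorem F25106 : act 2 n14367 = n14367 := d13_1 D14367 (iv D14367) F19910
theorem F25107 : act 4 n14367 = n11256 := d18_1 D14367 (iv D11256) (iv F19911)
theorem F25108 : act 6 n14367 = n14351 := d20_2 D11219 D14367 F25072 D14366 F25104 (iv D14352) F19889
def n14368 : Q := act 1 n11220
theorem D14368 : act 1 n11220 = n14368 := rfl
theorem F25109 : act 4 n14368 = n11257 := d8_2 (iv F19913) D14368 (iv D11257)
def n14369 : Q := act 5 n11220
theorem D14369 : act 5 n11220 = n14369 := rfl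
theorem F25110 : act 0 n14369 = n11221 := d4_1 D14369 (iv D11221) D11220
theorem F25111 : act 2 n14369 = n14369 := d13_1 D14369 (iv D14369) F19912
theorem F25112 : act 4 n14369 = n11258 := d18_1 D14369 (iv D11258) (iv F19913)
theorem F25113 : act 6 n14369 = n14355 := d22_1 D14369 (iv D14355) F19894 D11220
def n14370 : Q := act 6 n11221
theorem D14370 : act 6 n11221 = n14370 := rfl
theorem F25114 : act 0 n14370 = n14355 := d5_1 D14370 (iv F25113) F25110
theorem F25115 : act 2 n14370 = n14370 := d14_1 D14370 (iv D14370) F19914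
theorem F25116 : act 4 n14370 = n11259 := d19_1 D14370 (iv D11259) (iv F19915)
theorem F25117 : act 5 n14370 = n14354 := d20_1 D14370 F25078 D14369 F25113 (iv D14355) F19894 D11221
def n14371 : Q := act 5 n11222
theorem D14371 : act 5 n11222 = n14371 := rfl
theorem F25118 : act 0 n14371 = n11234 := d4_1 D14371 (iv D11234) (iv F19916)
theorem F25119 : act 3 n14371 = n11223 := d16_1 D14371 (iv D11223) D11222
theorem F25120 : act 4 n14371 = n11226 := d18_1 D14371 (iv D11226) (iv F19918)
def n14372 : Q := act 6 n11222
theorem D14372 : act 6 n11222 = n14372 := rfl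
theorem F25121 : act 0 n14372 = n11235 := d5_1 D14372 (iv D11235) (iv F19916)
theorem F25122 : act 3 n14372 = n11224 := d17_1 D14372 (iv D11224) D11222
theorem F25123 : act 4 n14372 = n11227 := d19_1 D14372 (iv D11227) (iv F19918)
def n14373 : Q := act 1 n11223
theorem D14373 : act 1 n11223 = n14373 := rfl
theorem F25124 : act 5 n14373 = n11228 := d9_2 D11223 D14373 (iv D11228) (iv D8845) D8843
def n14374 : Q := act 1 n11224
theorem D14374 : act 1 n11224 = n14374 := rfl
theorem F25125 : act 6 n14374 = n11229 := d10_2 D11224 D14374 (iv D11229) (iv D8846) D8843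
def n14375 : Q := act 1 n11225
theorem D14375 : act 1 n11225 = n14375 := rfl
theorem F25126 : act 0 n14375 = n14375 := d0_1 D14375 (iv D14375) F19923 F13225 (iv F19068) F19071 F19068 (iv F13225) (iv F19923)
def n14376 : Q := act 3 n11225
theorem D14376 : act 3 n11225 = n14376 := rfl
theorem F25127 : act 0 n14376 = n11230 := d2_1 D14376 (iv D11230) (iv F19923)
theorem F25128 : act 2 n14376 = n14336 := d21_2 D11225 D14376 (iv D14336) (iv D11200) (iv D8768) F6405 D4262 (iv F13222)
def n14377 : Q := act 5 n11225
theorem D14377 : act 5 n11225 = n14377 := rfl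
theorem F25129 : act 0 n14377 = n11232 := d4_1 D14377 (iv D11232) (iv F19923)
theorem F25130 : act 2 n14377 = n11226 := d13_1 D14377 (iv D11226) D11225
def n14378 : Q := act 6 n11225
theorem D14378 : act 6 n11225 = n14378 := rfl
theorem F25131 : act 0 n14378 = n11233 := d5_1 D14378 (iv D11233) (iv F19923)
theorem F25132 : act 2 n14378 = n11227 := d14_1 D14378 (iv D11227) D11225
def n14379 : Q := act 1 n11226
theorem D14379 : act 1 n11226 = n14379 := rfl
theorem F25133 : act 3 n14379 = n11228 := d7_2 (iv F19925) D14379 (iv D11228)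
def n14380 : Q := act 1 n11227
theorem D14380 : act 1 n11227 = n14380 := rfl
theorem F25134 : act 3 n14380 = n11229 := d7_2 (iv F19927) D14380 (iv D11229)
def n14381 : Q := act 0 n11228
theorem D14381 : act 0 n11228 = n14381 := rfl
def n14382 : Q := act 2 n11228
theorem D14382 : act 2 n11228 = n14382 := rfl
def n14383 : Q := act 6 n11228
theorem D14383 : act 6 n11228 = n14383 := rfl
def n14384 : Q := act 0 n11229
theorem D14384 : act 0 n11229 = n14384 := rfl
def n14385 : Q := act 2 n11229
theorem D14385 : act 2 n11229 = n14385 := rfl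
def n14386 : Q := act 5 n11229
theorem D14386 : act 5 n11229 = n14386 := rfl
def n14387 : Q := act 2 n11230
theorem D14387 : act 2 n11230 = n14387 := rfl
theorem F25135 : act 0 n14387 = n14336 := d1_1 D14387 (iv F25128) F25127
theorem F25136 : act 3 n14387 = n13479 := d11_2 D11230 D14387 F23711 (iv D11197) F13094 D8844 D11225 D14376 F25128 (iv D14336) (iv D11200) (iv D8768) F6405 D4262 D8847
theorem F25137 : act 4 n13482 = n14387 := d15_0 F25136 (iv D13479) (iv D10740) D10741 D13482
def n14388 : Q := act 4 n11230
theorem D14388 : act 4 n11230 = n14388 := rfl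
theorem F25138 : act 1 n14388 = n13479 := d8_1 D14388 (iv D13479) (iv F19928)
theorem F25139 : act 2 n14388 = n13482 := d12_1 D14388 F25137 (iv D14387)
def n14389 : Q := act 5 n11230
theorem D14389 : act 5 n11230 = n14389 := rfl
theorem F25140 : act 3 n14389 = n11232 := d16_1 D14389 (iv D11232) D11230
def n14390 : Q := act 6 n11230
theorem D14390 : act 6 n11230 = n14390 := rfl
theorem F25141 : act 3 n14390 = n11233 := d17_1 D14390 (iv D11233) D11230
def n14391 : Q := act 5 n11231
theorem D14391 : act 5 n11231 = n14391 := rfl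
theorem F25142 : act 2 n14391 = n11234 := d13_1 D14391 (iv D11234) (iv F19930)
theorem F25143 : act 4 n14391 = n11232 := d18_1 D14391 (iv D11232) D11231
def n14392 : Q := act 6 n11231
theorem D14392 : act 6 n11231 = n14392 := rfl
theorem F25144 : act 2 n14392 = n11235 := d14_1 D14392 (iv D11235) (iv F19930)
theorem F25145 : act 4 n14392 = n11233 := d19_1 D14392 (iv D11233) D11231
def n14393 : Q := act 1 n11232
theorem D14393 : act 1 n11232 = n14393 := rfl
theorem F25146 : act 5 n14393 = n13485 := d9_2 D11232 D14393 (iv D13485) (iv D10742) (iv F13225)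
def n14394 : Q := act 6 n11232
theorem D14394 : act 6 n11232 = n14394 := rfl
theorem F25147 : act 2 n14394 = n11237 := d14_1 D14394 (iv D11237) (iv F19931)
theorem F25148 : act 5 n14394 = n14378 := d22_2 D11232 D14394 (iv D14378) F19923
def n14395 : Q := act 1 n11233
theorem D14395 : act 1 n11233 = n14395 := rfl
theorem F25149 : act 6 n14395 = n13487 := d10_2 D11233 D14395 (iv D13487) (iv D10743) (iv F13225)
def n14396 : Q := act 5 n11233
theorem D14396 : act 5 n11233 = n14396 := rfl
theorem F25150 : act 0 n14396 = n14394 := d4_1 D14396 F25148 F25131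
theorem F25151 : act 2 n14396 = n11239 := d13_1 D14396 (iv D11239) (iv F19932)
theorem F25152 : act 6 n14396 = n14377 := d20_2 D11233 D14396 (iv D14377) D14378 (iv F25148) (iv D14394) (iv D11232)
def n14397 : Q := act 1 n11234
theorem D14397 : act 1 n11234 = n14397 := rfl
theorem F25153 : act 3 n14397 = n11608 := d7_2 (iv F19933) D14397 (iv D11608)
theorem F25154 : act 4 n14397 = n11236 := d8_2 (iv F19934) D14397 (iv D11236)
theorem F25155 : act 5 n14397 = n11246 := d9_2 D11234 D14397 (iv D11246) (iv D8855) (iv F13226)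
def n14398 : Q := act 6 n11234
theorem D14398 : act 6 n11234 = n14398 := rfl
theorem F25156 : act 3 n14398 = n11609 := d17_1 D14398 (iv D11609) (iv F19933)
theorem F25157 : act 4 n14398 = n11237 := d19_1 D14398 (iv D11237) (iv F19934)
theorem F25158 : act 5 n14398 = n14372 := d22_2 D11234 D14398 (iv D14372) F19916
def n14399 : Q := act 1 n11235
theorem D14399 : act 1 n11235 = n14399 := rfl
theorem F25159 : act 3 n14399 = n11610 := d7_2 (iv F19935) D14399 (iv D11610)
theorem F25160 : act 4 n14399 = n11238 := d8_2 (iv F19936) D14399 (iv D11238)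
theorem F25161 : act 6 n14399 = n11247 := d10_2 D11235 D14399 (iv D11247) (iv D8856) (iv F13226)
def n14400 : Q := act 5 n11235
theorem D14400 : act 5 n11235 = n14400 := rfl
theorem F25162 : act 0 n14400 = n14398 := d4_1 D14400 F25158 F25121
theorem F25163 : act 3 n14400 = n11611 := d16_1 D14400 (iv D11611) (iv F19935)
theorem F25164 : act 4 n14400 = n11239 := d18_1 D14400 (iv D11239) (iv F19936)
theorem F25165 : act 6 n14400 = n14371 := d20_2 D11235 D14400 (iv D14371) D14372 (iv F25158) (iv D14398) (iv D11234)
def n14401 : Q := act 0 n11236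
theorem D14401 : act 0 n11236 = n14401 := rfl
theorem F25166 : act 3 n14401 = n11240 := d2_2 (iv F19937) D14401 (iv D11240)
theorem F25167 : act 5 n14401 = n11248 := d4_2 (iv F19938) D14401 (iv D11248)
def n14402 : Q := act 2 n11236
theorem D14402 : act 2 n11236 = n14402 := rfl
theorem F25168 : act 5 n14402 = n11249 := d13_2 (iv F19938) D14402 (iv D11249)
def n14403 : Q := act 6 n11236
theorem D14403 : act 6 n11236 = n14403 := rfl
theorem F25169 : act 3 n14403 = n11241 := d17_1 D14403 (iv D11241) (iv F19937)
def n14404 : Q := act 1 n11237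
theorem D14404 : act 1 n11237 = n14404 := rfl
theorem F25170 : act 3 n14404 = n11242 := d7_2 (iv F19939) D14404 (iv D11242)
def n14405 : Q := act 0 n11238
theorem D14405 : act 0 n11238 = n14405 := rfl
theorem F25171 : act 3 n14405 = n11243 := d2_2 (iv F19941) D14405 (iv D11243)
theorem F25172 : act 6 n14405 = n11251 := d5_2 (iv F19942) D14405 (iv D11251)
def n14406 : Q := act 2 n11238
theorem D14406 : act 2 n11238 = n14406 := rfl
theorem F25173 : act 6 n14406 = n11252 := d14_2 (iv F19942) D14406 (iv D11252)
def n14407 : Q := act 5 n11238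
theorem D14407 : act 5 n11238 = n14407 := rfl
theorem F25174 : act 3 n14407 = n11244 := d16_1 D14407 (iv D11244) (iv F19941)
def n14408 : Q := act 1 n11239
theorem D14408 : act 1 n11239 = n14408 := rfl
theorem F25175 : act 3 n14408 = n11245 := d7_2 (iv F19944) D14408 (iv D11245)
def n14409 : Q := act 1 n11240
theorem D14409 : act 1 n11240 = n14409 := rfl
def n14410 : Q := act 1 n11241
theorem D14410 : act 1 n11241 = n14410 := rfl
theorem F25176 : act 6 n14410 = n11242 := d10_2 D11241 D14410 (iv D11242) (iv D8852) D8851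
def n14411 : Q := act 0 n11242
theorem D14411 : act 0 n11242 = n14411 := rfl
def n14412 : Q := act 2 n11242
theorem D14412 : act 2 n11242 = n14412 := rfl
def n14413 : Q := act 5 n11242
theorem D14413 : act 5 n11242 = n14413 := rfl
theorem F25177 : act 1 n14413 = n14386 := d9_1 D14413 (iv D14386) (iv D11229) (iv F13230) D11242
def n14414 : Q := act 1 n11243
theorem D14414 : act 1 n11243 = n14414 := rfl
def n14415 : Q := act 1 n11244
theorem D14415 : act 1 n11244 = n14415 := rfl
theorem F25178 : act 5 n14415 = n11245 := d9_2 D11244 D14415 (iv D11245) (iv D8854) D8853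
def n14416 : Q := act 0 n11245
theorem D14416 : act 0 n11245 = n14416 := rfl
def n14417 : Q := act 2 n11245
theorem D14417 : act 2 n11245 = n14417 := rfl
def n14418 : Q := act 6 n11245
theorem D14418 : act 6 n11245 = n14418 := rfl
theorem F25179 : act 1 n14418 = n14383 := d10_1 D14418 (iv D14383) (iv D11228) (iv F13233) D11245
def n14419 : Q := act 0 n11246
theorem D14419 : act 0 n11246 = n14419 := rfl
theorem F25180 : act 3 n14419 = n12392 := d2_2 F25083 D14419 F25086
theorem F25181 : act 4 n14419 = n11248 := d3_2 (iv F19952) D14419 (iv D11248)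
def n14420 : Q := act 2 n11246
theorem D14420 : act 2 n11246 = n14420 := rfl
theorem F25182 : act 1 n14420 = n13518 := d6_1 D14420 (iv D13518) (iv D10758) (iv F13235) D11246
theorem F25183 : act 4 n14420 = n11249 := d12_2 (iv F19952) D14420 (iv D11249)
def n14421 : Q := act 6 n11246
theorem D14421 : act 6 n11246 = n14421 := rfl
theorem F25184 : act 4 n14421 = n11250 := d19_1 D14421 (iv D11250) (iv F19952)
def n14422 : Q := act 0 n11247
theorem D14422 : act 0 n11247 = n14422 := rfl
theorem F25185 : act 4 n14422 = n11251 := d3_2 (iv F19953) D14422 (iv D11251)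
def n14423 : Q := act 2 n11247
theorem D14423 : act 2 n11247 = n14423 := rfl
theorem F25186 : act 1 n14423 = n13522 := d6_1 D14423 (iv D13522) (iv D10760) (iv F13238) D11247
theorem F25187 : act 4 n14423 = n11252 := d12_2 (iv F19953) D14423 (iv D11252)
def n14424 : Q := act 5 n11247
theorem D14424 : act 5 n11247 = n14424 := rfl
theorem F25188 : act 4 n14424 = n11253 := d18_1 D14424 (iv D11253) (iv F19953)
def n14425 : Q := act 1 n11248
theorem D14425 : act 1 n11248 = n14425 := rfl
theorem F25189 : act 3 n14425 = n11254 := d7_2 (iv F19954) D14425 (iv D11254)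
def n14426 : Q := act 2 n11248
theorem D14426 : act 2 n11248 = n14426 := rfl
theorem F25190 : act 0 n14426 = n11249 := d1_1 D14426 (iv D11249) D11248
def n14427 : Q := act 6 n11248
theorem D14427 : act 6 n11248 = n14427 := rfl
theorem F25191 : act 0 n14427 = n11250 := d5_1 D14427 (iv D11250) D11248
theorem F25192 : act 3 n14427 = n11255 := d17_1 D14427 (iv D11255) (iv F19954)
theorem F25193 : act 5 n14427 = n14403 := d22_2 F25167 D14427 (iv D14403) D14401
def n14428 : Q := act 3 n11249
theorem D14428 : act 3 n11249 = n14428 := rfl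
theorem F25194 : act 1 n14428 = n13528 := d7_1 D14428 (iv D13528) (iv F19955)
def n14429 : Q := act 6 n11249
theorem D14429 : act 6 n11249 = n14429 := rfl
theorem F25195 : act 2 n14429 = n11250 := d14_1 D14429 (iv D11250) D11249
def n14430 : Q := act 5 n11250
theorem D14430 : act 5 n11250 = n14430 := rfl
theorem F25196 : act 0 n14430 = n14403 := d4_1 D14430 (iv F25193) F25191
theorem F25197 : act 3 n14430 = n11256 := d16_1 D14430 (iv D11256) (iv F19956)
theorem F25198 : act 6 n14430 = n14401 := d20_2 D11250 D14430 F25167 D14427 F25193 (iv D14403) F19938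
def n14431 : Q := act 1 n11251
theorem D14431 : act 1 n11251 = n14431 := rfl
theorem F25199 : act 3 n14431 = n11257 := d7_2 (iv F19957) D14431 (iv D11257)
def n14432 : Q := act 2 n11251
theorem D14432 : act 2 n11251 = n14432 := rfl
theorem F25200 : act 0 n14432 = n11252 := d1_1 D14432 (iv D11252) D11251
def n14433 : Q := act 5 n11251
theorem D14433 : act 5 n11251 = n14433 := rfl
theorem F25201 : act 0 n14433 = n11253 := d4_1 D14433 (iv D11253) D11251
theorem F25202 : act 3 n14433 = n11258 := d16_1 D14433 (iv D11258) (iv F19957)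
theorem F25203 : act 6 n14433 = n14407 := d22_1 D14433 (iv D14407) F19942 D11251
def n14434 : Q := act 3 n11252
theorem D14434 : act 3 n11252 = n14434 := rfl
theorem F25204 : act 1 n14434 = n13538 := d7_1 D14434 (iv D13538) (iv F19958)
def n14435 : Q := act 5 n11252
theorem D14435 : act 5 n11252 = n14435 := rfl
theorem F25205 : act 2 n14435 = n11253 := d13_1 D14435 (iv D11253) D11252
def n14436 : Q := act 6 n11253
theorem D14436 : act 6 n11253 = n14436 := rfl
theorem F25206 : act 0 n14436 = n14407 := d5_1 D14436 (iv F25203) F25201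
theorem F25207 : act 3 n14436 = n11259 := d17_1 D14436 (iv D11259) (iv F19959)
theorem F25208 : act 5 n14436 = n14405 := d20_1 D14436 F25172 D14433 F25203 (iv D14407) F19942 D11253
def n14437 : Q := act 0 n11254
theorem D14437 : act 0 n11254 = n14437 := rfl
theorem F25209 : act 1 n14437 = n11388 := d0_2 D11254 D14437 (iv D11388) (iv D9093) (iv D4395) (iv D2108) (iv F3262) D4268 D8859
def n14438 : Q := act 2 n11254
theorem D14438 : act 2 n11254 = n14438 := rfl
def n14439 : Q := act 5 n11254
theorem D14439 : act 5 n11254 = n14439 := rfl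
def n14440 : Q := act 6 n11254
theorem D14440 : act 6 n11254 = n14440 := rfl
def n14441 : Q := act 1 n11255
theorem D14441 : act 1 n11255 = n14441 := rfl
def n14442 : Q := act 1 n11256
theorem D14442 : act 1 n11256 = n14442 := rfl
def n14443 : Q := act 0 n11257
theorem D14443 : act 0 n11257 = n14443 := rfl
theorem F25211 : act 1 n14443 = n11410 := d0_2 D11257 D14443 (iv D11410) (iv D9103) (iv D4399) (iv D2110) (iv F3264) D4269 D8862
def n14444 : Q := act 2 n11257
theorem D14444 : act 2 n11257 = n14444 := rfl
def n14445 : Q := act 5 n11257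
theorem D14445 : act 5 n11257 = n14445 := rfl
def n14446 : Q := act 6 n11257
theorem D14446 : act 6 n11257 = n14446 := rfl
def n14447 : Q := act 1 n11258
theorem D14447 : act 1 n11258 = n14447 := rfl
def n14448 : Q := act 1 n11259
theorem D14448 : act 1 n11259 = n14448 := rfl
def n14449 : Q := act 0 n11260
theorem D14449 : act 0 n11260 = n14449 := rfl
theorem F25213 : act 3 n14449 = n11262 := d2_2 (iv F19972) D14449 (iv D11262)
theorem F25214 : act 4 n14449 = n11322 := d3_2 (iv F19973) D14449 (iv D11322)
theorem F25215 : act 5 n14449 = n11274 := d4_2 (iv F19974) D14449 (iv D11274)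
theorem F25216 : act 2 n12111 = n14449 := d13_3 F25215 F20101 D12111
def n14450 : Q := act 2 n11260
theorem D14450 : act 2 n11260 = n14450 := rfl
theorem F25217 : act 0 n14450 = n12111 := d1_1 D14450 F25216 (iv D14449)
theorem F25218 : act 1 n14450 = n11504 := d6_1 D14450 (iv D11504) (iv D9308) (iv F13344) D11260
theorem F25219 : act 4 n14450 = n11323 := d12_2 (iv F19973) D14450 (iv D11323)
theorem F25220 : act 5 n14450 = n11275 := d13_2 (iv F19974) D14450 (iv D11275)
def n14451 : Q := act 6 n11260
theorem D14451 : act 6 n11260 = n14451 := rfl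
theorem F25221 : act 3 n14451 = n11264 := d17_1 D14451 (iv D11264) (iv F19972)
theorem F25222 : act 4 n14451 = n11324 := d19_1 D14451 (iv D11324) (iv F19973)
def n14452 : Q := act 0 n11261
theorem D14452 : act 0 n11261 = n14452 := rfl
theorem F25223 : act 3 n14452 = n11266 := d2_2 (iv F19975) D14452 (iv D11266)
theorem F25224 : act 4 n14452 = n11325 := d3_2 (iv F19976) D14452 (iv D11325)
theorem F25225 : act 6 n14452 = n11278 := d5_2 (iv F19977) D14452 (iv D11278)
def n14453 : Q := act 2 n11261
theorem D14453 : act 2 n11261 = n14453 := rfl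
theorem F25226 : act 1 n14453 = n11507 := d6_1 D14453 (iv D11507) (iv D9309) (iv F13347) D11261
theorem F25227 : act 4 n14453 = n11326 := d12_2 (iv F19976) D14453 (iv D11326)
theorem F25228 : act 6 n14453 = n11279 := d14_2 (iv F19977) D14453 (iv D11279)
def n14454 : Q := act 5 n11261
theorem D14454 : act 5 n11261 = n14454 := rfl
theorem F25229 : act 3 n14454 = n11268 := d16_1 D14454 (iv D11268) (iv F19975)
theorem F25230 : act 4 n14454 = n11327 := d18_1 D14454 (iv D11327) (iv F19976)
def n14455 : Q := act 1 n11262
theorem D14455 : act 1 n11262 = n14455 := rfl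
theorem F25231 : act 4 n14455 = n11336 := d8_2 (iv F19978) D14455 (iv D11336)
def n14456 : Q := act 2 n11262
theorem D14456 : act 2 n11262 = n14456 := rfl
theorem F25232 : act 0 n14456 = n11263 := d1_1 D14456 (iv D11263) D11262
theorem F25233 : act 4 n14456 = n11337 := d12_2 (iv F19978) D14456 (iv D11337)
theorem F25234 : act 5 n14456 = n11283 := d13_2 (iv F19979) D14456 (iv D11283)
def n14457 : Q := act 3 n11263
theorem D14457 : act 3 n11263 = n14457 := rfl
theorem F25235 : act 1 n14457 = n11523 := d7_1 D14457 (iv D11523) (iv F19980)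
theorem F25236 : act 5 n14457 = n11285 := d16_2 (iv F19982) D14457 (iv D11285)
def n14458 : Q := act 6 n11263
theorem D14458 : act 6 n11263 = n14458 := rfl
theorem F25237 : act 2 n14458 = n11264 := d14_1 D14458 (iv D11264) D11263
theorem F25238 : act 4 n14458 = n11339 := d19_1 D14458 (iv D11339) (iv F19981)
def n14459 : Q := act 1 n11264
theorem D14459 : act 1 n11264 = n14459 := rfl
theorem F25239 : act 4 n14459 = n11340 := d8_2 (iv F19983) D14459 (iv D11340)
theorem F25240 : act 6 n14459 = n11265 := d10_2 D11264 D14459 (iv D11265) (iv D8925) D8924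
def n14460 : Q := act 0 n11265
theorem D14460 : act 0 n11265 = n14460 := rfl
theorem F25241 : act 4 n14460 = n11341 := d3_2 (iv F19984) D14460 (iv D11341)
def n14461 : Q := act 2 n11265
theorem D14461 : act 2 n11265 = n14461 := rfl
theorem F25242 : act 1 n14461 = n11527 := d6_1 D14461 (iv D11527) (iv D9320) (iv F13355) D11265
theorem F25243 : act 4 n14461 = n11342 := d12_2 (iv F19984) D14461 (iv D11342)
def n14462 : Q := act 5 n11265
theorem D14462 : act 5 n11265 = n14462 := rfl
theorem F25244 : act 1 n14462 = n14454 := d9_1 D14462 (iv D14454) (iv D11261) (iv F13357) D11265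
theorem F25245 : act 4 n14462 = n11343 := d18_1 D14462 (iv D11343) (iv F19984)
def n14463 : Q := act 1 n11266
theorem D14463 : act 1 n11266 = n14463 := rfl
theorem F25246 : act 4 n14463 = n11344 := d8_2 (iv F19985) D14463 (iv D11344)
def n14464 : Q := act 2 n11266
theorem D14464 : act 2 n11266 = n14464 := rfl
theorem F25247 : act 0 n14464 = n11267 := d1_1 D14464 (iv D11267) D11266
theorem F25248 : act 4 n14464 = n11345 := d12_2 (iv F19985) D14464 (iv D11345)
theorem F25249 : act 6 n14464 = n11293 := d14_2 (iv F19986) D14464 (iv D11293)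
def n14465 : Q := act 3 n11267
theorem D14465 : act 3 n11267 = n14465 := rfl
theorem F25250 : act 1 n14465 = n11531 := d7_1 D14465 (iv D11531) (iv F19987)
theorem F25251 : act 6 n14465 = n11295 := d17_2 (iv F19989) D14465 (iv D11295)
def n14466 : Q := act 5 n11267
theorem D14466 : act 5 n11267 = n14466 := rfl
theorem F25252 : act 2 n14466 = n11268 := d13_1 D14466 (iv D11268) D11267
theorem F25253 : act 4 n14466 = n11347 := d18_1 D14466 (iv D11347) (iv F19988)
def n14467 : Q := act 1 n11268
theorem D14467 : act 1 n11268 = n14467 := rfl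
theorem F25254 : act 3 n14467 = n14462 := d7_2 F25229 D14467 F25244
theorem F25255 : act 4 n14467 = n11348 := d8_2 (iv F19990) D14467 (iv D11348)
theorem F25256 : act 5 n14467 = n11269 := d9_2 D11268 D14467 (iv D11269) (iv D8927) D8926
def n14468 : Q := act 0 n11269
theorem D14468 : act 0 n11269 = n14468 := rfl
theorem F25257 : act 3 n14468 = n14460 := d2_2 (iv F19991) D14468 (iv D14460)
theorem F25258 : act 4 n14468 = n11349 := d3_2 (iv F19992) D14468 (iv D11349)
def n14469 : Q := act 2 n11269
theorem D14469 : act 2 n11269 = n14469 := rfl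
theorem F25259 : act 1 n14469 = n11535 := d6_1 D14469 (iv D11535) (iv D9324) (iv F13361) D11269
theorem F25260 : act 4 n14469 = n11350 := d12_2 (iv F19992) D14469 (iv D11350)
def n14470 : Q := act 6 n11269
theorem D14470 : act 6 n11269 = n14470 := rfl
theorem F25261 : act 1 n14470 = n14451 := d10_1 D14470 (iv D14451) (iv D11260) (iv F13363) D11269
theorem F25262 : act 3 n14470 = n14459 := d17_1 D14470 F25240 (iv F19991)
theorem F25263 : act 4 n14470 = n11351 := d19_1 D14470 (iv D11351) (iv F19992)
def n14471 : Q := act 6 n11270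
theorem D14471 : act 6 n11270 = n14471 := rfl
theorem F25264 : act 0 n14471 = n12420 := d5_1 D14471 (iv D12420) (iv F20098)
theorem F25265 : act 2 n14471 = n12418 := d14_1 D14471 (iv D12418) F20099
theorem F25266 : act 3 n14471 = n11362 := d17_1 D14471 (iv D11362) (iv F19993)
theorem F25267 : act 4 n14471 = n11276 := d19_1 D14471 (iv D11276) (iv F19994)
def n14472 : Q := act 1 n11271
theorem D14472 : act 1 n11271 = n14472 := rfl
theorem F25268 : act 3 n14472 = n11363 := d7_2 (iv F19996) D14472 (iv D11363)
theorem F25269 : act 4 n14472 = n11277 := d8_2 (iv F19997) D14472 (iv D11277)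
def n14473 : Q := act 0 n11272
theorem D14473 : act 0 n11272 = n14473 := rfl
theorem F25270 : act 3 n14473 = n11364 := d2_2 (iv F19999) D14473 (iv D11364)
theorem F25271 : act 4 n14473 = n11278 := d3_2 (iv F20000) D14473 (iv D11278)
theorem F25272 : act 6 n14473 = n11325 := d5_2 (iv F20001) D14473 (iv D11325)
def n14474 : Q := act 2 n11272
theorem D14474 : act 2 n11272 = n14474 := rfl
theorem F25273 : act 4 n14474 = n11279 := d12_2 (iv F20000) D14474 (iv D11279)
theorem F25274 : act 6 n14474 = n11326 := d14_2 (iv F20001) D14474 (iv D11326)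
def n14475 : Q := act 5 n11272
theorem D14475 : act 5 n11272 = n14475 := rfl
theorem F25275 : act 3 n14475 = n11366 := d16_1 D14475 (iv D11366) (iv F19999)
theorem F25276 : act 4 n14475 = n11280 := d18_1 D14475 (iv D11280) (iv F20000)
def n14476 : Q := act 1 n11273
theorem D14476 : act 1 n11273 = n14476 := rfl
theorem F25277 : act 3 n14476 = n11367 := d7_2 (iv F20004) D14476 (iv D11367)
theorem F25278 : act 4 n14476 = n11281 := d8_2 (iv F20005) D14476 (iv D11281)
def n14477 : Q := act 1 n11274
theorem D14477 : act 1 n11274 = n14477 := rfl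
theorem F25279 : act 2 n14477 = n12113 := d6_2 (iv F20101) D14477 (iv D12113) (iv D9984) D9983
theorem F25280 : act 3 n14477 = n11282 := d7_2 (iv F20007) D14477 (iv D11282)
theorem F25281 : act 4 n14477 = n12419 := d8_2 F20100 D14477 (iv D12419)
def n14478 : Q := act 6 n11274
theorem D14478 : act 6 n11274 = n14478 := rfl
theorem F25282 : act 0 n14478 = n11276 := d5_1 D14478 (iv D11276) D11274
theorem F25283 : act 2 n14478 = n12112 := d14_1 D14478 (iv D12112) (iv F20101)
theorem F25284 : act 3 n14478 = n11284 := d17_1 D14478 (iv D11284) (iv F20007)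
theorem F25285 : act 4 n14478 = n12420 := d19_1 D14478 (iv D12420) F20100
theorem F25286 : act 5 n14478 = n14451 := d22_2 F25215 D14478 (iv D14451) D14449
def n14479 : Q := act 3 n11275
theorem D14479 : act 3 n11275 = n14479 := rfl
theorem F25287 : act 0 n14479 = n12095 := d2_1 D14479 F21353 F20102
def n14480 : Q := act 6 n11275
theorem D14480 : act 6 n11275 = n14480 := rfl
theorem F25288 : act 0 n14480 = n12112 := d5_1 D14480 (iv D12112) F20102
theorem F25289 : act 2 n14480 = n11276 := d14_1 D14480 (iv D11276) D11275
theorem F25290 : act 4 n14480 = n12418 := d19_1 D14480 (iv D12418) (iv F20103)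
def n14481 : Q := act 1 n11276
theorem D14481 : act 1 n11276 = n14481 := rfl
theorem F25291 : act 3 n14481 = n11287 := d7_2 (iv F20008) D14481 (iv D11287)
theorem F25292 : act 6 n14481 = n11277 := d10_2 D11276 D14481 (iv D11277) (iv D8931) D8930
def n14482 : Q := act 5 n11276
theorem D14482 : act 5 n11276 = n14482 := rfl
theorem F25293 : act 0 n14482 = n14451 := d4_1 D14482 (iv F25286) F25282
theorem F25294 : act 3 n14482 = n11288 := d16_1 D14482 (iv D11288) (iv F20008)
theorem F25295 : act 6 n14482 = n14449 := d20_2 D11276 D14482 F25215 D14478 F25286 (iv D14451) F19974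
def n14483 : Q := act 0 n11277
theorem D14483 : act 0 n11277 = n14483 := rfl
theorem F25296 : act 3 n14483 = n11289 := d2_2 (iv F20009) D14483 (iv D11289)
def n14484 : Q := act 2 n11277
theorem D14484 : act 2 n11277 = n14484 := rfl
def n14485 : Q := act 5 n11277
theorem D14485 : act 5 n11277 = n14485 := rfl
theorem F25297 : act 1 n14485 = n14364 := d9_1 D14485 (iv D14364) (iv D11217) (iv F13370) D11277
theorem F25298 : act 3 n14485 = n11291 := d16_1 D14485 (iv D11291) (iv F20009)
def n14486 : Q := act 1 n11278
theorem D14486 : act 1 n11278 = n14486 := rfl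
theorem F25299 : act 3 n14486 = n11292 := d7_2 (iv F20010) D14486 (iv D11292)
def n14487 : Q := act 2 n11278
theorem D14487 : act 2 n11278 = n14487 := rfl
def n14488 : Q := act 5 n11278
theorem D14488 : act 5 n11278 = n14488 := rfl
theorem F25301 : act 0 n14488 = n11280 := d4_1 D14488 (iv D11280) D11278
theorem F25302 : act 3 n14488 = n11294 := d16_1 D14488 (iv D11294) (iv F20010)
theorem F25303 : act 6 n14488 = n14454 := d22_1 D14488 (iv D14454) F19977 D11278
def n14489 : Q := act 3 n11279
theorem D14489 : act 3 n11279 = n14489 := rfl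
def n14490 : Q := act 5 n11279
theorem D14490 : act 5 n11279 = n14490 := rfl
theorem F25304 : act 2 n14490 = n11280 := d13_1 D14490 (iv D11280) D11279
def n14491 : Q := act 1 n11280
theorem D14491 : act 1 n11280 = n14491 := rfl
theorem F25305 : act 3 n14491 = n11297 := d7_2 (iv F20011) D14491 (iv D11297)
theorem F25306 : act 5 n14491 = n11281 := d9_2 D11280 D14491 (iv D11281) (iv D8933) D8932
def n14492 : Q := act 6 n11280
theorem D14492 : act 6 n11280 = n14492 := rfl
theorem F25307 : act 0 n14492 = n14454 := d5_1 D14492 (iv F25303) F25301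
theorem F25308 : act 3 n14492 = n11298 := d17_1 D14492 (iv D11298) (iv F20011)
theorem F25309 : act 5 n14492 = n14452 := d20_1 D14492 F25225 D14488 F25303 (iv D14454) F19977 D11280
def n14493 : Q := act 0 n11281
theorem D14493 : act 0 n11281 = n14493 := rfl
theorem F25310 : act 3 n14493 = n11299 := d2_2 (iv F20012) D14493 (iv D11299)
def n14494 : Q := act 2 n11281
theorem D14494 : act 2 n11281 = n14494 := rfl
theorem F25311 : act 1 n14494 = n14484 := d6_1 D14494 (iv D14484) (iv D11277) (iv F13373) D11281
def n14495 : Q := act 6 n11281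
theorem D14495 : act 6 n11281 = n14495 := rfl
theorem F25312 : act 1 n14495 = n14361 := d10_1 D14495 (iv D14361) (iv D11216) (iv F13375) D11281
theorem F25313 : act 3 n14495 = n11301 := d17_1 D14495 (iv D11301) (iv F20012)
def n14496 : Q := act 0 n11282
theorem D14496 : act 0 n11282 = n14496 := rfl
theorem F25314 : act 4 n14496 = n11388 := d3_2 (iv F20013) D14496 (iv D11388)
def n14497 : Q := act 2 n11282
theorem D14497 : act 2 n11282 = n14497 := rfl
theorem F25315 : act 4 n14497 = n11389 := d12_2 (iv F20013) D14497 (iv D11389)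
def n14498 : Q := act 5 n11282
theorem D14498 : act 5 n11282 = n14498 := rfl
theorem F25316 : act 4 n14498 = n11390 := d18_1 D14498 (iv D11390) (iv F20013)
def n14499 : Q := act 6 n11282
theorem D14499 : act 6 n11282 = n14499 := rfl
theorem F25317 : act 4 n14499 = n11391 := d19_1 D14499 (iv D11391) (iv F20013)
def n14500 : Q := act 1 n11283
theorem D14500 : act 1 n11283 = n14500 := rfl
theorem F25318 : act 4 n14500 = n11392 := d8_2 (iv F20015) D14500 (iv D11392)
def n14501 : Q := act 3 n11283
theorem D14501 : act 3 n11283 = n14501 := rfl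
theorem F25319 : act 0 n14501 = n11285 := d2_1 D14501 (iv D11285) (iv F20014)
def n14502 : Q := act 6 n11283
theorem D14502 : act 6 n11283 = n14502 := rfl
theorem F25320 : act 0 n14502 = n11286 := d5_1 D14502 (iv D11286) (iv F20014)
theorem F25321 : act 2 n14502 = n11284 := d14_1 D14502 (iv D11284) D11283
theorem F25322 : act 4 n14502 = n11394 := d19_1 D14502 (iv D11394) (iv F20015)
theorem F25323 : act 5 n14502 = n14458 := d22_2 F25234 D14502 (iv D14458) (iv F25232)
def n14503 : Q := act 1 n11284
theorem D14503 : act 1 n11284 = n14503 := rfl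
theorem F25324 : act 4 n14503 = n11395 := d8_2 (iv F20017) D14503 (iv D11395)
def n14504 : Q := act 2 n11285
theorem D14504 : act 2 n11285 = n14504 := rfl
theorem F25325 : act 1 n14504 = n11556 := d6_1 D14504 (iv D11556) F13951 (iv F14915) (iv F20019)
def n14505 : Q := act 4 n11285
theorem D14505 : act 4 n11285 = n14505 := rfl
theorem F25326 : act 1 n14505 = n11302 := d8_1 D14505 (iv D11302) (iv F20019)
theorem F25327 : act 3 n14505 = n11397 := d15_1 D14505 (iv D11397) (iv D9096) (iv F13378) D11285
def n14506 : Q := act 6 n11285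
theorem D14506 : act 6 n11285 = n14506 := rfl
theorem F25328 : act 3 n14506 = n11286 := d17_1 D14506 (iv D11286) D11285
def n14507 : Q := act 5 n11286
theorem D14507 : act 5 n11286 = n14507 := rfl
theorem F25329 : act 0 n14507 = n14458 := d4_1 D14507 (iv F25323) F25320
theorem F25330 : act 2 n14507 = n11288 := d13_1 D14507 (iv D11288) (iv F20020)
theorem F25331 : act 4 n14507 = n11399 := d18_1 D14507 (iv D11399) (iv F20021)
theorem F25332 : act 6 n14507 = n14456 := d20_2 D11286 D14507 F25234 D14502 F25323 (iv D14458) F19982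
def n14508 : Q := act 0 n11287
theorem D14508 : act 0 n11287 = n14508 := rfl
theorem F25333 : act 4 n14508 = n11400 := d3_2 (iv F20022) D14508 (iv D11400)
theorem F25334 : act 6 n14508 = n11289 := d5_2 (iv F20023) D14508 (iv D11289)
def n14509 : Q := act 2 n11287
theorem D14509 : act 2 n11287 = n14509 := rfl
theorem F25335 : act 4 n14509 = n11401 := d12_2 (iv F20022) D14509 (iv D11401)
theorem F25336 : act 6 n14509 = n11290 := d14_2 (iv F20023) D14509 (iv D11290)
def n14510 : Q := act 5 n11287
theorem D14510 : act 5 n11287 = n14510 := rfl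
theorem F25337 : act 4 n14510 = n11402 := d18_1 D14510 (iv D11402) (iv F20022)
def n14511 : Q := act 1 n11288
theorem D14511 : act 1 n11288 = n14511 := rfl
theorem F25338 : act 4 n14511 = n11403 := d8_2 (iv F20025) D14511 (iv D11403)
def n14512 : Q := act 1 n11289
theorem D14512 : act 1 n11289 = n14512 := rfl
theorem F25339 : act 4 n14512 = n11404 := d8_2 (iv F20027) D14512 (iv D11404)
def n14513 : Q := act 2 n11289
theorem D14513 : act 2 n11289 = n14513 := rfl
theorem F25340 : act 0 n14513 = n11290 := d1_1 D14513 (iv D11290) D11289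
theorem F25341 : act 4 n14513 = n11405 := d12_2 (iv F20027) D14513 (iv D11405)
def n14514 : Q := act 5 n11289
theorem D14514 : act 5 n11289 = n14514 := rfl
theorem F25342 : act 0 n14514 = n11291 := d4_1 D14514 (iv D11291) D11289
theorem F25343 : act 4 n14514 = n11406 := d18_1 D14514 (iv D11406) (iv F20027)
theorem F25344 : act 6 n14514 = n14510 := d22_1 D14514 (iv D14510) F20023 D11289
def n14515 : Q := act 3 n11290
theorem D14515 : act 3 n11290 = n14515 := rfl
theorem F25345 : act 1 n14515 = n11304 := d7_1 D14515 (iv D11304) (iv F20028)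
def n14516 : Q := act 5 n11290
theorem D14516 : act 5 n11290 = n14516 := rfl
theorem F25346 : act 1 n14516 = n14516 := d9_1 D14516 (iv D14516) F20028 F17466 (iv F20028)
theorem F25347 : act 2 n14516 = n11291 := d13_1 D14516 (iv D11291) D11290
theorem F25348 : act 4 n14516 = n11408 := d18_1 D14516 (iv D11408) (iv F20029)
def n14517 : Q := act 6 n11291
theorem D14517 : act 6 n11291 = n14517 := rfl
theorem F25349 : act 0 n14517 = n14510 := d5_1 D14517 (iv F25344) F25342
theorem F25350 : act 4 n14517 = n11409 := d19_1 D14517 (iv D11409) (iv F20031)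
theorem F25351 : act 5 n14517 = n14508 := d20_1 D14517 F25334 D14514 F25344 (iv D14510) F20023 D11291
def n14518 : Q := act 0 n11292
theorem D14518 : act 0 n11292 = n14518 := rfl
theorem F25352 : act 4 n14518 = n11410 := d3_2 (iv F20032) D14518 (iv D11410)
def n14519 : Q := act 2 n11292
theorem D14519 : act 2 n11292 = n14519 := rfl
theorem F25353 : act 4 n14519 = n11411 := d12_2 (iv F20032) D14519 (iv D11411)
def n14520 : Q := act 5 n11292
theorem D14520 : act 5 n11292 = n14520 := rfl
theorem F25354 : act 4 n14520 = n11412 := d18_1 D14520 (iv D11412) (iv F20032)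
def n14521 : Q := act 6 n11292
theorem D14521 : act 6 n11292 = n14521 := rfl
theorem F25355 : act 4 n14521 = n11413 := d19_1 D14521 (iv D11413) (iv F20032)
def n14522 : Q := act 1 n11293
theorem D14522 : act 1 n11293 = n14522 := rfl
theorem F25356 : act 4 n14522 = n11414 := d8_2 (iv F20034) D14522 (iv D11414)
def n14523 : Q := act 3 n11293
theorem D14523 : act 3 n11293 = n14523 := rfl
theorem F25357 : act 0 n14523 = n11295 := d2_1 D14523 (iv D11295) (iv F20033)
def n14524 : Q := act 5 n11293
theorem D14524 : act 5 n11293 = n14524 := rfl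
theorem F25358 : act 0 n14524 = n11296 := d4_1 D14524 (iv D11296) (iv F20033)
theorem F25359 : act 2 n14524 = n11294 := d13_1 D14524 (iv D11294) D11293
theorem F25360 : act 4 n14524 = n11416 := d18_1 D14524 (iv D11416) (iv F20034)
theorem F25361 : act 6 n14524 = n14466 := d22_1 D14524 (iv D14466) F19989 (iv F20033)
def n14525 : Q := act 1 n11294
theorem D14525 : act 1 n11294 = n14525 := rfl
theorem F25362 : act 4 n14525 = n11417 := d8_2 (iv F20036) D14525 (iv D11417)
def n14526 : Q := act 2 n11295
theorem D14526 : act 2 n11295 = n14526 := rfl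
theorem F25363 : act 1 n14526 = n11570 := d6_1 D14526 (iv D11570) F13963 (iv F16766) (iv F20038)
def n14527 : Q := act 4 n11295
theorem D14527 : act 4 n11295 = n14527 := rfl
theorem F25364 : act 1 n14527 = n11305 := d8_1 D14527 (iv D11305) (iv F20038)
theorem F25365 : act 3 n14527 = n11419 := d15_1 D14527 (iv D11419) (iv D9106) (iv F13383) D11295
def n14528 : Q := act 5 n11295
theorem D14528 : act 5 n11295 = n14528 := rfl
theorem F25366 : act 3 n14528 = n11296 := d16_1 D14528 (iv D11296) D11295
def n14529 : Q := act 6 n11296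
theorem D14529 : act 6 n11296 = n14529 := rfl
theorem F25367 : act 0 n14529 = n14466 := d5_1 D14529 (iv F25361) F25358
theorem F25368 : act 2 n14529 = n11298 := d14_1 D14529 (iv D11298) (iv F20039)
theorem F25369 : act 4 n14529 = n11421 := d19_1 D14529 (iv D11421) (iv F20040)
theorem F25370 : act 5 n14529 = n14464 := d20_1 D14529 F25249 D14524 F25361 (iv D14466) F19989 D11296
def n14530 : Q := act 0 n11297
theorem D14530 : act 0 n11297 = n14530 := rfl
theorem F25371 : act 4 n14530 = n11422 := d3_2 (iv F20041) D14530 (iv D11422)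
theorem F25372 : act 5 n14530 = n11299 := d4_2 (iv F20042) D14530 (iv D11299)
def n14531 : Q := act 2 n11297
theorem D14531 : act 2 n11297 = n14531 := rfl
theorem F25373 : act 4 n14531 = n11423 := d12_2 (iv F20041) D14531 (iv D11423)
theorem F25374 : act 5 n14531 = n11300 := d13_2 (iv F20042) D14531 (iv D11300)
def n14532 : Q := act 6 n11297
theorem D14532 : act 6 n11297 = n14532 := rfl
theorem F25375 : act 4 n14532 = n11424 := d19_1 D14532 (iv D11424) (iv F20041)
def n14533 : Q := act 1 n11298
theorem D14533 : act 1 n11298 = n14533 := rfl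
theorem F25376 : act 4 n14533 = n11425 := d8_2 (iv F20044) D14533 (iv D11425)
def n14534 : Q := act 1 n11299
theorem D14534 : act 1 n11299 = n14534 := rfl
theorem F25377 : act 4 n14534 = n11426 := d8_2 (iv F20046) D14534 (iv D11426)
def n14535 : Q := act 2 n11299
theorem D14535 : act 2 n11299 = n14535 := rfl
theorem F25378 : act 0 n14535 = n11300 := d1_1 D14535 (iv D11300) D11299
theorem F25379 : act 4 n14535 = n11427 := d12_2 (iv F20046) D14535 (iv D11427)
def n14536 : Q := act 6 n11299
theorem D14536 : act 6 n11299 = n14536 := rfl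
theorem F25380 : act 0 n14536 = n11301 := d5_1 D14536 (iv D11301) D11299
theorem F25381 : act 4 n14536 = n11428 := d19_1 D14536 (iv D11428) (iv F20046)
theorem F25382 : act 5 n14536 = n14532 := d22_2 F25372 D14536 (iv D14532) D14530
def n14537 : Q := act 3 n11300
theorem D14537 : act 3 n11300 = n14537 := rfl
theorem F25383 : act 1 n14537 = n11307 := d7_1 D14537 (iv D11307) (iv F20047)
def n14538 : Q := act 6 n11300
theorem D14538 : act 6 n11300 = n14538 := rfl
theorem F25384 : act 1 n14538 = n14538 := d10_1 D14538 (iv D14538) F20047 F16191 (iv F20047)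
theorem F25385 : act 2 n14538 = n11301 := d14_1 D14538 (iv D11301) D11300
theorem F25386 : act 4 n14538 = n11430 := d19_1 D14538 (iv D11430) (iv F20048)
def n14539 : Q := act 5 n11301
theorem D14539 : act 5 n11301 = n14539 := rfl
theorem F25387 : act 0 n14539 = n14532 := d4_1 D14539 (iv F25382) F25380
theorem F25388 : act 4 n14539 = n11431 := d18_1 D14539 (iv D11431) (iv F20050)
theorem F25389 : act 6 n14539 = n14530 := d20_2 D11301 D14539 F25372 D14536 F25382 (iv D14532) F20042
def n14540 : Q := act 1 n11303
theorem D14540 : act 1 n11303 = n14540 := rfl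
theorem F25390 : act 2 n14540 = n11591 := d6_2 D11303 D14540 (iv D11591) F14005 (iv F15285)
theorem F25391 : act 4 n14540 = n11434 := d8_2 (iv F20055) D14540 (iv D11434)
def n14541 : Q := act 3 n11303
theorem D14541 : act 3 n11303 = n14541 := rfl
theorem F25392 : act 0 n14541 = n11304 := d2_1 D14541 (iv D11304) (iv F20054)
theorem F25393 : act 5 n14541 = n14541 := d16_2 F20056 D14541 (iv D14541)
def n14542 : Q := act 2 n11304
theorem D14542 : act 2 n11304 = n14542 := rfl
theorem F25394 : act 5 n14542 = n14542 := d13_2 F20057 D14542 (iv D14542)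
def n14543 : Q := act 4 n11304
theorem D14543 : act 4 n11304 = n14543 := rfl
theorem F25395 : act 3 n14543 = n11437 := d15_1 D14543 (iv D11437) (iv D9127) (iv F13399) D11304
theorem F25396 : act 5 n14543 = n14543 := d18_2 F20057 D14543 (iv D14543)
def n14544 : Q := act 1 n11306
theorem D14544 : act 1 n11306 = n14544 := rfl
theorem F25397 : act 2 n14544 = n11581 := d6_2 D11306 D14544 (iv D11581) F13980 (iv F17028)
theorem F25398 : act 4 n14544 = n11440 := d8_2 (iv F20062) D14544 (iv D11440)
def n14545 : Q := act 3 n11306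
theorem D14545 : act 3 n11306 = n14545 := rfl
theorem F25399 : act 0 n14545 = n11307 := d2_1 D14545 (iv D11307) (iv F20061)
theorem F25400 : act 6 n14545 = n14545 := d17_2 F20063 D14545 (iv D14545)
def n14546 : Q := act 2 n11307
theorem D14546 : act 2 n11307 = n14546 := rfl
theorem F25401 : act 6 n14546 = n14546 := d14_2 F20064 D14546 (iv D14546)
def n14547 : Q := act 4 n11307
theorem D14547 : act 4 n11307 = n14547 := rfl
theorem F25402 : act 3 n14547 = n11443 := d15_1 D14547 (iv D11443) (iv D9144) (iv F13416) D11307
theorem F25403 : act 6 n14547 = n14547 := d19_2 F20064 D14547 (iv D14547)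
def n14548 : Q := act 2 n11308
theorem D14548 : act 2 n11308 = n14548 := rfl
theorem F25404 : act 0 n14548 = n11309 := d1_1 D14548 (iv D11309) (iv F20065)
theorem F25405 : act 5 n14548 = n14548 := d13_2 F20067 D14548 (iv D14548)
theorem F25406 : act 3 n14548 = n14542 := d21_1 D14548 (iv D14542) (iv D11304) (iv D8948) F6585 D4330 D8972 (iv F20065)
def n14549 : Q := act 4 n11308
theorem D14549 : act 4 n11308 = n14549 := rfl
theorem F25408 : act 1 n14549 = n12335 := d8_1 D14549 (iv D12335) (iv F20066)
def n14550 : Q := act 1 n11309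
theorem D14550 : act 1 n11309 = n14550 := rfl
theorem F25411 : act 2 n14550 = n14550 := d6_2 D11309 D14550 (iv D14550) (iv D11309) F13447
def n14551 : Q := act 3 n11309
theorem D14551 : act 3 n11309 = n14551 := rfl
theorem F25412 : act 0 n14551 = n14542 := d2_1 D14551 (iv F25406) F25404
theorem F25413 : act 2 n14551 = n14541 := d11_1 D14551 (iv D14541) (iv D11303) F13397 D8971 D11308 D14548 F25406 (iv D14542) (iv D11304) (iv D8948) F6585 D4330 D8972 D11309
theorem F25414 : act 5 n14551 = n14551 := d16_2 F20068 D14551 (iv D14551)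
def n14552 : Q := act 4 n11309
theorem D14552 : act 4 n11309 = n14552 := rfl
theorem F25415 : act 2 n14552 = n11310 := d12_1 D14552 (iv D11310) D11309
def n14553 : Q := act 2 n11311
theorem D14553 : act 2 n11311 = n14553 := rfl
theorem F25417 : act 0 n14553 = n11312 := d1_1 D14553 (iv D11312) (iv F20072)
theorem F25418 : act 6 n14553 = n14553 := d14_2 F20074 D14553 (iv D14553)
theorem F25419 : act 3 n14553 = n14546 := d21_1 D14553 (iv D14546) (iv D11307) (iv D8956) F6594 D4338 D8989 (iv F20072)
def n14554 : Q := act 4 n11311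
theorem D14554 : act 4 n11311 = n14554 := rfl
def n14555 : Q := act 1 n11312
theorem D14555 : act 1 n11312 = n14555 := rfl
theorem F25424 : act 2 n14555 = n14555 := d6_2 D11312 D14555 (iv D14555) (iv D11312) F13481
def n14556 : Q := act 3 n11312
theorem D14556 : act 3 n11312 = n14556 := rfl
theorem F25425 : act 0 n14556 = n14546 := d2_1 D14556 (iv F25419) F25417
theorem F25426 : act 2 n14556 = n14545 := d11_1 D14556 (iv D14545) (iv D11306) F13414 D8988 D11311 D14553 F25419 (iv D14546) (iv D11307) (iv D8956) F6594 D4338 D8989 D11312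
theorem F25427 : act 6 n14556 = n14556 := d17_2 F20075 D14556 (iv D14556)
def n14557 : Q := act 4 n11312
theorem D14557 : act 4 n11312 = n14557 := rfl
theorem F25428 : act 2 n14557 = n11313 := d12_1 D14557 (iv D11313) D11312
def n14566 : Q := act 0 n11320
theorem D14566 : act 0 n11320 = n14566 := rfl
theorem F25447 : act 3 n14566 = n11322 := d2_2 (iv F20091) D14566 (iv D11322)
theorem F25448 : act 4 n14566 = n11328 := d3_2 (iv F20092) D14566 (iv D11328)
theorem F25449 : act 5 n14566 = n11360 := d4_2 (iv F20093) D14566 (iv D11360)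
def n14567 : Q := act 2 n11320
theorem D14567 : act 2 n11320 = n14567 := rfl
theorem F25450 : act 1 n14567 = n11329 := d6_1 D14567 (iv D11329) (iv D9060) (iv F13563) D11320
theorem F25451 : act 4 n14567 = n11329 := d12_2 (iv F20092) D14567 (iv D11329)
theorem F25452 : act 5 n14567 = n11361 := d13_2 (iv F20093) D14567 (iv D11361)
def n14568 : Q := act 6 n11320
theorem D14568 : act 6 n11320 = n14568 := rfl
theorem F25453 : act 3 n14568 = n11324 := d17_1 D14568 (iv D11324) (iv F20091)
theorem F25454 : act 4 n14568 = n11330 := d19_1 D14568 (iv D11330) (iv F20092)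
def n14569 : Q := act 0 n11321
theorem D14569 : act 0 n11321 = n14569 := rfl
theorem F25456 : act 4 n14569 = n11332 := d3_2 (iv F20095) D14569 (iv D11332)
theorem F25457 : act 6 n14569 = n11364 := d5_2 (iv F20096) D14569 (iv D11364)
def n14570 : Q := act 2 n11321
theorem D14570 : act 2 n11321 = n14570 := rfl
theorem F25458 : act 1 n14570 = n11333 := d6_1 D14570 (iv D11333) (iv D9062) (iv F13566) D11321
theorem F25459 : act 4 n14570 = n11333 := d12_2 (iv F20095) D14570 (iv D11333)
theorem F25460 : act 6 n14570 = n11365 := d14_2 (iv F20096) D14570 (iv D11365)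
def n14571 : Q := act 5 n11321
theorem D14571 : act 5 n11321 = n14571 := rfl
theorem F25461 : act 3 n14571 = n11327 := d16_1 D14571 (iv D11327) (iv F20094)
theorem F25462 : act 4 n14571 = n11334 := d18_1 D14571 (iv D11334) (iv F20095)
def n14572 : Q := act 1 n11322
theorem D14572 : act 1 n11322 = n14572 := rfl
theorem F25463 : act 2 n14572 = n12502 := d6_2 F20104 D14572 (iv D12502) F18027 (iv F17989)
def n14573 : Q := act 6 n11322
theorem D14573 : act 6 n11322 = n14573 := rfl
theorem F25464 : act 0 n14573 = n11324 := d5_1 D14573 (iv D11324) D11322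
theorem F25465 : act 2 n14573 = n12421 := d14_1 D14573 (iv D12421) F20104
theorem F25466 : act 4 n14573 = n14482 := d19_1 D14573 F25295 F25214
theorem F25467 : act 5 n14573 = n14471 := d20_1 D14573 (iv D14471) F19995 D11324 (iv F21876) (iv D12420) (iv F20097)
def n14574 : Q := act 1 n11325
theorem D14574 : act 1 n11325 = n14574 := rfl
def n14575 : Q := act 2 n11325
theorem D14575 : act 2 n11325 = n14575 := rfl
def n14576 : Q := act 5 n11325
theorem D14576 : act 5 n11325 = n14576 := rfl
theorem F25469 : act 0 n14576 = n11327 := d4_1 D14576 (iv D11327) D11325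
theorem F25470 : act 4 n14576 = n14492 := d18_1 D14576 F25309 F25224
theorem F25471 : act 6 n14576 = n14475 := d22_1 D14576 (iv D14475) F20001 D11325
def n14577 : Q := act 3 n11326
theorem D14577 : act 3 n11326 = n14577 := rfl
def n14578 : Q := act 5 n11326
theorem D14578 : act 5 n11326 = n14578 := rfl
theorem F25473 : act 2 n14578 = n11327 := d13_1 D14578 (iv D11327) D11326
def n14579 : Q := act 6 n11327
theorem D14579 : act 6 n11327 = n14579 := rfl
theorem F25475 : act 4 n14579 = n14488 := d19_1 D14579 F25303 F25230
theorem F25476 : act 5 n14579 = n14473 := d20_1 D14579 F25272 D14576 F25471 (iv D14475) F20001 D11327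
def n14580 : Q := act 1 n11328
theorem D14580 : act 1 n11328 = n14580 := rfl
theorem F25477 : act 3 n14580 = n11336 := d7_2 (iv F20113) D14580 (iv D11336)
def n14581 : Q := act 2 n11328
theorem D14581 : act 2 n11328 = n14581 := rfl
theorem F25478 : act 0 n14581 = n11329 := d1_1 D14581 (iv D11329) D11328
theorem F25479 : act 5 n14581 = n11369 := d13_2 (iv F20114) D14581 (iv D11369)
def n14582 : Q := act 3 n11329
theorem D14582 : act 3 n11329 = n14582 := rfl
theorem F25480 : act 5 n14582 = n11371 := d16_2 (iv F20115) D14582 (iv D11371)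
def n14583 : Q := act 6 n11329
theorem D14583 : act 6 n11329 = n14583 := rfl
theorem F25481 : act 2 n14583 = n11330 := d14_1 D14583 (iv D11330) D11329
def n14584 : Q := act 1 n11330
theorem D14584 : act 1 n11330 = n14584 := rfl
theorem F25482 : act 3 n14584 = n11340 := d7_2 (iv F20116) D14584 (iv D11340)
theorem F25483 : act 6 n14584 = n11331 := d10_2 D11330 D14584 (iv D11331) (iv D9061) D9060
def n14585 : Q := act 0 n11331
theorem D14585 : act 0 n11331 = n14585 := rfl
theorem F25484 : act 3 n14585 = n11341 := d2_2 (iv F20117) D14585 (iv D11341)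
def n14586 : Q := act 2 n11331
theorem D14586 : act 2 n11331 = n14586 := rfl
def n14587 : Q := act 5 n11331
theorem D14587 : act 5 n11331 = n14587 := rfl
theorem F25485 : act 1 n14587 = n14571 := d9_1 D14587 (iv D14571) (iv D11321) (iv F13573) D11331
theorem F25486 : act 3 n14587 = n11343 := d16_1 D14587 (iv D11343) (iv F20117)
def n14588 : Q := act 1 n11332
theorem D14588 : act 1 n11332 = n14588 := rfl
theorem F25487 : act 3 n14588 = n11344 := d7_2 (iv F20118) D14588 (iv D11344)
def n14589 : Q := act 2 n11332
theorem D14589 : act 2 n11332 = n14589 := rfl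
theorem F25489 : act 6 n14589 = n11379 := d14_2 (iv F20119) D14589 (iv D11379)
def n14590 : Q := act 3 n11333
theorem D14590 : act 3 n11333 = n14590 := rfl
theorem F25490 : act 6 n14590 = n11381 := d17_2 (iv F20120) D14590 (iv D11381)
def n14591 : Q := act 5 n11333
theorem D14591 : act 5 n11333 = n14591 := rfl
theorem F25491 : act 2 n14591 = n11334 := d13_1 D14591 (iv D11334) D11333
def n14592 : Q := act 1 n11334
theorem D14592 : act 1 n11334 = n14592 := rfl
theorem F25492 : act 3 n14592 = n11348 := d7_2 (iv F20121) D14592 (iv D11348)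
theorem F25493 : act 4 n14592 = n14587 := d8_2 F25462 D14592 F25485
theorem F25494 : act 5 n14592 = n11335 := d9_2 D11334 D14592 (iv D11335) (iv D9063) D9062
def n14593 : Q := act 0 n11335
theorem D14593 : act 0 n11335 = n14593 := rfl
theorem F25495 : act 3 n14593 = n11349 := d2_2 (iv F20122) D14593 (iv D11349)
theorem F25496 : act 4 n14593 = n14585 := d3_2 (iv F20123) D14593 (iv D14585)
def n14594 : Q := act 2 n11335
theorem D14594 : act 2 n11335 = n14594 := rfl
theorem F25497 : act 1 n14594 = n14586 := d6_1 D14594 (iv D14586) (iv D11331) (iv F13577) D11335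
theorem F25498 : act 4 n14594 = n14586 := d12_2 (iv F20123) D14594 (iv D14586)
def n14595 : Q := act 6 n11335
theorem D14595 : act 6 n11335 = n14595 := rfl
theorem F25499 : act 1 n14595 = n14568 := d10_1 D14595 (iv D14568) (iv D11320) (iv F13579) D11335
theorem F25500 : act 3 n14595 = n11351 := d17_1 D14595 (iv D11351) (iv F20122)
theorem F25501 : act 4 n14595 = n14584 := d19_1 D14595 F25483 (iv F20123)
def n14596 : Q := act 0 n11336
theorem D14596 : act 0 n11336 = n14596 := rfl
def n14597 : Q := act 2 n11336
theorem D14597 : act 2 n11336 = n14597 := rfl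
theorem F25502 : act 5 n14596 = n14597 := d23_0 (iv D14597) (iv D11336) (iv D9064) F6688 D4396 F6713 F17117 (iv F17116) (iv D2237) F14720 (iv D1092) (iv F1805) D2113 (iv F6713) (iv F13614) (iv F20125) (iv D11337) D11336 D14596
def n14598 : Q := act 5 n11336
theorem D14598 : act 5 n11336 = n14598 := rfl
theorem F25504 : act 1 n14598 = n11390 := d9_1 D14598 (iv D11390) (iv D9093) (iv F13580) D11336
theorem F25505 : act 2 n14598 = n14596 := d13_1 D14598 F25502 (iv D14597)
def n14599 : Q := act 6 n11336
theorem D14599 : act 6 n11336 = n14599 := rfl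
def n14600 : Q := act 1 n11337
theorem D14600 : act 1 n11337 = n14600 := rfl
def n14601 : Q := act 3 n11337
theorem D14601 : act 3 n11337 = n14601 := rfl
theorem F25506 : act 0 n14601 = n11338 := d2_1 D14601 (iv D11338) (iv F20124)
theorem F25507 : act 5 n14601 = n11393 := d16_2 (iv F20125) D14601 (iv D11393)
def n14602 : Q := act 2 n11338
theorem D14602 : act 2 n11338 = n14602 := rfl
theorem F25508 : act 5 n14602 = n11396 := d13_2 (iv F20127) D14602 (iv D11396)
def n14603 : Q := act 4 n11338
theorem D14603 : act 4 n11338 = n14603 := rfl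
theorem F25509 : act 1 n14603 = n11634 := d8_1 D14603 (iv D11634) (iv F20126)
theorem F25510 : act 5 n14603 = n11397 := d18_2 (iv F20127) D14603 (iv D11397)
def n14604 : Q := act 6 n11338
theorem D14604 : act 6 n11338 = n14604 := rfl
theorem F25511 : act 3 n14604 = n11339 := d17_1 D14604 (iv D11339) D11338
def n14605 : Q := act 1 n11339
theorem D14605 : act 1 n11339 = n14605 := rfl
theorem F25512 : act 6 n14605 = n11636 := d10_2 D11339 D14605 (iv D11636) (iv D9560) (iv F13581)
def n14606 : Q := act 0 n11340
theorem D14606 : act 0 n11340 = n14606 := rfl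
theorem F25513 : act 6 n14606 = n11341 := d5_2 (iv F20129) D14606 (iv D11341)
def n14607 : Q := act 2 n11340
theorem D14607 : act 2 n11340 = n14607 := rfl
theorem F25514 : act 6 n14607 = n11342 := d14_2 (iv F20129) D14607 (iv D11342)
def n14608 : Q := act 5 n11340
theorem D14608 : act 5 n11340 = n14608 := rfl
def n14609 : Q := act 1 n11341
theorem D14609 : act 1 n11341 = n14609 := rfl
def n14610 : Q := act 2 n11341
theorem D14610 : act 2 n11341 = n14610 := rfl
theorem F25515 : act 0 n14610 = n11342 := d1_1 D14610 (iv D11342) D11341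
def n14611 : Q := act 5 n11341
theorem D14611 : act 5 n11341 = n14611 := rfl
theorem F25516 : act 0 n14611 = n11343 := d4_1 D14611 (iv D11343) D11341
theorem F25517 : act 6 n14611 = n14608 := d22_1 D14611 (iv D14608) F20129 D11341
def n14612 : Q := act 3 n11342
theorem D14612 : act 3 n11342 = n14612 := rfl
theorem F25518 : act 1 n14612 = n11643 := d7_1 D14612 (iv D11643) (iv F20130)
def n14613 : Q := act 5 n11342
theorem D14613 : act 5 n11342 = n14613 := rfl
theorem F25519 : act 2 n14613 = n11343 := d13_1 D14613 (iv D11343) D11342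
def n14614 : Q := act 6 n11343
theorem D14614 : act 6 n11343 = n14614 := rfl
theorem F25520 : act 0 n14614 = n14608 := d5_1 D14614 (iv F25517) F25516
theorem F25521 : act 5 n14614 = n14606 := d20_1 D14614 F25513 D14611 F25517 (iv D14608) F20129 D11343
def n14615 : Q := act 0 n11344
theorem D14615 : act 0 n11344 = n14615 := rfl
def n14616 : Q := act 2 n11344
theorem D14616 : act 2 n11344 = n14616 := rfl
def n14617 : Q := act 5 n11344
theorem D14617 : act 5 n11344 = n14617 := rfl
def n14618 : Q := act 6 n11344
theorem D14618 : act 6 n11344 = n14618 := rfl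
theorem F25522 : act 1 n14618 = n11413 := d10_1 D14618 (iv D11413) (iv D9103) (iv F13583) D11344
def n14619 : Q := act 1 n11345
theorem D14619 : act 1 n11345 = n14619 := rfl
def n14620 : Q := act 3 n11345
theorem D14620 : act 3 n11345 = n14620 := rfl
theorem F25523 : act 0 n14620 = n11346 := d2_1 D14620 (iv D11346) (iv F20132)
theorem F25524 : act 6 n14620 = n11415 := d17_2 (iv F20133) D14620 (iv D11415)
def n14621 : Q := act 2 n11346
theorem D14621 : act 2 n11346 = n14621 := rfl
theorem F25525 : act 6 n14621 = n11418 := d14_2 (iv F20135) D14621 (iv D11418)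
def n14622 : Q := act 4 n11346
theorem D14622 : act 4 n11346 = n14622 := rfl
theorem F25526 : act 1 n14622 = n11653 := d8_1 D14622 (iv D11653) (iv F20134)
theorem F25527 : act 6 n14622 = n11419 := d19_2 (iv F20135) D14622 (iv D11419)
def n14623 : Q := act 5 n11346
theorem D14623 : act 5 n11346 = n14623 := rfl
theorem F25528 : act 3 n14623 = n11347 := d16_1 D14623 (iv D11347) D11346
def n14624 : Q := act 1 n11347
theorem D14624 : act 1 n11347 = n14624 := rfl
theorem F25529 : act 5 n14624 = n11655 := d9_2 D11347 D14624 (iv D11655) (iv D9568) (iv F13584)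
def n14625 : Q := act 0 n11348
theorem D14625 : act 0 n11348 = n14625 := rfl
theorem F25530 : act 5 n14625 = n11349 := d4_2 (iv F20137) D14625 (iv D11349)
def n14626 : Q := act 2 n11348
theorem D14626 : act 2 n11348 = n14626 := rfl
theorem F25531 : act 5 n14626 = n11350 := d13_2 (iv F20137) D14626 (iv D11350)
def n14627 : Q := act 6 n11348
theorem D14627 : act 6 n11348 = n14627 := rfl
def n14628 : Q := act 1 n11349
theorem D14628 : act 1 n11349 = n14628 := rfl
def n14629 : Q := act 2 n11349
theorem D14629 : act 2 n11349 = n14629 := rfl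
theorem F25532 : act 0 n14629 = n11350 := d1_1 D14629 (iv D11350) D11349
def n14630 : Q := act 6 n11349
theorem D14630 : act 6 n11349 = n14630 := rfl
theorem F25533 : act 0 n14630 = n11351 := d5_1 D14630 (iv D11351) D11349
theorem F25534 : act 5 n14630 = n14627 := d22_2 F25530 D14630 (iv D14627) D14625
def n14631 : Q := act 3 n11350
theorem D14631 : act 3 n11350 = n14631 := rfl
theorem F25535 : act 1 n14631 = n11662 := d7_1 D14631 (iv D11662) (iv F20138)
def n14632 : Q := act 6 n11350
theorem D14632 : act 6 n11350 = n14632 := rfl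
theorem F25536 : act 2 n14632 = n11351 := d14_1 D14632 (iv D11351) D11350
def n14633 : Q := act 5 n11351
theorem D14633 : act 5 n11351 = n14633 := rfl
theorem F25537 : act 0 n14633 = n14627 := d4_1 D14633 (iv F25534) F25533
theorem F25538 : act 6 n14633 = n14625 := d20_2 D11351 D14633 F25530 D14630 F25534 (iv D14627) F20137
def n14634 : Q := act 0 n11352
theorem D14634 : act 0 n11352 = n14634 := rfl
theorem F25539 : act 3 n14634 = n13384 := d2_2 (iv F20140) D14634 (iv D13384)
theorem F25540 : act 4 n14634 = n11354 := d3_2 (iv F20141) D14634 (iv D11354)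
theorem F25541 : act 5 n14634 = n11354 := d4_2 (iv F20142) D14634 (iv D11354)
def n14635 : Q := act 2 n11352
theorem D14635 : act 2 n11352 = n14635 := rfl
theorem F25542 : act 1 n14635 = n11361 := d6_1 D14635 (iv D11361) (iv D9081) (iv F16024) D11352
theorem F25543 : act 4 n14635 = n11355 := d12_2 (iv F20141) D14635 (iv D11355)
theorem F25544 : act 5 n14635 = n11355 := d13_2 (iv F20142) D14635 (iv D11355)
def n14636 : Q := act 6 n11352
theorem D14636 : act 6 n11352 = n14636 := rfl
theorem F25545 : act 3 n14636 = n13386 := d17_1 D14636 (iv D13386) (iv F20140)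
theorem F25546 : act 4 n14636 = n11356 := d19_1 D14636 (iv D11356) (iv F20141)
def n14637 : Q := act 0 n11353
theorem D14637 : act 0 n11353 = n14637 := rfl
theorem F25547 : act 3 n14637 = n13388 := d2_2 (iv F20143) D14637 (iv D13388)
theorem F25548 : act 4 n14637 = n11357 := d3_2 (iv F20144) D14637 (iv D11357)
theorem F25549 : act 6 n14637 = n11357 := d5_2 (iv F20145) D14637 (iv D11357)
def n14638 : Q := act 2 n11353
theorem D14638 : act 2 n11353 = n14638 := rfl
theorem F25550 : act 1 n14638 = n11365 := d6_1 D14638 (iv D11365) (iv D9083) (iv F16027) D11353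
theorem F25551 : act 4 n14638 = n11358 := d12_2 (iv F20144) D14638 (iv D11358)
theorem F25552 : act 6 n14638 = n11358 := d14_2 (iv F20145) D14638 (iv D11358)
def n14639 : Q := act 5 n11353
theorem D14639 : act 5 n11353 = n14639 := rfl
theorem F25553 : act 3 n14639 = n13390 := d16_1 D14639 (iv D13390) (iv F20143)
theorem F25554 : act 4 n14639 = n11359 := d18_1 D14639 (iv D11359) (iv F20144)
def n14640 : Q := act 1 n11354
theorem D14640 : act 1 n11354 = n14640 := rfl
theorem F25555 : act 3 n14640 = n13392 := d7_2 (iv F20146) D14640 (iv D13392)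
def n14641 : Q := act 2 n11354
theorem D14641 : act 2 n11354 = n14641 := rfl
theorem F25556 : act 0 n14641 = n11355 := d1_1 D14641 (iv D11355) D11354
def n14642 : Q := act 6 n11354
theorem D14642 : act 6 n11354 = n14642 := rfl
theorem F25557 : act 0 n14642 = n11356 := d5_1 D14642 (iv D11356) D11354
theorem F25558 : act 3 n14642 = n13394 := d17_1 D14642 (iv D13394) (iv F20146)
theorem F25559 : act 5 n14642 = n14636 := d22_2 F25541 D14642 (iv D14636) D14634
def n14643 : Q := act 3 n11355
theorem D14643 : act 3 n11355 = n14643 := rfl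
theorem F25560 : act 1 n14643 = n11371 := d7_1 D14643 (iv D11371) (iv F20147)
def n14644 : Q := act 6 n11355
theorem D14644 : act 6 n11355 = n14644 := rfl
theorem F25561 : act 2 n14644 = n11356 := d14_1 D14644 (iv D11356) D11355
def n14645 : Q := act 5 n11356
theorem D14645 : act 5 n11356 = n14645 := rfl
theorem F25562 : act 0 n14645 = n14636 := d4_1 D14645 (iv F25559) F25557
theorem F25563 : act 3 n14645 = n13397 := d16_1 D14645 (iv D13397) (iv F20148)
theorem F25564 : act 4 n14645 = n14642 := d18_1 D14645 F25559 F25546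
theorem F25565 : act 6 n14645 = n14634 := d20_2 D11356 D14645 F25541 D14642 F25559 (iv D14636) F20142
def n14646 : Q := act 1 n11357
theorem D14646 : act 1 n11357 = n14646 := rfl
theorem F25566 : act 3 n14646 = n13398 := d7_2 (iv F20149) D14646 (iv D13398)
def n14647 : Q := act 2 n11357
theorem D14647 : act 2 n11357 = n14647 := rfl
theorem F25567 : act 0 n14647 = n11358 := d1_1 D14647 (iv D11358) D11357
def n14648 : Q := act 5 n11357
theorem D14648 : act 5 n11357 = n14648 := rfl
theorem F25568 : act 0 n14648 = n11359 := d4_1 D14648 (iv D11359) D11357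
theorem F25569 : act 3 n14648 = n13400 := d16_1 D14648 (iv D13400) (iv F20149)
theorem F25570 : act 6 n14648 = n14639 := d22_1 D14648 (iv D14639) F20145 D11357
def n14649 : Q := act 3 n11358
theorem D14649 : act 3 n11358 = n14649 := rfl
theorem F25571 : act 1 n14649 = n11381 := d7_1 D14649 (iv D11381) (iv F20150)
def n14650 : Q := act 5 n11358
theorem D14650 : act 5 n11358 = n14650 := rfl
theorem F25572 : act 2 n14650 = n11359 := d13_1 D14650 (iv D11359) D11358
def n14651 : Q := act 6 n11359
theorem D14651 : act 6 n11359 = n14651 := rfl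
theorem F25573 : act 0 n14651 = n14639 := d5_1 D14651 (iv F25570) F25568
theorem F25574 : act 3 n14651 = n13403 := d17_1 D14651 (iv D13403) (iv F20151)
theorem F25575 : act 4 n14651 = n14648 := d19_1 D14651 F25570 F25554
theorem F25576 : act 5 n14651 = n14637 := d20_1 D14651 F25549 D14648 F25570 (iv D14639) F20145 D11359
def n14652 : Q := act 1 n11360
theorem D14652 : act 1 n11360 = n14652 := rfl
theorem F25577 : act 3 n14652 = n12419 := d7_2 (iv F20152) D14652 (iv D12419)
theorem F25578 : act 4 n14652 = n11368 := d8_2 (iv F20153) D14652 (iv D11368)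
def n14653 : Q := act 2 n11360
theorem D14653 : act 2 n11360 = n14653 := rfl
theorem F25579 : act 0 n14653 = n11361 := d1_1 D14653 (iv D11361) D11360
theorem F25580 : act 4 n14653 = n11369 := d12_2 (iv F20153) D14653 (iv D11369)
def n14654 : Q := act 6 n11360
theorem D14654 : act 6 n11360 = n14654 := rfl
theorem F25581 : act 0 n14654 = n11362 := d5_1 D14654 (iv D11362) D11360
theorem F25582 : act 3 n14654 = n12420 := d17_1 D14654 (iv D12420) (iv F20152)
theorem F25583 : act 4 n14654 = n11370 := d19_1 D14654 (iv D11370) (iv F20153)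
theorem F25584 : act 5 n14654 = n14568 := d22_2 F25449 D14654 (iv D14568) D14566
def n14655 : Q := act 3 n11361
theorem D14655 : act 3 n11361 = n14655 := rfl
def n14656 : Q := act 6 n11361
theorem D14656 : act 6 n11361 = n14656 := rfl
theorem F25585 : act 2 n14656 = n11362 := d14_1 D14656 (iv D11362) D11361
theorem F25586 : act 4 n14656 = n11372 := d19_1 D14656 (iv D11372) (iv F20154)
def n14657 : Q := act 1 n11362
theorem D14657 : act 1 n11362 = n14657 := rfl
theorem F25587 : act 4 n14657 = n11373 := d8_2 (iv F20155) D14657 (iv D11373)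
theorem F25588 : act 6 n14657 = n11363 := d10_2 D11362 D14657 (iv D11363) (iv D9082) D9081
def n14658 : Q := act 5 n11362
theorem D14658 : act 5 n11362 = n14658 := rfl
theorem F25589 : act 0 n14658 = n14568 := d4_1 D14658 (iv F25584) F25581
theorem F25590 : act 3 n14658 = n14573 := d16_1 D14658 F25467 F25266
theorem F25591 : act 4 n14658 = n11374 := d18_1 D14658 (iv D11374) (iv F20155)
theorem F25592 : act 6 n14658 = n14566 := d20_2 D11362 D14658 F25449 D14654 F25584 (iv D14568) F20093
def n14659 : Q := act 0 n11363
theorem D14659 : act 0 n11363 = n14659 := rfl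
theorem F25593 : act 4 n14659 = n11375 := d3_2 (iv F20156) D14659 (iv D11375)
def n14660 : Q := act 2 n11363
theorem D14660 : act 2 n11363 = n14660 := rfl
theorem F25594 : act 4 n14660 = n11376 := d12_2 (iv F20156) D14660 (iv D11376)
def n14661 : Q := act 5 n11363
theorem D14661 : act 5 n11363 = n14661 := rfl
theorem F25595 : act 1 n14661 = n14424 := d9_1 D14661 (iv D14424) (iv D11247) (iv F13603) D11363
theorem F25596 : act 4 n14661 = n11377 := d18_1 D14661 (iv D11377) (iv F20156)
def n14662 : Q := act 1 n11364
theorem D14662 : act 1 n11364 = n14662 := rfl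
theorem F25597 : act 4 n14662 = n11378 := d8_2 (iv F20157) D14662 (iv D11378)
def n14663 : Q := act 2 n11364
theorem D14663 : act 2 n11364 = n14663 := rfl
theorem F25598 : act 0 n14663 = n11365 := d1_1 D14663 (iv D11365) D11364
theorem F25599 : act 4 n14663 = n11379 := d12_2 (iv F20157) D14663 (iv D11379)
def n14664 : Q := act 5 n11364
theorem D14664 : act 5 n11364 = n14664 := rfl
theorem F25600 : act 0 n14664 = n11366 := d4_1 D14664 (iv D11366) D11364
theorem F25602 : act 4 n14664 = n11380 := d18_1 D14664 (iv D11380) (iv F20157)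
theorem F25603 : act 6 n14664 = n14571 := d22_1 D14664 (iv D14571) F20096 D11364
def n14665 : Q := act 3 n11365
theorem D14665 : act 3 n11365 = n14665 := rfl
def n14666 : Q := act 5 n11365
theorem D14666 : act 5 n11365 = n14666 := rfl
theorem F25604 : act 2 n14666 = n11366 := d13_1 D14666 (iv D11366) D11365
theorem F25605 : act 4 n14666 = n11382 := d18_1 D14666 (iv D11382) (iv F20158)
def n14667 : Q := act 1 n11366
theorem D14667 : act 1 n11366 = n14667 := rfl
theorem F25606 : act 4 n14667 = n11383 := d8_2 (iv F20159) D14667 (iv D11383)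
theorem F25607 : act 5 n14667 = n11367 := d9_2 D11366 D14667 (iv D11367) (iv D9084) D9083
def n14668 : Q := act 6 n11366
theorem D14668 : act 6 n11366 = n14668 := rfl
theorem F25608 : act 0 n14668 = n14571 := d5_1 D14668 (iv F25603) F25600
theorem F25610 : act 4 n14668 = n11384 := d19_1 D14668 (iv D11384) (iv F20159)
theorem F25611 : act 5 n14668 = n14569 := d20_1 D14668 F25457 D14664 F25603 (iv D14571) F20096 D11366
def n14669 : Q := act 0 n11367
theorem D14669 : act 0 n11367 = n14669 := rfl
theorem F25612 : act 4 n14669 = n11385 := d3_2 (iv F20160) D14669 (iv D11385)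
def n14670 : Q := act 2 n11367
theorem D14670 : act 2 n11367 = n14670 := rfl
theorem F25613 : act 4 n14670 = n11386 := d12_2 (iv F20160) D14670 (iv D11386)
def n14671 : Q := act 6 n11367
theorem D14671 : act 6 n11367 = n14671 := rfl
theorem F25614 : act 1 n14671 = n14421 := d10_1 D14671 (iv D14421) (iv D11246) (iv F13607) D11367
theorem F25615 : act 4 n14671 = n11387 := d19_1 D14671 (iv D11387) (iv F20160)
def n14672 : Q := act 0 n11368
theorem D14672 : act 0 n11368 = n14672 := rfl
theorem F25616 : act 3 n14672 = n11388 := d2_2 (iv F20161) D14672 (iv D11388)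
def n14673 : Q := act 2 n11368
theorem D14673 : act 2 n11368 = n14673 := rfl
def n14674 : Q := act 5 n11368
theorem D14674 : act 5 n11368 = n14674 := rfl
theorem F25617 : act 3 n14674 = n11390 := d16_1 D14674 (iv D11390) (iv F20161)
def n14675 : Q := act 6 n11368
theorem D14675 : act 6 n11368 = n14675 := rfl
theorem F25618 : act 3 n14675 = n11391 := d17_1 D14675 (iv D11391) (iv F20161)
def n14676 : Q := act 1 n11369
theorem D14676 : act 1 n11369 = n14676 := rfl
def n14677 : Q := act 3 n11369
theorem D14677 : act 3 n11369 = n14677 := rfl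
theorem F25619 : act 0 n14677 = n11371 := d2_1 D14677 (iv D11371) (iv F20162)
def n14678 : Q := act 6 n11369
theorem D14678 : act 6 n11369 = n14678 := rfl
theorem F25620 : act 0 n14678 = n11372 := d5_1 D14678 (iv D11372) (iv F20162)
theorem F25621 : act 2 n14678 = n11370 := d14_1 D14678 (iv D11370) D11369
theorem F25622 : act 5 n14678 = n14583 := d22_2 F25479 D14678 (iv D14583) (iv F25478)
def n14679 : Q := act 1 n11370
theorem D14679 : act 1 n11370 = n14679 := rfl
theorem F25623 : act 3 n14679 = n11395 := d7_2 (iv F20164) D14679 (iv D11395)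
def n14680 : Q := act 2 n11371
theorem D14680 : act 2 n11371 = n14680 := rfl
def n14681 : Q := act 4 n11371
theorem D14681 : act 4 n11371 = n14681 := rfl
def n14682 : Q := act 6 n11371
theorem D14682 : act 6 n11371 = n14682 := rfl
theorem F25624 : act 3 n14682 = n11372 := d17_1 D14682 (iv D11372) D11371
def n14683 : Q := act 1 n11372
theorem D14683 : act 1 n11372 = n14683 := rfl
def n14684 : Q := act 5 n11372
theorem D14684 : act 5 n11372 = n14684 := rfl
theorem F25625 : act 0 n14684 = n14583 := d4_1 D14684 (iv F25622) F25620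
theorem F25626 : act 2 n14684 = n11374 := d13_1 D14684 (iv D11374) (iv F20166)
theorem F25627 : act 6 n14684 = n14581 := d20_2 D11372 D14684 F25479 D14678 F25622 (iv D14583) F20115
def n14685 : Q := act 0 n11373
theorem D14685 : act 0 n11373 = n14685 := rfl
theorem F25628 : act 3 n14685 = n11400 := d2_2 (iv F20167) D14685 (iv D11400)
theorem F25629 : act 6 n14685 = n11375 := d5_2 (iv F20168) D14685 (iv D11375)
def n14686 : Q := act 2 n11373
theorem D14686 : act 2 n11373 = n14686 := rfl
theorem F25630 : act 6 n14686 = n11376 := d14_2 (iv F20168) D14686 (iv D11376)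
def n14687 : Q := act 5 n11373
theorem D14687 : act 5 n11373 = n14687 := rfl
theorem F25631 : act 3 n14687 = n11402 := d16_1 D14687 (iv D11402) (iv F20167)
def n14688 : Q := act 1 n11374
theorem D14688 : act 1 n11374 = n14688 := rfl
theorem F25632 : act 3 n14688 = n11403 := d7_2 (iv F20170) D14688 (iv D11403)
def n14689 : Q := act 1 n11375
theorem D14689 : act 1 n11375 = n14689 := rfl
theorem F25633 : act 3 n14689 = n11404 := d7_2 (iv F20172) D14689 (iv D11404)
def n14690 : Q := act 2 n11375
theorem D14690 : act 2 n11375 = n14690 := rfl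
theorem F25634 : act 0 n14690 = n11376 := d1_1 D14690 (iv D11376) D11375
def n14691 : Q := act 5 n11375
theorem D14691 : act 5 n11375 = n14691 := rfl
theorem F25635 : act 0 n14691 = n11377 := d4_1 D14691 (iv D11377) D11375
theorem F25636 : act 3 n14691 = n11406 := d16_1 D14691 (iv D11406) (iv F20172)
theorem F25637 : act 6 n14691 = n14687 := d22_1 D14691 (iv D14687) F20168 D11375
def n14692 : Q := act 3 n11376
theorem D14692 : act 3 n11376 = n14692 := rfl
def n14693 : Q := act 5 n11376
theorem D14693 : act 5 n11376 = n14693 := rfl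
theorem F25638 : act 2 n14693 = n11377 := d13_1 D14693 (iv D11377) D11376
def n14694 : Q := act 6 n11377
theorem D14694 : act 6 n11377 = n14694 := rfl
theorem F25639 : act 0 n14694 = n14687 := d5_1 D14694 (iv F25637) F25635
theorem F25640 : act 3 n14694 = n11409 := d17_1 D14694 (iv D11409) (iv F20174)
theorem F25641 : act 5 n14694 = n14685 := d20_1 D14694 F25629 D14691 F25637 (iv D14687) F20168 D11377
def n14695 : Q := act 0 n11378
theorem D14695 : act 0 n11378 = n14695 := rfl
theorem F25642 : act 3 n14695 = n11410 := d2_2 (iv F20175) D14695 (iv D11410)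
def n14696 : Q := act 2 n11378
theorem D14696 : act 2 n11378 = n14696 := rfl
def n14697 : Q := act 5 n11378
theorem D14697 : act 5 n11378 = n14697 := rfl
theorem F25643 : act 3 n14697 = n11412 := d16_1 D14697 (iv D11412) (iv F20175)
def n14698 : Q := act 6 n11378
theorem D14698 : act 6 n11378 = n14698 := rfl
def n14699 : Q := act 1 n11379
theorem D14699 : act 1 n11379 = n14699 := rfl
def n14700 : Q := act 3 n11379
theorem D14700 : act 3 n11379 = n14700 := rfl
def n14701 : Q := act 5 n11379
theorem D14701 : act 5 n11379 = n14701 := rfl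
theorem F25646 : act 0 n14701 = n11382 := d4_1 D14701 (iv D11382) (iv F20176)
theorem F25647 : act 2 n14701 = n11380 := d13_1 D14701 (iv D11380) D11379
theorem F25648 : act 6 n14701 = n14591 := d22_1 D14701 (iv D14591) F20120 (iv F20176)
def n14702 : Q := act 1 n11380
theorem D14702 : act 1 n11380 = n14702 := rfl
theorem F25649 : act 3 n14702 = n11417 := d7_2 (iv F20178) D14702 (iv D11417)
def n14703 : Q := act 2 n11381
theorem D14703 : act 2 n11381 = n14703 := rfl
def n14704 : Q := act 4 n11381
theorem D14704 : act 4 n11381 = n14704 := rfl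
def n14705 : Q := act 5 n11381
theorem D14705 : act 5 n11381 = n14705 := rfl
theorem F25650 : act 3 n14705 = n11382 := d16_1 D14705 (iv D11382) D11381
def n14706 : Q := act 1 n11382
theorem D14706 : act 1 n11382 = n14706 := rfl
def n14707 : Q := act 6 n11382
theorem D14707 : act 6 n11382 = n14707 := rfl
theorem F25651 : act 0 n14707 = n14591 := d5_1 D14707 (iv F25648) F25646
theorem F25652 : act 2 n14707 = n11384 := d14_1 D14707 (iv D11384) (iv F20180)
theorem F25653 : act 5 n14707 = n14589 := d20_1 D14707 F25489 D14701 F25648 (iv D14591) F20120 D11382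
def n14708 : Q := act 0 n11383
theorem D14708 : act 0 n11383 = n14708 := rfl
theorem F25654 : act 3 n14708 = n11422 := d2_2 (iv F20181) D14708 (iv D11422)
theorem F25655 : act 5 n14708 = n11385 := d4_2 (iv F20182) D14708 (iv D11385)
def n14709 : Q := act 2 n11383
theorem D14709 : act 2 n11383 = n14709 := rfl
theorem F25656 : act 5 n14709 = n11386 := d13_2 (iv F20182) D14709 (iv D11386)
def n14710 : Q := act 6 n11383
theorem D14710 : act 6 n11383 = n14710 := rfl
theorem F25657 : act 3 n14710 = n11424 := d17_1 D14710 (iv D11424) (iv F20181)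
def n14711 : Q := act 1 n11384
theorem D14711 : act 1 n11384 = n14711 := rfl
theorem F25658 : act 3 n14711 = n11425 := d7_2 (iv F20184) D14711 (iv D11425)
def n14712 : Q := act 1 n11385
theorem D14712 : act 1 n11385 = n14712 := rfl
theorem F25659 : act 3 n14712 = n11426 := d7_2 (iv F20186) D14712 (iv D11426)
def n14713 : Q := act 2 n11385
theorem D14713 : act 2 n11385 = n14713 := rfl
theorem F25660 : act 0 n14713 = n11386 := d1_1 D14713 (iv D11386) D11385
def n14714 : Q := act 6 n11385
theorem D14714 : act 6 n11385 = n14714 := rfl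
theorem F25661 : act 0 n14714 = n11387 := d5_1 D14714 (iv D11387) D11385
theorem F25662 : act 3 n14714 = n11428 := d17_1 D14714 (iv D11428) (iv F20186)
theorem F25663 : act 5 n14714 = n14710 := d22_2 F25655 D14714 (iv D14710) D14708
def n14715 : Q := act 3 n11386
theorem D14715 : act 3 n11386 = n14715 := rfl
def n14716 : Q := act 6 n11386
theorem D14716 : act 6 n11386 = n14716 := rfl
theorem F25664 : act 2 n14716 = n11387 := d14_1 D14716 (iv D11387) D11386
def n14717 : Q := act 5 n11387
theorem D14717 : act 5 n11387 = n14717 := rfl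
theorem F25665 : act 0 n14717 = n14710 := d4_1 D14717 (iv F25663) F25661
theorem F25666 : act 3 n14717 = n11431 := d16_1 D14717 (iv D11431) (iv F20188)
theorem F25667 : act 6 n14717 = n14708 := d20_2 D11387 D14717 F25655 D14714 F25663 (iv D14710) F20182
def n14718 : Q := act 2 n11388
theorem D14718 : act 2 n11388 = n14718 := rfl
theorem F25668 : act 0 n14718 = n11389 := d1_1 D14718 (iv D11389) D11388
def n14719 : Q := act 5 n11388
theorem D14719 : act 5 n11388 = n14719 := rfl
theorem F25669 : act 0 n14719 = n11390 := d4_1 D14719 (iv D11390) D11388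
def n14720 : Q := act 6 n11388
theorem D14720 : act 6 n11388 = n14720 := rfl
theorem F25670 : act 0 n14720 = n11391 := d5_1 D14720 (iv D11391) D11388
def n14721 : Q := act 1 n11389
theorem D14721 : act 1 n11389 = n14721 := rfl
theorem F25671 : act 2 n14721 = n11392 := d6_2 D11389 D14721 (iv D11392) (iv D9094) D9093
def n14722 : Q := act 3 n11389
theorem D14722 : act 3 n11389 = n14722 := rfl
def n14723 : Q := act 5 n11389
theorem D14723 : act 5 n11389 = n14723 := rfl
theorem F25672 : act 2 n14723 = n11390 := d13_1 D14723 (iv D11390) D11389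
def n14724 : Q := act 6 n11389
theorem D14724 : act 6 n11389 = n14724 := rfl
theorem F25673 : act 2 n14724 = n11391 := d14_1 D14724 (iv D11391) D11389
def n14725 : Q := act 6 n11390
theorem D14725 : act 6 n11390 = n14725 := rfl
theorem F25674 : act 5 n14725 = n14720 := d22_2 D11390 D14725 (iv D14720) (iv D11388)
def n14726 : Q := act 1 n11391
theorem D14726 : act 1 n11391 = n14726 := rfl
theorem F25675 : act 6 n14726 = n11395 := d10_2 D11391 D14726 (iv D11395) (iv D9095) D9093
def n14727 : Q := act 5 n11391
theorem D14727 : act 5 n11391 = n14727 := rfl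
theorem F25676 : act 0 n14727 = n14725 := d4_1 D14727 F25674 F25670
theorem F25677 : act 6 n14727 = n14719 := d20_2 D11391 D14727 (iv D14719) D14720 (iv F25674) (iv D14725) (iv D11390)
def n14728 : Q := act 0 n11392
theorem D14728 : act 0 n11392 = n14728 := rfl
def n14729 : Q := act 3 n11392
theorem D14729 : act 3 n11392 = n14729 := rfl
theorem F25678 : act 1 n14729 = n11393 := d7_1 D14729 (iv D11393) D11392
def n14730 : Q := act 5 n11392
theorem D14730 : act 5 n11392 = n14730 := rfl
def n14731 : Q := act 6 n11392
theorem D14731 : act 6 n11392 = n14731 := rfl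
def n14732 : Q := act 2 n11393
theorem D14732 : act 2 n11393 = n14732 := rfl
theorem F25679 : act 0 n14732 = n11396 := d1_1 D14732 (iv D11396) (iv F20189)
theorem F25680 : act 3 n14732 = n14680 := d21_1 D14732 (iv D14680) (iv D11371) (iv D9086) F6706 D4396 D9096 (iv F20189)
def n14733 : Q := act 4 n11393
theorem D14733 : act 4 n11393 = n14733 := rfl
theorem F25681 : act 0 n14733 = n11397 := d3_1 D14733 (iv D11397) (iv F20189)
def n14734 : Q := act 6 n11393
theorem D14734 : act 6 n11393 = n14734 := rfl
theorem F25682 : act 0 n14734 = n11398 := d5_1 D14734 (iv D11398) (iv F20189)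
theorem F25683 : act 3 n14734 = n11394 := d17_1 D14734 (iv D11394) D11393
theorem F25684 : act 5 n14734 = n14604 := d22_2 F25507 D14734 (iv D14604) (iv F25506)
def n14735 : Q := act 1 n11394
theorem D14735 : act 1 n11394 = n14735 := rfl
def n14736 : Q := act 0 n11395
theorem D14736 : act 0 n11395 = n14736 := rfl
def n14737 : Q := act 2 n11395
theorem D14737 : act 2 n11395 = n14737 := rfl
def n14738 : Q := act 5 n11395
theorem D14738 : act 5 n11395 = n14738 := rfl
theorem F25685 : act 1 n14738 = n14608 := d9_1 D14738 (iv D14608) (iv D11340) (iv F13616) D11395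
def n14739 : Q := act 1 n11396
theorem D14739 : act 1 n11396 = n14739 := rfl
theorem F25686 : act 2 n14739 = n11432 := d6_2 D11396 D14739 (iv D11432) (iv D9118) (iv F13617)
def n14740 : Q := act 3 n11396
theorem D14740 : act 3 n11396 = n14740 := rfl
theorem F25687 : act 0 n14740 = n14680 := d2_1 D14740 (iv F25680) F25679
theorem F25688 : act 2 n14740 = n14677 := d11_1 D14740 (iv D14677) (iv D11369) F13608 D9094 D11393 D14732 F25680 (iv D14680) (iv D11371) (iv D9086) F6706 D4396 D9096 D11396
def n14741 : Q := act 4 n11396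
theorem D14741 : act 4 n11396 = n14741 := rfl
theorem F25689 : act 2 n14741 = n11397 := d12_1 D14741 (iv D11397) D11396
def n14742 : Q := act 6 n11396
theorem D14742 : act 6 n11396 = n14742 := rfl
theorem F25690 : act 2 n14742 = n11398 := d14_1 D14742 (iv D11398) D11396
def n14743 : Q := act 6 n11397
theorem D14743 : act 6 n11397 = n14743 := rfl
theorem F25691 : act 4 n14743 = n11398 := d19_1 D14743 (iv D11398) D11397
def n14744 : Q := act 5 n11398
theorem D14744 : act 5 n11398 = n14744 := rfl
theorem F25692 : act 0 n14744 = n14604 := d4_1 D14744 (iv F25684) F25682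
theorem F25693 : act 3 n14744 = n11399 := d16_1 D14744 (iv D11399) (iv F20194)
theorem F25694 : act 6 n14744 = n14601 := d20_2 D11398 D14744 F25507 D14734 F25684 (iv D14604) F20127
def n14745 : Q := act 1 n11399
theorem D14745 : act 1 n11399 = n14745 := rfl
def n14746 : Q := act 1 n11400
theorem D14746 : act 1 n11400 = n14746 := rfl
def n14747 : Q := act 2 n11400
theorem D14747 : act 2 n11400 = n14747 := rfl
theorem F25695 : act 0 n14747 = n11401 := d1_1 D14747 (iv D11401) D11400
theorem F25696 : act 6 n14747 = n11405 := d14_2 (iv F20198) D14747 (iv D11405)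
def n14748 : Q := act 3 n11401
theorem D14748 : act 3 n11401 = n14748 := rfl
theorem F25697 : act 6 n14748 = n11407 := d17_2 (iv F20199) D14748 (iv D11407)
def n14749 : Q := act 5 n11401
theorem D14749 : act 5 n11401 = n14749 := rfl
theorem F25698 : act 2 n14749 = n11402 := d13_1 D14749 (iv D11402) D11401
def n14750 : Q := act 1 n11402
theorem D14750 : act 1 n11402 = n14750 := rfl
theorem F25699 : act 5 n14750 = n11403 := d9_2 D11402 D14750 (iv D11403) (iv D9099) D9098
def n14751 : Q := act 0 n11403
theorem D14751 : act 0 n11403 = n14751 := rfl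
def n14752 : Q := act 2 n11403
theorem D14752 : act 2 n11403 = n14752 := rfl
def n14753 : Q := act 6 n11403
theorem D14753 : act 6 n11403 = n14753 := rfl
theorem F25700 : act 1 n14753 = n14599 := d10_1 D14753 (iv D14599) (iv D11336) (iv F13621) D11403
def n14754 : Q := act 0 n11404
theorem D14754 : act 0 n11404 = n14754 := rfl
def n14755 : Q := act 2 n11404
theorem D14755 : act 2 n11404 = n14755 := rfl
def n14756 : Q := act 5 n11404
theorem D14756 : act 5 n11404 = n14756 := rfl
def n14757 : Q := act 6 n11404
theorem D14757 : act 6 n11404 = n14757 := rfl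
def n14758 : Q := act 1 n11405
theorem D14758 : act 1 n11405 = n14758 := rfl
def n14759 : Q := act 3 n11405
theorem D14759 : act 3 n11405 = n14759 := rfl
theorem F25701 : act 0 n14759 = n11407 := d2_1 D14759 (iv D11407) (iv F20200)
def n14760 : Q := act 5 n11405
theorem D14760 : act 5 n11405 = n14760 := rfl
theorem F25702 : act 0 n14760 = n11408 := d4_1 D14760 (iv D11408) (iv F20200)
theorem F25703 : act 2 n14760 = n11406 := d13_1 D14760 (iv D11406) D11405
theorem F25704 : act 6 n14760 = n14749 := d22_1 D14760 (iv D14749) F20199 (iv F20200)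
def n14761 : Q := act 1 n11406
theorem D14761 : act 1 n11406 = n14761 := rfl
theorem F25705 : act 2 n12444 = n14761 := d23_1 F21908 (iv D14761) F20201 (iv D9102) D9101 F13622 (iv F13652) F17464 (iv D9126) (iv F15297) F3553 (iv D1097) D1096 (iv F3540) (iv F7068) D9593 F14324 D9594 D11708
theorem F25706 : act 6 n14761 = n12443 := d14_2 D12444 F25705 (iv D12443)
def n14762 : Q := act 2 n11407
theorem D14762 : act 2 n11407 = n14762 := rfl
def n14763 : Q := act 4 n11407
theorem D14763 : act 4 n11407 = n14763 := rfl
theorem F25707 : act 1 n14763 = n11437 := d8_1 D14763 (iv D11437) (iv F20203)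
def n14764 : Q := act 5 n11407
theorem D14764 : act 5 n11407 = n14764 := rfl
theorem F25708 : act 1 n14764 = n14764 := d9_1 D14764 (iv D14764) F20203 F17465 (iv F20203)
theorem F25709 : act 3 n14764 = n11408 := d16_1 D14764 (iv D11408) D11407
def n14765 : Q := act 6 n11408
theorem D14765 : act 6 n11408 = n14765 := rfl
theorem F25710 : act 0 n14765 = n14749 := d5_1 D14765 (iv F25704) F25702
theorem F25711 : act 2 n14765 = n11409 := d14_1 D14765 (iv D11409) (iv F20205)
theorem F25712 : act 5 n14765 = n14747 := d20_1 D14765 F25696 D14760 F25704 (iv D14749) F20199 D11408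
def n14766 : Q := act 1 n11409
theorem D14766 : act 1 n11409 = n14766 := rfl
theorem F25713 : act 6 n14766 = n14448 := d10_2 D11409 D14766 (iv D14448) (iv D11259) (iv F13623)
def n14767 : Q := act 2 n11410
theorem D14767 : act 2 n11410 = n14767 := rfl
theorem F25714 : act 0 n14767 = n11411 := d1_1 D14767 (iv D11411) D11410
def n14768 : Q := act 5 n11410
theorem D14768 : act 5 n11410 = n14768 := rfl
theorem F25715 : act 0 n14768 = n11412 := d4_1 D14768 (iv D11412) D11410
def n14769 : Q := act 6 n11410
theorem D14769 : act 6 n11410 = n14769 := rfl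
theorem F25716 : act 0 n14769 = n11413 := d5_1 D14769 (iv D11413) D11410
def n14770 : Q := act 1 n11411
theorem D14770 : act 1 n11411 = n14770 := rfl
def n14771 : Q := act 3 n11411
theorem D14771 : act 3 n11411 = n14771 := rfl
def n14772 : Q := act 5 n11411
theorem D14772 : act 5 n11411 = n14772 := rfl
theorem F25718 : act 2 n14772 = n11412 := d13_1 D14772 (iv D11412) D11411
def n14773 : Q := act 6 n11411
theorem D14773 : act 6 n11411 = n14773 := rfl
theorem F25719 : act 2 n14773 = n11413 := d14_1 D14773 (iv D11413) D11411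
def n14774 : Q := act 1 n11412
theorem D14774 : act 1 n11412 = n14774 := rfl
theorem F25720 : act 5 n14774 = n11417 := d9_2 D11412 D14774 (iv D11417) (iv D9105) D9103
def n14775 : Q := act 6 n11412
theorem D14775 : act 6 n11412 = n14775 := rfl
theorem F25721 : act 5 n14775 = n14769 := d22_2 D11412 D14775 (iv D14769) (iv D11410)
def n14776 : Q := act 5 n11413
theorem D14776 : act 5 n11413 = n14776 := rfl
theorem F25722 : act 0 n14776 = n14775 := d4_1 D14776 F25721 F25716
theorem F25723 : act 6 n14776 = n14768 := d20_2 D11413 D14776 (iv D14768) D14769 (iv F25721) (iv D14775) (iv D11412)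
def n14777 : Q := act 0 n11414
theorem D14777 : act 0 n11414 = n14777 := rfl
def n14778 : Q := act 3 n11414
theorem D14778 : act 3 n11414 = n14778 := rfl
theorem F25724 : act 1 n14778 = n11415 := d7_1 D14778 (iv D11415) D11414
def n14779 : Q := act 5 n11414
theorem D14779 : act 5 n11414 = n14779 := rfl
def n14780 : Q := act 6 n11414
theorem D14780 : act 6 n11414 = n14780 := rfl
def n14781 : Q := act 2 n11415
theorem D14781 : act 2 n11415 = n14781 := rfl
theorem F25725 : act 0 n14781 = n11418 := d1_1 D14781 (iv D11418) (iv F20208)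
theorem F25726 : act 3 n14781 = n14703 := d21_1 D14781 (iv D14703) (iv D11381) (iv D9090) F6709 D4400 D9106 (iv F20208)
def n14782 : Q := act 4 n11415
theorem D14782 : act 4 n11415 = n14782 := rfl
theorem F25727 : act 0 n14782 = n11419 := d3_1 D14782 (iv D11419) (iv F20208)
def n14783 : Q := act 5 n11415
theorem D14783 : act 5 n11415 = n14783 := rfl
theorem F25728 : act 0 n14783 = n11420 := d4_1 D14783 (iv D11420) (iv F20208)
theorem F25729 : act 3 n14783 = n11416 := d16_1 D14783 (iv D11416) D11415
theorem F25730 : act 6 n14783 = n14623 := d22_1 D14783 (iv D14623) F20135 (iv F20208)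
def n14784 : Q := act 1 n11416
theorem D14784 : act 1 n11416 = n14784 := rfl
def n14785 : Q := act 0 n11417
theorem D14785 : act 0 n11417 = n14785 := rfl
def n14786 : Q := act 2 n11417
theorem D14786 : act 2 n11417 = n14786 := rfl
def n14787 : Q := act 6 n11417
theorem D14787 : act 6 n11417 = n14787 := rfl
theorem F25731 : act 1 n14787 = n14627 := d10_1 D14787 (iv D14627) (iv D11348) (iv F13626) D11417
def n14788 : Q := act 1 n11418
theorem D14788 : act 1 n11418 = n14788 := rfl
theorem F25732 : act 2 n14788 = n11438 := d6_2 D11418 D14788 (iv D11438) (iv D9135) (iv F13627)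
def n14789 : Q := act 3 n11418
theorem D14789 : act 3 n11418 = n14789 := rfl
theorem F25734 : act 2 n14789 = n14700 := d11_1 D14789 (iv D14700) (iv D11379) F13611 D9104 D11415 D14781 F25726 (iv D14703) (iv D11381) (iv D9090) F6709 D4400 D9106 D11418
def n14790 : Q := act 4 n11418
theorem D14790 : act 4 n11418 = n14790 := rfl
theorem F25735 : act 2 n14790 = n11419 := d12_1 D14790 (iv D11419) D11418
def n14791 : Q := act 5 n11418
theorem D14791 : act 5 n11418 = n14791 := rfl
theorem F25736 : act 2 n14791 = n11420 := d13_1 D14791 (iv D11420) D11418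
def n14792 : Q := act 5 n11419
theorem D14792 : act 5 n11419 = n14792 := rfl
theorem F25737 : act 4 n14792 = n11420 := d18_1 D14792 (iv D11420) D11419
def n14793 : Q := act 6 n11420
theorem D14793 : act 6 n11420 = n14793 := rfl
theorem F25738 : act 0 n14793 = n14623 := d5_1 D14793 (iv F25730) F25728
theorem F25739 : act 3 n14793 = n11421 := d17_1 D14793 (iv D11421) (iv F20213)
theorem F25740 : act 5 n14793 = n14620 := d20_1 D14793 F25524 D14783 F25730 (iv D14623) F20135 D11420
def n14794 : Q := act 1 n11421
theorem D14794 : act 1 n11421 = n14794 := rfl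
def n14795 : Q := act 1 n11422
theorem D14795 : act 1 n11422 = n14795 := rfl
def n14796 : Q := act 2 n11422
theorem D14796 : act 2 n11422 = n14796 := rfl
theorem F25741 : act 0 n14796 = n11423 := d1_1 D14796 (iv D11423) D11422
theorem F25742 : act 5 n14796 = n11427 := d13_2 (iv F20217) D14796 (iv D11427)
def n14797 : Q := act 3 n11423
theorem D14797 : act 3 n11423 = n14797 := rfl
theorem F25743 : act 5 n14797 = n11429 := d16_2 (iv F20218) D14797 (iv D11429)
def n14798 : Q := act 6 n11423
theorem D14798 : act 6 n11423 = n14798 := rfl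
theorem F25744 : act 2 n14798 = n11424 := d14_1 D14798 (iv D11424) D11423
def n14799 : Q := act 1 n11424
theorem D14799 : act 1 n11424 = n14799 := rfl
theorem F25745 : act 6 n14799 = n11425 := d10_2 D11424 D14799 (iv D11425) (iv D9109) D9108
def n14800 : Q := act 0 n11425
theorem D14800 : act 0 n11425 = n14800 := rfl
def n14801 : Q := act 2 n11425
theorem D14801 : act 2 n11425 = n14801 := rfl
def n14802 : Q := act 5 n11425
theorem D14802 : act 5 n11425 = n14802 := rfl
theorem F25746 : act 1 n14802 = n14617 := d9_1 D14802 (iv D14617) (iv D11344) (iv F13631) D11425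
def n14803 : Q := act 0 n11426
theorem D14803 : act 0 n11426 = n14803 := rfl
theorem F25747 : act 1 n14803 = n14754 := d0_2 D11426 D14803 (iv D14754) (iv D11404) (iv D9100) (iv D4398) (iv F3353) D4402 D9110
def n14804 : Q := act 2 n11426
theorem D14804 : act 2 n11426 = n14804 := rfl
def n14805 : Q := act 5 n11426
theorem D14805 : act 5 n11426 = n14805 := rfl
def n14806 : Q := act 6 n11426
theorem D14806 : act 6 n11426 = n14806 := rfl
def n14807 : Q := act 1 n11427
theorem D14807 : act 1 n11427 = n14807 := rfl
def n14808 : Q := act 3 n11427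
theorem D14808 : act 3 n11427 = n14808 := rfl
theorem F25748 : act 0 n14808 = n11429 := d2_1 D14808 (iv D11429) (iv F20219)
def n14809 : Q := act 6 n11427
theorem D14809 : act 6 n11427 = n14809 := rfl
theorem F25749 : act 0 n14809 = n11430 := d5_1 D14809 (iv D11430) (iv F20219)
theorem F25750 : act 2 n14809 = n11428 := d14_1 D14809 (iv D11428) D11427
theorem F25751 : act 5 n14809 = n14798 := d22_2 F25742 D14809 (iv D14798) (iv F25741)
def n14810 : Q := act 1 n11428
theorem D14810 : act 1 n11428 = n14810 := rfl
def n14811 : Q := act 2 n11429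
theorem D14811 : act 2 n11429 = n14811 := rfl
def n14812 : Q := act 4 n11429
theorem D14812 : act 4 n11429 = n14812 := rfl
theorem F25752 : act 1 n14812 = n11443 := d8_1 D14812 (iv D11443) (iv F20222)
def n14813 : Q := act 6 n11429
theorem D14813 : act 6 n11429 = n14813 := rfl
theorem F25753 : act 1 n14813 = n14813 := d10_1 D14813 (iv D14813) F20222 F16190 (iv F20222)
theorem F25754 : act 3 n14813 = n11430 := d17_1 D14813 (iv D11430) D11429
def n14814 : Q := act 5 n11430
theorem D14814 : act 5 n11430 = n14814 := rfl
theorem F25755 : act 0 n14814 = n14798 := d4_1 D14814 (iv F25751) F25749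
theorem F25756 : act 2 n14814 = n11431 := d13_1 D14814 (iv D11431) (iv F20224)
theorem F25757 : act 6 n14814 = n14796 := d20_2 D11430 D14814 F25742 D14809 F25751 (iv D14798) F20218
def n14815 : Q := act 1 n11431
theorem D14815 : act 1 n11431 = n14815 := rfl
theorem F25758 : act 5 n14815 = n14442 := d9_2 D11431 D14815 (iv D14442) (iv D11256) (iv F13633)
def n14816 : Q := act 0 n11432
theorem D14816 : act 0 n11432 = n14816 := rfl
theorem F25759 : act 3 n14816 = n12797 := d2_2 (iv F20227) D14816 (iv D12797)
def n14817 : Q := act 4 n11432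
theorem D14817 : act 4 n11432 = n14817 := rfl
theorem F25760 : act 1 n14817 = n11433 := d8_1 D14817 (iv D11433) D11432
def n14818 : Q := act 5 n11432
theorem D14818 : act 5 n11432 = n14818 := rfl
theorem F25761 : act 1 n14818 = n11740 := d9_1 D14818 (iv D11740) (iv D9619) (iv F13641) D11432
theorem F25762 : act 3 n14818 = n12799 := d16_1 D14818 (iv D12799) (iv F20227)
def n14819 : Q := act 6 n11432
theorem D14819 : act 6 n11432 = n14819 := rfl
theorem F25763 : act 1 n14819 = n12832 := d10_1 D14819 (iv D12832) F18220 (iv F17232) D11432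
theorem F25764 : act 3 n14819 = n12800 := d17_1 D14819 (iv D12800) (iv F20227)
def n14820 : Q := act 3 n11433
theorem D14820 : act 3 n11433 = n14820 := rfl
theorem F25765 : act 4 n14820 = n11814 := d15_2 D11433 D14820 F20876 (iv D10315) F17193
theorem F25766 : act 5 n14820 = n11742 := d16_2 (iv F20229) D14820 (iv D11742)
theorem F25767 : act 6 n14820 = n12838 := d17_2 (iv F20230) D14820 (iv D12838)
theorem F25768 : act 2 n14820 = n11811 := d21_2 (iv F20228) D14820 (iv D11811) F14474 (iv F20522) (iv F20561) F20562 F18144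
def n14821 : Q := act 0 n11434
theorem D14821 : act 0 n11434 = n14821 := rfl
theorem F25769 : act 2 n14821 = n11765 := d1_2 (iv F20231) D14821 (iv D11765)
def n14822 : Q := act 3 n11434
theorem D14822 : act 3 n11434 = n14822 := rfl
theorem F25770 : act 1 n14822 = n11435 := d7_1 D14822 (iv D11435) D11434
def n14823 : Q := act 5 n11434
theorem D14823 : act 5 n11434 = n14823 := rfl
theorem F25771 : act 1 n14823 = n14823 := d9_1 D14823 (iv D14823) (iv D11434) F17464 D11434
theorem F25772 : act 2 n14823 = n11760 := d13_1 D14823 F20785 (iv F20231)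
def n14824 : Q := act 6 n11434
theorem D14824 : act 6 n11434 = n14824 := rfl
theorem F25773 : act 2 n14824 = n11766 := d14_1 D14824 (iv D11766) (iv F20231)
def n14825 : Q := act 4 n11435
theorem D14825 : act 4 n11435 = n14825 := rfl
theorem F25774 : act 0 n14825 = n11437 := d3_1 D14825 (iv D11437) (iv F20232)
theorem F25775 : act 5 n14825 = n14825 := d18_2 F20233 D14825 (iv D14825)
def n14826 : Q := act 1 n11436
theorem D14826 : act 1 n11436 = n14826 := rfl
def n14827 : Q := act 4 n11436
theorem D14827 : act 4 n11436 = n14827 := rfl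
theorem F25776 : act 2 n14827 = n11437 := d12_1 D14827 (iv D11437) D11436
theorem F25777 : act 5 n14827 = n14827 := d18_2 F20234 D14827 (iv D14827)
def n14828 : Q := act 0 n11438
theorem D14828 : act 0 n11438 = n14828 := rfl
theorem F25778 : act 3 n14828 = n12839 := d2_2 (iv F20236) D14828 (iv D12839)
def n14829 : Q := act 4 n11438
theorem D14829 : act 4 n11438 = n14829 := rfl
theorem F25779 : act 1 n14829 = n11439 := d8_1 D14829 (iv D11439) D11438
def n14830 : Q := act 5 n11438
theorem D14830 : act 5 n11438 = n14830 := rfl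
theorem F25780 : act 1 n14830 = n12871 := d9_1 D14830 (iv D12871) F18256 F17478 D11438
theorem F25781 : act 3 n14830 = n12841 := d16_1 D14830 (iv D12841) (iv F20236)
def n14831 : Q := act 6 n11438
theorem D14831 : act 6 n11438 = n14831 := rfl
def n14832 : Q := act 3 n11439
theorem D14832 : act 3 n11439 = n14832 := rfl
theorem F25784 : act 4 n14832 = n11857 := d15_2 D11439 D14832 F20963 (iv D10337) F16587
theorem F25785 : act 5 n14832 = n12878 := d16_2 (iv F20238) D14832 (iv D12878)
theorem F25786 : act 6 n14832 = n11771 := d17_2 (iv F20239) D14832 (iv D11771)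
theorem F25787 : act 2 n14832 = n11854 := d21_2 (iv F20237) D14832 (iv D11854) F14586 (iv F20540) (iv F20575) F20576 F18170
def n14833 : Q := act 0 n11440
theorem D14833 : act 0 n11440 = n14833 := rfl
theorem F25788 : act 2 n14833 = n11736 := d1_2 (iv F20240) D14833 (iv D11736)
def n14834 : Q := act 3 n11440
theorem D14834 : act 3 n11440 = n14834 := rfl
theorem F25789 : act 1 n14834 = n11441 := d7_1 D14834 (iv D11441) D11440
def n14835 : Q := act 5 n11440
theorem D14835 : act 5 n11440 = n14835 := rfl
theorem F25790 : act 2 n14835 = n11737 := d13_1 D14835 (iv D11737) (iv F20240)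
def n14836 : Q := act 6 n11440
theorem D14836 : act 6 n11440 = n14836 := rfl
theorem F25791 : act 1 n14836 = n14836 := d10_1 D14836 (iv D14836) (iv D11440) F16189 D11440
theorem F25792 : act 2 n14836 = n11732 := d14_1 D14836 F20754 (iv F20240)
def n14837 : Q := act 4 n11441
theorem D14837 : act 4 n11441 = n14837 := rfl
theorem F25793 : act 0 n14837 = n11443 := d3_1 D14837 (iv D11443) (iv F20241)
theorem F25794 : act 6 n14837 = n14837 := d19_2 F20242 D14837 (iv D14837)
def n14838 : Q := act 1 n11442
theorem D14838 : act 1 n11442 = n14838 := rfl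
def n14839 : Q := act 4 n11442
theorem D14839 : act 4 n11442 = n14839 := rfl
theorem F25795 : act 2 n14839 = n11443 := d12_1 D14839 (iv D11443) D11442
theorem F25796 : act 6 n14839 = n14839 := d19_2 F20243 D14839 (iv D14839)
def n14840 : Q := act 1 n11444
theorem D14840 : act 1 n11444 = n14840 := rfl
def n14841 : Q := act 3 n11444
theorem D14841 : act 3 n11444 = n14841 := rfl
theorem F25797 : act 0 n14841 = n11445 := d2_1 D14841 (iv D11445) D11444
def n14842 : Q := act 4 n11444
theorem D14842 : act 4 n11444 = n14842 := rfl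
theorem F25798 : act 0 n14842 = n11446 := d3_1 D14842 (iv D11446) D11444
def n14843 : Q := act 5 n11444
theorem D14843 : act 5 n11444 = n14843 := rfl
def n14844 : Q := act 6 n11444
theorem D14844 : act 6 n11444 = n14844 := rfl
theorem F25800 : act 0 n14844 = n11448 := d5_1 D14844 (iv D11448) D11444
def n14845 : Q := act 2 n11445
theorem D14845 : act 2 n11445 = n14845 := rfl
theorem F25801 : act 1 n14845 = n12724 := d6_1 D14845 (iv D12724) F18139 F17189 (iv F20245)
def n14846 : Q := act 4 n11445
theorem D14846 : act 4 n11445 = n14846 := rfl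
theorem F25802 : act 1 n14846 = n11449 := d8_1 D14846 (iv D11449) (iv F20245)
def n14847 : Q := act 5 n11445
theorem D14847 : act 5 n11445 = n14847 := rfl
theorem F25803 : act 1 n14847 = n11803 := d9_1 D14847 (iv D11803) F14468 (iv F13690) (iv F20245)
theorem F25804 : act 3 n14847 = n11447 := d16_1 D14847 (iv D11447) D11445
def n14848 : Q := act 6 n11445
theorem D14848 : act 6 n11445 = n14848 := rfl
theorem F25805 : act 1 n14848 = n12750 := d10_1 D14848 (iv D12750) (iv D10291) F17233 (iv F20245)
theorem F25806 : act 3 n14848 = n11448 := d17_1 D14848 (iv D11448) D11445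
def n14849 : Q := act 3 n11446
theorem D14849 : act 3 n11446 = n14849 := rfl
theorem F25807 : act 1 n14849 = n11450 := d7_1 D14849 (iv D11450) (iv F20246)
def n14850 : Q := act 5 n11446
theorem D14850 : act 5 n11446 = n14850 := rfl
theorem F25808 : act 1 n14850 = n11806 := d9_1 D14850 (iv D11806) F14469 (iv F13692) (iv F20246)
theorem F25809 : act 4 n14850 = n11447 := d18_1 D14850 (iv D11447) D11446
def n14851 : Q := act 6 n11446
theorem D14851 : act 6 n11446 = n14851 := rfl
theorem F25810 : act 4 n14851 = n11448 := d19_1 D14851 (iv D11448) D11446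
def n14852 : Q := act 6 n11447
theorem D14852 : act 6 n11447 = n14852 := rfl
theorem F25811 : act 5 n14852 = n14844 := d22_2 D11447 D14852 (iv D14844) (iv D11444)
def n14853 : Q := act 5 n11448
theorem D14853 : act 5 n11448 = n14853 := rfl
theorem F25812 : act 0 n14853 = n14852 := d4_1 D14853 F25811 F25800
theorem F25813 : act 6 n14853 = n14843 := d20_2 D11448 D14853 (iv D14843) D14844 (iv F25811) (iv D14852) (iv D11447)
def n14854 : Q := act 3 n11449
theorem D14854 : act 3 n11449 = n14854 := rfl
theorem F25814 : act 0 n14854 = n14820 := d2_1 D14854 (iv D14820) (iv F20248)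
theorem F25815 : act 2 n14854 = n11742 := d11_1 D14854 (iv D11742) F14358 (iv F13985) (iv F20051) F20052 (iv F20228) D14820 F25768 (iv D11811) F14474 (iv F20522) (iv F20561) F20562 (iv F20249)
theorem F25816 : act 4 n14854 = n11450 := d15_2 D11449 D14854 (iv D11450) (iv D9151) D9150
theorem F25817 : act 5 n14854 = n11811 := d16_2 (iv F20250) D14854 (iv D11811)
theorem F25818 : act 6 n14854 = n12751 := d17_2 (iv F20251) D14854 (iv D12751)
def n14858 : Q := act 1 n11453
theorem D14858 : act 1 n11453 = n14858 := rfl
theorem F25827 : act 3 n14858 = n14826 := d7_2 (iv F20261) D14858 (iv D14826)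
def n14860 : Q := act 0 n11455
theorem D14860 : act 0 n11455 = n14860 := rfl
def n14861 : Q := act 3 n11455
theorem D14861 : act 3 n11455 = n14861 := rfl
theorem F25831 : act 1 n14861 = n11456 := d7_1 D14861 (iv D11456) D11455
def n14862 : Q := act 4 n11455
theorem D14862 : act 4 n11455 = n14862 := rfl
theorem F25832 : act 1 n14862 = n11457 := d8_1 D14862 (iv D11457) D11455
def n14863 : Q := act 5 n11455
theorem D14863 : act 5 n11455 = n14863 := rfl
theorem F25833 : act 1 n14863 = n14863 := d9_1 D14863 (iv D14863) (iv D11455) F17462 D11455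
def n14864 : Q := act 6 n11455
theorem D14864 : act 6 n11455 = n14864 := rfl
def n14865 : Q := act 4 n11456
theorem D14865 : act 4 n11456 = n14865 := rfl
theorem F25834 : act 0 n14865 = n14827 := d3_1 D14865 (iv D14827) (iv F20265)
theorem F25835 : act 2 n14865 = n14825 := d12_1 D14865 (iv D14825) (iv F20266)
theorem F25836 : act 5 n14865 = n14865 := d18_2 F20267 D14865 (iv D14865)
def n14867 : Q := act 1 n11458
theorem D14867 : act 1 n11458 = n14867 := rfl
def n14868 : Q := act 3 n11458
theorem D14868 : act 3 n11458 = n14868 := rfl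
theorem F25838 : act 0 n14868 = n11459 := d2_1 D14868 (iv D11459) D11458
def n14869 : Q := act 4 n11458
theorem D14869 : act 4 n11458 = n14869 := rfl
theorem F25839 : act 0 n14869 = n11460 := d3_1 D14869 (iv D11460) D11458
def n14870 : Q := act 5 n11458
theorem D14870 : act 5 n11458 = n14870 := rfl
theorem F25840 : act 0 n14870 = n11461 := d4_1 D14870 (iv D11461) D11458
def n14871 : Q := act 6 n11458
theorem D14871 : act 6 n11458 = n14871 := rfl
theorem F25841 : act 0 n14871 = n11462 := d5_1 D14871 (iv D11462) D11458
def n14872 : Q := act 2 n11459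
theorem D14872 : act 2 n11459 = n14872 := rfl
theorem F25842 : act 1 n14872 = n12769 := d6_1 D14872 (iv D12769) F18165 F16685 (iv F20270)
def n14873 : Q := act 4 n11459
theorem D14873 : act 4 n11459 = n14873 := rfl
theorem F25843 : act 1 n14873 = n11463 := d8_1 D14873 (iv D11463) (iv F20270)
def n14874 : Q := act 5 n11459
theorem D14874 : act 5 n11459 = n14874 := rfl
theorem F25844 : act 1 n14874 = n12794 := d9_1 D14874 (iv D12794) (iv D10312) (iv F17477) (iv F20270)
theorem F25845 : act 3 n14874 = n11461 := d16_1 D14874 (iv D11461) D11459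
def n14875 : Q := act 6 n11459
theorem D14875 : act 6 n11459 = n14875 := rfl
theorem F25846 : act 1 n14875 = n11847 := d10_1 D14875 (iv D11847) F14580 (iv F13741) (iv F20270)
theorem F25847 : act 3 n14875 = n11462 := d17_1 D14875 (iv D11462) D11459
def n14876 : Q := act 3 n11460
theorem D14876 : act 3 n11460 = n14876 := rfl
theorem F25848 : act 1 n14876 = n11464 := d7_1 D14876 (iv D11464) (iv F20271)
def n14877 : Q := act 5 n11460
theorem D14877 : act 5 n11460 = n14877 := rfl
theorem F25849 : act 4 n14877 = n11461 := d18_1 D14877 (iv D11461) D11460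
def n14878 : Q := act 6 n11460
theorem D14878 : act 6 n11460 = n14878 := rfl
theorem F25850 : act 1 n14878 = n11850 := d10_1 D14878 (iv D11850) F14581 (iv F13743) (iv F20271)
theorem F25851 : act 4 n14878 = n11462 := d19_1 D14878 (iv D11462) D11460
def n14879 : Q := act 6 n11461
theorem D14879 : act 6 n11461 = n14879 := rfl
theorem F25852 : act 5 n14879 = n14871 := d22_2 D11461 D14879 (iv D14871) (iv D11458)
def n14880 : Q := act 5 n11462
theorem D14880 : act 5 n11462 = n14880 := rfl
theorem F25853 : act 0 n14880 = n14879 := d4_1 D14880 F25852 F25841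
theorem F25854 : act 6 n14880 = n14870 := d20_2 D11462 D14880 (iv D14870) D14871 (iv F25852) (iv D14879) (iv D11461)
def n14881 : Q := act 3 n11463
theorem D14881 : act 3 n11463 = n14881 := rfl
theorem F25855 : act 0 n14881 = n14832 := d2_1 D14881 (iv D14832) (iv F20273)
theorem F25856 : act 2 n14881 = n11771 := d11_1 D14881 (iv D11771) F14393 (iv F14010) (iv F20058) F20059 (iv F20237) D14832 F25787 (iv D11854) F14586 (iv F20540) (iv F20575) F20576 (iv F20274)
theorem F25857 : act 4 n14881 = n11464 := d15_2 D11463 D14881 (iv D11464) (iv D9181) D9180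
theorem F25858 : act 5 n14881 = n12796 := d16_2 (iv F20275) D14881 (iv D12796)
theorem F25859 : act 6 n14881 = n11854 := d17_2 (iv F20276) D14881 (iv D11854)
def n14883 : Q := act 4 n11465
theorem D14883 : act 4 n11465 = n14883 := rfl
theorem F25861 : act 1 n14883 = n11468 := d8_1 D14883 (iv D11468) (iv F20278)
theorem F25863 : act 5 n14883 = n12884 := d18_2 (iv F20840) D14883 F22568
def n14884 : Q := act 6 n11465
theorem D14884 : act 6 n11465 = n14884 := rfl
theorem F25864 : act 0 n14884 = n12931 := d5_1 D14884 F22689 F20841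
theorem F25866 : act 3 n14884 = n11466 := d17_1 D14884 (iv D11466) D11465
theorem F25867 : act 5 n14884 = n11786 := d22_2 (iv F20840) D14884 F20825 D11794
def n14885 : Q := act 1 n11467
theorem D14885 : act 1 n11467 = n14885 := rfl
theorem F25868 : act 3 n14885 = n14838 := d7_2 (iv F20286) D14885 (iv D14838)
def n14887 : Q := act 0 n11469
theorem D14887 : act 0 n11469 = n14887 := rfl
def n14888 : Q := act 3 n11469
theorem D14888 : act 3 n11469 = n14888 := rfl
theorem F25872 : act 1 n14888 = n11470 := d7_1 D14888 (iv D11470) D11469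
def n14889 : Q := act 4 n11469
theorem D14889 : act 4 n11469 = n14889 := rfl
theorem F25873 : act 1 n14889 = n11471 := d8_1 D14889 (iv D11471) D11469
def n14890 : Q := act 5 n11469
theorem D14890 : act 5 n11469 = n14890 := rfl
def n14891 : Q := act 6 n11469
theorem D14891 : act 6 n11469 = n14891 := rfl
theorem F25874 : act 1 n14891 = n14891 := d10_1 D14891 (iv D14891) (iv D11469) F16187 D11469
def n14892 : Q := act 4 n11470
theorem D14892 : act 4 n11470 = n14892 := rfl
theorem F25875 : act 0 n14892 = n14839 := d3_1 D14892 (iv D14839) (iv F20290)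
theorem F25876 : act 2 n14892 = n14837 := d12_1 D14892 (iv D14837) (iv F20291)
theorem F25877 : act 6 n14892 = n14892 := d19_2 F20292 D14892 (iv D14892)
def n14911 : Q := act 5 n11485
theorem D14911 : act 5 n11485 = n14911 := rfl
theorem F25922 : act 1 n14911 = n12879 := d9_1 D14911 F22550 (iv F18343) F18345 (iv F20328)
theorem F25923 : act 2 n14911 = n13118 := d13_1 D14911 F22986 (iv F20329)
def n14913 : Q := act 6 n11486
theorem D14913 : act 6 n11486 = n14913 := rfl
theorem F25930 : act 2 n14913 = n12886 := d14_1 D14913 F22574 (iv F20332)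
def n14916 : Q := act 1 n11490
theorem D14916 : act 1 n11490 = n14916 := rfl
theorem F25936 : act 4 n14916 = n11606 := d8_2 (iv F20340) D14916 (iv D11606)
theorem F25937 : act 5 n14916 = n12036 := d9_2 D11490 D14916 (iv D12036) (iv D9945) (iv F13886)
def n14917 : Q := act 1 n11491
theorem D14917 : act 1 n11491 = n14917 := rfl
theorem F25938 : act 4 n14917 = n11607 := d8_2 (iv F20342) D14917 (iv D11607)
theorem F25939 : act 6 n14917 = n12037 := d10_2 D11491 D14917 (iv D12037) (iv D9946) (iv F13886)
def n14918 : Q := act 1 n11492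
theorem D14918 : act 1 n11492 = n14918 := rfl
theorem F25940 : act 3 n14918 = n11494 := d7_2 (iv F20343) D14918 (iv D11494)
theorem F25941 : act 4 n14918 = n12045 := d8_2 (iv F20344) D14918 (iv D12045)
theorem F25942 : act 5 n14918 = n11501 := d9_2 D11492 D14918 (iv D11501) (iv D9306) (iv F13889)
def n14919 : Q := act 6 n11492
theorem D14919 : act 6 n11492 = n14919 := rfl
theorem F25943 : act 2 n14919 = n13314 := d14_1 D14919 F23405 F23376
theorem F25944 : act 3 n14919 = n11495 := d17_1 D14919 (iv D11495) (iv F20343)
theorem F25945 : act 4 n14919 = n12046 := d19_1 D14919 (iv D12046) (iv F20344)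
theorem F25946 : act 5 n14919 = n13310 := d22_2 D11492 D14919 (iv D13310) F18900
def n14920 : Q := act 1 n11493
theorem D14920 : act 1 n11493 = n14920 := rfl
theorem F25947 : act 3 n14920 = n11496 := d7_2 (iv F20345) D14920 (iv D11496)
theorem F25948 : act 4 n14920 = n12047 := d8_2 (iv F20346) D14920 (iv D12047)
theorem F25949 : act 6 n14920 = n11502 := d10_2 D11493 D14920 (iv D11502) (iv D9307) (iv F13889)
def n14921 : Q := act 5 n11493
theorem D14921 : act 5 n11493 = n14921 := rfl
theorem F25950 : act 0 n14921 = n14919 := d4_1 D14921 F25946 F23389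
theorem F25951 : act 2 n14921 = n13312 := d13_1 D14921 F23398 F23380
theorem F25952 : act 3 n14921 = n11497 := d16_1 D14921 (iv D11497) (iv F20345)
theorem F25953 : act 4 n14921 = n12048 := d18_1 D14921 (iv D12048) (iv F20346)
theorem F25954 : act 6 n14921 = n13309 := d20_2 D11493 D14921 (iv D13309) D13310 (iv F25946) (iv D14919) (iv D11492)
def n14922 : Q := act 6 n11494
theorem D14922 : act 6 n11494 = n14922 := rfl
theorem F25955 : act 4 n14922 = n11612 := d19_1 D14922 (iv D11612) (iv F20347)
def n14923 : Q := act 1 n11495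
theorem D14923 : act 1 n11495 = n14923 := rfl
theorem F25956 : act 4 n14923 = n11613 := d8_2 (iv F20349) D14923 (iv D11613)
def n14924 : Q := act 0 n11496
theorem D14924 : act 0 n11496 = n14924 := rfl
theorem F25958 : act 6 n14924 = n11506 := d5_2 (iv F20352) D14924 (iv D11506)
def n14925 : Q := act 2 n11496
theorem D14925 : act 2 n11496 = n14925 := rfl
theorem F25960 : act 6 n14925 = n11507 := d14_2 (iv F20352) D14925 (iv D11507)
def n14926 : Q := act 5 n11496
theorem D14926 : act 5 n11496 = n14926 := rfl
theorem F25961 : act 4 n14926 = n11616 := d18_1 D14926 (iv D11616) (iv F20351)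
def n14927 : Q := act 1 n11497
theorem D14927 : act 1 n11497 = n14927 := rfl
theorem F25962 : act 4 n14927 = n11617 := d8_2 (iv F20354) D14927 (iv D11617)
def n14928 : Q := act 0 n11498
theorem D14928 : act 0 n11498 = n14928 := rfl
theorem F25963 : act 3 n14928 = n14928 := d2_2 F20356 D14928 (iv D14928)
theorem F25964 : act 4 n14928 = n12057 := d3_2 (iv F20357) D14928 (iv D12057)
def n14929 : Q := act 5 n11498
theorem D14929 : act 5 n11498 = n14929 := rfl
theorem F25965 : act 3 n14929 = n14929 := d16_1 D14929 (iv D14929) F20356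
theorem F25966 : act 4 n14929 = n12059 := d18_1 D14929 (iv D12059) (iv F20357)
def n14930 : Q := act 6 n11498
theorem D14930 : act 6 n11498 = n14930 := rfl
theorem F25967 : act 3 n14930 = n14930 := d17_1 D14930 (iv D14930) F20356
theorem F25968 : act 4 n14930 = n12060 := d19_1 D14930 (iv D12060) (iv F20357)
def n14931 : Q := act 1 n11499
theorem D14931 : act 1 n11499 = n14931 := rfl
theorem F25969 : act 3 n14931 = n14931 := d7_2 F20360 D14931 (iv D14931)
theorem F25970 : act 4 n14931 = n12063 := d8_2 (iv F20361) D14931 (iv D12063)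
def n14932 : Q := act 1 n11500
theorem D14932 : act 1 n11500 = n14932 := rfl
theorem F25971 : act 3 n14932 = n14932 := d7_2 F20364 D14932 (iv D14932)
theorem F25972 : act 4 n14932 = n12064 := d8_2 (iv F20365) D14932 (iv D12064)
def n14933 : Q := act 0 n11501
theorem D14933 : act 0 n11501 = n14933 := rfl
theorem F25973 : act 3 n14933 = n11503 := d2_2 (iv F20366) D14933 (iv D11503)
theorem F25974 : act 4 n14933 = n12065 := d3_2 (iv F20367) D14933 (iv D12065)
def n14934 : Q := act 2 n11501
theorem D14934 : act 2 n11501 = n14934 := rfl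
theorem F25975 : act 4 n14934 = n12066 := d12_2 (iv F20367) D14934 (iv D12066)
def n14935 : Q := act 6 n11501
theorem D14935 : act 6 n11501 = n14935 := rfl
theorem F25976 : act 3 n14935 = n11505 := d17_1 D14935 (iv D11505) (iv F20366)
theorem F25977 : act 4 n14935 = n12067 := d19_1 D14935 (iv D12067) (iv F20367)
def n14936 : Q := act 0 n11502
theorem D14936 : act 0 n11502 = n14936 := rfl
theorem F25978 : act 3 n14936 = n11506 := d2_2 (iv F20368) D14936 (iv D11506)
theorem F25979 : act 4 n14936 = n12068 := d3_2 (iv F20369) D14936 (iv D12068)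
def n14937 : Q := act 2 n11502
theorem D14937 : act 2 n11502 = n14937 := rfl
theorem F25980 : act 4 n14937 = n12069 := d12_2 (iv F20369) D14937 (iv D12069)
def n14938 : Q := act 5 n11502
theorem D14938 : act 5 n11502 = n14938 := rfl
theorem F25981 : act 3 n14938 = n11508 := d16_1 D14938 (iv D11508) (iv F20368)
theorem F25982 : act 4 n14938 = n12070 := d18_1 D14938 (iv D12070) (iv F20369)
def n14939 : Q := act 1 n11503
theorem D14939 : act 1 n11503 = n14939 := rfl
theorem F25983 : act 2 n14939 = n14347 := d6_2 F20371 D14939 (iv D14347) F19881 D11494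
theorem F25984 : act 4 n14939 = n11618 := d8_2 (iv F20370) D14939 (iv D11618)
theorem F25985 : act 5 n14939 = n14360 := d9_2 F20374 D14939 F25094 (iv F25220) F25218
def n14940 : Q := act 6 n11503
theorem D14940 : act 6 n11503 = n14940 := rfl
theorem F25986 : act 0 n14940 = n11505 := d5_1 D14940 (iv D11505) D11503
theorem F25987 : act 2 n14940 = n14922 := d14_1 D14940 (iv D14922) F20371
theorem F25988 : act 4 n14940 = n11619 := d19_1 D14940 (iv D11619) (iv F20370)
theorem F25989 : act 5 n14940 = n14922 := d22_2 F20374 D14940 (iv D14922) (iv F20372)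
def n14941 : Q := act 3 n11504
theorem D14941 : act 3 n11504 = n14941 := rfl
theorem F25990 : act 0 n14941 = n14918 := d2_1 D14941 F25940 (iv F20372)
theorem F25991 : act 5 n14941 = n14933 := d16_2 (iv F20374) D14941 F25973
def n14942 : Q := act 6 n11504
theorem D14942 : act 6 n11504 = n14942 := rfl
theorem F25992 : act 0 n14942 = n14922 := d5_1 D14942 (iv D14922) (iv F20372)
theorem F25993 : act 2 n14942 = n11505 := d14_1 D14942 (iv D11505) D11504
theorem F25994 : act 4 n14942 = n11620 := d19_1 D14942 (iv D11620) (iv F20373)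
theorem F25995 : act 5 n14942 = n11505 := d20_1 D14942 (iv D11505) (iv F20348) D14922 (iv F25989) (iv D14940) (iv F20374)
theorem F25996 : act 1 n12280 = n14942 := d8_3 F25994 F22133 (iv F21653)
def n14943 : Q := act 1 n11506
theorem D14943 : act 1 n11506 = n14943 := rfl
theorem F25997 : act 4 n14943 = n11621 := d8_2 (iv F20376) D14943 (iv D11621)
def n14944 : Q := act 2 n11506
theorem D14944 : act 2 n11506 = n14944 := rfl
theorem F25998 : act 0 n14944 = n11507 := d1_1 D14944 (iv D11507) D11506
def n14945 : Q := act 5 n11506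
theorem D14945 : act 5 n11506 = n14945 := rfl
theorem F26000 : act 0 n14945 = n11508 := d4_1 D14945 (iv D11508) D11506
theorem F26001 : act 4 n14945 = n11623 := d18_1 D14945 (iv D11623) (iv F20376)
theorem F26002 : act 6 n14945 = n14926 := d22_1 D14945 (iv D14926) F20352 D11506
def n14946 : Q := act 3 n11507
theorem D14946 : act 3 n11507 = n14946 := rfl
def n14947 : Q := act 5 n11507
theorem D14947 : act 5 n11507 = n14947 := rfl
theorem F26003 : act 2 n14947 = n11508 := d13_1 D14947 (iv D11508) D11507
theorem F26004 : act 4 n14947 = n11625 := d18_1 D14947 (iv D11625) (iv F20377)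
def n14948 : Q := act 6 n11508
theorem D14948 : act 6 n11508 = n14948 := rfl
theorem F26005 : act 0 n14948 = n14926 := d5_1 D14948 (iv F26002) F26000
theorem F26006 : act 4 n14948 = n11626 := d19_1 D14948 (iv D11626) (iv F20378)
theorem F26007 : act 5 n14948 = n14924 := d20_1 D14948 F25958 D14945 F26002 (iv D14926) F20352 D11508
theorem F26008 : act 1 n12228 = n14948 := d8_3 F26006 F22066 (iv F21564)
def n14949 : Q := act 2 n11509
theorem D14949 : act 2 n11509 = n14949 := rfl
theorem F26009 : act 0 n14949 = n14949 := d1_1 D14949 (iv D14949) F23997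
theorem F26010 : act 1 n14949 = n11514 := d6_1 D14949 (iv D11514) (iv D9313) (iv F13904) D11509
theorem F26011 : act 4 n14949 = n12088 := d12_2 (iv F20380) D14949 (iv D12088)
theorem F26012 : act 5 n14949 = n14949 := d13_2 F20381 D14949 (iv D14949)
def n14950 : Q := act 6 n11509
theorem D14950 : act 6 n11509 = n14950 := rfl
theorem F26013 : act 0 n14950 = n14950 := d5_1 D14950 (iv D14950) F23997
theorem F26014 : act 3 n14950 = n14950 := d17_1 D14950 (iv D14950) F20379
theorem F26015 : act 4 n14950 = n12089 := d19_1 D14950 (iv D12089) (iv F20380)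
theorem F26016 : act 5 n14950 = n14950 := d22_2 F20381 D14950 (iv D14950) F23997
def n14951 : Q := act 1 n11510
theorem D14951 : act 1 n11510 = n14951 := rfl
theorem F26017 : act 3 n14951 = n14951 := d7_2 F20383 D14951 (iv D14951)
theorem F26018 : act 4 n14951 = n12090 := d8_2 (iv F20384) D14951 (iv D12090)
def n14952 : Q := act 0 n11511
theorem D14952 : act 0 n11511 = n14952 := rfl
theorem F26020 : act 4 n14952 = n12091 := d3_2 (iv F20387) D14952 (iv D12091)
def n14953 : Q := act 2 n11511
theorem D14953 : act 2 n11511 = n14953 := rfl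
theorem F26022 : act 1 n14953 = n11518 := d6_1 D14953 (iv D11518) (iv D9315) (iv F13906) D11511
theorem F26023 : act 4 n14953 = n12092 := d12_2 (iv F20387) D14953 (iv D12092)
theorem F26024 : act 6 n14953 = n14953 := d14_2 F20388 D14953 (iv D14953)
def n14954 : Q := act 5 n11511
theorem D14954 : act 5 n11511 = n14954 := rfl
theorem F26025 : act 3 n14954 = n14954 := d16_1 D14954 (iv D14954) F20386
theorem F26026 : act 4 n14954 = n12093 := d18_1 D14954 (iv D12093) (iv F20387)
def n14955 : Q := act 1 n11512
theorem D14955 : act 1 n11512 = n14955 := rfl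
theorem F26027 : act 3 n14955 = n14955 := d7_2 F20391 D14955 (iv D14955)
theorem F26028 : act 4 n14955 = n12094 := d8_2 (iv F20392) D14955 (iv D12094)
def n14956 : Q := act 1 n11513
theorem D14956 : act 1 n11513 = n14956 := rfl
theorem F26029 : act 3 n14956 = n11521 := d7_2 (iv F20394) D14956 (iv D11521)
theorem F26030 : act 4 n14956 = n12095 := d8_2 (iv F20395) D14956 (iv D12095)
def n14957 : Q := act 2 n11513
theorem D14957 : act 2 n11513 = n14957 := rfl
theorem F26031 : act 0 n14957 = n11514 := d1_1 D14957 (iv D11514) D11513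
theorem F26032 : act 4 n14957 = n12096 := d12_2 (iv F20395) D14957 (iv D12096)
theorem F26033 : act 5 n14957 = n11538 := d13_2 (iv F20396) D14957 (iv D11538)
def n14958 : Q := act 3 n11514
theorem D14958 : act 3 n11514 = n14958 := rfl
theorem F26034 : act 5 n14958 = n11540 := d16_2 (iv F20398) D14958 (iv D11540)
def n14959 : Q := act 6 n11514
theorem D14959 : act 6 n11514 = n14959 := rfl
theorem F26035 : act 2 n14959 = n11515 := d14_1 D14959 (iv D11515) D11514
theorem F26036 : act 4 n14959 = n12098 := d19_1 D14959 (iv D12098) (iv F20397)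
def n14960 : Q := act 1 n11515
theorem D14960 : act 1 n11515 = n14960 := rfl
theorem F26037 : act 3 n14960 = n11525 := d7_2 (iv F20399) D14960 (iv D11525)
theorem F26038 : act 4 n14960 = n12099 := d8_2 (iv F20400) D14960 (iv D12099)
theorem F26039 : act 6 n14960 = n11516 := d10_2 D11515 D14960 (iv D11516) (iv D9314) D9313
def n14961 : Q := act 0 n11516
theorem D14961 : act 0 n11516 = n14961 := rfl
theorem F26040 : act 3 n14961 = n11526 := d2_2 (iv F20401) D14961 (iv D11526)
theorem F26041 : act 4 n14961 = n12100 := d3_2 (iv F20402) D14961 (iv D12100)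
def n14962 : Q := act 2 n11516
theorem D14962 : act 2 n11516 = n14962 := rfl
theorem F26042 : act 4 n14962 = n12101 := d12_2 (iv F20402) D14962 (iv D12101)
def n14963 : Q := act 5 n11516
theorem D14963 : act 5 n11516 = n14963 := rfl
theorem F26043 : act 1 n14963 = n14938 := d9_1 D14963 (iv D14938) (iv D11502) (iv F13913) D11516
theorem F26044 : act 3 n14963 = n11528 := d16_1 D14963 (iv D11528) (iv F20401)
theorem F26045 : act 4 n14963 = n12102 := d18_1 D14963 (iv D12102) (iv F20402)
def n14964 : Q := act 1 n11517
theorem D14964 : act 1 n11517 = n14964 := rfl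
theorem F26046 : act 3 n14964 = n11529 := d7_2 (iv F20403) D14964 (iv D11529)
theorem F26047 : act 4 n14964 = n12103 := d8_2 (iv F20404) D14964 (iv D12103)
def n14965 : Q := act 2 n11517
theorem D14965 : act 2 n11517 = n14965 := rfl
theorem F26048 : act 0 n14965 = n11518 := d1_1 D14965 (iv D11518) D11517
theorem F26049 : act 4 n14965 = n12104 := d12_2 (iv F20404) D14965 (iv D12104)
theorem F26050 : act 6 n14965 = n11544 := d14_2 (iv F20405) D14965 (iv D11544)
def n14966 : Q := act 3 n11518
theorem D14966 : act 3 n11518 = n14966 := rfl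
theorem F26051 : act 6 n14966 = n11546 := d17_2 (iv F20407) D14966 (iv D11546)
def n14967 : Q := act 5 n11518
theorem D14967 : act 5 n11518 = n14967 := rfl
theorem F26052 : act 2 n14967 = n11519 := d13_1 D14967 (iv D11519) D11518
theorem F26053 : act 4 n14967 = n12106 := d18_1 D14967 (iv D12106) (iv F20406)
def n14968 : Q := act 1 n11519
theorem D14968 : act 1 n11519 = n14968 := rfl
theorem F26054 : act 3 n14968 = n11533 := d7_2 (iv F20408) D14968 (iv D11533)
theorem F26055 : act 4 n14968 = n12107 := d8_2 (iv F20409) D14968 (iv D12107)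
theorem F26056 : act 5 n14968 = n11520 := d9_2 D11519 D14968 (iv D11520) (iv D9316) D9315
def n14969 : Q := act 0 n11520
theorem D14969 : act 0 n11520 = n14969 := rfl
theorem F26057 : act 3 n14969 = n11534 := d2_2 (iv F20410) D14969 (iv D11534)
theorem F26058 : act 4 n14969 = n12108 := d3_2 (iv F20411) D14969 (iv D12108)
def n14970 : Q := act 2 n11520
theorem D14970 : act 2 n11520 = n14970 := rfl
theorem F26059 : act 4 n14970 = n12109 := d12_2 (iv F20411) D14970 (iv D12109)
def n14971 : Q := act 6 n11520
theorem D14971 : act 6 n11520 = n14971 := rfl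
theorem F26060 : act 1 n14971 = n14935 := d10_1 D14971 (iv D14935) (iv D11501) (iv F13920) D11520
theorem F26061 : act 3 n14971 = n11536 := d17_1 D14971 (iv D11536) (iv F20410)
theorem F26062 : act 4 n14971 = n12110 := d19_1 D14971 (iv D12110) (iv F20411)
def n14972 : Q := act 0 n11521
theorem D14972 : act 0 n11521 = n14972 := rfl
theorem F26063 : act 4 n14972 = n11627 := d3_2 (iv F20412) D14972 (iv D11627)
def n14973 : Q := act 2 n11521
theorem D14973 : act 2 n11521 = n14973 := rfl
theorem F26064 : act 4 n14973 = n11628 := d12_2 (iv F20412) D14973 (iv D11628)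
def n14974 : Q := act 5 n11521
theorem D14974 : act 5 n11521 = n14974 := rfl
theorem F26065 : act 1 n14974 = n11550 := d9_1 D14974 (iv D11550) (iv D9331) (iv F13922) D11521
theorem F26066 : act 4 n14974 = n11629 := d18_1 D14974 (iv D11629) (iv F20412)
def n14975 : Q := act 6 n11521
theorem D14975 : act 6 n11521 = n14975 := rfl
theorem F26067 : act 4 n14975 = n11630 := d19_1 D14975 (iv D11630) (iv F20412)
def n14976 : Q := act 1 n11522
theorem D14976 : act 1 n11522 = n14976 := rfl
theorem F26068 : act 4 n14976 = n11631 := d8_2 (iv F20414) D14976 (iv D11631)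
def n14977 : Q := act 3 n11522
theorem D14977 : act 3 n11522 = n14977 := rfl
theorem F26069 : act 0 n14977 = n11523 := d2_1 D14977 (iv D11523) (iv F20413)
theorem F26070 : act 5 n14977 = n11553 := d16_2 (iv F20415) D14977 (iv D11553)
def n14978 : Q := act 2 n11523
theorem D14978 : act 2 n11523 = n14978 := rfl
theorem F26071 : act 5 n14978 = n11556 := d13_2 (iv F20416) D14978 (iv D11556)
def n14979 : Q := act 4 n11523
theorem D14979 : act 4 n11523 = n14979 := rfl
theorem F26072 : act 3 n14979 = n11634 := d15_1 D14979 (iv D11634) (iv D9559) (iv F13923) D11523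
theorem F26073 : act 5 n14979 = n11557 := d18_2 (iv F20416) D14979 (iv D11557)
def n14980 : Q := act 6 n11523
theorem D14980 : act 6 n11523 = n14980 := rfl
theorem F26074 : act 3 n14980 = n11524 := d17_1 D14980 (iv D11524) D11523
def n14981 : Q := act 1 n11524
theorem D14981 : act 1 n11524 = n14981 := rfl
theorem F26075 : act 4 n14981 = n11636 := d8_2 (iv F20418) D14981 (iv D11636)
def n14982 : Q := act 0 n11525
theorem D14982 : act 0 n11525 = n14982 := rfl
theorem F26076 : act 4 n14982 = n11637 := d3_2 (iv F20419) D14982 (iv D11637)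
theorem F26077 : act 6 n14982 = n11526 := d5_2 (iv F20420) D14982 (iv D11526)
def n14983 : Q := act 2 n11525
theorem D14983 : act 2 n11525 = n14983 := rfl
theorem F26078 : act 4 n14983 = n11638 := d12_2 (iv F20419) D14983 (iv D11638)
theorem F26079 : act 6 n14983 = n11527 := d14_2 (iv F20420) D14983 (iv D11527)
def n14984 : Q := act 5 n11525
theorem D14984 : act 5 n11525 = n14984 := rfl
theorem F26080 : act 4 n14984 = n11639 := d18_1 D14984 (iv D11639) (iv F20419)
def n14985 : Q := act 1 n11526
theorem D14985 : act 1 n11526 = n14985 := rfl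
theorem F26081 : act 4 n14985 = n11640 := d8_2 (iv F20421) D14985 (iv D11640)
theorem F26082 : act 5 n12264 = n14985 := d18_0 F26081 F20633 (iv F21623)
def n14986 : Q := act 2 n11526
theorem D14986 : act 2 n11526 = n14986 := rfl
theorem F26083 : act 0 n14986 = n11527 := d1_1 D14986 (iv D11527) D11526
theorem F26084 : act 4 n14986 = n11641 := d12_2 (iv F20421) D14986 (iv D11641)
def n14987 : Q := act 5 n11526
theorem D14987 : act 5 n11526 = n14987 := rfl
theorem F26085 : act 0 n14987 = n11528 := d4_1 D14987 (iv D11528) D11526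
theorem F26086 : act 1 n14987 = n12143 := d9_1 D14987 F21428 (iv F21622) F26082 (iv D14985)
theorem F26087 : act 4 n14987 = n11642 := d18_1 D14987 (iv D11642) (iv F20421)
theorem F26088 : act 6 n14987 = n14984 := d22_1 D14987 (iv D14984) F20420 D11526
def n14988 : Q := act 3 n11527
theorem D14988 : act 3 n11527 = n14988 := rfl
def n14989 : Q := act 5 n11527
theorem D14989 : act 5 n11527 = n14989 := rfl
theorem F26089 : act 2 n14989 = n11528 := d13_1 D14989 (iv D11528) D11527
theorem F26090 : act 4 n14989 = n11644 := d18_1 D14989 (iv D11644) (iv F20422)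
def n14990 : Q := act 6 n11528
theorem D14990 : act 6 n11528 = n14990 := rfl
theorem F26091 : act 0 n14990 = n14984 := d5_1 D14990 (iv F26088) F26085
theorem F26092 : act 4 n14990 = n11645 := d19_1 D14990 (iv D11645) (iv F20424)
theorem F26093 : act 5 n14990 = n14982 := d20_1 D14990 F26077 D14987 F26088 (iv D14984) F20420 D11528
def n14991 : Q := act 0 n11529
theorem D14991 : act 0 n11529 = n14991 := rfl
theorem F26094 : act 4 n14991 = n11646 := d3_2 (iv F20425) D14991 (iv D11646)
def n14992 : Q := act 2 n11529
theorem D14992 : act 2 n11529 = n14992 := rfl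
theorem F26095 : act 4 n14992 = n11647 := d12_2 (iv F20425) D14992 (iv D11647)
def n14993 : Q := act 5 n11529
theorem D14993 : act 5 n11529 = n14993 := rfl
theorem F26096 : act 4 n14993 = n11648 := d18_1 D14993 (iv D11648) (iv F20425)
def n14994 : Q := act 6 n11529
theorem D14994 : act 6 n11529 = n14994 := rfl
theorem F26097 : act 1 n14994 = n11565 := d10_1 D14994 (iv D11565) (iv D9337) (iv F13928) D11529
theorem F26098 : act 4 n14994 = n11649 := d19_1 D14994 (iv D11649) (iv F20425)
def n14995 : Q := act 1 n11530
theorem D14995 : act 1 n11530 = n14995 := rfl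
theorem F26099 : act 4 n14995 = n11650 := d8_2 (iv F20427) D14995 (iv D11650)
def n14996 : Q := act 3 n11530
theorem D14996 : act 3 n11530 = n14996 := rfl
theorem F26100 : act 0 n14996 = n11531 := d2_1 D14996 (iv D11531) (iv F20426)
theorem F26101 : act 6 n14996 = n11567 := d17_2 (iv F20428) D14996 (iv D11567)
def n14997 : Q := act 2 n11531
theorem D14997 : act 2 n11531 = n14997 := rfl
theorem F26102 : act 6 n14997 = n11570 := d14_2 (iv F20429) D14997 (iv D11570)
def n14998 : Q := act 4 n11531
theorem D14998 : act 4 n11531 = n14998 := rfl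
theorem F26103 : act 3 n14998 = n11653 := d15_1 D14998 (iv D11653) (iv D9567) (iv F13929) D11531
theorem F26104 : act 6 n14998 = n11571 := d19_2 (iv F20429) D14998 (iv D11571)
def n14999 : Q := act 5 n11531
theorem D14999 : act 5 n11531 = n14999 := rfl
theorem F26105 : act 3 n14999 = n11532 := d16_1 D14999 (iv D11532) D11531
def n15000 : Q := act 1 n11532
theorem D15000 : act 1 n11532 = n15000 := rfl
theorem F26106 : act 4 n15000 = n11655 := d8_2 (iv F20431) D15000 (iv D11655)
def n15001 : Q := act 0 n11533
theorem D15001 : act 0 n11533 = n15001 := rfl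
theorem F26107 : act 4 n15001 = n11656 := d3_2 (iv F20432) D15001 (iv D11656)
theorem F26108 : act 5 n15001 = n11534 := d4_2 (iv F20433) D15001 (iv D11534)
def n15002 : Q := act 2 n11533
theorem D15002 : act 2 n11533 = n15002 := rfl
theorem F26109 : act 4 n15002 = n11657 := d12_2 (iv F20432) D15002 (iv D11657)
theorem F26110 : act 5 n15002 = n11535 := d13_2 (iv F20433) D15002 (iv D11535)
def n15003 : Q := act 6 n11533
theorem D15003 : act 6 n11533 = n15003 := rfl
theorem F26111 : act 4 n15003 = n11658 := d19_1 D15003 (iv D11658) (iv F20432)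
def n15004 : Q := act 1 n11534
theorem D15004 : act 1 n11534 = n15004 := rfl
theorem F26112 : act 4 n15004 = n11659 := d8_2 (iv F20434) D15004 (iv D11659)
theorem F26113 : act 6 n12212 = n15004 := d19_0 F26112 (iv F20657) (iv F21534)
def n15005 : Q := act 2 n11534
theorem D15005 : act 2 n11534 = n15005 := rfl
theorem F26114 : act 0 n15005 = n11535 := d1_1 D15005 (iv D11535) D11534
theorem F26115 : act 4 n15005 = n11660 := d12_2 (iv F20434) D15005 (iv D11660)
def n15006 : Q := act 6 n11534
theorem D15006 : act 6 n11534 = n15006 := rfl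
theorem F26116 : act 0 n15006 = n11536 := d5_1 D15006 (iv D11536) D11534
theorem F26117 : act 1 n15006 = n12124 := d10_1 D15006 F21396 (iv F21533) F26113 (iv D15004)
theorem F26118 : act 4 n15006 = n11661 := d19_1 D15006 (iv D11661) (iv F20434)
theorem F26119 : act 5 n15006 = n15003 := d22_2 F26108 D15006 (iv D15003) D15001
def n15007 : Q := act 3 n11535
theorem D15007 : act 3 n11535 = n15007 := rfl
def n15008 : Q := act 6 n11535
theorem D15008 : act 6 n11535 = n15008 := rfl
theorem F26120 : act 2 n15008 = n11536 := d14_1 D15008 (iv D11536) D11535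
theorem F26121 : act 4 n15008 = n11663 := d19_1 D15008 (iv D11663) (iv F20435)
def n15009 : Q := act 5 n11536
theorem D15009 : act 5 n11536 = n15009 := rfl
theorem F26122 : act 0 n15009 = n15003 := d4_1 D15009 (iv F26119) F26116
theorem F26123 : act 4 n15009 = n11664 := d18_1 D15009 (iv D11664) (iv F20437)
theorem F26124 : act 6 n15009 = n15001 := d20_2 D11536 D15009 F26108 D15006 F26119 (iv D15003) F20433
def n15010 : Q := act 5 n11537
theorem D15010 : act 5 n11537 = n15010 := rfl
theorem F26125 : act 3 n15010 = n11550 := d16_1 D15010 (iv D11550) (iv F20438)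
theorem F26126 : act 4 n15010 = n12149 := d18_1 D15010 (iv D12149) (iv F20439)
def n15011 : Q := act 6 n11537
theorem D15011 : act 6 n11537 = n15011 := rfl
theorem F26127 : act 3 n15011 = n11551 := d17_1 D15011 (iv D11551) (iv F20438)
theorem F26128 : act 4 n15011 = n12150 := d19_1 D15011 (iv D12150) (iv F20439)
def n15012 : Q := act 1 n11538
theorem D15012 : act 1 n11538 = n15012 := rfl
theorem F26129 : act 4 n15012 = n12151 := d8_2 (iv F20441) D15012 (iv D12151)
def n15013 : Q := act 3 n11538
theorem D15013 : act 3 n11538 = n15013 := rfl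
theorem F26130 : act 0 n15013 = n11540 := d2_1 D15013 (iv D11540) (iv F20440)
def n15014 : Q := act 6 n11538
theorem D15014 : act 6 n11538 = n15014 := rfl
theorem F26131 : act 0 n15014 = n11541 := d5_1 D15014 (iv D11541) (iv F20440)
theorem F26132 : act 2 n15014 = n11539 := d14_1 D15014 (iv D11539) D11538
theorem F26133 : act 4 n15014 = n12153 := d19_1 D15014 (iv D12153) (iv F20441)
theorem F26134 : act 5 n15014 = n14959 := d22_2 F26033 D15014 (iv D14959) (iv F26031)
def n15015 : Q := act 1 n11539
theorem D15015 : act 1 n11539 = n15015 := rfl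
theorem F26135 : act 3 n15015 = n11555 := d7_2 (iv F20443) D15015 (iv D11555)
theorem F26136 : act 4 n15015 = n12154 := d8_2 (iv F20444) D15015 (iv D12154)
def n15016 : Q := act 2 n11540
theorem D15016 : act 2 n11540 = n15016 := rfl
def n15017 : Q := act 4 n11540
theorem D15017 : act 4 n11540 = n15017 := rfl
theorem F26137 : act 1 n15017 = n15017 := d8_1 D15017 (iv D15017) F20446
theorem F26138 : act 3 n15017 = n12156 := d15_1 D15017 (iv D12156) (iv D10002) (iv F13936) D11540
def n15018 : Q := act 6 n11540
theorem D15018 : act 6 n11540 = n15018 := rfl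
theorem F26139 : act 3 n15018 = n11541 := d17_1 D15018 (iv D11541) D11540
def n15019 : Q := act 1 n11541
theorem D15019 : act 1 n11541 = n15019 := rfl
theorem F26140 : act 4 n15019 = n12158 := d8_2 (iv F20448) D15019 (iv D12158)
theorem F26141 : act 6 n15019 = n15019 := d10_2 D11541 D15019 (iv D15019) (iv D11541) F13935
def n15020 : Q := act 5 n11541
theorem D15020 : act 5 n11541 = n15020 := rfl
theorem F26142 : act 0 n15020 = n14959 := d4_1 D15020 (iv F26134) F26131
theorem F26143 : act 2 n15020 = n11542 := d13_1 D15020 (iv D11542) (iv F20447)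
theorem F26144 : act 4 n15020 = n12159 := d18_1 D15020 (iv D12159) (iv F20448)
theorem F26145 : act 6 n15020 = n14957 := d20_2 D11541 D15020 F26033 D15014 F26134 (iv D14959) F20398
def n15021 : Q := act 1 n11542
theorem D15021 : act 1 n11542 = n15021 := rfl
theorem F26146 : act 3 n15021 = n11561 := d7_2 (iv F20450) D15021 (iv D11561)
theorem F26147 : act 4 n15021 = n12163 := d8_2 (iv F20451) D15021 (iv D12163)
def n15022 : Q := act 5 n11543
theorem D15022 : act 5 n11543 = n15022 := rfl
theorem F26148 : act 3 n15022 = n11564 := d16_1 D15022 (iv D11564) (iv F20453)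
theorem F26149 : act 4 n15022 = n12172 := d18_1 D15022 (iv D12172) (iv F20454)
def n15023 : Q := act 6 n11543
theorem D15023 : act 6 n11543 = n15023 := rfl
theorem F26150 : act 3 n15023 = n11565 := d17_1 D15023 (iv D11565) (iv F20453)
theorem F26151 : act 4 n15023 = n12173 := d19_1 D15023 (iv D12173) (iv F20454)
def n15024 : Q := act 1 n11544
theorem D15024 : act 1 n11544 = n15024 := rfl
theorem F26152 : act 4 n15024 = n12174 := d8_2 (iv F20456) D15024 (iv D12174)
def n15025 : Q := act 3 n11544
theorem D15025 : act 3 n11544 = n15025 := rfl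
theorem F26153 : act 0 n15025 = n11546 := d2_1 D15025 (iv D11546) (iv F20455)
def n15026 : Q := act 5 n11544
theorem D15026 : act 5 n11544 = n15026 := rfl
theorem F26154 : act 0 n15026 = n11547 := d4_1 D15026 (iv D11547) (iv F20455)
theorem F26155 : act 2 n15026 = n11545 := d13_1 D15026 (iv D11545) D11544
theorem F26156 : act 4 n15026 = n12176 := d18_1 D15026 (iv D12176) (iv F20456)
theorem F26157 : act 6 n15026 = n14967 := d22_1 D15026 (iv D14967) F20407 (iv F20455)
def n15027 : Q := act 1 n11545
theorem D15027 : act 1 n11545 = n15027 := rfl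
theorem F26158 : act 3 n15027 = n11569 := d7_2 (iv F20458) D15027 (iv D11569)
theorem F26159 : act 4 n15027 = n12177 := d8_2 (iv F20459) D15027 (iv D12177)
def n15028 : Q := act 2 n11546
theorem D15028 : act 2 n11546 = n15028 := rfl
def n15029 : Q := act 4 n11546
theorem D15029 : act 4 n11546 = n15029 := rfl
theorem F26160 : act 1 n15029 = n15029 := d8_1 D15029 (iv D15029) F20461
theorem F26161 : act 3 n15029 = n12179 := d15_1 D15029 (iv D12179) (iv D10012) (iv F13942) D11546
def n15030 : Q := act 5 n11546
theorem D15030 : act 5 n11546 = n15030 := rfl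
theorem F26162 : act 3 n15030 = n11547 := d16_1 D15030 (iv D11547) D11546
def n15031 : Q := act 1 n11547
theorem D15031 : act 1 n11547 = n15031 := rfl
theorem F26163 : act 4 n15031 = n12181 := d8_2 (iv F20463) D15031 (iv D12181)
theorem F26164 : act 5 n15031 = n15031 := d9_2 D11547 D15031 (iv D15031) (iv D11547) F13941
def n15032 : Q := act 6 n11547
theorem D15032 : act 6 n11547 = n15032 := rfl
theorem F26165 : act 0 n15032 = n14967 := d5_1 D15032 (iv F26157) F26154
theorem F26166 : act 2 n15032 = n11548 := d14_1 D15032 (iv D11548) (iv F20462)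
theorem F26167 : act 4 n15032 = n12182 := d19_1 D15032 (iv D12182) (iv F20463)
theorem F26168 : act 5 n15032 = n14965 := d20_1 D15032 F26050 D15026 F26157 (iv D14967) F20407 D11547
def n15033 : Q := act 1 n11548
theorem D15033 : act 1 n11548 = n15033 := rfl
theorem F26169 : act 3 n15033 = n11575 := d7_2 (iv F20465) D15033 (iv D11575)
theorem F26170 : act 4 n15033 = n12186 := d8_2 (iv F20466) D15033 (iv D12186)
def n15034 : Q := act 5 n11549
theorem D15034 : act 5 n11549 = n15034 := rfl
theorem F26171 : act 0 n15034 = n11550 := d4_1 D15034 (iv D11550) D11549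
theorem F26172 : act 2 n15034 = n11550 := d13_1 D15034 (iv D11550) F20470
theorem F26173 : act 4 n15034 = n11665 := d18_1 D15034 (iv D11665) (iv F20469)
def n15035 : Q := act 6 n11549
theorem D15035 : act 6 n11549 = n15035 := rfl
theorem F26174 : act 0 n15035 = n11551 := d5_1 D15035 (iv D11551) D11549
theorem F26175 : act 2 n15035 = n11551 := d14_1 D15035 (iv D11551) F20470
theorem F26176 : act 4 n15035 = n11666 := d19_1 D15035 (iv D11666) (iv F20469)
def n15036 : Q := act 6 n11550
theorem D15036 : act 6 n11550 = n15036 := rfl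
theorem F26177 : act 4 n15036 = n11667 := d19_1 D15036 (iv D11667) (iv F20471)
theorem F26178 : act 5 n15036 = n15035 := d22_2 D11550 D15036 (iv D15035) (iv D11549)
def n15037 : Q := act 1 n11551
theorem D15037 : act 1 n11551 = n15037 := rfl
theorem F26179 : act 4 n15037 = n11668 := d8_2 (iv F20472) D15037 (iv D11668)
theorem F26180 : act 6 n15037 = n11555 := d10_2 D11551 D15037 (iv D11555) (iv D9333) D9331
def n15038 : Q := act 5 n11551
theorem D15038 : act 5 n11551 = n15038 := rfl
theorem F26181 : act 0 n15038 = n15036 := d4_1 D15038 F26178 F26174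
theorem F26182 : act 2 n15038 = n15036 := d13_1 D15038 F26178 F26175
theorem F26183 : act 4 n15038 = n11669 := d18_1 D15038 (iv D11669) (iv F20472)
theorem F26184 : act 6 n15038 = n15034 := d20_2 D11551 D15038 (iv D15034) D15035 (iv F26178) (iv D15036) (iv D11550)
def n15039 : Q := act 3 n11552
theorem D15039 : act 3 n11552 = n15039 := rfl
theorem F26185 : act 0 n15039 = n12196 := d2_1 D15039 (iv D12196) F20475
theorem F26186 : act 1 n15039 = n11553 := d7_1 D15039 (iv D11553) D11552
theorem F26187 : act 2 n15039 = n13717 := d11_1 D15039 (iv D13717) (iv D10861) (iv F19276) F21541 F17769 D10020 D12196 F21538 (iv D10863) (iv D8011) (iv F11950) D10853 F21540 (iv F20473)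
def n15040 : Q := act 5 n11552
theorem D15040 : act 5 n11552 = n15040 := rfl
theorem F26188 : act 0 n15040 = n12197 := d4_1 D15040 (iv D12197) F20475
theorem F26189 : act 2 n15040 = n12193 := d13_1 D15040 (iv D12193) (iv F20473)
theorem F26190 : act 4 n15040 = n11671 := d18_1 D15040 (iv D11671) (iv F20474)
def n15041 : Q := act 6 n11552
theorem D15041 : act 6 n11552 = n15041 := rfl
theorem F26191 : act 0 n15041 = n12198 := d5_1 D15041 (iv D12198) F20475
theorem F26192 : act 2 n15041 = n12194 := d14_1 D15041 (iv D12194) (iv F20473)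
theorem F26193 : act 4 n15041 = n11672 := d19_1 D15041 (iv D11672) (iv F20474)
def n15042 : Q := act 2 n11553
theorem D15042 : act 2 n11553 = n15042 := rfl
theorem F26194 : act 0 n15042 = n11556 := d1_1 D15042 (iv D11556) (iv F20476)
theorem F26195 : act 3 n15042 = n15016 := d21_1 D15042 (iv D15016) (iv D11540) (iv D9326) F6880 D4517 D9334 (iv F20476)
def n15043 : Q := act 4 n11553
theorem D15043 : act 4 n11553 = n15043 := rfl
theorem F26196 : act 0 n15043 = n11557 := d3_1 D15043 (iv D11557) (iv F20476)
theorem F26197 : act 3 n15043 = n11673 := d15_1 D15043 (iv D11673) (iv D9578) (iv F13947) D11553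
def n15044 : Q := act 6 n11553
theorem D15044 : act 6 n11553 = n15044 := rfl
theorem F26198 : act 0 n15044 = n11558 := d5_1 D15044 (iv D11558) (iv F20476)
theorem F26199 : act 3 n15044 = n11554 := d17_1 D15044 (iv D11554) D11553
theorem F26200 : act 5 n15044 = n14980 := d22_2 F26070 D15044 (iv D14980) (iv F26069)
def n15045 : Q := act 1 n11554
theorem D15045 : act 1 n11554 = n15045 := rfl
theorem F26201 : act 4 n15045 = n11675 := d8_2 (iv F20479) D15045 (iv D11675)
def n15046 : Q := act 0 n11555
theorem D15046 : act 0 n11555 = n15046 := rfl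
theorem F26202 : act 4 n15046 = n11676 := d3_2 (iv F20481) D15046 (iv D11676)
def n15047 : Q := act 2 n11555
theorem D15047 : act 2 n11555 = n15047 := rfl
theorem F26203 : act 4 n15047 = n11677 := d12_2 (iv F20481) D15047 (iv D11677)
def n15048 : Q := act 5 n11555
theorem D15048 : act 5 n11555 = n15048 := rfl
theorem F26204 : act 1 n15048 = n14984 := d9_1 D15048 (iv D14984) (iv D11525) (iv F13950) D11555
theorem F26205 : act 4 n15048 = n11678 := d18_1 D15048 (iv D11678) (iv F20481)
theorem F26206 : act 6 n12141 = n15048 := d19_0 F26205 (iv F20690) (iv F21423)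
def n15049 : Q := act 3 n11556
theorem D15049 : act 3 n11556 = n15049 := rfl
theorem F26207 : act 0 n15049 = n15016 := d2_1 D15049 (iv F26195) F26194
theorem F26208 : act 2 n15049 = n15013 := d11_1 D15049 (iv D15013) (iv D11538) F13933 D9332 D11553 D15042 F26195 (iv D15016) (iv D11540) (iv D9326) F6880 D4517 D9334 D11556
def n15050 : Q := act 4 n11556
theorem D15050 : act 4 n11556 = n15050 := rfl
theorem F26209 : act 2 n15050 = n11557 := d12_1 D15050 (iv D11557) D11556
def n15051 : Q := act 6 n11556
theorem D15051 : act 6 n11556 = n15051 := rfl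
theorem F26210 : act 2 n15051 = n11558 := d14_1 D15051 (iv D11558) D11556
def n15052 : Q := act 6 n11557
theorem D15052 : act 6 n11557 = n15052 := rfl
theorem F26211 : act 3 n15052 = n11682 := d17_1 D15052 (iv D11682) (iv F20483)
theorem F26212 : act 4 n15052 = n11558 := d19_1 D15052 (iv D11558) D11557
def n15053 : Q := act 1 n11558
theorem D15053 : act 1 n11558 = n15053 := rfl
theorem F26213 : act 3 n15053 = n11559 := d7_2 (iv F20484) D15053 (iv D11559)
theorem F26214 : act 6 n15053 = n11583 := d10_2 D11558 D15053 (iv D11583) (iv D9353) (iv F13951)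
def n15054 : Q := act 5 n11558
theorem D15054 : act 5 n11558 = n15054 := rfl
theorem F26215 : act 0 n15054 = n14980 := d4_1 D15054 (iv F26200) F26198
theorem F26216 : act 3 n15054 = n11560 := d16_1 D15054 (iv D11560) (iv F20484)
theorem F26217 : act 6 n15054 = n14977 := d20_2 D11558 D15054 F26070 D15044 F26200 (iv D14980) F20416
def n15055 : Q := act 0 n11559
theorem D15055 : act 0 n11559 = n15055 := rfl
theorem F26218 : act 4 n15055 = n11685 := d3_2 (iv F20485) D15055 (iv D11685)
theorem F26219 : act 6 n15055 = n11584 := d5_2 (iv F20486) D15055 (iv D11584)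
def n15056 : Q := act 5 n11559
theorem D15056 : act 5 n11559 = n15056 := rfl
theorem F26220 : act 4 n15056 = n11686 := d18_1 D15056 (iv D11686) (iv F20485)
def n15057 : Q := act 1 n11560
theorem D15057 : act 1 n11560 = n15057 := rfl
theorem F26221 : act 4 n15057 = n11687 := d8_2 (iv F20489) D15057 (iv D11687)
def n15058 : Q := act 0 n11561
theorem D15058 : act 0 n11561 = n15058 := rfl
theorem F26222 : act 4 n15058 = n11688 := d3_2 (iv F20491) D15058 (iv D11688)
theorem F26223 : act 1 n12082 = n15058 := d8_3 F26222 F22082 (iv F21331)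
def n15059 : Q := act 2 n11561
theorem D15059 : act 2 n11561 = n15059 := rfl
theorem F26224 : act 4 n15059 = n11689 := d12_2 (iv F20491) D15059 (iv D11689)
def n15060 : Q := act 6 n11561
theorem D15060 : act 6 n11561 = n15060 := rfl
theorem F26225 : act 1 n15060 = n14975 := d10_1 D15060 (iv D14975) (iv D11521) (iv F13956) D11561
theorem F26226 : act 4 n15060 = n11690 := d19_1 D15060 (iv D11690) (iv F20491)
def n15061 : Q := act 5 n11562
theorem D15061 : act 5 n11562 = n15061 := rfl
theorem F26227 : act 0 n15061 = n11564 := d4_1 D15061 (iv D11564) D11562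
theorem F26228 : act 2 n15061 = n11564 := d13_1 D15061 (iv D11564) (iv F23430)
theorem F26229 : act 4 n15061 = n11692 := d18_1 D15061 (iv D11692) (iv F20493)
def n15062 : Q := act 6 n11562
theorem D15062 : act 6 n11562 = n15062 := rfl
theorem F26230 : act 0 n15062 = n11565 := d5_1 D15062 (iv D11565) D11562
theorem F26231 : act 2 n15062 = n11565 := d14_1 D15062 (iv D11565) (iv F23430)
theorem F26232 : act 4 n15062 = n11693 := d19_1 D15062 (iv D11693) (iv F20493)
def n15063 : Q := act 1 n11564
theorem D15063 : act 1 n11564 = n15063 := rfl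
theorem F26233 : act 4 n15063 = n11698 := d8_2 (iv F20495) D15063 (iv D11698)
theorem F26234 : act 5 n15063 = n11569 := d9_2 D11564 D15063 (iv D11569) (iv D9339) D9337
def n15064 : Q := act 6 n11564
theorem D15064 : act 6 n11564 = n15064 := rfl
theorem F26235 : act 4 n15064 = n11699 := d19_1 D15064 (iv D11699) (iv F20495)
theorem F26236 : act 5 n15064 = n15062 := d22_2 D11564 D15064 (iv D15062) (iv D11562)
def n15065 : Q := act 5 n11565
theorem D15065 : act 5 n11565 = n15065 := rfl
theorem F26237 : act 0 n15065 = n15064 := d4_1 D15065 F26236 F26230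
theorem F26238 : act 2 n15065 = n15064 := d13_1 D15065 F26236 F26231
theorem F26239 : act 4 n15065 = n11700 := d18_1 D15065 (iv D11700) (iv F20496)
theorem F26240 : act 6 n15065 = n15061 := d20_2 D11565 D15065 (iv D15061) D15062 (iv F26236) (iv D15064) (iv D11564)
theorem F26241 : act 1 n15065 = n14480 := d24_2 D11565 D15065 (iv D14480) (iv F25220) F25218 D14942 F25995 (iv F20436) (iv D11536) (iv F20433) (iv D11533) (iv F13962) (iv D9339) D9337
def n15066 : Q := act 3 n11566
theorem D15066 : act 3 n11566 = n15066 := rfl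
theorem F26242 : act 0 n15066 = n12248 := d2_1 D15066 (iv D12248) (iv F23437)
theorem F26243 : act 1 n15066 = n11567 := d7_1 D15066 (iv D11567) D11566
theorem F26244 : act 2 n15066 = n13739 := d11_1 D15066 (iv D13739) (iv D10871) (iv F19279) F21630 F17785 D10043 D12248 F21627 (iv D10873) (iv D8015) (iv F11953) D10857 F21629 (iv F23438)
def n15067 : Q := act 5 n11566
theorem D15067 : act 5 n11566 = n15067 := rfl
theorem F26245 : act 0 n15067 = n12249 := d4_1 D15067 (iv D12249) (iv F23437)
theorem F26246 : act 2 n15067 = n12245 := d13_1 D15067 (iv D12245) (iv F23438)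
theorem F26247 : act 4 n15067 = n11703 := d18_1 D15067 (iv D11703) (iv F20497)
def n15068 : Q := act 6 n11566
theorem D15068 : act 6 n11566 = n15068 := rfl
theorem F26248 : act 0 n15068 = n12250 := d5_1 D15068 (iv D12250) (iv F23437)
theorem F26249 : act 2 n15068 = n12246 := d14_1 D15068 (iv D12246) (iv F23438)
theorem F26250 : act 4 n15068 = n11704 := d19_1 D15068 (iv D11704) (iv F20497)
def n15069 : Q := act 2 n11567
theorem D15069 : act 2 n11567 = n15069 := rfl
theorem F26251 : act 0 n15069 = n11570 := d1_1 D15069 (iv D11570) (iv F20498)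
theorem F26252 : act 3 n15069 = n15028 := d21_1 D15069 (iv D15028) (iv D11546) (iv D9329) F6882 D4520 D9340 (iv F20498)
def n15070 : Q := act 4 n11567
theorem D15070 : act 4 n11567 = n15070 := rfl
theorem F26253 : act 0 n15070 = n11571 := d3_1 D15070 (iv D11571) (iv F20498)
theorem F26254 : act 3 n15070 = n11705 := d15_1 D15070 (iv D11705) (iv D9592) (iv F13959) D11567
def n15071 : Q := act 5 n11567
theorem D15071 : act 5 n11567 = n15071 := rfl
theorem F26255 : act 0 n15071 = n11572 := d4_1 D15071 (iv D11572) (iv F20498)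
theorem F26256 : act 3 n15071 = n11568 := d16_1 D15071 (iv D11568) D11567
theorem F26257 : act 6 n15071 = n14999 := d22_1 D15071 (iv D14999) F20429 (iv F20498)
def n15072 : Q := act 1 n11568
theorem D15072 : act 1 n11568 = n15072 := rfl
theorem F26258 : act 4 n15072 = n11707 := d8_2 (iv F20501) D15072 (iv D11707)
def n15073 : Q := act 0 n11569
theorem D15073 : act 0 n11569 = n15073 := rfl
theorem F26259 : act 4 n15073 = n11708 := d3_2 (iv F20503) D15073 (iv D11708)
def n15074 : Q := act 2 n11569
theorem D15074 : act 2 n11569 = n15074 := rfl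
theorem F26260 : act 4 n15074 = n11709 := d12_2 (iv F20503) D15074 (iv D11709)
def n15075 : Q := act 6 n11569
theorem D15075 : act 6 n11569 = n15075 := rfl
theorem F26261 : act 1 n15075 = n15003 := d10_1 D15075 (iv D15003) (iv D11533) (iv F13962) D11569
theorem F26262 : act 4 n15075 = n11710 := d19_1 D15075 (iv D11710) (iv F20503)
theorem F26263 : act 5 n12122 = n15075 := d18_0 F26262 (iv F20728) (iv F21391)
def n15076 : Q := act 3 n11570
theorem D15076 : act 3 n11570 = n15076 := rfl
theorem F26264 : act 0 n15076 = n15028 := d2_1 D15076 (iv F26252) F26251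
theorem F26265 : act 2 n15076 = n15025 := d11_1 D15076 (iv D15025) (iv D11544) F13939 D9338 D11567 D15069 F26252 (iv D15028) (iv D11546) (iv D9329) F6882 D4520 D9340 D11570
def n15077 : Q := act 4 n11570
theorem D15077 : act 4 n11570 = n15077 := rfl
theorem F26266 : act 2 n15077 = n11571 := d12_1 D15077 (iv D11571) D11570
def n15078 : Q := act 5 n11570
theorem D15078 : act 5 n11570 = n15078 := rfl
theorem F26267 : act 2 n15078 = n11572 := d13_1 D15078 (iv D11572) D11570
def n15079 : Q := act 5 n11571
theorem D15079 : act 5 n11571 = n15079 := rfl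
theorem F26268 : act 3 n15079 = n11714 := d16_1 D15079 (iv D11714) (iv F20505)
theorem F26269 : act 4 n15079 = n11572 := d18_1 D15079 (iv D11572) D11571
def n15080 : Q := act 1 n11572
theorem D15080 : act 1 n11572 = n15080 := rfl
theorem F26270 : act 3 n15080 = n11573 := d7_2 (iv F20506) D15080 (iv D11573)
theorem F26271 : act 5 n15080 = n11593 := d9_2 D11572 D15080 (iv D11593) (iv D9367) (iv F13963)
def n15081 : Q := act 6 n11572
theorem D15081 : act 6 n11572 = n15081 := rfl
theorem F26272 : act 0 n15081 = n14999 := d5_1 D15081 (iv F26257) F26255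
theorem F26273 : act 3 n15081 = n11574 := d17_1 D15081 (iv D11574) (iv F20506)
theorem F26274 : act 5 n15081 = n14996 := d20_1 D15081 F26101 D15071 F26257 (iv D14999) F20429 D11572
def n15082 : Q := act 0 n11573
theorem D15082 : act 0 n11573 = n15082 := rfl
theorem F26275 : act 4 n15082 = n11717 := d3_2 (iv F20507) D15082 (iv D11717)
theorem F26276 : act 5 n15082 = n11594 := d4_2 (iv F20508) D15082 (iv D11594)
def n15083 : Q := act 6 n11573
theorem D15083 : act 6 n11573 = n15083 := rfl
theorem F26277 : act 4 n15083 = n11718 := d19_1 D15083 (iv D11718) (iv F20507)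
def n15084 : Q := act 1 n11574
theorem D15084 : act 1 n11574 = n15084 := rfl
theorem F26278 : act 4 n15084 = n11719 := d8_2 (iv F20511) D15084 (iv D11719)
def n15085 : Q := act 0 n11575
theorem D15085 : act 0 n11575 = n15085 := rfl
theorem F26279 : act 4 n15085 = n11720 := d3_2 (iv F20513) D15085 (iv D11720)
theorem F26280 : act 1 n12076 = n15085 := d8_3 F26279 F22128 (iv F21319)
def n15086 : Q := act 2 n11575
theorem D15086 : act 2 n11575 = n15086 := rfl
theorem F26281 : act 4 n15086 = n11721 := d12_2 (iv F20513) D15086 (iv D11721)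
def n15087 : Q := act 5 n11575
theorem D15087 : act 5 n11575 = n15087 := rfl
theorem F26282 : act 1 n15087 = n14993 := d9_1 D15087 (iv D14993) (iv D11529) (iv F13968) D11575
theorem F26283 : act 4 n15087 = n11722 := d18_1 D15087 (iv D11722) (iv F20513)
def n15088 : Q := act 1 n11576
theorem D15088 : act 1 n11576 = n15088 := rfl
theorem F26284 : act 0 n15088 = n12195 := d0_1 D15088 (iv D12195) F20475 (iv D11552) F13946 F6885 (iv F6894) D9347 D11576
theorem F26285 : act 4 n15088 = n11723 := d8_2 (iv F20515) D15088 (iv D11723)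
theorem F26286 : act 2 n12202 = n15088 := d12_3 F26285 (iv F20743) (iv F21519)
def n15089 : Q := act 3 n11576
theorem D15089 : act 3 n11576 = n15089 := rfl
theorem F26287 : act 0 n15089 = n11577 := d2_1 D15089 (iv D11577) D11576
def n15090 : Q := act 5 n11576
theorem D15090 : act 5 n11576 = n15090 := rfl
theorem F26288 : act 0 n15090 = n11578 := d4_1 D15090 (iv D11578) D11576
theorem F26289 : act 2 n15090 = n15090 := d13_1 D15090 (iv D15090) F20514
theorem F26290 : act 4 n15090 = n11725 := d18_1 D15090 (iv D11725) (iv F20515)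
def n15091 : Q := act 6 n11576
theorem D15091 : act 6 n11576 = n15091 := rfl
theorem F26291 : act 0 n15091 = n11579 := d5_1 D15091 (iv D11579) D11576
theorem F26292 : act 2 n15091 = n15091 := d14_1 D15091 (iv D15091) F20514
theorem F26293 : act 4 n15091 = n11726 := d19_1 D15091 (iv D11726) (iv F20515)
def n15092 : Q := act 2 n11577
theorem D15092 : act 2 n11577 = n15092 := rfl
def n15093 : Q := act 4 n11577
theorem D15093 : act 4 n11577 = n15093 := rfl
theorem F26294 : act 1 n15093 = n11580 := d8_1 D15093 (iv D11580) (iv F20516)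
theorem F26295 : act 3 n15093 = n11728 := d15_1 D15093 (iv D11728) (iv D9611) (iv F13977) D11577
def n15094 : Q := act 5 n11577
theorem D15094 : act 5 n11577 = n15094 := rfl
theorem F26296 : act 3 n15094 = n11578 := d16_1 D15094 (iv D11578) D11577
def n15095 : Q := act 6 n11577
theorem D15095 : act 6 n11577 = n15095 := rfl
theorem F26297 : act 3 n15095 = n11579 := d17_1 D15095 (iv D11579) D11577
def n15096 : Q := act 6 n11578
theorem D15096 : act 6 n11578 = n15096 := rfl
theorem F26298 : act 2 n15096 = n15096 := d14_1 D15096 (iv D15096) F20517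
theorem F26299 : act 4 n15096 = n11731 := d19_1 D15096 (iv D11731) (iv F20518)
theorem F26300 : act 5 n15096 = n15091 := d22_2 D11578 D15096 (iv D15091) (iv D11576)
def n15097 : Q := act 1 n11579
theorem D15097 : act 1 n11579 = n15097 := rfl
theorem F26301 : act 4 n15097 = n11732 := d8_2 (iv F20520) D15097 (iv D11732)
theorem F26302 : act 6 n15097 = n11581 := d10_2 D11579 D15097 (iv D11581) (iv D9349) D9347
def n15098 : Q := act 5 n11579
theorem D15098 : act 5 n11579 = n15098 := rfl
theorem F26303 : act 0 n15098 = n15096 := d4_1 D15098 F26300 F26291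
theorem F26304 : act 2 n15098 = n15098 := d13_1 D15098 (iv D15098) F20519
theorem F26305 : act 4 n15098 = n11733 := d18_1 D15098 (iv D11733) (iv F20520)
theorem F26306 : act 6 n15098 = n15090 := d20_2 D11579 D15098 (iv D15090) D15091 (iv F26300) (iv D15096) (iv D11578)
def n15099 : Q := act 0 n11581
theorem D15099 : act 0 n11581 = n15099 := rfl
theorem F26307 : act 4 n15099 = n11736 := d3_2 (iv F20523) D15099 (iv D11736)
def n15100 : Q := act 5 n11581
theorem D15100 : act 5 n11581 = n15100 := rfl
theorem F26308 : act 1 n15100 = n12307 := d9_1 D15100 (iv D12307) (iv D10071) F17178 D11581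
theorem F26309 : act 4 n15100 = n11737 := d18_1 D15100 (iv D11737) (iv F20523)
def n15101 : Q := act 1 n11582
theorem D15101 : act 1 n11582 = n15101 := rfl
theorem F26310 : act 3 n15101 = n11745 := d7_2 (iv F20524) D15101 (iv D11745)
theorem F26311 : act 4 n15101 = n11583 := d8_2 (iv F20525) D15101 (iv D11583)
def n15102 : Q := act 0 n11583
theorem D15102 : act 0 n11583 = n15102 := rfl
theorem F26312 : act 3 n15102 = n11584 := d2_2 (iv F20527) D15102 (iv D11584)
def n15103 : Q := act 2 n11583
theorem D15103 : act 2 n11583 = n15103 := rfl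
def n15104 : Q := act 5 n11583
theorem D15104 : act 5 n11583 = n15104 := rfl
theorem F26313 : act 1 n15104 = n12241 := d9_1 D15104 (iv D12241) F17837 (iv F17237) D11583
theorem F26314 : act 3 n15104 = n11585 := d16_1 D15104 (iv D11585) (iv F20527)
def n15105 : Q := act 1 n11584
theorem D15105 : act 1 n11584 = n15105 := rfl
theorem F26315 : act 4 n15105 = n11749 := d8_2 (iv F20528) D15105 (iv D11749)
def n15106 : Q := act 5 n11584
theorem D15106 : act 5 n11584 = n15106 := rfl
theorem F26316 : act 0 n15106 = n11585 := d4_1 D15106 (iv D11585) D11584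
theorem F26317 : act 2 n15106 = n15082 := d13_1 D15106 F26276 F20546
theorem F26318 : act 4 n15106 = n11750 := d18_1 D15106 (iv D11750) (iv F20528)
theorem F26319 : act 6 n15106 = n15056 := d22_1 D15106 (iv D15056) F20486 D11584
def n15107 : Q := act 6 n11585
theorem D15107 : act 6 n11585 = n15107 := rfl
theorem F26320 : act 0 n15107 = n15056 := d5_1 D15107 (iv F26319) F26316
theorem F26321 : act 2 n15107 = n15083 := d14_1 D15107 (iv D15083) (iv F20530)
theorem F26322 : act 4 n15107 = n11751 := d19_1 D15107 (iv D11751) (iv F20531)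
theorem F26323 : act 5 n15107 = n15055 := d20_1 D15107 F26219 D15106 F26319 (iv D15056) F20486 D11585
def n15108 : Q := act 1 n11586
theorem D15108 : act 1 n11586 = n15108 := rfl
theorem F26324 : act 0 n15108 = n12247 := d0_1 D15108 (iv D12247) (iv F23437) (iv D11566) F13958 F6889 (iv F6908) D9361 D11586
theorem F26325 : act 4 n15108 = n11752 := d8_2 (iv F20533) D15108 (iv D11752)
theorem F26326 : act 2 n12254 = n15108 := d12_3 F26325 F23450 (iv F21608)
def n15109 : Q := act 3 n11586
theorem D15109 : act 3 n11586 = n15109 := rfl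
theorem F26327 : act 0 n15109 = n11587 := d2_1 D15109 (iv D11587) D11586
def n15110 : Q := act 5 n11586
theorem D15110 : act 5 n11586 = n15110 := rfl
theorem F26328 : act 0 n15110 = n11588 := d4_1 D15110 (iv D11588) D11586
theorem F26329 : act 2 n15110 = n15110 := d13_1 D15110 (iv D15110) F20532
theorem F26330 : act 4 n15110 = n11754 := d18_1 D15110 (iv D11754) (iv F20533)
def n15111 : Q := act 6 n11586
theorem D15111 : act 6 n11586 = n15111 := rfl
theorem F26331 : act 0 n15111 = n11589 := d5_1 D15111 (iv D11589) D11586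
theorem F26332 : act 2 n15111 = n15111 := d14_1 D15111 (iv D15111) F20532
theorem F26333 : act 4 n15111 = n11755 := d19_1 D15111 (iv D11755) (iv F20533)
def n15112 : Q := act 2 n11587
theorem D15112 : act 2 n11587 = n15112 := rfl
def n15113 : Q := act 4 n11587
theorem D15113 : act 4 n11587 = n15113 := rfl
theorem F26334 : act 1 n15113 = n11590 := d8_1 D15113 (iv D11590) (iv F20534)
theorem F26335 : act 3 n15113 = n11757 := d15_1 D15113 (iv D11757) (iv D9640) (iv F14002) D11587
def n15114 : Q := act 5 n11587
theorem D15114 : act 5 n11587 = n15114 := rfl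
theorem F26336 : act 3 n15114 = n11588 := d16_1 D15114 (iv D11588) D11587
def n15115 : Q := act 6 n11587
theorem D15115 : act 6 n11587 = n15115 := rfl
theorem F26337 : act 3 n15115 = n11589 := d17_1 D15115 (iv D11589) D11587
def n15116 : Q := act 1 n11588
theorem D15116 : act 1 n11588 = n15116 := rfl
theorem F26338 : act 4 n15116 = n11760 := d8_2 (iv F20536) D15116 (iv D11760)
theorem F26339 : act 5 n15116 = n11591 := d9_2 D11588 D15116 (iv D11591) (iv D9363) D9361
def n15117 : Q := act 6 n11588
theorem D15117 : act 6 n11588 = n15117 := rfl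
theorem F26340 : act 2 n15117 = n15117 := d14_1 D15117 (iv D15117) F20535
theorem F26341 : act 4 n15117 = n11761 := d19_1 D15117 (iv D11761) (iv F20536)
theorem F26342 : act 5 n15117 = n15111 := d22_2 D11588 D15117 (iv D15111) (iv D11586)
def n15118 : Q := act 5 n11589
theorem D15118 : act 5 n11589 = n15118 := rfl
theorem F26343 : act 0 n15118 = n15117 := d4_1 D15118 F26342 F26331
theorem F26344 : act 2 n15118 = n15118 := d13_1 D15118 (iv D15118) F20537
theorem F26345 : act 4 n15118 = n11762 := d18_1 D15118 (iv D11762) (iv F20538)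
theorem F26346 : act 6 n15118 = n15110 := d20_2 D11589 D15118 (iv D15110) D15111 (iv F26342) (iv D15117) (iv D11588)
def n15119 : Q := act 0 n11591
theorem D15119 : act 0 n11591 = n15119 := rfl
theorem F26347 : act 4 n15119 = n11765 := d3_2 (iv F20541) D15119 (iv D11765)
def n15120 : Q := act 6 n11591
theorem D15120 : act 6 n11591 = n15120 := rfl
theorem F26348 : act 1 n15120 = n12324 := d10_1 D15120 (iv D12324) (iv D10081) F16769 D11591
theorem F26349 : act 4 n15120 = n11766 := d19_1 D15120 (iv D11766) (iv F20541)
def n15121 : Q := act 1 n11592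
theorem D15121 : act 1 n11592 = n15121 := rfl
theorem F26350 : act 3 n15121 = n11774 := d7_2 (iv F20542) D15121 (iv D11774)
theorem F26351 : act 4 n15121 = n11593 := d8_2 (iv F20543) D15121 (iv D11593)
def n15122 : Q := act 0 n11593
theorem D15122 : act 0 n11593 = n15122 := rfl
theorem F26352 : act 3 n15122 = n11594 := d2_2 (iv F20545) D15122 (iv D11594)
def n15123 : Q := act 2 n11593
theorem D15123 : act 2 n11593 = n15123 := rfl
def n15124 : Q := act 6 n11593
theorem D15124 : act 6 n11593 = n15124 := rfl
theorem F26353 : act 1 n15124 = n12293 := d10_1 D15124 (iv D12293) F17875 F17479 D11593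
theorem F26354 : act 3 n15124 = n11595 := d17_1 D15124 (iv D11595) (iv F20545)
def n15125 : Q := act 1 n11594
theorem D15125 : act 1 n11594 = n15125 := rfl
theorem F26355 : act 4 n15125 = n11778 := d8_2 (iv F20547) D15125 (iv D11778)
def n15126 : Q := act 6 n11594
theorem D15126 : act 6 n11594 = n15126 := rfl
theorem F26356 : act 0 n15126 = n11595 := d5_1 D15126 (iv D11595) D11594
theorem F26357 : act 2 n15126 = n15055 := d14_1 D15126 F26219 (iv F20546)
theorem F26358 : act 4 n15126 = n11779 := d19_1 D15126 (iv D11779) (iv F20547)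
theorem F26359 : act 5 n15126 = n15083 := d22_2 F26276 D15126 (iv D15083) D15082
def n15127 : Q := act 5 n11595
theorem D15127 : act 5 n11595 = n15127 := rfl
theorem F26360 : act 0 n15127 = n15083 := d4_1 D15127 (iv F26359) F26356
theorem F26361 : act 2 n15127 = n15056 := d13_1 D15127 (iv D15056) (iv F20549)
theorem F26362 : act 4 n15127 = n11780 := d18_1 D15127 (iv D11780) (iv F20550)
theorem F26363 : act 6 n15127 = n15082 := d20_2 D11595 D15127 F26276 D15126 F26359 (iv D15083) F20508
def n15128 : Q := act 1 n11596
theorem D15128 : act 1 n11596 = n15128 := rfl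
theorem F26364 : act 4 n15128 = n12721 := d8_2 (iv F20552) D15128 (iv D12721)
def n15129 : Q := act 3 n11596
theorem D15129 : act 3 n11596 = n15129 := rfl
theorem F26365 : act 0 n15129 = n11597 := d2_1 D15129 (iv D11597) D11596
def n15130 : Q := act 5 n11596
theorem D15130 : act 5 n11596 = n15130 := rfl
theorem F26366 : act 0 n15130 = n11598 := d4_1 D15130 (iv D11598) D11596
theorem F26367 : act 2 n15130 = n12300 := d13_1 D15130 (iv D12300) (iv F20551)
theorem F26368 : act 4 n15130 = n12723 := d18_1 D15130 (iv D12723) (iv F20552)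
def n15131 : Q := act 6 n11596
theorem D15131 : act 6 n11596 = n15131 := rfl
theorem F26369 : act 0 n15131 = n11599 := d5_1 D15131 (iv D11599) D11596
theorem F26370 : act 2 n15131 = n12220 := d14_1 D15131 F21552 (iv F20551)
theorem F26371 : act 4 n15131 = n12547 := d19_1 D15131 F22046 (iv F20552)
def n15132 : Q := act 2 n11597
theorem D15132 : act 2 n11597 = n15132 := rfl
theorem F26372 : act 1 n15132 = n15092 := d6_1 D15132 (iv D15092) F20516 (iv F14058) (iv F20553)
def n15133 : Q := act 4 n11597
theorem D15133 : act 4 n11597 = n15133 := rfl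
theorem F26373 : act 1 n15133 = n11600 := d8_1 D15133 (iv D11600) (iv F20553)
theorem F26374 : act 3 n15133 = n12725 := d15_1 D15133 (iv D12725) (iv D10279) F17191 D11597
def n15134 : Q := act 5 n11597
theorem D15134 : act 5 n11597 = n15134 := rfl
theorem F26375 : act 1 n15134 = n15094 := d9_1 D15134 (iv D15094) F20516 (iv F16335) (iv F20553)
theorem F26376 : act 3 n15134 = n11598 := d16_1 D15134 (iv D11598) D11597
def n15135 : Q := act 6 n11597
theorem D15135 : act 6 n11597 = n15135 := rfl
theorem F26377 : act 1 n15135 = n12225 := d10_1 D15135 F21559 F17837 F17236 (iv F20553)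
theorem F26378 : act 3 n15135 = n11599 := d17_1 D15135 (iv D11599) D11597
def n15136 : Q := act 6 n11598
theorem D15136 : act 6 n11598 = n15136 := rfl
theorem F26379 : act 2 n15136 = n12301 := d14_1 D15136 (iv D12301) (iv F20555)
theorem F26380 : act 4 n15136 = n12727 := d19_1 D15136 (iv D12727) (iv F20556)
theorem F26381 : act 5 n15136 = n15131 := d22_2 D11598 D15136 (iv D15131) (iv D11596)
def n15137 : Q := act 5 n11599
theorem D15137 : act 5 n11599 = n15137 := rfl
theorem F26382 : act 0 n15137 = n15136 := d4_1 D15137 F26381 F26369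
theorem F26383 : act 2 n15137 = n12221 := d13_1 D15137 (iv D12221) (iv F20558)
theorem F26384 : act 4 n15137 = n12549 := d18_1 D15137 (iv D12549) (iv F20559)
theorem F26385 : act 6 n15137 = n15130 := d20_2 D11599 D15137 (iv D15130) D15131 (iv F26381) (iv D15136) (iv D11598)
def n15138 : Q := act 1 n11601
theorem D15138 : act 1 n11601 = n15138 := rfl
theorem F26386 : act 4 n15138 = n12765 := d8_2 (iv F20566) D15138 (iv D12765)
def n15139 : Q := act 3 n11601
theorem D15139 : act 3 n11601 = n15139 := rfl
theorem F26387 : act 0 n15139 = n11602 := d2_1 D15139 (iv D11602) D11601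
def n15140 : Q := act 5 n11601
theorem D15140 : act 5 n11601 = n15140 := rfl
theorem F26388 : act 0 n15140 = n11603 := d4_1 D15140 (iv D11603) D11601
theorem F26389 : act 2 n15140 = n12272 := d13_1 D15140 F21641 (iv F20565)
theorem F26390 : act 4 n15140 = n12658 := d18_1 D15140 F22219 (iv F20566)
def n15141 : Q := act 6 n11601
theorem D15141 : act 6 n11601 = n15141 := rfl
theorem F26391 : act 0 n15141 = n11604 := d5_1 D15141 (iv D11604) D11601
theorem F26392 : act 2 n15141 = n12316 := d14_1 D15141 (iv D12316) (iv F20565)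
theorem F26393 : act 4 n15141 = n12767 := d19_1 D15141 (iv D12767) (iv F20566)
def n15142 : Q := act 2 n11602
theorem D15142 : act 2 n11602 = n15142 := rfl
theorem F26394 : act 1 n15142 = n15112 := d6_1 D15142 (iv D15112) F20534 (iv F14115) (iv F20567)
def n15143 : Q := act 4 n11602
theorem D15143 : act 4 n11602 = n15143 := rfl
theorem F26395 : act 1 n15143 = n11605 := d8_1 D15143 (iv D11605) (iv F20567)
theorem F26396 : act 3 n15143 = n12770 := d15_1 D15143 (iv D12770) (iv D10300) (iv F17482) D11602
def n15144 : Q := act 5 n11602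
theorem D15144 : act 5 n11602 = n15144 := rfl
theorem F26397 : act 1 n15144 = n12277 := d9_1 D15144 F21648 F17875 (iv F17480) (iv F20567)
theorem F26398 : act 3 n15144 = n11603 := d16_1 D15144 (iv D11603) D11602
def n15145 : Q := act 6 n11602
theorem D15145 : act 6 n11602 = n15145 := rfl
theorem F26399 : act 1 n15145 = n15115 := d10_1 D15145 (iv D15115) F20534 (iv F17481) (iv F20567)
theorem F26400 : act 3 n15145 = n11604 := d17_1 D15145 (iv D11604) D11602
def n15146 : Q := act 6 n11603
theorem D15146 : act 6 n11603 = n15146 := rfl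
theorem F26401 : act 2 n15146 = n12273 := d14_1 D15146 (iv D12273) (iv F20569)
theorem F26402 : act 4 n15146 = n12660 := d19_1 D15146 (iv D12660) (iv F20570)
theorem F26403 : act 5 n15146 = n15141 := d22_2 D11603 D15146 (iv D15141) (iv D11601)
def n15147 : Q := act 5 n11604
theorem D15147 : act 5 n11604 = n15147 := rfl
theorem F26404 : act 0 n15147 = n15146 := d4_1 D15147 F26403 F26391
theorem F26405 : act 2 n15147 = n12317 := d13_1 D15147 (iv D12317) (iv F20572)
theorem F26406 : act 4 n15147 = n12772 := d18_1 D15147 (iv D12772) (iv F20573)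
theorem F26407 : act 6 n15147 = n15140 := d20_2 D11604 D15147 (iv D15140) D15141 (iv F26403) (iv D15146) (iv D11603)
def n15148 : Q := act 2 n11606
theorem D15148 : act 2 n11606 = n15148 := rfl
theorem F26408 : act 5 n15148 = n12351 := d13_2 (iv F20580) D15148 (iv D12351)
def n15149 : Q := act 6 n11606
theorem D15149 : act 6 n11606 = n15149 := rfl
theorem F26409 : act 0 n15149 = n12641 := d5_1 D15149 F22191 F21971
theorem F26410 : act 1 n15149 = n12665 := d10_1 D15149 (iv F22227) (iv D11617) F14277 D11606
theorem F26411 : act 3 n15149 = n12352 := d17_1 D15149 (iv D12352) (iv F20579)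
def n15150 : Q := act 2 n11607
theorem D15150 : act 2 n11607 = n15150 := rfl
theorem F26412 : act 6 n15150 = n12354 := d14_2 (iv F20582) D15150 (iv D12354)
def n15151 : Q := act 5 n11607
theorem D15151 : act 5 n11607 = n15151 := rfl
theorem F26413 : act 0 n15151 = n12529 := d4_1 D15151 (iv F22141) F22139
theorem F26414 : act 1 n15151 = n12554 := d9_1 D15151 (iv F22257) (iv D11613) F14272 D11607
theorem F26415 : act 3 n15151 = n12355 := d16_1 D15151 (iv D12355) (iv F20581)
def n15152 : Q := act 0 n11608
theorem D15152 : act 0 n11608 = n15152 := rfl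
theorem F26416 : act 2 n15152 = n12393 := d1_2 F20595 D15152 F21847
theorem F26417 : act 5 n15152 = n12392 := d4_2 F25085 D15152 F25086
def n15153 : Q := act 6 n11608
theorem D15153 : act 6 n11608 = n15153 := rfl
def n15154 : Q := act 1 n11609
theorem D15154 : act 1 n11609 = n15154 := rfl
def n15155 : Q := act 0 n11610
theorem D15155 : act 0 n11610 = n15155 := rfl
def n15156 : Q := act 2 n11610
theorem D15156 : act 2 n11610 = n15156 := rfl
theorem F26418 : act 1 n15156 = n11615 := d6_1 D15156 (iv D11615) (iv D9549) (iv F14268) D11610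
def n15157 : Q := act 5 n11610
theorem D15157 : act 5 n11610 = n15157 := rfl
def n15158 : Q := act 1 n11611
theorem D15158 : act 1 n11611 = n15158 := rfl
def n15159 : Q := act 1 n11612
theorem D15159 : act 1 n11612 = n15159 := rfl
theorem F26419 : act 0 n15159 = n12478 := d0_1 D15159 (iv D12478) (iv D10159) (iv D5521) (iv F4189) D5564 D10256 (iv F22133) F20601
theorem F26420 : act 3 n15159 = n12379 := d7_2 (iv F20588) D15159 (iv D12379)
theorem F26421 : act 5 n15159 = n12557 := d9_2 F20600 D15159 F22053 D12581 F22104
theorem F26422 : act 6 n15159 = n11613 := d10_2 D11612 D15159 (iv D11613) (iv D9548) D9547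
def n15160 : Q := act 2 n11613
theorem D15160 : act 2 n11613 = n15160 := rfl
def n15161 : Q := act 2 n11614
theorem D15161 : act 2 n11614 = n15161 := rfl
theorem F26424 : act 6 n15161 = n11622 := d14_2 (iv F20591) D15161 (iv D11622)
def n15163 : Q := act 5 n11615
theorem D15163 : act 5 n11615 = n15163 := rfl
theorem F26426 : act 2 n15163 = n11616 := d13_1 D15163 (iv D11616) D11615
def n15164 : Q := act 1 n11616
theorem D15164 : act 1 n11616 = n15164 := rfl
theorem F26427 : act 0 n15164 = n12438 := d0_1 D15164 (iv D12438) (iv D10140) (iv D5513) (iv F4178) D5541 D10204 (iv F22066) F20611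
theorem F26428 : act 3 n15164 = n12387 := d7_2 (iv F20593) D15164 (iv D12387)
theorem F26429 : act 5 n15164 = n11617 := d9_2 D11616 D15164 (iv D11617) (iv D9550) D9549
theorem F26430 : act 6 n15164 = n12667 := d10_2 F20609 D15164 F22228 D12690 (iv F22272)
def n15165 : Q := act 2 n11617
theorem D15165 : act 2 n11617 = n15165 := rfl
def n15166 : Q := act 6 n11618
theorem D15166 : act 6 n11618 = n15166 := rfl
theorem F26431 : act 0 n15166 = n12605 := d5_1 D15166 F22144 F21847
theorem F26432 : act 1 n15166 = n12574 := d10_1 D15166 (iv F22103) F22104 (iv D11619) D11618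
theorem F26433 : act 2 n15166 = n15153 := d14_1 D15166 (iv D15153) (iv F20595)
theorem F26434 : act 3 n15166 = n12394 := d17_1 D15166 (iv D12394) (iv F20596)
theorem F26435 : act 5 n15166 = n12394 := d22_2 F21846 D15166 (iv D12394) D12391
def n15167 : Q := act 2 n11621
theorem D15167 : act 2 n11621 = n15167 := rfl
def n15168 : Q := act 5 n11621
theorem D15168 : act 5 n11621 = n15168 := rfl
theorem F26436 : act 0 n15168 = n12495 := d4_1 D15168 (iv F22080) F22078
theorem F26437 : act 1 n15168 = n12685 := d9_1 D15168 (iv F22271) (iv F22272) (iv D11623) D11621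
theorem F26438 : act 3 n15168 = n12406 := d16_1 D15168 (iv D12406) (iv F20605)
theorem F26439 : act 6 n15168 = n12406 := d22_1 D15168 (iv D12406) D12407 F22078
def n15170 : Q := act 3 n11622
theorem D15170 : act 3 n11622 = n15170 := rfl
def n15171 : Q := act 5 n11622
theorem D15171 : act 5 n11622 = n15171 := rfl
theorem F26441 : act 0 n15171 = n11625 := d4_1 D15171 (iv D11625) (iv F20606)
theorem F26443 : act 6 n15171 = n15163 := d22_1 D15171 (iv D15163) F20592 (iv F20606)
def n15172 : Q := act 2 n11624
theorem D15172 : act 2 n11624 = n15172 := rfl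
def n15174 : Q := act 5 n11624
theorem D15174 : act 5 n11624 = n15174 := rfl
theorem F26444 : act 3 n15174 = n11625 := d16_1 D15174 (iv D11625) D11624
def n15175 : Q := act 1 n11625
theorem D15175 : act 1 n11625 = n15175 := rfl
def n15176 : Q := act 6 n11625
theorem D15176 : act 6 n11625 = n15176 := rfl
theorem F26447 : act 5 n15176 = n15161 := d20_1 D15176 F26424 D15171 F26443 (iv D15163) F20592 D11625
def n15177 : Q := act 2 n11627
theorem D15177 : act 2 n11627 = n15177 := rfl
theorem F26448 : act 0 n15177 = n11628 := d1_1 D15177 (iv D11628) D11627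
def n15178 : Q := act 1 n11628
theorem D15178 : act 1 n11628 = n15178 := rfl
theorem F26449 : act 2 n15178 = n11631 := d6_2 D11628 D15178 (iv D11631) (iv D9558) D9557
def n15179 : Q := act 3 n11628
theorem D15179 : act 3 n11628 = n15179 := rfl
theorem F26450 : act 2 n15179 = n14655 := d21_2 D11628 D15179 (iv D14655) (iv D11361) (iv F19993) (iv F20099) (iv F20614) (iv D11627)
def n15180 : Q := act 5 n11628
theorem D15180 : act 5 n11628 = n15180 := rfl
theorem F26451 : act 2 n15180 = n11629 := d13_1 D15180 (iv D11629) D11628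
def n15181 : Q := act 6 n11628
theorem D15181 : act 6 n11628 = n15181 := rfl
theorem F26452 : act 2 n15181 = n11630 := d14_1 D15181 (iv D11630) D11628
def n15182 : Q := act 6 n11629
theorem D15182 : act 6 n11629 = n15182 := rfl
theorem F26453 : act 1 n15182 = n12462 := d10_1 D15182 F21929 F22071 (iv D11667) (iv F20615)
theorem F26454 : act 3 n15182 = n12421 := d17_1 D15182 (iv D12421) (iv F20616)
theorem F26455 : act 5 n15182 = n12622 := d22_2 D11629 D15182 F22166 (iv D11627)
def n15183 : Q := act 5 n11630
theorem D15183 : act 5 n11630 = n15183 := rfl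
theorem F26456 : act 0 n15183 = n15182 := d4_1 D15183 F26455 F22164
theorem F26457 : act 3 n15183 = n12422 := d16_1 D15183 (iv D12422) (iv F20617)
theorem F26458 : act 6 n15183 = n12375 := d20_2 D11630 D15183 (iv F21823) (iv F22166) (iv F26455) (iv D15182) (iv D11629)
theorem F26459 : act 1 n15183 = n12598 := d24_2 D11630 D15183 F22123 F22129 (iv D12493) F18022 F18014 D10162 F20690 (iv D11678) (iv D9580) (iv D4636) (iv F7048) D9557
def n15184 : Q := act 0 n11631
theorem D15184 : act 0 n11631 = n15184 := rfl
theorem F26460 : act 5 n15184 = n15178 := d23_4 (iv F7048) D9558 D11631 D15184 F26449 (iv D11631) F14283 F7049 (iv D2231) (iv D1090) F1031 (iv D328) (iv D163) F155 (iv F275) D278 (iv F1032) D1090 D2230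
def n15185 : Q := act 3 n11631
theorem D15185 : act 3 n11631 = n15185 := rfl
theorem F26461 : act 1 n15185 = n11632 := d7_1 D15185 (iv D11632) D11631
def n15186 : Q := act 5 n11631
theorem D15186 : act 5 n11631 = n15186 := rfl
theorem F26462 : act 0 n15186 = n15178 := d4_1 D15186 (iv F26460) (iv D15184)
theorem F26463 : act 1 n15186 = n11671 := d9_1 D15186 (iv D11671) (iv D9577) (iv F14284) D11631
theorem F26464 : act 2 n15186 = n15184 := d13_1 D15186 F26460 F26449
def n15187 : Q := act 6 n11631
theorem D15187 : act 6 n11631 = n15187 := rfl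
def n15188 : Q := act 4 n11632
theorem D15188 : act 4 n11632 = n15188 := rfl
theorem F26465 : act 0 n15188 = n11634 := d3_1 D15188 (iv D11634) (iv F20618)
theorem F26466 : act 5 n15188 = n11673 := d18_2 (iv F20619) D15188 (iv D11673)
def n15189 : Q := act 1 n11633
theorem D15189 : act 1 n11633 = n15189 := rfl
def n15190 : Q := act 4 n11633
theorem D15190 : act 4 n11633 = n15190 := rfl
theorem F26467 : act 2 n15190 = n11634 := d12_1 D15190 (iv D11634) D11633
theorem F26468 : act 5 n15190 = n11680 := d18_2 (iv F20620) D15190 (iv D11680)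
def n15191 : Q := act 6 n11633
theorem D15191 : act 6 n11633 = n15191 := rfl
theorem F26469 : act 2 n15191 = n11635 := d14_1 D15191 (iv D11635) D11633
theorem F26470 : act 3 n15191 = n12539 := d17_1 D15191 F22034 F21885
theorem F26471 : act 5 n15191 = n12535 := d22_2 (iv F20620) D15191 (iv D12535) F18042
def n15192 : Q := act 6 n11634
theorem D15192 : act 6 n11634 = n15192 := rfl
theorem F26472 : act 4 n15192 = n11635 := d19_1 D15192 (iv D11635) D11634
def n15193 : Q := act 1 n11635
theorem D15193 : act 1 n11635 = n15193 := rfl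
theorem F26473 : act 3 n15193 = n11636 := d7_2 (iv F20622) D15193 (iv D11636)
def n15194 : Q := act 0 n11636
theorem D15194 : act 0 n11636 = n15194 := rfl
def n15195 : Q := act 2 n11636
theorem D15195 : act 2 n11636 = n15195 := rfl
theorem F26474 : act 1 n15195 = n11638 := d6_1 D15195 (iv D11638) (iv D9561) (iv F14286) D11636
def n15196 : Q := act 5 n11636
theorem D15196 : act 5 n11636 = n15196 := rfl
def n15197 : Q := act 1 n11637
theorem D15197 : act 1 n11637 = n15197 := rfl
theorem F26475 : act 0 n15197 = n12387 := d0_1 D15197 (iv D12387) (iv F17987) (iv F22082) (iv D11688) (iv D9586) F7064 D9561 D11637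
theorem F26476 : act 3 n15197 = n12438 := d7_2 (iv F20623) D15197 (iv D12438)
theorem F26477 : act 5 n15197 = n12388 := d9_2 F20637 D15197 F22098 (iv F22063) F22064
def n15198 : Q := act 2 n11637
theorem D15198 : act 2 n11637 = n15198 := rfl
theorem F26478 : act 0 n15198 = n11638 := d1_1 D15198 (iv D11638) D11637
theorem F26479 : act 6 n15198 = n11641 := d14_2 (iv F20624) D15198 (iv D11641)
def n15199 : Q := act 3 n11638
theorem D15199 : act 3 n11638 = n15199 := rfl
theorem F26480 : act 6 n15199 = n11643 := d17_2 (iv F20625) D15199 (iv D11643)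
def n15200 : Q := act 5 n11638
theorem D15200 : act 5 n11638 = n15200 := rfl
theorem F26481 : act 2 n15200 = n11639 := d13_1 D15200 (iv D11639) D11638
def n15201 : Q := act 2 n11640
theorem D15201 : act 2 n11640 = n15201 := rfl
theorem F26482 : act 5 n15201 = n12644 := d13_2 (iv F20633) D15201 F22194
def n15202 : Q := act 1 n11641
theorem D15202 : act 1 n11641 = n15202 := rfl
def n15203 : Q := act 3 n11641
theorem D15203 : act 3 n11641 = n15203 := rfl
theorem F26483 : act 0 n15203 = n11643 := d2_1 D15203 (iv D11643) (iv F20628)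
def n15204 : Q := act 5 n11641
theorem D15204 : act 5 n11641 = n15204 := rfl
theorem F26484 : act 0 n15204 = n11644 := d4_1 D15204 (iv D11644) (iv F20628)
theorem F26485 : act 2 n15204 = n11642 := d13_1 D15204 (iv D11642) D11641
theorem F26486 : act 6 n15204 = n15200 := d22_1 D15204 (iv D15200) F20625 (iv F20628)
def n15205 : Q := act 2 n11643
theorem D15205 : act 2 n11643 = n15205 := rfl
def n15206 : Q := act 4 n11643
theorem D15206 : act 4 n11643 = n15206 := rfl
def n15207 : Q := act 5 n11643
theorem D15207 : act 5 n11643 = n15207 := rfl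
theorem F26487 : act 3 n15207 = n11644 := d16_1 D15207 (iv D11644) D11643
def n15208 : Q := act 1 n11644
theorem D15208 : act 1 n11644 = n15208 := rfl
theorem F26488 : act 2 n15208 = n15175 := d6_2 (iv F20634) D15208 (iv D15175) F20610 (iv F14290)
def n15209 : Q := act 6 n11644
theorem D15209 : act 6 n11644 = n15209 := rfl
theorem F26489 : act 0 n15209 = n15200 := d5_1 D15209 (iv F26486) F26484
theorem F26490 : act 2 n15209 = n11645 := d14_1 D15209 (iv D11645) (iv F20634)
theorem F26491 : act 5 n15209 = n15198 := d20_1 D15209 F26479 D15204 F26486 (iv D15200) F20625 D11644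
def n15210 : Q := act 2 n11646
theorem D15210 : act 2 n11646 = n15210 := rfl
theorem F26492 : act 0 n15210 = n11647 := d1_1 D15210 (iv D11647) D11646
def n15211 : Q := act 1 n11647
theorem D15211 : act 1 n11647 = n15211 := rfl
theorem F26493 : act 2 n15211 = n11650 := d6_2 D11647 D15211 (iv D11650) (iv D9566) D9565
def n15212 : Q := act 3 n11647
theorem D15212 : act 3 n11647 = n15212 := rfl
def n15213 : Q := act 5 n11647
theorem D15213 : act 5 n11647 = n15213 := rfl
theorem F26494 : act 2 n15213 = n11648 := d13_1 D15213 (iv D11648) D11647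
def n15214 : Q := act 6 n11647
theorem D15214 : act 6 n11647 = n15214 := rfl
theorem F26495 : act 2 n15214 = n11649 := d14_1 D15214 (iv D11649) D11647
def n15215 : Q := act 6 n11648
theorem D15215 : act 6 n11648 = n15215 := rfl
theorem F26496 : act 3 n15215 = n12461 := d17_1 D15215 (iv D12461) (iv F20639)
theorem F26497 : act 5 n15215 = n12383 := d22_2 D11648 D15215 F22075 (iv D11646)
theorem F26498 : act 1 n12706 = n15215 := d24_14 (iv D15215) (iv D11648) (iv D9565) F7053 D4642 D9594 D11710 (iv F20728) (iv D10143) (iv F17997) (iv F18005) D12453 (iv F22083) (iv F22289)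
def n15216 : Q := act 5 n11649
theorem D15216 : act 5 n11649 = n15216 := rfl
theorem F26499 : act 0 n15216 = n15215 := d4_1 D15216 F26497 (iv F22076)
theorem F26500 : act 1 n15216 = n12421 := d9_1 D15216 F21877 (iv F21873) (iv D11700) (iv F20640)
theorem F26501 : act 3 n15216 = n12462 := d16_1 D15216 (iv D12462) (iv F20641)
theorem F26502 : act 6 n15216 = n12506 := d20_2 D11649 D15216 (iv F22074) (iv F22075) (iv F26497) (iv D15215) (iv D11648)
def n15217 : Q := act 0 n11650
theorem D15217 : act 0 n11650 = n15217 := rfl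
def n15218 : Q := act 3 n11650
theorem D15218 : act 3 n11650 = n15218 := rfl
theorem F26503 : act 1 n15218 = n11651 := d7_1 D15218 (iv D11651) D11650
def n15219 : Q := act 5 n11650
theorem D15219 : act 5 n11650 = n15219 := rfl
def n15220 : Q := act 6 n11650
theorem D15220 : act 6 n11650 = n15220 := rfl
theorem F26504 : act 1 n15220 = n11704 := d10_1 D15220 (iv D11704) (iv D9591) (iv F14294) D11650
def n15221 : Q := act 4 n11651
theorem D15221 : act 4 n11651 = n15221 := rfl
theorem F26505 : act 0 n15221 = n11653 := d3_1 D15221 (iv D11653) (iv F20642)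
theorem F26506 : act 6 n15221 = n11705 := d19_2 (iv F20643) D15221 (iv D11705)
def n15222 : Q := act 1 n11652
theorem D15222 : act 1 n11652 = n15222 := rfl
def n15223 : Q := act 4 n11652
theorem D15223 : act 4 n11652 = n15223 := rfl
theorem F26507 : act 2 n15223 = n11653 := d12_1 D15223 (iv D11653) D11652
theorem F26508 : act 6 n15223 = n11712 := d19_2 (iv F20644) D15223 (iv D11712)
def n15224 : Q := act 5 n11652
theorem D15224 : act 5 n11652 = n15224 := rfl
theorem F26509 : act 2 n15224 = n11654 := d13_1 D15224 (iv D11654) D11652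
theorem F26510 : act 3 n15224 = n12650 := d16_1 D15224 F22207 F21934
theorem F26511 : act 6 n15224 = n12646 := d22_1 D15224 (iv D12646) (iv F21941) F21939
def n15225 : Q := act 5 n11653
theorem D15225 : act 5 n11653 = n15225 := rfl
theorem F26512 : act 4 n15225 = n11654 := d18_1 D15225 (iv D11654) D11653
def n15226 : Q := act 1 n11654
theorem D15226 : act 1 n11654 = n15226 := rfl
theorem F26513 : act 3 n15226 = n11655 := d7_2 (iv F20646) D15226 (iv D11655)
def n15227 : Q := act 0 n11655
theorem D15227 : act 0 n11655 = n15227 := rfl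
def n15228 : Q := act 2 n11655
theorem D15228 : act 2 n11655 = n15228 := rfl
theorem F26514 : act 1 n15228 = n11657 := d6_1 D15228 (iv D11657) (iv D9569) (iv F14296) D11655
def n15229 : Q := act 6 n11655
theorem D15229 : act 6 n11655 = n15229 := rfl
def n15230 : Q := act 1 n11656
theorem D15230 : act 1 n11656 = n15230 := rfl
theorem F26515 : act 0 n15230 = n12379 := d0_1 D15230 (iv D12379) (iv F17980) (iv F22128) (iv D11720) (iv D9600) F7074 D9569 D11656
theorem F26516 : act 3 n15230 = n12478 := d7_2 (iv F20647) D15230 (iv D12478)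
theorem F26517 : act 6 n15230 = n12380 := d10_2 F20661 D15230 F22252 (iv F22247) F22245
def n15231 : Q := act 2 n11656
theorem D15231 : act 2 n11656 = n15231 := rfl
theorem F26518 : act 0 n15231 = n11657 := d1_1 D15231 (iv D11657) D11656
theorem F26519 : act 5 n15231 = n11660 := d13_2 (iv F20648) D15231 (iv D11660)
def n15232 : Q := act 3 n11657
theorem D15232 : act 3 n11657 = n15232 := rfl
theorem F26520 : act 5 n15232 = n11662 := d16_2 (iv F20649) D15232 (iv D11662)
def n15233 : Q := act 6 n11657
theorem D15233 : act 6 n11657 = n15233 := rfl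
theorem F26521 : act 2 n15233 = n11658 := d14_1 D15233 (iv D11658) D11657
def n15234 : Q := act 2 n11659
theorem D15234 : act 2 n11659 = n15234 := rfl
theorem F26522 : act 6 n15234 = n12533 := d14_2 F20657 D15234 F22021
def n15235 : Q := act 1 n11660
theorem D15235 : act 1 n11660 = n15235 := rfl
def n15236 : Q := act 3 n11660
theorem D15236 : act 3 n11660 = n15236 := rfl
theorem F26523 : act 0 n15236 = n11662 := d2_1 D15236 (iv D11662) (iv F20652)
def n15237 : Q := act 6 n11660
theorem D15237 : act 6 n11660 = n15237 := rfl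
theorem F26524 : act 0 n15237 = n11663 := d5_1 D15237 (iv D11663) (iv F20652)
theorem F26525 : act 2 n15237 = n11661 := d14_1 D15237 (iv D11661) D11660
theorem F26526 : act 5 n15237 = n15233 := d22_2 F26519 D15237 (iv D15233) (iv F26518)
def n15238 : Q := act 2 n11662
theorem D15238 : act 2 n11662 = n15238 := rfl
def n15239 : Q := act 4 n11662
theorem D15239 : act 4 n11662 = n15239 := rfl
def n15240 : Q := act 6 n11662
theorem D15240 : act 6 n11662 = n15240 := rfl
theorem F26527 : act 3 n15240 = n11663 := d17_1 D15240 (iv D11663) D11662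
def n15241 : Q := act 5 n11663
theorem D15241 : act 5 n11663 = n15241 := rfl
theorem F26528 : act 0 n15241 = n15233 := d4_1 D15241 (iv F26526) F26524
theorem F26529 : act 2 n15241 = n11664 := d13_1 D15241 (iv D11664) (iv F20658)
theorem F26530 : act 6 n15241 = n15231 := d20_2 D11663 D15241 F26519 D15237 F26526 (iv D15233) F20649
def n15242 : Q := act 1 n11666
theorem D15242 : act 1 n11666 = n15242 := rfl
theorem F26531 : act 3 n15242 = n12495 := d7_2 (iv F20667) D15242 (iv D12495)
theorem F26532 : act 5 n15242 = n12404 := d9_2 F20669 D15242 F21861 D12455 F22071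
theorem F26533 : act 6 n15242 = n12495 := d10_2 D11666 D15242 (iv D12495) (iv D10170) (iv F14302)
theorem F26534 : act 0 n12406 = n15242 := d5_3 F26533 (iv F26436) F26439
def n15243 : Q := act 2 n11668
theorem D15243 : act 2 n11668 = n15243 := rfl
theorem F26535 : act 6 n15243 = n11677 := d14_2 (iv F20671) D15243 (iv D11677)
def n15244 : Q := act 1 n11669
theorem D15244 : act 1 n11669 = n15244 := rfl
theorem F26536 : act 0 n15244 = n11710 := d0_1 D15244 F20726 (iv F20659) (iv F22245) F22244 F18114 (iv F21922) F22071 (iv F20672)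
theorem F26537 : act 3 n15244 = n12510 := d7_2 (iv F20674) D15244 (iv D12510)
theorem F26538 : act 5 n15244 = n12442 := d9_2 D11669 D15244 (iv F21955) F21956 (iv D11668)
theorem F26539 : act 6 n11708 = n15244 := d20_0 F26538 (iv F21906) F20713 D11710 (iv F20728) D12444 (iv F21908)
def n15245 : Q := act 4 n11670
theorem D15245 : act 4 n11670 = n15245 := rfl
theorem F26540 : act 0 n15245 = n12499 := d3_1 D15245 (iv D12499) (iv F20676)
theorem F26541 : act 1 n15245 = n11673 := d8_1 D15245 (iv D11673) (iv F20677)
theorem F26542 : act 2 n15245 = n15245 := d12_1 D15245 (iv D15245) F20678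
def n15246 : Q := act 5 n11670
theorem D15246 : act 5 n11670 = n15246 := rfl
theorem F26543 : act 0 n15246 = n12500 := d4_1 D15246 (iv D12500) (iv F20676)
theorem F26545 : act 3 n15246 = n11671 := d16_1 D15246 (iv D11671) D11670
def n15247 : Q := act 6 n11670
theorem D15247 : act 6 n11670 = n15247 := rfl
theorem F26546 : act 0 n15247 = n12501 := d5_1 D15247 (iv D12501) (iv F20676)
theorem F26547 : act 2 n15247 = n15247 := d14_1 D15247 (iv D15247) F20678
theorem F26548 : act 3 n15247 = n11672 := d17_1 D15247 (iv D11672) D11670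
def n15248 : Q := act 1 n11672
theorem D15248 : act 1 n11672 = n15248 := rfl
theorem F26549 : act 6 n15248 = n11675 := d10_2 D11672 D15248 (iv D11675) (iv D9579) D9577
def n15249 : Q := act 6 n11673
theorem D15249 : act 6 n11673 = n15249 := rfl
theorem F26550 : act 0 n15249 = n11682 := d5_1 D15249 (iv D11682) (iv F20683)
theorem F26551 : act 4 n15249 = n11674 := d19_1 D15249 (iv D11674) D11673
theorem F26552 : act 5 n15249 = n15192 := d22_2 F26466 D15249 (iv D15192) (iv F26465)
def n15250 : Q := act 1 n11674
theorem D15250 : act 1 n11674 = n15250 := rfl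
theorem F26553 : act 3 n15250 = n11675 := d7_2 (iv F20685) D15250 (iv D11675)
def n15251 : Q := act 0 n11675
theorem D15251 : act 0 n11675 = n15251 := rfl
def n15252 : Q := act 2 n11675
theorem D15252 : act 2 n11675 = n15252 := rfl
theorem F26554 : act 1 n15252 = n11677 := d6_1 D15252 (iv D11677) (iv D9580) (iv F14308) D11675
def n15253 : Q := act 5 n11675
theorem D15253 : act 5 n11675 = n15253 := rfl
theorem F26555 : act 1 n15253 = n15196 := d9_1 D15253 (iv D15196) (iv D11636) (iv F14309) D11675
def n15254 : Q := act 1 n11676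
theorem D15254 : act 1 n11676 = n15254 := rfl
theorem F26556 : act 0 n15254 = n12355 := d0_1 D15254 (iv F21838) F22255 (iv D10266) F8436 F4193 (iv F7059) D9580 D11676
theorem F26557 : act 3 n15254 = n12529 := d7_2 (iv F20687) D15254 (iv D12529)
theorem F26558 : act 5 n12353 = n15254 := d24_1 F22142 (iv D15254) (iv F21958) (iv D12484) (iv D10162) D10164 F18018 (iv F18091) (iv D10240) (iv F18079) (iv D10227) D10228 F18080 D12606
theorem F26559 : act 6 n15254 = n15151 := d20_2 F22142 F26558 (iv D15151) F20582 D12355 F22143 (iv F22141)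
def n15255 : Q := act 2 n11676
theorem D15255 : act 2 n11676 = n15255 := rfl
theorem F26560 : act 0 n15255 = n11677 := d1_1 D15255 (iv D11677) D11676
def n15256 : Q := act 5 n11676
theorem D15256 : act 5 n11676 = n15256 := rfl
theorem F26561 : act 0 n15256 = n11678 := d4_1 D15256 (iv D11678) D11676
theorem F26562 : act 1 n15256 = n11699 := d9_1 D15256 F20715 (iv F22081) F26558 (iv D15254)
theorem F26563 : act 3 n15256 = n12531 := d16_1 D15256 (iv D12531) (iv F20687)
theorem F26564 : act 6 n15256 = n12482 := d20_2 F21958 D15256 F21956 F20671 D11678 (iv F20690) D12484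
def n15257 : Q := act 3 n11677
theorem D15257 : act 3 n11677 = n15257 := rfl
def n15258 : Q := act 5 n11677
theorem D15258 : act 5 n11677 = n15258 := rfl
theorem F26565 : act 2 n15258 = n11678 := d13_1 D15258 (iv D11678) D11677
theorem F26566 : act 6 n12483 = n15258 := d14_0 F26565 (iv F20690) D12483
def n15259 : Q := act 0 n11679
theorem D15259 : act 0 n11679 = n15259 := rfl
theorem F26567 : act 2 n15259 = n11738 := d1_2 (iv F20691) D15259 (iv D11738)
def n15260 : Q := act 4 n11679
theorem D15260 : act 4 n11679 = n15260 := rfl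
theorem F26568 : act 1 n15260 = n11680 := d8_1 D15260 (iv D11680) D11679
theorem F26569 : act 2 n15260 = n11739 := d12_1 D15260 (iv D11739) (iv F20691)
def n15261 : Q := act 5 n11679
theorem D15261 : act 5 n11679 = n15261 := rfl
theorem F26570 : act 2 n15261 = n11740 := d13_1 D15261 (iv D11740) (iv F20691)
def n15262 : Q := act 6 n11679
theorem D15262 : act 6 n11679 = n15262 := rfl
theorem F26571 : act 2 n15262 = n11741 := d14_1 D15262 (iv D11741) (iv F20691)
def n15263 : Q := act 3 n11680
theorem D15263 : act 3 n11680 = n15263 := rfl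
def n15264 : Q := act 6 n11680
theorem D15264 : act 6 n11680 = n15264 := rfl
theorem F26572 : act 2 n15264 = n11682 := d14_1 D15264 (iv D11682) (iv F20692)
theorem F26573 : act 4 n15264 = n11681 := d19_1 D15264 (iv D11681) D11680
def n15265 : Q := act 1 n11681
theorem D15265 : act 1 n11681 = n15265 := rfl
def n15266 : Q := act 5 n11681
theorem D15266 : act 5 n11681 = n15266 := rfl
theorem F26574 : act 0 n15266 = n15191 := d4_1 D15266 F26471 F22025
theorem F26575 : act 2 n15266 = n11684 := d13_1 D15266 (iv D11684) (iv F20693)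
theorem F26576 : act 3 n15266 = n12432 := d16_1 D15266 (iv F22010) F22009
theorem F26577 : act 6 n15266 = n12430 := d20_2 D11681 D15266 F21892 D12535 (iv F26471) (iv D15191) F20620
def n15267 : Q := act 1 n11682
theorem D15267 : act 1 n11682 = n15267 := rfl
theorem F26578 : act 4 n15267 = n11683 := d8_2 (iv F20694) D15267 (iv D11683)
theorem F26579 : act 6 n15267 = n11745 := d10_2 D11682 D15267 (iv D11745) (iv D9622) (iv F14311)
def n15268 : Q := act 5 n11682
theorem D15268 : act 5 n11682 = n15268 := rfl
theorem F26580 : act 0 n15268 = n15192 := d4_1 D15268 (iv F26552) F26550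
theorem F26581 : act 4 n15268 = n11684 := d18_1 D15268 (iv D11684) (iv F20694)
theorem F26582 : act 6 n15268 = n15188 := d20_2 D11682 D15268 F26466 D15249 F26552 (iv D15192) F20621
def n15269 : Q := act 0 n11683
theorem D15269 : act 0 n11683 = n15269 := rfl
theorem F26583 : act 3 n15269 = n11685 := d2_2 (iv F20695) D15269 (iv D11685)
theorem F26584 : act 6 n15269 = n11746 := d5_2 (iv F20696) D15269 (iv D11746)
def n15270 : Q := act 2 n11683
theorem D15270 : act 2 n11683 = n15270 := rfl
theorem F26585 : act 6 n15270 = n11747 := d14_2 (iv F20696) D15270 (iv D11747)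
def n15271 : Q := act 5 n11683
theorem D15271 : act 5 n11683 = n15271 := rfl
theorem F26586 : act 3 n15271 = n11686 := d16_1 D15271 (iv D11686) (iv F20695)
def n15272 : Q := act 1 n11684
theorem D15272 : act 1 n11684 = n15272 := rfl
theorem F26587 : act 3 n15272 = n11687 := d7_2 (iv F20698) D15272 (iv D11687)
def n15273 : Q := act 1 n11685
theorem D15273 : act 1 n11685 = n15273 := rfl
def n15274 : Q := act 1 n11686
theorem D15274 : act 1 n11686 = n15274 := rfl
theorem F26588 : act 5 n15274 = n11687 := d9_2 D11686 D15274 (iv D11687) (iv D9585) D9584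
def n15275 : Q := act 0 n11687
theorem D15275 : act 0 n11687 = n15275 := rfl
def n15276 : Q := act 2 n11687
theorem D15276 : act 2 n11687 = n15276 := rfl
theorem F26589 : act 1 n15276 = n11689 := d6_1 D15276 (iv D11689) (iv D9586) (iv F14315) D11687
def n15277 : Q := act 6 n11687
theorem D15277 : act 6 n11687 = n15277 := rfl
theorem F26590 : act 1 n15277 = n15187 := d10_1 D15277 (iv D15187) (iv D11631) (iv F14316) D11687
def n15278 : Q := act 2 n11688
theorem D15278 : act 2 n11688 = n15278 := rfl
theorem F26591 : act 0 n15278 = n11689 := d1_1 D15278 (iv D11689) D11688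
def n15279 : Q := act 3 n11689
theorem D15279 : act 3 n11689 = n15279 := rfl
def n15280 : Q := act 6 n11689
theorem D15280 : act 6 n11689 = n15280 := rfl
theorem F26592 : act 2 n15280 = n11690 := d14_1 D15280 (iv D11690) D11689
def n15281 : Q := act 5 n11690
theorem D15281 : act 5 n11690 = n15281 := rfl
theorem F26593 : act 0 n15281 = n12708 := d4_1 D15281 F22293 F22084
theorem F26594 : act 3 n15281 = n12572 := d16_1 D15281 (iv D12572) (iv F20703)
theorem F26595 : act 6 n15281 = n12706 := d20_2 D11690 D15281 F22289 F22083 (iv F22293) (iv D12708) F18130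
def n15282 : Q := act 1 n11692
theorem D15282 : act 1 n11692 = n15282 := rfl
theorem F26596 : act 3 n15282 = n12605 := d7_2 (iv F20706) D15282 (iv D12605)
theorem F26597 : act 5 n15282 = n12605 := d9_2 D11692 D15282 (iv D12605) (iv D10221) (iv F14318)
theorem F26598 : act 6 n15282 = n12391 := d10_2 F20718 D15282 F21845 D12418 (iv F21873)
theorem F26599 : act 0 n12394 = n15282 := d5_3 F26598 (iv D12391) D12394
def n15283 : Q := act 2 n11698
theorem D15283 : act 2 n11698 = n15283 := rfl
theorem F26600 : act 0 n15283 = n14761 := d1_1 D15283 (iv F25705) F21907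
theorem F26601 : act 5 n15283 = n11709 := d13_2 (iv F20713) D15283 (iv D11709)
def n15284 : Q := act 4 n11702
theorem D15284 : act 4 n11702 = n15284 := rfl
theorem F26602 : act 0 n15284 = n12612 := d3_1 D15284 (iv D12612) (iv F23436)
theorem F26603 : act 1 n15284 = n11705 := d8_1 D15284 (iv D11705) (iv F20719)
theorem F26604 : act 2 n15284 = n15284 := d12_1 D15284 (iv D15284) F20720
def n15285 : Q := act 5 n11702
theorem D15285 : act 5 n11702 = n15285 := rfl
theorem F26605 : act 0 n15285 = n12613 := d4_1 D15285 (iv D12613) (iv F23436)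
theorem F26606 : act 2 n15285 = n15285 := d13_1 D15285 (iv D15285) F20720
theorem F26607 : act 3 n15285 = n11703 := d16_1 D15285 (iv D11703) D11702
def n15286 : Q := act 6 n11702
theorem D15286 : act 6 n11702 = n15286 := rfl
theorem F26610 : act 3 n15286 = n11704 := d17_1 D15286 (iv D11704) D11702
def n15287 : Q := act 1 n11703
theorem D15287 : act 1 n11703 = n15287 := rfl
theorem F26611 : act 5 n15287 = n11707 := d9_2 D11703 D15287 (iv D11707) (iv D9593) D9591
def n15288 : Q := act 5 n11705
theorem D15288 : act 5 n11705 = n15288 := rfl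
theorem F26612 : act 0 n15288 = n11714 := d4_1 D15288 (iv D11714) (iv F20721)
theorem F26613 : act 4 n15288 = n11706 := d18_1 D15288 (iv D11706) D11705
theorem F26614 : act 6 n15288 = n15225 := d22_1 D15288 (iv D15225) F20645 (iv F20721)
def n15289 : Q := act 1 n11706
theorem D15289 : act 1 n11706 = n15289 := rfl
theorem F26615 : act 3 n15289 = n11707 := d7_2 (iv F20723) D15289 (iv D11707)
def n15290 : Q := act 0 n11707
theorem D15290 : act 0 n11707 = n15290 := rfl
theorem F26616 : act 5 n15290 = n14786 := d23_4 D4642 (iv F14324) D11707 D15290 (iv D14786) (iv D11417) F13625 (iv D4401) D4400 F6714 F16679 F4236 (iv D1316) (iv D658) F645 F642 (iv F1035) D1091 D2233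
theorem F26617 : act 0 n15287 = n14786 := d4_3 (iv F26616) (iv D15290) (iv F26611)
theorem F26618 : act 2 n14785 = n15287 := d1_0 F26617 (iv D14786) D14785
theorem F26619 : act 2 n14774 = n15290 := d13_3 F26616 (iv D14786) (iv F25720)
theorem E7019 : n14767 = n12765 := (c23_6 (iv F26616) (iv F26619) (iv D14774) (iv F25715) (iv D14768) D14767 (iv D12765) F18162 (iv F18106) (iv D10248) (iv D5559) (iv F8421) (iv D5554) (iv D2675) D2674 D5548 D10221 (iv F23440) D15287 F26617)
theorem F26620 : act 0 n12765 = n11411 := (sb E7019 F25714)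
theorem F26621 : act 2 n12765 = n11410 := (sb E7019 (iv D14767))
theorem E7020 : n14443 = n12762 := (c6_2 F26621 (iv F25211) (iv D12762) (iv D10297) D10298 D12765)
theorem F26622 : act 0 n12762 = n11257 := (sb E7020 (iv D14443))
theorem F26623 : act 1 n12762 = n11410 := (sb E7020 F25211)
theorem F26624 : act 2 n14518 = n15138 := d12_3 F26386 F26621 (iv F25352)
theorem F26625 : act 0 n15138 = n14519 := d1_1 F26624 (iv D14519) D14518
theorem E7021 : n14444 = n12761 := (c1_3 D12762 F26622 D14444 (iv D12761))
theorem F26626 : act 2 n12761 = n11257 := (sb E7021 (iv D14444))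
theorem E7022 : n14777 = n14770 := ((c0_3 D12765 F26620 D14770 (iv D14777) (iv D11414) F13624 F6714 F16679 (iv F8526) (iv F18162))).symm
theorem F26627 : act 0 n14770 = n11414 := (sb E7022 (iv D14777))
def n15291 : Q := act 2 n11707
theorem D15291 : act 2 n11707 = n15291 := rfl
theorem F26628 : act 0 n15291 = n14774 := d1_1 D15291 F26619 (iv D15290)
theorem F26629 : act 1 n15291 = n11709 := d6_1 D15291 (iv D11709) (iv D9594) (iv F14324) D11707
theorem F26630 : act 5 n15291 = n14785 := d13_2 F26611 D15291 F26618
def n15292 : Q := act 6 n11707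
theorem D15292 : act 6 n11707 = n15292 := rfl
theorem F26631 : act 1 n15292 = n15229 := d10_1 D15292 (iv D15229) (iv D11655) (iv F14325) D11707
def n15293 : Q := act 1 n11708
theorem D15293 : act 1 n11708 = n15293 := rfl
theorem F26632 : act 0 n15293 = n12352 := d0_1 D15293 (iv F21844) F22096 (iv D10214) F8414 F4181 (iv F7069) D9594 D11708
theorem F26633 : act 3 n15293 = n12641 := d7_2 (iv F20725) D15293 (iv D12641)
theorem F26634 : act 6 n15293 = n12350 := d10_2 (iv F26539) D15293 F21824 (iv F20675) D15244
theorem F26635 : act 5 n15149 = n15293 := d24_1 D15149 (iv D15293) F26539 F26538 (iv F21955) (iv F26564) (iv D15256) D15254 F26559 (iv D15151) (iv D11607) (iv D9543) D9542 D11606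
def n15294 : Q := act 2 n11708
theorem D15294 : act 2 n11708 = n15294 := rfl
theorem F26636 : act 0 n15294 = n11709 := d1_1 D15294 (iv D11709) D11708
theorem F26637 : act 5 n15294 = n14761 := d13_2 (iv F21908) D15294 (iv F25705)
theorem F26638 : act 1 n14756 = n15294 := d9_5 F26637 (iv D14761) (iv D11406) D11404 D14756
def n15295 : Q := act 3 n11709
theorem D15295 : act 3 n11709 = n15295 := rfl
def n15296 : Q := act 6 n11709
theorem D15296 : act 6 n11709 = n15296 := rfl
theorem F26639 : act 2 n15296 = n11710 := d14_1 D15296 (iv D11710) D11709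
theorem F26640 : act 5 n15296 = n12443 := d22_2 F26601 D15296 (iv F25706) (iv F26600)
def n15297 : Q := act 0 n11711
theorem D15297 : act 0 n11711 = n15297 := rfl
theorem F26641 : act 2 n15297 = n11767 := d1_2 (iv F20729) D15297 (iv D11767)
def n15298 : Q := act 4 n11711
theorem D15298 : act 4 n11711 = n15298 := rfl
theorem F26642 : act 1 n15298 = n11712 := d8_1 D15298 (iv D11712) D11711
theorem F26643 : act 2 n15298 = n11768 := d12_1 D15298 (iv D11768) (iv F20729)
def n15299 : Q := act 5 n11711
theorem D15299 : act 5 n11711 = n15299 := rfl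
theorem F26644 : act 2 n15299 = n11769 := d13_1 D15299 (iv D11769) (iv F20729)
def n15300 : Q := act 6 n11711
theorem D15300 : act 6 n11711 = n15300 := rfl
def n15301 : Q := act 3 n11712
theorem D15301 : act 3 n11712 = n15301 := rfl
def n15302 : Q := act 5 n11712
theorem D15302 : act 5 n11712 = n15302 := rfl
theorem F26646 : act 2 n15302 = n11714 := d13_1 D15302 (iv D11714) (iv F20730)
theorem F26647 : act 4 n15302 = n11713 := d18_1 D15302 (iv D11713) D11712
def n15303 : Q := act 1 n11713
theorem D15303 : act 1 n11713 = n15303 := rfl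
def n15304 : Q := act 6 n11713
theorem D15304 : act 6 n11713 = n15304 := rfl
theorem F26648 : act 0 n15304 = n15224 := d5_1 D15304 F26511 F22198
theorem F26649 : act 2 n15304 = n11716 := d14_1 D15304 (iv D11716) (iv F20731)
theorem F26650 : act 3 n15304 = n12472 := d17_1 D15304 (iv F22184) F22183
theorem F26651 : act 5 n15304 = n12470 := d20_1 D15304 F21941 D12646 (iv F26511) (iv D15224) F20644 D11713
def n15305 : Q := act 1 n11714
theorem D15305 : act 1 n11714 = n15305 := rfl
theorem F26652 : act 4 n15305 = n11715 := d8_2 (iv F20732) D15305 (iv D11715)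
theorem F26653 : act 5 n15305 = n11774 := d9_2 D11714 D15305 (iv D11774) (iv D9651) (iv F14327)
def n15306 : Q := act 6 n11714
theorem D15306 : act 6 n11714 = n15306 := rfl
theorem F26654 : act 0 n15306 = n15225 := d5_1 D15306 (iv F26614) F26612
theorem F26655 : act 4 n15306 = n11716 := d19_1 D15306 (iv D11716) (iv F20732)
theorem F26656 : act 5 n15306 = n15221 := d20_1 D15306 F26506 D15288 F26614 (iv D15225) F20645 D11714
def n15307 : Q := act 0 n11715
theorem D15307 : act 0 n11715 = n15307 := rfl
theorem F26657 : act 3 n15307 = n11717 := d2_2 (iv F20733) D15307 (iv D11717)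
theorem F26658 : act 5 n15307 = n11775 := d4_2 (iv F20734) D15307 (iv D11775)
def n15308 : Q := act 2 n11715
theorem D15308 : act 2 n11715 = n15308 := rfl
theorem F26659 : act 5 n15308 = n11776 := d13_2 (iv F20734) D15308 (iv D11776)
def n15309 : Q := act 6 n11715
theorem D15309 : act 6 n11715 = n15309 := rfl
theorem F26660 : act 3 n15309 = n11718 := d17_1 D15309 (iv D11718) (iv F20733)
def n15310 : Q := act 1 n11716
theorem D15310 : act 1 n11716 = n15310 := rfl
theorem F26661 : act 3 n15310 = n11719 := d7_2 (iv F20736) D15310 (iv D11719)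
def n15311 : Q := act 1 n11717
theorem D15311 : act 1 n11717 = n15311 := rfl
def n15312 : Q := act 1 n11718
theorem D15312 : act 1 n11718 = n15312 := rfl
theorem F26662 : act 6 n15312 = n11719 := d10_2 D11718 D15312 (iv D11719) (iv D9599) D9598
def n15313 : Q := act 0 n11719
theorem D15313 : act 0 n11719 = n15313 := rfl
def n15314 : Q := act 2 n11719
theorem D15314 : act 2 n11719 = n15314 := rfl
theorem F26663 : act 1 n15314 = n11721 := d6_1 D15314 (iv D11721) (iv D9600) (iv F14331) D11719
def n15315 : Q := act 5 n11719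
theorem D15315 : act 5 n11719 = n15315 := rfl
theorem F26664 : act 1 n15315 = n15219 := d9_1 D15315 (iv D15219) (iv D11650) (iv F14332) D11719
def n15316 : Q := act 2 n11720
theorem D15316 : act 2 n11720 = n15316 := rfl
theorem F26665 : act 0 n15316 = n11721 := d1_1 D15316 (iv D11721) D11720
def n15317 : Q := act 3 n11721
theorem D15317 : act 3 n11721 = n15317 := rfl
def n15318 : Q := act 5 n11721
theorem D15318 : act 5 n11721 = n15318 := rfl
theorem F26666 : act 2 n15318 = n11722 := d13_1 D15318 (iv D11722) D11721
def n15319 : Q := act 6 n11722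
theorem D15319 : act 6 n11722 = n15319 := rfl
theorem F26667 : act 0 n15319 = n12600 := d5_1 D15319 (iv F22126) F22130
theorem F26668 : act 1 n15319 = n15281 := d10_1 D15319 F26595 F26498 (iv D15215) (iv F20740)
theorem F26669 : act 3 n15319 = n12682 := d17_1 D15319 (iv D12682) (iv F20741)
theorem F26670 : act 5 n15319 = n12598 := d20_1 D15319 F22123 F22129 F22126 (iv D12600) F18072 D11722
def n15320 : Q := act 3 n11723
theorem D15320 : act 3 n11723 = n15320 := rfl
theorem F26671 : act 0 n15320 = n12496 := d2_1 D15320 (iv D12496) (iv F20742)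
theorem F26672 : act 1 n15320 = n11724 := d7_1 D15320 (iv D11724) D11723
def n15321 : Q := act 5 n11723
theorem D15321 : act 5 n11723 = n15321 := rfl
theorem F26673 : act 0 n15321 = n12497 := d4_1 D15321 (iv D12497) (iv F20742)
theorem F26674 : act 2 n15321 = n12512 := d13_1 D15321 (iv D12512) F20743
def n15322 : Q := act 6 n11723
theorem D15322 : act 6 n11723 = n15322 := rfl
theorem F26675 : act 0 n15322 = n12498 := d5_1 D15322 (iv D12498) (iv F20742)
theorem F26676 : act 2 n15322 = n12513 := d14_1 D15322 (iv D12513) F20743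
def n15323 : Q := act 2 n11724
theorem D15323 : act 2 n11724 = n15323 := rfl
theorem F26677 : act 0 n15323 = n11727 := d1_1 D15323 (iv D11727) (iv F20744)
def n15324 : Q := act 4 n11724
theorem D15324 : act 4 n11724 = n15324 := rfl
theorem F26678 : act 0 n15324 = n11728 := d3_1 D15324 (iv D11728) (iv F20744)
def n15325 : Q := act 5 n11724
theorem D15325 : act 5 n11724 = n15325 := rfl
theorem F26679 : act 0 n15325 = n11729 := d4_1 D15325 (iv D11729) (iv F20744)
theorem F26680 : act 3 n15325 = n11725 := d16_1 D15325 (iv D11725) D11724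
def n15326 : Q := act 6 n11724
theorem D15326 : act 6 n11724 = n15326 := rfl
theorem F26681 : act 0 n15326 = n11730 := d5_1 D15326 (iv D11730) (iv F20744)
theorem F26682 : act 3 n15326 = n11726 := d17_1 D15326 (iv D11726) D11724
def n15327 : Q := act 1 n11725
theorem D15327 : act 1 n11725 = n15327 := rfl
def n15328 : Q := act 1 n11726
theorem D15328 : act 1 n11726 = n15328 := rfl
def n15329 : Q := act 4 n11727
theorem D15329 : act 4 n11727 = n15329 := rfl
theorem F26683 : act 2 n15329 = n11728 := d12_1 D15329 (iv D11728) D11727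
def n15330 : Q := act 5 n11727
theorem D15330 : act 5 n11727 = n15330 := rfl
theorem F26684 : act 2 n15330 = n11729 := d13_1 D15330 (iv D11729) D11727
def n15331 : Q := act 6 n11727
theorem D15331 : act 6 n11727 = n15331 := rfl
theorem F26685 : act 2 n15331 = n11730 := d14_1 D15331 (iv D11730) D11727
def n15332 : Q := act 5 n11728
theorem D15332 : act 5 n11728 = n15332 := rfl
theorem F26686 : act 4 n15332 = n11729 := d18_1 D15332 (iv D11729) D11728
def n15333 : Q := act 6 n11728
theorem D15333 : act 6 n11728 = n15333 := rfl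
theorem F26687 : act 4 n15333 = n11730 := d19_1 D15333 (iv D11730) D11728
def n15334 : Q := act 6 n11729
theorem D15334 : act 6 n11729 = n15334 := rfl
theorem F26688 : act 3 n15334 = n11731 := d17_1 D15334 (iv D11731) (iv F20750)
theorem F26689 : act 5 n15334 = n15326 := d22_2 D11729 D15334 (iv D15326) F20744
def n15335 : Q := act 1 n11730
theorem D15335 : act 1 n11730 = n15335 := rfl
theorem F26690 : act 3 n15335 = n11732 := d7_2 (iv F20751) D15335 (iv D11732)
theorem F26691 : act 6 n15335 = n11735 := d10_2 D11730 D15335 (iv D11735) (iv D9615) (iv F14350)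
def n15336 : Q := act 5 n11730
theorem D15336 : act 5 n11730 = n15336 := rfl
theorem F26692 : act 0 n15336 = n15334 := d4_1 D15336 F26689 F26681
theorem F26693 : act 3 n15336 = n11733 := d16_1 D15336 (iv D11733) (iv F20751)
theorem F26694 : act 6 n15336 = n15325 := d20_2 D11730 D15336 (iv D15325) D15326 (iv F26689) (iv D15334) (iv D11729)
def n15337 : Q := act 1 n11731
theorem D15337 : act 1 n11731 = n15337 := rfl
def n15338 : Q := act 0 n11732
theorem D15338 : act 0 n11732 = n15338 := rfl
theorem F26695 : act 6 n15338 = n11736 := d5_2 (iv F20754) D15338 (iv D11736)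
def n15339 : Q := act 5 n11732
theorem D15339 : act 5 n11732 = n15339 := rfl
def n15340 : Q := act 1 n11733
theorem D15340 : act 1 n11733 = n15340 := rfl
def n15341 : Q := act 1 n11734
theorem D15341 : act 1 n11734 = n15341 := rfl
theorem F26696 : act 4 n15341 = n11735 := d8_2 (iv F20759) D15341 (iv D11735)
def n15342 : Q := act 0 n11735
theorem D15342 : act 0 n11735 = n15342 := rfl
theorem F26697 : act 3 n15342 = n11736 := d2_2 (iv F20761) D15342 (iv D11736)
def n15343 : Q := act 2 n11735
theorem D15343 : act 2 n11735 = n15343 := rfl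
def n15344 : Q := act 5 n11735
theorem D15344 : act 5 n11735 = n15344 := rfl
theorem F26698 : act 1 n15344 = n12743 := d9_1 D15344 (iv D12743) F18152 F17186 D11735
theorem F26699 : act 3 n15344 = n11737 := d16_1 D15344 (iv D11737) (iv F20761)
def n15345 : Q := act 1 n11736
theorem D15345 : act 1 n11736 = n15345 := rfl
def n15346 : Q := act 5 n11736
theorem D15346 : act 5 n11736 = n15346 := rfl
theorem F26700 : act 0 n15346 = n11737 := d4_1 D15346 (iv D11737) D11736
theorem F26701 : act 6 n15346 = n15339 := d22_1 D15346 (iv D15339) F20754 D11736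
def n15347 : Q := act 6 n11737
theorem D15347 : act 6 n11737 = n15347 := rfl
theorem F26702 : act 0 n15347 = n15339 := d5_1 D15347 (iv F26701) F26700
theorem F26703 : act 5 n15347 = n15338 := d20_1 D15347 F26695 D15346 F26701 (iv D15339) F20754 D11737
def n15348 : Q := act 1 n11738
theorem D15348 : act 1 n11738 = n15348 := rfl
def n15349 : Q := act 4 n11738
theorem D15349 : act 4 n11738 = n15349 := rfl
theorem F26704 : act 0 n15349 = n11739 := d3_1 D15349 (iv D11739) D11738
def n15350 : Q := act 5 n11738
theorem D15350 : act 5 n11738 = n15350 := rfl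
theorem F26705 : act 0 n15350 = n11740 := d4_1 D15350 (iv D11740) D11738
def n15351 : Q := act 6 n11738
theorem D15351 : act 6 n11738 = n15351 := rfl
theorem F26706 : act 0 n15351 = n11741 := d5_1 D15351 (iv D11741) D11738
def n15352 : Q := act 3 n11739
theorem D15352 : act 3 n11739 = n15352 := rfl
theorem F26707 : act 1 n15352 = n11742 := d7_1 D15352 (iv D11742) (iv F20763)
def n15353 : Q := act 5 n11739
theorem D15353 : act 5 n11739 = n15353 := rfl
theorem F26708 : act 4 n15353 = n11740 := d18_1 D15353 (iv D11740) D11739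
def n15354 : Q := act 6 n11739
theorem D15354 : act 6 n11739 = n15354 := rfl
theorem F26709 : act 4 n15354 = n11741 := d19_1 D15354 (iv D11741) D11739
def n15355 : Q := act 6 n11740
theorem D15355 : act 6 n11740 = n15355 := rfl
theorem F26710 : act 5 n15355 = n15351 := d22_2 D11740 D15355 (iv D15351) (iv D11738)
def n15356 : Q := act 1 n11741
theorem D15356 : act 1 n11741 = n15356 := rfl
theorem F26711 : act 6 n15356 = n11744 := d10_2 D11741 D15356 (iv D11744) (iv D9621) D9619
def n15357 : Q := act 5 n11741
theorem D15357 : act 5 n11741 = n15357 := rfl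
theorem F26713 : act 6 n15357 = n15350 := d20_2 D11741 D15357 (iv D15350) D15351 (iv F26710) (iv D15355) (iv D11740)
def n15358 : Q := act 6 n11742
theorem D15358 : act 6 n11742 = n15358 := rfl
theorem F26714 : act 2 n15358 = n12751 := d14_1 D15358 (iv F25818) F25815
theorem F26715 : act 3 n15358 = n11743 := d17_1 D15358 (iv D11743) D11742
theorem F26716 : act 4 n15358 = n12893 := d19_1 D15358 F22596 F20835
theorem F26717 : act 5 n15358 = n12751 := d22_2 F25766 D15358 (iv F25818) F25814
def n15359 : Q := act 1 n11743
theorem D15359 : act 1 n11743 = n15359 := rfl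
theorem F26718 : act 4 n15359 = n11744 := d8_2 (iv F20765) D15359 (iv D11744)
def n15360 : Q := act 0 n11744
theorem D15360 : act 0 n11744 = n15360 := rfl
def n15361 : Q := act 2 n11744
theorem D15361 : act 2 n11744 = n15361 := rfl
theorem F26719 : act 1 n15361 = n11747 := d6_1 D15361 (iv D11747) (iv D9623) (iv F14359) D11744
def n15362 : Q := act 5 n11744
theorem D15362 : act 5 n11744 = n15362 := rfl
theorem F26720 : act 1 n15362 = n12749 := d9_1 D15362 (iv D12749) (iv D10291) F17235 D11744
def n15363 : Q := act 0 n11745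
theorem D15363 : act 0 n11745 = n15363 := rfl
theorem F26721 : act 4 n15363 = n11746 := d3_2 (iv F20767) D15363 (iv D11746)
def n15364 : Q := act 2 n11745
theorem D15364 : act 2 n11745 = n15364 := rfl
theorem F26722 : act 4 n15364 = n11747 := d12_2 (iv F20767) D15364 (iv D11747)
def n15365 : Q := act 5 n11745
theorem D15365 : act 5 n11745 = n15365 := rfl
theorem F26723 : act 1 n15365 = n12595 := d9_1 D15365 (iv D12595) F18067 (iv F17408) D11745
theorem F26724 : act 4 n15365 = n11748 := d18_1 D15365 (iv D11748) (iv F20767)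
def n15366 : Q := act 1 n11746
theorem D15366 : act 1 n11746 = n15366 := rfl
theorem F26725 : act 3 n15366 = n11749 := d7_2 (iv F20768) D15366 (iv D11749)
def n15367 : Q := act 2 n11746
theorem D15367 : act 2 n11746 = n15367 := rfl
theorem F26726 : act 0 n15367 = n11747 := d1_1 D15367 (iv D11747) D11746
def n15368 : Q := act 5 n11746
theorem D15368 : act 5 n11746 = n15368 := rfl
theorem F26727 : act 0 n15368 = n11748 := d4_1 D15368 (iv D11748) D11746
theorem F26728 : act 3 n15368 = n11750 := d16_1 D15368 (iv D11750) (iv F20768)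
theorem F26729 : act 6 n15368 = n15271 := d22_1 D15368 (iv D15271) F20696 D11746
def n15369 : Q := act 3 n11747
theorem D15369 : act 3 n11747 = n15369 := rfl
def n15370 : Q := act 5 n11747
theorem D15370 : act 5 n11747 = n15370 := rfl
theorem F26730 : act 2 n15370 = n11748 := d13_1 D15370 (iv D11748) D11747
def n15371 : Q := act 6 n11748
theorem D15371 : act 6 n11748 = n15371 := rfl
theorem F26731 : act 0 n15371 = n15271 := d5_1 D15371 (iv F26729) F26727
theorem F26732 : act 3 n15371 = n11751 := d17_1 D15371 (iv D11751) (iv F20770)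
theorem F26733 : act 5 n15371 = n15269 := d20_1 D15371 F26584 D15368 F26729 (iv D15271) F20696 D11748
def n15372 : Q := act 0 n11749
theorem D15372 : act 0 n11749 = n15372 := rfl
def n15373 : Q := act 2 n11749
theorem D15373 : act 2 n11749 = n15373 := rfl
def n15374 : Q := act 5 n11749
theorem D15374 : act 5 n11749 = n15374 := rfl
def n15375 : Q := act 6 n11749
theorem D15375 : act 6 n11749 = n15375 := rfl
def n15376 : Q := act 1 n11750
theorem D15376 : act 1 n11750 = n15376 := rfl
def n15377 : Q := act 1 n11751
theorem D15377 : act 1 n11751 = n15377 := rfl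
theorem F26734 : act 6 n15377 = n12597 := d10_2 D11751 D15377 (iv D12597) (iv D10218) (iv F17430)
def n15378 : Q := act 3 n11752
theorem D15378 : act 3 n11752 = n15378 := rfl
theorem F26735 : act 0 n15378 = n12608 := d2_1 D15378 (iv D12608) (iv F23449)
theorem F26736 : act 1 n15378 = n11753 := d7_1 D15378 (iv D11753) D11752
def n15379 : Q := act 5 n11752
theorem D15379 : act 5 n11752 = n15379 := rfl
theorem F26737 : act 0 n15379 = n12609 := d4_1 D15379 (iv D12609) (iv F23449)
theorem F26738 : act 2 n15379 = n12624 := d13_1 D15379 (iv D12624) (iv F23450)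
def n15380 : Q := act 6 n11752
theorem D15380 : act 6 n11752 = n15380 := rfl
theorem F26739 : act 0 n15380 = n12610 := d5_1 D15380 (iv D12610) (iv F23449)
theorem F26740 : act 2 n15380 = n12625 := d14_1 D15380 (iv D12625) (iv F23450)
def n15381 : Q := act 2 n11753
theorem D15381 : act 2 n11753 = n15381 := rfl
theorem F26741 : act 0 n15381 = n11756 := d1_1 D15381 (iv D11756) (iv F20777)
def n15382 : Q := act 4 n11753
theorem D15382 : act 4 n11753 = n15382 := rfl
theorem F26742 : act 0 n15382 = n11757 := d3_1 D15382 (iv D11757) (iv F20777)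
def n15383 : Q := act 5 n11753
theorem D15383 : act 5 n11753 = n15383 := rfl
theorem F26743 : act 0 n15383 = n11758 := d4_1 D15383 (iv D11758) (iv F20777)
theorem F26744 : act 3 n15383 = n11754 := d16_1 D15383 (iv D11754) D11753
def n15384 : Q := act 6 n11753
theorem D15384 : act 6 n11753 = n15384 := rfl
theorem F26745 : act 0 n15384 = n11759 := d5_1 D15384 (iv D11759) (iv F20777)
theorem F26746 : act 3 n15384 = n11755 := d17_1 D15384 (iv D11755) D11753
def n15385 : Q := act 1 n11754
theorem D15385 : act 1 n11754 = n15385 := rfl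
def n15386 : Q := act 1 n11755
theorem D15386 : act 1 n11755 = n15386 := rfl
def n15387 : Q := act 4 n11756
theorem D15387 : act 4 n11756 = n15387 := rfl
theorem F26747 : act 2 n15387 = n11757 := d12_1 D15387 (iv D11757) D11756
def n15388 : Q := act 5 n11756
theorem D15388 : act 5 n11756 = n15388 := rfl
theorem F26748 : act 2 n15388 = n11758 := d13_1 D15388 (iv D11758) D11756
def n15389 : Q := act 6 n11756
theorem D15389 : act 6 n11756 = n15389 := rfl
theorem F26749 : act 2 n15389 = n11759 := d14_1 D15389 (iv D11759) D11756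
def n15390 : Q := act 5 n11757
theorem D15390 : act 5 n11757 = n15390 := rfl
theorem F26750 : act 4 n15390 = n11758 := d18_1 D15390 (iv D11758) D11757
def n15391 : Q := act 6 n11757
theorem D15391 : act 6 n11757 = n15391 := rfl
theorem F26751 : act 4 n15391 = n11759 := d19_1 D15391 (iv D11759) D11757
def n15392 : Q := act 1 n11758
theorem D15392 : act 1 n11758 = n15392 := rfl
theorem F26752 : act 3 n15392 = n11760 := d7_2 (iv F20783) D15392 (iv D11760)
theorem F26753 : act 5 n15392 = n11764 := d9_2 D11758 D15392 (iv D11764) (iv D9644) (iv F14385)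
def n15393 : Q := act 6 n11758
theorem D15393 : act 6 n11758 = n15393 := rfl
theorem F26754 : act 3 n15393 = n11761 := d17_1 D15393 (iv D11761) (iv F20783)
theorem F26755 : act 5 n15393 = n15384 := d22_2 D11758 D15393 (iv D15384) F20777
def n15394 : Q := act 5 n11759
theorem D15394 : act 5 n11759 = n15394 := rfl
theorem F26756 : act 0 n15394 = n15393 := d4_1 D15394 F26755 F26745
theorem F26757 : act 3 n15394 = n11762 := d16_1 D15394 (iv D11762) (iv F20784)
theorem F26758 : act 6 n15394 = n15383 := d20_2 D11759 D15394 (iv D15383) D15384 (iv F26755) (iv D15393) (iv D11758)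
def n15395 : Q := act 0 n11760
theorem D15395 : act 0 n11760 = n15395 := rfl
theorem F26759 : act 5 n15395 = n11765 := d4_2 (iv F20785) D15395 (iv D11765)
def n15396 : Q := act 6 n11760
theorem D15396 : act 6 n11760 = n15396 := rfl
def n15397 : Q := act 1 n11761
theorem D15397 : act 1 n11761 = n15397 := rfl
def n15398 : Q := act 1 n11762
theorem D15398 : act 1 n11762 = n15398 := rfl
def n15399 : Q := act 1 n11763
theorem D15399 : act 1 n11763 = n15399 := rfl
theorem F26760 : act 4 n15399 = n11764 := d8_2 (iv F20792) D15399 (iv D11764)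
def n15400 : Q := act 0 n11764
theorem D15400 : act 0 n11764 = n15400 := rfl
theorem F26761 : act 3 n15400 = n11765 := d2_2 (iv F20794) D15400 (iv D11765)
def n15401 : Q := act 2 n11764
theorem D15401 : act 2 n11764 = n15401 := rfl
def n15402 : Q := act 6 n11764
theorem D15402 : act 6 n11764 = n15402 := rfl
theorem F26762 : act 1 n15402 = n12789 := d10_1 D15402 (iv D12789) F18178 F16841 D11764
theorem F26763 : act 3 n15402 = n11766 := d17_1 D15402 (iv D11766) (iv F20794)
def n15403 : Q := act 1 n11765
theorem D15403 : act 1 n11765 = n15403 := rfl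
def n15404 : Q := act 6 n11765
theorem D15404 : act 6 n11765 = n15404 := rfl
theorem F26764 : act 0 n15404 = n11766 := d5_1 D15404 (iv D11766) D11765
theorem F26765 : act 5 n15404 = n15396 := d22_2 F26759 D15404 (iv D15396) D15395
def n15405 : Q := act 5 n11766
theorem D15405 : act 5 n11766 = n15405 := rfl
theorem F26766 : act 0 n15405 = n15396 := d4_1 D15405 (iv F26765) F26764
theorem F26767 : act 6 n15405 = n15395 := d20_2 D11766 D15405 F26759 D15404 F26765 (iv D15396) F20785
def n15406 : Q := act 1 n11767
theorem D15406 : act 1 n11767 = n15406 := rfl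
def n15407 : Q := act 4 n11767
theorem D15407 : act 4 n11767 = n15407 := rfl
theorem F26768 : act 0 n15407 = n11768 := d3_1 D15407 (iv D11768) D11767
def n15408 : Q := act 5 n11767
theorem D15408 : act 5 n11767 = n15408 := rfl
theorem F26769 : act 0 n15408 = n11769 := d4_1 D15408 (iv D11769) D11767
def n15409 : Q := act 6 n11767
theorem D15409 : act 6 n11767 = n15409 := rfl
def n15410 : Q := act 3 n11768
theorem D15410 : act 3 n11768 = n15410 := rfl
theorem F26771 : act 1 n15410 = n11771 := d7_1 D15410 (iv D11771) (iv F20796)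
def n15411 : Q := act 5 n11768
theorem D15411 : act 5 n11768 = n15411 := rfl
def n15412 : Q := act 6 n11768
theorem D15412 : act 6 n11768 = n15412 := rfl
def n15413 : Q := act 1 n11769
theorem D15413 : act 1 n11769 = n15413 := rfl
theorem F26774 : act 5 n15413 = n11773 := d9_2 D11769 D15413 (iv D11773) (iv D9650) D9648
def n15414 : Q := act 6 n11769
theorem D15414 : act 6 n11769 = n15414 := rfl
def n15416 : Q := act 5 n11771
theorem D15416 : act 5 n11771 = n15416 := rfl
theorem F26778 : act 2 n15416 = n12796 := d13_1 D15416 (iv F25858) F25856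
theorem F26779 : act 3 n15416 = n11772 := d16_1 D15416 (iv D11772) D11771
theorem F26780 : act 4 n15416 = n12906 := d18_1 D15416 F22636 F20922
theorem F26781 : act 6 n15416 = n12796 := d22_1 D15416 (iv F25858) F25859 F20955
def n15417 : Q := act 1 n11772
theorem D15417 : act 1 n11772 = n15417 := rfl
theorem F26782 : act 4 n15417 = n11773 := d8_2 (iv F20798) D15417 (iv D11773)
def n15418 : Q := act 0 n11773
theorem D15418 : act 0 n11773 = n15418 := rfl
def n15419 : Q := act 2 n11773
theorem D15419 : act 2 n11773 = n15419 := rfl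
theorem F26783 : act 1 n15419 = n11776 := d6_1 D15419 (iv D11776) (iv D9652) (iv F14394) D11773
def n15420 : Q := act 6 n11773
theorem D15420 : act 6 n11773 = n15420 := rfl
theorem F26784 : act 1 n15420 = n12795 := d10_1 D15420 (iv D12795) (iv D10312) F17474 D11773
def n15421 : Q := act 0 n11774
theorem D15421 : act 0 n11774 = n15421 := rfl
theorem F26785 : act 4 n15421 = n11775 := d3_2 (iv F20800) D15421 (iv D11775)
def n15422 : Q := act 2 n11774
theorem D15422 : act 2 n11774 = n15422 := rfl
theorem F26786 : act 4 n15422 = n11776 := d12_2 (iv F20800) D15422 (iv D11776)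
def n15423 : Q := act 6 n11774
theorem D15423 : act 6 n11774 = n15423 := rfl
theorem F26787 : act 1 n15423 = n12703 := d10_1 D15423 (iv D12703) F18124 F17475 D11774
theorem F26788 : act 4 n15423 = n11777 := d19_1 D15423 (iv D11777) (iv F20800)
def n15424 : Q := act 1 n11775
theorem D15424 : act 1 n11775 = n15424 := rfl
theorem F26789 : act 3 n15424 = n11778 := d7_2 (iv F20801) D15424 (iv D11778)
def n15425 : Q := act 2 n11775
theorem D15425 : act 2 n11775 = n15425 := rfl
theorem F26790 : act 0 n15425 = n11776 := d1_1 D15425 (iv D11776) D11775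
def n15426 : Q := act 6 n11775
theorem D15426 : act 6 n11775 = n15426 := rfl
theorem F26791 : act 0 n15426 = n11777 := d5_1 D15426 (iv D11777) D11775
theorem F26792 : act 3 n15426 = n11779 := d17_1 D15426 (iv D11779) (iv F20801)
theorem F26793 : act 5 n15426 = n15309 := d22_2 F26658 D15426 (iv D15309) D15307
def n15427 : Q := act 3 n11776
theorem D15427 : act 3 n11776 = n15427 := rfl
def n15428 : Q := act 6 n11776
theorem D15428 : act 6 n11776 = n15428 := rfl
theorem F26794 : act 2 n15428 = n11777 := d14_1 D15428 (iv D11777) D11776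
def n15429 : Q := act 5 n11777
theorem D15429 : act 5 n11777 = n15429 := rfl
theorem F26795 : act 0 n15429 = n15309 := d4_1 D15429 (iv F26793) F26791
theorem F26796 : act 3 n15429 = n11780 := d16_1 D15429 (iv D11780) (iv F20803)
theorem F26797 : act 6 n15429 = n15307 := d20_2 D11777 D15429 F26658 D15426 F26793 (iv D15309) F20734
def n15430 : Q := act 0 n11778
theorem D15430 : act 0 n11778 = n15430 := rfl
def n15431 : Q := act 2 n11778
theorem D15431 : act 2 n11778 = n15431 := rfl
theorem F26798 : act 1 n15431 = n15373 := d6_1 D15431 (iv D15373) (iv D11749) (iv F17425) D11778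
def n15432 : Q := act 5 n11778
theorem D15432 : act 5 n11778 = n15432 := rfl
def n15433 : Q := act 6 n11778
theorem D15433 : act 6 n11778 = n15433 := rfl
def n15434 : Q := act 1 n11779
theorem D15434 : act 1 n11779 = n15434 := rfl
def n15435 : Q := act 1 n11780
theorem D15435 : act 1 n11780 = n15435 := rfl
theorem F26799 : act 5 n15435 = n12705 := d9_2 D11780 D15435 (iv D12705) (iv D10270) F17429
def n15436 : Q := act 0 n11781
theorem D15436 : act 0 n11781 = n15436 := rfl
theorem F26800 : act 2 n15436 = n11788 := d1_2 (iv F20810) D15436 (iv D11788)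
def n15437 : Q := act 3 n11781
theorem D15437 : act 3 n11781 = n15437 := rfl
theorem F26801 : act 1 n15437 = n11782 := d7_1 D15437 (iv D11782) D11781
def n15438 : Q := act 4 n11781
theorem D15438 : act 4 n11781 = n15438 := rfl
theorem F26802 : act 1 n15438 = n11783 := d8_1 D15438 (iv D11783) D11781
theorem F26803 : act 2 n15438 = n11789 := d12_1 D15438 (iv D11789) (iv F20810)
def n15439 : Q := act 5 n11781
theorem D15439 : act 5 n11781 = n15439 := rfl
theorem F26805 : act 2 n15439 = n11790 := d13_1 D15439 (iv D11790) (iv F20810)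
def n15440 : Q := act 6 n11781
theorem D15440 : act 6 n11781 = n15440 := rfl
theorem F26806 : act 2 n15440 = n11791 := d14_1 D15440 (iv D11791) (iv F20810)
def n15441 : Q := act 4 n11782
theorem D15441 : act 4 n11782 = n15441 := rfl
theorem F26807 : act 0 n15441 = n15441 := d3_1 D15441 (iv D15441) F20811
theorem F26808 : act 2 n15441 = n15441 := d12_1 D15441 (iv D15441) F20813
theorem F26809 : act 5 n15441 = n15441 := d18_2 F20812 D15441 (iv D15441)
def n15442 : Q := act 6 n11782
theorem D15442 : act 6 n11782 = n15442 := rfl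
def n15443 : Q := act 3 n11783
theorem D15443 : act 3 n11783 = n15443 := rfl
def n15446 : Q := act 0 n11786
theorem D15446 : act 0 n11786 = n15446 := rfl
theorem F26822 : act 5 n15446 = n12931 := d4_2 F25867 D15446 (iv F25864)
def n15448 : Q := act 1 n11788
theorem D15448 : act 1 n11788 = n15448 := rfl
theorem F26825 : act 3 n15448 = n15348 := d7_2 (iv F20830) D15448 (iv D15348)
def n15450 : Q := act 5 n11788
theorem D15450 : act 5 n11788 = n15450 := rfl
theorem F26828 : act 3 n15450 = n15350 := d16_1 D15450 (iv D15350) (iv F20830)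
def n15453 : Q := act 5 n11789
theorem D15453 : act 5 n11789 = n15453 := rfl
theorem F26833 : act 4 n15453 = n11790 := d18_1 D15453 (iv D11790) D11789
def n15454 : Q := act 6 n11789
theorem D15454 : act 6 n11789 = n15454 := rfl
theorem F26834 : act 4 n15454 = n11791 := d19_1 D15454 (iv D11791) D11789
def n15455 : Q := act 6 n11790
theorem D15455 : act 6 n11790 = n15455 := rfl
theorem F26835 : act 3 n15455 = n15355 := d17_1 D15455 (iv D15355) (iv F20832)
def n15456 : Q := act 1 n11791
theorem D15456 : act 1 n11791 = n15456 := rfl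
theorem F26837 : act 3 n15456 = n15356 := d7_2 (iv F20833) D15456 (iv D15356)
theorem F26838 : act 6 n15456 = n11793 := d10_2 D11791 D15456 (iv D11793) (iv D9682) D9680
def n15458 : Q := act 0 n11793
theorem D15458 : act 0 n11793 = n15458 := rfl
theorem F26842 : act 3 n15458 = n15360 := d2_2 (iv F20837) D15458 (iv D15360)
def n15459 : Q := act 2 n11793
theorem D15459 : act 2 n11793 = n15459 := rfl
def n15460 : Q := act 5 n11793
theorem D15460 : act 5 n11793 = n15460 := rfl
theorem F26844 : act 1 n15460 = n12821 := d9_1 D15460 (iv D12821) (iv D10327) F17184 D11793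
theorem F26845 : act 3 n15460 = n15362 := d16_1 D15460 (iv D15362) (iv F20837)
def n15464 : Q := act 0 n11797
theorem D15464 : act 0 n11797 = n15464 := rfl
theorem F26850 : act 3 n15464 = n15323 := d2_2 (iv F20847) D15464 F26677
theorem F26851 : act 2 n15464 = n11797 := d21_0 F20847 (iv D11727) (iv D9611) F14790 D9611 D11727 (iv F20847) D15464
theorem F26852 : act 1 n11877 = n15464 := d6_5 F26851 (iv D11797) F14467 D9856 D11877
theorem F26853 : act 0 n15448 = n11877 := d0_9 F26852 (iv D15464) (iv D11797) (iv D9690) (iv D4692) (iv F7133) D9680 D11788 D15448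
theorem F26854 : act 2 n11876 = n15448 := d1_0 F26853 (iv D11877) D11876
def n15465 : Q := act 4 n11797
theorem D15465 : act 4 n11797 = n15465 := rfl
theorem F26855 : act 1 n15465 = n11799 := d8_1 D15465 (iv D11799) D11797
def n15466 : Q := act 5 n11797
theorem D15466 : act 5 n11797 = n15466 := rfl
theorem F26856 : act 3 n15466 = n15330 := d16_1 D15466 (iv D15330) (iv F20847)
def n15467 : Q := act 6 n11797
theorem D15467 : act 6 n11797 = n15467 := rfl
theorem F26857 : act 3 n15467 = n15331 := d17_1 D15467 (iv D15331) (iv F20847)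
def n15468 : Q := act 4 n11798
theorem D15468 : act 4 n11798 = n15468 := rfl
theorem F26858 : act 0 n15468 = n11802 := d3_1 D15468 (iv D11802) (iv F20844)
theorem F26859 : act 1 n15468 = n15329 := d8_1 D15468 (iv D15329) F20846
theorem F26860 : act 2 n15468 = n11802 := d12_1 D15468 (iv D11802) (iv F20845)
def n15469 : Q := act 5 n11798
theorem D15469 : act 5 n11798 = n15469 := rfl
theorem F26861 : act 0 n15469 = n11803 := d4_1 D15469 (iv D11803) (iv F20844)
theorem F26862 : act 2 n15469 = n11803 := d13_1 D15469 (iv D11803) (iv F20845)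
theorem F26863 : act 3 n15469 = n11800 := d16_1 D15469 (iv D11800) D11798
def n15470 : Q := act 6 n11798
theorem D15470 : act 6 n11798 = n15470 := rfl
theorem F26864 : act 0 n15470 = n11804 := d5_1 D15470 (iv D11804) (iv F20844)
theorem F26865 : act 2 n15470 = n11804 := d14_1 D15470 (iv D11804) (iv F20845)
theorem F26866 : act 3 n15470 = n11801 := d17_1 D15470 (iv D11801) D11798
def n15471 : Q := act 3 n11799
theorem D15471 : act 3 n11799 = n15471 := rfl
theorem F26867 : act 0 n15471 = n11805 := d2_1 D15471 (iv D11805) (iv F20848)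
def n15472 : Q := act 5 n11799
theorem D15472 : act 5 n11799 = n15472 := rfl
theorem F26868 : act 0 n15472 = n11806 := d4_1 D15472 (iv D11806) (iv F20848)
theorem F26870 : act 4 n15472 = n11800 := d18_1 D15472 (iv D11800) D11799
def n15473 : Q := act 6 n11799
theorem D15473 : act 6 n11799 = n15473 := rfl
theorem F26871 : act 0 n15473 = n11807 := d5_1 D15473 (iv D11807) (iv F20848)
theorem F26872 : act 2 n15473 = n11883 := d14_1 D15473 (iv D11883) (iv F20849)
theorem F26873 : act 4 n15473 = n11801 := d19_1 D15473 (iv D11801) D11799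
def n15474 : Q := act 1 n11800
theorem D15474 : act 1 n11800 = n15474 := rfl
def n15475 : Q := act 1 n11801
theorem D15475 : act 1 n11801 = n15475 := rfl
def n15476 : Q := act 3 n11802
theorem D15476 : act 3 n11802 = n15476 := rfl
theorem F26874 : act 1 n15476 = n11811 := d7_1 D15476 (iv D11811) (iv F20854)
theorem F26875 : act 4 n15476 = n11805 := d15_2 D11802 D15476 (iv D11805) (iv D9692) D9691
def n15477 : Q := act 5 n11802
theorem D15477 : act 5 n11802 = n15477 := rfl
theorem F26876 : act 4 n15477 = n11803 := d18_1 D15477 (iv D11803) D11802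
def n15478 : Q := act 6 n11802
theorem D15478 : act 6 n11802 = n15478 := rfl
theorem F26877 : act 4 n15478 = n11804 := d19_1 D15478 (iv D11804) D11802
def n15479 : Q := act 6 n11803
theorem D15479 : act 6 n11803 = n15479 := rfl
theorem F26878 : act 3 n15479 = n11808 := d17_1 D15479 (iv D11808) (iv F20855)
theorem F26879 : act 5 n15479 = n15470 := d22_2 D11803 D15479 (iv D15470) F20844
def n15480 : Q := act 1 n11804
theorem D15480 : act 1 n11804 = n15480 := rfl
theorem F26880 : act 3 n15480 = n11809 := d7_2 (iv F20856) D15480 (iv D11809)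
theorem F26881 : act 6 n15480 = n11813 := d10_2 D11804 D15480 (iv D11813) (iv D9696) (iv F14468)
def n15481 : Q := act 5 n11804
theorem D15481 : act 5 n11804 = n15481 := rfl
theorem F26882 : act 0 n15481 = n15479 := d4_1 D15481 F26879 F26864
theorem F26883 : act 2 n15481 = n15479 := d13_1 D15481 F26879 F26865
theorem F26884 : act 3 n15481 = n11810 := d16_1 D15481 (iv D11810) (iv F20856)
theorem F26885 : act 6 n15481 = n15469 := d20_2 D11804 D15481 (iv D15469) D15470 (iv F26879) (iv D15479) (iv D11803)
def n15482 : Q := act 2 n11805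
theorem D15482 : act 2 n11805 = n15482 := rfl
def n15483 : Q := act 5 n11805
theorem D15483 : act 5 n11805 = n15483 := rfl
theorem F26886 : act 3 n15483 = n11806 := d16_1 D15483 (iv D11806) D11805
def n15484 : Q := act 6 n11805
theorem D15484 : act 6 n11805 = n15484 := rfl
theorem F26887 : act 3 n15484 = n11807 := d17_1 D15484 (iv D11807) D11805
def n15485 : Q := act 6 n11806
theorem D15485 : act 6 n11806 = n15485 := rfl
theorem F26888 : act 2 n15485 = n11889 := d14_1 D15485 (iv D11889) (iv F20858)
theorem F26889 : act 4 n15485 = n11808 := d19_1 D15485 (iv D11808) (iv F20859)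
theorem F26890 : act 5 n15485 = n15473 := d22_2 D11806 D15485 (iv D15473) F20848
def n15486 : Q := act 1 n11807
theorem D15486 : act 1 n11807 = n15486 := rfl
theorem F26891 : act 4 n15486 = n11809 := d8_2 (iv F20861) D15486 (iv D11809)
theorem F26892 : act 6 n15486 = n11816 := d10_2 D11807 D15486 (iv D11816) (iv D9698) (iv F14469)
def n15487 : Q := act 5 n11807
theorem D15487 : act 5 n11807 = n15487 := rfl
theorem F26893 : act 0 n15487 = n15485 := d4_1 D15487 F26890 F26871
theorem F26894 : act 2 n15487 = n11891 := d13_1 D15487 (iv D11891) (iv F20860)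
theorem F26895 : act 4 n15487 = n11810 := d18_1 D15487 (iv D11810) (iv F20861)
theorem F26896 : act 6 n15487 = n15472 := d20_2 D11807 D15487 (iv D15472) D15473 (iv F26890) (iv D15485) (iv D11806)
def n15488 : Q := act 1 n11808
theorem D15488 : act 1 n11808 = n15488 := rfl
def n15489 : Q := act 0 n11809
theorem D15489 : act 0 n11809 = n15489 := rfl
theorem F26897 : act 6 n15489 = n11817 := d5_2 (iv F20864) D15489 (iv D11817)
def n15490 : Q := act 2 n11809
theorem D15490 : act 2 n11809 = n15490 := rfl
theorem F26898 : act 1 n15490 = n11894 := d6_1 D15490 (iv D11894) (iv D9864) (iv F14472) D11809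
theorem F26899 : act 6 n15490 = n11818 := d14_2 (iv F20864) D15490 (iv D11818)
def n15491 : Q := act 5 n11809
theorem D15491 : act 5 n11809 = n15491 := rfl
def n15492 : Q := act 1 n11810
theorem D15492 : act 1 n11810 = n15492 := rfl
def n15493 : Q := act 6 n11811
theorem D15493 : act 6 n11811 = n15493 := rfl
theorem F26900 : act 0 n15493 = n15358 := d5_1 D15493 (iv D15358) (iv F20868)
theorem F26901 : act 2 n15493 = n12838 := d14_1 D15493 (iv F25767) F25768
theorem F26902 : act 3 n15493 = n11812 := d17_1 D15493 (iv D11812) D11811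
theorem F26903 : act 4 n15493 = n11815 := d19_1 D15493 (iv D11815) (iv F20869)
theorem F26904 : act 5 n15493 = n12838 := d20_1 D15493 (iv F25767) F25766 D15358 F26717 (iv F25818) F25817
def n15494 : Q := act 1 n11812
theorem D15494 : act 1 n11812 = n15494 := rfl
theorem F26905 : act 4 n15494 = n11813 := d8_2 (iv F20872) D15494 (iv D11813)
def n15495 : Q := act 0 n11813
theorem D15495 : act 0 n11813 = n15495 := rfl
theorem F26906 : act 3 n15495 = n11817 := d2_2 (iv F20874) D15495 (iv D11817)
def n15496 : Q := act 2 n11813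
theorem D15496 : act 2 n11813 = n15496 := rfl
theorem F26907 : act 1 n15496 = n15343 := d6_1 D15496 (iv D15343) (iv D11735) (iv F14476) D11813
def n15497 : Q := act 5 n11813
theorem D15497 : act 5 n11813 = n15497 := rfl
theorem F26908 : act 1 n15497 = n12831 := d9_1 D15497 (iv D12831) F18220 F17234 D11813
theorem F26909 : act 3 n15497 = n11819 := d16_1 D15497 (iv D11819) (iv F20874)
def n15498 : Q := act 1 n11814
theorem D15498 : act 1 n11814 = n15498 := rfl
theorem F26910 : act 3 n15498 = n12798 := d7_2 (iv F20876) D15498 F22393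
def n15499 : Q := act 1 n11815
theorem D15499 : act 1 n11815 = n15499 := rfl
theorem F26911 : act 3 n15499 = n11816 := d7_2 (iv F20880) D15499 (iv D11816)
def n15500 : Q := act 0 n11816
theorem D15500 : act 0 n11816 = n15500 := rfl
theorem F26912 : act 4 n15500 = n11817 := d3_2 (iv F20882) D15500 (iv D11817)
def n15501 : Q := act 2 n11816
theorem D15501 : act 2 n11816 = n15501 := rfl
theorem F26913 : act 1 n15501 = n11821 := d6_1 D15501 (iv D11821) (iv D9701) (iv F14478) D11816
theorem F26914 : act 4 n15501 = n11818 := d12_2 (iv F20882) D15501 (iv D11818)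
def n15502 : Q := act 5 n11816
theorem D15502 : act 5 n11816 = n15502 := rfl
theorem F26915 : act 1 n15502 = n12834 := d9_1 D15502 (iv D12834) F18221 (iv F17407) D11816
theorem F26916 : act 4 n15502 = n11819 := d18_1 D15502 (iv D11819) (iv F20882)
def n15503 : Q := act 1 n11817
theorem D15503 : act 1 n11817 = n15503 := rfl
def n15504 : Q := act 2 n11817
theorem D15504 : act 2 n11817 = n15504 := rfl
theorem F26917 : act 0 n15504 = n11818 := d1_1 D15504 (iv D11818) D11817
def n15505 : Q := act 5 n11817
theorem D15505 : act 5 n11817 = n15505 := rfl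
theorem F26918 : act 0 n15505 = n11819 := d4_1 D15505 (iv D11819) D11817
theorem F26919 : act 6 n15505 = n15491 := d22_1 D15505 (iv D15491) F20864 D11817
def n15506 : Q := act 3 n11818
theorem D15506 : act 3 n11818 = n15506 := rfl
theorem F26920 : act 1 n15506 = n11823 := d7_1 D15506 (iv D11823) (iv F20883)
def n15507 : Q := act 5 n11818
theorem D15507 : act 5 n11818 = n15507 := rfl
theorem F26921 : act 1 n15507 = n12966 := d9_1 D15507 F22735 F18438 (iv F17447) (iv F20883)
theorem F26922 : act 2 n15507 = n11819 := d13_1 D15507 (iv D11819) D11818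
def n15508 : Q := act 6 n11819
theorem D15508 : act 6 n11819 = n15508 := rfl
theorem F26923 : act 0 n15508 = n15491 := d5_1 D15508 (iv F26919) F26918
theorem F26924 : act 5 n15508 = n15489 := d20_1 D15508 F26897 D15505 F26919 (iv D15491) F20864 D11819
def n15509 : Q := act 2 n11820
theorem D15509 : act 2 n11820 = n15509 := rfl
theorem F26925 : act 0 n15509 = n11821 := d1_1 D15509 (iv D11821) D11820
theorem F26927 : act 5 n15509 = n12983 := d13_2 (iv F20887) D15509 (iv D12983)
def n15510 : Q := act 3 n11821
theorem D15510 : act 3 n11821 = n15510 := rfl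
theorem F26929 : act 5 n15510 = n12984 := d16_2 (iv F20890) D15510 (iv D12984)
theorem F26930 : act 6 n15510 = n11915 := d17_2 (iv F20891) D15510 (iv D11915)
def n15511 : Q := act 1 n11822
theorem D15511 : act 1 n11822 = n15511 := rfl
def n15512 : Q := act 3 n11822
theorem D15512 : act 3 n11822 = n15512 := rfl
theorem F26931 : act 0 n15512 = n11823 := d2_1 D15512 (iv D11823) (iv F20892)
theorem F26932 : act 5 n15512 = n11983 := d16_2 (iv F20893) D15512 F21145
theorem F26933 : act 6 n15512 = n11921 := d17_2 (iv F20894) D15512 (iv D11921)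
theorem F26934 : act 2 n15512 = n11866 := d21_2 D11822 D15512 (iv D11866) (iv D9764) F7210 (iv F16695) (iv F7152) D9703
def n15513 : Q := act 2 n11823
theorem D15513 : act 2 n11823 = n15513 := rfl
theorem F26935 : act 0 n15513 = n11866 := d1_1 D15513 (iv F26934) F26931
theorem F26936 : act 3 n15513 = n11865 := d11_2 D11823 D15513 (iv D11865) F14602 (iv F16810) (iv F14490) D11822 D15512 F26934 (iv D11866) (iv D9764) F7210 (iv F16695) (iv F7152) D9704
theorem F26937 : act 5 n15513 = n11982 := d13_2 (iv F20895) D15513 F21143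
theorem F26938 : act 6 n15513 = n11922 := d14_2 (iv F20896) D15513 (iv D11922)
def n15514 : Q := act 4 n11823
theorem D15514 : act 4 n11823 = n15514 := rfl
theorem F26939 : act 5 n15514 = n12988 := d18_2 (iv F20895) D15514 (iv D12988)
theorem F26940 : act 6 n15514 = n11923 := d19_2 (iv F20896) D15514 (iv D11923)
def n15515 : Q := act 0 n11824
theorem D15515 : act 0 n11824 = n15515 := rfl
theorem F26941 : act 2 n15515 = n11831 := d1_2 (iv F20897) D15515 (iv D11831)
def n15516 : Q := act 3 n11824
theorem D15516 : act 3 n11824 = n15516 := rfl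
theorem F26942 : act 1 n15516 = n11825 := d7_1 D15516 (iv D11825) D11824
def n15517 : Q := act 4 n11824
theorem D15517 : act 4 n11824 = n15517 := rfl
theorem F26944 : act 2 n15517 = n11832 := d12_1 D15517 (iv D11832) (iv F20897)
def n15518 : Q := act 5 n11824
theorem D15518 : act 5 n11824 = n15518 := rfl
theorem F26945 : act 2 n15518 = n11833 := d13_1 D15518 (iv D11833) (iv F20897)
def n15519 : Q := act 6 n11824
theorem D15519 : act 6 n11824 = n15519 := rfl
def n15520 : Q := act 4 n11825
theorem D15520 : act 4 n11825 = n15520 := rfl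
theorem F26948 : act 0 n15520 = n15520 := d3_1 D15520 (iv D15520) F20898
theorem F26949 : act 2 n15520 = n15520 := d12_1 D15520 (iv D15520) F20900
theorem F26950 : act 6 n15520 = n15520 := d19_2 F20899 D15520 (iv D15520)
def n15521 : Q := act 5 n11825
theorem D15521 : act 5 n11825 = n15521 := rfl
theorem F26953 : act 3 n15521 = n11827 := d16_1 D15521 (iv D11827) D11825
def n15527 : Q := act 1 n11831
theorem D15527 : act 1 n11831 = n15527 := rfl
theorem F26966 : act 3 n15527 = n15406 := d7_2 (iv F20917) D15527 (iv D15406)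
def n15528 : Q := act 4 n11831
theorem D15528 : act 4 n11831 = n15528 := rfl
theorem F26967 : act 0 n15528 = n11832 := d3_1 D15528 (iv D11832) D11831
def n15529 : Q := act 5 n11831
theorem D15529 : act 5 n11831 = n15529 := rfl
theorem F26968 : act 0 n15529 = n11833 := d4_1 D15529 (iv D11833) D11831
def n15531 : Q := act 3 n11832
theorem D15531 : act 3 n11832 = n15531 := rfl
theorem F26972 : act 1 n15531 = n11835 := d7_1 D15531 (iv D11835) (iv F20918)
theorem F26973 : act 4 n15531 = n15410 := d15_2 D11832 D15531 (iv D15410) (iv D11768) (iv F14558)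
def n15532 : Q := act 5 n11832
theorem D15532 : act 5 n11832 = n15532 := rfl
def n15534 : Q := act 1 n11833
theorem D15534 : act 1 n11833 = n15534 := rfl
theorem F26976 : act 3 n15534 = n15413 := d7_2 (iv F20919) D15534 (iv D15413)
theorem F26977 : act 5 n15534 = n11836 := d9_2 D11833 D15534 (iv D11836) (iv D9742) D9740
def n15535 : Q := act 6 n11833
theorem D15535 : act 6 n11833 = n15535 := rfl
def n15537 : Q := act 0 n11836
theorem D15537 : act 0 n11836 = n15537 := rfl
theorem F26983 : act 3 n15537 = n15418 := d2_2 (iv F20924) D15537 (iv D15418)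
def n15538 : Q := act 2 n11836
theorem D15538 : act 2 n11836 = n15538 := rfl
theorem F26984 : act 1 n15538 = n11838 := d6_1 D15538 (iv D11838) (iv D9744) (iv F14562) D11836
def n15539 : Q := act 6 n11836
theorem D15539 : act 6 n11836 = n15539 := rfl
theorem F26985 : act 1 n15539 = n12862 := d10_1 D15539 (iv D12862) (iv D10347) F16636 D11836
theorem F26986 : act 3 n15539 = n15420 := d17_1 D15539 (iv D15420) (iv F20924)
def n15542 : Q := act 6 n11838
theorem D15542 : act 6 n11838 = n15542 := rfl
theorem F26990 : act 2 n15542 = n11839 := d14_1 D15542 (iv D11839) D11838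
def n15543 : Q := act 0 n11840
theorem D15543 : act 0 n11840 = n15543 := rfl
theorem F26991 : act 3 n15543 = n15381 := d2_2 (iv F20934) D15543 F26741
theorem F26992 : act 2 n15543 = n11840 := d21_0 F20934 (iv D11756) (iv D9640) F16651 D9640 D11756 (iv F20934) D15543
theorem F26993 : act 1 n11938 = n15543 := d6_5 F26992 (iv D11840) F14579 D9889 D11938
theorem F26994 : act 0 n15527 = n11938 := d0_9 F26993 (iv D15543) (iv D11840) (iv D9750) (iv D4723) (iv F7191) D9740 D11831 D15527
def n15544 : Q := act 4 n11840
theorem D15544 : act 4 n11840 = n15544 := rfl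
theorem F26996 : act 1 n15544 = n11842 := d8_1 D15544 (iv D11842) D11840
def n15545 : Q := act 5 n11840
theorem D15545 : act 5 n11840 = n15545 := rfl
theorem F26997 : act 3 n15545 = n15388 := d16_1 D15545 (iv D15388) (iv F20934)
def n15546 : Q := act 6 n11840
theorem D15546 : act 6 n11840 = n15546 := rfl
theorem F26998 : act 3 n15546 = n15389 := d17_1 D15546 (iv D15389) (iv F20934)
def n15547 : Q := act 4 n11841
theorem D15547 : act 4 n11841 = n15547 := rfl
theorem F26999 : act 0 n15547 = n11845 := d3_1 D15547 (iv D11845) (iv F20931)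
theorem F27000 : act 1 n15547 = n15387 := d8_1 D15547 (iv D15387) F20933
theorem F27001 : act 2 n15547 = n11845 := d12_1 D15547 (iv D11845) (iv F20932)
def n15548 : Q := act 5 n11841
theorem D15548 : act 5 n11841 = n15548 := rfl
theorem F27002 : act 0 n15548 = n11846 := d4_1 D15548 (iv D11846) (iv F20931)
theorem F27003 : act 2 n15548 = n11846 := d13_1 D15548 (iv D11846) (iv F20932)
theorem F27004 : act 3 n15548 = n11843 := d16_1 D15548 (iv D11843) D11841
def n15549 : Q := act 6 n11841
theorem D15549 : act 6 n11841 = n15549 := rfl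
theorem F27005 : act 0 n15549 = n11847 := d5_1 D15549 (iv D11847) (iv F20931)
theorem F27006 : act 2 n15549 = n11847 := d14_1 D15549 (iv D11847) (iv F20932)
theorem F27007 : act 3 n15549 = n11844 := d17_1 D15549 (iv D11844) D11841
def n15550 : Q := act 3 n11842
theorem D15550 : act 3 n11842 = n15550 := rfl
theorem F27008 : act 0 n15550 = n11848 := d2_1 D15550 (iv D11848) (iv F20935)
def n15551 : Q := act 5 n11842
theorem D15551 : act 5 n11842 = n15551 := rfl
theorem F27009 : act 0 n15551 = n11849 := d4_1 D15551 (iv D11849) (iv F20935)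
theorem F27010 : act 2 n15551 = n11943 := d13_1 D15551 (iv D11943) (iv F20936)
theorem F27011 : act 4 n15551 = n11843 := d18_1 D15551 (iv D11843) D11842
def n15552 : Q := act 6 n11842
theorem D15552 : act 6 n11842 = n15552 := rfl
theorem F27012 : act 0 n15552 = n11850 := d5_1 D15552 (iv D11850) (iv F20935)
theorem F27013 : act 2 n15552 = n11944 := d14_1 D15552 (iv D11944) (iv F20936)
theorem F27014 : act 4 n15552 = n11844 := d19_1 D15552 (iv D11844) D11842
def n15553 : Q := act 1 n11843
theorem D15553 : act 1 n11843 = n15553 := rfl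
def n15554 : Q := act 1 n11844
theorem D15554 : act 1 n11844 = n15554 := rfl
def n15555 : Q := act 3 n11845
theorem D15555 : act 3 n11845 = n15555 := rfl
theorem F27015 : act 1 n15555 = n11854 := d7_1 D15555 (iv D11854) (iv F20941)
theorem F27016 : act 4 n15555 = n11848 := d15_2 D11845 D15555 (iv D11848) (iv D9752) D9751
def n15556 : Q := act 5 n11845
theorem D15556 : act 5 n11845 = n15556 := rfl
theorem F27017 : act 4 n15556 = n11846 := d18_1 D15556 (iv D11846) D11845
def n15557 : Q := act 6 n11845
theorem D15557 : act 6 n11845 = n15557 := rfl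
theorem F27018 : act 4 n15557 = n11847 := d19_1 D15557 (iv D11847) D11845
def n15558 : Q := act 1 n11846
theorem D15558 : act 1 n11846 = n15558 := rfl
theorem F27019 : act 3 n15558 = n11851 := d7_2 (iv F20942) D15558 (iv D11851)
theorem F27020 : act 5 n15558 = n11856 := d9_2 D11846 D15558 (iv D11856) (iv D9756) (iv F14580)
def n15559 : Q := act 6 n11846
theorem D15559 : act 6 n11846 = n15559 := rfl
theorem F27021 : act 3 n15559 = n11852 := d17_1 D15559 (iv D11852) (iv F20942)
theorem F27022 : act 5 n15559 = n15549 := d22_2 D11846 D15559 (iv D15549) F20931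
def n15560 : Q := act 5 n11847
theorem D15560 : act 5 n11847 = n15560 := rfl
theorem F27023 : act 0 n15560 = n15559 := d4_1 D15560 F27022 F27005
theorem F27024 : act 2 n15560 = n15559 := d13_1 D15560 F27022 F27006
theorem F27025 : act 3 n15560 = n11853 := d16_1 D15560 (iv D11853) (iv F20943)
theorem F27026 : act 6 n15560 = n15548 := d20_2 D11847 D15560 (iv D15548) D15549 (iv F27022) (iv D15559) (iv D11846)
def n15561 : Q := act 2 n11848
theorem D15561 : act 2 n11848 = n15561 := rfl
def n15562 : Q := act 5 n11848
theorem D15562 : act 5 n11848 = n15562 := rfl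
theorem F27027 : act 3 n15562 = n11849 := d16_1 D15562 (iv D11849) D11848
def n15563 : Q := act 6 n11848
theorem D15563 : act 6 n11848 = n15563 := rfl
theorem F27028 : act 3 n15563 = n11850 := d17_1 D15563 (iv D11850) D11848
def n15564 : Q := act 1 n11849
theorem D15564 : act 1 n11849 = n15564 := rfl
theorem F27029 : act 4 n15564 = n11851 := d8_2 (iv F20946) D15564 (iv D11851)
theorem F27030 : act 5 n15564 = n11859 := d9_2 D11849 D15564 (iv D11859) (iv D9758) (iv F14581)
def n15565 : Q := act 6 n11849
theorem D15565 : act 6 n11849 = n15565 := rfl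
theorem F27031 : act 2 n15565 = n11951 := d14_1 D15565 (iv D11951) (iv F20945)
theorem F27032 : act 4 n15565 = n11852 := d19_1 D15565 (iv D11852) (iv F20946)
theorem F27033 : act 5 n15565 = n15552 := d22_2 D11849 D15565 (iv D15552) F20935
def n15566 : Q := act 5 n11850
theorem D15566 : act 5 n11850 = n15566 := rfl
theorem F27034 : act 0 n15566 = n15565 := d4_1 D15566 F27033 F27012
theorem F27035 : act 2 n15566 = n11952 := d13_1 D15566 (iv D11952) (iv F20947)
theorem F27036 : act 4 n15566 = n11853 := d18_1 D15566 (iv D11853) (iv F20948)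
theorem F27037 : act 6 n15566 = n15551 := d20_2 D11850 D15566 (iv D15551) D15552 (iv F27033) (iv D15565) (iv D11849)
def n15567 : Q := act 0 n11851
theorem D15567 : act 0 n11851 = n15567 := rfl
theorem F27038 : act 5 n15567 = n11860 := d4_2 (iv F20949) D15567 (iv D11860)
def n15568 : Q := act 2 n11851
theorem D15568 : act 2 n11851 = n15568 := rfl
theorem F27039 : act 1 n15568 = n11954 := d6_1 D15568 (iv D11954) (iv D9896) (iv F14583) D11851
theorem F27040 : act 5 n15568 = n11861 := d13_2 (iv F20949) D15568 (iv D11861)
def n15569 : Q := act 6 n11851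
theorem D15569 : act 6 n11851 = n15569 := rfl
def n15570 : Q := act 1 n11852
theorem D15570 : act 1 n11852 = n15570 := rfl
def n15571 : Q := act 1 n11853
theorem D15571 : act 1 n11853 = n15571 := rfl
def n15572 : Q := act 5 n11854
theorem D15572 : act 5 n11854 = n15572 := rfl
theorem F27041 : act 0 n15572 = n15416 := d4_1 D15572 (iv D15416) (iv F20955)
theorem F27042 : act 2 n15572 = n12878 := d13_1 D15572 (iv F25785) F25787
theorem F27043 : act 3 n15572 = n11855 := d16_1 D15572 (iv D11855) D11854
theorem F27044 : act 4 n15572 = n11858 := d18_1 D15572 (iv D11858) (iv F20956)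
theorem F27045 : act 6 n15572 = n12878 := d20_2 F25859 D15572 (iv F25785) F25786 D15416 F26781 (iv F25858)
def n15573 : Q := act 1 n11855
theorem D15573 : act 1 n11855 = n15573 := rfl
theorem F27046 : act 4 n15573 = n11856 := d8_2 (iv F20959) D15573 (iv D11856)
def n15574 : Q := act 0 n11856
theorem D15574 : act 0 n11856 = n15574 := rfl
theorem F27047 : act 3 n15574 = n11860 := d2_2 (iv F20961) D15574 (iv D11860)
def n15575 : Q := act 2 n11856
theorem D15575 : act 2 n11856 = n15575 := rfl
theorem F27048 : act 1 n15575 = n15401 := d6_1 D15575 (iv D15401) (iv D11764) (iv F14588) D11856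
def n15576 : Q := act 6 n11856
theorem D15576 : act 6 n11856 = n15576 := rfl
theorem F27049 : act 1 n15576 = n12872 := d10_1 D15576 (iv D12872) F18256 (iv F17476) D11856
theorem F27050 : act 3 n15576 = n11862 := d17_1 D15576 (iv D11862) (iv F20961)
def n15577 : Q := act 1 n11857
theorem D15577 : act 1 n11857 = n15577 := rfl
theorem F27051 : act 3 n15577 = n12840 := d7_2 (iv F20963) D15577 F22473
def n15578 : Q := act 1 n11858
theorem D15578 : act 1 n11858 = n15578 := rfl
theorem F27052 : act 3 n15578 = n11859 := d7_2 (iv F20967) D15578 (iv D11859)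
def n15579 : Q := act 0 n11859
theorem D15579 : act 0 n11859 = n15579 := rfl
theorem F27053 : act 4 n15579 = n11860 := d3_2 (iv F20969) D15579 (iv D11860)
def n15580 : Q := act 2 n11859
theorem D15580 : act 2 n11859 = n15580 := rfl
theorem F27054 : act 1 n15580 = n11864 := d6_1 D15580 (iv D11864) (iv D9761) (iv F14590) D11859
theorem F27055 : act 4 n15580 = n11861 := d12_2 (iv F20969) D15580 (iv D11861)
def n15581 : Q := act 6 n11859
theorem D15581 : act 6 n11859 = n15581 := rfl
theorem F27056 : act 1 n15581 = n12875 := d10_1 D15581 (iv D12875) F18257 (iv F17501) D11859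
theorem F27057 : act 4 n15581 = n11862 := d19_1 D15581 (iv D11862) (iv F20969)
def n15582 : Q := act 1 n11860
theorem D15582 : act 1 n11860 = n15582 := rfl
def n15583 : Q := act 2 n11860
theorem D15583 : act 2 n11860 = n15583 := rfl
theorem F27058 : act 0 n15583 = n11861 := d1_1 D15583 (iv D11861) D11860
def n15584 : Q := act 6 n11860
theorem D15584 : act 6 n11860 = n15584 := rfl
theorem F27059 : act 0 n15584 = n11862 := d5_1 D15584 (iv D11862) D11860
theorem F27060 : act 5 n15584 = n15569 := d22_2 F27038 D15584 (iv D15569) D15567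
def n15585 : Q := act 3 n11861
theorem D15585 : act 3 n11861 = n15585 := rfl
theorem F27061 : act 1 n15585 = n11866 := d7_1 D15585 (iv D11866) (iv F20970)
def n15586 : Q := act 6 n11861
theorem D15586 : act 6 n11861 = n15586 := rfl
theorem F27062 : act 1 n15586 = n13052 := d10_1 D15586 F22865 F18517 (iv F17490) (iv F20970)
theorem F27063 : act 2 n15586 = n11862 := d14_1 D15586 (iv D11862) D11861
def n15587 : Q := act 5 n11862
theorem D15587 : act 5 n11862 = n15587 := rfl
theorem F27064 : act 0 n15587 = n15569 := d4_1 D15587 (iv F27060) F27059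
theorem F27065 : act 6 n15587 = n15567 := d20_2 D11862 D15587 F27038 D15584 F27060 (iv D15569) F20949
def n15588 : Q := act 2 n11863
theorem D15588 : act 2 n11863 = n15588 := rfl
theorem F27068 : act 5 n15588 = n11975 := d13_2 (iv F20974) D15588 (iv D11975)
def n15589 : Q := act 3 n11864
theorem D15589 : act 3 n11864 = n15589 := rfl
theorem F27070 : act 5 n15589 = n11976 := d16_2 (iv F20977) D15589 (iv D11976)
theorem F27071 : act 6 n15589 = n13069 := d17_2 (iv F20978) D15589 (iv D13069)
def n15590 : Q := act 1 n11865
theorem D15590 : act 1 n11865 = n15590 := rfl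
def n15591 : Q := act 4 n11866
theorem D15591 : act 4 n11866 = n15591 := rfl
theorem F27072 : act 5 n15591 = n11984 := d18_2 (iv F20982) D15591 (iv D11984)
theorem F27073 : act 6 n15591 = n13073 := d19_2 (iv F20983) D15591 (iv D13073)
def n15592 : Q := act 0 n11867
theorem D15592 : act 0 n11867 = n15592 := rfl
theorem F27074 : act 1 n15592 = n11876 := d0_2 D11867 D15592 (iv D11876) (iv D9856) (iv D4863) (iv D2344) (iv F3697) D4861 D9851
theorem F27075 : act 3 n15592 = n11876 := d2_2 (iv F20984) D15592 (iv D11876)
def n15593 : Q := act 2 n11867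
theorem D15593 : act 2 n11867 = n15593 := rfl
theorem F27076 : act 1 n15593 = n15593 := d6_1 D15593 (iv D15593) (iv D11867) F17524 D11867
def n15595 : Q := act 5 n11867
theorem D15595 : act 5 n11867 = n15595 := rfl
theorem F27078 : act 3 n15595 = n11879 := d16_1 D15595 (iv D11879) (iv F20984)
def n15596 : Q := act 6 n11867
theorem D15596 : act 6 n11867 = n15596 := rfl
theorem F27079 : act 3 n15596 = n11880 := d17_1 D15596 (iv D11880) (iv F20984)
def n15597 : Q := act 3 n11868
theorem D15597 : act 3 n11868 = n15597 := rfl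
theorem F27080 : act 0 n15597 = n11871 := d2_1 D15597 (iv D11871) (iv F20985)
theorem F27081 : act 4 n15597 = n11881 := d15_2 D11868 D15597 (iv D11881) (iv D9857) (iv F17525)
def n15598 : Q := act 5 n11868
theorem D15598 : act 5 n11868 = n15598 := rfl
theorem F27084 : act 4 n15598 = n11869 := d18_1 D15598 (iv D11869) D11868
def n15599 : Q := act 6 n11868
theorem D15599 : act 6 n11868 = n15599 := rfl
theorem F27085 : act 0 n15599 = n11873 := d5_1 D15599 (iv D11873) (iv F20985)
def n15601 : Q := act 1 n11870
theorem D15601 : act 1 n11870 = n15601 := rfl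
theorem F27089 : act 3 n15601 = n11885 := d7_2 (iv F20992) D15601 (iv D11885)
def n15602 : Q := act 2 n11871
theorem D15602 : act 2 n11871 = n15602 := rfl
theorem F27090 : act 1 n15602 = n14236 := d6_1 D15602 (iv D14236) F19757 (iv F17534) (iv F20993)
theorem F27091 : act 4 n15602 = n11886 := d12_2 (iv F20994) D15602 (iv D11886)
def n15605 : Q := act 6 n11872
theorem D15605 : act 6 n11872 = n15605 := rfl
theorem F27097 : act 4 n15605 = n11874 := d19_1 D15605 (iv D11874) (iv F20996)
theorem F27098 : act 5 n15605 = n15599 := d22_2 D11872 D15605 (iv D15599) F20985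
def n15606 : Q := act 5 n11873
theorem D15606 : act 5 n11873 = n15606 := rfl
theorem F27102 : act 6 n15606 = n15598 := d20_2 D11873 D15606 (iv D15598) D15599 (iv F27098) (iv D15605) (iv D11872)
def n15607 : Q := act 1 n11874
theorem D15607 : act 1 n11874 = n15607 := rfl
theorem F27103 : act 3 n15607 = n11892 := d7_2 (iv F21000) D15607 (iv D11892)
def n15608 : Q := act 1 n11875
theorem D15608 : act 1 n11875 = n15608 := rfl
theorem F27104 : act 3 n15608 = n11896 := d7_2 (iv F21004) D15608 (iv D11896)
def n15609 : Q := act 4 n11876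
theorem D15609 : act 4 n11876 = n15609 := rfl
theorem F27105 : act 0 n15609 = n11878 := d3_1 D15609 (iv D11878) D11876
def n15610 : Q := act 5 n11876
theorem D15610 : act 5 n11876 = n15610 := rfl
theorem F27106 : act 0 n15610 = n11879 := d4_1 D15610 (iv D11879) D11876
def n15611 : Q := act 6 n11876
theorem D15611 : act 6 n11876 = n15611 := rfl
theorem F27107 : act 0 n15611 = n11880 := d5_1 D15611 (iv D11880) D11876
def n15612 : Q := act 3 n11877
theorem D15612 : act 3 n11877 = n15612 := rfl
theorem F27108 : act 0 n15612 = n15348 := d2_1 D15612 (iv F26825) F26853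
theorem F27109 : act 1 n15612 = n15323 := d7_1 D15612 (iv F26850) (iv F26852)
def n15613 : Q := act 4 n11877
theorem D15613 : act 4 n11877 = n15613 := rfl
theorem F27110 : act 2 n15613 = n11878 := d12_1 D15613 (iv D11878) D11877
def n15614 : Q := act 5 n11877
theorem D15614 : act 5 n11877 = n15614 := rfl
theorem F27111 : act 2 n15614 = n11879 := d13_1 D15614 (iv D11879) D11877
def n15615 : Q := act 6 n11877
theorem D15615 : act 6 n11877 = n15615 := rfl
theorem F27112 : act 2 n15615 = n11880 := d14_1 D15615 (iv D11880) D11877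
def n15617 : Q := act 5 n11878
theorem D15617 : act 5 n11878 = n15617 := rfl
theorem F27114 : act 4 n15617 = n11879 := d18_1 D15617 (iv D11879) D11878
def n15618 : Q := act 6 n11878
theorem D15618 : act 6 n11878 = n15618 := rfl
theorem F27115 : act 4 n15618 = n11880 := d19_1 D15618 (iv D11880) D11878
def n15619 : Q := act 1 n11879
theorem D15619 : act 1 n11879 = n15619 := rfl
theorem F27116 : act 5 n15619 = n11884 := d9_2 D11879 D15619 (iv D11884) (iv D9858) D9856
def n15620 : Q := act 6 n11879
theorem D15620 : act 6 n11879 = n15620 := rfl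
theorem F27117 : act 5 n15620 = n15611 := d22_2 D11879 D15620 (iv D15611) (iv D11876)
def n15621 : Q := act 1 n11880
theorem D15621 : act 1 n11880 = n15621 := rfl
theorem F27118 : act 6 n15621 = n11885 := d10_2 D11880 D15621 (iv D11885) (iv D9859) D9856
def n15622 : Q := act 5 n11880
theorem D15622 : act 5 n11880 = n15622 := rfl
theorem F27119 : act 0 n15622 = n15620 := d4_1 D15622 F27117 F27107
theorem F27120 : act 6 n15622 = n15610 := d20_2 D11880 D15622 (iv D15610) D15611 (iv F27117) (iv D15620) (iv D11879)
def n15623 : Q := act 2 n11881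
theorem D15623 : act 2 n11881 = n15623 := rfl
theorem F27121 : act 0 n15623 = n11886 := d1_1 D15623 (iv D11886) (iv F21007)
def n15624 : Q := act 5 n11881
theorem D15624 : act 5 n11881 = n15624 := rfl
theorem F27123 : act 3 n15624 = n11882 := d16_1 D15624 (iv D11882) D11881
def n15625 : Q := act 6 n11881
theorem D15625 : act 6 n11881 = n15625 := rfl
theorem F27124 : act 0 n15625 = n11888 := d5_1 D15625 (iv D11888) (iv F21007)
def n15627 : Q := act 1 n11883
theorem D15627 : act 1 n11883 = n15627 := rfl
theorem F27127 : act 4 n15627 = n11885 := d8_2 (iv F21011) D15627 (iv D11885)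
def n15630 : Q := act 6 n11884
theorem D15630 : act 6 n11884 = n15630 := rfl
def n15631 : Q := act 0 n11885
theorem D15631 : act 0 n11885 = n15631 := rfl
def n15632 : Q := act 2 n11885
theorem D15632 : act 2 n11885 = n15632 := rfl
def n15633 : Q := act 5 n11885
theorem D15633 : act 5 n11885 = n15633 := rfl
def n15634 : Q := act 1 n11886
theorem D15634 : act 1 n11886 = n15634 := rfl
theorem F27131 : act 2 n15634 = n11897 := d6_2 D11886 D15634 (iv D11897) (iv D9866) (iv F17538)
theorem F27132 : act 4 n15634 = n14236 := d8_2 F27091 D15634 (iv F27090)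
def n15635 : Q := act 3 n11886
theorem D15635 : act 3 n11886 = n15635 := rfl
def n15636 : Q := act 5 n11886
theorem D15636 : act 5 n11886 = n15636 := rfl
def n15637 : Q := act 6 n11886
theorem D15637 : act 6 n11886 = n15637 := rfl
def n15638 : Q := act 6 n11887
theorem D15638 : act 6 n11887 = n15638 := rfl
theorem F27135 : act 3 n15638 = n11889 := d17_1 D15638 (iv D11889) (iv F21012)
theorem F27136 : act 5 n15638 = n15625 := d22_2 D11887 D15638 (iv D15625) F21007
def n15639 : Q := act 1 n11888
theorem D15639 : act 1 n11888 = n15639 := rfl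
theorem F27137 : act 3 n15639 = n11890 := d7_2 (iv F21013) D15639 (iv D11890)
theorem F27138 : act 6 n15639 = n11899 := d10_2 D11888 D15639 (iv D11899) (iv D9867) (iv F17538)
def n15640 : Q := act 5 n11888
theorem D15640 : act 5 n11888 = n15640 := rfl
theorem F27141 : act 6 n15640 = n15624 := d20_2 D11888 D15640 (iv D15624) D15625 (iv F27136) (iv D15638) (iv D11887)
def n15641 : Q := act 1 n11889
theorem D15641 : act 1 n11889 = n15641 := rfl
theorem F27142 : act 4 n15641 = n11892 := d8_2 (iv F21014) D15641 (iv D11892)
def n15642 : Q := act 0 n11890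
theorem D15642 : act 0 n11890 = n15642 := rfl
theorem F27143 : act 4 n15642 = n11893 := d3_2 (iv F21016) D15642 (iv D11893)
theorem F27144 : act 6 n15642 = n11900 := d5_2 (iv F21017) D15642 (iv D11900)
def n15643 : Q := act 2 n11890
theorem D15643 : act 2 n11890 = n15643 := rfl
theorem F27145 : act 4 n15643 = n11894 := d12_2 (iv F21016) D15643 (iv D11894)
theorem F27146 : act 6 n15643 = n11901 := d14_2 (iv F21017) D15643 (iv D11901)
def n15644 : Q := act 5 n11890
theorem D15644 : act 5 n11890 = n15644 := rfl
theorem F27147 : act 4 n15644 = n11895 := d18_1 D15644 (iv D11895) (iv F21016)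
def n15645 : Q := act 1 n11891
theorem D15645 : act 1 n11891 = n15645 := rfl
theorem F27148 : act 4 n15645 = n11896 := d8_2 (iv F21019) D15645 (iv D11896)
def n15646 : Q := act 0 n11892
theorem D15646 : act 0 n11892 = n15646 := rfl
def n15647 : Q := act 2 n11892
theorem D15647 : act 2 n11892 = n15647 := rfl
def n15648 : Q := act 5 n11892
theorem D15648 : act 5 n11892 = n15648 := rfl
theorem F27149 : act 1 n15648 = n15633 := d9_1 D15648 (iv D15633) (iv D11885) (iv F17541) D11892
def n15649 : Q := act 1 n11893
theorem D15649 : act 1 n11893 = n15649 := rfl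
def n15650 : Q := act 2 n11893
theorem D15650 : act 2 n11893 = n15650 := rfl
theorem F27150 : act 0 n15650 = n11894 := d1_1 D15650 (iv D11894) D11893
theorem F27151 : act 6 n15650 = n11905 := d14_2 (iv F21021) D15650 (iv D11905)
def n15651 : Q := act 3 n11894
theorem D15651 : act 3 n11894 = n15651 := rfl
theorem F27152 : act 6 n15651 = n11907 := d17_2 (iv F21022) D15651 (iv D11907)
def n15652 : Q := act 5 n11894
theorem D15652 : act 5 n11894 = n15652 := rfl
theorem F27153 : act 2 n15652 = n11895 := d13_1 D15652 (iv D11895) D11894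
def n15653 : Q := act 1 n11895
theorem D15653 : act 1 n11895 = n15653 := rfl
theorem F27154 : act 5 n15653 = n11896 := d9_2 D11895 D15653 (iv D11896) (iv D9865) D9864
def n15654 : Q := act 0 n11896
theorem D15654 : act 0 n11896 = n15654 := rfl
def n15655 : Q := act 2 n11896
theorem D15655 : act 2 n11896 = n15655 := rfl
def n15656 : Q := act 6 n11896
theorem D15656 : act 6 n11896 = n15656 := rfl
theorem F27155 : act 1 n15656 = n15630 := d10_1 D15656 (iv D15630) (iv D11884) (iv F17544) D11896
def n15657 : Q := act 0 n11897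
theorem D15657 : act 0 n11897 = n15657 := rfl
theorem F27156 : act 3 n15657 = n12007 := d2_2 (iv F21023) D15657 (iv D12007)
theorem F27157 : act 4 n15657 = n14231 := d3_2 (iv F21024) D15657 F24875
def n15659 : Q := act 6 n11897
theorem D15659 : act 6 n11897 = n15659 := rfl
theorem F27161 : act 3 n15659 = n12009 := d17_1 D15659 (iv D12009) (iv F21023)
theorem F27162 : act 4 n15659 = n14238 := d19_1 D15659 (iv D14238) (iv F21024)
def n15660 : Q := act 1 n11898
theorem D15660 : act 1 n11898 = n15660 := rfl
theorem F27163 : act 3 n15660 = n11903 := d7_2 (iv F21027) D15660 (iv D11903)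
theorem F27164 : act 4 n15660 = n14247 := d8_2 (iv F21028) D15660 (iv D14247)
def n15661 : Q := act 0 n11899
theorem D15661 : act 0 n11899 = n15661 := rfl
theorem F27165 : act 3 n15661 = n11900 := d2_2 (iv F21030) D15661 (iv D11900)
def n15662 : Q := act 2 n11899
theorem D15662 : act 2 n11899 = n15662 := rfl
def n15663 : Q := act 5 n11899
theorem D15663 : act 5 n11899 = n15663 := rfl
theorem F27166 : act 3 n15663 = n11902 := d16_1 D15663 (iv D11902) (iv F21030)
def n15664 : Q := act 1 n11900
theorem D15664 : act 1 n11900 = n15664 := rfl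
theorem F27167 : act 4 n15664 = n11904 := d8_2 (iv F21031) D15664 (iv D11904)
def n15665 : Q := act 2 n11900
theorem D15665 : act 2 n11900 = n15665 := rfl
theorem F27168 : act 0 n15665 = n11901 := d1_1 D15665 (iv D11901) D11900
theorem F27169 : act 4 n15665 = n11905 := d12_2 (iv F21031) D15665 (iv D11905)
def n15666 : Q := act 5 n11900
theorem D15666 : act 5 n11900 = n15666 := rfl
theorem F27170 : act 0 n15666 = n11902 := d4_1 D15666 (iv D11902) D11900
theorem F27171 : act 4 n15666 = n11906 := d18_1 D15666 (iv D11906) (iv F21031)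
theorem F27172 : act 6 n15666 = n15644 := d22_1 D15666 (iv D15644) F21017 D11900
def n15667 : Q := act 3 n11901
theorem D15667 : act 3 n11901 = n15667 := rfl
theorem F27173 : act 1 n15667 = n11915 := d7_1 D15667 (iv D11915) (iv F21032)
def n15668 : Q := act 5 n11901
theorem D15668 : act 5 n11901 = n15668 := rfl
theorem F27174 : act 2 n15668 = n11902 := d13_1 D15668 (iv D11902) D11901
theorem F27175 : act 4 n15668 = n11908 := d18_1 D15668 (iv D11908) (iv F21033)
def n15669 : Q := act 1 n11902
theorem D15669 : act 1 n11902 = n15669 := rfl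
theorem F27176 : act 4 n15669 = n11909 := d8_2 (iv F21034) D15669 (iv D11909)
theorem F27177 : act 5 n15669 = n11903 := d9_2 D11902 D15669 (iv D11903) (iv D9869) D9868
def n15670 : Q := act 6 n11902
theorem D15670 : act 6 n11902 = n15670 := rfl
theorem F27178 : act 0 n15670 = n15644 := d5_1 D15670 (iv F27172) F27170
theorem F27179 : act 4 n15670 = n11910 := d19_1 D15670 (iv D11910) (iv F21034)
theorem F27180 : act 5 n15670 = n15642 := d20_1 D15670 F27144 D15666 F27172 (iv D15644) F21017 D11902
def n15671 : Q := act 0 n11903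
theorem D15671 : act 0 n11903 = n15671 := rfl
theorem F27181 : act 4 n15671 = n11911 := d3_2 (iv F21035) D15671 (iv D11911)
def n15672 : Q := act 2 n11903
theorem D15672 : act 2 n11903 = n15672 := rfl
theorem F27182 : act 1 n15672 = n11917 := d6_1 D15672 (iv D11917) (iv D9877) (iv F17552) D11903
theorem F27183 : act 4 n15672 = n11912 := d12_2 (iv F21035) D15672 (iv D11912)
def n15673 : Q := act 6 n11903
theorem D15673 : act 6 n11903 = n15673 := rfl
theorem F27184 : act 1 n15673 = n12009 := d10_1 D15673 (iv D12009) (iv D9930) (iv F17554) D11903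
theorem F27185 : act 4 n15673 = n11913 := d19_1 D15673 (iv D11913) (iv F21035)
def n15674 : Q := act 0 n11904
theorem D15674 : act 0 n11904 = n15674 := rfl
def n15675 : Q := act 2 n11904
theorem D15675 : act 2 n11904 = n15675 := rfl
def n15676 : Q := act 5 n11904
theorem D15676 : act 5 n11904 = n15676 := rfl
def n15677 : Q := act 6 n11904
theorem D15677 : act 6 n11904 = n15677 := rfl
def n15678 : Q := act 1 n11905
theorem D15678 : act 1 n11905 = n15678 := rfl
def n15679 : Q := act 3 n11905
theorem D15679 : act 3 n11905 = n15679 := rfl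
theorem F27186 : act 0 n15679 = n11907 := d2_1 D15679 (iv D11907) (iv F21036)
def n15680 : Q := act 5 n11905
theorem D15680 : act 5 n11905 = n15680 := rfl
theorem F27187 : act 0 n15680 = n11908 := d4_1 D15680 (iv D11908) (iv F21036)
theorem F27188 : act 2 n15680 = n11906 := d13_1 D15680 (iv D11906) D11905
theorem F27189 : act 6 n15680 = n15652 := d22_1 D15680 (iv D15652) F21022 (iv F21036)
def n15681 : Q := act 1 n11906
theorem D15681 : act 1 n11906 = n15681 := rfl
def n15682 : Q := act 2 n11907
theorem D15682 : act 2 n11907 = n15682 := rfl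
def n15683 : Q := act 4 n11907
theorem D15683 : act 4 n11907 = n15683 := rfl
theorem F27190 : act 1 n15683 = n11923 := d8_1 D15683 (iv D11923) (iv F21039)
def n15684 : Q := act 5 n11907
theorem D15684 : act 5 n11907 = n15684 := rfl
theorem F27191 : act 3 n15684 = n11908 := d16_1 D15684 (iv D11908) D11907
def n15685 : Q := act 1 n11908
theorem D15685 : act 1 n11908 = n15685 := rfl
theorem F27192 : act 5 n15685 = n11925 := d9_2 D11908 D15685 (iv D11925) (iv D9881) (iv F17555)
def n15686 : Q := act 6 n11908
theorem D15686 : act 6 n11908 = n15686 := rfl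
theorem F27193 : act 0 n15686 = n15652 := d5_1 D15686 (iv F27189) F27187
theorem F27194 : act 2 n15686 = n11910 := d14_1 D15686 (iv D11910) (iv F21040)
theorem F27195 : act 5 n15686 = n15650 := d20_1 D15686 F27151 D15680 F27189 (iv D15652) F21022 D11908
def n15687 : Q := act 0 n11909
theorem D15687 : act 0 n11909 = n15687 := rfl
theorem F27196 : act 3 n15687 = n14253 := d2_2 (iv F21041) D15687 F24899
theorem F27197 : act 5 n15687 = n11911 := d4_2 (iv F21042) D15687 (iv D11911)
def n15688 : Q := act 2 n11909
theorem D15688 : act 2 n11909 = n15688 := rfl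
theorem F27198 : act 5 n15688 = n11912 := d13_2 (iv F21042) D15688 (iv D11912)
def n15689 : Q := act 6 n11909
theorem D15689 : act 6 n11909 = n15689 := rfl
theorem F27199 : act 3 n15689 = n14256 := d17_1 D15689 (iv D14256) (iv F21041)
def n15690 : Q := act 1 n11910
theorem D15690 : act 1 n11910 = n15690 := rfl
def n15691 : Q := act 1 n11911
theorem D15691 : act 1 n11911 = n15691 := rfl
theorem F27200 : act 3 n15691 = n14251 := d7_2 (iv F21045) D15691 (iv D14251)
def n15692 : Q := act 2 n11911
theorem D15692 : act 2 n11911 = n15692 := rfl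
theorem F27201 : act 0 n15692 = n11912 := d1_1 D15692 (iv D11912) D11911
def n15693 : Q := act 6 n11911
theorem D15693 : act 6 n11911 = n15693 := rfl
theorem F27202 : act 0 n15693 = n11913 := d5_1 D15693 (iv D11913) D11911
theorem F27203 : act 3 n15693 = n14243 := d17_1 D15693 F24891 (iv F21045)
theorem F27204 : act 5 n15693 = n15689 := d22_2 F27197 D15693 (iv D15689) D15687
def n15694 : Q := act 3 n11912
theorem D15694 : act 3 n11912 = n15694 := rfl
theorem F27205 : act 1 n15694 = n11926 := d7_1 D15694 (iv D11926) (iv F21046)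
def n15695 : Q := act 6 n11912
theorem D15695 : act 6 n11912 = n15695 := rfl
theorem F27206 : act 2 n15695 = n11913 := d14_1 D15695 (iv D11913) D11912
def n15696 : Q := act 5 n11913
theorem D15696 : act 5 n11913 = n15696 := rfl
theorem F27207 : act 0 n15696 = n15689 := d4_1 D15696 (iv F27204) F27202
theorem F27208 : act 3 n15696 = n14245 := d16_1 D15696 (iv D14245) (iv F21048)
theorem F27209 : act 6 n15696 = n15687 := d20_2 D11913 D15696 F27197 D15693 F27204 (iv D15689) F21042
def n15697 : Q := act 1 n11914
theorem D15697 : act 1 n11914 = n15697 := rfl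
theorem F27210 : act 4 n15697 = n11920 := d8_2 (iv F21050) D15697 (iv D11920)
def n15698 : Q := act 3 n11914
theorem D15698 : act 3 n11914 = n15698 := rfl
theorem F27211 : act 0 n15698 = n11915 := d2_1 D15698 (iv D11915) (iv F21049)
def n15699 : Q := act 4 n11915
theorem D15699 : act 4 n11915 = n15699 := rfl
theorem F27212 : act 3 n15699 = n11923 := d15_1 D15699 (iv D11923) (iv D9880) (iv F17559) D11915
def n15700 : Q := act 5 n11915
theorem D15700 : act 5 n11915 = n15700 := rfl
theorem F27213 : act 2 n15700 = n15589 := d13_1 D15700 F27070 F21133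
theorem F27214 : act 3 n15700 = n11916 := d16_1 D15700 (iv D11916) D11915
def n15701 : Q := act 1 n11916
theorem D15701 : act 1 n11916 = n15701 := rfl
theorem F27215 : act 4 n15701 = n11925 := d8_2 (iv F21052) D15701 (iv D11925)
def n15703 : Q := act 6 n11917
theorem D15703 : act 6 n11917 = n15703 := rfl
theorem F27217 : act 4 n15703 = n11927 := d19_1 D15703 (iv D11927) (iv F21053)
theorem F27218 : act 5 n15703 = n12924 := d22_2 F22644 D15703 (iv D12924) (iv F22642)
def n15704 : Q := act 1 n11919
theorem D15704 : act 1 n11919 = n15704 := rfl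
theorem F27219 : act 2 n15704 = n11920 := d6_2 D11919 D15704 (iv D11920) (iv D9879) D9878
def n15705 : Q := act 3 n11919
theorem D15705 : act 3 n11919 = n15705 := rfl
theorem F27220 : act 6 n15705 = n14266 := d17_2 (iv F21058) D15705 F24921
def n15706 : Q := act 0 n11920
theorem D15706 : act 0 n11920 = n15706 := rfl
def n15707 : Q := act 3 n11920
theorem D15707 : act 3 n11920 = n15707 := rfl
theorem F27221 : act 1 n15707 = n11921 := d7_1 D15707 (iv D11921) D11920
def n15708 : Q := act 5 n11920
theorem D15708 : act 5 n11920 = n15708 := rfl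
def n15709 : Q := act 6 n11920
theorem D15709 : act 6 n11920 = n15709 := rfl
def n15710 : Q := act 4 n11921
theorem D15710 : act 4 n11921 = n15710 := rfl
theorem F27222 : act 0 n15710 = n11923 := d3_1 D15710 (iv D11923) (iv F21059)
theorem F27223 : act 2 n15710 = n13073 := d12_1 D15710 (iv D13073) (iv F21060)
def n15711 : Q := act 1 n11922
theorem D15711 : act 1 n11922 = n15711 := rfl
theorem F27224 : act 3 n15711 = n13072 := d7_2 (iv F21062) D15711 (iv D13072)
def n15712 : Q := act 4 n11922
theorem D15712 : act 4 n11922 = n15712 := rfl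
theorem F27225 : act 0 n15712 = n13073 := d3_1 D15712 (iv D13073) (iv F21061)
theorem F27226 : act 2 n15712 = n11923 := d12_1 D15712 (iv D11923) D11922
def n15713 : Q := act 5 n11923
theorem D15713 : act 5 n11923 = n15713 := rfl
theorem F27227 : act 4 n15713 = n11924 := d18_1 D15713 (iv D11924) D11923
def n15714 : Q := act 1 n11924
theorem D15714 : act 1 n11924 = n15714 := rfl
theorem F27228 : act 3 n15714 = n11925 := d7_2 (iv F21063) D15714 (iv D11925)
def n15715 : Q := act 0 n11925
theorem D15715 : act 0 n11925 = n15715 := rfl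
def n15716 : Q := act 6 n11925
theorem D15716 : act 6 n11925 = n15716 := rfl
def n15717 : Q := act 4 n11926
theorem D15717 : act 4 n11926 = n15717 := rfl
def n15718 : Q := act 6 n11926
theorem D15718 : act 6 n11926 = n15718 := rfl
theorem F27229 : act 3 n15718 = n11927 := d17_1 D15718 (iv D11927) D11926
theorem F27230 : act 5 n15718 = n12921 := d22_2 F22640 D15718 (iv D12921) (iv F22639)
def n15719 : Q := act 1 n11927
theorem D15719 : act 1 n11927 = n15719 := rfl
theorem F27231 : act 2 n15719 = n12006 := d6_2 (iv F21064) D15719 (iv D12006) F17648 (iv F17568)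
def n15720 : Q := act 0 n11928
theorem D15720 : act 0 n11928 = n15720 := rfl
theorem F27232 : act 1 n15720 = n11937 := d0_2 D11928 D15720 (iv D11937) (iv D9889) (iv D4901) (iv D2361) (iv F3722) D4899 D9884
theorem F27233 : act 3 n15720 = n11937 := d2_2 (iv F21066) D15720 (iv D11937)
def n15721 : Q := act 2 n11928
theorem D15721 : act 2 n11928 = n15721 := rfl
theorem F27234 : act 1 n15721 = n15721 := d6_1 D15721 (iv D15721) (iv D11928) F17571 D11928
def n15723 : Q := act 5 n11928
theorem D15723 : act 5 n11928 = n15723 := rfl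
theorem F27236 : act 3 n15723 = n11940 := d16_1 D15723 (iv D11940) (iv F21066)
def n15724 : Q := act 6 n11928
theorem D15724 : act 6 n11928 = n15724 := rfl
theorem F27237 : act 3 n15724 = n11941 := d17_1 D15724 (iv D11941) (iv F21066)
def n15725 : Q := act 3 n11929
theorem D15725 : act 3 n11929 = n15725 := rfl
theorem F27239 : act 4 n15725 = n11942 := d15_2 D11929 D15725 (iv D11942) (iv D9890) (iv F17572)
def n15727 : Q := act 6 n11929
theorem D15727 : act 6 n11929 = n15727 := rfl
def n15728 : Q := act 1 n11930
theorem D15728 : act 1 n11930 = n15728 := rfl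
theorem F27246 : act 3 n15728 = n11945 := d7_2 (iv F21071) D15728 (iv D11945)
def n15730 : Q := act 2 n11932
theorem D15730 : act 2 n11932 = n15730 := rfl
theorem F27248 : act 1 n15730 = n14287 := d6_1 D15730 (iv D14287) F19790 (iv F17581) (iv F21075)
theorem F27249 : act 4 n15730 = n11947 := d12_2 (iv F21076) D15730 (iv D11947)
def n15731 : Q := act 5 n11932
theorem D15731 : act 5 n11932 = n15731 := rfl
theorem F27251 : act 4 n15731 = n11948 := d18_1 D15731 (iv D11948) (iv F21076)
def n15732 : Q := act 6 n11932
theorem D15732 : act 6 n11932 = n15732 := rfl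
theorem F27252 : act 3 n15732 = n11934 := d17_1 D15732 (iv D11934) D11932
theorem F27253 : act 4 n15732 = n11949 := d19_1 D15732 (iv D11949) (iv F21076)
def n15733 : Q := act 6 n11933
theorem D15733 : act 6 n11933 = n15733 := rfl
theorem F27256 : act 5 n15733 = n15727 := d22_2 D11933 D15733 (iv D15727) F21067
def n15734 : Q := act 5 n11934
theorem D15734 : act 5 n11934 = n15734 := rfl
theorem F27259 : act 4 n15734 = n11936 := d18_1 D15734 (iv D11936) (iv F21080)
def n15735 : Q := act 1 n11935
theorem D15735 : act 1 n11935 = n15735 := rfl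
theorem F27261 : act 3 n15735 = n11956 := d7_2 (iv F21082) D15735 (iv D11956)
def n15736 : Q := act 1 n11936
theorem D15736 : act 1 n11936 = n15736 := rfl
theorem F27262 : act 3 n15736 = n11957 := d7_2 (iv F21086) D15736 (iv D11957)
def n15737 : Q := act 4 n11937
theorem D15737 : act 4 n11937 = n15737 := rfl
theorem F27263 : act 0 n15737 = n11939 := d3_1 D15737 (iv D11939) D11937
def n15738 : Q := act 5 n11937
theorem D15738 : act 5 n11937 = n15738 := rfl
theorem F27264 : act 0 n15738 = n11940 := d4_1 D15738 (iv D11940) D11937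
def n15739 : Q := act 6 n11937
theorem D15739 : act 6 n11937 = n15739 := rfl
theorem F27265 : act 0 n15739 = n11941 := d5_1 D15739 (iv D11941) D11937
def n15740 : Q := act 3 n11938
theorem D15740 : act 3 n11938 = n15740 := rfl
theorem F27266 : act 0 n15740 = n15406 := d2_1 D15740 (iv F26966) F26994
theorem F27267 : act 1 n15740 = n15381 := d7_1 D15740 (iv F26991) (iv F26993)
def n15741 : Q := act 4 n11938
theorem D15741 : act 4 n11938 = n15741 := rfl
theorem F27268 : act 2 n15741 = n11939 := d12_1 D15741 (iv D11939) D11938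
def n15742 : Q := act 5 n11938
theorem D15742 : act 5 n11938 = n15742 := rfl
theorem F27269 : act 2 n15742 = n11940 := d13_1 D15742 (iv D11940) D11938
def n15743 : Q := act 6 n11938
theorem D15743 : act 6 n11938 = n15743 := rfl
theorem F27270 : act 2 n15743 = n11941 := d14_1 D15743 (iv D11941) D11938
def n15744 : Q := act 3 n11939
theorem D15744 : act 3 n11939 = n15744 := rfl
theorem F27271 : act 1 n15744 = n11942 := d7_1 D15744 (iv D11942) (iv F21088)
def n15745 : Q := act 5 n11939
theorem D15745 : act 5 n11939 = n15745 := rfl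
theorem F27272 : act 4 n15745 = n11940 := d18_1 D15745 (iv D11940) D11939
def n15746 : Q := act 6 n11939
theorem D15746 : act 6 n11939 = n15746 := rfl
def n15747 : Q := act 1 n11940
theorem D15747 : act 1 n11940 = n15747 := rfl
theorem F27274 : act 5 n15747 = n11945 := d9_2 D11940 D15747 (iv D11945) (iv D9891) D9889
def n15748 : Q := act 6 n11940
theorem D15748 : act 6 n11940 = n15748 := rfl
theorem F27275 : act 5 n15748 = n15739 := d22_2 D11940 D15748 (iv D15739) (iv D11937)
def n15750 : Q := act 5 n11941
theorem D15750 : act 5 n11941 = n15750 := rfl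
theorem F27277 : act 0 n15750 = n15748 := d4_1 D15750 F27275 F27265
theorem F27278 : act 6 n15750 = n15738 := d20_2 D11941 D15750 (iv D15738) D15739 (iv F27275) (iv D15748) (iv D11940)
def n15751 : Q := act 2 n11942
theorem D15751 : act 2 n11942 = n15751 := rfl
theorem F27279 : act 0 n15751 = n11947 := d1_1 D15751 (iv D11947) (iv F21089)
def n15753 : Q := act 6 n11942
theorem D15753 : act 6 n11942 = n15753 := rfl
def n15754 : Q := act 1 n11943
theorem D15754 : act 1 n11943 = n15754 := rfl
theorem F27284 : act 4 n15754 = n11945 := d8_2 (iv F21091) D15754 (iv D11945)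
def n15755 : Q := act 1 n11944
theorem D15755 : act 1 n11944 = n15755 := rfl
theorem F27285 : act 4 n15755 = n11946 := d8_2 (iv F21093) D15755 (iv D11946)
def n15756 : Q := act 0 n11945
theorem D15756 : act 0 n11945 = n15756 := rfl
def n15757 : Q := act 2 n11945
theorem D15757 : act 2 n11945 = n15757 := rfl
def n15758 : Q := act 6 n11945
theorem D15758 : act 6 n11945 = n15758 := rfl
def n15761 : Q := act 5 n11946
theorem D15761 : act 5 n11946 = n15761 := rfl
def n15762 : Q := act 1 n11947
theorem D15762 : act 1 n11947 = n15762 := rfl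
theorem F27286 : act 2 n15762 = n11958 := d6_2 D11947 D15762 (iv D11958) (iv D9899) (iv F17585)
theorem F27287 : act 4 n15762 = n14287 := d8_2 F27249 D15762 (iv F27248)
def n15763 : Q := act 3 n11947
theorem D15763 : act 3 n11947 = n15763 := rfl
def n15764 : Q := act 5 n11947
theorem D15764 : act 5 n11947 = n15764 := rfl
def n15765 : Q := act 6 n11947
theorem D15765 : act 6 n11947 = n15765 := rfl
def n15766 : Q := act 1 n11948
theorem D15766 : act 1 n11948 = n15766 := rfl
theorem F27290 : act 3 n15766 = n11950 := d7_2 (iv F21094) D15766 (iv D11950)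
theorem F27291 : act 5 n15766 = n11960 := d9_2 D11948 D15766 (iv D11960) (iv D9900) (iv F17585)
def n15767 : Q := act 6 n11948
theorem D15767 : act 6 n11948 = n15767 := rfl
theorem F27293 : act 5 n15767 = n15753 := d22_2 D11948 D15767 (iv D15753) F21089
def n15768 : Q := act 5 n11949
theorem D15768 : act 5 n11949 = n15768 := rfl
theorem F27295 : act 3 n15768 = n11952 := d16_1 D15768 (iv D11952) (iv F21095)
def n15769 : Q := act 0 n11950
theorem D15769 : act 0 n11950 = n15769 := rfl
theorem F27297 : act 4 n15769 = n11953 := d3_2 (iv F21096) D15769 (iv D11953)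
theorem F27298 : act 5 n15769 = n11961 := d4_2 (iv F21097) D15769 (iv D11961)
def n15770 : Q := act 2 n11950
theorem D15770 : act 2 n11950 = n15770 := rfl
theorem F27299 : act 4 n15770 = n11954 := d12_2 (iv F21096) D15770 (iv D11954)
theorem F27300 : act 5 n15770 = n11962 := d13_2 (iv F21097) D15770 (iv D11962)
def n15771 : Q := act 6 n11950
theorem D15771 : act 6 n11950 = n15771 := rfl
theorem F27301 : act 4 n15771 = n11955 := d19_1 D15771 (iv D11955) (iv F21096)
def n15772 : Q := act 1 n11951
theorem D15772 : act 1 n11951 = n15772 := rfl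
theorem F27302 : act 4 n15772 = n11956 := d8_2 (iv F21098) D15772 (iv D11956)
def n15773 : Q := act 1 n11952
theorem D15773 : act 1 n11952 = n15773 := rfl
theorem F27303 : act 4 n15773 = n11957 := d8_2 (iv F21101) D15773 (iv D11957)
def n15774 : Q := act 1 n11953
theorem D15774 : act 1 n11953 = n15774 := rfl
def n15775 : Q := act 2 n11953
theorem D15775 : act 2 n11953 = n15775 := rfl
theorem F27304 : act 0 n15775 = n11954 := d1_1 D15775 (iv D11954) D11953
theorem F27305 : act 5 n15775 = n11966 := d13_2 (iv F21103) D15775 (iv D11966)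
def n15776 : Q := act 3 n11954
theorem D15776 : act 3 n11954 = n15776 := rfl
theorem F27306 : act 5 n15776 = n11968 := d16_2 (iv F21104) D15776 (iv D11968)
def n15777 : Q := act 6 n11954
theorem D15777 : act 6 n11954 = n15777 := rfl
theorem F27307 : act 2 n15777 = n11955 := d14_1 D15777 (iv D11955) D11954
def n15778 : Q := act 1 n11955
theorem D15778 : act 1 n11955 = n15778 := rfl
theorem F27308 : act 6 n15778 = n11956 := d10_2 D11955 D15778 (iv D11956) (iv D9897) D9896
def n15779 : Q := act 0 n11956
theorem D15779 : act 0 n11956 = n15779 := rfl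
def n15780 : Q := act 2 n11956
theorem D15780 : act 2 n11956 = n15780 := rfl
def n15781 : Q := act 5 n11956
theorem D15781 : act 5 n11956 = n15781 := rfl
theorem F27309 : act 1 n15781 = n15761 := d9_1 D15781 (iv D15761) (iv D11946) (iv F17589) D11956
def n15782 : Q := act 0 n11957
theorem D15782 : act 0 n11957 = n15782 := rfl
def n15783 : Q := act 2 n11957
theorem D15783 : act 2 n11957 = n15783 := rfl
def n15784 : Q := act 6 n11957
theorem D15784 : act 6 n11957 = n15784 := rfl
theorem F27310 : act 1 n15784 = n15758 := d10_1 D15784 (iv D15758) (iv D11945) (iv F17591) D11957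
def n15785 : Q := act 0 n11958
theorem D15785 : act 0 n11958 = n15785 := rfl
theorem F27311 : act 3 n15785 = n12025 := d2_2 (iv F21105) D15785 (iv D12025)
theorem F27312 : act 4 n15785 = n14282 := d3_2 (iv F21106) D15785 F24940
def n15786 : Q := act 5 n11958
theorem D15786 : act 5 n11958 = n15786 := rfl
theorem F27313 : act 3 n15786 = n12026 := d16_1 D15786 (iv D12026) (iv F21105)
theorem F27314 : act 4 n15786 = n14288 := d18_1 D15786 (iv D14288) (iv F21106)
def n15787 : Q := act 6 n11958
theorem D15787 : act 6 n11958 = n15787 := rfl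
theorem F27316 : act 3 n15787 = n12027 := d17_1 D15787 (iv D12027) (iv F21105)
theorem F27317 : act 4 n15787 = n14289 := d19_1 D15787 (iv D14289) (iv F21106)
def n15788 : Q := act 1 n11959
theorem D15788 : act 1 n11959 = n15788 := rfl
theorem F27318 : act 3 n15788 = n11964 := d7_2 (iv F21109) D15788 (iv D11964)
theorem F27319 : act 4 n15788 = n14298 := d8_2 (iv F21110) D15788 (iv D14298)
def n15789 : Q := act 0 n11960
theorem D15789 : act 0 n11960 = n15789 := rfl
theorem F27320 : act 3 n15789 = n11961 := d2_2 (iv F21112) D15789 (iv D11961)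
def n15790 : Q := act 2 n11960
theorem D15790 : act 2 n11960 = n15790 := rfl
def n15791 : Q := act 6 n11960
theorem D15791 : act 6 n11960 = n15791 := rfl
theorem F27321 : act 3 n15791 = n11963 := d17_1 D15791 (iv D11963) (iv F21112)
def n15792 : Q := act 1 n11961
theorem D15792 : act 1 n11961 = n15792 := rfl
theorem F27322 : act 4 n15792 = n11965 := d8_2 (iv F21113) D15792 (iv D11965)
def n15793 : Q := act 2 n11961
theorem D15793 : act 2 n11961 = n15793 := rfl
theorem F27323 : act 0 n15793 = n11962 := d1_1 D15793 (iv D11962) D11961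
theorem F27324 : act 4 n15793 = n11966 := d12_2 (iv F21113) D15793 (iv D11966)
def n15794 : Q := act 6 n11961
theorem D15794 : act 6 n11961 = n15794 := rfl
theorem F27325 : act 0 n15794 = n11963 := d5_1 D15794 (iv D11963) D11961
theorem F27326 : act 4 n15794 = n11967 := d19_1 D15794 (iv D11967) (iv F21113)
theorem F27327 : act 5 n15794 = n15771 := d22_2 F27298 D15794 (iv D15771) D15769
def n15795 : Q := act 3 n11962
theorem D15795 : act 3 n11962 = n15795 := rfl
theorem F27328 : act 1 n15795 = n11976 := d7_1 D15795 (iv D11976) (iv F21114)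
def n15796 : Q := act 6 n11962
theorem D15796 : act 6 n11962 = n15796 := rfl
theorem F27329 : act 2 n15796 = n11963 := d14_1 D15796 (iv D11963) D11962
theorem F27330 : act 4 n15796 = n11969 := d19_1 D15796 (iv D11969) (iv F21115)
def n15797 : Q := act 1 n11963
theorem D15797 : act 1 n11963 = n15797 := rfl
theorem F27331 : act 4 n15797 = n11970 := d8_2 (iv F21116) D15797 (iv D11970)
theorem F27332 : act 6 n15797 = n11964 := d10_2 D11963 D15797 (iv D11964) (iv D9902) D9901
def n15798 : Q := act 5 n11963
theorem D15798 : act 5 n11963 = n15798 := rfl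
theorem F27333 : act 0 n15798 = n15771 := d4_1 D15798 (iv F27327) F27325
theorem F27334 : act 4 n15798 = n11971 := d18_1 D15798 (iv D11971) (iv F21116)
theorem F27335 : act 6 n15798 = n15769 := d20_2 D11963 D15798 F27298 D15794 F27327 (iv D15771) F21097
def n15799 : Q := act 0 n11964
theorem D15799 : act 0 n11964 = n15799 := rfl
theorem F27336 : act 4 n15799 = n11972 := d3_2 (iv F21117) D15799 (iv D11972)
def n15801 : Q := act 5 n11964
theorem D15801 : act 5 n11964 = n15801 := rfl
theorem F27339 : act 1 n15801 = n12026 := d9_1 D15801 (iv D12026) (iv D9939) (iv F17601) D11964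
theorem F27340 : act 4 n15801 = n11974 := d18_1 D15801 (iv D11974) (iv F21117)
def n15802 : Q := act 0 n11965
theorem D15802 : act 0 n11965 = n15802 := rfl
def n15803 : Q := act 2 n11965
theorem D15803 : act 2 n11965 = n15803 := rfl
def n15804 : Q := act 5 n11965
theorem D15804 : act 5 n11965 = n15804 := rfl
def n15805 : Q := act 6 n11965
theorem D15805 : act 6 n11965 = n15805 := rfl
def n15806 : Q := act 1 n11966
theorem D15806 : act 1 n11966 = n15806 := rfl
def n15807 : Q := act 3 n11966
theorem D15807 : act 3 n11966 = n15807 := rfl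
theorem F27341 : act 0 n15807 = n11968 := d2_1 D15807 (iv D11968) (iv F21118)
def n15808 : Q := act 6 n11966
theorem D15808 : act 6 n11966 = n15808 := rfl
theorem F27342 : act 0 n15808 = n11969 := d5_1 D15808 (iv D11969) (iv F21118)
theorem F27343 : act 2 n15808 = n11967 := d14_1 D15808 (iv D11967) D11966
theorem F27344 : act 5 n15808 = n15777 := d22_2 F27305 D15808 (iv D15777) (iv F27304)
def n15809 : Q := act 1 n11967
theorem D15809 : act 1 n11967 = n15809 := rfl
def n15810 : Q := act 2 n11968
theorem D15810 : act 2 n11968 = n15810 := rfl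
def n15811 : Q := act 4 n11968
theorem D15811 : act 4 n11968 = n15811 := rfl
theorem F27345 : act 1 n15811 = n11984 := d8_1 D15811 (iv D11984) (iv F21121)
def n15812 : Q := act 6 n11968
theorem D15812 : act 6 n11968 = n15812 := rfl
theorem F27346 : act 3 n15812 = n11969 := d17_1 D15812 (iv D11969) D11968
def n15813 : Q := act 1 n11969
theorem D15813 : act 1 n11969 = n15813 := rfl
theorem F27347 : act 6 n15813 = n11986 := d10_2 D11969 D15813 (iv D11986) (iv D9914) (iv F17602)
def n15814 : Q := act 5 n11969
theorem D15814 : act 5 n11969 = n15814 := rfl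
theorem F27348 : act 0 n15814 = n15777 := d4_1 D15814 (iv F27344) F27342
theorem F27349 : act 2 n15814 = n11971 := d13_1 D15814 (iv D11971) (iv F21122)
theorem F27350 : act 6 n15814 = n15775 := d20_2 D11969 D15814 F27305 D15808 F27344 (iv D15777) F21104
def n15815 : Q := act 0 n11970
theorem D15815 : act 0 n11970 = n15815 := rfl
theorem F27351 : act 3 n15815 = n14304 := d2_2 (iv F21123) D15815 F24965
theorem F27352 : act 6 n15815 = n11972 := d5_2 (iv F21124) D15815 (iv D11972)
def n15816 : Q := act 2 n11970
theorem D15816 : act 2 n11970 = n15816 := rfl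
theorem F27353 : act 6 n15816 = n11973 := d14_2 (iv F21124) D15816 (iv D11973)
def n15817 : Q := act 5 n11970
theorem D15817 : act 5 n11970 = n15817 := rfl
theorem F27354 : act 3 n15817 = n14307 := d16_1 D15817 (iv D14307) (iv F21123)
def n15818 : Q := act 1 n11971
theorem D15818 : act 1 n11971 = n15818 := rfl
def n15819 : Q := act 1 n11972
theorem D15819 : act 1 n11972 = n15819 := rfl
theorem F27355 : act 3 n15819 = n14302 := d7_2 (iv F21127) D15819 (iv D14302)
def n15820 : Q := act 2 n11972
theorem D15820 : act 2 n11972 = n15820 := rfl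
theorem F27356 : act 0 n15820 = n11973 := d1_1 D15820 (iv D11973) D11972
def n15821 : Q := act 5 n11972
theorem D15821 : act 5 n11972 = n15821 := rfl
theorem F27357 : act 0 n15821 = n11974 := d4_1 D15821 (iv D11974) D11972
theorem F27358 : act 3 n15821 = n14293 := d16_1 D15821 F24955 (iv F21127)
theorem F27359 : act 6 n15821 = n15817 := d22_1 D15821 (iv D15817) F21124 D11972
def n15822 : Q := act 3 n11973
theorem D15822 : act 3 n11973 = n15822 := rfl
theorem F27360 : act 1 n15822 = n11987 := d7_1 D15822 (iv D11987) (iv F21128)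
def n15823 : Q := act 5 n11973
theorem D15823 : act 5 n11973 = n15823 := rfl
theorem F27361 : act 2 n15823 = n11974 := d13_1 D15823 (iv D11974) D11973
def n15824 : Q := act 6 n11974
theorem D15824 : act 6 n11974 = n15824 := rfl
theorem F27362 : act 0 n15824 = n15817 := d5_1 D15824 (iv F27359) F27357
theorem F27363 : act 3 n15824 = n14295 := d17_1 D15824 (iv D14295) (iv F21130)
theorem F27364 : act 5 n15824 = n15815 := d20_1 D15824 F27352 D15821 F27359 (iv D15817) F21124 D11974
def n15825 : Q := act 1 n11975
theorem D15825 : act 1 n11975 = n15825 := rfl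
theorem F27365 : act 4 n15825 = n11981 := d8_2 (iv F21132) D15825 (iv D11981)
def n15826 : Q := act 3 n11975
theorem D15826 : act 3 n11975 = n15826 := rfl
theorem F27366 : act 0 n15826 = n11976 := d2_1 D15826 (iv D11976) (iv F21131)
theorem F27367 : act 2 n15826 = n15698 := d11_1 D15826 (iv D15698) (iv D11914) F17557 F17315 (iv F7486) D9908 D11976 F21133 (iv D11915) (iv D9875) F7419 D4951 (iv F17604) D11975
def n15827 : Q := act 4 n11976
theorem D15827 : act 4 n11976 = n15827 := rfl
theorem F27368 : act 2 n15827 = n15699 := d12_1 D15827 (iv D15699) (iv F21133)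
theorem F27369 : act 3 n15827 = n11984 := d15_1 D15827 (iv D11984) (iv D9913) (iv F17606) D11976
def n15828 : Q := act 6 n11976
theorem D15828 : act 6 n11976 = n15828 := rfl
theorem F27370 : act 2 n15828 = n15510 := d14_1 D15828 F26930 (iv F21133)
theorem F27371 : act 3 n15828 = n11977 := d17_1 D15828 (iv D11977) D11976
def n15832 : Q := act 1 n11980
theorem D15832 : act 1 n11980 = n15832 := rfl
theorem F27376 : act 2 n15832 = n11981 := d6_2 D11980 D15832 (iv D11981) (iv D9912) D9911
def n15833 : Q := act 3 n11980
theorem D15833 : act 3 n11980 = n15833 := rfl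
theorem F27377 : act 5 n15833 = n14315 := d16_2 (iv F21141) D15833 F24983
theorem F27378 : act 2 n15833 = n15705 := d21_2 D11980 D15833 (iv D15705) (iv D11919) F17564 (iv F12403) (iv F19646) F19645
def n15834 : Q := act 0 n11981
theorem D15834 : act 0 n11981 = n15834 := rfl
def n15835 : Q := act 3 n11981
theorem D15835 : act 3 n11981 = n15835 := rfl
theorem F27379 : act 1 n15835 = n11982 := d7_1 D15835 (iv D11982) D11981
def n15836 : Q := act 5 n11981
theorem D15836 : act 5 n11981 = n15836 := rfl
def n15837 : Q := act 6 n11981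
theorem D15837 : act 6 n11981 = n15837 := rfl
def n15838 : Q := act 4 n11982
theorem D15838 : act 4 n11982 = n15838 := rfl
theorem F27380 : act 0 n15838 = n11984 := d3_1 D15838 (iv D11984) (iv F21142)
theorem F27381 : act 2 n15838 = n12988 := d12_1 D15838 (iv D12988) (iv F21143)
def n15839 : Q := act 1 n11983
theorem D15839 : act 1 n11983 = n15839 := rfl
theorem F27382 : act 3 n15839 = n12987 := d7_2 (iv F21145) D15839 (iv D12987)
def n15840 : Q := act 4 n11983
theorem D15840 : act 4 n11983 = n15840 := rfl
theorem F27383 : act 0 n15840 = n12988 := d3_1 D15840 (iv D12988) (iv F21144)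
theorem F27384 : act 2 n15840 = n11984 := d12_1 D15840 (iv D11984) D11983
theorem F27385 : act 6 n15840 = n15713 := d19_2 F21146 D15840 F27227
def n15841 : Q := act 6 n11984
theorem D15841 : act 6 n11984 = n15841 := rfl
theorem F27386 : act 2 n15841 = n15713 := d14_1 D15841 (iv F27385) F27384
theorem F27387 : act 4 n15841 = n11985 := d19_1 D15841 (iv D11985) D11984
theorem F27388 : act 5 n15712 = n15841 := d22_0 (iv D15841) (iv F27072) F27073 (iv F27225)
def n15842 : Q := act 1 n11985
theorem D15842 : act 1 n11985 = n15842 := rfl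
theorem F27389 : act 3 n15842 = n11986 := d7_2 (iv F21148) D15842 (iv D11986)
def n15843 : Q := act 0 n11986
theorem D15843 : act 0 n11986 = n15843 := rfl
def n15844 : Q := act 5 n11986
theorem D15844 : act 5 n11986 = n15844 := rfl
def n15845 : Q := act 4 n11987
theorem D15845 : act 4 n11987 = n15845 := rfl
def n15846 : Q := act 5 n11987
theorem D15846 : act 5 n11987 = n15846 := rfl
def n15847 : Q := act 1 n11988
theorem D15847 : act 1 n11988 = n15847 := rfl
theorem F27392 : act 2 n15847 = n12024 := d6_2 (iv F21150) D15847 (iv D12024) F17667 (iv F17615)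
def n15851 : Q := act 6 n11991
theorem D15851 : act 6 n11991 = n15851 := rfl
theorem F27399 : act 4 n15851 = n11992 := d19_1 D15851 (iv D11992) D11991
def n15856 : Q := act 0 n11997
theorem D15856 : act 0 n11997 = n15856 := rfl
theorem F27409 : act 2 n15856 = n12007 := d1_2 (iv F21170) D15856 (iv D12007)
theorem F27410 : act 4 n15856 = n12000 := d3_2 (iv F21171) D15856 (iv D12000)
def n15857 : Q := act 3 n11997
theorem D15857 : act 3 n11997 = n15857 := rfl
theorem F27411 : act 1 n15857 = n11998 := d7_1 D15857 (iv D11998) D11997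
def n15858 : Q := act 5 n11997
theorem D15858 : act 5 n11997 = n15858 := rfl
theorem F27413 : act 2 n15858 = n12008 := d13_1 D15858 (iv D12008) (iv F21170)
theorem F27414 : act 4 n15858 = n12002 := d18_1 D15858 (iv D12002) (iv F21171)
def n15859 : Q := act 6 n11997
theorem D15859 : act 6 n11997 = n15859 := rfl
theorem F27415 : act 2 n15859 = n12009 := d14_1 D15859 (iv D12009) (iv F21170)
theorem F27416 : act 4 n15859 = n12003 := d19_1 D15859 (iv D12003) (iv F21171)
def n15860 : Q := act 4 n11998
theorem D15860 : act 4 n11998 = n15860 := rfl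
theorem F27417 : act 0 n15860 = n15860 := d3_1 D15860 (iv D15860) F21172
theorem F27418 : act 2 n15860 = n15860 := d12_1 D15860 (iv D15860) F21174
theorem F27419 : act 3 n15860 = n12004 := d15_1 D15860 (iv D12004) (iv D9928) (iv F17637) D11998
theorem F27420 : act 5 n15860 = n15860 := d18_2 F21173 D15860 (iv D15860)
def n15861 : Q := act 6 n11998
theorem D15861 : act 6 n11998 = n15861 := rfl
theorem F27423 : act 3 n15861 = n11999 := d17_1 D15861 (iv D11999) D11998
def n15862 : Q := act 1 n11999
theorem D15862 : act 1 n11999 = n15862 := rfl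
theorem F27425 : act 4 n15862 = n12006 := d8_2 (iv F21177) D15862 (iv D12006)
def n15863 : Q := act 1 n12000
theorem D15863 : act 1 n12000 = n15863 := rfl
def n15864 : Q := act 3 n12000
theorem D15864 : act 3 n12000 = n15864 := rfl
theorem F27426 : act 0 n15864 = n12001 := d2_1 D15864 (iv D12001) D12000
def n15865 : Q := act 5 n12000
theorem D15865 : act 5 n12000 = n15865 := rfl
theorem F27427 : act 0 n15865 = n12002 := d4_1 D15865 (iv D12002) D12000
theorem F27428 : act 2 n15865 = n12011 := d13_1 D15865 (iv D12011) (iv F21179)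
def n15866 : Q := act 6 n12000
theorem D15866 : act 6 n12000 = n15866 := rfl
theorem F27429 : act 0 n15866 = n12003 := d5_1 D15866 (iv D12003) D12000
theorem F27430 : act 2 n15866 = n12012 := d14_1 D15866 (iv D12012) (iv F21179)
def n15867 : Q := act 2 n12001
theorem D15867 : act 2 n12001 = n15867 := rfl
theorem F27431 : act 1 n15867 = n15867 := d6_1 D15867 (iv D15867) F21180 F17646 (iv F21180)
def n15868 : Q := act 4 n12001
theorem D15868 : act 4 n12001 = n15868 := rfl
theorem F27432 : act 1 n15868 = n12004 := d8_1 D15868 (iv D12004) (iv F21180)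
def n15869 : Q := act 5 n12001
theorem D15869 : act 5 n12001 = n15869 := rfl
theorem F27433 : act 1 n15869 = n15869 := d9_1 D15869 (iv D15869) F21180 F17645 (iv F21180)
theorem F27434 : act 3 n15869 = n12002 := d16_1 D15869 (iv D12002) D12001
def n15870 : Q := act 6 n12001
theorem D15870 : act 6 n12001 = n15870 := rfl
theorem F27435 : act 3 n15870 = n12003 := d17_1 D15870 (iv D12003) D12001
def n15871 : Q := act 6 n12002
theorem D15871 : act 6 n12002 = n15871 := rfl
theorem F27436 : act 2 n15871 = n12013 := d14_1 D15871 (iv D12013) (iv F21182)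
theorem F27437 : act 5 n15871 = n15866 := d22_2 D12002 D15871 (iv D15866) (iv D12000)
def n15872 : Q := act 1 n12003
theorem D15872 : act 1 n12003 = n15872 := rfl
theorem F27438 : act 6 n15872 = n12006 := d10_2 D12003 D15872 (iv D12006) (iv D9929) D9927
def n15873 : Q := act 5 n12003
theorem D15873 : act 5 n12003 = n15873 := rfl
theorem F27439 : act 0 n15873 = n15871 := d4_1 D15873 F27437 F27429
theorem F27440 : act 2 n15873 = n12014 := d13_1 D15873 (iv D12014) (iv F21183)
theorem F27441 : act 6 n15873 = n15865 := d20_2 D12003 D15873 (iv D15865) D15866 (iv F27437) (iv D15871) (iv D12002)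
def n15874 : Q := act 6 n12004
theorem D15874 : act 6 n12004 = n15874 := rfl
theorem F27442 : act 0 n15874 = n15874 := d5_1 D15874 (iv D15874) F21184
theorem F27443 : act 2 n15874 = n15874 := d14_1 D15874 (iv D15874) F21185
theorem F27444 : act 4 n15874 = n12005 := d19_1 D15874 (iv D12005) D12004
theorem F27445 : act 5 n15874 = n15874 := d22_2 F21186 D15874 (iv D15874) F21184
def n15875 : Q := act 1 n12005
theorem D15875 : act 1 n12005 = n15875 := rfl
theorem F27446 : act 3 n15875 = n12006 := d7_2 (iv F21189) D15875 (iv D12006)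
def n15876 : Q := act 0 n12006
theorem D15876 : act 0 n12006 = n15876 := rfl
def n15877 : Q := act 5 n12006
theorem D15877 : act 5 n12006 = n15877 := rfl
def n15878 : Q := act 1 n12007
theorem D15878 : act 1 n12007 = n15878 := rfl
theorem F27448 : act 4 n15878 = n12010 := d8_2 (iv F21191) D15878 (iv D12010)
def n15879 : Q := act 5 n12007
theorem D15879 : act 5 n12007 = n15879 := rfl
theorem F27449 : act 0 n15879 = n12008 := d4_1 D15879 (iv D12008) D12007
theorem F27450 : act 4 n15879 = n12011 := d18_1 D15879 (iv D12011) (iv F21191)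
def n15880 : Q := act 6 n12007
theorem D15880 : act 6 n12007 = n15880 := rfl
theorem F27451 : act 0 n15880 = n12009 := d5_1 D15880 (iv D12009) D12007
theorem F27452 : act 4 n15880 = n12012 := d19_1 D15880 (iv D12012) (iv F21191)
def n15881 : Q := act 6 n12008
theorem D15881 : act 6 n12008 = n15881 := rfl
theorem F27453 : act 4 n15881 = n12013 := d19_1 D15881 (iv D12013) (iv F21193)
theorem F27454 : act 5 n15881 = n15880 := d22_2 D12008 D15881 (iv D15880) (iv D12007)
def n15882 : Q := act 5 n12009
theorem D15882 : act 5 n12009 = n15882 := rfl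
theorem F27455 : act 0 n15882 = n15881 := d4_1 D15882 F27454 F27451
theorem F27456 : act 4 n15882 = n12014 := d18_1 D15882 (iv D12014) (iv F21194)
theorem F27457 : act 6 n15882 = n15879 := d20_2 D12009 D15882 (iv D15879) D15880 (iv F27454) (iv D15881) (iv D12008)
def n15883 : Q := act 0 n12010
theorem D15883 : act 0 n12010 = n15883 := rfl
theorem F27458 : act 1 n15883 = n14226 := d0_2 D12010 D15883 (iv D14226) (iv D11136) (iv D8518) (iv D4091) (iv F3834) D5056 D9931
theorem F27459 : act 3 n15883 = n14226 := d2_2 (iv F21195) D15883 (iv D14226)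
def n15884 : Q := act 2 n12010
theorem D15884 : act 2 n12010 = n15884 := rfl
def n15885 : Q := act 5 n12010
theorem D15885 : act 5 n12010 = n15885 := rfl
theorem F27460 : act 3 n15885 = n14229 := d16_1 D15885 (iv D14229) (iv F21195)
def n15886 : Q := act 6 n12010
theorem D15886 : act 6 n12010 = n15886 := rfl
theorem F27461 : act 3 n15886 = n14230 := d17_1 D15886 (iv D14230) (iv F21195)
def n15887 : Q := act 1 n12011
theorem D15887 : act 1 n12011 = n15887 := rfl
theorem F27462 : act 3 n15887 = n14234 := d7_2 (iv F21197) D15887 (iv D14234)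
def n15888 : Q := act 1 n12012
theorem D15888 : act 1 n12012 = n15888 := rfl
theorem F27463 : act 3 n15888 = n14235 := d7_2 (iv F21199) D15888 (iv D14235)
def n15889 : Q := act 1 n12013
theorem D15889 : act 1 n12013 = n15889 := rfl
theorem F27464 : act 3 n15889 = n14242 := d7_2 (iv F21200) D15889 (iv D14242)
theorem F27465 : act 6 n15889 = n15607 := d10_2 D12013 D15889 (iv D15607) (iv D11874) (iv F17652)
def n15890 : Q := act 1 n12014
theorem D15890 : act 1 n12014 = n15890 := rfl
theorem F27466 : act 3 n15890 = n14246 := d7_2 (iv F21203) D15890 (iv D14246)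
def n15891 : Q := act 0 n12015
theorem D15891 : act 0 n12015 = n15891 := rfl
theorem F27467 : act 2 n15891 = n12025 := d1_2 (iv F21205) D15891 (iv D12025)
theorem F27468 : act 4 n15891 = n12018 := d3_2 (iv F21206) D15891 (iv D12018)
def n15892 : Q := act 3 n12015
theorem D15892 : act 3 n12015 = n15892 := rfl
theorem F27469 : act 1 n15892 = n12016 := d7_1 D15892 (iv D12016) D12015
def n15893 : Q := act 5 n12015
theorem D15893 : act 5 n12015 = n15893 := rfl
theorem F27470 : act 2 n15893 = n12026 := d13_1 D15893 (iv D12026) (iv F21205)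
theorem F27471 : act 4 n15893 = n12020 := d18_1 D15893 (iv D12020) (iv F21206)
def n15894 : Q := act 6 n12015
theorem D15894 : act 6 n12015 = n15894 := rfl
theorem F27473 : act 2 n15894 = n12027 := d14_1 D15894 (iv D12027) (iv F21205)
theorem F27474 : act 4 n15894 = n12021 := d19_1 D15894 (iv D12021) (iv F21206)
def n15895 : Q := act 4 n12016
theorem D15895 : act 4 n12016 = n15895 := rfl
theorem F27475 : act 0 n15895 = n15895 := d3_1 D15895 (iv D15895) F21207
theorem F27476 : act 2 n15895 = n15895 := d12_1 D15895 (iv D15895) F21209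
theorem F27477 : act 3 n15895 = n12022 := d15_1 D15895 (iv D12022) (iv D9937) (iv F17656) D12016
theorem F27478 : act 6 n15895 = n15895 := d19_2 F21208 D15895 (iv D15895)
def n15898 : Q := act 1 n12018
theorem D15898 : act 1 n12018 = n15898 := rfl
def n15899 : Q := act 3 n12018
theorem D15899 : act 3 n12018 = n15899 := rfl
theorem F27484 : act 0 n15899 = n12019 := d2_1 D15899 (iv D12019) D12018
def n15900 : Q := act 5 n12018
theorem D15900 : act 5 n12018 = n15900 := rfl
theorem F27485 : act 0 n15900 = n12020 := d4_1 D15900 (iv D12020) D12018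
theorem F27486 : act 2 n15900 = n12029 := d13_1 D15900 (iv D12029) (iv F21214)
def n15901 : Q := act 6 n12018
theorem D15901 : act 6 n12018 = n15901 := rfl
theorem F27487 : act 0 n15901 = n12021 := d5_1 D15901 (iv D12021) D12018
theorem F27488 : act 2 n15901 = n12030 := d14_1 D15901 (iv D12030) (iv F21214)
def n15902 : Q := act 2 n12019
theorem D15902 : act 2 n12019 = n15902 := rfl
theorem F27489 : act 1 n15902 = n15902 := d6_1 D15902 (iv D15902) F21215 F17665 (iv F21215)
def n15903 : Q := act 4 n12019
theorem D15903 : act 4 n12019 = n15903 := rfl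
theorem F27490 : act 1 n15903 = n12022 := d8_1 D15903 (iv D12022) (iv F21215)
def n15904 : Q := act 5 n12019
theorem D15904 : act 5 n12019 = n15904 := rfl
theorem F27491 : act 3 n15904 = n12020 := d16_1 D15904 (iv D12020) D12019
def n15905 : Q := act 6 n12019
theorem D15905 : act 6 n12019 = n15905 := rfl
theorem F27492 : act 1 n15905 = n15905 := d10_1 D15905 (iv D15905) F21215 F17664 (iv F21215)
theorem F27493 : act 3 n15905 = n12021 := d17_1 D15905 (iv D12021) D12019
def n15906 : Q := act 1 n12020
theorem D15906 : act 1 n12020 = n15906 := rfl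
theorem F27494 : act 5 n15906 = n12024 := d9_2 D12020 D15906 (iv D12024) (iv D9938) D9936
def n15907 : Q := act 6 n12020
theorem D15907 : act 6 n12020 = n15907 := rfl
theorem F27495 : act 2 n15907 = n12031 := d14_1 D15907 (iv D12031) (iv F21216)
theorem F27496 : act 5 n15907 = n15901 := d22_2 D12020 D15907 (iv D15901) (iv D12018)
def n15908 : Q := act 5 n12021
theorem D15908 : act 5 n12021 = n15908 := rfl
theorem F27497 : act 0 n15908 = n15907 := d4_1 D15908 F27496 F27487
theorem F27498 : act 2 n15908 = n12032 := d13_1 D15908 (iv D12032) (iv F21218)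
theorem F27499 : act 6 n15908 = n15900 := d20_2 D12021 D15908 (iv D15900) D15901 (iv F27496) (iv D15907) (iv D12020)
def n15909 : Q := act 5 n12022
theorem D15909 : act 5 n12022 = n15909 := rfl
theorem F27500 : act 0 n15909 = n15909 := d4_1 D15909 (iv D15909) F21219
theorem F27501 : act 2 n15909 = n15909 := d13_1 D15909 (iv D15909) F21220
theorem F27502 : act 4 n15909 = n12023 := d18_1 D15909 (iv D12023) D12022
theorem F27503 : act 6 n15909 = n15909 := d22_1 D15909 (iv D15909) F21221 F21219
def n15910 : Q := act 1 n12023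
theorem D15910 : act 1 n12023 = n15910 := rfl
theorem F27504 : act 3 n15910 = n12024 := d7_2 (iv F21224) D15910 (iv D12024)
def n15911 : Q := act 0 n12024
theorem D15911 : act 0 n12024 = n15911 := rfl
def n15912 : Q := act 6 n12024
theorem D15912 : act 6 n12024 = n15912 := rfl
def n15913 : Q := act 1 n12025
theorem D15913 : act 1 n12025 = n15913 := rfl
theorem F27506 : act 4 n15913 = n12028 := d8_2 (iv F21226) D15913 (iv D12028)
def n15914 : Q := act 5 n12025
theorem D15914 : act 5 n12025 = n15914 := rfl
theorem F27507 : act 0 n15914 = n12026 := d4_1 D15914 (iv D12026) D12025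
theorem F27508 : act 4 n15914 = n12029 := d18_1 D15914 (iv D12029) (iv F21226)
def n15915 : Q := act 6 n12025
theorem D15915 : act 6 n12025 = n15915 := rfl
theorem F27509 : act 0 n15915 = n12027 := d5_1 D15915 (iv D12027) D12025
theorem F27510 : act 4 n15915 = n12030 := d19_1 D15915 (iv D12030) (iv F21226)
def n15916 : Q := act 6 n12026
theorem D15916 : act 6 n12026 = n15916 := rfl
theorem F27511 : act 4 n15916 = n12031 := d19_1 D15916 (iv D12031) (iv F21227)
theorem F27512 : act 5 n15916 = n15915 := d22_2 D12026 D15916 (iv D15915) (iv D12025)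
def n15917 : Q := act 5 n12027
theorem D15917 : act 5 n12027 = n15917 := rfl
theorem F27513 : act 0 n15917 = n15916 := d4_1 D15917 F27512 F27509
theorem F27514 : act 4 n15917 = n12032 := d18_1 D15917 (iv D12032) (iv F21229)
theorem F27515 : act 6 n15917 = n15914 := d20_2 D12027 D15917 (iv D15914) D15915 (iv F27512) (iv D15916) (iv D12026)
def n15918 : Q := act 0 n12028
theorem D15918 : act 0 n12028 = n15918 := rfl
theorem F27516 : act 1 n15918 = n14277 := d0_2 D12028 D15918 (iv D14277) (iv D11163) (iv D8545) (iv D4106) (iv F15768) D5109 D9940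
theorem F27517 : act 3 n15918 = n14277 := d2_2 (iv F21230) D15918 (iv D14277)
def n15919 : Q := act 2 n12028
theorem D15919 : act 2 n12028 = n15919 := rfl
def n15920 : Q := act 5 n12028
theorem D15920 : act 5 n12028 = n15920 := rfl
theorem F27518 : act 3 n15920 = n14280 := d16_1 D15920 (iv D14280) (iv F21230)
def n15921 : Q := act 6 n12028
theorem D15921 : act 6 n12028 = n15921 := rfl
theorem F27519 : act 3 n15921 = n14281 := d17_1 D15921 (iv D14281) (iv F21230)
def n15922 : Q := act 1 n12029
theorem D15922 : act 1 n12029 = n15922 := rfl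
theorem F27520 : act 3 n15922 = n14285 := d7_2 (iv F21232) D15922 (iv D14285)
def n15923 : Q := act 1 n12030
theorem D15923 : act 1 n12030 = n15923 := rfl
theorem F27521 : act 3 n15923 = n14286 := d7_2 (iv F21234) D15923 (iv D14286)
def n15924 : Q := act 1 n12031
theorem D15924 : act 1 n12031 = n15924 := rfl
theorem F27522 : act 3 n15924 = n14296 := d7_2 (iv F21235) D15924 (iv D14296)
def n15925 : Q := act 1 n12032
theorem D15925 : act 1 n12032 = n15925 := rfl
theorem F27523 : act 3 n15925 = n14297 := d7_2 (iv F21238) D15925 (iv D14297)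
theorem F27524 : act 5 n15925 = n15736 := d9_2 D12032 D15925 (iv D15736) (iv D11936) (iv F17672)
def n15926 : Q := act 5 n12033
theorem D15926 : act 5 n12033 = n15926 := rfl
theorem F27525 : act 0 n15926 = n12039 := d4_1 D15926 (iv D12039) (iv F21240)
theorem F27527 : act 3 n15926 = n12034 := d16_1 D15926 (iv D12034) D12033
theorem F27528 : act 4 n15926 = n13288 := d18_1 D15926 (iv D13288) F21243
def n15927 : Q := act 6 n12033
theorem D15927 : act 6 n12033 = n15927 := rfl
theorem F27529 : act 0 n15927 = n12040 := d5_1 D15927 (iv D12040) (iv F21240)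
theorem F27530 : act 2 n15927 = n13409 := d14_1 D15927 (iv D13409) (iv F21242)
theorem F27531 : act 3 n15927 = n12035 := d17_1 D15927 (iv D12035) D12033
theorem F27532 : act 4 n15927 = n13289 := d19_1 D15927 (iv D13289) F21243
def n15928 : Q := act 1 n12034
theorem D15928 : act 1 n12034 = n15928 := rfl
theorem F27533 : act 4 n15928 = n12348 := d8_2 (iv F21246) D15928 (iv D12348)
def n15929 : Q := act 1 n12035
theorem D15929 : act 1 n12035 = n15929 := rfl
theorem F27534 : act 4 n15929 = n12349 := d8_2 (iv F21249) D15929 (iv D12349)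
def n15930 : Q := act 0 n12036
theorem D15930 : act 0 n12036 = n15930 := rfl
theorem F27535 : act 4 n15930 = n12350 := d3_2 (iv F21250) D15930 (iv D12350)
theorem F27536 : act 1 n15034 = n15930 := d8_3 F27535 F21824 (iv F26173)
def n15931 : Q := act 2 n12036
theorem D15931 : act 2 n12036 = n15931 := rfl
theorem F27537 : act 4 n15931 = n12351 := d12_2 (iv F21250) D15931 (iv D12351)
def n15932 : Q := act 6 n12036
theorem D15932 : act 6 n12036 = n15932 := rfl
theorem F27538 : act 4 n15932 = n12352 := d19_1 D15932 (iv D12352) (iv F21250)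
def n15933 : Q := act 0 n12037
theorem D15933 : act 0 n12037 = n15933 := rfl
theorem F27539 : act 4 n15933 = n12353 := d3_2 (iv F21251) D15933 (iv D12353)
theorem F27540 : act 1 n15062 = n15933 := d8_3 F27539 F22081 (iv F26232)
def n15934 : Q := act 2 n12037
theorem D15934 : act 2 n12037 = n15934 := rfl
theorem F27541 : act 4 n15934 = n12354 := d12_2 (iv F21251) D15934 (iv D12354)
def n15935 : Q := act 5 n12037
theorem D15935 : act 5 n12037 = n15935 := rfl
theorem F27542 : act 4 n15935 = n12355 := d18_1 D15935 (iv D12355) (iv F21251)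
def n15936 : Q := act 5 n12038
theorem D15936 : act 5 n12038 = n15936 := rfl
theorem F27544 : act 2 n15936 = n13380 := d13_1 D15936 (iv D13380) (iv F21254)
theorem F27545 : act 3 n15936 = n12361 := d16_1 D15936 (iv D12361) (iv F21255)
theorem F27546 : act 4 n15936 = n12039 := d18_1 D15936 (iv D12039) D12038
def n15937 : Q := act 6 n12038
theorem D15937 : act 6 n12038 = n15937 := rfl
theorem F27547 : act 0 n15937 = n13289 := d5_1 D15937 (iv D13289) (iv F21252)
theorem F27548 : act 2 n15937 = n13381 := d14_1 D15937 (iv D13381) (iv F21254)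
theorem F27549 : act 3 n15937 = n12362 := d17_1 D15937 (iv D12362) (iv F21255)
theorem F27550 : act 4 n15937 = n12040 := d19_1 D15937 (iv D12040) D12038
def n15938 : Q := act 1 n12039
theorem D15938 : act 1 n12039 = n15938 := rfl
theorem F27551 : act 3 n15938 = n12041 := d7_2 (iv F21257) D15938 (iv D12041)
theorem F27552 : act 5 n15938 = n15938 := d9_2 D12039 D15938 (iv D15938) (iv D12039) F17681
theorem F27553 : act 0 n15938 = n15938 := d2_3 F27551 F21831 (iv F27551)
def n15939 : Q := act 6 n12039
theorem D15939 : act 6 n12039 = n15939 := rfl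
theorem F27554 : act 2 n15939 = n13413 := d14_1 D15939 (iv D13413) (iv F21256)
theorem F27555 : act 3 n15939 = n12042 := d17_1 D15939 (iv D12042) (iv F21257)
theorem F27556 : act 5 n15939 = n15927 := d22_2 D12039 D15939 (iv D15927) F21240
def n15940 : Q := act 1 n12040
theorem D15940 : act 1 n12040 = n15940 := rfl
theorem F27557 : act 3 n15940 = n12043 := d7_2 (iv F21259) D15940 (iv D12043)
theorem F27558 : act 6 n15940 = n15940 := d10_2 D12040 D15940 (iv D15940) (iv D12040) F17681
def n15941 : Q := act 5 n12040
theorem D15941 : act 5 n12040 = n15941 := rfl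
theorem F27559 : act 0 n15941 = n15939 := d4_1 D15941 F27556 F27529
theorem F27560 : act 2 n15941 = n13415 := d13_1 D15941 (iv D13415) (iv F21258)
theorem F27561 : act 3 n15941 = n12044 := d16_1 D15941 (iv D12044) (iv F21259)
theorem F27562 : act 6 n15941 = n15926 := d20_2 D12040 D15941 (iv D15926) D15927 (iv F27556) (iv D15939) (iv D12039)
def n15942 : Q := act 2 n12041
theorem D15942 : act 2 n12041 = n15942 := rfl
theorem F27563 : act 0 n15942 = n15942 := d1_1 D15942 (iv D15942) F21831
theorem F27564 : act 1 n15942 = n12050 := d6_1 D15942 (iv D12050) (iv D9953) (iv F17682) D12041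
theorem F27565 : act 4 n15942 = n12368 := d12_2 (iv F21260) D15942 (iv D12368)
theorem F27566 : act 5 n15942 = n15942 := d13_2 F21261 D15942 (iv D15942)
def n15943 : Q := act 6 n12041
theorem D15943 : act 6 n12041 = n15943 := rfl
theorem F27567 : act 0 n15943 = n15943 := d5_1 D15943 (iv D15943) F21831
theorem F27568 : act 4 n15943 = n12369 := d19_1 D15943 (iv D12369) (iv F21260)
theorem F27569 : act 5 n15943 = n15943 := d22_2 F21261 D15943 (iv D15943) F21831
def n15944 : Q := act 1 n12042
theorem D15944 : act 1 n12042 = n15944 := rfl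
theorem F27570 : act 4 n15944 = n12370 := d8_2 (iv F21263) D15944 (iv D12370)
def n15945 : Q := act 0 n12043
theorem D15945 : act 0 n12043 = n15945 := rfl
theorem F27571 : act 4 n15945 = n12371 := d3_2 (iv F21265) D15945 (iv D12371)
def n15946 : Q := act 2 n12043
theorem D15946 : act 2 n12043 = n15946 := rfl
theorem F27573 : act 1 n15946 = n12054 := d6_1 D15946 (iv D12054) (iv D9955) (iv F17684) D12043
theorem F27574 : act 4 n15946 = n12372 := d12_2 (iv F21265) D15946 (iv D12372)
theorem F27575 : act 6 n15946 = n15946 := d14_2 F21266 D15946 (iv D15946)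
def n15947 : Q := act 5 n12043
theorem D15947 : act 5 n12043 = n15947 := rfl
theorem F27576 : act 4 n15947 = n12373 := d18_1 D15947 (iv D12373) (iv F21265)
def n15948 : Q := act 1 n12044
theorem D15948 : act 1 n12044 = n15948 := rfl
theorem F27577 : act 4 n15948 = n12374 := d8_2 (iv F21269) D15948 (iv D12374)
def n15949 : Q := act 0 n12045
theorem D15949 : act 0 n12045 = n15949 := rfl
theorem F27578 : act 3 n15949 = n12049 := d2_2 (iv F21271) D15949 (iv D12049)
theorem F27579 : act 4 n15949 = n14941 := d3_2 F25941 D15949 F25990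
theorem F27580 : act 5 n15949 = n12065 := d4_2 (iv F21272) D15949 (iv D12065)
def n15950 : Q := act 2 n12045
theorem D15950 : act 2 n12045 = n15950 := rfl
theorem F27581 : act 5 n15950 = n12066 := d13_2 (iv F21272) D15950 (iv D12066)
def n15951 : Q := act 6 n12045
theorem D15951 : act 6 n12045 = n15951 := rfl
theorem F27582 : act 3 n15951 = n12051 := d17_1 D15951 (iv D12051) (iv F21271)
def n15952 : Q := act 1 n12046
theorem D15952 : act 1 n12046 = n15952 := rfl
theorem F27583 : act 3 n15952 = n12052 := d7_2 (iv F21274) D15952 (iv D12052)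
def n15953 : Q := act 0 n12047
theorem D15953 : act 0 n12047 = n15953 := rfl
theorem F27584 : act 3 n15953 = n12053 := d2_2 (iv F21276) D15953 (iv D12053)
theorem F27585 : act 6 n15953 = n12068 := d5_2 (iv F21277) D15953 (iv D12068)
def n15954 : Q := act 2 n12047
theorem D15954 : act 2 n12047 = n15954 := rfl
theorem F27586 : act 6 n15954 = n12069 := d14_2 (iv F21277) D15954 (iv D12069)
def n15955 : Q := act 5 n12047
theorem D15955 : act 5 n12047 = n15955 := rfl
theorem F27587 : act 3 n15955 = n12055 := d16_1 D15955 (iv D12055) (iv F21276)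
def n15956 : Q := act 1 n12048
theorem D15956 : act 1 n12048 = n15956 := rfl
theorem F27588 : act 3 n15956 = n12056 := d7_2 (iv F21280) D15956 (iv D12056)
def n15957 : Q := act 1 n12049
theorem D15957 : act 1 n12049 = n15957 := rfl
theorem F27589 : act 0 n15957 = n14974 := d0_1 D15957 F26065 (iv F26171) F27536 (iv D15930) (iv D12036) F17677 D9953 D12049
theorem F27590 : act 4 n15957 = n12375 := d8_2 (iv F21282) D15957 (iv D12375)
theorem F27591 : act 5 n14972 = n15957 := d18_0 F27590 (iv F21823) (iv F26063)
def n15958 : Q := act 2 n12049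
theorem D15958 : act 2 n12049 = n15958 := rfl
theorem F27592 : act 0 n15958 = n12050 := d1_1 D15958 (iv D12050) D12049
theorem F27593 : act 4 n15958 = n12376 := d12_2 (iv F21282) D15958 (iv D12376)
theorem F27594 : act 5 n15958 = n12072 := d13_2 (iv F21283) D15958 (iv D12072)
theorem F27595 : act 1 n15958 = n12300 := d23_2 (iv F21283) D15958 F21684 (iv D10068) F17215 (iv D9390) F14810 F6582 (iv D2178) (iv D1067) F1016 (iv D313) D312 D610 D1209 D2483 F3902 D5148 D9963
def n15959 : Q := act 3 n12050
theorem D15959 : act 3 n12050 = n15959 := rfl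
theorem F27596 : act 5 n15959 = n12074 := d16_2 (iv F21285) D15959 (iv D12074)
def n15960 : Q := act 6 n12050
theorem D15960 : act 6 n12050 = n15960 := rfl
theorem F27597 : act 2 n15960 = n12051 := d14_1 D15960 (iv D12051) D12050
theorem F27598 : act 4 n15960 = n12378 := d19_1 D15960 (iv D12378) (iv F21284)
def n15961 : Q := act 1 n12051
theorem D15961 : act 1 n12051 = n15961 := rfl
theorem F27599 : act 4 n15961 = n12379 := d8_2 (iv F21286) D15961 (iv D12379)
theorem F27600 : act 6 n15961 = n12052 := d10_2 D12051 D15961 (iv D12052) (iv D9954) D9953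
def n15962 : Q := act 0 n12052
theorem D15962 : act 0 n12052 = n15962 := rfl
theorem F27601 : act 4 n15962 = n12380 := d3_2 (iv F21287) D15962 (iv D12380)
theorem F27602 : act 5 n12290 = n15962 := d18_0 F27601 (iv F22254) (iv F21668)
def n15963 : Q := act 2 n12052
theorem D15963 : act 2 n12052 = n15963 := rfl
theorem F27603 : act 4 n15963 = n12381 := d12_2 (iv F21287) D15963 (iv D12381)
def n15964 : Q := act 5 n12052
theorem D15964 : act 5 n12052 = n15964 := rfl
theorem F27604 : act 0 n15964 = n12290 := d4_1 D15964 F27602 (iv D15962)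
theorem F27605 : act 1 n15964 = n15935 := d9_1 D15964 (iv D15935) (iv D12037) (iv F17691) D12052
theorem F27606 : act 4 n15964 = n12382 := d18_1 D15964 (iv D12382) (iv F21287)
def n15965 : Q := act 1 n12053
theorem D15965 : act 1 n12053 = n15965 := rfl
theorem F27607 : act 0 n15965 = n14994 := d0_1 D15965 F26097 (iv F26230) F27540 (iv D15933) (iv D12037) F17679 D9955 D12053
theorem F27608 : act 4 n15965 = n12383 := d8_2 (iv F21288) D15965 (iv D12383)
theorem F27609 : act 6 n14991 = n15965 := d19_0 F27608 F22075 (iv F26094)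
def n15966 : Q := act 2 n12053
theorem D15966 : act 2 n12053 = n15966 := rfl
theorem F27610 : act 0 n15966 = n12054 := d1_1 D15966 (iv D12054) D12053
theorem F27611 : act 4 n15966 = n12384 := d12_2 (iv F21288) D15966 (iv D12384)
theorem F27612 : act 6 n15966 = n12078 := d14_2 (iv F21289) D15966 (iv D12078)
def n15967 : Q := act 3 n12054
theorem D15967 : act 3 n12054 = n15967 := rfl
theorem F27613 : act 6 n15967 = n12080 := d17_2 (iv F21291) D15967 (iv D12080)
def n15968 : Q := act 5 n12054
theorem D15968 : act 5 n12054 = n15968 := rfl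
theorem F27614 : act 2 n15968 = n12055 := d13_1 D15968 (iv D12055) D12054
theorem F27615 : act 4 n15968 = n12386 := d18_1 D15968 (iv D12386) (iv F21290)
def n15969 : Q := act 1 n12055
theorem D15969 : act 1 n12055 = n15969 := rfl
theorem F27616 : act 4 n15969 = n12387 := d8_2 (iv F21292) D15969 (iv D12387)
theorem F27617 : act 5 n15969 = n12056 := d9_2 D12055 D15969 (iv D12056) (iv D9956) D9955
def n15970 : Q := act 0 n12056
theorem D15970 : act 0 n12056 = n15970 := rfl
theorem F27618 : act 4 n15970 = n12388 := d3_2 (iv F21293) D15970 (iv D12388)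
theorem F27619 : act 6 n12238 = n15970 := d19_0 F27618 (iv F22097) (iv F21578)
def n15971 : Q := act 2 n12056
theorem D15971 : act 2 n12056 = n15971 := rfl
theorem F27620 : act 4 n15971 = n12389 := d12_2 (iv F21293) D15971 (iv D12389)
def n15972 : Q := act 6 n12056
theorem D15972 : act 6 n12056 = n15972 := rfl
theorem F27621 : act 0 n15972 = n12238 := d5_1 D15972 F27619 (iv D15970)
theorem F27622 : act 1 n15972 = n15932 := d10_1 D15972 (iv D15932) (iv D12036) (iv F17696) D12056
theorem F27623 : act 4 n15972 = n12390 := d19_1 D15972 (iv D12390) (iv F21293)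
def n15973 : Q := act 1 n12057
theorem D15973 : act 1 n12057 = n15973 := rfl
theorem F27624 : act 0 n15973 = n15973 := d0_1 D15973 (iv D15973) (iv D12057) (iv D9957) F7821 F3907 (iv F7821) D9957 D12057
def n15974 : Q := act 3 n12057
theorem D15974 : act 3 n12057 = n15974 := rfl
theorem F27625 : act 0 n15974 = n12058 := d2_1 D15974 (iv D12058) D12057
theorem F27626 : act 2 n15974 = n15974 := d11_1 D15974 (iv D15974) F23961 (iv D13653) (iv F19236) D10831 (iv F19238) D12058 F21296 (iv D12058) F19238 (iv D10831) F19236 D13653 (iv F23961)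
theorem F27627 : act 4 n15974 = n15974 := d15_2 F25964 D15974 (iv D15974) (iv F25964) F25963
def n15975 : Q := act 5 n12057
theorem D15975 : act 5 n12057 = n15975 := rfl
theorem F27628 : act 0 n15975 = n12059 := d4_1 D15975 (iv D12059) D12057
def n15976 : Q := act 6 n12057
theorem D15976 : act 6 n12057 = n15976 := rfl
theorem F27629 : act 0 n15976 = n12060 := d5_1 D15976 (iv D12060) D12057
def n15977 : Q := act 5 n12058
theorem D15977 : act 5 n12058 = n15977 := rfl
theorem F27630 : act 2 n15977 = n15977 := d13_1 D15977 (iv D15977) F21296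
theorem F27631 : act 3 n15977 = n12059 := d16_1 D15977 (iv D12059) D12058
theorem F27632 : act 4 n15977 = n15977 := d18_1 D15977 (iv D15977) F21295
def n15978 : Q := act 6 n12058
theorem D15978 : act 6 n12058 = n15978 := rfl
theorem F27633 : act 2 n15978 = n15978 := d14_1 D15978 (iv D15978) F21296
theorem F27634 : act 3 n15978 = n12060 := d17_1 D15978 (iv D12060) D12058
theorem F27635 : act 4 n15978 = n15978 := d19_1 D15978 (iv D15978) F21295
def n15979 : Q := act 1 n12059
theorem D15979 : act 1 n12059 = n15979 := rfl
theorem F27636 : act 5 n15979 = n12063 := d9_2 D12059 D15979 (iv D12063) (iv D9959) D9957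
def n15980 : Q := act 6 n12059
theorem D15980 : act 6 n12059 = n15980 := rfl
theorem F27637 : act 5 n15980 = n15976 := d22_2 D12059 D15980 (iv D15976) (iv D12057)
def n15981 : Q := act 1 n12060
theorem D15981 : act 1 n12060 = n15981 := rfl
theorem F27638 : act 6 n15981 = n12064 := d10_2 D12060 D15981 (iv D12064) (iv D9960) D9957
def n15982 : Q := act 5 n12060
theorem D15982 : act 5 n12060 = n15982 := rfl
theorem F27639 : act 0 n15982 = n15980 := d4_1 D15982 F27637 F27629
theorem F27640 : act 6 n15982 = n15975 := d20_2 D12060 D15982 (iv D15975) D15976 (iv F27637) (iv D15980) (iv D12059)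
def n15983 : Q := act 1 n12061
theorem D15983 : act 1 n12061 = n15983 := rfl
theorem F27641 : act 3 n15983 = n12063 := d7_2 (iv F21299) D15983 (iv D12063)
theorem F27642 : act 4 n15983 = n15983 := d8_2 F21300 D15983 (iv D15983)
def n15984 : Q := act 1 n12062
theorem D15984 : act 1 n12062 = n15984 := rfl
theorem F27643 : act 3 n15984 = n12064 := d7_2 (iv F21303) D15984 (iv D12064)
theorem F27644 : act 4 n15984 = n15984 := d8_2 F21304 D15984 (iv D15984)
def n15985 : Q := act 0 n12063
theorem D15985 : act 0 n12063 = n15985 := rfl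
theorem F27645 : act 1 n15985 = n15985 := d0_2 D12063 D15985 (iv D15985) (iv D12063) F17704 D9971 F23995 (iv D9971) (iv F17704)
def n15986 : Q := act 2 n12063
theorem D15986 : act 2 n12063 = n15986 := rfl
theorem F27646 : act 1 n15986 = n12066 := d6_1 D15986 (iv D12066) (iv D9961) (iv F17705) D12063
def n15987 : Q := act 6 n12063
theorem D15987 : act 6 n12063 = n15987 := rfl
def n15988 : Q := act 0 n12064
theorem D15988 : act 0 n12064 = n15988 := rfl
def n15989 : Q := act 2 n12064
theorem D15989 : act 2 n12064 = n15989 := rfl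
theorem F27647 : act 1 n15989 = n12069 := d6_1 D15989 (iv D12069) (iv D9962) (iv F17707) D12064
def n15990 : Q := act 5 n12064
theorem D15990 : act 5 n12064 = n15990 := rfl
def n15991 : Q := act 1 n12065
theorem D15991 : act 1 n12065 = n15991 := rfl
theorem F27648 : act 3 n15991 = n12071 := d7_2 (iv F21305) D15991 (iv D12071)
def n15992 : Q := act 2 n12065
theorem D15992 : act 2 n12065 = n15992 := rfl
theorem F27649 : act 0 n15992 = n12066 := d1_1 D15992 (iv D12066) D12065
def n15993 : Q := act 6 n12065
theorem D15993 : act 6 n12065 = n15993 := rfl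
theorem F27650 : act 0 n15993 = n12067 := d5_1 D15993 (iv D12067) D12065
theorem F27651 : act 3 n15993 = n12073 := d17_1 D15993 (iv D12073) (iv F21305)
theorem F27652 : act 5 n15993 = n15951 := d22_2 F27580 D15993 (iv D15951) D15949
def n15994 : Q := act 3 n12066
theorem D15994 : act 3 n12066 = n15994 := rfl
def n15995 : Q := act 6 n12066
theorem D15995 : act 6 n12066 = n15995 := rfl
theorem F27653 : act 2 n15995 = n12067 := d14_1 D15995 (iv D12067) D12066
def n15996 : Q := act 5 n12067
theorem D15996 : act 5 n12067 = n15996 := rfl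
theorem F27654 : act 0 n15996 = n15951 := d4_1 D15996 (iv F27652) F27650
theorem F27655 : act 3 n15996 = n12076 := d16_1 D15996 (iv D12076) (iv F21306)
theorem F27656 : act 6 n15996 = n15949 := d20_2 D12067 D15996 F27580 D15993 F27652 (iv D15951) F21272
def n15997 : Q := act 1 n12068
theorem D15997 : act 1 n12068 = n15997 := rfl
theorem F27657 : act 3 n15997 = n12077 := d7_2 (iv F21307) D15997 (iv D12077)
def n15998 : Q := act 2 n12068
theorem D15998 : act 2 n12068 = n15998 := rfl
theorem F27658 : act 0 n15998 = n12069 := d1_1 D15998 (iv D12069) D12068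
def n15999 : Q := act 5 n12068
theorem D15999 : act 5 n12068 = n15999 := rfl
theorem F27659 : act 0 n15999 = n12070 := d4_1 D15999 (iv D12070) D12068
theorem F27660 : act 3 n15999 = n12079 := d16_1 D15999 (iv D12079) (iv F21307)
theorem F27661 : act 6 n15999 = n15955 := d22_1 D15999 (iv D15955) F21277 D12068
def n16000 : Q := act 3 n12069
theorem D16000 : act 3 n12069 = n16000 := rfl
def n16001 : Q := act 5 n12069
theorem D16001 : act 5 n12069 = n16001 := rfl
theorem F27662 : act 2 n16001 = n12070 := d13_1 D16001 (iv D12070) D12069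
def n16002 : Q := act 6 n12070
theorem D16002 : act 6 n12070 = n16002 := rfl
theorem F27663 : act 0 n16002 = n15955 := d5_1 D16002 (iv F27661) F27659
theorem F27664 : act 3 n16002 = n12082 := d17_1 D16002 (iv D12082) (iv F21308)
theorem F27665 : act 5 n16002 = n15953 := d20_1 D16002 F27585 D15999 F27661 (iv D15955) F21277 D12070
def n16003 : Q := act 5 n12071
theorem D16003 : act 5 n12071 = n16003 := rfl
theorem F27666 : act 0 n16003 = n14939 := d4_1 D16003 F25985 F25093
theorem F27667 : act 1 n16003 = n14972 := d9_1 D16003 F27591 (iv D15957) F21283 D12071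
theorem F27668 : act 4 n16003 = n12393 := d18_1 D16003 (iv D12393) (iv F21309)
def n16004 : Q := act 6 n12071
theorem D16004 : act 6 n12071 = n16004 := rfl
theorem F27669 : act 4 n16004 = n12394 := d19_1 D16004 (iv D12394) (iv F21309)
def n16005 : Q := act 1 n12072
theorem D16005 : act 1 n12072 = n16005 := rfl
theorem F27670 : act 4 n16005 = n12395 := d8_2 (iv F21311) D16005 (iv D12395)
theorem F27671 : act 5 n16005 = n12299 := d9_2 F27594 D16005 (iv D12299) D12300 (iv F27595)
def n16006 : Q := act 3 n12072
theorem D16006 : act 3 n12072 = n16006 := rfl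
theorem F27672 : act 0 n16006 = n12074 := d2_1 D16006 (iv D12074) (iv F21310)
def n16007 : Q := act 6 n12072
theorem D16007 : act 6 n12072 = n16007 := rfl
theorem F27673 : act 0 n16007 = n12075 := d5_1 D16007 (iv D12075) (iv F21310)
theorem F27674 : act 2 n16007 = n12073 := d14_1 D16007 (iv D12073) D12072
theorem F27675 : act 4 n16007 = n12397 := d19_1 D16007 (iv D12397) (iv F21311)
theorem F27676 : act 5 n16007 = n15960 := d22_2 F27594 D16007 (iv D15960) (iv F27592)
def n16008 : Q := act 1 n12073
theorem D16008 : act 1 n12073 = n16008 := rfl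
theorem F27677 : act 4 n16008 = n12398 := d8_2 (iv F21313) D16008 (iv D12398)
theorem F27678 : act 5 n12286 = n16008 := d18_0 F27677 (iv F22106) (iv F21661)
def n16009 : Q := act 2 n12074
theorem D16009 : act 2 n12074 = n16009 := rfl
def n16010 : Q := act 4 n12074
theorem D16010 : act 4 n12074 = n16010 := rfl
theorem F27679 : act 1 n16010 = n16010 := d8_1 D16010 (iv D16010) F21315
theorem F27680 : act 3 n16010 = n12399 := d15_1 D16010 (iv D12399) (iv D10121) (iv F17712) D12074
def n16011 : Q := act 6 n12074
theorem D16011 : act 6 n12074 = n16011 := rfl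
theorem F27681 : act 3 n16011 = n12075 := d17_1 D16011 (iv D12075) D12074
def n16012 : Q := act 1 n12075
theorem D16012 : act 1 n12075 = n16012 := rfl
theorem F27682 : act 4 n16012 = n12401 := d8_2 (iv F21317) D16012 (iv D12401)
theorem F27683 : act 6 n16012 = n16012 := d10_2 D12075 D16012 (iv D16012) (iv D12075) F17711
def n16013 : Q := act 5 n12075
theorem D16013 : act 5 n12075 = n16013 := rfl
theorem F27684 : act 0 n16013 = n15960 := d4_1 D16013 (iv F27676) F27673
theorem F27685 : act 2 n16013 = n12076 := d13_1 D16013 (iv D12076) (iv F21316)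
theorem F27686 : act 4 n16013 = n12402 := d18_1 D16013 (iv D12402) (iv F21317)
theorem F27687 : act 6 n16013 = n15958 := d20_2 D12075 D16013 F27594 D16007 F27676 (iv D15960) F21285
def n16014 : Q := act 0 n12077
theorem D16014 : act 0 n12077 = n16014 := rfl
theorem F27688 : act 1 n16014 = n12128 := d0_2 D12077 D16014 (iv D12128) (iv D9991) (iv D5161) (iv D2490) (iv F3904) D5149 D9966
theorem F27689 : act 4 n16014 = n12404 := d3_2 (iv F21321) D16014 (iv D12404)
theorem F27690 : act 6 n14943 = n16014 := d19_0 F27689 (iv F22070) (iv F25997)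
def n16015 : Q := act 2 n12077
theorem D16015 : act 2 n12077 = n16015 := rfl
theorem F27691 : act 4 n16015 = n12405 := d12_2 (iv F21321) D16015 (iv D12405)
def n16016 : Q := act 5 n12077
theorem D16016 : act 5 n12077 = n16016 := rfl
theorem F27692 : act 4 n16016 = n12406 := d18_1 D16016 (iv D12406) (iv F21321)
def n16017 : Q := act 6 n12077
theorem D16017 : act 6 n12077 = n16017 := rfl
theorem F27693 : act 0 n16017 = n14943 := d5_1 D16017 F27690 (iv D16014)
theorem F27694 : act 1 n16017 = n14991 := d10_1 D16017 F27609 (iv D15965) F21289 D12077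
theorem F27695 : act 4 n16017 = n12407 := d19_1 D16017 (iv D12407) (iv F21321)
def n16018 : Q := act 1 n12078
theorem D16018 : act 1 n12078 = n16018 := rfl
theorem F27696 : act 4 n16018 = n12408 := d8_2 (iv F21323) D16018 (iv D12408)
def n16019 : Q := act 3 n12078
theorem D16019 : act 3 n12078 = n16019 := rfl
theorem F27697 : act 0 n16019 = n12080 := d2_1 D16019 (iv D12080) (iv F21322)
def n16020 : Q := act 5 n12078
theorem D16020 : act 5 n12078 = n16020 := rfl
theorem F27698 : act 0 n16020 = n12081 := d4_1 D16020 (iv D12081) (iv F21322)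
theorem F27699 : act 2 n16020 = n12079 := d13_1 D16020 (iv D12079) D12078
theorem F27700 : act 4 n16020 = n12410 := d18_1 D16020 (iv D12410) (iv F21323)
theorem F27701 : act 6 n16020 = n15968 := d22_1 D16020 (iv D15968) F21291 (iv F21322)
def n16021 : Q := act 1 n12079
theorem D16021 : act 1 n12079 = n16021 := rfl
theorem F27702 : act 4 n16021 = n12411 := d8_2 (iv F21325) D16021 (iv D12411)
theorem F27703 : act 6 n12233 = n16021 := d19_0 F27702 (iv F22099) (iv F21570)
def n16022 : Q := act 2 n12080
theorem D16022 : act 2 n12080 = n16022 := rfl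
def n16023 : Q := act 4 n12080
theorem D16023 : act 4 n12080 = n16023 := rfl
theorem F27704 : act 1 n16023 = n16023 := d8_1 D16023 (iv D16023) F21327
theorem F27705 : act 3 n16023 = n12413 := d15_1 D16023 (iv D12413) (iv D10127) (iv F17716) D12080
def n16024 : Q := act 5 n12080
theorem D16024 : act 5 n12080 = n16024 := rfl
theorem F27706 : act 3 n16024 = n12081 := d16_1 D16024 (iv D12081) D12080
def n16025 : Q := act 1 n12081
theorem D16025 : act 1 n12081 = n16025 := rfl
theorem F27707 : act 4 n16025 = n12415 := d8_2 (iv F21329) D16025 (iv D12415)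
theorem F27708 : act 5 n16025 = n16025 := d9_2 D12081 D16025 (iv D16025) (iv D12081) F17715
def n16026 : Q := act 6 n12081
theorem D16026 : act 6 n12081 = n16026 := rfl
theorem F27709 : act 0 n16026 = n15968 := d5_1 D16026 (iv F27701) F27698
theorem F27710 : act 2 n16026 = n12082 := d14_1 D16026 (iv D12082) (iv F21328)
theorem F27711 : act 4 n16026 = n12416 := d19_1 D16026 (iv D12416) (iv F21329)
theorem F27712 : act 5 n16026 = n15966 := d20_1 D16026 F27612 D16020 F27701 (iv D15968) F21291 D12081
def n16027 : Q := act 2 n12083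
theorem D16027 : act 2 n12083 = n16027 := rfl
theorem F27713 : act 0 n16027 = n16027 := d1_1 D16027 (iv D16027) F23996
theorem F27714 : act 4 n16027 = n16027 := d12_2 F21334 D16027 (iv D16027)
theorem F27715 : act 5 n16027 = n16027 := d13_2 F21335 D16027 (iv D16027)
def n16028 : Q := act 6 n12083
theorem D16028 : act 6 n12083 = n16028 := rfl
theorem F27717 : act 3 n16028 = n12089 := d17_1 D16028 (iv D12089) (iv F21333)
def n16029 : Q := act 1 n12084
theorem D16029 : act 1 n12084 = n16029 := rfl
theorem F27720 : act 3 n16029 = n12090 := d7_2 (iv F21336) D16029 (iv D12090)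
theorem F27721 : act 4 n16029 = n16029 := d8_2 F21337 D16029 (iv D16029)
def n16030 : Q := act 0 n12085
theorem D16030 : act 0 n12085 = n16030 := rfl
theorem F27722 : act 3 n16030 = n12091 := d2_2 (iv F21339) D16030 (iv D12091)
def n16031 : Q := act 2 n12085
theorem D16031 : act 2 n12085 = n16031 := rfl
theorem F27725 : act 4 n16031 = n16031 := d12_2 F21340 D16031 (iv D16031)
theorem F27726 : act 6 n16031 = n16031 := d14_2 F21341 D16031 (iv D16031)
def n16032 : Q := act 5 n12085
theorem D16032 : act 5 n12085 = n16032 := rfl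
theorem F27727 : act 3 n16032 = n12093 := d16_1 D16032 (iv D12093) (iv F21339)
def n16033 : Q := act 1 n12086
theorem D16033 : act 1 n12086 = n16033 := rfl
theorem F27729 : act 3 n16033 = n12094 := d7_2 (iv F21344) D16033 (iv D12094)
theorem F27730 : act 4 n16033 = n16033 := d8_2 F21345 D16033 (iv D16033)
def n16034 : Q := act 3 n12088
theorem D16034 : act 3 n12088 = n16034 := rfl
theorem F27731 : act 0 n16034 = n16034 := d2_1 D16034 (iv D16034) F23994
theorem F27732 : act 1 n16034 = n12097 := d7_1 D16034 (iv D12097) (iv F21348)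
theorem F27733 : act 5 n16034 = n16034 := d16_2 F21349 D16034 (iv D16034)
def n16035 : Q := act 6 n12088
theorem D16035 : act 6 n12088 = n16035 := rfl
theorem F27734 : act 0 n16035 = n16035 := d5_1 D16035 (iv D16035) F23994
theorem F27735 : act 2 n16035 = n12089 := d14_1 D16035 (iv D12089) D12088
theorem F27736 : act 5 n16035 = n16035 := d22_2 F21349 D16035 (iv D16035) F23994
def n16036 : Q := act 1 n12089
theorem D16036 : act 1 n12089 = n16036 := rfl
theorem F27737 : act 6 n16036 = n12090 := d10_2 D12089 D16036 (iv D12090) (iv D9972) D9971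
def n16037 : Q := act 0 n12090
theorem D16037 : act 0 n12090 = n16037 := rfl
def n16038 : Q := act 2 n12090
theorem D16038 : act 2 n12090 = n16038 := rfl
theorem F27738 : act 1 n16038 = n12101 := d6_1 D16038 (iv D12101) (iv D9978) (iv F17723) D12090
def n16039 : Q := act 5 n12090
theorem D16039 : act 5 n12090 = n16039 := rfl
theorem F27739 : act 1 n16039 = n15990 := d9_1 D16039 (iv D15990) (iv D12064) (iv F17724) D12090
def n16041 : Q := act 2 n12091
theorem D16041 : act 2 n12091 = n16041 := rfl
theorem F27740 : act 0 n16041 = n12092 := d1_1 D16041 (iv D12092) D12091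
def n16042 : Q := act 5 n12091
theorem D16042 : act 5 n12091 = n16042 := rfl
theorem F27742 : act 0 n16042 = n12093 := d4_1 D16042 (iv D12093) D12091
theorem F27743 : act 6 n16042 = n12093 := d22_1 D16042 (iv D12093) F17725 D12091
def n16043 : Q := act 3 n12092
theorem D16043 : act 3 n12092 = n16043 := rfl
theorem F27744 : act 1 n16043 = n12105 := d7_1 D16043 (iv D12105) (iv F21351)
theorem F27745 : act 6 n16043 = n16043 := d17_2 F21352 D16043 (iv D16043)
def n16044 : Q := act 5 n12092
theorem D16044 : act 5 n12092 = n16044 := rfl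
theorem F27746 : act 2 n16044 = n12093 := d13_1 D16044 (iv D12093) D12092
def n16045 : Q := act 1 n12093
theorem D16045 : act 1 n12093 = n16045 := rfl
theorem F27747 : act 5 n16045 = n12094 := d9_2 D12093 D16045 (iv D12094) (iv D9974) D9973
def n16046 : Q := act 0 n12094
theorem D16046 : act 0 n12094 = n16046 := rfl
def n16047 : Q := act 2 n12094
theorem D16047 : act 2 n12094 = n16047 := rfl
theorem F27748 : act 1 n16047 = n12109 := d6_1 D16047 (iv D12109) (iv D9982) (iv F17727) D12094
def n16048 : Q := act 6 n12094
theorem D16048 : act 6 n12094 = n16048 := rfl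
theorem F27749 : act 1 n16048 = n15987 := d10_1 D16048 (iv D15987) (iv D12063) (iv F17728) D12094
def n16049 : Q := act 2 n12095
theorem D16049 : act 2 n12095 = n16049 := rfl
theorem F27750 : act 3 n16049 = n14504 := d21_1 D16049 (iv D14504) (iv D11285) (iv D8935) (iv F13368) D11275 D14479 F25287
theorem F27751 : act 1 n15049 = n16049 := d7_3 F27750 F25325 D15049
theorem F27752 : act 1 n12096 = n15013 := d6_5 (iv F26208) F27751 (iv D16049) (iv D12095) D12096
theorem F27753 : act 3 n15012 = n12096 := d7_0 F27752 (iv D15013) D15012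
theorem F27754 : act 0 n12097 = n15012 := d2_3 F27753 F21354 D12097
theorem F27755 : act 5 n12152 = n15012 := d16_0 F27753 F21355 D12152
def n16050 : Q := act 5 n12095
theorem D16050 : act 5 n12095 = n16050 := rfl
theorem F27756 : act 1 n16050 = n12149 := d9_1 D16050 (iv D12149) (iv D9999) (iv F17730) D12095
theorem F27757 : act 3 n16050 = n12111 := d16_1 D16050 (iv D12111) (iv F21353)
def n16051 : Q := act 6 n12095
theorem D16051 : act 6 n12095 = n16051 := rfl
theorem F27758 : act 3 n16051 = n12112 := d17_1 D16051 (iv D12112) (iv F21353)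
def n16052 : Q := act 2 n12097
theorem D16052 : act 2 n12097 = n16052 := rfl
theorem F27759 : act 5 n16052 = n12155 := d13_2 (iv F21356) D16052 (iv D12155)
def n16053 : Q := act 4 n12097
theorem D16053 : act 4 n12097 = n16053 := rfl
theorem F27760 : act 0 n16053 = n12151 := d3_1 D16053 (iv F26129) (iv F27754)
theorem F27761 : act 5 n16053 = n12156 := d18_2 (iv F21356) D16053 (iv D12156)
def n16054 : Q := act 6 n12097
theorem D16054 : act 6 n12097 = n16054 := rfl
theorem F27762 : act 3 n16054 = n12098 := d17_1 D16054 (iv D12098) D12097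
def n16055 : Q := act 1 n12098
theorem D16055 : act 1 n12098 = n16055 := rfl
def n16056 : Q := act 0 n12099
theorem D16056 : act 0 n12099 = n16056 := rfl
theorem F27763 : act 3 n16056 = n12119 := d2_2 (iv F21358) D16056 (iv D12119)
theorem F27764 : act 6 n16056 = n12100 := d5_2 (iv F21359) D16056 (iv D12100)
def n16057 : Q := act 2 n12099
theorem D16057 : act 2 n12099 = n16057 := rfl
theorem F27765 : act 6 n16057 = n12101 := d14_2 (iv F21359) D16057 (iv D12101)
def n16058 : Q := act 5 n12099
theorem D16058 : act 5 n12099 = n16058 := rfl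
theorem F27766 : act 3 n16058 = n12121 := d16_1 D16058 (iv D12121) (iv F21358)
def n16059 : Q := act 1 n12100
theorem D16059 : act 1 n12100 = n16059 := rfl
theorem F27767 : act 3 n16059 = n12122 := d7_2 (iv F21360) D16059 (iv D12122)
def n16060 : Q := act 2 n12100
theorem D16060 : act 2 n12100 = n16060 := rfl
theorem F27768 : act 0 n16060 = n12101 := d1_1 D16060 (iv D12101) D12100
def n16061 : Q := act 5 n12100
theorem D16061 : act 5 n12100 = n16061 := rfl
theorem F27769 : act 0 n16061 = n12102 := d4_1 D16061 (iv D12102) D12100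
theorem F27770 : act 3 n16061 = n12124 := d16_1 D16061 (iv D12124) (iv F21360)
theorem F27771 : act 6 n16061 = n16058 := d22_1 D16061 (iv D16058) F21359 D12100
def n16062 : Q := act 3 n12101
theorem D16062 : act 3 n12101 = n16062 := rfl
def n16063 : Q := act 5 n12101
theorem D16063 : act 5 n12101 = n16063 := rfl
theorem F27772 : act 2 n16063 = n12102 := d13_1 D16063 (iv D12102) D12101
def n16064 : Q := act 6 n12102
theorem D16064 : act 6 n12102 = n16064 := rfl
theorem F27773 : act 0 n16064 = n16058 := d5_1 D16064 (iv F27771) F27769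
theorem F27774 : act 3 n16064 = n12127 := d17_1 D16064 (iv D12127) (iv F21362)
theorem F27775 : act 5 n16064 = n16056 := d20_1 D16064 F27764 D16061 F27771 (iv D16058) F21359 D12102
def n16065 : Q := act 0 n12103
theorem D16065 : act 0 n12103 = n16065 := rfl
theorem F27776 : act 3 n16065 = n12128 := d2_2 (iv F21363) D16065 (iv D12128)
def n16066 : Q := act 2 n12103
theorem D16066 : act 2 n12103 = n16066 := rfl
def n16067 : Q := act 5 n12103
theorem D16067 : act 5 n12103 = n16067 := rfl
theorem F27777 : act 3 n16067 = n12130 := d16_1 D16067 (iv D12130) (iv F21363)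
def n16068 : Q := act 6 n12103
theorem D16068 : act 6 n12103 = n16068 := rfl
theorem F27778 : act 1 n16068 = n12173 := d10_1 D16068 (iv D12173) (iv D10009) (iv F17735) D12103
theorem F27779 : act 3 n16068 = n12131 := d17_1 D16068 (iv D12131) (iv F21363)
def n16069 : Q := act 1 n12104
theorem D16069 : act 1 n12104 = n16069 := rfl
def n16070 : Q := act 3 n12104
theorem D16070 : act 3 n12104 = n16070 := rfl
theorem F27780 : act 0 n16070 = n12105 := d2_1 D16070 (iv D12105) (iv F21364)
theorem F27781 : act 6 n16070 = n12175 := d17_2 (iv F21365) D16070 (iv D12175)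
def n16071 : Q := act 2 n12105
theorem D16071 : act 2 n12105 = n16071 := rfl
theorem F27782 : act 6 n16071 = n12178 := d14_2 (iv F21366) D16071 (iv D12178)
def n16072 : Q := act 4 n12105
theorem D16072 : act 4 n12105 = n16072 := rfl
theorem F27783 : act 6 n16072 = n12179 := d19_2 (iv F21366) D16072 (iv D12179)
def n16073 : Q := act 5 n12105
theorem D16073 : act 5 n12105 = n16073 := rfl
theorem F27784 : act 3 n16073 = n12106 := d16_1 D16073 (iv D12106) D12105
def n16074 : Q := act 1 n12106
theorem D16074 : act 1 n12106 = n16074 := rfl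
def n16075 : Q := act 0 n12107
theorem D16075 : act 0 n12107 = n16075 := rfl
theorem F27785 : act 3 n16075 = n12138 := d2_2 (iv F21368) D16075 (iv D12138)
theorem F27786 : act 5 n16075 = n12108 := d4_2 (iv F21369) D16075 (iv D12108)
def n16076 : Q := act 2 n12107
theorem D16076 : act 2 n12107 = n16076 := rfl
theorem F27787 : act 5 n16076 = n12109 := d13_2 (iv F21369) D16076 (iv D12109)
def n16077 : Q := act 6 n12107
theorem D16077 : act 6 n12107 = n16077 := rfl
theorem F27788 : act 3 n16077 = n12140 := d17_1 D16077 (iv D12140) (iv F21368)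
def n16078 : Q := act 1 n12108
theorem D16078 : act 1 n12108 = n16078 := rfl
theorem F27789 : act 3 n16078 = n12141 := d7_2 (iv F21370) D16078 (iv D12141)
def n16079 : Q := act 2 n12108
theorem D16079 : act 2 n12108 = n16079 := rfl
theorem F27790 : act 0 n16079 = n12109 := d1_1 D16079 (iv D12109) D12108
def n16080 : Q := act 6 n12108
theorem D16080 : act 6 n12108 = n16080 := rfl
theorem F27791 : act 0 n16080 = n12110 := d5_1 D16080 (iv D12110) D12108
theorem F27792 : act 3 n16080 = n12143 := d17_1 D16080 (iv D12143) (iv F21370)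
theorem F27793 : act 5 n16080 = n16077 := d22_2 F27786 D16080 (iv D16077) D16075
def n16081 : Q := act 3 n12109
theorem D16081 : act 3 n12109 = n16081 := rfl
def n16082 : Q := act 6 n12109
theorem D16082 : act 6 n12109 = n16082 := rfl
theorem F27794 : act 2 n16082 = n12110 := d14_1 D16082 (iv D12110) D12109
def n16083 : Q := act 5 n12110
theorem D16083 : act 5 n12110 = n16083 := rfl
theorem F27795 : act 0 n16083 = n16077 := d4_1 D16083 (iv F27793) F27791
theorem F27796 : act 3 n16083 = n12146 := d16_1 D16083 (iv D12146) (iv F21372)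
theorem F27797 : act 6 n16083 = n16075 := d20_2 D12110 D16083 F27786 D16080 F27793 (iv D16077) F21369
def n16084 : Q := act 6 n12111
theorem D16084 : act 6 n12111 = n16084 := rfl
theorem F27798 : act 2 n16084 = n14482 := d14_1 D16084 F25295 (iv F25216)
theorem F27799 : act 4 n16084 = n12421 := d19_1 D16084 (iv D12421) (iv F21374)
theorem F27800 : act 5 n16084 = n14480 := d22_2 D12111 D16084 (iv D14480) (iv F20102)
def n16085 : Q := act 5 n12112
theorem D16085 : act 5 n12112 = n16085 := rfl
theorem F27801 : act 0 n16085 = n16084 := d4_1 D16085 F27800 F25288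
theorem F27802 : act 2 n16085 = n14451 := d13_1 D16085 (iv F25286) F25283
theorem F27803 : act 4 n16085 = n12422 := d18_1 D16085 (iv D12422) (iv F21375)
theorem F27804 : act 6 n16085 = n14450 := d20_2 D12112 D16085 F25220 D14480 (iv F27800) (iv D16084) (iv D12111)
def n16086 : Q := act 0 n12113
theorem D16086 : act 0 n12113 = n16086 := rfl
theorem F27805 : act 4 n16086 = n12423 := d3_2 (iv F21376) D16086 (iv D12423)
def n16087 : Q := act 3 n12113
theorem D16087 : act 3 n12113 = n16087 := rfl
theorem F27806 : act 1 n16087 = n12114 := d7_1 D16087 (iv D12114) D12113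
def n16088 : Q := act 5 n12113
theorem D16088 : act 5 n12113 = n16088 := rfl
theorem F27807 : act 1 n16088 = n12204 := d9_1 D16088 (iv D12204) (iv D10023) (iv F17742) D12113
theorem F27808 : act 4 n16088 = n12425 := d18_1 D16088 (iv D12425) (iv F21376)
def n16089 : Q := act 6 n12113
theorem D16089 : act 6 n12113 = n16089 := rfl
theorem F27809 : act 4 n16089 = n12426 := d19_1 D16089 (iv D12426) (iv F21376)
def n16090 : Q := act 2 n12114
theorem D16090 : act 2 n12114 = n16090 := rfl
theorem F27810 : act 0 n16090 = n12115 := d1_1 D16090 (iv D12115) (iv F21377)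
theorem F27811 : act 5 n16090 = n12206 := d13_2 (iv F21378) D16090 (iv D12206)
theorem F27812 : act 3 n16090 = n16052 := d21_1 D16090 (iv D16052) (iv D12097) (iv D9976) F7831 D5158 D9985 (iv F21377)
def n16091 : Q := act 4 n12114
theorem D16091 : act 4 n12114 = n16091 := rfl
theorem F27813 : act 0 n16091 = n12116 := d3_1 D16091 (iv D12116) (iv F21377)
theorem F27814 : act 3 n16091 = n12428 := d15_1 D16091 (iv D12428) (iv D10135) (iv F17741) D12114
theorem F27815 : act 5 n16091 = n12207 := d18_2 (iv F21378) D16091 (iv D12207)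
def n16092 : Q := act 1 n12115
theorem D16092 : act 1 n12115 = n16092 := rfl
def n16093 : Q := act 3 n12115
theorem D16093 : act 3 n12115 = n16093 := rfl
theorem F27817 : act 0 n16093 = n16052 := d2_1 D16093 (iv F27812) F27810
theorem F27818 : act 2 n16093 = n15012 := d11_1 D16093 F27753 (iv D12096) F17729 D9984 D12114 D16090 F27812 (iv D16052) (iv D12097) (iv D9976) F7831 D5158 D9985 D12115
theorem F27819 : act 5 n16093 = n12214 := d16_2 (iv F21379) D16093 (iv D12214)
theorem F27820 : act 1 n13321 = n16093 := d6_5 F27818 (iv D15012) (iv D11538) D11537 F23420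
theorem F27821 : act 4 n13696 = n16093 := d12_0 F27818 F26129 (iv F24040)
theorem E7023 : n13327 = n12115 := ((c15_2 F27821 (iv D16093) F23458 F18949 (iv F19283) (iv F24041))).symm
theorem E7024 : n16092 = n10658 := ((D16092).symm.trans (sb E7023 (iv D13327)))
theorem F27822 : act 4 n12115 = n10674 := (sb E7023 F23458)
theorem F27823 : act 1 n10658 = n12115 := (sb E7024 (iv D16092))
theorem F27824 : act 1 n16090 = n13712 := d0_2 F27823 (iv F27810) (iv D13712) (iv D10860) (iv D8010) (iv D3832) (iv F5090) D6809 D10658
theorem F27825 : act 4 n13358 = n16090 := d8_0 F27824 F24079 (iv F23515)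
theorem F27826 : act 2 n16091 = n13358 := d12_3 F27825 (iv D16090) D16091
theorem E7025 : n13359 = n12116 := (c1_3 F27826 (iv D13358) D13359 (iv F27813))
theorem F27827 : act 2 n12116 = n10674 := (sb E7025 (iv D13359))
theorem F27828 : act 1 n13992 = n16091 := d6_5 F27826 F23515 D13896 (iv F24396) (iv F24487)
theorem F27829 : act 4 n16087 = n13992 := d8_0 F27828 (iv D16091) (iv F27806)
theorem F27830 : act 0 n13756 = n16087 := d3_3 F27829 (iv D13992) (iv F24158)
theorem F27831 : act 2 n13758 = n16087 := d12_3 F27829 F24487 (iv F24163)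
theorem F27832 : act 3 n16086 = n13756 := d2_0 F27830 (iv D16087) D16086
theorem F27833 : act 1 n13757 = n16086 := d7_3 F27832 (iv D13756) D13757
theorem E7026 : n13360 = n12215 := (c13_3 (iv F21382) F27827 D13360 F21542)
theorem F27834 : act 3 n12215 = n10960 := (sb E7026 F23518)
theorem F27835 : act 5 n12215 = n10674 := (sb E7026 (iv D13360))
def n16094 : Q := act 6 n12115
theorem D16094 : act 6 n12115 = n16094 := rfl
theorem F27836 : act 2 n16094 = n12117 := d14_1 D16094 (iv D12117) D12115
theorem F27837 : act 4 n16094 = n13361 := d19_1 D16094 (iv D13361) (iv F27822)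
def n16095 : Q := act 6 n12116
theorem D16095 : act 6 n12116 = n16095 := rfl
theorem F27838 : act 2 n16095 = n13361 := d14_1 D16095 (iv D13361) (iv F27827)
theorem F27839 : act 3 n16095 = n12433 := d17_1 D16095 (iv D12433) (iv F21381)
theorem F27840 : act 4 n16095 = n12117 := d19_1 D16095 (iv D12117) D12116
def n16096 : Q := act 1 n12117
theorem D16096 : act 1 n12117 = n16096 := rfl
theorem F27841 : act 3 n16096 = n12118 := d7_2 (iv F21383) D16096 (iv D12118)
theorem F27842 : act 6 n16096 = n16096 := d10_2 D12117 D16096 (iv D16096) (iv D12117) F17743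
def n16097 : Q := act 0 n12118
theorem D16097 : act 0 n12118 = n16097 := rfl
theorem F27843 : act 4 n16097 = n12435 := d3_2 (iv F21384) D16097 (iv D12435)
def n16098 : Q := act 2 n12118
theorem D16098 : act 2 n12118 = n16098 := rfl
theorem F27845 : act 1 n16098 = n12120 := d6_1 D16098 (iv D12120) (iv D9987) (iv F17745) D12118
theorem F27846 : act 4 n16098 = n12436 := d12_2 (iv F21384) D16098 (iv D12436)
theorem F27847 : act 6 n16098 = n16098 := d14_2 F21385 D16098 (iv D16098)
def n16099 : Q := act 5 n12118
theorem D16099 : act 5 n12118 = n16099 := rfl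
theorem F27848 : act 4 n16099 = n12437 := d18_1 D16099 (iv D12437) (iv F21384)
def n16100 : Q := act 1 n12119
theorem D16100 : act 1 n12119 = n16100 := rfl
theorem F27849 : act 4 n16100 = n12438 := d8_2 (iv F21386) D16100 (iv D12438)
def n16101 : Q := act 2 n12119
theorem D16101 : act 2 n12119 = n16101 := rfl
theorem F27850 : act 0 n16101 = n12120 := d1_1 D16101 (iv D12120) D12119
theorem F27851 : act 4 n16101 = n12439 := d12_2 (iv F21386) D16101 (iv D12439)
theorem F27852 : act 6 n16101 = n12123 := d14_2 (iv F21387) D16101 (iv D12123)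
def n16102 : Q := act 3 n12120
theorem D16102 : act 3 n12120 = n16102 := rfl
theorem F27853 : act 6 n16102 = n12125 := d17_2 (iv F21389) D16102 (iv D12125)
def n16103 : Q := act 5 n12120
theorem D16103 : act 5 n12120 = n16103 := rfl
theorem F27854 : act 2 n16103 = n12121 := d13_1 D16103 (iv D12121) D12120
theorem F27855 : act 4 n16103 = n12441 := d18_1 D16103 (iv D12441) (iv F21388)
def n16104 : Q := act 0 n12122
theorem D16104 : act 0 n12122 = n16104 := rfl
theorem F27856 : act 4 n16104 = n12442 := d3_2 (iv F21391) D16104 (iv D12442)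
theorem F27857 : act 6 n15063 = n16104 := d22_3 F26263 (iv D15075) (iv F26234) (iv D16104)
def n16105 : Q := act 2 n12122
theorem D16105 : act 2 n12122 = n16105 := rfl
theorem F27858 : act 4 n16105 = n12443 := d12_2 (iv F21391) D16105 (iv D12443)
def n16106 : Q := act 6 n12122
theorem D16106 : act 6 n12122 = n16106 := rfl
theorem F27859 : act 0 n16106 = n15063 := d5_1 D16106 F27857 (iv D16104)
theorem F27860 : act 4 n16106 = n12444 := d19_1 D16106 (iv D12444) (iv F21391)
theorem F27861 : act 5 n15073 = n16106 := d22_0 (iv D16106) F26263 (iv D15075) D15073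
def n16107 : Q := act 1 n12123
theorem D16107 : act 1 n12123 = n16107 := rfl
theorem F27862 : act 4 n16107 = n12445 := d8_2 (iv F21393) D16107 (iv D12445)
def n16108 : Q := act 3 n12123
theorem D16108 : act 3 n12123 = n16108 := rfl
theorem F27863 : act 0 n16108 = n12125 := d2_1 D16108 (iv D12125) (iv F21392)
def n16109 : Q := act 5 n12123
theorem D16109 : act 5 n12123 = n16109 := rfl
theorem F27864 : act 0 n16109 = n12126 := d4_1 D16109 (iv D12126) (iv F21392)
theorem F27865 : act 2 n16109 = n12124 := d13_1 D16109 (iv D12124) D12123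
theorem F27866 : act 4 n16109 = n12447 := d18_1 D16109 (iv D12447) (iv F21393)
theorem F27867 : act 6 n16109 = n16103 := d22_1 D16109 (iv D16103) F21389 (iv F21392)
def n16110 : Q := act 2 n12125
theorem D16110 : act 2 n12125 = n16110 := rfl
def n16111 : Q := act 4 n12125
theorem D16111 : act 4 n12125 = n16111 := rfl
theorem F27868 : act 1 n16111 = n16111 := d8_1 D16111 (iv D16111) F21397
theorem F27869 : act 3 n16111 = n12449 := d15_1 D16111 (iv D12449) (iv D10146) (iv F17751) D12125
def n16112 : Q := act 5 n12125
theorem D16112 : act 5 n12125 = n16112 := rfl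
theorem F27870 : act 3 n16112 = n12126 := d16_1 D16112 (iv D12126) D12125
def n16113 : Q := act 1 n12126
theorem D16113 : act 1 n12126 = n16113 := rfl
theorem F27871 : act 2 n16113 = n16025 := d6_2 (iv F21398) D16113 (iv D16025) F21328 (iv F17752)
theorem F27872 : act 4 n16113 = n12451 := d8_2 (iv F21399) D16113 (iv D12451)
theorem F27873 : act 5 n16113 = n16113 := d9_2 D12126 D16113 (iv D16113) (iv D12126) F17750
def n16114 : Q := act 6 n12126
theorem D16114 : act 6 n12126 = n16114 := rfl
theorem F27874 : act 0 n16114 = n16103 := d5_1 D16114 (iv F27867) F27864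
theorem F27875 : act 2 n16114 = n12127 := d14_1 D16114 (iv D12127) (iv F21398)
theorem F27876 : act 4 n16114 = n12452 := d19_1 D16114 (iv D12452) (iv F21399)
theorem F27877 : act 5 n16114 = n16101 := d20_1 D16114 F27852 D16109 F27867 (iv D16103) F21389 D12126
def n16115 : Q := act 1 n12127
theorem D16115 : act 1 n12127 = n16115 := rfl
theorem F27878 : act 4 n16115 = n12453 := d8_2 (iv F21401) D16115 (iv D12453)
theorem F27879 : act 6 n16115 = n15058 := d10_2 D12127 D16115 (iv F26223) (iv D12082) (iv F17752)
theorem F27880 : act 0 n15060 = n16115 := d5_3 F27879 (iv D15058) D15060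
def n16116 : Q := act 2 n12128
theorem D16116 : act 2 n12128 = n16116 := rfl
theorem F27881 : act 0 n16116 = n12129 := d1_1 D16116 (iv D12129) D12128
theorem F27882 : act 4 n16116 = n12454 := d12_2 (iv F21403) D16116 (iv D12454)
def n16117 : Q := act 5 n12128
theorem D16117 : act 5 n12128 = n16117 := rfl
theorem F27883 : act 0 n16117 = n12130 := d4_1 D16117 (iv D12130) D12128
theorem F27884 : act 4 n16117 = n12455 := d18_1 D16117 (iv D12455) (iv F21403)
theorem F27885 : act 1 n15036 = n16117 := d8_3 F27884 F22071 (iv F26177)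
def n16118 : Q := act 6 n12128
theorem D16118 : act 6 n12128 = n16118 := rfl
theorem F27886 : act 0 n16118 = n12131 := d5_1 D16118 (iv D12131) D12128
theorem F27887 : act 1 n16118 = n14924 := d10_1 D16118 F25958 D14943 F27690 F27688
def n16119 : Q := act 1 n12129
theorem D16119 : act 1 n12129 = n16119 := rfl
theorem F27889 : act 2 n16119 = n12132 := d6_2 D12129 D16119 (iv D12132) (iv D9992) D9991
theorem F27890 : act 4 n16119 = n12457 := d8_2 (iv F21404) D16119 (iv D12457)
def n16120 : Q := act 3 n12129
theorem D16120 : act 3 n12129 = n16120 := rfl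
def n16121 : Q := act 5 n12129
theorem D16121 : act 5 n12129 = n16121 := rfl
theorem F27891 : act 2 n16121 = n12130 := d13_1 D16121 (iv D12130) D12129
def n16122 : Q := act 6 n12129
theorem D16122 : act 6 n12129 = n16122 := rfl
theorem F27893 : act 2 n16122 = n12131 := d14_1 D16122 (iv D12131) D12129
def n16123 : Q := act 6 n12130
theorem D16123 : act 6 n12130 = n16123 := rfl
theorem F27895 : act 4 n16123 = n12461 := d19_1 D16123 (iv D12461) (iv F21405)
theorem F27896 : act 5 n16123 = n16118 := d22_2 D12130 D16123 (iv D16118) (iv D12128)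
def n16124 : Q := act 5 n12131
theorem D16124 : act 5 n12131 = n16124 := rfl
theorem F27897 : act 0 n16124 = n16123 := d4_1 D16124 F27896 F27886
theorem F27898 : act 4 n16124 = n12462 := d18_1 D16124 (iv D12462) (iv F21407)
theorem F27899 : act 6 n16124 = n16117 := d20_2 D12131 D16124 (iv D16117) D16118 (iv F27896) (iv D16123) (iv D12130)
def n16125 : Q := act 0 n12132
theorem D16125 : act 0 n12132 = n16125 := rfl
theorem F27900 : act 4 n16125 = n12463 := d3_2 (iv F21408) D16125 (iv D12463)
def n16126 : Q := act 3 n12132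
theorem D16126 : act 3 n12132 = n16126 := rfl
theorem F27901 : act 1 n16126 = n12133 := d7_1 D16126 (iv D12133) D12132
def n16127 : Q := act 5 n12132
theorem D16127 : act 5 n12132 = n16127 := rfl
theorem F27902 : act 4 n16127 = n12465 := d18_1 D16127 (iv D12465) (iv F21408)
def n16128 : Q := act 6 n12132
theorem D16128 : act 6 n12132 = n16128 := rfl
theorem F27903 : act 1 n16128 = n12257 := d10_1 D16128 (iv D12257) (iv D10046) (iv F17757) D12132
theorem F27904 : act 4 n16128 = n12466 := d19_1 D16128 (iv D12466) (iv F21408)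
def n16129 : Q := act 2 n12133
theorem D16129 : act 2 n12133 = n16129 := rfl
theorem F27905 : act 0 n16129 = n12134 := d1_1 D16129 (iv D12134) (iv F21409)
theorem F27906 : act 6 n16129 = n12258 := d14_2 (iv F21410) D16129 (iv D12258)
theorem F27907 : act 3 n16129 = n16071 := d21_1 D16129 (iv D16071) (iv D12105) (iv D9980) F7835 D5162 D9993 (iv F21409)
def n16130 : Q := act 4 n12133
theorem D16130 : act 4 n12133 = n16130 := rfl
theorem F27908 : act 0 n16130 = n12135 := d3_1 D16130 (iv D12135) (iv F21409)
theorem F27909 : act 3 n16130 = n12468 := d15_1 D16130 (iv D12468) (iv D10154) (iv F17756) D12133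
theorem F27910 : act 6 n16130 = n12259 := d19_2 (iv F21410) D16130 (iv D12259)
def n16131 : Q := act 1 n12134
theorem D16131 : act 1 n12134 = n16131 := rfl
def n16132 : Q := act 3 n12134
theorem D16132 : act 3 n12134 = n16132 := rfl
theorem F27912 : act 0 n16132 = n16071 := d2_1 D16132 (iv F27907) F27905
theorem F27913 : act 2 n16132 = n16070 := d11_1 D16132 (iv D16070) (iv D12104) F17734 D9992 D12133 D16129 F27907 (iv D16071) (iv D12105) (iv D9980) F7835 D5162 D9993 D12134
theorem F27914 : act 6 n16132 = n12266 := d17_2 (iv F21411) D16132 (iv D12266)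
def n16133 : Q := act 4 n12134
theorem D16133 : act 4 n12134 = n16133 := rfl
theorem F27916 : act 6 n16133 = n12267 := d19_2 (iv F21411) D16133 (iv D12267)
def n16134 : Q := act 5 n12134
theorem D16134 : act 5 n12134 = n16134 := rfl
theorem F27917 : act 2 n16134 = n12136 := d13_1 D16134 (iv D12136) D12134
def n16135 : Q := act 5 n12135
theorem D16135 : act 5 n12135 = n16135 := rfl
theorem F27918 : act 3 n16135 = n12473 := d16_1 D16135 (iv D12473) (iv F21413)
theorem F27919 : act 4 n16135 = n12136 := d18_1 D16135 (iv D12136) D12135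
def n16136 : Q := act 1 n12136
theorem D16136 : act 1 n12136 = n16136 := rfl
theorem F27920 : act 3 n16136 = n12137 := d7_2 (iv F21415) D16136 (iv D12137)
theorem F27921 : act 5 n16136 = n16136 := d9_2 D12136 D16136 (iv D16136) (iv D12136) F17758
def n16137 : Q := act 0 n12137
theorem D16137 : act 0 n12137 = n16137 := rfl
theorem F27922 : act 4 n16137 = n12475 := d3_2 (iv F21416) D16137 (iv D12475)
def n16138 : Q := act 2 n12137
theorem D16138 : act 2 n12137 = n16138 := rfl
theorem F27924 : act 1 n16138 = n12139 := d6_1 D16138 (iv D12139) (iv D9995) (iv F17760) D12137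
theorem F27925 : act 4 n16138 = n12476 := d12_2 (iv F21416) D16138 (iv D12476)
theorem F27926 : act 5 n16138 = n16138 := d13_2 F21417 D16138 (iv D16138)
def n16139 : Q := act 6 n12137
theorem D16139 : act 6 n12137 = n16139 := rfl
theorem F27927 : act 4 n16139 = n12477 := d19_1 D16139 (iv D12477) (iv F21416)
def n16140 : Q := act 1 n12138
theorem D16140 : act 1 n12138 = n16140 := rfl
theorem F27928 : act 4 n16140 = n12478 := d8_2 (iv F21418) D16140 (iv D12478)
def n16141 : Q := act 2 n12138
theorem D16141 : act 2 n12138 = n16141 := rfl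
theorem F27929 : act 0 n16141 = n12139 := d1_1 D16141 (iv D12139) D12138
theorem F27930 : act 4 n16141 = n12479 := d12_2 (iv F21418) D16141 (iv D12479)
theorem F27931 : act 5 n16141 = n12142 := d13_2 (iv F21419) D16141 (iv D12142)
def n16142 : Q := act 3 n12139
theorem D16142 : act 3 n12139 = n16142 := rfl
theorem F27932 : act 5 n16142 = n12144 := d16_2 (iv F21421) D16142 (iv D12144)
def n16143 : Q := act 6 n12139
theorem D16143 : act 6 n12139 = n16143 := rfl
theorem F27933 : act 2 n16143 = n12140 := d14_1 D16143 (iv D12140) D12139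
theorem F27934 : act 4 n16143 = n12481 := d19_1 D16143 (iv D12481) (iv F21420)
def n16144 : Q := act 0 n12141
theorem D16144 : act 0 n12141 = n16144 := rfl
theorem F27935 : act 1 n16144 = n16104 := d0_2 D12141 D16144 (iv D16104) (iv D12122) (iv D9988) (iv D5160) (iv F3917) D5164 D9996
theorem F27936 : act 4 n16144 = n12482 := d3_2 (iv F21423) D16144 (iv D12482)
theorem F27937 : act 5 n16144 = n15037 := d22_0 F26180 D15048 (iv F26206) D16144
def n16145 : Q := act 2 n12141
theorem D16145 : act 2 n12141 = n16145 := rfl
theorem F27938 : act 4 n16145 = n12483 := d12_2 (iv F21423) D16145 (iv D12483)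
def n16146 : Q := act 5 n12141
theorem D16146 : act 5 n12141 = n16146 := rfl
theorem F27939 : act 0 n16146 = n15037 := d4_1 D16146 (iv F27937) (iv D16144)
theorem F27940 : act 4 n16146 = n12484 := d18_1 D16146 (iv D12484) (iv F21423)
theorem F27941 : act 6 n16146 = n15046 := d22_3 D15048 (iv F26206) D16146 (iv D15046)
def n16147 : Q := act 1 n12142
theorem D16147 : act 1 n12142 = n16147 := rfl
theorem F27942 : act 4 n16147 = n12485 := d8_2 (iv F21425) D16147 (iv D12485)
def n16148 : Q := act 3 n12142
theorem D16148 : act 3 n12142 = n16148 := rfl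
theorem F27943 : act 0 n16148 = n12144 := d2_1 D16148 (iv D12144) (iv F21424)
def n16149 : Q := act 6 n12142
theorem D16149 : act 6 n12142 = n16149 := rfl
theorem F27944 : act 0 n16149 = n12145 := d5_1 D16149 (iv D12145) (iv F21424)
theorem F27945 : act 2 n16149 = n12143 := d14_1 D16149 (iv D12143) D12142
theorem F27946 : act 4 n16149 = n12487 := d19_1 D16149 (iv D12487) (iv F21425)
theorem F27947 : act 5 n16149 = n16143 := d22_2 F27931 D16149 (iv D16143) (iv F27929)
def n16150 : Q := act 2 n12144
theorem D16150 : act 2 n12144 = n16150 := rfl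
def n16151 : Q := act 4 n12144
theorem D16151 : act 4 n12144 = n16151 := rfl
theorem F27948 : act 1 n16151 = n16151 := d8_1 D16151 (iv D16151) F21429
theorem F27949 : act 3 n16151 = n12489 := d15_1 D16151 (iv D12489) (iv D10165) (iv F17766) D12144
def n16152 : Q := act 6 n12144
theorem D16152 : act 6 n12144 = n16152 := rfl
theorem F27950 : act 3 n16152 = n12145 := d17_1 D16152 (iv D12145) D12144
def n16153 : Q := act 1 n12145
theorem D16153 : act 1 n12145 = n16153 := rfl
theorem F27951 : act 2 n16153 = n16012 := d6_2 (iv F21430) D16153 (iv D16012) F21316 (iv F17767)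
theorem F27952 : act 4 n16153 = n12491 := d8_2 (iv F21431) D16153 (iv D12491)
theorem F27953 : act 6 n16153 = n16153 := d10_2 D12145 D16153 (iv D16153) (iv D12145) F17765
def n16154 : Q := act 5 n12145
theorem D16154 : act 5 n12145 = n16154 := rfl
theorem F27954 : act 0 n16154 = n16143 := d4_1 D16154 (iv F27947) F27944
theorem F27955 : act 2 n16154 = n12146 := d13_1 D16154 (iv D12146) (iv F21430)
theorem F27956 : act 4 n16154 = n12492 := d18_1 D16154 (iv D12492) (iv F21431)
theorem F27957 : act 6 n16154 = n16141 := d20_2 D12145 D16154 F27931 D16149 F27947 (iv D16143) F21421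
def n16155 : Q := act 1 n12146
theorem D16155 : act 1 n12146 = n16155 := rfl
theorem F27958 : act 4 n16155 = n12493 := d8_2 (iv F21433) D16155 (iv D12493)
theorem F27959 : act 5 n16155 = n15085 := d9_2 D12146 D16155 (iv F26280) (iv D12076) (iv F17767)
theorem F27960 : act 0 n15087 = n16155 := d4_3 F27959 (iv D15085) D15087
def n16156 : Q := act 6 n12149
theorem D16156 : act 6 n12149 = n16156 := rfl
theorem F27961 : act 2 n16156 = n13700 := d14_1 D16156 F24053 (iv F24000)
theorem F27962 : act 3 n16156 = n12199 := d17_1 D16156 (iv D12199) (iv F21436)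
theorem F27963 : act 5 n16156 = n13698 := d22_2 D12149 D16156 (iv D13698) F21539
def n16157 : Q := act 1 n12150
theorem D16157 : act 1 n12150 = n16157 := rfl
theorem F27964 : act 3 n16157 = n12200 := d7_2 (iv F21437) D16157 (iv D12200)
theorem F27965 : act 6 n16157 = n12154 := d10_2 D12150 D16157 (iv D12154) (iv D10001) D9999
def n16158 : Q := act 5 n12150
theorem D16158 : act 5 n12150 = n16158 := rfl
theorem F27966 : act 0 n16158 = n16156 := d4_1 D16158 F27963 F24046
theorem F27967 : act 2 n16158 = n13674 := d13_1 D16158 (iv F24045) F24043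
theorem F27968 : act 3 n16158 = n12201 := d16_1 D16158 (iv D12201) (iv F21437)
theorem F27969 : act 6 n16158 = n13673 := d20_2 D12150 D16158 F24002 D13698 (iv F27963) (iv D16156) (iv D12149)
def n16159 : Q := act 3 n12151
theorem D16159 : act 3 n12151 = n16159 := rfl
theorem F27970 : act 1 n16159 = n12152 := d7_1 D16159 (iv D12152) D12151
def n16160 : Q := act 5 n12151
theorem D16160 : act 5 n12151 = n16160 := rfl
theorem F27971 : act 0 n16160 = n12156 := d4_1 D16160 (iv F27761) F27760
theorem F27972 : act 4 n16160 = n12152 := d18_1 D16160 F27755 F26129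
def n16161 : Q := act 6 n12151
theorem D16161 : act 6 n12151 = n16161 := rfl
def n16162 : Q := act 6 n12152
theorem D16162 : act 6 n12152 = n16162 := rfl
theorem F27973 : act 0 n16162 = n12157 := d5_1 D16162 (iv D12157) (iv F21438)
theorem F27974 : act 3 n16162 = n12153 := d17_1 D16162 (iv D12153) D12152
theorem F27975 : act 5 n16162 = n16054 := d22_2 (iv F27755) D16162 (iv D16054) F27754
def n16163 : Q := act 1 n12153
theorem D16163 : act 1 n12153 = n16163 := rfl
def n16164 : Q := act 0 n12154
theorem D16164 : act 0 n12154 = n16164 := rfl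
theorem F27976 : act 3 n16164 = n12210 := d2_2 (iv F21442) D16164 (iv D12210)
def n16165 : Q := act 2 n12154
theorem D16165 : act 2 n12154 = n16165 := rfl
def n16166 : Q := act 5 n12154
theorem D16166 : act 5 n12154 = n16166 := rfl
theorem F27977 : act 1 n16166 = n16058 := d9_1 D16166 (iv D16058) (iv D12099) (iv F17773) D12154
theorem F27978 : act 3 n16166 = n12212 := d16_1 D16166 (iv D12212) (iv F21442)
def n16167 : Q := act 1 n12155
theorem D16167 : act 1 n12155 = n16167 := rfl
theorem F27979 : act 2 n16167 = n16167 := d6_2 D12155 D16167 (iv D16167) (iv D12155) F17774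
def n16168 : Q := act 4 n12155
theorem D16168 : act 4 n12155 = n16168 := rfl
theorem F27980 : act 2 n16168 = n12156 := d12_1 D16168 (iv D12156) D12155
def n16169 : Q := act 6 n12155
theorem D16169 : act 6 n12155 = n16169 := rfl
theorem F27981 : act 2 n16169 = n12157 := d14_1 D16169 (iv D12157) D12155
def n16170 : Q := act 6 n12156
theorem D16170 : act 6 n12156 = n16170 := rfl
theorem F27982 : act 4 n16170 = n12157 := d19_1 D16170 (iv D12157) D12156
theorem F27983 : act 5 n16170 = n16161 := d22_2 F27761 D16170 (iv D16161) (iv F27760)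
def n16171 : Q := act 1 n12157
theorem D16171 : act 1 n12157 = n16171 := rfl
theorem F27984 : act 3 n16171 = n12158 := d7_2 (iv F21444) D16171 (iv D12158)
theorem F27985 : act 6 n16171 = n16171 := d10_2 D12157 D16171 (iv D16171) (iv D12157) F17774
def n16172 : Q := act 5 n12157
theorem D16172 : act 5 n12157 = n16172 := rfl
theorem F27986 : act 0 n16172 = n16054 := d4_1 D16172 (iv F27975) F27973
theorem F27987 : act 3 n16172 = n12159 := d16_1 D16172 (iv D12159) (iv F21444)
theorem F27988 : act 4 n16172 = n16161 := d18_1 D16172 (iv F27983) F27982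
theorem F27989 : act 6 n16172 = n15012 := d20_2 D12157 D16172 (iv F27755) D16162 F27975 (iv D16054) F21356
def n16173 : Q := act 0 n12158
theorem D16173 : act 0 n12158 = n16173 := rfl
def n16174 : Q := act 2 n12158
theorem D16174 : act 2 n12158 = n16174 := rfl
theorem F27991 : act 1 n16174 = n12161 := d6_1 D16174 (iv D12161) (iv D10004) (iv F17775) D12158
theorem F27992 : act 6 n16174 = n16174 := d14_2 F21445 D16174 (iv D16174)
def n16175 : Q := act 5 n12158
theorem D16175 : act 5 n12158 = n16175 := rfl
def n16176 : Q := act 1 n12159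
theorem D16176 : act 1 n12159 = n16176 := rfl
def n16177 : Q := act 1 n12160
theorem D16177 : act 1 n12160 = n16177 := rfl
theorem F27993 : act 3 n16177 = n12223 := d7_2 (iv F21449) D16177 (iv D12223)
def n16178 : Q := act 2 n12160
theorem D16178 : act 2 n12160 = n16178 := rfl
theorem F27994 : act 0 n16178 = n12161 := d1_1 D16178 (iv D12161) D12160
theorem F27995 : act 6 n16178 = n12165 := d14_2 (iv F21450) D16178 (iv D12165)
def n16179 : Q := act 3 n12161
theorem D16179 : act 3 n12161 = n16179 := rfl
theorem F27996 : act 6 n16179 = n12167 := d17_2 (iv F21451) D16179 (iv D12167)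
def n16180 : Q := act 5 n12161
theorem D16180 : act 5 n12161 = n16180 := rfl
theorem F27997 : act 2 n16180 = n12162 := d13_1 D16180 (iv D12162) D12161
def n16181 : Q := act 1 n12162
theorem D16181 : act 1 n12162 = n16181 := rfl
theorem F27998 : act 3 n16181 = n12227 := d7_2 (iv F21452) D16181 (iv D12227)
theorem F27999 : act 5 n16181 = n12163 := d9_2 D12162 D16181 (iv D12163) (iv D10005) D10004
def n16182 : Q := act 0 n12163
theorem D16182 : act 0 n12163 = n16182 := rfl
theorem F28000 : act 3 n16182 = n12228 := d2_2 (iv F21453) D16182 (iv D12228)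
def n16183 : Q := act 2 n12163
theorem D16183 : act 2 n12163 = n16183 := rfl
def n16184 : Q := act 6 n12163
theorem D16184 : act 6 n12163 = n16184 := rfl
theorem F28001 : act 1 n16184 = n16051 := d10_1 D16184 (iv D16051) (iv D12095) (iv F17780) D12163
theorem F28002 : act 3 n16184 = n12230 := d17_1 D16184 (iv D12230) (iv F21453)
def n16185 : Q := act 0 n12164
theorem D16185 : act 0 n12164 = n16185 := rfl
theorem F28003 : act 3 n16185 = n12231 := d2_2 (iv F21454) D16185 (iv D12231)
def n16186 : Q := act 2 n12164
theorem D16186 : act 2 n12164 = n16186 := rfl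
def n16187 : Q := act 5 n12164
theorem D16187 : act 5 n12164 = n16187 := rfl
theorem F28004 : act 3 n16187 = n12233 := d16_1 D16187 (iv D12233) (iv F21454)
def n16188 : Q := act 6 n12164
theorem D16188 : act 6 n12164 = n16188 := rfl
theorem F28005 : act 3 n16188 = n12234 := d17_1 D16188 (iv D12234) (iv F21454)
def n16189 : Q := act 1 n12165
theorem D16189 : act 1 n12165 = n16189 := rfl
def n16190 : Q := act 3 n12165
theorem D16190 : act 3 n12165 = n16190 := rfl
theorem F28006 : act 0 n16190 = n12167 := d2_1 D16190 (iv D12167) (iv F21455)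
def n16191 : Q := act 5 n12165
theorem D16191 : act 5 n12165 = n16191 := rfl
theorem F28007 : act 0 n16191 = n12168 := d4_1 D16191 (iv D12168) (iv F21455)
theorem F28008 : act 2 n16191 = n12166 := d13_1 D16191 (iv D12166) D12165
theorem F28009 : act 6 n16191 = n16180 := d22_1 D16191 (iv D16180) F21451 (iv F21455)
def n16192 : Q := act 1 n12166
theorem D16192 : act 1 n12166 = n16192 := rfl
theorem F28010 : act 3 n16192 = n12238 := d7_2 (iv F21457) D16192 (iv D12238)
def n16193 : Q := act 2 n12167
theorem D16193 : act 2 n12167 = n16193 := rfl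
def n16194 : Q := act 4 n12167
theorem D16194 : act 4 n12167 = n16194 := rfl
theorem F28011 : act 1 n16194 = n16194 := d8_1 D16194 (iv D16194) F21459
def n16195 : Q := act 5 n12167
theorem D16195 : act 5 n12167 = n16195 := rfl
theorem F28012 : act 3 n16195 = n12168 := d16_1 D16195 (iv D12168) D12167
def n16196 : Q := act 1 n12168
theorem D16196 : act 1 n12168 = n16196 := rfl
theorem F28013 : act 2 n16196 = n15031 := d6_2 (iv F21460) D16196 (iv D15031) F20462 (iv F17783)
theorem F28014 : act 5 n16196 = n16196 := d9_2 D12168 D16196 (iv D16196) (iv D12168) F17782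
def n16197 : Q := act 6 n12168
theorem D16197 : act 6 n12168 = n16197 := rfl
theorem F28015 : act 0 n16197 = n16180 := d5_1 D16197 (iv F28009) F28007
theorem F28016 : act 2 n16197 = n12169 := d14_1 D16197 (iv D12169) (iv F21460)
theorem F28017 : act 5 n16197 = n16178 := d20_1 D16197 F27995 D16191 F28009 (iv D16180) F21451 D12168
def n16198 : Q := act 1 n12169
theorem D16198 : act 1 n12169 = n16198 := rfl
theorem F28018 : act 3 n16198 = n12243 := d7_2 (iv F21462) D16198 (iv D12243)
theorem F28019 : act 6 n16198 = n15033 := d10_2 D12169 D16198 (iv D15033) (iv D11548) (iv F17783)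
def n16199 : Q := act 1 n12172
theorem D16199 : act 1 n12172 = n16199 := rfl
theorem F28020 : act 3 n16199 = n12251 := d7_2 (iv F21465) D16199 (iv D12251)
theorem F28021 : act 5 n16199 = n12177 := d9_2 D12172 D16199 (iv D12177) (iv D10011) D10009
def n16200 : Q := act 6 n12172
theorem D16200 : act 6 n12172 = n16200 := rfl
theorem F28022 : act 2 n16200 = n13678 := d14_1 D16200 (iv F24062) F24060
theorem F28023 : act 3 n16200 = n12252 := d17_1 D16200 (iv D12252) (iv F21465)
theorem F28024 : act 5 n16200 = n13677 := d22_2 D12172 D16200 F24010 F21628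
def n16201 : Q := act 5 n12173
theorem D16201 : act 5 n12173 = n16201 := rfl
theorem F28025 : act 0 n16201 = n16200 := d4_1 D16201 F28024 F24009
theorem F28026 : act 2 n16201 = n13708 := d13_1 D16201 F24071 (iv F24008)
theorem F28027 : act 3 n16201 = n12253 := d16_1 D16201 (iv D12253) (iv F21466)
theorem F28028 : act 6 n16201 = n13706 := d20_2 D12173 D16201 (iv D13706) (iv F24010) (iv F28024) (iv D16200) (iv D12172)
def n16202 : Q := act 0 n12174
theorem D16202 : act 0 n12174 = n16202 := rfl
def n16203 : Q := act 3 n12174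
theorem D16203 : act 3 n12174 = n16203 := rfl
theorem F28029 : act 1 n16203 = n12175 := d7_1 D16203 (iv D12175) D12174
def n16204 : Q := act 5 n12174
theorem D16204 : act 5 n12174 = n16204 := rfl
def n16205 : Q := act 6 n12174
theorem D16205 : act 6 n12174 = n16205 := rfl
def n16206 : Q := act 4 n12175
theorem D16206 : act 4 n12175 = n16206 := rfl
theorem F28030 : act 0 n16206 = n12179 := d3_1 D16206 (iv D12179) (iv F21467)
def n16207 : Q := act 5 n12175
theorem D16207 : act 5 n12175 = n16207 := rfl
theorem F28031 : act 0 n16207 = n12180 := d4_1 D16207 (iv D12180) (iv F21467)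
theorem F28032 : act 3 n16207 = n12176 := d16_1 D16207 (iv D12176) D12175
theorem F28033 : act 6 n16207 = n16073 := d22_1 D16207 (iv D16073) F21366 (iv F21467)
def n16208 : Q := act 1 n12176
theorem D16208 : act 1 n12176 = n16208 := rfl
def n16209 : Q := act 0 n12177
theorem D16209 : act 0 n12177 = n16209 := rfl
theorem F28034 : act 3 n16209 = n12262 := d2_2 (iv F21471) D16209 (iv D12262)
def n16210 : Q := act 2 n12177
theorem D16210 : act 2 n12177 = n16210 := rfl
def n16211 : Q := act 6 n12177
theorem D16211 : act 6 n12177 = n16211 := rfl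
theorem F28035 : act 1 n16211 = n16077 := d10_1 D16211 (iv D16077) (iv D12107) (iv F17789) D12177
theorem F28036 : act 3 n16211 = n12264 := d17_1 D16211 (iv D12264) (iv F21471)
def n16212 : Q := act 1 n12178
theorem D16212 : act 1 n12178 = n16212 := rfl
theorem F28037 : act 2 n16212 = n16212 := d6_2 D12178 D16212 (iv D16212) (iv D12178) F17790
def n16213 : Q := act 4 n12178
theorem D16213 : act 4 n12178 = n16213 := rfl
theorem F28038 : act 2 n16213 = n12179 := d12_1 D16213 (iv D12179) D12178
def n16214 : Q := act 5 n12178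
theorem D16214 : act 5 n12178 = n16214 := rfl
theorem F28039 : act 2 n16214 = n12180 := d13_1 D16214 (iv D12180) D12178
def n16215 : Q := act 5 n12179
theorem D16215 : act 5 n12179 = n16215 := rfl
theorem F28040 : act 4 n16215 = n12180 := d18_1 D16215 (iv D12180) D12179
def n16216 : Q := act 1 n12180
theorem D16216 : act 1 n12180 = n16216 := rfl
theorem F28041 : act 3 n16216 = n12181 := d7_2 (iv F21473) D16216 (iv D12181)
theorem F28042 : act 5 n16216 = n16216 := d9_2 D12180 D16216 (iv D16216) (iv D12180) F17790
def n16217 : Q := act 6 n12180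
theorem D16217 : act 6 n12180 = n16217 := rfl
theorem F28043 : act 0 n16217 = n16073 := d5_1 D16217 (iv F28033) F28031
theorem F28044 : act 3 n16217 = n12182 := d17_1 D16217 (iv D12182) (iv F21473)
theorem F28045 : act 5 n16217 = n16070 := d20_1 D16217 F27781 D16207 F28033 (iv D16073) F21366 D12180
def n16218 : Q := act 0 n12181
theorem D16218 : act 0 n12181 = n16218 := rfl
def n16219 : Q := act 2 n12181
theorem D16219 : act 2 n12181 = n16219 := rfl
theorem F28047 : act 1 n16219 = n12184 := d6_1 D16219 (iv D12184) (iv D10014) (iv F17791) D12181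
theorem F28048 : act 4 n16219 = n16196 := d12_2 F26163 D16219 F28013
theorem F28049 : act 5 n16219 = n16219 := d13_2 F21474 D16219 (iv D16219)
def n16220 : Q := act 6 n12181
theorem D16220 : act 6 n12181 = n16220 := rfl
def n16221 : Q := act 1 n12182
theorem D16221 : act 1 n12182 = n16221 := rfl
def n16222 : Q := act 1 n12183
theorem D16222 : act 1 n12183 = n16222 := rfl
theorem F28050 : act 3 n16222 = n12275 := d7_2 (iv F21478) D16222 (iv D12275)
theorem F28051 : act 4 n16222 = n16192 := d8_2 (iv F21479) D16222 (iv D16192)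
def n16223 : Q := act 2 n12183
theorem D16223 : act 2 n12183 = n16223 := rfl
theorem F28052 : act 0 n16223 = n12184 := d1_1 D16223 (iv D12184) D12183
theorem F28053 : act 4 n16223 = n16191 := d12_2 (iv F21479) D16223 F28008
theorem F28054 : act 5 n16223 = n12188 := d13_2 (iv F21480) D16223 (iv D12188)
def n16224 : Q := act 3 n12184
theorem D16224 : act 3 n12184 = n16224 := rfl
theorem F28055 : act 5 n16224 = n12190 := d16_2 (iv F21482) D16224 (iv D12190)
def n16225 : Q := act 6 n12184
theorem D16225 : act 6 n12184 = n16225 := rfl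
theorem F28056 : act 2 n16225 = n12185 := d14_1 D16225 (iv D12185) D12184
theorem F28057 : act 4 n16225 = n16197 := d19_1 D16225 (iv D16197) (iv F21481)
def n16226 : Q := act 1 n12185
theorem D16226 : act 1 n12185 = n16226 := rfl
theorem F28058 : act 3 n16226 = n12279 := d7_2 (iv F21483) D16226 (iv D12279)
theorem F28059 : act 4 n16226 = n16198 := d8_2 (iv F21484) D16226 (iv D16198)
theorem F28060 : act 6 n16226 = n12186 := d10_2 D12185 D16226 (iv D12186) (iv D10015) D10014
def n16227 : Q := act 0 n12186
theorem D16227 : act 0 n12186 = n16227 := rfl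
theorem F28061 : act 3 n16227 = n12280 := d2_2 (iv F21485) D16227 (iv D12280)
def n16228 : Q := act 2 n12186
theorem D16228 : act 2 n12186 = n16228 := rfl
def n16229 : Q := act 5 n12186
theorem D16229 : act 5 n12186 = n16229 := rfl
theorem F28062 : act 1 n16229 = n16067 := d9_1 D16229 (iv D16067) (iv D12103) (iv F17797) D12186
theorem F28063 : act 3 n16229 = n12282 := d16_1 D16229 (iv D12282) (iv F21485)
def n16230 : Q := act 0 n12187
theorem D16230 : act 0 n12187 = n16230 := rfl
theorem F28065 : act 3 n16230 = n12283 := d2_2 (iv F21486) D16230 (iv D12283)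
def n16231 : Q := act 2 n12187
theorem D16231 : act 2 n12187 = n16231 := rfl
def n16232 : Q := act 5 n12187
theorem D16232 : act 5 n12187 = n16232 := rfl
theorem F28068 : act 3 n16232 = n12285 := d16_1 D16232 (iv D12285) (iv F21486)
theorem F28069 : act 4 n16232 = n16187 := d18_1 D16232 (iv D16187) (iv F21487)
def n16233 : Q := act 6 n12187
theorem D16233 : act 6 n12187 = n16233 := rfl
theorem F28070 : act 3 n16233 = n12286 := d17_1 D16233 (iv D12286) (iv F21486)
theorem F28071 : act 4 n16233 = n16188 := d19_1 D16233 (iv D16188) (iv F21487)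
def n16234 : Q := act 1 n12188
theorem D16234 : act 1 n12188 = n16234 := rfl
theorem F28072 : act 4 n16234 = n16189 := d8_2 (iv F21489) D16234 (iv D16189)
def n16235 : Q := act 3 n12188
theorem D16235 : act 3 n12188 = n16235 := rfl
theorem F28073 : act 0 n16235 = n12190 := d2_1 D16235 (iv D12190) (iv F21488)
def n16236 : Q := act 6 n12188
theorem D16236 : act 6 n12188 = n16236 := rfl
theorem F28074 : act 0 n16236 = n12191 := d5_1 D16236 (iv D12191) (iv F21488)
theorem F28075 : act 2 n16236 = n12189 := d14_1 D16236 (iv D12189) D12188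
theorem F28076 : act 4 n16236 = n16178 := d19_1 D16236 F27995 (iv F21489)
theorem F28077 : act 5 n16236 = n16225 := d22_2 F28054 D16236 (iv D16225) (iv F28052)
def n16237 : Q := act 1 n12189
theorem D16237 : act 1 n12189 = n16237 := rfl
theorem F28078 : act 3 n16237 = n12290 := d7_2 (iv F21491) D16237 (iv D12290)
theorem F28079 : act 4 n16237 = n16177 := d8_2 (iv F21492) D16237 (iv D16177)
def n16238 : Q := act 2 n12190
theorem D16238 : act 2 n12190 = n16238 := rfl
def n16239 : Q := act 4 n12190
theorem D16239 : act 4 n12190 = n16239 := rfl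
theorem F28080 : act 1 n16239 = n16239 := d8_1 D16239 (iv D16239) F21494
theorem F28081 : act 3 n16239 = n16194 := d15_1 D16239 (iv D16194) (iv D12167) (iv F17801) D12190
def n16240 : Q := act 6 n12190
theorem D16240 : act 6 n12190 = n16240 := rfl
theorem F28082 : act 3 n16240 = n12191 := d17_1 D16240 (iv D12191) D12190
def n16241 : Q := act 1 n12191
theorem D16241 : act 1 n12191 = n16241 := rfl
theorem F28083 : act 2 n16241 = n15019 := d6_2 (iv F21495) D16241 (iv D15019) F20447 (iv F17802)
theorem F28084 : act 4 n16241 = n16174 := d8_2 (iv F21496) D16241 F27991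
theorem F28085 : act 6 n16241 = n16241 := d10_2 D12191 D16241 (iv D16241) (iv D12191) F17800
def n16242 : Q := act 5 n12191
theorem D16242 : act 5 n12191 = n16242 := rfl
theorem F28086 : act 0 n16242 = n16225 := d4_1 D16242 (iv F28077) F28074
theorem F28087 : act 2 n16242 = n12192 := d13_1 D16242 (iv D12192) (iv F21495)
theorem F28088 : act 4 n16242 = n16180 := d18_1 D16242 (iv D16180) (iv F21496)
theorem F28089 : act 6 n16242 = n16223 := d20_2 D12191 D16242 F28054 D16236 F28077 (iv D16225) F21482
def n16243 : Q := act 1 n12192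
theorem D16243 : act 1 n12192 = n16243 := rfl
theorem F28090 : act 3 n16243 = n12295 := d7_2 (iv F21498) D16243 (iv D12295)
theorem F28091 : act 4 n16243 = n16181 := d8_2 (iv F21499) D16243 (iv D16181)
theorem F28092 : act 5 n16243 = n15021 := d9_2 D12192 D16243 (iv D15021) (iv D11542) (iv F17802)
def n16244 : Q := act 1 n12193
theorem D16244 : act 1 n12193 = n16244 := rfl
theorem F28093 : act 0 n16244 = n14916 := d0_1 D16244 (iv D14916) F20339 D11494 (iv F20372) (iv F25218) F25217 F21373 (iv F21501)
theorem F28094 : act 4 n16244 = n12494 := d8_2 (iv F21502) D16244 (iv D12494)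
theorem F28095 : act 5 n16244 = n15930 := d9_2 D12193 D16244 (iv F27536) (iv D15034) F20468
def n16245 : Q := act 1 n12194
theorem D16245 : act 1 n12194 = n16245 := rfl
theorem F28096 : act 4 n16245 = n12495 := d8_2 (iv F21504) D16245 (iv D12495)
theorem F28097 : act 5 n16017 = n16245 := d18_0 F28096 (iv F22080) (iv F27695)
def n16246 : Q := act 3 n12195
theorem D16246 : act 3 n12195 = n16246 := rfl
theorem F28098 : act 1 n16246 = n12196 := d7_1 D16246 (iv D12196) D12195
theorem F28099 : act 2 n16246 = n13435 := d25_19 (iv F1157) (iv F17183) (iv F3951) (iv F17216) (iv D5201) (iv F7869) (iv D5176) (iv D2497) (iv F3921) D5166 F7855 D10002 D12155 (iv F21524) (iv D12206) (iv F21520) (iv D12203) (iv F21505) D16246 F23628 (iv D10723) (iv D7672) F5645 (iv F14922) D3844 F5891 F3004 F15061 (iv F3004) (iv F15036) (iv D1760) F1563 F867 (iv F973) F972 F14809 F973 (iv F867) (iv F1563) F1562 D883 F1578 D895 D1806 (iv F14704) F1661 (iv D490) (iv D247) F239 F146 D148 F292 (iv F575) F14821 F575 F15707 (iv D100) (iv F208) (iv F416) (iv F789) F15334 F15208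 F789 F416 F208 F15628 D53 (iv F239) D247 D490 F941 (iv F1050) (iv D561) (iv D283) (iv F552) D542 F1025
theorem F28100 : act 2 n12203 = n13424 := d21_6 D10716 D13435 (iv F28099) (iv D16246) F21505 D12203 F23612 (iv D10715)
theorem F28101 : act 0 n12203 = n13425 := d21_8 (iv D13425) F19029 D10716 D13435 (iv F28099) (iv D16246) F21505 D12203
theorem F28102 : act 3 n12202 = n13425 := d21_1 (iv F26286) (iv D13425) F19029 D10716 D13435 (iv F28099) (iv D16246) (iv F26284)
def n16247 : Q := act 5 n12195
theorem D16247 : act 5 n12195 = n16247 := rfl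
theorem F28103 : act 2 n16247 = n12204 := d13_1 D16247 (iv D12204) (iv F21505)
theorem F28104 : act 4 n16247 = n12497 := d18_1 D16247 (iv D12497) (iv F21506)
def n16248 : Q := act 6 n12195
theorem D16248 : act 6 n12195 = n16248 := rfl
theorem F28105 : act 2 n16248 = n12205 := d14_1 D16248 (iv D12205) (iv F21505)
theorem F28106 : act 4 n16248 = n12498 := d19_1 D16248 (iv D12498) (iv F21506)
def n16249 : Q := act 4 n12196
theorem D16249 : act 4 n12196 = n16249 := rfl
theorem F28107 : act 2 n16249 = n13720 := d12_1 D16249 (iv D13720) (iv F21538)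
theorem F28108 : act 3 n16249 = n12499 := d15_1 D16249 (iv D12499) (iv D10172) (iv F17806) D12196
def n16250 : Q := act 5 n12196
theorem D16250 : act 5 n12196 = n16250 := rfl
theorem F28109 : act 2 n16250 = n13682 := d13_1 D16250 F24018 (iv F21538)
theorem F28110 : act 3 n16250 = n12197 := d16_1 D16250 (iv D12197) D12196
def n16251 : Q := act 6 n12196
theorem D16251 : act 6 n12196 = n16251 := rfl
theorem F28111 : act 2 n16251 = n13721 := d14_1 D16251 (iv D13721) (iv F21538)
theorem F28112 : act 3 n16251 = n12198 := d17_1 D16251 (iv D12198) D12196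
def n16252 : Q := act 1 n12197
theorem D16252 : act 1 n12197 = n16252 := rfl
theorem F28113 : act 4 n16252 = n12502 := d8_2 (iv F21508) D16252 (iv D12502)
def n16253 : Q := act 6 n12197
theorem D16253 : act 6 n12197 = n16253 := rfl
theorem F28114 : act 2 n16253 = n12199 := d14_1 D16253 (iv D12199) (iv F21507)
theorem F28115 : act 4 n16253 = n12503 := d19_1 D16253 (iv D12503) (iv F21508)
theorem F28116 : act 5 n16253 = n15041 := d22_2 D12197 D16253 (iv D15041) (iv F20475)
def n16254 : Q := act 1 n12198
theorem D16254 : act 1 n12198 = n16254 := rfl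
theorem F28117 : act 4 n16254 = n12504 := d8_2 (iv F21510) D16254 (iv D12504)
def n16255 : Q := act 5 n12198
theorem D16255 : act 5 n12198 = n16255 := rfl
theorem F28118 : act 0 n16255 = n16253 := d4_1 D16255 F28116 F26191
theorem F28119 : act 2 n16255 = n12201 := d13_1 D16255 (iv D12201) (iv F21509)
theorem F28120 : act 4 n16255 = n12505 := d18_1 D16255 (iv D12505) (iv F21510)
theorem F28121 : act 6 n16255 = n15040 := d20_2 D12198 D16255 (iv D15040) D15041 (iv F28116) (iv D16253) (iv D12197)
def n16256 : Q := act 1 n12199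
theorem D16256 : act 1 n12199 = n16256 := rfl
theorem F28122 : act 4 n16256 = n12506 := d8_2 (iv F21511) D16256 (iv D12506)
theorem F28123 : act 5 n16256 = n14991 := d9_2 (iv F21512) D16256 (iv F27694) F28097 (iv D16245)
theorem F28124 : act 0 n14993 = n16256 := d4_3 F28123 (iv D14991) D14993
def n16257 : Q := act 0 n12200
theorem D16257 : act 0 n12200 = n16257 := rfl
theorem F28125 : act 4 n16257 = n12507 := d3_2 (iv F21513) D16257 (iv D12507)
theorem F28126 : act 6 n16257 = n12210 := d5_2 (iv F21514) D16257 (iv D12210)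
theorem F28127 : act 5 n16257 = n15004 := d22_0 (iv F26113) (iv D12212) (iv F21514) D16257
def n16258 : Q := act 2 n12200
theorem D16258 : act 2 n12200 = n16258 := rfl
theorem F28128 : act 4 n16258 = n12508 := d12_2 (iv F21513) D16258 (iv D12508)
theorem F28129 : act 6 n16258 = n12211 := d14_2 (iv F21514) D16258 (iv D12211)
def n16259 : Q := act 5 n12200
theorem D16259 : act 5 n12200 = n16259 := rfl
theorem F28130 : act 0 n16259 = n15004 := d4_1 D16259 (iv F28127) (iv D16257)
theorem F28131 : act 4 n16259 = n12509 := d18_1 D16259 (iv D12509) (iv F21513)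
def n16260 : Q := act 1 n12201
theorem D16260 : act 1 n12201 = n16260 := rfl
theorem F28132 : act 0 n16260 = n12264 := d0_1 D16260 F21622 (iv F21432) D16155 (iv F27960) F26282 F28124 (iv D16256) (iv F21515)
theorem F28133 : act 4 n16260 = n12510 := d8_2 (iv F21516) D16260 (iv D12510)
theorem F28134 : act 6 n12262 = n16260 := d19_0 F28133 (iv F22132) (iv F21620)
def n16261 : Q := act 5 n12202
theorem D16261 : act 5 n12202 = n16261 := rfl
theorem F28135 : act 0 n16261 = n12204 := d4_1 D16261 (iv D12204) D12202
theorem F28136 : act 4 n16261 = n12512 := d18_1 D16261 (iv D12512) (iv F21519)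
def n16262 : Q := act 6 n12202
theorem D16262 : act 6 n12202 = n16262 := rfl
theorem F28137 : act 0 n16262 = n12205 := d5_1 D16262 (iv D12205) D12202
theorem F28138 : act 4 n16262 = n12513 := d19_1 D16262 (iv D12513) (iv F21519)
def n16263 : Q := act 4 n12203
theorem D16263 : act 4 n12203 = n16263 := rfl
theorem F28139 : act 1 n16263 = n12207 := d8_1 D16263 (iv D12207) (iv F21520)
theorem F28140 : act 3 n16263 = n12515 := d15_1 D16263 (iv D12515) (iv D10179) (iv F17809) D12203
def n16264 : Q := act 5 n12203
theorem D16264 : act 5 n12203 = n16264 := rfl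
theorem F28141 : act 3 n16264 = n12204 := d16_1 D16264 (iv D12204) D12203
def n16265 : Q := act 6 n12203
theorem D16265 : act 6 n12203 = n16265 := rfl
theorem F28142 : act 3 n16265 = n12205 := d17_1 D16265 (iv D12205) D12203
def n16266 : Q := act 6 n12204
theorem D16266 : act 6 n12204 = n16266 := rfl
theorem F28143 : act 4 n16266 = n12518 := d19_1 D16266 (iv D12518) (iv F21521)
theorem F28144 : act 5 n16266 = n16262 := d22_2 D12204 D16266 (iv D16262) (iv D12202)
def n16267 : Q := act 1 n12205
theorem D16267 : act 1 n12205 = n16267 := rfl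
theorem F28145 : act 4 n16267 = n12519 := d8_2 (iv F21522) D16267 (iv D12519)
theorem F28146 : act 6 n16267 = n12209 := d10_2 D12205 D16267 (iv D12209) (iv D10025) D10023
def n16268 : Q := act 5 n12205
theorem D16268 : act 5 n12205 = n16268 := rfl
theorem F28147 : act 0 n16268 = n16266 := d4_1 D16268 F28144 F28137
theorem F28148 : act 4 n16268 = n12520 := d18_1 D16268 (iv D12520) (iv F21522)
theorem F28149 : act 6 n16268 = n16261 := d20_2 D12205 D16268 (iv D16261) D16262 (iv F28144) (iv D16266) (iv D12204)
def n16269 : Q := act 1 n12206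
theorem D16269 : act 1 n12206 = n16269 := rfl
theorem F28150 : act 3 n16269 = n16167 := d7_2 (iv F21524) D16269 (iv D16167)
def n16270 : Q := act 4 n12206
theorem D16270 : act 4 n12206 = n16270 := rfl
theorem F28151 : act 0 n16270 = n12215 := d3_1 D16270 (iv D12215) (iv F21523)
theorem F28152 : act 2 n16270 = n12207 := d12_1 D16270 (iv D12207) D12206
theorem F28153 : act 5 n16270 = n13358 := d18_2 F27811 D16270 F27825
theorem F28154 : act 3 n13897 = n16270 := d16_3 F28153 F23516 D13897
def n16271 : Q := act 6 n12206
theorem D16271 : act 6 n12206 = n16271 := rfl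
theorem F28155 : act 0 n16271 = n12216 := d5_1 D16271 (iv D12216) (iv F21523)
theorem F28156 : act 2 n16271 = n12208 := d14_1 D16271 (iv D12208) D12206
theorem F28157 : act 3 n16271 = n16169 := d17_1 D16271 (iv D16169) (iv F21524)
theorem F28158 : act 5 n16271 = n16094 := d22_2 F27811 D16271 (iv D16094) (iv F27810)
def n16272 : Q := act 6 n12207
theorem D16272 : act 6 n12207 = n16272 := rfl
theorem F28159 : act 0 n16272 = n12217 := d5_1 D16272 (iv D12217) (iv F21525)
theorem F28160 : act 3 n16272 = n12524 := d17_1 D16272 (iv D12524) (iv F21526)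
theorem F28161 : act 4 n16272 = n12208 := d19_1 D16272 (iv D12208) D12207
theorem F28162 : act 5 n16272 = n16095 := d22_2 F27815 D16272 (iv D16095) (iv F27813)
def n16273 : Q := act 1 n12208
theorem D16273 : act 1 n12208 = n16273 := rfl
theorem F28163 : act 3 n16273 = n12209 := d7_2 (iv F21528) D16273 (iv D12209)
def n16274 : Q := act 0 n12209
theorem D16274 : act 0 n12209 = n16274 := rfl
theorem F28164 : act 4 n16274 = n12526 := d3_2 (iv F21530) D16274 (iv D12526)
def n16275 : Q := act 2 n12209
theorem D16275 : act 2 n12209 = n16275 := rfl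
theorem F28165 : act 1 n16275 = n12211 := d6_1 D16275 (iv D12211) (iv D10026) (iv F17812) D12209
theorem F28166 : act 4 n16275 = n12527 := d12_2 (iv F21530) D16275 (iv D12527)
def n16276 : Q := act 5 n12209
theorem D16276 : act 5 n12209 = n16276 := rfl
theorem F28167 : act 1 n16276 = n16099 := d9_1 D16276 (iv D16099) (iv D12118) (iv F17814) D12209
theorem F28168 : act 4 n16276 = n12528 := d18_1 D16276 (iv D12528) (iv F21530)
def n16277 : Q := act 1 n12210
theorem D16277 : act 1 n12210 = n16277 := rfl
theorem F28169 : act 4 n16277 = n12529 := d8_2 (iv F21531) D16277 (iv D12529)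
theorem F28170 : act 6 n15935 = n16277 := d19_0 F28169 (iv F22143) (iv F27542)
def n16278 : Q := act 2 n12210
theorem D16278 : act 2 n12210 = n16278 := rfl
theorem F28171 : act 0 n16278 = n12211 := d1_1 D16278 (iv D12211) D12210
theorem F28172 : act 4 n16278 = n12530 := d12_2 (iv F21531) D16278 (iv D12530)
def n16279 : Q := act 5 n12210
theorem D16279 : act 5 n12210 = n16279 := rfl
theorem F28173 : act 0 n16279 = n12212 := d4_1 D16279 (iv D12212) D12210
theorem F28174 : act 4 n16279 = n12531 := d18_1 D16279 (iv D12531) (iv F21531)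
theorem F28175 : act 6 n16279 = n16259 := d20_2 F28126 D16279 (iv D16259) F21514 D12212 F26113 (iv F28127)
theorem F28176 : act 1 n12252 = n16279 := d24_14 F28175 (iv D16259) (iv D12200) (iv D10022) D10021 (iv F21373) D16084 F27800 (iv F26241) F26240 (iv D15061) F20492 D12246 (iv F21603)
def n16280 : Q := act 3 n12211
theorem D16280 : act 3 n12211 = n16280 := rfl
def n16281 : Q := act 5 n12211
theorem D16281 : act 5 n12211 = n16281 := rfl
theorem F28177 : act 2 n16281 = n12212 := d13_1 D16281 (iv D12212) D12211
theorem F28178 : act 4 n16281 = n12533 := d18_1 D16281 (iv D12533) (iv F21532)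
def n16282 : Q := act 0 n12213
theorem D16282 : act 0 n12213 = n16282 := rfl
theorem F28179 : act 2 n16282 = n12296 := d1_2 (iv F21535) D16282 (iv D12296)
def n16283 : Q := act 3 n12213
theorem D16283 : act 3 n12213 = n16283 := rfl
theorem F28180 : act 1 n16283 = n12214 := d7_1 D16283 (iv D12214) D12213
def n16284 : Q := act 4 n12213
theorem D16284 : act 4 n12213 = n16284 := rfl
theorem F28181 : act 1 n16284 = n12215 := d8_1 D16284 (iv D12215) D12213
theorem F28182 : act 2 n16284 = n12297 := d12_1 D16284 (iv D12297) (iv F21535)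
theorem F28183 : act 3 n13862 = n16284 := d7_0 F28181 F27834 (iv F24354)
theorem F28184 : act 5 n13348 = n16284 := d9_0 F28181 F27835 (iv D10674) (iv F18939) D13348
def n16285 : Q := act 5 n12213
theorem D16285 : act 5 n12213 = n16285 := rfl
theorem F28185 : act 1 n16285 = n13315 := d9_1 D16285 F23408 F27823 F21379 D12213
theorem F28186 : act 2 n16285 = n12298 := d13_1 D16285 (iv D12298) (iv F21535)
theorem F28187 : act 4 n16285 = n13348 := d18_1 D16285 F28184 (iv D16284)
def n16286 : Q := act 6 n12213
theorem D16286 : act 6 n12213 = n16286 := rfl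
theorem F28188 : act 2 n16286 = n12218 := d14_1 D16286 F21547 (iv F21535)
def n16287 : Q := act 4 n12214
theorem D16287 : act 4 n12214 = n16287 := rfl
theorem F28189 : act 0 n16287 = n16168 := d3_1 D16287 (iv D16168) (iv F21536)
theorem F28190 : act 2 n16287 = n16160 := d12_1 D16287 F27972 (iv F21537)
theorem F28191 : act 3 n16287 = n13714 := d15_1 D16287 F24081 (iv F27834) (iv D12215) D12214
theorem F28192 : act 5 n16287 = n13696 := d18_2 F27819 D16287 F27821
def n16288 : Q := act 6 n12214
theorem D16288 : act 6 n12214 = n16288 := rfl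
theorem F28193 : act 0 n16288 = n16169 := d5_1 D16288 (iv D16169) (iv F21536)
theorem F28194 : act 2 n16288 = n16162 := d14_1 D16288 (iv D16162) (iv F21537)
theorem F28195 : act 3 n16288 = n12216 := d17_1 D16288 (iv D12216) D12214
def n16289 : Q := act 6 n12215
theorem D16289 : act 6 n12215 = n16289 := rfl
theorem F28196 : act 2 n16289 = n12217 := d14_1 D16289 (iv D12217) (iv F21542)
theorem F28197 : act 3 n16289 = n13903 := d17_1 D16289 (iv D13903) (iv F27834)
theorem F28198 : act 4 n16289 = n12216 := d19_1 D16289 (iv D12216) D12215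
def n16290 : Q := act 1 n12216
theorem D16290 : act 1 n12216 = n16290 := rfl
def n16291 : Q := act 5 n12216
theorem D16291 : act 5 n12216 = n16291 := rfl
theorem F28199 : act 0 n16291 = n16094 := d4_1 D16291 (iv F28158) F28155
theorem F28200 : act 2 n16291 = n12219 := d13_1 D16291 (iv D12219) (iv F21543)
theorem F28201 : act 6 n16291 = n16090 := d20_2 D12216 D16291 F27811 D16271 F28158 (iv D16094) F21379
def n16292 : Q := act 1 n12217
theorem D16292 : act 1 n12217 = n16292 := rfl
theorem F28202 : act 3 n16292 = n12540 := d7_2 (iv F21544) D16292 (iv D12540)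
theorem F28203 : act 4 n16292 = n12218 := d8_2 (iv F21545) D16292 (iv D12218)
theorem F28204 : act 6 n16292 = n12297 := d10_2 D12217 D16292 F21679 F17886 (iv F17816)
def n16293 : Q := act 5 n12217
theorem D16293 : act 5 n12217 = n16293 := rfl
theorem F28205 : act 0 n16293 = n16095 := d4_1 D16293 (iv F28162) F28159
theorem F28206 : act 3 n16293 = n12541 := d16_1 D16293 (iv D12541) (iv F21544)
theorem F28207 : act 4 n16293 = n12219 := d18_1 D16293 (iv D12219) (iv F21545)
theorem F28208 : act 6 n16293 = n16091 := d20_2 D12217 D16293 F27815 D16272 F28162 (iv D16095) F21382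
def n16294 : Q := act 0 n12218
theorem D16294 : act 0 n12218 = n16294 := rfl
theorem F28209 : act 3 n16294 = n12220 := d2_2 (iv F21546) D16294 (iv D12220)
theorem F28210 : act 6 n16294 = n12296 := d5_2 (iv F21547) D16294 (iv D12296)
def n16295 : Q := act 5 n12218
theorem D16295 : act 5 n12218 = n16295 := rfl
theorem F28211 : act 3 n16295 = n12221 := d16_1 D16295 (iv D12221) (iv F21546)
def n16296 : Q := act 1 n12219
theorem D16296 : act 1 n12219 = n16296 := rfl
theorem F28212 : act 3 n16296 = n12222 := d7_2 (iv F21549) D16296 (iv D12222)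
def n16297 : Q := act 1 n12220
theorem D16297 : act 1 n12220 = n16297 := rfl
theorem F28213 : act 4 n16297 = n12546 := d8_2 (iv F21551) D16297 (iv D12546)
def n16298 : Q := act 1 n12221
theorem D16298 : act 1 n12221 = n16298 := rfl
theorem F28214 : act 4 n16298 = n12550 := d8_2 (iv F21553) D16298 (iv D12550)
theorem F28215 : act 5 n16298 = n12222 := d9_2 D12221 D16298 (iv D12222) (iv D10031) D10030
def n16299 : Q := act 0 n12222
theorem D16299 : act 0 n12222 = n16299 := rfl
theorem F28216 : act 4 n16299 = n12551 := d3_2 (iv F21554) D16299 (iv D12551)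
def n16300 : Q := act 2 n12222
theorem D16300 : act 2 n12222 = n16300 := rfl
theorem F28217 : act 1 n16300 = n12229 := d6_1 D16300 (iv D12229) (iv D10035) (iv F17822) D12222
theorem F28218 : act 4 n16300 = n12552 := d12_2 (iv F21554) D16300 (iv D12552)
def n16301 : Q := act 6 n12222
theorem D16301 : act 6 n12222 = n16301 := rfl
theorem F28219 : act 1 n16301 = n16089 := d10_1 D16301 (iv D16089) (iv D12113) (iv F17824) D12222
theorem F28220 : act 4 n16301 = n12553 := d19_1 D16301 (iv D12553) (iv F21554)
def n16302 : Q := act 0 n12223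
theorem D16302 : act 0 n12223 = n16302 := rfl
theorem F28221 : act 4 n16302 = n12554 := d3_2 (iv F21555) D16302 (iv D12554)
theorem F28222 : act 5 n14923 = n16302 := d18_0 F28221 (iv F22257) (iv F25956)
def n16303 : Q := act 2 n12223
theorem D16303 : act 2 n12223 = n16303 := rfl
theorem F28223 : act 4 n16303 = n12555 := d12_2 (iv F21555) D16303 (iv D12555)
def n16304 : Q := act 5 n12223
theorem D16304 : act 5 n12223 = n16304 := rfl
theorem F28224 : act 0 n16304 = n14923 := d4_1 D16304 F28222 (iv D16302)
theorem F28225 : act 4 n16304 = n12556 := d18_1 D16304 (iv D12556) (iv F21555)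
theorem F28226 : act 6 n16140 = n16304 := d19_0 F28225 F22127 (iv F27928)
def n16305 : Q := act 6 n12223
theorem D16305 : act 6 n12223 = n16305 := rfl
theorem F28227 : act 1 n16305 = n12234 := d10_1 D16305 (iv D12234) (iv D10036) (iv F17826) D12223
theorem F28228 : act 4 n16305 = n12557 := d19_1 D16305 (iv D12557) (iv F21555)
def n16306 : Q := act 1 n12224
theorem D16306 : act 1 n12224 = n16306 := rfl
theorem F28229 : act 4 n16306 = n12558 := d8_2 (iv F21557) D16306 (iv D12558)
def n16307 : Q := act 3 n12224
theorem D16307 : act 3 n12224 = n16307 := rfl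
theorem F28230 : act 0 n16307 = n12225 := d2_1 D16307 (iv D12225) (iv F21556)
theorem F28231 : act 6 n16307 = n12236 := d17_2 (iv F21558) D16307 (iv D12236)
def n16308 : Q := act 2 n12225
theorem D16308 : act 2 n12225 = n16308 := rfl
theorem F28232 : act 6 n16308 = n12239 := d14_2 (iv F21559) D16308 (iv D12239)
def n16309 : Q := act 4 n12225
theorem D16309 : act 4 n12225 = n16309 := rfl
theorem F28233 : act 3 n16309 = n12561 := d15_1 D16309 (iv D12561) (iv D10201) (iv F17827) D12225
theorem F28234 : act 6 n16309 = n12240 := d19_2 (iv F21559) D16309 (iv D12240)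
def n16310 : Q := act 5 n12225
theorem D16310 : act 5 n12225 = n16310 := rfl
theorem F28235 : act 3 n16310 = n12226 := d16_1 D16310 (iv D12226) D12225
def n16311 : Q := act 1 n12226
theorem D16311 : act 1 n12226 = n16311 := rfl
theorem F28236 : act 4 n16311 = n12563 := d8_2 (iv F21561) D16311 (iv D12563)
def n16312 : Q := act 0 n12227
theorem D16312 : act 0 n12227 = n16312 := rfl
theorem F28237 : act 4 n16312 = n12564 := d3_2 (iv F21562) D16312 (iv D12564)
theorem F28238 : act 5 n16312 = n12228 := d4_2 (iv F21563) D16312 (iv D12228)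
theorem F28239 : act 1 n16123 = n16312 := d9_5 F28238 F26008 F26007 (iv F27887) (iv F27896)
def n16313 : Q := act 2 n12227
theorem D16313 : act 2 n12227 = n16313 := rfl
theorem F28240 : act 4 n16313 = n12565 := d12_2 (iv F21562) D16313 (iv D12565)
theorem F28241 : act 5 n16313 = n12229 := d13_2 (iv F21563) D16313 (iv D12229)
def n16314 : Q := act 6 n12227
theorem D16314 : act 6 n12227 = n16314 := rfl
theorem F28242 : act 1 n16314 = n15970 := d10_1 D16314 (iv F27619) (iv D12238) F17836 D12227
theorem F28243 : act 4 n16314 = n12566 := d19_1 D16314 (iv D12566) (iv F21562)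
def n16315 : Q := act 2 n12228
theorem D16315 : act 2 n12228 = n16315 := rfl
theorem F28244 : act 0 n16315 = n12229 := d1_1 D16315 (iv D12229) D12228
theorem F28245 : act 4 n16315 = n12568 := d12_2 (iv F21564) D16315 (iv D12568)
def n16316 : Q := act 6 n12228
theorem D16316 : act 6 n12228 = n16316 := rfl
theorem F28246 : act 0 n16316 = n12230 := d5_1 D16316 (iv D12230) D12228
theorem F28247 : act 1 n16316 = n14990 := d10_1 D16316 (iv D14990) F20423 D14948 (iv F26008)
theorem F28248 : act 4 n16316 = n12569 := d19_1 D16316 (iv D12569) (iv F21564)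
theorem F28249 : act 5 n16316 = n16314 := d22_2 F28238 D16316 (iv D16314) D16312
def n16317 : Q := act 3 n12229
theorem D16317 : act 3 n12229 = n16317 := rfl
def n16318 : Q := act 6 n12229
theorem D16318 : act 6 n12229 = n16318 := rfl
theorem F28250 : act 2 n16318 = n12230 := d14_1 D16318 (iv D12230) D12229
theorem F28251 : act 4 n16318 = n12571 := d19_1 D16318 (iv D12571) (iv F21565)
def n16319 : Q := act 5 n12230
theorem D16319 : act 5 n12230 = n16319 := rfl
theorem F28252 : act 0 n16319 = n16314 := d4_1 D16319 (iv F28249) F28246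
theorem F28253 : act 4 n16319 = n12572 := d18_1 D16319 (iv D12572) (iv F21567)
theorem F28254 : act 6 n16319 = n16312 := d20_2 D12230 D16319 F28238 D16316 F28249 (iv D16314) F21563
def n16320 : Q := act 2 n12231
theorem D16320 : act 2 n12231 = n16320 := rfl
theorem F28255 : act 0 n16320 = n12232 := d1_1 D16320 (iv D12232) D12231
theorem F28256 : act 4 n16320 = n12573 := d12_2 (iv F21568) D16320 (iv D12573)
def n16321 : Q := act 5 n12231
theorem D16321 : act 5 n12231 = n16321 := rfl
theorem F28257 : act 0 n16321 = n12233 := d4_1 D16321 (iv D12233) D12231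
theorem F28258 : act 4 n16321 = n12574 := d18_1 D16321 (iv D12574) (iv F21568)
def n16322 : Q := act 6 n12231
theorem D16322 : act 6 n12231 = n16322 := rfl
theorem F28259 : act 0 n16322 = n12234 := d5_1 D16322 (iv D12234) D12231
theorem F28260 : act 4 n16322 = n12575 := d19_1 D16322 (iv D12575) (iv F21568)
theorem F28261 : act 5 n16322 = n16021 := d22_2 (iv D16321) D16322 (iv F27703) (iv F28257)
theorem F28262 : act 1 n16016 = n16322 := d9_5 F28261 (iv D16021) (iv D12079) D12077 D16016
def n16323 : Q := act 1 n12232
theorem D16323 : act 1 n12232 = n16323 := rfl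
theorem F28263 : act 2 n16323 = n12235 := d6_2 D12232 D16323 (iv D12235) (iv D10037) D10036
theorem F28264 : act 4 n16323 = n12576 := d8_2 (iv F21569) D16323 (iv D12576)
def n16324 : Q := act 3 n12232
theorem D16324 : act 3 n12232 = n16324 := rfl
def n16325 : Q := act 5 n12232
theorem D16325 : act 5 n12232 = n16325 := rfl
theorem F28265 : act 2 n16325 = n12233 := d13_1 D16325 (iv D12233) D12232
theorem F28266 : act 4 n16325 = n12578 := d18_1 D16325 (iv D12578) (iv F21569)
def n16326 : Q := act 6 n12232
theorem D16326 : act 6 n12232 = n16326 := rfl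
theorem F28267 : act 2 n16326 = n12234 := d14_1 D16326 (iv D12234) D12232
theorem F28268 : act 4 n16326 = n12579 := d19_1 D16326 (iv D12579) (iv F21569)
def n16327 : Q := act 1 n12233
theorem D16327 : act 1 n12233 = n16327 := rfl
theorem F28269 : act 4 n16327 = n12580 := d8_2 (iv F21570) D16327 (iv D12580)
theorem F28270 : act 5 n16327 = n12238 := d9_2 D12233 D16327 (iv D12238) (iv D10038) D10036
theorem F28271 : act 6 n16327 = n15969 := d10_2 (iv F27703) D16327 (iv D15969) (iv F21326) D16021
def n16328 : Q := act 5 n12234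
theorem D16328 : act 5 n12234 = n16328 := rfl
theorem F28272 : act 0 n16328 = n16021 := d4_1 D16328 (iv F28261) F28259
theorem F28273 : act 4 n16328 = n12581 := d18_1 D16328 (iv D12581) (iv F21571)
theorem F28274 : act 6 n16328 = n16321 := d20_2 D12234 D16328 (iv D16321) D16322 F28261 (iv F27703) (iv D12233)
theorem F28275 : act 1 n16328 = n14940 := d24_2 D12234 D16328 (iv D14940) (iv F20374) (iv F25218) (iv F27804) (iv D16085) (iv F21566) (iv D12230) (iv F21563) (iv D12227) (iv F17836) (iv D10038) D10036
def n16329 : Q := act 0 n12235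
theorem D16329 : act 0 n12235 = n16329 := rfl
theorem F28276 : act 4 n16329 = n12582 := d3_2 (iv F21572) D16329 (iv D12582)
def n16330 : Q := act 3 n12235
theorem D16330 : act 3 n12235 = n16330 := rfl
theorem F28277 : act 1 n16330 = n12236 := d7_1 D16330 (iv D12236) D12235
def n16331 : Q := act 5 n12235
theorem D16331 : act 5 n12235 = n16331 := rfl
theorem F28278 : act 4 n16331 = n12584 := d18_1 D16331 (iv D12584) (iv F21572)
def n16332 : Q := act 6 n12235
theorem D16332 : act 6 n12235 = n16332 := rfl
theorem F28279 : act 4 n16332 = n12585 := d19_1 D16332 (iv D12585) (iv F21572)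
def n16333 : Q := act 2 n12236
theorem D16333 : act 2 n12236 = n16333 := rfl
theorem F28280 : act 0 n16333 = n12239 := d1_1 D16333 (iv D12239) (iv F21573)
theorem F28281 : act 3 n16333 = n16193 := d21_1 D16333 (iv D16193) (iv D12167) (iv D10007) F7857 D5181 D10039 (iv F21573)
def n16334 : Q := act 4 n12236
theorem D16334 : act 4 n12236 = n16334 := rfl
theorem F28282 : act 0 n16334 = n12240 := d3_1 D16334 (iv D12240) (iv F21573)
theorem F28283 : act 3 n16334 = n12587 := d15_1 D16334 (iv D12587) (iv D10212) (iv F17833) D12236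
def n16335 : Q := act 5 n12236
theorem D16335 : act 5 n12236 = n16335 := rfl
theorem F28284 : act 0 n16335 = n12241 := d4_1 D16335 (iv D12241) (iv F21573)
theorem F28285 : act 3 n16335 = n12237 := d16_1 D16335 (iv D12237) D12236
theorem F28286 : act 6 n16335 = n16310 := d22_1 D16335 (iv D16310) F21559 (iv F21573)
def n16336 : Q := act 1 n12237
theorem D16336 : act 1 n12237 = n16336 := rfl
theorem F28287 : act 4 n16336 = n12589 := d8_2 (iv F21576) D16336 (iv D12589)
def n16337 : Q := act 2 n12238
theorem D16337 : act 2 n12238 = n16337 := rfl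
theorem F28288 : act 4 n16337 = n12590 := d12_2 (iv F21578) D16337 (iv D12590)
def n16338 : Q := act 1 n12239
theorem D16338 : act 1 n12239 = n16338 := rfl
theorem F28289 : act 2 n16338 = n12310 := d6_2 D12239 D16338 (iv D12310) (iv D10073) (iv F17837)
def n16339 : Q := act 3 n12239
theorem D16339 : act 3 n12239 = n16339 := rfl
theorem F28290 : act 0 n16339 = n16193 := d2_1 D16339 (iv F28281) F28280
theorem F28291 : act 2 n16339 = n16190 := d11_1 D16339 (iv D16190) (iv D12165) F17781 D10037 D12236 D16333 F28281 (iv D16193) (iv D12167) (iv D10007) F7857 D5181 D10039 D12239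
def n16340 : Q := act 4 n12239
theorem D16340 : act 4 n12239 = n16340 := rfl
theorem F28292 : act 2 n16340 = n12240 := d12_1 D16340 (iv D12240) D12239
def n16341 : Q := act 5 n12239
theorem D16341 : act 5 n12239 = n16341 := rfl
theorem F28293 : act 2 n16341 = n12241 := d13_1 D16341 (iv D12241) D12239
def n16342 : Q := act 5 n12240
theorem D16342 : act 5 n12240 = n16342 := rfl
theorem F28294 : act 3 n16342 = n12595 := d16_1 D16342 (iv D12595) (iv F21580)
theorem F28295 : act 4 n16342 = n12241 := d18_1 D16342 (iv D12241) D12240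
def n16343 : Q := act 6 n12241
theorem D16343 : act 6 n12241 = n16343 := rfl
theorem F28296 : act 0 n16343 = n16310 := d5_1 D16343 (iv F28286) F28284
theorem F28297 : act 3 n16343 = n12242 := d17_1 D16343 (iv D12242) (iv F21581)
theorem F28298 : act 5 n16343 = n16307 := d20_1 D16343 F28231 D16335 F28286 (iv D16310) F21559 D12241
def n16344 : Q := act 1 n12242
theorem D16344 : act 1 n12242 = n16344 := rfl
theorem F28299 : act 4 n16344 = n12597 := d8_2 (iv F21584) D16344 (iv D12597)
def n16345 : Q := act 0 n12243
theorem D16345 : act 0 n12243 = n16345 := rfl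
theorem F28300 : act 4 n16345 = n12598 := d3_2 (iv F21586) D16345 (iv D12598)
theorem F28301 : act 6 n16345 = n15085 := d5_2 (iv F21587) D16345 (iv D15085)
def n16346 : Q := act 2 n12243
theorem D16346 : act 2 n12243 = n16346 := rfl
theorem F28302 : act 4 n16346 = n12599 := d12_2 (iv F21586) D16346 (iv D12599)
theorem F28303 : act 6 n16346 = n15086 := d14_2 (iv F21587) D16346 (iv D15086)
def n16347 : Q := act 5 n12243
theorem D16347 : act 5 n12243 = n16347 := rfl
theorem F28304 : act 1 n16347 = n16304 := d9_1 D16347 (iv D16304) (iv D12223) (iv F17842) D12243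
theorem F28305 : act 4 n16347 = n12600 := d18_1 D16347 (iv D12600) (iv F21586)
theorem F28306 : act 6 n16347 = n16155 := d22_1 D16347 F27959 (iv F28301) (iv D16345)
def n16348 : Q := act 1 n12245
theorem D16348 : act 1 n12245 = n16348 := rfl
theorem F28307 : act 4 n16348 = n12605 := d8_2 (iv F21591) D16348 (iv D12605)
theorem F28308 : act 6 n16003 = n16348 := d19_0 F28307 F22144 (iv F27668)
def n16349 : Q := act 1 n12246
theorem D16349 : act 1 n12246 = n16349 := rfl
theorem F28309 : act 0 n16349 = n14917 := d0_1 D16349 (iv D14917) F20341 D11496 D14924 (iv F27887) F27886 F21406 (iv F21592)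
theorem F28310 : act 4 n16349 = n12606 := d8_2 (iv F21593) D16349 (iv D12606)
theorem F28311 : act 5 n16349 = n16277 := d9_2 F21603 D16349 (iv D16277) D16279 (iv F28176)
theorem F28312 : act 6 n16349 = n15933 := d10_2 D12246 D16349 (iv F27540) (iv D15062) F20492
def n16350 : Q := act 3 n12247
theorem D16350 : act 3 n12247 = n16350 := rfl
theorem F28313 : act 1 n16350 = n12248 := d7_1 D16350 (iv D12248) D12247
theorem F28314 : act 2 n16350 = n13445 := d25_19 (iv F1163) (iv F16640) (iv F3972) (iv F16864) (iv D5222) (iv F7888) (iv D5186) (iv D2501) (iv F3925) D5170 F7859 D10012 D12178 (iv F21613) (iv D12258) (iv F21609) (iv D12255) (iv F21594) D16350 F23647 (iv D10726) (iv D7676) F5651 (iv F16781) D3854 F5908 F3018 F16897 (iv F3018) (iv F16908) (iv D1761) F1566 F869 (iv F976) F975 F16661 F976 (iv F869) (iv F1566) F1565 D885 F1582 D899 D1814 (iv F16474) F1671 (iv D494) (iv D251) F243 (iv F15710) D151 F304 (iv F585) F16687 F585 (iv F395) (iv D101) (iv F210) (iv F418) (iv F791) F15461 F17061 F791 F418 F210 F15666 D55 (iv F243) D251 D494 (iv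 F15743) (iv F1057) (iv D567) (iv D286) (iv F553) D545 F1028
theorem F28315 : act 2 n12255 = n13428 := d21_6 D10720 D13445 (iv F28314) (iv D16350) F21594 D12255 F23617 (iv D10719)
theorem F28316 : act 0 n12255 = n13429 := d21_8 (iv D13429) F19034 D10720 D13445 (iv F28314) (iv D16350) F21594 D12255
theorem F28317 : act 3 n12254 = n13429 := d21_1 (iv F26326) (iv D13429) F19034 D10720 D13445 (iv F28314) (iv D16350) (iv F26324)
def n16351 : Q := act 5 n12247
theorem D16351 : act 5 n12247 = n16351 := rfl
theorem F28318 : act 2 n16351 = n12256 := d13_1 D16351 (iv D12256) (iv F21594)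
theorem F28319 : act 4 n16351 = n12609 := d18_1 D16351 (iv D12609) (iv F21595)
def n16352 : Q := act 6 n12247
theorem D16352 : act 6 n12247 = n16352 := rfl
theorem F28320 : act 2 n16352 = n12257 := d14_1 D16352 (iv D12257) (iv F21594)
theorem F28321 : act 4 n16352 = n12610 := d19_1 D16352 (iv D12610) (iv F21595)
def n16353 : Q := act 4 n12248
theorem D16353 : act 4 n12248 = n16353 := rfl
theorem F28322 : act 2 n16353 = n13742 := d12_1 D16353 (iv D13742) (iv F21627)
theorem F28323 : act 3 n16353 = n12612 := d15_1 D16353 (iv D12612) (iv D10224) (iv F17844) D12248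
def n16354 : Q := act 5 n12248
theorem D16354 : act 5 n12248 = n16354 := rfl
theorem F28324 : act 2 n16354 = n13743 := d13_1 D16354 (iv D13743) (iv F21627)
theorem F28325 : act 3 n16354 = n12249 := d16_1 D16354 (iv D12249) D12248
def n16355 : Q := act 6 n12248
theorem D16355 : act 6 n12248 = n16355 := rfl
theorem F28326 : act 2 n16355 = n13690 := d14_1 D16355 F24031 (iv F21627)
theorem F28327 : act 3 n16355 = n12250 := d17_1 D16355 (iv D12250) D12248
def n16356 : Q := act 1 n12249
theorem D16356 : act 1 n12249 = n16356 := rfl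
theorem F28328 : act 4 n16356 = n12615 := d8_2 (iv F21597) D16356 (iv D12615)
def n16357 : Q := act 6 n12249
theorem D16357 : act 6 n12249 = n16357 := rfl
theorem F28329 : act 2 n16357 = n12252 := d14_1 D16357 (iv D12252) (iv F21596)
theorem F28330 : act 4 n16357 = n12616 := d19_1 D16357 (iv D12616) (iv F21597)
theorem F28331 : act 5 n16357 = n15068 := d22_2 D12249 D16357 (iv D15068) F23437
def n16359 : Q := act 5 n12250
theorem D16359 : act 5 n12250 = n16359 := rfl
theorem F28333 : act 0 n16359 = n16357 := d4_1 D16359 F28331 F26248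
theorem F28334 : act 2 n16359 = n12253 := d13_1 D16359 (iv D12253) (iv F21598)
theorem F28335 : act 4 n16359 = n12618 := d18_1 D16359 (iv D12618) (iv F21599)
theorem F28336 : act 6 n16359 = n15067 := d20_2 D12250 D16359 (iv D15067) D15068 (iv F28331) (iv D16357) (iv D12249)
def n16360 : Q := act 0 n12251
theorem D16360 : act 0 n12251 = n16360 := rfl
theorem F28337 : act 4 n16360 = n12619 := d3_2 (iv F21600) D16360 (iv D12619)
theorem F28338 : act 5 n16360 = n12262 := d4_2 (iv F21601) D16360 (iv D12262)
theorem F28339 : act 6 n14985 = n16360 := d22_3 F21601 D12264 F26082 (iv D16360)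
def n16361 : Q := act 2 n12251
theorem D16361 : act 2 n12251 = n16361 := rfl
theorem F28340 : act 4 n16361 = n12620 := d12_2 (iv F21600) D16361 (iv D12620)
theorem F28341 : act 5 n16361 = n12263 := d13_2 (iv F21601) D16361 (iv D12263)
def n16362 : Q := act 6 n12251
theorem D16362 : act 6 n12251 = n16362 := rfl
theorem F28342 : act 0 n16362 = n14985 := d5_1 D16362 F28339 (iv D16360)
theorem F28343 : act 1 n16362 = n16259 := d10_1 D16362 (iv F28175) (iv F28176) (iv D12252) D12251
theorem F28344 : act 4 n16362 = n12621 := d19_1 D16362 (iv D12621) (iv F21600)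
theorem F28345 : act 5 n16362 = n16260 := d20_1 D16362 (iv F28134) (iv F28338) (iv F28339) (iv F26082) (iv D12264) (iv F21601)
def n16363 : Q := act 1 n12253
theorem D16363 : act 1 n12253 = n16363 := rfl
theorem F28346 : act 0 n16363 = n14975 := d0_1 D16363 (iv F26225) F27880 (iv D16115) F21400 (iv F21533) (iv F28173) (iv F28176) (iv F21604)
theorem F28347 : act 4 n16363 = n12622 := d8_2 (iv F21605) D16363 (iv D12622)
theorem F28348 : act 6 n16363 = n14972 := d10_2 (iv F21606) D16363 (iv F27667) F28308 (iv D16348)
def n16364 : Q := act 5 n12254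
theorem D16364 : act 5 n12254 = n16364 := rfl
theorem F28349 : act 0 n16364 = n12256 := d4_1 D16364 (iv D12256) D12254
theorem F28350 : act 4 n16364 = n12624 := d18_1 D16364 (iv D12624) (iv F21608)
def n16365 : Q := act 6 n12254
theorem D16365 : act 6 n12254 = n16365 := rfl
theorem F28351 : act 0 n16365 = n12257 := d5_1 D16365 (iv D12257) D12254
theorem F28352 : act 4 n16365 = n12625 := d19_1 D16365 (iv D12625) (iv F21608)
def n16366 : Q := act 4 n12255
theorem D16366 : act 4 n12255 = n16366 := rfl
theorem F28353 : act 1 n16366 = n12259 := d8_1 D16366 (iv D12259) (iv F21609)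
theorem F28354 : act 3 n16366 = n12627 := d15_1 D16366 (iv D12627) (iv D10231) (iv F17847) D12255
def n16367 : Q := act 5 n12255
theorem D16367 : act 5 n12255 = n16367 := rfl
theorem F28355 : act 3 n16367 = n12256 := d16_1 D16367 (iv D12256) D12255
def n16368 : Q := act 6 n12255
theorem D16368 : act 6 n12255 = n16368 := rfl
theorem F28356 : act 3 n16368 = n12257 := d17_1 D16368 (iv D12257) D12255
def n16369 : Q := act 1 n12256
theorem D16369 : act 1 n12256 = n16369 := rfl
theorem F28357 : act 4 n16369 = n12630 := d8_2 (iv F21610) D16369 (iv D12630)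
theorem F28358 : act 5 n16369 = n12261 := d9_2 D12256 D16369 (iv D12261) (iv D10048) D10046
def n16370 : Q := act 6 n12256
theorem D16370 : act 6 n12256 = n16370 := rfl
theorem F28359 : act 4 n16370 = n12631 := d19_1 D16370 (iv D12631) (iv F21610)
theorem F28360 : act 5 n16370 = n16365 := d22_2 D12256 D16370 (iv D16365) (iv D12254)
def n16371 : Q := act 5 n12257
theorem D16371 : act 5 n12257 = n16371 := rfl
theorem F28361 : act 0 n16371 = n16370 := d4_1 D16371 F28360 F28351
theorem F28362 : act 4 n16371 = n12632 := d18_1 D16371 (iv D12632) (iv F21611)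
theorem F28363 : act 6 n16371 = n16364 := d20_2 D12257 D16371 (iv D16364) D16365 (iv F28360) (iv D16370) (iv D12256)
def n16372 : Q := act 1 n12258
theorem D16372 : act 1 n12258 = n16372 := rfl
theorem F28364 : act 3 n16372 = n16212 := d7_2 (iv F21613) D16372 (iv D16212)
def n16373 : Q := act 4 n12258
theorem D16373 : act 4 n12258 = n16373 := rfl
theorem F28365 : act 0 n16373 = n12267 := d3_1 D16373 (iv D12267) (iv F21612)
theorem F28366 : act 2 n16373 = n12259 := d12_1 D16373 (iv D12259) D12258
def n16374 : Q := act 5 n12258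
theorem D16374 : act 5 n12258 = n16374 := rfl
theorem F28367 : act 0 n16374 = n12268 := d4_1 D16374 (iv D12268) (iv F21612)
theorem F28368 : act 2 n16374 = n12260 := d13_1 D16374 (iv D12260) D12258
theorem F28369 : act 3 n16374 = n16214 := d16_1 D16374 (iv D16214) (iv F21613)
theorem F28370 : act 6 n16374 = n16134 := d22_1 D16374 (iv D16134) F21411 (iv F21612)
def n16375 : Q := act 5 n12259
theorem D16375 : act 5 n12259 = n16375 := rfl
theorem F28371 : act 0 n16375 = n12269 := d4_1 D16375 (iv D12269) (iv F21614)
theorem F28372 : act 3 n16375 = n12636 := d16_1 D16375 (iv D12636) (iv F21615)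
theorem F28373 : act 4 n16375 = n12260 := d18_1 D16375 (iv D12260) D12259
theorem F28374 : act 6 n16375 = n16135 := d22_1 D16375 (iv D16135) F21414 (iv F21614)
def n16376 : Q := act 1 n12260
theorem D16376 : act 1 n12260 = n16376 := rfl
theorem F28375 : act 3 n16376 = n12261 := d7_2 (iv F21617) D16376 (iv D12261)
def n16377 : Q := act 0 n12261
theorem D16377 : act 0 n12261 = n16377 := rfl
theorem F28376 : act 4 n16377 = n12638 := d3_2 (iv F21619) D16377 (iv D12638)
def n16378 : Q := act 2 n12261
theorem D16378 : act 2 n12261 = n16378 := rfl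
theorem F28377 : act 1 n16378 = n12263 := d6_1 D16378 (iv D12263) (iv D10049) (iv F17850) D12261
theorem F28378 : act 4 n16378 = n12639 := d12_2 (iv F21619) D16378 (iv D12639)
def n16379 : Q := act 6 n12261
theorem D16379 : act 6 n12261 = n16379 := rfl
theorem F28379 : act 1 n16379 = n16139 := d10_1 D16379 (iv D16139) (iv D12137) (iv F17852) D12261
theorem F28380 : act 4 n16379 = n12640 := d19_1 D16379 (iv D12640) (iv F21619)
def n16380 : Q := act 1 n12262
theorem D16380 : act 1 n12262 = n16380 := rfl
theorem F28381 : act 4 n16380 = n12641 := d8_2 (iv F21620) D16380 (iv D12641)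
theorem F28382 : act 6 n16380 = n16244 := d10_2 (iv F28134) D16380 (iv D16244) (iv F21517) D16260
theorem F28383 : act 5 n15932 = n16380 := d24_1 D15932 (iv D16380) F28134 (iv F28345) F28343 (iv F28175) (iv D16279) D16277 (iv F28170) (iv D15935) (iv D12037) (iv D9946) D9945 D12036
def n16381 : Q := act 2 n12262
theorem D16381 : act 2 n12262 = n16381 := rfl
theorem F28384 : act 0 n16381 = n12263 := d1_1 D16381 (iv D12263) D12262
theorem F28385 : act 4 n16381 = n12642 := d12_2 (iv F21620) D16381 (iv D12642)
def n16382 : Q := act 3 n12263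
theorem D16382 : act 3 n12263 = n16382 := rfl
def n16383 : Q := act 6 n12263
theorem D16383 : act 6 n12263 = n16383 := rfl
theorem F28386 : act 2 n16383 = n12264 := d14_1 D16383 (iv D12264) D12263
theorem F28387 : act 4 n16383 = n12644 := d19_1 D16383 (iv D12644) (iv F21621)
def n16384 : Q := act 0 n12265
theorem D16384 : act 0 n12265 = n16384 := rfl
theorem F28388 : act 2 n16384 = n12312 := d1_2 (iv F21624) D16384 (iv D12312)
def n16385 : Q := act 3 n12265
theorem D16385 : act 3 n12265 = n16385 := rfl
theorem F28389 : act 1 n16385 = n12266 := d7_1 D16385 (iv D12266) D12265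
def n16386 : Q := act 4 n12265
theorem D16386 : act 4 n12265 = n16386 := rfl
theorem F28390 : act 1 n16386 = n12267 := d8_1 D16386 (iv D12267) D12265
theorem F28391 : act 2 n16386 = n12313 := d12_1 D16386 (iv D12313) (iv F21624)
def n16387 : Q := act 5 n12265
theorem D16387 : act 5 n12265 = n16387 := rfl
theorem F28392 : act 2 n16387 = n12270 := d13_1 D16387 F21636 (iv F21624)
def n16388 : Q := act 6 n12265
theorem D16388 : act 6 n12265 = n16388 := rfl
theorem F28393 : act 2 n16388 = n12314 := d14_1 D16388 (iv D12314) (iv F21624)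
def n16389 : Q := act 4 n12266
theorem D16389 : act 4 n12266 = n16389 := rfl
theorem F28394 : act 0 n16389 = n16213 := d3_1 D16389 (iv D16213) (iv F21625)
theorem F28395 : act 2 n16389 = n16206 := d12_1 D16389 (iv D16206) (iv F21626)
def n16390 : Q := act 5 n12266
theorem D16390 : act 5 n12266 = n16390 := rfl
theorem F28396 : act 0 n16390 = n16214 := d4_1 D16390 (iv D16214) (iv F21625)
theorem F28397 : act 2 n16390 = n16207 := d13_1 D16390 (iv D16207) (iv F21626)
theorem F28398 : act 3 n16390 = n12268 := d16_1 D16390 (iv D12268) D12266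
def n16391 : Q := act 3 n12267
theorem D16391 : act 3 n12267 = n16391 := rfl
def n16392 : Q := act 5 n12267
theorem D16392 : act 5 n12267 = n16392 := rfl
theorem F28399 : act 2 n16392 = n12269 := d13_1 D16392 (iv D12269) (iv F21631)
theorem F28400 : act 4 n16392 = n12268 := d18_1 D16392 (iv D12268) D12267
def n16393 : Q := act 1 n12268
theorem D16393 : act 1 n12268 = n16393 := rfl
def n16394 : Q := act 6 n12268
theorem D16394 : act 6 n12268 = n16394 := rfl
theorem F28401 : act 0 n16394 = n16134 := d5_1 D16394 (iv F28370) F28367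
theorem F28402 : act 2 n16394 = n12271 := d14_1 D16394 (iv D12271) (iv F21632)
theorem F28403 : act 5 n16394 = n16129 := d20_1 D16394 F27906 D16374 F28370 (iv D16134) F21411 D12268
def n16395 : Q := act 1 n12269
theorem D16395 : act 1 n12269 = n16395 := rfl
theorem F28404 : act 3 n16395 = n12651 := d7_2 (iv F21633) D16395 (iv D12651)
theorem F28405 : act 4 n16395 = n12270 := d8_2 (iv F21634) D16395 (iv D12270)
theorem F28406 : act 5 n16395 = n12313 := d9_2 D12269 D16395 F21713 F17909 (iv F17854)
def n16396 : Q := act 6 n12269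
theorem D16396 : act 6 n12269 = n16396 := rfl
theorem F28407 : act 0 n16396 = n16135 := d5_1 D16396 (iv F28374) F28371
theorem F28408 : act 3 n16396 = n12652 := d17_1 D16396 (iv D12652) (iv F21633)
theorem F28409 : act 4 n16396 = n12271 := d19_1 D16396 (iv D12271) (iv F21634)
theorem F28410 : act 5 n16396 = n16130 := d20_1 D16396 F27910 D16375 F28374 (iv D16135) F21414 D12269
def n16397 : Q := act 0 n12270
theorem D16397 : act 0 n12270 = n16397 := rfl
theorem F28411 : act 3 n16397 = n12272 := d2_2 (iv F21635) D16397 (iv D12272)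
theorem F28412 : act 5 n16397 = n12312 := d4_2 (iv F21636) D16397 (iv D12312)
def n16398 : Q := act 6 n12270
theorem D16398 : act 6 n12270 = n16398 := rfl
theorem F28413 : act 3 n16398 = n12273 := d17_1 D16398 (iv D12273) (iv F21635)
def n16399 : Q := act 1 n12271
theorem D16399 : act 1 n12271 = n16399 := rfl
theorem F28414 : act 3 n16399 = n12274 := d7_2 (iv F21638) D16399 (iv D12274)
def n16400 : Q := act 1 n12272
theorem D16400 : act 1 n12272 = n16400 := rfl
theorem F28415 : act 4 n16400 = n12657 := d8_2 (iv F21640) D16400 (iv D12657)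
def n16401 : Q := act 1 n12273
theorem D16401 : act 1 n12273 = n16401 := rfl
theorem F28416 : act 4 n16401 = n12661 := d8_2 (iv F21642) D16401 (iv D12661)
theorem F28417 : act 6 n16401 = n12274 := d10_2 D12273 D16401 (iv D12274) (iv D10054) D10053
def n16402 : Q := act 0 n12274
theorem D16402 : act 0 n12274 = n16402 := rfl
theorem F28418 : act 4 n16402 = n12662 := d3_2 (iv F21643) D16402 (iv D12662)
def n16403 : Q := act 2 n12274
theorem D16403 : act 2 n12274 = n16403 := rfl
theorem F28419 : act 1 n16403 = n12281 := d6_1 D16403 (iv D12281) (iv D10058) (iv F17860) D12274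
theorem F28420 : act 4 n16403 = n12663 := d12_2 (iv F21643) D16403 (iv D12663)
def n16404 : Q := act 5 n12274
theorem D16404 : act 5 n12274 = n16404 := rfl
theorem F28421 : act 1 n16404 = n16127 := d9_1 D16404 (iv D16127) (iv D12132) (iv F17862) D12274
theorem F28422 : act 4 n16404 = n12664 := d18_1 D16404 (iv D12664) (iv F21643)
def n16405 : Q := act 0 n12275
theorem D16405 : act 0 n12275 = n16405 := rfl
theorem F28423 : act 4 n16405 = n12665 := d3_2 (iv F21644) D16405 (iv D12665)
theorem F28424 : act 6 n14927 = n16405 := d19_0 F28423 (iv F22227) (iv F25962)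
def n16406 : Q := act 2 n12275
theorem D16406 : act 2 n12275 = n16406 := rfl
theorem F28425 : act 4 n16406 = n12666 := d12_2 (iv F21644) D16406 (iv D12666)
def n16407 : Q := act 5 n12275
theorem D16407 : act 5 n12275 = n16407 := rfl
theorem F28426 : act 1 n16407 = n12285 := d9_1 D16407 (iv D12285) (iv D10059) (iv F17864) D12275
theorem F28427 : act 4 n16407 = n12667 := d18_1 D16407 (iv D12667) (iv F21644)
def n16408 : Q := act 6 n12275
theorem D16408 : act 6 n12275 = n16408 := rfl
theorem F28428 : act 0 n16408 = n14927 := d5_1 D16408 F28424 (iv D16405)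
theorem F28429 : act 4 n16408 = n12668 := d19_1 D16408 (iv D12668) (iv F21644)
theorem F28430 : act 5 n16100 = n16408 := d18_0 F28429 (iv F22294) (iv F27849)
def n16409 : Q := act 1 n12276
theorem D16409 : act 1 n12276 = n16409 := rfl
theorem F28431 : act 4 n16409 = n12669 := d8_2 (iv F21646) D16409 (iv D12669)
def n16410 : Q := act 3 n12276
theorem D16410 : act 3 n12276 = n16410 := rfl
theorem F28432 : act 0 n16410 = n12277 := d2_1 D16410 (iv D12277) (iv F21645)
theorem F28433 : act 5 n16410 = n12288 := d16_2 (iv F21647) D16410 (iv D12288)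
def n16411 : Q := act 2 n12277
theorem D16411 : act 2 n12277 = n16411 := rfl
theorem F28434 : act 5 n16411 = n12291 := d13_2 (iv F21648) D16411 (iv D12291)
def n16412 : Q := act 4 n12277
theorem D16412 : act 4 n12277 = n16412 := rfl
theorem F28435 : act 3 n16412 = n12672 := d15_1 D16412 (iv D12672) (iv D10253) (iv F17865) D12277
theorem F28436 : act 5 n16412 = n12292 := d18_2 (iv F21648) D16412 (iv D12292)
def n16413 : Q := act 6 n12277
theorem D16413 : act 6 n12277 = n16413 := rfl
theorem F28437 : act 3 n16413 = n12278 := d17_1 D16413 (iv D12278) D12277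
def n16414 : Q := act 1 n12278
theorem D16414 : act 1 n12278 = n16414 := rfl
theorem F28438 : act 4 n16414 = n12674 := d8_2 (iv F21650) D16414 (iv D12674)
def n16415 : Q := act 0 n12279
theorem D16415 : act 0 n12279 = n16415 := rfl
theorem F28439 : act 4 n16415 = n12675 := d3_2 (iv F21651) D16415 (iv D12675)
theorem F28440 : act 6 n16415 = n12280 := d5_2 (iv F21652) D16415 (iv D12280)
theorem F28441 : act 1 n16085 = n16415 := d10_5 F28440 F25996 (iv D14942) (iv F25218) (iv F27804)
def n16416 : Q := act 2 n12279
theorem D16416 : act 2 n12279 = n16416 := rfl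
theorem F28442 : act 4 n16416 = n12676 := d12_2 (iv F21651) D16416 (iv D12676)
theorem F28443 : act 6 n16416 = n12281 := d14_2 (iv F21652) D16416 (iv D12281)
def n16417 : Q := act 5 n12279
theorem D16417 : act 5 n12279 = n16417 := rfl
theorem F28444 : act 1 n16417 = n15962 := d9_1 D16417 (iv F27602) (iv D12290) F17874 D12279
theorem F28445 : act 4 n16417 = n12677 := d18_1 D16417 (iv D12677) (iv F21651)
def n16418 : Q := act 2 n12280
theorem D16418 : act 2 n12280 = n16418 := rfl
theorem F28446 : act 0 n16418 = n12281 := d1_1 D16418 (iv D12281) D12280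
theorem F28447 : act 1 n16418 = n15008 := d6_1 D16418 F26120 F20436 (iv F25993) (iv F25996)
theorem F28448 : act 4 n16418 = n12678 := d12_2 (iv F21653) D16418 (iv D12678)
def n16419 : Q := act 5 n12280
theorem D16419 : act 5 n12280 = n16419 := rfl
theorem F28449 : act 0 n16419 = n12282 := d4_1 D16419 (iv D12282) D12280
theorem F28450 : act 1 n16419 = n15009 := d9_1 D16419 (iv D15009) F20436 (iv F25995) (iv F25996)
theorem F28451 : act 4 n16419 = n12679 := d18_1 D16419 (iv D12679) (iv F21653)
theorem F28452 : act 6 n16419 = n16417 := d22_1 D16419 (iv D16417) F21652 D12280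
def n16420 : Q := act 3 n12281
theorem D16420 : act 3 n12281 = n16420 := rfl
def n16421 : Q := act 5 n12281
theorem D16421 : act 5 n12281 = n16421 := rfl
theorem F28453 : act 2 n16421 = n12282 := d13_1 D16421 (iv D12282) D12281
theorem F28454 : act 4 n16421 = n12681 := d18_1 D16421 (iv D12681) (iv F21654)
def n16422 : Q := act 6 n12282
theorem D16422 : act 6 n12282 = n16422 := rfl
theorem F28455 : act 0 n16422 = n16417 := d5_1 D16422 (iv F28452) F28449
theorem F28456 : act 1 n16422 = n16319 := d10_1 D16422 F28254 (iv F28239) (iv D16123) (iv F21655)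
theorem F28457 : act 4 n16422 = n12682 := d19_1 D16422 (iv D12682) (iv F21656)
theorem F28458 : act 5 n16422 = n16415 := d20_1 D16422 F28440 D16419 F28452 (iv D16417) F21652 D12282
def n16423 : Q := act 2 n12283
theorem D16423 : act 2 n12283 = n16423 := rfl
theorem F28459 : act 0 n16423 = n12284 := d1_1 D16423 (iv D12284) D12283
theorem F28460 : act 4 n16423 = n12683 := d12_2 (iv F21658) D16423 (iv D12683)
def n16424 : Q := act 5 n12283
theorem D16424 : act 5 n12283 = n16424 := rfl
theorem F28461 : act 0 n16424 = n12285 := d4_1 D16424 (iv D12285) D12283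
theorem F28462 : act 4 n16424 = n12684 := d18_1 D16424 (iv D12684) (iv F21658)
theorem F28463 : act 6 n16424 = n16008 := d22_1 D16424 (iv F27678) (iv D12286) D12283
theorem F28464 : act 1 n16004 = n16424 := d10_5 F28463 (iv D16008) (iv D12073) D12071 D16004
def n16425 : Q := act 6 n12283
theorem D16425 : act 6 n12283 = n16425 := rfl
theorem F28465 : act 0 n16425 = n12286 := d5_1 D16425 (iv D12286) D12283
theorem F28466 : act 4 n16425 = n12685 := d19_1 D16425 (iv D12685) (iv F21658)
def n16426 : Q := act 1 n12284
theorem D16426 : act 1 n12284 = n16426 := rfl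
theorem F28467 : act 2 n16426 = n12287 := d6_2 D12284 D16426 (iv D12287) (iv D10060) D10059
theorem F28468 : act 4 n16426 = n12686 := d8_2 (iv F21659) D16426 (iv D12686)
def n16427 : Q := act 3 n12284
theorem D16427 : act 3 n12284 = n16427 := rfl
def n16428 : Q := act 5 n12284
theorem D16428 : act 5 n12284 = n16428 := rfl
theorem F28469 : act 2 n16428 = n12285 := d13_1 D16428 (iv D12285) D12284
theorem F28470 : act 4 n16428 = n12688 := d18_1 D16428 (iv D12688) (iv F21659)
def n16429 : Q := act 6 n12284
theorem D16429 : act 6 n12284 = n16429 := rfl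
theorem F28471 : act 2 n16429 = n12286 := d14_1 D16429 (iv D12286) D12284
theorem F28472 : act 4 n16429 = n12689 := d19_1 D16429 (iv D12689) (iv F21659)
def n16430 : Q := act 6 n12285
theorem D16430 : act 6 n12285 = n16430 := rfl
theorem F28473 : act 0 n16430 = n16008 := d5_1 D16430 (iv F28463) F28461
theorem F28474 : act 4 n16430 = n12690 := d19_1 D16430 (iv D12690) (iv F21660)
theorem F28475 : act 5 n16430 = n16425 := d20_1 D16430 (iv D16425) D16424 F28463 (iv F27678) (iv D12286) D12285
theorem F28476 : act 1 n14945 = n16430 := d24_14 (iv D16430) (iv D12285) (iv D10059) D10061 F17874 D12279 F21652 D12282 F21655 D16123 F27896 F27887 F25958 D14945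
def n16431 : Q := act 1 n12286
theorem D16431 : act 1 n12286 = n16431 := rfl
theorem F28477 : act 4 n16431 = n12691 := d8_2 (iv F21661) D16431 (iv D12691)
theorem F28478 : act 5 n16431 = n15961 := d9_2 (iv F27678) D16431 (iv D15961) (iv F21314) D16008
theorem F28479 : act 6 n16431 = n12290 := d10_2 D12286 D16431 (iv D12290) (iv D10061) D10059
def n16432 : Q := act 0 n12287
theorem D16432 : act 0 n12287 = n16432 := rfl
theorem F28480 : act 4 n16432 = n12692 := d3_2 (iv F21662) D16432 (iv D12692)
def n16433 : Q := act 3 n12287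
theorem D16433 : act 3 n12287 = n16433 := rfl
theorem F28481 : act 1 n16433 = n12288 := d7_1 D16433 (iv D12288) D12287
def n16434 : Q := act 5 n12287
theorem D16434 : act 5 n12287 = n16434 := rfl
theorem F28482 : act 4 n16434 = n12694 := d18_1 D16434 (iv D12694) (iv F21662)
def n16435 : Q := act 6 n12287
theorem D16435 : act 6 n12287 = n16435 := rfl
theorem F28483 : act 4 n16435 = n12695 := d19_1 D16435 (iv D12695) (iv F21662)
def n16436 : Q := act 2 n12288
theorem D16436 : act 2 n12288 = n16436 := rfl
theorem F28484 : act 0 n16436 = n12291 := d1_1 D16436 (iv D12291) (iv F21663)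
theorem F28485 : act 3 n16436 = n16238 := d21_1 D16436 (iv D16238) (iv D12190) (iv D10017) F7861 D5191 D10062 (iv F21663)
def n16437 : Q := act 4 n12288
theorem D16437 : act 4 n12288 = n16437 := rfl
theorem F28486 : act 0 n16437 = n12292 := d3_1 D16437 (iv D12292) (iv F21663)
theorem F28487 : act 3 n16437 = n12696 := d15_1 D16437 (iv D12696) (iv D10264) (iv F17871) D12288
def n16438 : Q := act 6 n12288
theorem D16438 : act 6 n12288 = n16438 := rfl
theorem F28488 : act 0 n16438 = n12293 := d5_1 D16438 (iv D12293) (iv F21663)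
theorem F28489 : act 3 n16438 = n12289 := d17_1 D16438 (iv D12289) D12288
theorem F28490 : act 5 n16438 = n16413 := d22_2 F28433 D16438 (iv D16413) (iv F28432)
def n16439 : Q := act 1 n12289
theorem D16439 : act 1 n12289 = n16439 := rfl
theorem F28491 : act 4 n16439 = n12698 := d8_2 (iv F21666) D16439 (iv D12698)
def n16440 : Q := act 2 n12290
theorem D16440 : act 2 n12290 = n16440 := rfl
theorem F28492 : act 4 n16440 = n12699 := d12_2 (iv F21668) D16440 (iv D12699)
def n16441 : Q := act 1 n12291
theorem D16441 : act 1 n12291 = n16441 := rfl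
theorem F28493 : act 2 n16441 = n12326 := d6_2 D12291 D16441 (iv D12326) (iv D10083) (iv F17875)
def n16442 : Q := act 3 n12291
theorem D16442 : act 3 n12291 = n16442 := rfl
theorem F28494 : act 0 n16442 = n16238 := d2_1 D16442 (iv F28485) F28484
theorem F28495 : act 2 n16442 = n16235 := d11_1 D16442 (iv D16235) (iv D12188) F17798 D10060 D12288 D16436 F28485 (iv D16238) (iv D12190) (iv D10017) F7861 D5191 D10062 D12291
def n16443 : Q := act 4 n12291
theorem D16443 : act 4 n12291 = n16443 := rfl
theorem F28496 : act 2 n16443 = n12292 := d12_1 D16443 (iv D12292) D12291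
def n16444 : Q := act 6 n12291
theorem D16444 : act 6 n12291 = n16444 := rfl
theorem F28497 : act 2 n16444 = n12293 := d14_1 D16444 (iv D12293) D12291
def n16445 : Q := act 6 n12292
theorem D16445 : act 6 n12292 = n16445 := rfl
theorem F28498 : act 3 n16445 = n12703 := d17_1 D16445 (iv D12703) (iv F21670)
theorem F28499 : act 4 n16445 = n12293 := d19_1 D16445 (iv D12293) D12292
def n16446 : Q := act 5 n12293
theorem D16446 : act 5 n12293 = n16446 := rfl
theorem F28500 : act 0 n16446 = n16413 := d4_1 D16446 (iv F28490) F28488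
theorem F28501 : act 3 n16446 = n12294 := d16_1 D16446 (iv D12294) (iv F21671)
theorem F28502 : act 6 n16446 = n16410 := d20_2 D12293 D16446 F28433 D16438 F28490 (iv D16413) F21648
def n16447 : Q := act 1 n12294
theorem D16447 : act 1 n12294 = n16447 := rfl
theorem F28503 : act 4 n16447 = n12705 := d8_2 (iv F21674) D16447 (iv D12705)
def n16448 : Q := act 0 n12295
theorem D16448 : act 0 n12295 = n16448 := rfl
theorem F28504 : act 4 n16448 = n12706 := d3_2 (iv F21676) D16448 (iv D12706)
theorem F28505 : act 5 n16448 = n15058 := d4_2 (iv F21677) D16448 (iv D15058)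
def n16449 : Q := act 2 n12295
theorem D16449 : act 2 n12295 = n16449 := rfl
theorem F28506 : act 4 n16449 = n12707 := d12_2 (iv F21676) D16449 (iv D12707)
theorem F28507 : act 5 n16449 = n15059 := d13_2 (iv F21677) D16449 (iv D15059)
def n16450 : Q := act 6 n12295
theorem D16450 : act 6 n12295 = n16450 := rfl
theorem F28508 : act 1 n16450 = n16408 := d10_1 D16450 (iv D16408) (iv D12275) (iv F17880) D12295
theorem F28509 : act 4 n16450 = n12708 := d19_1 D16450 (iv D12708) (iv F21676)
theorem F28510 : act 5 n16450 = n16115 := d22_2 (iv F21677) D16450 F27879 (iv D15058)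
def n16451 : Q := act 1 n12296
theorem D16451 : act 1 n12296 = n16451 := rfl
theorem F28511 : act 3 n16451 = n12299 := d7_2 (iv F21678) D16451 (iv D12299)
def n16452 : Q := act 4 n12296
theorem D16452 : act 4 n12296 = n16452 := rfl
theorem F28512 : act 0 n16452 = n12297 := d3_1 D16452 (iv D12297) D12296
theorem F28513 : act 3 n16452 = n12709 := d15_1 D16452 F22295 F18132 (iv F17887) (iv F21678)
def n16453 : Q := act 5 n12296
theorem D16453 : act 5 n12296 = n16453 := rfl
theorem F28514 : act 0 n16453 = n12298 := d4_1 D16453 (iv D12298) D12296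
theorem F28515 : act 3 n16453 = n12300 := d16_1 D16453 (iv D12300) (iv F21678)
theorem F28516 : act 6 n16453 = n16295 := d22_1 D16453 (iv D16295) F21547 D12296
def n16454 : Q := act 5 n12297
theorem D16454 : act 5 n12297 = n16454 := rfl
theorem F28517 : act 1 n16454 = n16454 := d9_1 D16454 (iv D16454) F21679 F17885 (iv F21679)
theorem F28518 : act 2 n16454 = n13348 := d13_1 D16454 F28184 F28182
theorem F28519 : act 3 n16454 = n12711 := d16_1 D16454 (iv D12711) (iv F21680)
theorem F28520 : act 4 n16454 = n12298 := d18_1 D16454 (iv D12298) D12297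
theorem E7027 : n12711 = n12710 := (c21_4 (iv D13861) (iv F23503) (iv F28518) F28519 (iv D12710) (iv F21680) (iv F28182) (iv F28183) F24353)
theorem F28521 : act 3 n12710 = n16454 := (sb E7027 (iv F28519))
theorem E7028 : n10275 = n10274 := (((F22297).symm.trans (sb E7027 F22299))).symm
theorem F28522 : act 5 n12710 = n10272 := (sb E7027 (iv D12711))
theorem E7029 : n12714 = n12713 := ((((iv F22301)).symm.trans (sb E7028 (iv F22302)))).symm
theorem E7030 : n12716 = n5592 := ((((iv D10274)).symm.trans (sb E7028 (iv F22306)))).symm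
theorem E7031 : n12715 = n5595 := ((D12715).symm.trans (sb E7028 F18135))
theorem E7032 : n12717 = n12543 := ((((iv F22042)).symm.trans (sb E7028 D12717))).symm
theorem F28523 : act 3 n12713 = n10278 := (sb E7029 F22303)
theorem F28524 : act 5 n12713 = n10273 := (sb E7029 (iv D12714))
theorem F28525 : act 6 n12713 = n12544 := (sb E7029 F22304)
theorem F28526 : act 5 n5592 = n10274 := (sb E7030 (iv D12716))
theorem F28527 : act 3 n5595 = n10274 := (sb E7031 (iv D12715))
theorem F28528 : act 0 n12543 = n12544 := (sb E7032 F22307)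
theorem F28529 : act 3 n12543 = n10281 := (sb E7032 F22308)
theorem F28530 : act 5 n12543 = n12542 := (sb E7032 F22309)
theorem F28531 : act 2 n12542 = n12544 := d13_1 F28530 (iv D12544) D12543
theorem F28532 : act 3 n12724 = n12723 := d21_7 F18141 F28527 (iv D10274) F8472 D5594 D10279 D12724 F22312
theorem F28533 : act 2 n12722 = n12726 := d21_0 F22317 F18141 F28527 (iv D10274) F8472 D5594 D10279 (iv F22311)
theorem F28534 : act 0 n12726 = n12724 := d21_8 (iv D12724) (iv D10279) (iv D5594) (iv F8472) D10274 (iv F28527) (iv F18141) (iv F22317)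
theorem F28535 : act 5 n12724 = n12722 := d4_2 D12726 F28534 F22311
def n16455 : Q := act 6 n12298
theorem D16455 : act 6 n12298 = n16455 := rfl
theorem F28536 : act 0 n16455 = n16295 := d5_1 D16455 (iv F28516) F28514
theorem F28537 : act 3 n16455 = n12301 := d17_1 D16455 (iv D12301) (iv F21682)
theorem F28538 : act 5 n16455 = n16294 := d20_1 D16455 F28210 D16453 F28516 (iv D16295) F21547 D12298
def n16456 : Q := act 0 n12299
theorem D16456 : act 0 n12299 = n16456 := rfl
theorem F28539 : act 1 n16456 = n16456 := d0_2 D12299 D16456 (iv D16456) (iv D12299) (iv D10067) (iv D5204) F15076 D5204 D10067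
theorem F28540 : act 4 n16456 = n12718 := d3_2 (iv F21683) D16456 (iv D12718)
def n16457 : Q := act 2 n12299
theorem D16457 : act 2 n12299 = n16457 := rfl
theorem F28541 : act 4 n16457 = n12719 := d12_2 (iv F21683) D16457 (iv D12719)
def n16458 : Q := act 6 n12299
theorem D16458 : act 6 n12299 = n16458 := rfl
theorem F28542 : act 4 n16458 = n12720 := d19_1 D16458 (iv D12720) (iv F21683)
def n16459 : Q := act 1 n12301
theorem D16459 : act 1 n12301 = n16459 := rfl
theorem F28543 : act 4 n16459 = n12728 := d8_2 (iv F21688) D16459 (iv D12728)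
theorem F28544 : act 6 n16459 = n16459 := d10_2 D12301 D16459 (iv D16459) (iv D12301) F17888
def n16460 : Q := act 1 n12302
theorem D16460 : act 1 n12302 = n16460 := rfl
theorem F28545 : act 4 n16460 = n12729 := d8_2 (iv F21691) D16460 (iv D12729)
def n16461 : Q := act 3 n12302
theorem D16461 : act 3 n12302 = n16461 := rfl
theorem F28546 : act 0 n16461 = n12304 := d2_1 D16461 (iv D12304) (iv F21690)
theorem F28547 : act 5 n16461 = n12304 := d16_2 (iv F21692) D16461 (iv D12304)
theorem F28548 : act 6 n16461 = n14541 := d17_2 (iv F21693) D16461 (iv D14541)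
def n16462 : Q := act 0 n12303
theorem D16462 : act 0 n12303 = n16462 := rfl
theorem F28549 : act 2 n16462 = n12305 := d1_2 (iv F21694) D16462 (iv D12305)
theorem F28550 : act 4 n16462 = n12731 := d3_2 (iv F21695) D16462 (iv D12731)
def n16463 : Q := act 3 n12303
theorem D16463 : act 3 n12303 = n16463 := rfl
theorem F28551 : act 1 n16463 = n12304 := d7_1 D16463 (iv D12304) D12303
def n16464 : Q := act 5 n12303
theorem D16464 : act 5 n12303 = n16464 := rfl
theorem F28552 : act 2 n16464 = n12307 := d13_1 D16464 (iv D12307) (iv F21694)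
theorem F28553 : act 4 n16464 = n12733 := d18_1 D16464 (iv D12733) (iv F21695)
def n16465 : Q := act 6 n12303
theorem D16465 : act 6 n12303 = n16465 := rfl
theorem F28554 : act 1 n16465 = n14509 := d10_1 D16465 F25336 F20028 (iv F17895) D12303
theorem F28555 : act 2 n16465 = n12308 := d14_1 D16465 (iv D12308) (iv F21694)
theorem F28556 : act 4 n16465 = n12734 := d19_1 D16465 (iv D12734) (iv F21695)
def n16466 : Q := act 2 n12304
theorem D16466 : act 2 n12304 = n16466 := rfl
theorem F28557 : act 6 n16466 = n14542 := d14_2 (iv F21696) D16466 (iv D14542)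
def n16467 : Q := act 4 n12304
theorem D16467 : act 4 n12304 = n16467 := rfl
theorem F28558 : act 3 n16467 = n12736 := d15_1 D16467 (iv D12736) (iv D10285) (iv F17894) D12304
theorem F28559 : act 6 n16467 = n14543 := d19_2 (iv F21696) D16467 (iv D14543)
def n16468 : Q := act 1 n12305
theorem D16468 : act 1 n12305 = n16468 := rfl
theorem F28560 : act 4 n16468 = n12737 := d8_2 (iv F21697) D16468 (iv D12737)
def n16469 : Q := act 3 n12305
theorem D16469 : act 3 n12305 = n16469 := rfl
theorem F28561 : act 0 n16469 = n12306 := d2_1 D16469 (iv D12306) D12305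
def n16470 : Q := act 5 n12305
theorem D16470 : act 5 n12305 = n16470 := rfl
theorem F28562 : act 0 n16470 = n12307 := d4_1 D16470 (iv D12307) D12305
theorem F28563 : act 4 n16470 = n12739 := d18_1 D16470 (iv D12739) (iv F21697)
def n16471 : Q := act 6 n12305
theorem D16471 : act 6 n12305 = n16471 := rfl
theorem F28564 : act 0 n16471 = n12308 := d5_1 D16471 (iv D12308) D12305
theorem F28565 : act 4 n16471 = n12740 := d19_1 D16471 (iv D12740) (iv F21697)
def n16472 : Q := act 2 n12306
theorem D16472 : act 2 n12306 = n16472 := rfl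
theorem F28566 : act 1 n16472 = n15103 := d6_1 D16472 (iv D15103) (iv D11583) (iv F17899) (iv F21698)
def n16473 : Q := act 4 n12306
theorem D16473 : act 4 n12306 = n16473 := rfl
theorem F28567 : act 1 n16473 = n12309 := d8_1 D16473 (iv D12309) (iv F21698)
theorem F28568 : act 3 n16473 = n12742 := d15_1 D16473 (iv D12742) (iv D10287) (iv F17896) D12306
def n16474 : Q := act 5 n12306
theorem D16474 : act 5 n12306 = n16474 := rfl
theorem F28569 : act 3 n16474 = n12307 := d16_1 D16474 (iv D12307) D12306
def n16475 : Q := act 6 n12306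
theorem D16475 : act 6 n12306 = n16475 := rfl
theorem F28570 : act 1 n16475 = n14506 := d10_1 D16475 (iv D14506) F20019 (iv F17898) (iv F21698)
theorem F28571 : act 3 n16475 = n12308 := d17_1 D16475 (iv D12308) D12306
def n16476 : Q := act 6 n12307
theorem D16476 : act 6 n12307 = n16476 := rfl
theorem F28572 : act 4 n16476 = n12745 := d19_1 D16476 (iv D12745) (iv F21699)
theorem F28573 : act 5 n16476 = n16471 := d22_2 D12307 D16476 (iv D16471) (iv D12305)
def n16477 : Q := act 5 n12308
theorem D16477 : act 5 n12308 = n16477 := rfl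
theorem F28574 : act 0 n16477 = n16476 := d4_1 D16477 F28573 F28564
theorem F28575 : act 4 n16477 = n12746 := d18_1 D16477 (iv D12746) (iv F21701)
theorem F28576 : act 6 n16477 = n16470 := d20_2 D12308 D16477 (iv D16470) D16471 (iv F28573) (iv D16476) (iv D12307)
def n16478 : Q := act 0 n12310
theorem D16478 : act 0 n12310 = n16478 := rfl
theorem F28577 : act 3 n16478 = n15099 := d2_2 (iv F21706) D16478 (iv D15099)
def n16479 : Q := act 4 n12310
theorem D16479 : act 4 n12310 = n16479 := rfl
theorem F28578 : act 1 n16479 = n12311 := d8_1 D16479 (iv D12311) D12310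
theorem F28579 : act 3 n16479 = n15341 := d15_1 D16479 F26696 F20761 (iv F20523) (iv F21706)
def n16480 : Q := act 5 n12310
theorem D16480 : act 5 n12310 = n16480 := rfl
theorem F28580 : act 1 n16480 = n16474 := d9_1 D16480 (iv D16474) F21698 (iv F17902) D12310
theorem F28581 : act 3 n16480 = n15100 := d16_1 D16480 (iv D15100) (iv F21706)
def n16481 : Q := act 6 n12310
theorem D16481 : act 6 n12310 = n16481 := rfl
theorem F28582 : act 1 n16481 = n15095 := d10_1 D16481 (iv D15095) F20516 (iv F17903) D12310
theorem F28583 : act 3 n16481 = n15097 := d17_1 D16481 F26302 (iv F21706)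
def n16482 : Q := act 1 n12312
theorem D16482 : act 1 n12312 = n16482 := rfl
theorem F28584 : act 3 n16482 = n12315 := d7_2 (iv F21712) D16482 (iv D12315)
def n16483 : Q := act 4 n12312
theorem D16483 : act 4 n12312 = n16483 := rfl
theorem F28585 : act 0 n16483 = n12313 := d3_1 D16483 (iv D12313) D12312
theorem F28586 : act 3 n16483 = n12752 := d15_1 D16483 F22343 F18158 (iv F17911) (iv F21712)
def n16484 : Q := act 6 n12312
theorem D16484 : act 6 n12312 = n16484 := rfl
theorem F28587 : act 0 n16484 = n12314 := d5_1 D16484 (iv D12314) D12312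
theorem F28588 : act 3 n16484 = n12316 := d17_1 D16484 (iv D12316) (iv F21712)
theorem F28589 : act 5 n16484 = n16398 := d22_2 F28412 D16484 (iv D16398) D16397
def n16485 : Q := act 6 n12313
theorem D16485 : act 6 n12313 = n16485 := rfl
theorem F28590 : act 1 n16485 = n16485 := d10_1 D16485 (iv D16485) F21713 F17910 (iv F21713)
theorem F28591 : act 3 n16485 = n12754 := d17_1 D16485 (iv D12754) (iv F21714)
theorem F28592 : act 4 n16485 = n12314 := d19_1 D16485 (iv D12314) D12313
def n16486 : Q := act 5 n12314
theorem D16486 : act 5 n12314 = n16486 := rfl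
theorem F28593 : act 0 n16486 = n16398 := d4_1 D16486 (iv F28589) F28587
theorem F28594 : act 3 n16486 = n12317 := d16_1 D16486 (iv D12317) (iv F21716)
theorem F28595 : act 6 n16486 = n16397 := d20_2 D12314 D16486 F28412 D16484 F28589 (iv D16398) F21636
def n16487 : Q := act 0 n12315
theorem D16487 : act 0 n12315 = n16487 := rfl
theorem F28596 : act 1 n16487 = n16487 := d0_2 D12315 D16487 (iv D16487) (iv D12315) (iv D10077) (iv D5225) F16770 D5225 D10077
theorem F28597 : act 4 n16487 = n12761 := d3_2 (iv F21717) D16487 (iv D12761)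
theorem F28598 : act 2 n14368 = n16487 := d12_3 F28597 F26626 (iv F25109)
def n16488 : Q := act 2 n12315
theorem D16488 : act 2 n12315 = n16488 := rfl
theorem F28599 : act 0 n16488 = n14368 := d1_1 D16488 F28598 (iv D16487)
theorem F28600 : act 1 n16488 = n14518 := d6_1 D16488 F26624 (iv D15138) F20565 D12315
theorem F28601 : act 4 n16488 = n12762 := d12_2 (iv F21717) D16488 (iv D12762)
def n16489 : Q := act 5 n12315
theorem D16489 : act 5 n12315 = n16489 := rfl
theorem F28602 : act 4 n16489 = n12763 := d18_1 D16489 (iv D12763) (iv F21717)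
def n16490 : Q := act 6 n12315
theorem D16490 : act 6 n12315 = n16490 := rfl
theorem F28603 : act 4 n16490 = n12764 := d19_1 D16490 (iv D12764) (iv F21717)
def n16491 : Q := act 1 n12316
theorem D16491 : act 1 n12316 = n16491 := rfl
theorem F28604 : act 4 n16491 = n12768 := d8_2 (iv F21719) D16491 (iv D12768)
def n16492 : Q := act 1 n12317
theorem D16492 : act 1 n12317 = n16492 := rfl
theorem F28605 : act 4 n16492 = n12773 := d8_2 (iv F21722) D16492 (iv D12773)
theorem F28606 : act 5 n16492 = n16492 := d9_2 D12317 D16492 (iv D16492) (iv D12317) F17912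
def n16493 : Q := act 1 n12318
theorem D16493 : act 1 n12318 = n16493 := rfl
theorem F28607 : act 2 n16493 = n16460 := d6_2 D12318 D16493 (iv D16460) (iv D12302) (iv F17914)
theorem F28608 : act 4 n16493 = n12774 := d8_2 (iv F21725) D16493 (iv D12774)
def n16494 : Q := act 3 n12318
theorem D16494 : act 3 n12318 = n16494 := rfl
theorem F28609 : act 0 n16494 = n12320 := d2_1 D16494 (iv D12320) (iv F21724)
theorem F28610 : act 5 n16494 = n14545 := d16_2 (iv F21726) D16494 (iv D14545)
theorem F28611 : act 6 n16494 = n12320 := d17_2 (iv F21727) D16494 (iv D12320)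
def n16495 : Q := act 0 n12319
theorem D16495 : act 0 n12319 = n16495 := rfl
theorem F28612 : act 2 n16495 = n12321 := d1_2 (iv F21728) D16495 (iv D12321)
theorem F28613 : act 4 n16495 = n12776 := d3_2 (iv F21729) D16495 (iv D12776)
def n16496 : Q := act 3 n12319
theorem D16496 : act 3 n12319 = n16496 := rfl
theorem F28614 : act 1 n16496 = n12320 := d7_1 D16496 (iv D12320) D12319
def n16497 : Q := act 5 n12319
theorem D16497 : act 5 n12319 = n16497 := rfl
theorem F28615 : act 1 n16497 = n14531 := d9_1 D16497 F25374 F20047 (iv F17920) D12319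
theorem F28616 : act 2 n16497 = n12323 := d13_1 D16497 (iv D12323) (iv F21728)
theorem F28617 : act 4 n16497 = n12778 := d18_1 D16497 (iv D12778) (iv F21729)
def n16498 : Q := act 6 n12319
theorem D16498 : act 6 n12319 = n16498 := rfl
theorem F28618 : act 2 n16498 = n12324 := d14_1 D16498 (iv D12324) (iv F21728)
theorem F28619 : act 4 n16498 = n12779 := d19_1 D16498 (iv D12779) (iv F21729)
def n16499 : Q := act 2 n12320
theorem D16499 : act 2 n12320 = n16499 := rfl
theorem F28620 : act 5 n16499 = n14546 := d13_2 (iv F21730) D16499 (iv D14546)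
def n16500 : Q := act 4 n12320
theorem D16500 : act 4 n12320 = n16500 := rfl
theorem F28621 : act 3 n16500 = n12781 := d15_1 D16500 (iv D12781) (iv D10306) (iv F17919) D12320
theorem F28622 : act 5 n16500 = n14547 := d18_2 (iv F21730) D16500 (iv D14547)
def n16501 : Q := act 1 n12321
theorem D16501 : act 1 n12321 = n16501 := rfl
theorem F28623 : act 4 n16501 = n12782 := d8_2 (iv F21731) D16501 (iv D12782)
def n16502 : Q := act 3 n12321
theorem D16502 : act 3 n12321 = n16502 := rfl
theorem F28624 : act 0 n16502 = n12322 := d2_1 D16502 (iv D12322) D12321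
def n16503 : Q := act 5 n12321
theorem D16503 : act 5 n12321 = n16503 := rfl
theorem F28625 : act 0 n16503 = n12323 := d4_1 D16503 (iv D12323) D12321
theorem F28626 : act 4 n16503 = n12784 := d18_1 D16503 (iv D12784) (iv F21731)
def n16504 : Q := act 6 n12321
theorem D16504 : act 6 n12321 = n16504 := rfl
theorem F28627 : act 0 n16504 = n12324 := d5_1 D16504 (iv D12324) D12321
theorem F28628 : act 4 n16504 = n12785 := d19_1 D16504 (iv D12785) (iv F21731)
def n16505 : Q := act 2 n12322
theorem D16505 : act 2 n12322 = n16505 := rfl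
theorem F28629 : act 1 n16505 = n15123 := d6_1 D16505 (iv D15123) (iv D11593) (iv F17924) (iv F21732)
def n16506 : Q := act 4 n12322
theorem D16506 : act 4 n12322 = n16506 := rfl
theorem F28630 : act 1 n16506 = n12325 := d8_1 D16506 (iv D12325) (iv F21732)
theorem F28631 : act 3 n16506 = n12787 := d15_1 D16506 (iv D12787) (iv D10308) (iv F17921) D12322
def n16507 : Q := act 5 n12322
theorem D16507 : act 5 n12322 = n16507 := rfl
theorem F28632 : act 1 n16507 = n14528 := d9_1 D16507 (iv D14528) F20038 (iv F17923) (iv F21732)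
theorem F28633 : act 3 n16507 = n12323 := d16_1 D16507 (iv D12323) D12322
def n16508 : Q := act 6 n12322
theorem D16508 : act 6 n12322 = n16508 := rfl
theorem F28634 : act 3 n16508 = n12324 := d17_1 D16508 (iv D12324) D12322
def n16509 : Q := act 6 n12323
theorem D16509 : act 6 n12323 = n16509 := rfl
theorem F28635 : act 4 n16509 = n12790 := d19_1 D16509 (iv D12790) (iv F21734)
theorem F28636 : act 5 n16509 = n16504 := d22_2 D12323 D16509 (iv D16504) (iv D12321)
def n16510 : Q := act 5 n12324
theorem D16510 : act 5 n12324 = n16510 := rfl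
theorem F28637 : act 0 n16510 = n16509 := d4_1 D16510 F28636 F28627
theorem F28638 : act 4 n16510 = n12791 := d18_1 D16510 (iv D12791) (iv F21735)
theorem F28639 : act 6 n16510 = n16503 := d20_2 D12324 D16510 (iv D16503) D16504 (iv F28636) (iv D16509) (iv D12323)
def n16511 : Q := act 0 n12326
theorem D16511 : act 0 n12326 = n16511 := rfl
theorem F28640 : act 3 n16511 = n15119 := d2_2 (iv F21740) D16511 (iv D15119)
def n16512 : Q := act 4 n12326
theorem D16512 : act 4 n12326 = n16512 := rfl
theorem F28641 : act 1 n16512 = n12327 := d8_1 D16512 (iv D12327) D12326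
theorem F28642 : act 3 n16512 = n15399 := d15_1 D16512 F26760 F20794 (iv F20541) (iv F21740)
def n16513 : Q := act 5 n12326
theorem D16513 : act 5 n12326 = n16513 := rfl
theorem F28643 : act 1 n16513 = n15114 := d9_1 D16513 (iv D15114) F20534 (iv F17927) D12326
theorem F28644 : act 3 n16513 = n15116 := d16_1 D16513 F26339 (iv F21740)
def n16514 : Q := act 6 n12326
theorem D16514 : act 6 n12326 = n16514 := rfl
theorem F28645 : act 1 n16514 = n16508 := d10_1 D16514 (iv D16508) F21732 (iv F17928) D12326
theorem F28646 : act 3 n16514 = n15120 := d17_1 D16514 (iv D15120) (iv F21740)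
def n16515 : Q := act 3 n12328
theorem D16515 : act 3 n12328 = n16515 := rfl
theorem F28647 : act 0 n16515 = n16515 := d2_1 D16515 (iv D16515) F21746
theorem F28648 : act 1 n16515 = n12329 := d7_1 D16515 (iv D12329) D12328
def n16516 : Q := act 2 n12329
theorem D16516 : act 2 n12329 = n16516 := rfl
theorem F28649 : act 0 n16516 = n12330 := d1_1 D16516 (iv D12330) (iv F21748)
theorem F28650 : act 5 n16516 = n12330 := d13_2 (iv F21749) D16516 (iv D12330)
theorem F28651 : act 6 n16516 = n14548 := d14_2 (iv F21750) D16516 (iv D14548)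
theorem F28652 : act 3 n16516 = n16466 := d21_1 D16516 (iv D16466) (iv D12304) (iv D10070) F7930 D5270 D10086 (iv F21748)
def n16517 : Q := act 4 n12329
theorem D16517 : act 4 n12329 = n16517 := rfl
theorem F28653 : act 0 n16517 = n12331 := d3_1 D16517 (iv D12331) (iv F21748)
def n16518 : Q := act 1 n12330
theorem D16518 : act 1 n12330 = n16518 := rfl
def n16519 : Q := act 3 n12330
theorem D16519 : act 3 n12330 = n16519 := rfl
theorem F28657 : act 0 n16519 = n16466 := d2_1 D16519 (iv F28652) F28649
theorem F28658 : act 2 n16519 = n16461 := d11_1 D16519 (iv D16461) (iv D12302) F17890 D10085 D12329 D16516 F28652 (iv D16466) (iv D12304) (iv D10070) F7930 D5270 D10086 D12330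
theorem F28659 : act 5 n16519 = n16466 := d16_2 F28650 D16519 (iv F28652)
theorem F28660 : act 6 n16519 = n14551 := d17_2 (iv F21751) D16519 (iv D14551)
def n16520 : Q := act 4 n12330
theorem D16520 : act 4 n12330 = n16520 := rfl
theorem F28661 : act 2 n16520 = n12331 := d12_1 D16520 (iv D12331) D12330
def n16521 : Q := act 3 n12332
theorem D16521 : act 3 n12332 = n16521 := rfl
theorem F28663 : act 0 n16521 = n16521 := d2_1 D16521 (iv D16521) F21754
theorem F28664 : act 1 n16521 = n12333 := d7_1 D16521 (iv D12333) D12332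
theorem F28665 : act 5 n16521 = n16515 := d16_2 (iv F21757) D16521 (iv D16515)
theorem F28666 : act 6 n16521 = n16515 := d17_2 (iv F21758) D16521 (iv D16515)
def n16522 : Q := act 2 n12333
theorem D16522 : act 2 n12333 = n16522 := rfl
theorem F28667 : act 0 n16522 = n12334 := d1_1 D16522 (iv D12334) (iv F21759)
theorem F28668 : act 5 n16522 = n14553 := d13_2 (iv F21760) D16522 (iv D14553)
theorem F28669 : act 6 n16522 = n12334 := d14_2 (iv F21761) D16522 (iv D12334)
theorem F28670 : act 3 n16522 = n16499 := d21_1 D16522 (iv D16499) (iv D12320) (iv D10080) F7973 D5318 D10088 (iv F21759)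
def n16523 : Q := act 4 n12333
theorem D16523 : act 4 n12333 = n16523 := rfl
theorem F28673 : act 5 n16523 = n14554 := d18_2 (iv F21760) D16523 (iv D14554)
def n16524 : Q := act 1 n12334
theorem D16524 : act 1 n12334 = n16524 := rfl
def n16525 : Q := act 3 n12334
theorem D16525 : act 3 n12334 = n16525 := rfl
theorem F28675 : act 0 n16525 = n16499 := d2_1 D16525 (iv F28670) F28667
theorem F28676 : act 2 n16525 = n16494 := d11_1 D16525 (iv D16494) (iv D12318) F17915 D10087 D12333 D16522 F28670 (iv D16499) (iv D12320) (iv D10080) F7973 D5318 D10088 D12334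
theorem F28677 : act 5 n16525 = n14556 := d16_2 (iv F21762) D16525 (iv D14556)
theorem F28678 : act 6 n16525 = n16499 := d17_2 F28669 D16525 (iv F28670)
def n16526 : Q := act 4 n12334
theorem D16526 : act 4 n12334 = n16526 := rfl
theorem F28680 : act 5 n16526 = n14557 := d18_2 (iv F21762) D16526 (iv D14557)
def n16535 : Q := act 4 n12344
theorem D16535 : act 4 n12344 = n16535 := rfl
theorem F28702 : act 0 n16535 = n12358 := d3_1 D16535 (iv D12358) (iv F21788)
theorem F28703 : act 1 n16535 = n14387 := d8_1 D16535 (iv F25137) F23718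
theorem F28704 : act 2 n16535 = n12345 := d12_1 D16535 (iv D12345) D12344
theorem F28705 : act 3 n16535 = n14388 := d15_1 D16535 (iv D14388) (iv D11230) D11231 (iv F21789)
def n16536 : Q := act 5 n12344
theorem D16536 : act 5 n12344 = n16536 := rfl
theorem F28706 : act 0 n16536 = n12359 := d4_1 D16536 (iv D12359) (iv F21788)
theorem F28707 : act 2 n16536 = n12346 := d13_1 D16536 (iv D12346) D12344
theorem F28708 : act 3 n16536 = n14391 := d16_1 D16536 (iv D14391) (iv F21789)
def n16537 : Q := act 6 n12344
theorem D16537 : act 6 n12344 = n16537 := rfl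
theorem F28709 : act 0 n16537 = n12360 := d5_1 D16537 (iv D12360) (iv F21788)
theorem F28710 : act 2 n16537 = n12347 := d14_1 D16537 (iv D12347) D12344
theorem F28711 : act 3 n16537 = n14392 := d17_1 D16537 (iv D14392) (iv F21789)
def n16538 : Q := act 5 n12345
theorem D16538 : act 5 n12345 = n16538 := rfl
theorem F28712 : act 0 n16538 = n12361 := d4_1 D16538 (iv D12361) (iv F21790)
theorem F28713 : act 3 n16538 = n13288 := d16_1 D16538 (iv D13288) (iv F21792)
theorem F28714 : act 4 n16538 = n12346 := d18_1 D16538 (iv D12346) D12345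
def n16539 : Q := act 6 n12345
theorem D16539 : act 6 n12345 = n16539 := rfl
theorem F28715 : act 0 n16539 = n12362 := d5_1 D16539 (iv D12362) (iv F21790)
theorem F28716 : act 3 n16539 = n13289 := d17_1 D16539 (iv D13289) (iv F21792)
theorem F28717 : act 4 n16539 = n12347 := d19_1 D16539 (iv D12347) D12345
def n16540 : Q := act 1 n12346
theorem D16540 : act 1 n12346 = n16540 := rfl
theorem F28718 : act 3 n16540 = n12348 := d7_2 (iv F21794) D16540 (iv D12348)
def n16541 : Q := act 1 n12347
theorem D16541 : act 1 n12347 = n16541 := rfl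
theorem F28719 : act 3 n16541 = n12349 := d7_2 (iv F21796) D16541 (iv D12349)
def n16542 : Q := act 0 n12348
theorem D16542 : act 0 n12348 = n16542 := rfl
def n16543 : Q := act 2 n12348
theorem D16543 : act 2 n12348 = n16543 := rfl
theorem F28721 : act 1 n16543 = n12351 := d6_1 D16543 (iv D12351) (iv D10100) (iv F17957) D12348
def n16544 : Q := act 6 n12348
theorem D16544 : act 6 n12348 = n16544 := rfl
def n16545 : Q := act 0 n12349
theorem D16545 : act 0 n12349 = n16545 := rfl
def n16546 : Q := act 2 n12349
theorem D16546 : act 2 n12349 = n16546 := rfl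
theorem F28722 : act 1 n16546 = n12354 := d6_1 D16546 (iv D12354) (iv D10101) (iv F17959) D12349
def n16547 : Q := act 5 n12349
theorem D16547 : act 5 n12349 = n16547 := rfl
theorem F28723 : act 1 n16547 = n16544 := d24_2 F25030 D16547 (iv D16544) (iv F25029) (iv D14334) (iv F19872) (iv D11204) F17252 (iv D8770) D8769 F16194 D11203 F19869 D14335
theorem F28724 : act 5 n12370 = n16544 := d9_4 (iv D16547) (iv D12349) (iv F17965) D12370 (iv F28723)
theorem F28725 : act 6 n12374 = n16547 := d24_0 (iv D16547) (iv D12349) (iv D10099) D10098 D12348 D16544 (iv F28724) (iv D12370) (iv D10107) (iv D5497) F4165 D5498 D10109 D12374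
def n16548 : Q := act 2 n12350
theorem D16548 : act 2 n12350 = n16548 := rfl
theorem F28726 : act 0 n16548 = n12351 := d1_1 D16548 (iv D12351) D12350
theorem F28727 : act 1 n16548 = n15180 := d6_1 D16548 F26451 F20615 (iv F20663) (iv F21824)
def n16549 : Q := act 3 n12351
theorem D16549 : act 3 n12351 = n16549 := rfl
def n16550 : Q := act 6 n12351
theorem D16550 : act 6 n12351 = n16550 := rfl
theorem F28728 : act 2 n16550 = n12352 := d14_1 D16550 (iv D12352) D12351
def n16551 : Q := act 2 n12353
theorem D16551 : act 2 n12353 = n16551 := rfl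
theorem F28729 : act 0 n16551 = n12354 := d1_1 D16551 (iv D12354) D12353
theorem F28730 : act 1 n16551 = n15214 := d6_1 D16551 F26495 F20640 (iv F23433) (iv F22081)
def n16552 : Q := act 3 n12354
theorem D16552 : act 3 n12354 = n16552 := rfl
def n16553 : Q := act 5 n12354
theorem D16553 : act 5 n12354 = n16553 := rfl
theorem F28731 : act 2 n16553 = n12355 := d13_1 D16553 (iv D12355) D12354
def n16554 : Q := act 0 n12356
theorem D16554 : act 0 n12356 = n16554 := rfl
def n16555 : Q := act 3 n12356
theorem D16555 : act 3 n12356 = n16555 := rfl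
theorem F28733 : act 1 n16555 = n12357 := d7_1 D16555 (iv D12357) D12356
theorem F28734 : act 0 n16555 = n16555 := d0_9 F28733 F21798 F19929 (iv F23690) F23691 F23690 (iv F19929) (iv F21798) (iv F28733)
theorem F28735 : act 2 n14375 = n16555 := d6_0 F28733 F21799 F19917 D11225 D14375
theorem F28736 : act 4 n14375 = n16555 := d8_0 F28733 (iv F21800) D14375
theorem E7033 : n16554 = n12356 := (c2_4 D16555 F28734 (iv D16555) D16554)
theorem F28737 : act 0 n12356 = n12356 := (sb E7033 (iv D16554))
def n16556 : Q := act 4 n12356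
theorem D16556 : act 4 n12356 = n16556 := rfl
theorem F28738 : act 0 n16556 = n16556 := d3_1 D16556 (iv D16556) F28737
theorem F28739 : act 1 n16556 = n12358 := d8_1 D16556 (iv D12358) D12356
theorem F28740 : act 2 n16556 = n16556 := d12_1 D16556 (iv D16556) F21797
def n16557 : Q := act 5 n12356
theorem D16557 : act 5 n12356 = n16557 := rfl
def n16558 : Q := act 6 n12356
theorem D16558 : act 6 n12356 = n16558 := rfl
def n16559 : Q := act 5 n12357
theorem D16559 : act 5 n12357 = n16559 := rfl
theorem F28745 : act 0 n16559 = n14391 := d4_1 D16559 (iv D14391) (iv F21798)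
theorem F28746 : act 2 n16559 = n14371 := d13_1 D16559 (iv D14371) (iv F21799)
theorem F28747 : act 3 n16559 = n12359 := d16_1 D16559 (iv D12359) D12357
theorem F28748 : act 4 n16559 = n14377 := d18_1 D16559 (iv D14377) F21800
def n16560 : Q := act 6 n12357
theorem D16560 : act 6 n12357 = n16560 := rfl
theorem F28749 : act 0 n16560 = n14392 := d5_1 D16560 (iv D14392) (iv F21798)
theorem F28750 : act 2 n16560 = n14372 := d14_1 D16560 (iv D14372) (iv F21799)
theorem F28751 : act 3 n16560 = n12360 := d17_1 D16560 (iv D12360) D12357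
theorem F28752 : act 4 n16560 = n14378 := d19_1 D16560 (iv D14378) F21800
def n16561 : Q := act 3 n12358
theorem D16561 : act 3 n12358 = n16561 := rfl
theorem F28753 : act 0 n16561 = n14388 := d2_1 D16561 (iv F28705) F28702
theorem F28754 : act 4 n16561 = n14376 := d15_2 D12358 D16561 (iv D14376) F21800 (iv D12357)
def n16562 : Q := act 5 n12358
theorem D16562 : act 5 n12358 = n16562 := rfl
theorem F28755 : act 2 n16562 = n12361 := d13_1 D16562 (iv D12361) (iv F21801)
theorem F28756 : act 4 n16562 = n12359 := d18_1 D16562 (iv D12359) D12358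
def n16563 : Q := act 6 n12358
theorem D16563 : act 6 n12358 = n16563 := rfl
theorem F28757 : act 2 n16563 = n12362 := d14_1 D16563 (iv D12362) (iv F21801)
theorem F28758 : act 4 n16563 = n12360 := d19_1 D16563 (iv D12360) D12358
def n16564 : Q := act 1 n12359
theorem D16564 : act 1 n12359 = n16564 := rfl
def n16565 : Q := act 6 n12359
theorem D16565 : act 6 n12359 = n16565 := rfl
theorem F28759 : act 2 n16565 = n12364 := d14_1 D16565 (iv D12364) (iv F21802)
theorem F28760 : act 5 n16565 = n16537 := d22_2 D12359 D16565 (iv D16537) F21788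
def n16566 : Q := act 1 n12360
theorem D16566 : act 1 n12360 = n16566 := rfl
def n16567 : Q := act 5 n12360
theorem D16567 : act 5 n12360 = n16567 := rfl
theorem F28761 : act 0 n16567 = n16565 := d4_1 D16567 F28760 F28709
theorem F28762 : act 2 n16567 = n12366 := d13_1 D16567 (iv D12366) (iv F21803)
theorem F28763 : act 6 n16567 = n16536 := d20_2 D12360 D16567 (iv D16536) D16537 (iv F28760) (iv D16565) (iv D12359)
def n16568 : Q := act 1 n12361
theorem D16568 : act 1 n12361 = n16568 := rfl
theorem F28764 : act 4 n16568 = n12363 := d8_2 (iv F21804) D16568 (iv D12363)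
theorem F28765 : act 5 n16568 = n16568 := d9_2 D12361 D16568 (iv D16568) (iv D12361) F17960
theorem F28766 : act 0 n16568 = n16568 := d3_3 F28764 F21830 (iv F28764)
def n16569 : Q := act 6 n12361
theorem D16569 : act 6 n12361 = n16569 := rfl
theorem F28767 : act 4 n16569 = n12364 := d19_1 D16569 (iv D12364) (iv F21804)
theorem F28768 : act 5 n16569 = n16539 := d22_2 D12361 D16569 (iv D16539) F21790
def n16570 : Q := act 1 n12362
theorem D16570 : act 1 n12362 = n16570 := rfl
theorem F28769 : act 4 n16570 = n12365 := d8_2 (iv F21805) D16570 (iv D12365)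
theorem F28770 : act 6 n16570 = n16570 := d10_2 D12362 D16570 (iv D16570) (iv D12362) F17960
def n16571 : Q := act 5 n12362
theorem D16571 : act 5 n12362 = n16571 := rfl
theorem F28771 : act 0 n16571 = n16569 := d4_1 D16571 F28768 F28715
theorem F28772 : act 4 n16571 = n12366 := d18_1 D16571 (iv D12366) (iv F21805)
theorem F28773 : act 6 n16571 = n16538 := d20_2 D12362 D16571 (iv D16538) D16539 (iv F28768) (iv D16569) (iv D12361)
def n16572 : Q := act 2 n12363
theorem D16572 : act 2 n12363 = n16572 := rfl
def n16573 : Q := act 6 n12363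
theorem D16573 : act 6 n12363 = n16573 := rfl
theorem F28776 : act 0 n16573 = n16573 := d5_1 D16573 (iv D16573) F21830
theorem F28777 : act 3 n16573 = n12369 := d17_1 D16573 (iv D12369) (iv F21806)
theorem F28778 : act 5 n16573 = n16573 := d22_2 F21807 D16573 (iv D16573) F21830
def n16574 : Q := act 1 n12364
theorem D16574 : act 1 n12364 = n16574 := rfl
theorem F28779 : act 3 n16574 = n12370 := d7_2 (iv F21808) D16574 (iv D12370)
def n16575 : Q := act 0 n12365
theorem D16575 : act 0 n12365 = n16575 := rfl
theorem F28780 : act 3 n16575 = n12371 := d2_2 (iv F21810) D16575 (iv D12371)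
def n16576 : Q := act 2 n12365
theorem D16576 : act 2 n12365 = n16576 := rfl
def n16577 : Q := act 5 n12365
theorem D16577 : act 5 n12365 = n16577 := rfl
theorem F28783 : act 3 n16577 = n12373 := d16_1 D16577 (iv D12373) (iv F21810)
def n16578 : Q := act 1 n12366
theorem D16578 : act 1 n12366 = n16578 := rfl
theorem F28784 : act 3 n16578 = n12374 := d7_2 (iv F21813) D16578 (iv D12374)
def n16579 : Q := act 3 n12368
theorem D16579 : act 3 n12368 = n16579 := rfl
theorem F28785 : act 0 n16579 = n16579 := d2_1 D16579 (iv D16579) F21828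
theorem F28786 : act 1 n16579 = n12377 := d7_1 D16579 (iv D12377) (iv F21816)
theorem F28787 : act 5 n16579 = n16579 := d16_2 F21817 D16579 (iv D16579)
theorem F28788 : act 2 n16579 = n16579 := d6_0 F28786 F21835 F17978 (iv F21835) (iv F28786)
theorem E7034 : n16572 = n12363 := (c21_5 F28788 (iv D16579) (iv D12368) (iv F21806) D16572 F21806 D12368 D16579 F28785)
theorem F28789 : act 2 n12363 = n12363 := (sb E7034 (iv D16572))
theorem E7035 : n16564 = n12359 := (c6_4 F28789 (iv D12363) (iv F21802) D16564 F21802 D12363)
theorem F28790 : act 1 n12359 = n12359 := (sb E7035 (iv D16564))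
theorem F28791 : act 2 n16568 = n16568 := d12_3 F28764 F28789 (iv F28764)
theorem F28792 : act 2 n16573 = n16573 := d14_3 (iv D16573) F28789 D16573
theorem F28793 : act 1 n16562 = n16562 := d6_3 F28791 (iv D16568) (iv F28755) F28755 D16568
theorem F28794 : act 5 n16556 = n16556 := d9_4 D16562 F28793 (iv D16562) (iv F28739) F28739
theorem E7036 : n16557 = n12356 := (c18_3 F28794 (iv D16556) D16557 D16556)
theorem F28795 : act 5 n12356 = n12356 := (sb E7036 (iv D16557))
theorem F28796 : act 5 n16555 = n16555 := d16_2 F28795 D16555 (iv D16555)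
theorem F28798 : act 1 n16559 = n16559 := d9_3 F28796 F28733 D16559 (iv D16559) (iv F28733)
theorem F28799 : act 5 n14375 = n14375 := d13_2 F28796 (iv F28735) F28735
theorem F28800 : act 1 n14377 = n14377 := d9_3 F28799 (iv D14375) D14377 (iv D14377) D14375
theorem E7037 : n14634 = n11355 := (c23_13 D11226 (iv F25130) F28800 F25129 (iv D11232) (iv D8847) F6498 F3260 D2106 (iv F6699) D9079 D11354 (iv F25541) (iv D11355) (iv D9079) F6698 (iv D3709) (iv F3261) (iv F6498) (iv F13222))
theorem E7038 : n14641 = n11352 := (((iv F25556)).symm.trans (sb E7037 (iv D14634)))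
theorem E7039 : n14643 = n13384 := ((D14643).symm.trans (sb E7037 F25539))
theorem E7040 : n14635 = n11354 := (((iv F25543)).symm.trans (sb E7037 F25540))
theorem E7041 : n14645 = n14644 := (((D14644).symm.trans (sb E7037 (iv F25565)))).symm
theorem F28802 : act 0 n11352 = n11355 := (sb E7038 F25556)
theorem F28803 : act 1 n13384 = n11371 := (sb E7039 F25560)
theorem F28804 : act 3 n13384 = n11355 := (sb E7039 (iv D14643))
theorem E7042 : n14640 = n11361 := ((D14640).symm.trans (sb E7040 F25542))
theorem F28805 : act 2 n11354 = n11352 := (sb E7040 (iv D14635))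
theorem F28806 : act 4 n11354 = n11355 := (sb E7040 F25543)
theorem F28807 : act 5 n11354 = n11355 := (sb E7040 F25544)
theorem F28808 : act 0 n14644 = n14636 := (sb E7041 F25562)
theorem F28809 : act 3 n14644 = n13397 := (sb E7041 F25563)
theorem F28810 : act 4 n14644 = n14642 := (sb E7041 F25564)
theorem F28811 : act 5 n14644 = n11356 := (sb E7041 (iv D14645))
theorem F28812 : act 1 n11361 = n11354 := (sb E7042 (iv D14640))
theorem E7043 : n14655 = n13392 := ((D14655).symm.trans (sb E7042 F25555))
theorem F28813 : act 2 n13392 = n15179 := (sb E7043 (iv F26450))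
theorem F28814 : act 3 n13392 = n11361 := (sb E7043 (iv D14655))
theorem F28815 : act 2 n14642 = n14636 := d12_1 F28810 F25546 (iv F25561)
theorem E7044 : n14680 = n13840 := ((c23_1 (iv F24336) (iv D14680) (iv F28803) (iv D13384) F18993 D10694 F19000 F16212 F16188 (iv D7625) (iv D3654) F2867 (iv D888) D887 D1788 D3704 D7735 F11498 D8191 D10936)).symm
theorem E7045 : n14740 = n10932 := ((((iv D13840)).symm.trans (sb E7044 (iv F25687)))).symm
theorem F28816 : act 2 n13840 = n11371 := (sb E7044 (iv D14680))
theorem F28817 : act 3 n13840 = n14732 := (sb E7044 (iv F25680))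
theorem E7046 : n14677 = n13841 := (((D13841).symm.trans (sb E7045 F25688))).symm
theorem E7047 : n13338 = n11396 := (((iv F23490)).symm.trans (sb E7045 (iv D14740)))
theorem F28818 : act 0 n13841 = n11371 := (sb E7046 F25619)
theorem F28819 : act 3 n13841 = n11369 := (sb E7046 (iv D14677))
theorem E7048 : n14739 = n10664 := ((D14739).symm.trans (sb E7047 (iv D13338)))
theorem F28820 : act 3 n11396 = n10932 := (sb E7047 F23490)
theorem E7049 : n14602 = n10666 := (((iv F25508)).symm.trans (sb E7047 F23491))
theorem F28821 : act 1 n10664 = n11396 := (sb E7048 (iv D14739))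
theorem E7050 : n13336 = n11432 := (((iv F23487)).symm.trans (sb E7048 F25686))
theorem E7051 : n13343 = n11338 := ((D13343).symm.trans (sb E7049 (iv D14602)))
theorem F28822 : act 5 n10666 = n11396 := (sb E7049 F25508)
theorem E7052 : n14816 = n10732 := ((D14816).symm.trans (sb E7050 F23486))
theorem F28823 : act 2 n11432 = n10664 := (sb E7050 F23487)
theorem E7053 : n14818 = n10663 := ((D14818).symm.trans (sb E7050 (iv D13336)))
theorem E7054 : n14819 = n13465 := ((D14819).symm.trans (sb E7050 (iv F23689)))
theorem F28824 : act 2 n11338 = n10666 := (sb E7051 (iv D13343))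
theorem F28825 : act 0 n10732 = n11432 := (sb E7052 (iv D14816))
theorem E7055 : n13460 = n12797 := (((iv F23680)).symm.trans (sb E7052 F25759))
theorem E7056 : n13287 = n11740 := (((iv F23347)).symm.trans (sb E7053 F25761))
theorem E7057 : n13335 = n12799 := ((D13335).symm.trans (sb E7053 F25762))
theorem F28826 : act 5 n10663 = n11432 := (sb E7053 (iv D14818))
theorem F28827 : act 1 n13465 = n12832 := (sb E7054 F25763)
theorem F28828 : act 3 n13465 = n12800 := (sb E7054 F25764)
theorem F28829 : act 6 n13465 = n11432 := (sb E7054 (iv D14819))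
theorem F28830 : act 3 n12797 = n10732 := (sb E7055 F23680)
theorem F28831 : act 5 n12797 = n10731 := (sb E7055 (iv D13460))
theorem E7058 : n15350 = n10686 := (((iv F26705)).symm.trans (sb E7056 F23346))
theorem F28832 : act 1 n11740 = n10663 := (sb E7056 F23347)
theorem E7059 : n15261 = n10636 := (((iv F26570)).symm.trans (sb E7056 (iv D13287)))
theorem E7060 : n11790 = n10735 := (((iv F20832)).symm.trans (sb E7056 (iv F23349)))
theorem E7061 : n15353 = n10702 := (((iv F26708)).symm.trans (sb E7056 F23348))
theorem F28833 : act 0 n12799 = n10731 := (sb E7057 F23482)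
theorem F28834 : act 3 n12799 = n10663 := (sb E7057 (iv D13335))
theorem F28835 : act 4 n12799 = n10731 := (sb E7057 F23485)
theorem F28836 : act 0 n10686 = n11740 := (sb E7058 F26705)
theorem E7062 : n15450 = n7738 := (((F18983).symm.trans (sb E7058 (iv F26828)))).symm
theorem E7063 : n13380 = n11738 := ((D13380).symm.trans (sb E7058 (iv D15350)))
theorem E7064 : n15357 = n13381 := (((D13381).symm.trans (sb E7058 (iv F26713)))).symm
theorem F28837 : act 2 n10636 = n11740 := (sb E7059 F26570)
theorem E7065 : n13288 = n11679 := ((D13288).symm.trans (sb E7059 (iv D15261)))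
theorem F28838 : act 1 n10735 = n12799 := (sb E7060 (iv F22395))
theorem E7066 : n15439 = n13466 := ((((iv F23692)).symm.trans (sb E7060 (iv F26805)))).symm
theorem F28839 : act 3 n10735 = n11740 := (sb E7060 F20832)
theorem E7067 : n15453 = n7734 := ((((iv D10735)).symm.trans (sb E7060 (iv F26833)))).symm
theorem E7068 : n13469 = n9680 := ((D13469).symm.trans (sb E7060 (iv D11790)))
theorem E7069 : n15455 = n13470 := (((D13470).symm.trans (sb E7060 D15455))).symm
theorem F28840 : act 4 n10702 = n11740 := (sb E7061 F26708)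
theorem E7070 : n13408 = n11739 := ((D13408).symm.trans (sb E7061 (iv D15353)))
theorem E7071 : n11788 = n10744 := (((D10744).symm.trans (sb E7062 (iv D15450)))).symm
theorem E7073 : n15936 = n15259 := ((((iv F26567)).symm.trans (sb E7063 (iv F27544)))).symm
theorem E7074 : n15349 = n10705 := ((D15349).symm.trans (sb E7063 F23548))
theorem F28841 : act 5 n11738 = n10686 := (sb E7063 (iv D13380))
theorem F28843 : act 5 n13381 = n11741 := (sb E7064 (iv D15357))
theorem E7075 : n16538 = n12521 := ((((iv F22004)).symm.trans (sb E7065 (iv F28713)))).symm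
theorem E7076 : n15926 = n15260 := (((D15260).symm.trans (sb E7065 (iv F27528)))).symm
theorem F28844 : act 5 n11679 = n10636 := (sb E7065 (iv D13288))
theorem F28845 : act 5 n13466 = n11781 := (sb E7066 (iv D15439))
theorem E7077 : n11789 = n10736 := (((D10736).symm.trans (sb E7067 (iv D15453)))).symm
theorem F28846 : act 5 n9680 = n10735 := (sb E7068 (iv D13469))
theorem E7078 : n13492 = n11791 := (((D11791).symm.trans (sb E7068 (iv F23736)))).symm
theorem F28847 : act 3 n13470 = n15355 := (sb E7069 F26835)
theorem E7080 : n15352 = n10703 := ((D15352).symm.trans (sb E7070 F23584))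
theorem F28848 : act 5 n11739 = n10702 := (sb E7070 (iv D13408))
theorem E7081 : n15354 = n13415 := ((D15354).symm.trans (sb E7070 (iv F23597)))
theorem F28849 : act 0 n10744 = n9680 := (sb E7071 (iv D11788))
theorem E7082 : n15448 = n13489 := (((D13489).symm.trans (sb E7071 D15448))).symm
theorem E7083 : n15436 = n13483 := ((((iv F23719)).symm.trans (sb E7071 (iv F26800)))).symm
theorem F28850 : act 3 n10744 = n11738 := (sb E7071 F20830)
theorem F28851 : act 3 n15259 = n12361 := (sb E7073 F27545)
theorem F28852 : act 4 n15259 = n12039 := (sb E7073 F27546)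
theorem F28853 : act 5 n15259 = n12038 := (sb E7073 (iv D15936))
theorem F28854 : act 0 n10705 = n11739 := (sb E7074 F26704)
theorem F28855 : act 4 n10705 = n11738 := (sb E7074 (iv D15349))
theorem F28856 : act 0 n12521 = n12361 := (sb E7075 F28712)
theorem F28857 : act 4 n12521 = n12346 := (sb E7075 F28714)
theorem F28858 : act 5 n12521 = n12345 := (sb E7075 (iv D16538))
theorem F28859 : act 6 n12521 = n16571 := (sb E7075 (iv F28773))
theorem F28860 : act 0 n15260 = n12039 := (sb E7076 F27525)
theorem F28861 : act 3 n15260 = n12034 := (sb E7076 F27527)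
theorem F28862 : act 5 n15260 = n12033 := (sb E7076 (iv D15926))
theorem F28863 : act 6 n15260 = n15941 := (sb E7076 (iv F27562))
theorem E7085 : n13471 = n9681 := ((D13471).symm.trans (sb E7077 F20831))
theorem E7086 : n15438 = n13467 := ((((iv F23694)).symm.trans (sb E7077 (iv F26803)))).symm
theorem F28864 : act 4 n10736 = n9680 := (sb E7077 (iv D11789))
theorem E7088 : n15454 = n10749 := ((((iv F19096)).symm.trans (sb E7077 D15454))).symm
theorem F28865 : act 5 n11791 = n10745 := (sb E7078 (iv D13492))
theorem E7089 : n13410 = n11742 := ((D13410).symm.trans (sb E7080 F26707))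
theorem F28868 : act 3 n10703 = n11739 := (sb E7080 (iv D15352))
theorem F28869 : act 4 n13415 = n11741 := (sb E7081 F26709)
theorem F28870 : act 6 n13415 = n11739 := (sb E7081 (iv D15354))
theorem F28871 : act 0 n13489 = n11877 := (sb E7082 F26853)
theorem F28872 : act 2 n13489 = n11876 := (sb E7082 (iv F26854))
theorem F28873 : act 3 n13489 = n15348 := (sb E7082 F26825)
theorem F28874 : act 0 n13483 = n11781 := (sb E7083 (iv D15436))
theorem F28875 : act 1 n9681 = n10736 := (sb E7085 (iv D13471))
theorem E7090 : n11792 = n10738 := ((D11792).symm.trans (sb E7085 F23703))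
theorem F28876 : act 1 n13467 = n11783 := (sb E7086 F26802)
theorem F28877 : act 4 n13467 = n11781 := (sb E7086 (iv D15438))
theorem F28878 : act 4 n10749 = n11791 := (sb E7088 F26834)
theorem F28879 : act 1 n11742 = n10703 := (sb E7089 (iv D13410))
theorem E7091 : n13473 = n9697 := ((D13473).symm.trans (sb E7090 F20834))
theorem E7092 : n13474 = n11450 := ((D13474).symm.trans (sb E7090 F20836))
theorem F28880 : act 3 n10738 = n9681 := (sb E7090 (iv D11792))
theorem F28881 : act 4 n10738 = n11742 := (sb E7090 F20835)
theorem E7093 : n13462 = n11814 := (((iv F23683)).symm.trans (sb E7090 (iv F20877)))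
theorem E7094 : n13475 = n12893 := ((D13475).symm.trans (sb E7090 (iv F22596)))
theorem F28882 : act 0 n9697 = n10738 := (sb E7091 (iv D13473))
theorem E7095 : n14849 = n10937 := (((iv F25807)).symm.trans (sb E7092 F23705))
theorem F28883 : act 2 n11450 = n10738 := (sb E7092 (iv D13474))
theorem E7096 : n15498 = n10732 := ((D15498).symm.trans (sb E7093 (iv D13462)))
theorem F28884 : act 5 n11814 = n10738 := (sb E7093 F23683)
theorem F28885 : act 1 n12893 = n13516 := (sb E7094 (iv F23762))
theorem F28886 : act 6 n12893 = n10738 := (sb E7094 (iv D13475))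
theorem F28887 : act 1 n10937 = n11450 := (sb E7095 F25807)
theorem E7097 : n13851 = n11446 := ((D13851).symm.trans (sb E7095 (iv D14849)))
theorem F28888 : act 1 n10732 = n11814 := (sb E7096 (iv D15498))
theorem E7098 : n12798 = n12797 := ((((iv F28830)).symm.trans (sb E7096 F26910))).symm
theorem F28889 : act 3 n11446 = n10937 := (sb E7097 (iv D13851))
theorem F28890 : act 1 n12797 = n10315 := (sb E7098 F22393)
theorem F28891 : act 4 n12797 = n10314 := (sb E7098 (iv D12798))
theorem E7099 : n13865 = n11392 := (c25_15 D9677 F14442 F16360 (iv F14442) (iv F20815) (iv F28876) F23695 F23354 F18884 F10129 D6860 F10305 D8194 D10944 (iv F24358) (iv D11392) D11393 D14732 (iv F28817) F28816 (iv F28803) F28804 (iv D11355) F13599 D10694 F19000 (iv F18978) D13378 (iv F24162) (iv D13757) (iv D10880) (iv D8018) F5877 F14922 (iv F5645) D7672 (iv F19041) D13435 (iv F28099) (iv D16246) F21505 (iv D10023) D10024 D12206 F21524 (iv D12155) F17774 (iv D10002) (iv D5166) F3921 D2497 F3932 F2066 D1303 F15220 (iv D1303) (iv D652) (iv D330) F331 F156 F85 (iv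 F156) D166 (iv F639) D652 D1303 F15220 (iv F4175) (iv D2667) (iv D1293) (iv F1884) D2231 F3537 D2239 D4654 (iv F7134) (iv D4686) (iv F7130))
theorem E7100 : n14728 = n10944 := ((D14728).symm.trans (sb E7099 F24356))
theorem E7101 : n14721 = n10944 := (((iv F25671)).symm.trans (sb E7099 F24358))
theorem E7102 : n14729 = n10943 := ((D14729).symm.trans (sb E7099 (iv D13865)))
theorem E7103 : n14730 = n10963 := ((D14730).symm.trans (sb E7099 F24357))
theorem E7104 : n14731 = n13918 := ((D14731).symm.trans (sb E7099 (iv F24410)))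
theorem F28892 : act 0 n10944 = n11392 := (sb E7100 (iv D14728))
theorem E7105 : n13503 = n11389 := (((iv F23749)).symm.trans (sb E7101 (iv D14721)))
theorem F28893 : act 2 n10944 = n11392 := (sb E7101 F25671)
theorem E7106 : n13864 = n11393 := ((D13864).symm.trans (sb E7102 F25678))
theorem F28894 : act 3 n10943 = n11392 := (sb E7102 (iv D14729))
theorem F28895 : act 5 n10963 = n11392 := (sb E7103 (iv D14730))
theorem F28896 : act 6 n13918 = n11392 := (sb E7104 (iv D14731))
theorem F28897 : act 1 n11389 = n10944 := (sb E7105 F23749)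
theorem E7107 : n14722 = n10751 := ((D14722).symm.trans (sb E7105 (iv D13503)))
theorem E7108 : n14723 = n10773 := ((D14723).symm.trans (sb E7105 F23750))
theorem F28898 : act 1 n11393 = n10943 := (sb E7106 (iv D13864))
theorem F28899 : act 3 n10751 = n11389 := (sb E7107 (iv D14722))
theorem E7109 : n13553 = n11390 := ((D13553).symm.trans (sb E7108 F25672))
theorem F28900 : act 5 n10773 = n11389 := (sb E7108 (iv D14723))
theorem F28901 : act 2 n11390 = n10773 := (sb E7109 (iv D13553))
theorem F28902 : act 2 n13550 = n14719 := d1_2 F28901 (iv F23803) F25669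
theorem E7110 : n14596 = n13596 := ((c6_4 F28901 F19123 D10792 D13596 (iv F25505) F25504)).symm
theorem F28903 : act 0 n13596 = n11336 := (sb E7110 (iv D14596))
theorem F28904 : act 2 n13596 = n14598 := (sb E7110 (iv F25505))
theorem F28905 : act 5 n13596 = n14597 := (sb E7110 F25502)
theorem F28906 : act 2 n13554 = n14498 := d12_3 F25316 F28901 D13554
theorem F28907 : act 2 n13555 = n14725 := d14_3 (iv D14725) F28901 D13555
theorem F28908 : act 5 n14497 = n13554 := d13_0 F28906 (iv D14498) D14497
theorem F28909 : act 1 n13866 = n14497 := d9_5 F28908 F23807 F19144 (iv F19461) (iv F24359)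
theorem F28910 : act 2 n14500 = n13866 := d6_0 F28909 (iv D14497) (iv D11282) D11283 D14500
theorem F28911 : act 5 n13910 = n14500 := d13_0 F28910 F24359 (iv F24398)
theorem F28912 : act 0 n14500 = n13866 := d4_1 F28911 F24359 (iv F24397)
theorem F28913 : act 0 n14497 = n15128 := d0_3 D14500 F28912 F28909 (iv D15128) (iv D11596) (iv D9390) F14810 (iv F13377) (iv F20014)
theorem F28914 : act 2 n15128 = n14496 := d1_2 D14497 F28913 (iv D14496)
theorem E7111 : n14718 = n12721 := ((c3_3 (iv F25315) F28913 F26364 F25668)).symm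
theorem F28915 : act 0 n12721 = n11389 := (sb E7111 F25668)
theorem F28916 : act 2 n12721 = n11388 := (sb E7111 (iv D14718))
theorem E7112 : n14437 = n12719 := (c6_2 F28916 (iv F25209) (iv D12719) (iv D10276) D10277 D12721)
theorem F28917 : act 0 n12719 = n11254 := (sb E7112 (iv D14437))
theorem F28918 : act 1 n12719 = n11388 := (sb E7112 F25209)
theorem F28919 : act 5 n13550 = n12721 := d13_0 F28916 D14719 (iv F28902)
theorem F28920 : act 3 n12721 = n13502 := d16_1 F28919 F23748 D13550
theorem F28921 : act 1 n13502 = n12722 := d7_1 F28920 (iv D12722) D12721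
theorem E7113 : n15330 = n13501 := (c6_5 D13502 F28921 F28533 F22316 (iv F26684) (iv D13501))
theorem F28922 : act 2 n13501 = n11729 := (sb E7113 F26684)
theorem F28923 : act 3 n13501 = n15466 := (sb E7113 (iv F26856))
theorem F28924 : act 5 n13501 = n11727 := (sb E7113 (iv D15330))
theorem F28925 : act 5 n14845 = n13549 := d9_4 (iv F23748) F28921 (iv F28535) (iv F25801) (iv D13549)
theorem F28926 : act 2 n13549 = n14847 := d13_1 F28925 (iv D14847) D14845
theorem E7114 : n15469 = n10770 := (c6_3 F28926 F25803 (iv F26862) (iv D10770) D10771 D13549)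
theorem E7115 : n13545 = n11803 := ((D13545).symm.trans (sb E7114 F26861))
theorem E7116 : n13546 = n11803 := ((D13546).symm.trans (sb E7114 F26862))
theorem E7117 : n13525 = n11800 := (((iv F23773)).symm.trans (sb E7114 F26863))
theorem E7118 : n13547 = n11798 := ((D13547).symm.trans (sb E7114 (iv D15469)))
theorem E7119 : n15481 = n13548 := (((D13548).symm.trans (sb E7114 (iv F26885)))).symm
theorem F28927 : act 0 n11803 = n10770 := (sb E7115 (iv D13545))
theorem F28928 : act 2 n11803 = n10770 := (sb E7116 (iv D13546))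
theorem E7120 : n15474 = n10762 := ((D15474).symm.trans (sb E7117 (iv D13525)))
theorem F28929 : act 3 n11800 = n10770 := (sb E7117 F23773)
theorem F28930 : act 5 n11798 = n10770 := (sb E7118 (iv D13547))
theorem F28931 : act 0 n13548 = n15479 := (sb E7119 F26882)
theorem F28932 : act 2 n13548 = n15479 := (sb E7119 F26883)
theorem F28933 : act 3 n13548 = n11810 := (sb E7119 F26884)
theorem F28934 : act 5 n13548 = n11804 := (sb E7119 (iv D15481))
theorem F28935 : act 1 n10762 = n11800 := (sb E7120 (iv D15474))
theorem F28936 : act 1 n13849 = n14841 := d23_18 D14847 (iv F28926) (iv D13549) F19120 (iv F19099) (iv D10751) (iv D7741) (iv F11497) (iv D7735) F5691 D3910 D8187 D10930 F19435 D10932 D13840 F24336 D13849 F25797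
theorem F28937 : act 3 n14840 = n13849 := d7_0 F28936 (iv D14841) D14840
theorem E7121 : n14842 = n14840 := (c2_4 F28937 F24340 (iv F28889) (iv F25798))
theorem F28938 : act 0 n14840 = n11446 := (sb E7121 F25798)
theorem E7122 : n14840 = n11329 := ((c21_5 (iv F28824) (iv D11338) (iv D9065) (iv F13570) D11329 F28937 (iv D13849) (iv F23499) (iv D13342))).symm
theorem E7123 : n14581 = n11446 := (((iv F25478)).symm.trans (sb E7122 F28938))
theorem E7124 : n14567 = n11444 := (((iv F25450)).symm.trans (sb E7122 (iv D14840)))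
theorem E7125 : n14582 = n13849 := ((D14582).symm.trans (sb E7122 F28937))
theorem F28940 : act 0 n11446 = n11329 := (sb E7123 F25478)
theorem E7126 : n13624 = n11328 := (((iv F23898)).symm.trans (sb E7123 (iv D14581)))
theorem E7127 : n14850 = n11369 := ((D14850).symm.trans (sb E7123 F25479))
theorem E7128 : n14851 = n14684 := ((D14851).symm.trans (sb E7123 (iv F25627)))
theorem F28941 : act 1 n11444 = n11329 := (sb E7124 F25450)
theorem E7129 : n13622 = n11320 := (((iv F23895)).symm.trans (sb E7124 (iv D14567)))
theorem F28942 : act 4 n11444 = n11329 := (sb E7124 F25451)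
theorem E7130 : n14843 = n11361 := ((D14843).symm.trans (sb E7124 F25452))
theorem F28943 : act 3 n13849 = n11329 := (sb E7125 (iv D14582))
theorem F28944 : act 5 n13849 = n11371 := (sb E7125 F25480)
theorem E7131 : n14580 = n10810 := ((D14580).symm.trans (sb E7126 F23897))
theorem F28945 : act 2 n11328 = n11446 := (sb E7126 F23898)
theorem E7132 : n14566 = n10808 := (((iv F25448)).symm.trans (sb E7126 (iv D13624)))
theorem E7133 : n14676 = n11806 := ((D14676).symm.trans (sb E7127 F25808))
theorem E7134 : n14653 = n11447 := (((iv F25580)).symm.trans (sb E7127 F25809))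
theorem F28946 : act 5 n11369 = n11446 := (sb E7127 (iv D14850))
theorem F28947 : act 4 n14684 = n11448 := (sb E7128 F25810)
theorem F28948 : act 6 n14684 = n11446 := (sb E7128 (iv D14851))
theorem F28949 : act 2 n11320 = n11444 := (sb E7129 F23895)
theorem F28950 : act 5 n11361 = n11444 := (sb E7130 (iv D14843))
theorem E7135 : n14853 = n14656 := (((D14656).symm.trans (sb E7130 (iv F25813)))).symm
theorem F28951 : act 1 n10810 = n11328 := (sb E7131 (iv D14580))
theorem E7136 : n13629 = n11336 := ((D13629).symm.trans (sb E7131 F25477))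
theorem F28952 : act 0 n10808 = n11320 := (sb E7132 (iv D14566))
theorem E7137 : n13623 = n11322 := ((D13623).symm.trans (sb E7132 F25447))
theorem F28953 : act 4 n10808 = n11328 := (sb E7132 F25448)
theorem E7138 : n13625 = n11360 := ((D13625).symm.trans (sb E7132 F25449))
theorem E7139 : n14658 = n13626 := (((D13626).symm.trans (sb E7132 (iv F25592)))).symm
theorem F28954 : act 1 n11806 = n11369 := (sb E7133 (iv D14676))
theorem F28955 : act 0 n11447 = n11361 := (sb E7134 F25579)
theorem F28956 : act 4 n11447 = n11369 := (sb E7134 F25580)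
theorem F28957 : act 0 n14656 = n14852 := (sb E7135 F25812)
theorem F28958 : act 5 n14656 = n11448 := (sb E7135 (iv D14853))
theorem E7140 : n14109 = n13596 := ((((iv F28903)).symm.trans (sb E7136 (iv F24633)))).symm
theorem E7141 : n14597 = n14090 := ((D14597).symm.trans (sb E7136 (iv F24604)))
theorem F28959 : act 3 n11336 = n10810 := (sb E7136 (iv D13629))
theorem E7142 : n14598 = n11057 := ((D14598).symm.trans (sb E7136 F23909))
theorem E7143 : n14572 = n10809 := ((D14572).symm.trans (sb E7137 F23896))
theorem F28960 : act 3 n11322 = n10808 := (sb E7137 (iv D13623))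
theorem E7144 : n14652 = n11053 := ((D14652).symm.trans (sb E7138 F23899))
theorem F28961 : act 2 n11360 = n11447 := (sb E7138 F23900)
theorem F28962 : act 5 n11360 = n10808 := (sb E7138 (iv D13625))
theorem F28963 : act 0 n13626 = n14568 := (sb E7139 F25589)
theorem F28964 : act 3 n13626 = n14573 := (sb E7139 F25590)
theorem F28965 : act 4 n13626 = n11374 := (sb E7139 F25591)
theorem F28966 : act 5 n13626 = n11362 := (sb E7139 (iv D14658))
theorem E7145 : n13621 = n13620 := ((((iv F23891)).symm.trans (sb E7140 F24634))).symm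
theorem F28967 : act 2 n14090 = n11336 := (sb E7141 (iv D14597))
theorem F28968 : act 5 n14090 = n13596 := (sb E7141 (iv F28905))
theorem E7146 : n14100 = n11390 := (((iv F24616)).symm.trans (sb E7142 F25504))
theorem F28969 : act 2 n11057 = n13596 := (sb E7142 (iv F28904))
theorem F28970 : act 5 n11057 = n11336 := (sb E7142 (iv D14598))
theorem F28971 : act 1 n10809 = n11322 := (sb E7143 (iv D14572))
theorem E7147 : n12502 = n10791 := (((F19174).symm.trans (sb E7143 F25463))).symm
theorem F28972 : act 1 n11053 = n11360 := (sb E7144 (iv D14652))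
theorem E7148 : n14098 = n12419 := (((iv F24614)).symm.trans (sb E7144 F25577))
theorem E7149 : n14101 = n11368 := (((iv F24618)).symm.trans (sb E7144 F25578))
theorem F28973 : act 0 n13620 = n10810 := (sb E7145 F23892)
theorem F28974 : act 2 n13620 = n10807 := (sb E7145 F23893)
theorem F28975 : act 4 n13620 = n10806 := (sb E7145 (iv D13621))
theorem F28976 : act 5 n13620 = n11049 := (sb E7145 F23894)
theorem F28977 : act 6 n13620 = n14112 := (sb E7145 (iv F24641))
theorem F28978 : act 1 n11390 = n11057 := (sb E7146 F24616)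
theorem E7150 : n14674 = n11052 := (((iv F25617)).symm.trans (sb E7146 (iv D14100)))
theorem E7151 : n13592 = n10173 := (((iv F23844)).symm.trans (sb E7147 (iv D12502)))
theorem E7152 : n16252 = n13595 := (((D13595).symm.trans (sb E7147 (iv F28113)))).symm
theorem F28979 : act 3 n12419 = n11053 := (sb E7148 F24614)
theorem F28980 : act 5 n12419 = n11051 := (sb E7148 (iv D14098))
theorem E7153 : n14673 = n11141 := ((D14673).symm.trans (sb E7149 F24617))
theorem F28981 : act 4 n11368 = n11053 := (sb E7149 F24618)
theorem F28982 : act 3 n11052 = n11390 := (sb E7150 F25617)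
theorem F28983 : act 5 n11052 = n11368 := (sb E7150 (iv D14674))
theorem F28984 : act 1 n10173 = n10791 := (sb E7151 F23844)
theorem E7154 : n12500 = n10790 := (((iv F21979)).symm.trans (sb E7151 (iv D13592)))
theorem F28985 : act 1 n13595 = n12197 := (sb E7152 (iv D16252))
theorem F28986 : act 2 n11141 = n11368 := (sb E7153 (iv D14673))
theorem E7155 : n15246 = n13591 := (((D13591).symm.trans (sb E7154 (iv F26543)))).symm
theorem F28987 : act 3 n10790 = n10173 := (sb E7154 F21979)
theorem E7156 : n13593 = n10172 := ((D13593).symm.trans (sb E7154 (iv D12500)))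
theorem F28988 : act 3 n13591 = n11671 := (sb E7155 F26545)
theorem F28989 : act 5 n13591 = n11670 := (sb E7155 (iv D15246))
theorem E7157 : n12496 = n11006 := (((iv F21974)).symm.trans (sb E7156 F23845))
theorem E7158 : n13798 = n12499 := (((D12499).symm.trans (sb E7156 (iv F24234)))).symm
theorem F28990 : act 5 n10172 = n10790 := (sb E7156 (iv D13593))
theorem E7159 : n15320 = n13998 := ((((iv F24498)).symm.trans (sb E7157 (iv F26671)))).symm
theorem F28991 : act 1 n11006 = n10172 := (sb E7157 F21974)
theorem E7160 : n14002 = n10171 := (((iv F24501)).symm.trans (sb E7157 (iv D12496)))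
theorem F28992 : act 1 n12499 = n13760 := (sb E7158 F24232)
theorem F28993 : act 5 n12499 = n10902 := (sb E7158 (iv D13798))
theorem F28994 : act 1 n13998 = n11724 := (sb E7159 F26672)
theorem F28995 : act 3 n13998 = n11723 := (sb E7159 (iv D15320))
theorem F28996 : act 3 n10171 = n11006 := (sb E7160 F24501)
theorem E7161 : n12497 = n11005 := ((D12497).symm.trans (sb E7160 (iv D14002)))
theorem E7162 : n15321 = n13997 := ((((iv F24497)).symm.trans (sb E7161 (iv F26673)))).symm
theorem E7163 : n14000 = n10180 := ((D14000).symm.trans (sb E7161 F21975))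
theorem E7164 : n16247 = n14001 := (((D14001).symm.trans (sb E7161 (iv F28104)))).symm
theorem F28997 : act 5 n11005 = n10171 := (sb E7161 (iv D12497))
theorem F28998 : act 2 n13997 = n12512 := (sb E7162 F26674)
theorem F28999 : act 5 n13997 = n11723 := (sb E7162 (iv D15321))
theorem E7165 : n14096 = n12425 := ((((iv F21882)).symm.trans (sb E7163 (iv F24612)))).symm
theorem F29000 : act 2 n10180 = n11005 := (sb E7163 (iv D14000))
theorem F29001 : act 2 n14001 = n12204 := (sb E7164 F28103)
theorem F29002 : act 5 n14001 = n12195 := (sb E7164 (iv D16247))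
theorem F29003 : act 2 n12425 = n11051 := (sb E7165 (iv D14096))
theorem F29004 : act 2 n14097 = n16088 := d12_3 F27808 F29003 D14097
theorem F29005 : act 5 n14477 = n14097 := d13_0 F29004 (iv D16088) (iv F25279)
theorem F29006 : act 1 n13627 = n14449 := d9_3 F29005 F24613 (iv F23904) F25215 D14477
theorem F29007 : act 3 n14097 = n14498 := d16_1 F29005 (iv D14498) (iv F25280)
theorem F29008 : act 1 n14498 = n14106 := d7_1 F29007 (iv D14106) (iv F24613)
theorem F29009 : act 5 n14106 = n14455 := d9_2 D14498 F29008 (iv D14455) F19979 D11282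
theorem F29010 : act 3 n14455 = n13627 := d16_1 F29009 F23904 D14106
theorem F29011 : act 2 n14010 = n14455 := d21_0 F29010 F23903 (iv F24239) F24238 F24168 (iv F19564) D14106 F24627
theorem F29012 : act 2 n14003 = n12518 := d14_3 (iv D12518) F29000 D14003
theorem F29013 : act 5 n15322 = n14003 := d13_0 F29012 F22000 (iv F26676)
theorem F29014 : act 3 n14005 = n15322 := d16_3 F29013 F24502 D14005
theorem F29015 : act 3 n12498 = n14004 := d2_2 F29014 F26675 (iv F24504)
theorem F29016 : act 5 n13796 = n15245 := d4_2 F28993 D13796 F26540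
theorem F29017 : act 5 n13797 = n16249 := d16_2 F28993 D13797 F28108
theorem F29018 : act 4 n16250 = n13797 := d18_3 F29017 (iv D16249) D16250
theorem F29019 : act 1 n13800 = n16250 := d8_3 F29018 F24231 D13800
theorem F29020 : act 1 n15190 = n13283 := d23_6 F29016 F26542 F26541 F20683 (iv F20621) (iv F26467) F23333 (iv D10634) F10074 (iv D3280) F2624 D1844 F2981 D1846 D3836 F15037 D8046 D10902 D13796
theorem F29021 : act 2 n13307 = n14603 := d6_4 (iv F26467) F29020 F23334 D13307 F25509
theorem E7166 : n13292 = n11633 := (c8_4 D15190 F29020 F23335 D13292)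
theorem E7167 : n15189 = n10638 := ((D15189).symm.trans (sb E7166 (iv D13292)))
theorem F29022 : act 1 n10638 = n11633 := (sb E7167 (iv D15189))
theorem F29023 : act 1 n12427 = n13290 := d7_3 F23351 F29022 (iv F21885)
theorem F29024 : act 0 n12429 = n12429 := d0_7 F29023 F23350 F18883 (iv F23350) (iv F29023) F21883 D12429 (iv D12429) (iv F21883)
theorem F29025 : act 5 n14741 = n13307 := d13_0 F29021 F25510 (iv F25689)
theorem F29026 : act 1 n13681 = n14733 := d23_18 (iv F25510) (iv F29021) (iv D13307) F18896 (iv D6805) (iv F10074) (iv D6705) F15675 F15648 (iv D3233) F2592 F1440 D912 (iv F2981) D3832 D8010 (iv F19265) D13681 F25681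
theorem F29027 : act 1 n13303 = n14741 := d9_5 F29025 (iv D13307) (iv D10647) D10645 D13303
theorem F29028 : act 2 n14817 = n13303 := d6_0 F29027 F25689 F20193 (iv F20228) (iv F25760)
theorem F29029 : act 5 n13301 = n14817 := d13_0 F29028 (iv D13303) D13301
theorem F29030 : act 0 n14817 = n13406 := d4_1 F29029 (iv D13406) (iv F23366)
theorem F29031 : act 3 n14817 = n13406 := d16_1 F29029 (iv D13406) F23369
theorem F29032 : act 1 n13406 = n14820 := d7_1 F29031 (iv D14820) (iv F25760)
theorem F29033 : act 5 n13594 = n15247 := d22_2 F28990 D13594 (iv D15247) F20676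
theorem F29034 : act 3 n12503 = n13594 := d16_3 F29033 F26548 (iv F21983)
theorem F29035 : act 2 n14672 = n14232 := d1_2 F28986 D14672 F24876
theorem F29036 : act 2 n14675 = n14239 := d14_3 (iv D14239) F28986 D14675
theorem F29037 : act 3 n13494 = n14232 := d21_7 F28986 F20161 D11389 (iv F28899) (iv D10751) (iv F19088) D13494 F24876
theorem F29038 : act 2 n13493 = n14237 := d21_0 F24881 F28986 F20161 D11389 (iv F28899) (iv D10751) (iv F19088) D13493
theorem F29039 : act 0 n14237 = n13494 := d21_8 (iv D13494) F19088 D10751 F28899 (iv D11389) (iv F20161) (iv F28986) (iv F24881)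
theorem E7168 : n13526 = n11140 := (c4_4 D14237 F29039 F23739 (iv F23774))
theorem E7169 : n14231 = n10763 := (((iv F24875)).symm.trans (sb E7168 F23774))
theorem E7170 : n14236 = n10762 := ((D14236).symm.trans (sb E7168 (iv D13526)))
theorem F29040 : act 0 n10763 = n11140 := (sb E7169 F24875)
theorem E7171 : n13528 = n11137 := ((D13528).symm.trans (sb E7169 (iv D14231)))
theorem E7172 : n15657 = n13518 := ((((iv F23764)).symm.trans (sb E7169 (iv F27157)))).symm
theorem E7173 : n15602 = n11800 := (((F28935).symm.trans (sb E7170 (iv F27090)))).symm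
theorem F29041 : act 2 n10762 = n11140 := (sb E7170 (iv D14236))
theorem E7174 : n15634 = n13517 := ((((iv F23763)).symm.trans (sb E7170 (iv F27132)))).symm
theorem E7175 : n14428 = n14228 := ((((iv F24874)).symm.trans (sb E7171 (iv F25194)))).symm
theorem F29042 : act 3 n11137 = n10763 := (sb E7171 (iv D13528))
theorem F29043 : act 0 n13518 = n11897 := (sb E7172 (iv D15657))
theorem F29044 : act 3 n13518 = n12007 := (sb E7172 F27156)
theorem E7176 : n11871 = n9858 := (((F20851).symm.trans (sb E7173 (iv D15602)))).symm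
theorem E7177 : n15472 = n11886 := (((iv F26870)).symm.trans (sb E7173 F27091))
theorem F29045 : act 1 n13517 = n11886 := (sb E7174 (iv D15634))
theorem F29046 : act 2 n13517 = n11897 := (sb E7174 F27131)
theorem F29047 : act 3 n14228 = n11249 := (sb E7175 (iv D14428))
theorem E7178 : n15597 = n4865 := (((F17536).symm.trans (sb E7176 (iv F27080)))).symm
theorem E7179 : n11884 = n9855 := ((D11884).symm.trans (sb E7176 F20993))
theorem E7180 : n11869 = n9852 := (((iv F20989)).symm.trans (sb E7176 (iv D11871)))
theorem E7181 : n11882 = n9860 := (((iv F21009)).symm.trans (sb E7176 F20994))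
theorem E7184 : n15623 = n11806 := (((iv F27121)).symm.trans (sb E7177 F26868))
theorem F29048 : act 4 n11886 = n11800 := (sb E7177 F26870)
theorem E7185 : n15636 = n11799 := ((D15636).symm.trans (sb E7177 (iv D15472)))
theorem E7186 : n15637 = n15487 := ((D15637).symm.trans (sb E7177 (iv F26896)))
theorem E7187 : n11868 = n9853 := ((((iv F17529)).symm.trans (sb E7178 (iv D15597)))).symm
theorem E7188 : n11881 = n9861 := ((((iv F17539)).symm.trans (sb E7178 F27081))).symm
theorem F29049 : act 1 n9855 = n9858 := (sb E7179 (iv D11884))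
theorem E7193 : n15619 = n9866 := ((((iv F17548)).symm.trans (sb E7179 (iv F27116)))).symm
theorem E7194 : n15630 = n11189 := ((((iv F19824)).symm.trans (sb E7179 D15630))).symm
theorem F29050 : act 3 n9852 = n9858 := (sb E7180 F20989)
theorem E7195 : n15598 = n4861 := ((((iv D9852)).symm.trans (sb E7180 (iv F27084)))).symm
theorem E7196 : n11872 = n9851 := ((D11872).symm.trans (sb E7180 (iv D11869)))
theorem E7197 : n11875 = n11873 := (((D11873).symm.trans (sb E7180 (iv F21005)))).symm
theorem E7198 : n15624 = n4864 := ((((iv D9860)).symm.trans (sb E7181 (iv F27123)))).symm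
theorem F29051 : act 4 n9860 = n9858 := (sb E7181 F21009)
theorem E7199 : n11887 = n9857 := ((D11887).symm.trans (sb E7181 (iv D11882)))
theorem E7200 : n11891 = n11888 := (((D11888).symm.trans (sb E7181 (iv F21020)))).symm
theorem F29052 : act 0 n11806 = n11886 := (sb E7184 F27121)
theorem F29053 : act 5 n11799 = n11886 := (sb E7185 (iv D15636))
theorem F29054 : act 6 n15487 = n11886 := (sb E7186 (iv D15637))
theorem F29055 : act 0 n9853 = n9852 := (sb E7187 F20985)
theorem E7203 : n15599 = n11874 := (((D11874).symm.trans (sb E7187 D15599))).symm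
theorem F29056 : act 0 n9861 = n9860 := (sb E7188 F21007)
theorem E7205 : n15625 = n11889 := (((D11889).symm.trans (sb E7188 D15625))).symm
theorem E7206 : n11897 = n11879 := ((D11897).symm.trans (sb E7193 (iv D15619)))
theorem E7207 : n15656 = n14321 := ((((iv F24991)).symm.trans (sb E7194 (iv F27155)))).symm
theorem E7208 : n15606 = n9854 := (((D9854).symm.trans (sb E7195 (iv F27102)))).symm
theorem E7209 : n12008 = n11867 := (((D11867).symm.trans (sb E7196 (iv F21192)))).symm
theorem F29057 : act 4 n9851 = n9853 := (sb E7196 F20996)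
theorem F29058 : act 5 n9851 = n9852 := (sb E7196 (iv D11872))
theorem E7210 : n15605 = n11870 := (((D11870).symm.trans (sb E7196 D15605))).symm
theorem E7211 : n15608 = n14323 := ((((iv F24995)).symm.trans (sb E7197 D15608))).symm
theorem F29059 : act 3 n11873 = n9865 := (sb E7197 F21004)
theorem E7212 : n15640 = n9862 := (((D9862).symm.trans (sb E7198 (iv F27141)))).symm
theorem E7213 : n14237 = n11878 := ((((iv F21006)).symm.trans (sb E7199 (iv F24880)))).symm
theorem F29060 : act 3 n9857 = n9861 := (sb E7199 F21012)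
theorem F29061 : act 5 n9857 = n9860 := (sb E7199 (iv D11887))
theorem E7214 : n15638 = n11883 := (((D11883).symm.trans (sb E7199 D15638))).symm
theorem E7215 : n15645 = n15639 := (((D15639).symm.trans (sb E7200 D15645))).symm
theorem F29062 : act 2 n11888 = n15487 := (sb E7200 (iv F26894))
theorem F29063 : act 4 n11888 = n9865 := (sb E7200 F21019)
theorem F29064 : act 0 n11874 = n11873 := (sb E7203 F27085)
theorem F29065 : act 0 n11889 = n11888 := (sb E7205 F27124)
theorem E7216 : n15610 = n13518 := (((iv F27106)).symm.trans (sb E7206 (iv F29043)))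
theorem F29066 : act 1 n11879 = n9866 := (sb E7206 (iv D11897))
theorem E7217 : n15614 = n13517 := (((iv F27111)).symm.trans (sb E7206 (iv F29046)))
theorem E7218 : n15595 = n9930 := (((iv F27078)).symm.trans (sb E7206 F21023))
theorem E7219 : n15617 = n11140 := (((iv F27114)).symm.trans (sb E7206 F21024))
theorem E7220 : n15659 = n15620 := (((D15620).symm.trans (sb E7206 D15659))).symm
theorem F29067 : act 6 n14321 = n11896 := (sb E7207 (iv D15656))
theorem F29068 : act 5 n9854 = n11873 := (sb E7208 (iv D15606))
theorem E7221 : n15879 = n15592 := (((D15592).symm.trans (sb E7209 (iv F27449)))).symm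
theorem E7222 : n15858 = n15593 := (((D15593).symm.trans (sb E7209 (iv F27413)))).symm
theorem F29069 : act 4 n11867 = n9932 := (sb E7209 F21193)
theorem E7223 : n15881 = n15596 := (((D15596).symm.trans (sb E7209 D15881))).symm
theorem F29070 : act 4 n11870 = n11874 := (sb E7210 F27097)
theorem F29071 : act 3 n14323 = n11896 := (sb E7211 F27104)
theorem F29072 : act 5 n9862 = n11888 := (sb E7212 (iv D15640))
theorem E7224 : n15609 = n13494 := (((iv F27105)).symm.trans (sb E7213 F29039))
theorem E7225 : n15613 = n13493 := (((iv F27110)).symm.trans (sb E7213 (iv F29038)))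
theorem F29073 : act 3 n11878 = n11141 := (sb E7213 F24881)
theorem F29074 : act 3 n11883 = n11889 := (sb E7214 F27135)
theorem F29075 : act 4 n15639 = n11896 := (sb E7215 F27148)
theorem F29076 : act 0 n13518 = n11879 := (sb E7216 F27106)
theorem F29077 : act 5 n13518 = n11876 := (sb E7216 (iv D15610))
theorem F29078 : act 6 n13518 = n15622 := (sb E7216 (iv F27120))
theorem F29079 : act 2 n13517 = n11879 := (sb E7217 F27111)
theorem F29080 : act 5 n13517 = n11877 := (sb E7217 (iv D15614))
theorem F29081 : act 3 n9930 = n11879 := (sb E7218 F27078)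
theorem F29082 : act 5 n9930 = n11867 := (sb E7218 (iv D15595))
theorem F29083 : act 4 n11140 = n11879 := (sb E7219 F27114)
theorem F29084 : act 5 n11140 = n11878 := (sb E7219 (iv D15617))
theorem F29085 : act 3 n15620 = n12009 := (sb E7220 F27161)
theorem F29086 : act 4 n15620 = n14238 := (sb E7220 F27162)
theorem F29087 : act 4 n15592 = n12011 := (sb E7221 F27450)
theorem F29088 : act 5 n15592 = n12007 := (sb E7221 (iv D15879))
theorem F29089 : act 6 n15592 = n15882 := (sb E7221 (iv F27457))
theorem F29090 : act 4 n15593 = n12002 := (sb E7222 F27414)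
theorem F29091 : act 5 n15593 = n11997 := (sb E7222 (iv D15858))
theorem F29092 : act 0 n15596 = n15882 := (sb E7223 (iv F27455))
theorem F29093 : act 4 n15596 = n12013 := (sb E7223 F27453)
theorem F29094 : act 5 n15596 = n15880 := (sb E7223 F27454)
theorem F29095 : act 0 n13494 = n11878 := (sb E7224 F27105)
theorem F29096 : act 4 n13494 = n11876 := (sb E7224 (iv D15609))
theorem F29097 : act 2 n13493 = n11878 := (sb E7225 F27110)
theorem F29098 : act 4 n13493 = n11877 := (sb E7225 (iv D15613))
theorem F29099 : act 4 n15615 = n13531 := d19_3 F23783 F29098 D15615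
theorem F29100 : act 2 n13531 = n15618 := d12_1 F29099 F27115 (iv F27112)
theorem F29101 : act 5 n13519 = n15615 := d18_0 F29099 (iv D13531) (iv F23765)
theorem F29102 : act 2 n15622 = n13519 := d13_3 F29101 F27112 D15622
theorem F29103 : act 4 n13529 = n15622 := d12_0 F29102 F23765 (iv F23778)
theorem F29104 : act 0 n14238 = n13529 := d3_3 F29103 F27119 F29086
theorem F29105 : act 5 n15618 = n13529 := d18_0 F29103 (iv D15622) (iv F27115)
theorem F29106 : act 2 n13527 = n14238 := d1_0 F29104 F23778 (iv F23775)
theorem F29107 : act 3 n13529 = n14233 := d2_2 (iv F24882) F29104 F24878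
theorem F29108 : act 3 n14725 = n14102 := d21_5 F23778 F19115 (iv F19124) (iv F23808) F28907 F24619 (iv F24882) F29104
theorem F29109 : act 3 n15880 = n15622 := d15_5 (iv F29103) F29107 F24879 (iv F21199) (iv F27452)
theorem F29110 : act 3 n14239 = n15618 := d16_3 F29105 F29107 (iv F24884)
theorem F29111 : act 3 n13504 = n14724 := d21_1 (iv F23751) F25673 (iv F25618) F29036 F29110 (iv F29100) F23782 F19126
theorem E7226 : n15887 = n13494 := (c8_4 F29096 (iv F27074) F29087 D15887)
theorem F29112 : act 1 n13494 = n12011 := (sb E7226 (iv D15887))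
theorem E7227 : n14234 = n14232 := (((F29037).symm.trans (sb E7226 F27462))).symm
theorem F29113 : act 1 n14232 = n11138 := (sb E7227 (iv D14234))
theorem E7228 : n14229 = n14228 := (c9_5 D14232 F29113 (iv D11138) D11136 D14229 F24874)
theorem E7229 : n15885 = n11249 := (((F29047).symm.trans (sb E7228 (iv F27460)))).symm
theorem F29114 : act 5 n14228 = n11136 := (sb E7228 (iv D14229))
theorem E7230 : n14402 = n12010 := (((iv F25168)).symm.trans (sb E7229 (iv D15885)))
theorem E7231 : n15884 = n11236 := ((D15884).symm.trans (sb E7230 (iv D14402)))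
theorem F29115 : act 5 n12010 = n11249 := (sb E7230 F25168)
theorem F29116 : act 2 n11236 = n12010 := (sb E7231 (iv D15884))
theorem E7232 : n13618 = n13617 := (c23_13 D14094 F24609 (iv F29113) F24876 (iv D11141) (iv F19560) F19559 (iv F19555) (iv F28976) F28974 (iv F23885) F23884 F23887 (iv D13617) F19160 F11553 F5717 D3953 D8282 D11050)
theorem F29117 : act 1 n13617 = n10807 := (sb E7232 F23885)
theorem F29118 : act 3 n13617 = n10826 := (sb E7232 F23886)
theorem F29119 : act 4 n13617 = n10804 := (sb E7232 (iv D13618))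
theorem F29120 : act 5 n14093 = n14672 := d23_8 F19161 D13617 F29117 F19169 F11558 (iv F12311) (iv F19559) (iv F24606) F29035 F29113 F19755 (iv D8520) (iv F12308) (iv D8282) (iv F12296) (iv F19167) (iv D10806) (iv F19160) F19159
theorem F29121 : act 3 n14719 = n14093 := d16_3 F29120 F25616 D14719
theorem F29122 : act 4 n14672 = n14094 := d18_1 F29120 (iv D14094) D14093
theorem F29123 : act 2 n15883 = n14401 := d1_2 F29116 D15883 (iv D14401)
theorem E7233 : n15863 = n11232 := (c6_4 F29116 (iv D12010) (iv F21179) D15863 F19931 D11236)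
theorem E7234 : n14393 = n12000 := ((D14393).symm.trans (sb E7233 (iv D15863)))
theorem F29124 : act 1 n12000 = n11232 := (sb E7234 (iv D14393))
theorem E7235 : n15865 = n13485 := ((D15865).symm.trans (sb E7234 F25146))
theorem F29125 : act 0 n13485 = n12002 := (sb E7235 F27427)
theorem F29126 : act 2 n13485 = n12011 := (sb E7235 F27428)
theorem F29127 : act 5 n13485 = n12000 := (sb E7235 (iv D15865))
theorem F29128 : act 6 n13485 = n15873 := (sb E7235 (iv F27441))
theorem F29129 : act 2 n15878 = n14397 := d12_3 F25154 F29116 (iv F27448)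
theorem F29130 : act 2 n15886 = n14403 := d14_3 (iv D14403) F29116 D15886
theorem E7236 : n14227 = n14226 := (c21_3 F29116 F21195 D14227 (iv F27459) F29123 F25166 F19946 (iv F25166) (iv D14401))
theorem F29131 : act 2 n14226 = n11136 := (sb E7236 (iv D14227))
theorem E7237 : n14401 = n14091 := ((c6_4 F29131 (iv D11136) (iv F19557) D14091 (iv F29123) F27458)).symm
theorem F29132 : act 0 n14091 = n11236 := (sb E7237 (iv D14401))
theorem F29133 : act 2 n14091 = n15883 := (sb E7237 (iv F29123))
theorem F29134 : act 3 n14091 = n11240 := (sb E7237 F25166)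
theorem F29135 : act 5 n14091 = n11248 := (sb E7237 F25167)
theorem F29136 : act 6 n14091 = n14430 := (sb E7237 (iv F25198))
theorem F29137 : act 5 n14426 = n15883 := d13_2 F29135 D14426 (iv F29133)
theorem E7238 : n14409 = n14092 := (c7_2 F29134 D14409 (iv D14092) D14091)
theorem F29138 : act 1 n14092 = n11240 := (sb E7238 (iv D14409))
theorem E7239 : n14381 = n11009 := (c0_6 F29138 (iv D11240) (iv D8851) (iv F13223) D11228 D14381 (iv D11009) (iv F12309) (iv F19558) (iv F24605))
theorem E7240 : n14006 = n11228 := ((D14006).symm.trans (sb E7239 (iv D14381)))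
theorem F29139 : act 0 n11228 = n11009 := (sb E7240 (iv D14006))
theorem E7241 : n14379 = n14086 := (((iv F25133)).symm.trans (sb E7240 (iv F24595)))
theorem F29140 : act 1 n14086 = n11226 := (sb E7241 (iv D14379))
theorem F29141 : act 3 n14086 = n11228 := (sb E7241 F25133)
theorem F29142 : act 3 n14382 = n13899 := d21_3 F24594 F29141 D14382 F24386 D13907 (iv F24394) (iv F19554) D14086
theorem F29143 : act 0 n13907 = n14382 := d21_8 (iv D14382) (iv F29141) F24594 F29141 D14382 F29142 F24386 D13907
theorem F29144 : act 1 n13900 = n14382 := d7_3 F29142 (iv D13899) D13900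
theorem F29145 : act 2 n14334 = n13900 := d6_0 F29144 (iv D14382) (iv D11228) (iv F19857) D14334
theorem F29146 : act 5 n13900 = n16543 := d13_2 (iv F25029) F29145 (iv D16543)
theorem F29147 : act 0 n15327 = n16543 := d23_19 (iv F29146) (iv F29145) (iv D14334) F19856 (iv D8769) F6405 (iv D2044) F1766 D1033 F1802 D1035 F17010 (iv F17009) D2237 D4650 D9610 D11725 F20746 D15327
theorem F29148 : act 2 n16542 = n15327 := d1_0 F29147 (iv D16543) D16542
theorem F29149 : act 3 n16543 = n13901 := d16_1 F29146 (iv D13901) D13900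
theorem F29150 : act 1 n13901 = n16549 := d7_1 F29149 (iv D16549) (iv F28721)
theorem E7242 : n16542 = n12536 := ((c21_8 D16543 F29149 F24387 (iv F27834) F21542 F17817 (iv F18046) D12536 (iv D16542))).symm
theorem F29151 : act 0 n12536 = n12348 := (sb E7242 (iv D16542))
theorem F29152 : act 2 n12536 = n15327 := (sb E7242 F29148)
theorem E7243 : n16540 = n12522 := ((c21_1 (iv F22006) F28718 D16543 F29149 F24387 (iv F27834) F21542 F17817 (iv F18037))).symm
theorem F29153 : act 1 n12522 = n12346 := (sb E7243 (iv D16540))
theorem F29154 : act 3 n12522 = n12348 := (sb E7243 F28718)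
theorem E7244 : n15928 = n15263 := (c15_3 D12522 F29154 (iv F27533) (iv D15263) (iv D11680) (iv F18036))
theorem F29155 : act 1 n15263 = n12034 := (sb E7244 (iv D15928))
theorem F29156 : act 4 n15263 = n12348 := (sb E7244 F27533)
theorem E7245 : n14088 = n14087 := (c23_6 D14377 F25130 (iv F29140) (iv D14086) D14088 F24598 F24596 F19555 (iv F19177) F19176 F11556 (iv F17195) F17196 (iv F14449) F28875 F19077 (iv D7739) D7737 (iv F13225) (iv F19923))
theorem F29157 : act 3 n14087 = n14008 := (sb E7245 F24599)
theorem F29158 : act 5 n14087 = n11048 := (sb E7245 (iv D14088))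
theorem F29159 : act 1 n14008 = n14090 := d7_1 F29157 (iv D14090) (iv F24596)
theorem F29160 : act 2 n14600 = n14008 := d6_0 F29159 F28967 (iv D11336) D11337 D14600
theorem F29161 : act 5 n13907 = n14600 := d13_0 F29160 (iv D14008) F24394
theorem F29162 : act 3 n14600 = n13908 := d16_1 F29161 (iv D13908) D13907
theorem F29163 : act 1 n13908 = n14601 := d7_1 F29162 (iv D14601) D14600
theorem F29164 : act 0 n14007 = n14345 := d3_3 F25053 F29139 D14007
theorem F29165 : act 0 n14008 = n14373 := d4_3 F25124 F29139 D14008
theorem F29166 : act 0 n14009 = n14383 := d5_3 (iv D14383) F29139 D14009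
theorem F29167 : act 1 n15152 = n14719 := d0_6 (iv F29159) F29165 (iv D14373) F19919 D11608 D15152 F25669 F28978 (iv F24602)
theorem F29168 : act 1 n13550 = n15177 := d6_3 (iv F26416) F29167 (iv F28902) (iv D15177) (iv F21848)
theorem F29169 : act 3 n15177 = n13549 := d7_2 D13550 F29168 (iv D13549)
theorem F29170 : act 0 n13549 = n15179 := d2_1 F29169 (iv D15179) (iv F26448)
theorem F29171 : act 0 n13392 = n14847 := d21_8 (iv F28926) (iv F29169) (iv D15177) F20614 F20099 F19993 D11361 (iv F28814)
theorem F29172 : act 5 n14841 = n13392 := d4_0 F29171 (iv D14847) (iv F25797)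
theorem F29173 : act 1 n14391 = n15856 := d6_3 F29129 (iv D14397) (iv F25142) F27409 D15878
theorem F29174 : act 5 n14420 = n15878 := d13_0 F29129 F25155 D14420
theorem F29175 : act 3 n14420 = n15878 := d21_1 D14420 F29129 F25153 (iv F20595) F20596 D12392 (iv F25180) (iv D14419)
theorem F29176 : act 1 n14389 = n15864 := d7_3 (iv D15864) F29124 (iv F25140)
theorem F29177 : act 3 n15882 = n15611 := d2_2 (iv F27079) F29092 F27107
theorem F29178 : act 5 n15464 = n15465 := d9_2 F29080 F26852 F26855 F29053 (iv F29045)
theorem F29179 : act 0 n15465 = n15466 := d4_1 F29178 (iv D15466) D15464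
theorem F29180 : act 2 n15465 = n15466 := d13_1 F29178 (iv D15466) (iv F26851)
theorem F29181 : act 4 n15466 = n15464 := d18_3 F29178 (iv D15465) D15466
theorem F29182 : act 1 n15466 = n13493 := d23_2 F29178 F29180 (iv D13493) F19089 D10763 (iv F19955) (iv F25190) F29137 (iv F29133) (iv D14091) (iv D11050) D11053 F19561 F12711 (iv F17536) (iv D9858) (iv F14467) D11797 D15464
theorem F29183 : act 3 n15641 = n15627 := d7_2 F29074 D15641 (iv D15627)
theorem F29184 : act 4 n15601 = n15607 := d15_4 (iv F27142) F29183 F27127 (iv F27089) F27103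
theorem F29185 : act 5 n15635 = n15471 := d16_2 F29053 D15635 (iv D15471)
theorem F29186 : act 0 n15483 = n15635 := d4_3 F29185 F26867 D15483
theorem F29187 : act 4 n14103 = n14675 := d12_0 F29036 F24883 (iv F24621)
theorem F29188 : act 1 n13861 = n14732 := d25_31 D1160 (iv F3700) (iv F7411) D9855 F17534 (iv F19757) (iv D11140) (iv F19560) F28982 F28901 F19123 (iv D7761) (iv D3716) F2906 D1797 F2917 D2122 D4422 D9150 (iv F17189) (iv F18139) (iv D10279) (iv D5594) (iv F8472) D10274 F18133 (iv F22297) F28521 F28518 F23503 D13861 (iv F28817) F28816 (iv D11371) (iv D9086) (iv D4391) F3349 F1802 F999 (iv F874) D890 (iv F2906) D3716 D7761 D10792 D13596 (iv F23891) F28974 F19170 F14728 F14839 (iv D4006) (iv D1918) (iv D942) (iv F1633) F14816 (iv D883) F871 F471 (iv F533) F532 D517 F988 D529 D1049 F14684 F1050 (iv D296) (iv D143) F139 D67 F142 D149 D304 D596 F1107 F14710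
theorem F29189 : act 1 n14776 = n14099 := d24_14 (iv D14099) (iv F28980) (iv D12419) D12420 F21876 (iv F20139) (iv D11351) (iv F20137) (iv D11348) (iv F13626) (iv D9105) D9103 D11413 D14776
theorem F29190 : act 3 n14104 = n14776 := d7_0 F29189 F24615 D14104
theorem E7246 : n14768 = n14108 := ((c10_6 (iv F25723) F29189 (iv D14099) F19558 D11056 D14108)).symm
theorem F29191 : act 0 n14108 = n11412 := (sb E7246 F25715)
theorem F29192 : act 5 n14108 = n11410 := (sb E7246 (iv D14768))
theorem F29193 : act 6 n14108 = n14776 := (sb E7246 (iv F25723))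
theorem E7247 : n14695 = n14115 := (c16_2 F29192 (iv F25642) (iv D14115) (iv F24632))
theorem F29194 : act 0 n14115 = n11378 := (sb E7247 (iv D14695))
theorem F29195 : act 3 n14115 = n11410 := (sb E7247 F25642)
theorem E7248 : n14697 = n14113 := (c4_3 D14115 F29194 D14697 (iv D14113))
theorem F29196 : act 3 n14113 = n11412 := (sb E7248 F25643)
theorem F29197 : act 5 n14113 = n11378 := (sb E7248 (iv D14697))
theorem F29198 : act 5 n14104 = n14698 := d22_2 (iv D14115) (iv F24623) (iv D14698) (iv F29194)
theorem F29199 : act 0 n14756 = n14012 := d0_7 D14108 F29191 D14774 (iv F26628) F26629 (iv F26636) (iv F26638) (iv D14012) (iv F19565)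
theorem F29200 : act 5 n14012 = n14754 := d4_2 D14756 F29199 (iv D14754)
theorem E7249 : n15373 = n14754 := ((c23_5 (iv F21908) D15294 (iv F26638) F29199 F29200 (iv D15373) (iv D11749) (iv D9625) D9626 (iv F17427) (iv D9598) (iv F14323) (iv D9593) (iv D4641) D4640 D9587 D11692 F23432 D11698 (iv F21907))).symm
theorem E7250 : n15431 = n14803 := ((((iv F25747)).symm.trans (sb E7249 (iv F26798)))).symm
theorem F29201 : act 2 n14754 = n11749 := (sb E7249 (iv D15373))
theorem F29202 : act 2 n14803 = n11778 := (sb E7250 (iv D15431))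
theorem E7251 : n15430 = n14804 := (c1_2 F29202 D15430 (iv D14804) D14803)
theorem F29203 : act 0 n14804 = n11778 := (sb E7251 (iv D15430))
theorem E7252 : n15372 = n14755 := (c1_2 F29201 D15372 (iv D14755) D14754)
theorem F29204 : act 0 n14755 = n11749 := (sb E7252 (iv D15372))
theorem F29205 : act 2 n15374 = n14012 := d13_3 F29200 F29201 D15374
theorem F29206 : act 1 n14016 = n15374 := d6_5 F29205 (iv D14012) F19511 D11013 D14016
theorem F29207 : act 5 n15376 = n14016 := d9_0 F29206 (iv D15374) (iv D11749) D11750 D15376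
theorem F29208 : act 2 n14017 = n15376 := d13_3 F29207 (iv D14016) D14017
theorem E7253 : n15376 = n14015 := (c23_19 D14017 F29208 (iv D15376) F20771 (iv D9626) F17008 (iv D4671) (iv F7096) (iv D4666) (iv D2243) F16508 (iv D1095) D1097 (iv F3556) D4671 D9654 (iv F20738) (iv F20772) D15376 (iv D14015))
theorem F29209 : act 1 n14015 = n11750 := (sb E7253 (iv D15376))
theorem F29210 : act 2 n14015 = n14017 := (sb E7253 (iv F29208))
theorem F29211 : act 5 n14015 = n14016 := (sb E7253 F29207)
theorem F29212 : act 0 n14017 = n14016 := d1_1 F29210 (iv D14016) D14015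
theorem F29213 : act 3 n14016 = n14021 := d2_2 (iv F24515) F29212 F24518
theorem F29214 : act 0 n12589 = n13588 := d0_5 F29209 F20771 F17430 (iv F18064) D12589 F23838 F19156 D11013 D14015
theorem E7254 : n15368 = n14019 := (c7_3 (iv F24514) F29209 (iv F26728) (iv D14019))
theorem F29215 : act 0 n14019 = n11748 := (sb E7254 F26727)
theorem F29216 : act 3 n14019 = n11750 := (sb E7254 F26728)
theorem F29217 : act 5 n14019 = n11746 := (sb E7254 (iv D15368))
theorem F29218 : act 6 n14019 = n15271 := (sb E7254 F26729)
theorem F29219 : act 1 n12588 = n13586 := d0_4 D14019 F29215 F20769 (iv F22111) F23835 F19138 F17154 D8232 D11015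
theorem F29220 : act 3 n13586 = n12589 := d7_2 (iv F22112) F29219 (iv D12589)
theorem F29221 : act 2 n14568 = n14844 := d1_2 (iv F23901) F28963 F25800
theorem F29222 : act 4 n14844 = n14583 := d12_2 (iv F25454) F29221 F25481
theorem F29223 : act 2 n14852 = n14654 := d13_3 F25584 F29221 (iv F25811)
theorem F29224 : act 4 n14678 = n14852 := d12_0 F29223 F25583 (iv F25621)
theorem F29225 : act 3 n13630 = n14599 := d17_3 (iv D14599) F28959 D13630
theorem F29226 : act 1 n13841 = n15483 := d7_3 F26886 F28954 (iv F28819)
theorem F29227 : act 2 n15483 = n13838 := d6_2 D13841 F29226 (iv D13838) F19435 D10932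
theorem F29228 : act 5 n13838 = n15482 := d13_2 D15483 F29227 (iv D15482)
theorem F29229 : act 3 n13838 = n15482 := d21_1 F29227 (iv D15482) (iv D11805) F14470 D9860 D11886 D15635 (iv F29186)
theorem F29230 : act 1 n15482 = n13333 := d7_1 F29229 F23478 D13838
theorem F29231 : act 3 n13852 = n14684 := d17_3 F28948 F28889 D13852
theorem F29232 : act 5 n14682 = n13852 := d16_0 F29231 (iv D14684) (iv F25624)
theorem F29233 : act 2 n14604 = n13344 := d21_0 F23500 (iv F24343) F29231 F25626 F20170 (iv F20196) (iv F25693) F25692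
theorem F29234 : act 2 n13853 = n14682 := d13_3 F29232 F24343 D13853
theorem F29235 : act 3 n14742 = n13842 := d21_7 F29234 F25624 F20166 F13609 (iv F13618) (iv F20194) (iv F25690) (iv F24344)
theorem F29236 : act 2 n13342 = n14601 := d11_13 (iv F20113) F28945 F28889 (iv D10937) (iv F18935) (iv F28824) (iv D11338) (iv D9065) (iv F13570) D11329 (iv F28943) (iv D13849) (iv F23499) (iv D14601) (iv D11337)
theorem F29237 : act 5 n14732 = n13342 := d13_0 F29236 F25507 D14732
theorem F29238 : act 5 n13432 = n15468 := d18_2 F28930 (iv F23622) (iv D15468)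
theorem F29239 : act 0 n15477 = n13432 := d4_3 F29238 F26858 D15477
theorem F29240 : act 2 n15477 = n13432 := d13_3 F29238 F26860 D15477
theorem F29241 : act 1 n14496 = n16457 := d8_3 F28541 F28918 (iv F25314)
theorem F29242 : act 0 n16457 = n14365 := d0_1 F29241 (iv D14365) (iv D11218) (iv D8805) F6454 D4312 D8934 D11282 D14496
theorem F29243 : act 2 n14365 = n16456 := d1_2 D16457 F29242 (iv D16456)
theorem E7255 : n14438 = n12718 := ((c12_3 (iv F25100) F29243 F28540 (iv D14438))).symm
theorem F29244 : act 2 n12718 = n11254 := (sb E7255 (iv D14438))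
theorem F29245 : act 3 n13665 = n14846 := d15_3 D11446 F28889 (iv F23985) (iv D14846) (iv D11445)
theorem F29246 : act 1 n14854 = n13665 := d7_3 F29245 F25802 D14854
theorem F29247 : act 3 n13516 = n12892 := d7_2 D12893 F28885 (iv D12892)
theorem F29248 : act 6 n12892 = n13500 := d17_2 D13516 F29247 F23746
theorem F29249 : act 4 n13500 = n15456 := d19_1 F29248 F26838 (iv F22592)
theorem F29250 : act 4 n15440 = n13488 := d12_2 F28878 (iv F26806) F23726
theorem F29251 : act 5 n13484 = n15440 := d18_0 F29250 (iv D13488) (iv F23722)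
theorem F29252 : act 1 n15443 = n13294 := d7_3 (iv F23695) F28876 D15443
theorem F29253 : act 4 n15348 = n13412 := d15_2 (iv F23728) F28873 F23589 F19018 (iv F19088)
theorem F29254 : act 5 n15348 = n13382 := d16_2 (iv F23729) F28873 F23551
theorem F29255 : act 4 n15351 = n13413 := d3_2 F28869 (iv F26706) (iv F23595)
theorem F29256 : act 4 n15262 = n15941 := d12_2 F28869 (iv F26571) F27560
theorem F29257 : act 3 n16571 = n15262 := d15_5 F29256 F27561 F21269 (iv F21813) (iv F28772)
theorem F29258 : act 5 n15937 = n15262 := d18_0 F29256 (iv D15941) (iv F27550)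
theorem F29259 : act 4 n13409 = n15355 := d18_3 F26710 F29255 F23592
theorem F29260 : act 2 n15355 = n13289 := d12_1 F29259 (iv F27532) F27530
theorem F29261 : act 5 n12800 = n13461 := d22_2 (iv D12799) D12800 (iv D13461) (iv F28833)
def n16580 : Q := act 6 n12368
theorem D16580 : act 6 n12368 = n16580 := rfl
theorem F29262 : act 0 n16580 = n16580 := d5_1 D16580 (iv D16580) F21828
theorem F29263 : act 2 n16580 = n12369 := d14_1 D16580 (iv D12369) D12368
theorem F29264 : act 5 n16580 = n16580 := d22_2 F21817 D16580 (iv D16580) F21828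
def n16581 : Q := act 1 n12369
theorem D16581 : act 1 n12369 = n16581 := rfl
theorem F29265 : act 6 n16581 = n12370 := d10_2 D12369 D16581 (iv D12370) (iv D10107) D10106
theorem F29266 : act 5 n12536 = n16581 := d22_0 F29265 F28724 (iv D16544) (iv F29151)
theorem F29267 : act 0 n16581 = n14334 := d22_4 F25029 D16544 (iv F28724) (iv F29265)
theorem F29268 : act 3 n12431 = n16581 := d21_7 F29145 (iv D13900) (iv D10959) (iv F18949) (iv F27827) F21381 (iv F21893) F29267
theorem F29269 : act 1 n16573 = n12431 := d7_3 F29268 (iv D16581) (iv F28777)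
theorem F29270 : act 6 n16574 = n12431 := d17_0 F29268 F29265 (iv F28779)
theorem F29271 : act 2 n12433 = n16574 := d14_3 F29270 F21893 D12433
theorem F29272 : act 4 n12432 = n16574 := d19_3 F29270 (iv D12431) D12432
theorem F29273 : act 1 n16569 = n12432 := d8_3 F29272 (iv D16574) (iv F28767)
theorem F29274 : act 6 n12429 = n16568 := d10_4 D16569 F29273 (iv D12432) D12429 (iv D16568)
theorem F29275 : act 4 n16573 = n12429 := d19_3 F29274 F28764 D16573
def n16582 : Q := act 0 n12370
theorem D16582 : act 0 n12370 = n16582 := rfl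
theorem F29276 : act 6 n16582 = n14334 := d5_2 F29265 D16582 (iv F29267)
def n16583 : Q := act 2 n12370
theorem D16583 : act 2 n12370 = n16583 := rfl
theorem F29277 : act 1 n16583 = n12381 := d6_1 D16583 (iv D12381) (iv D10113) (iv F17964) D12370
def n16584 : Q := act 1 n12371
theorem D16584 : act 1 n12371 = n16584 := rfl
def n16585 : Q := act 2 n12371
theorem D16585 : act 2 n12371 = n16585 := rfl
theorem F29278 : act 0 n16585 = n12372 := d1_1 D16585 (iv D12372) D12371
def n16586 : Q := act 5 n12371
theorem D16586 : act 5 n12371 = n16586 := rfl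
theorem F29280 : act 0 n16586 = n12373 := d4_1 D16586 (iv D12373) D12371
theorem F29281 : act 6 n16586 = n12373 := d22_1 D16586 (iv D12373) F17966 D12371
def n16587 : Q := act 3 n12372
theorem D16587 : act 3 n12372 = n16587 := rfl
theorem F29282 : act 1 n16587 = n12385 := d7_1 D16587 (iv D12385) (iv F21819)
theorem F29283 : act 6 n16587 = n16587 := d17_2 F21820 D16587 (iv D16587)
def n16588 : Q := act 5 n12372
theorem D16588 : act 5 n12372 = n16588 := rfl
theorem F29284 : act 2 n16588 = n12373 := d13_1 D16588 (iv D12373) D12372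
def n16589 : Q := act 1 n12373
theorem D16589 : act 1 n12373 = n16589 := rfl
theorem F29285 : act 5 n16589 = n12374 := d9_2 D12373 D16589 (iv D12374) (iv D10109) D10108
theorem E7256 : n16584 = n5498 := (c24_6 (iv F28725) (iv F29285) (iv D16589) (iv F29281) (iv D16586) D16584 (iv D5498) D5497 D10106 D12369 F21833 D16581 F29265 F28724 (iv F28723))
theorem E7257 : n12371 = n10108 := (((D10108).symm.trans (sb E7256 (iv D16584)))).symm
theorem F29286 : act 0 n10108 = n10108 := (sb E7257 (iv D12371))
theorem E7258 : n16585 = n12372 := (((D12372).symm.trans (sb E7257 D16585))).symm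
theorem E7259 : n16575 = n12365 := ((((iv F21810)).symm.trans (sb E7257 (iv F28780)))).symm
theorem E7260 : n15945 = n12043 := ((((iv F21265)).symm.trans (sb E7257 (iv F27571)))).symm
theorem E7261 : n16586 = n12373 := (((D12373).symm.trans (sb E7257 D16586))).symm
theorem F29287 : act 0 n12372 = n12372 := (sb E7258 F29278)
theorem F29288 : act 0 n12365 = n12365 := (sb E7259 (iv D16575))
theorem F29289 : act 0 n12043 = n12043 := (sb E7260 (iv D15945))
theorem F29290 : act 0 n12373 = n12373 := (sb E7261 F29280)
theorem F29291 : act 6 n12373 = n12373 := (sb E7261 F29281)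
theorem F29292 : act 6 n16588 = n16588 := d14_2 F29291 (iv F29284) F29284
theorem F29293 : act 6 n16577 = n16577 := d17_2 F29291 (iv F28783) F28783
theorem F29294 : act 6 n15947 = n15947 := d19_2 F29291 (iv F27576) F27576
theorem F29295 : act 0 n15947 = n15947 := d22_4 (iv D15947) F21266 D15947 F29294
theorem F29296 : act 0 n16577 = n16577 := d22_4 (iv D16577) F21811 D16577 F29293
theorem F29297 : act 0 n16588 = n16588 := d22_4 (iv D16588) F21820 D16588 F29292
theorem F29298 : act 0 n15946 = n15946 := d1_3 (iv D15946) F29289 D15946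
theorem F29299 : act 0 n15940 = n15940 := d2_3 F27557 F29289 (iv F27557)
theorem F29301 : act 0 n16570 = n16570 := d3_3 F28769 F29288 (iv F28769)
theorem F29302 : act 0 n16587 = n16587 := d2_3 (iv D16587) F29287 D16587
theorem F29304 : act 0 n14335 = n16589 := d22_4 F29285 F28725 (iv D16547) (iv F25030)
theorem F29305 : act 6 n16589 = n16545 := d22_3 D16547 (iv F28725) (iv F29285) (iv D16545)
def n16590 : Q := act 0 n12374
theorem D16590 : act 0 n12374 = n16590 := rfl
theorem F29306 : act 5 n16590 = n14335 := d4_2 F29285 D16590 F29304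
def n16591 : Q := act 2 n12374
theorem D16591 : act 2 n12374 = n16591 := rfl
theorem F29307 : act 1 n16591 = n12389 := d6_1 D16591 (iv D12389) (iv D10117) (iv F17968) D12374
def n16592 : Q := act 2 n12375
theorem D16592 : act 2 n12375 = n16592 := rfl
theorem F29308 : act 0 n16592 = n15180 := d1_1 D16592 F26451 F21822
theorem F29309 : act 1 n16592 = n12723 := d6_1 D16592 F22313 (iv F21827) (iv D12376) D12375
theorem F29310 : act 5 n16592 = n15177 := d13_2 F21823 D16592 (iv D15177)
theorem F29311 : act 3 n16592 = n14845 := d21_1 D16592 (iv D14845) (iv D11445) (iv F19172) (iv F28960) (iv F20104) (iv F20616) F21822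
def n16593 : Q := act 3 n12376
theorem D16593 : act 3 n12376 = n16593 := rfl
theorem F29312 : act 0 n16593 = n12377 := d2_1 D16593 (iv D12377) (iv F21825)
theorem F29313 : act 1 n16593 = n12713 := d7_1 D16593 F28523 (iv F21827)
theorem F29314 : act 2 n16593 = n12396 := d11_1 D16593 (iv D12396) (iv D10119) (iv F14278) (iv F16331) F14269 D10111 D12377 F21835 (iv D10121) (iv D5504) (iv F7045) D9552 (iv F17970) D12376
theorem F29315 : act 5 n16593 = n12396 := d16_2 (iv F21826) D16593 (iv D12396)
def n16594 : Q := act 4 n12377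
theorem D16594 : act 4 n12377 = n16594 := rfl
theorem F29316 : act 2 n16594 = n12399 := d12_1 D16594 (iv D12399) (iv F21835)
theorem F29317 : act 5 n16594 = n12399 := d18_2 (iv F21834) D16594 (iv D12399)
def n16595 : Q := act 6 n12377
theorem D16595 : act 6 n12377 = n16595 := rfl
theorem F29318 : act 2 n16595 = n12400 := d14_1 D16595 (iv D12400) (iv F21835)
theorem F29319 : act 3 n16595 = n12378 := d17_1 D16595 (iv D12378) D12377
def n16596 : Q := act 1 n12378
theorem D16596 : act 1 n12378 = n16596 := rfl
def n16597 : Q := act 2 n12379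
theorem D16597 : act 2 n12379 = n16597 := rfl
theorem F29320 : act 6 n16597 = n12381 := d14_2 (iv F21837) D16597 (iv D12381)
def n16598 : Q := act 2 n12380
theorem D16598 : act 2 n12380 = n16598 := rfl
theorem F29321 : act 0 n16598 = n12381 := d1_1 D16598 (iv D12381) D12380
theorem F29322 : act 5 n16598 = n12699 := d13_2 F22254 D16598 (iv D12699)
def n16599 : Q := act 3 n12381
theorem D16599 : act 3 n12381 = n16599 := rfl
def n16600 : Q := act 5 n12381
theorem D16600 : act 5 n12381 = n16600 := rfl
theorem F29323 : act 0 n16600 = n12699 := d4_1 D16600 (iv F29322) F29321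
theorem F29324 : act 2 n16600 = n12382 := d13_1 D16600 (iv D12382) D12381
def n16601 : Q := act 6 n12382
theorem D16601 : act 6 n12382 = n16601 := rfl
theorem F29325 : act 0 n16601 = n12691 := d5_1 D16601 F22275 (iv F22255)
theorem F29326 : act 1 n16601 = n12507 := d10_1 D16601 F21988 D12529 (iv F22143) (iv F21838)
theorem F29327 : act 5 n16601 = n15230 := d20_1 D16601 F26517 (iv F22254) (iv F22275) F22274 F21837 D12382
def n16602 : Q := act 2 n12383
theorem D16602 : act 2 n12383 = n16602 := rfl
theorem F29328 : act 0 n16602 = n15214 := d1_1 D16602 F26495 F22076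
theorem F29329 : act 6 n16602 = n15210 := d14_2 (iv F22075) D16602 (iv D15210)
def n16603 : Q := act 1 n12384
theorem D16603 : act 1 n12384 = n16603 := rfl
def n16604 : Q := act 3 n12384
theorem D16604 : act 3 n12384 = n16604 := rfl
theorem F29330 : act 0 n16604 = n12385 := d2_1 D16604 (iv D12385) (iv F21839)
theorem F29331 : act 6 n16604 = n12409 := d17_2 (iv F21840) D16604 (iv D12409)
def n16605 : Q := act 2 n12385
theorem D16605 : act 2 n12385 = n16605 := rfl
def n16606 : Q := act 4 n12385
theorem D16606 : act 4 n12385 = n16606 := rfl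
theorem F29333 : act 6 n16606 = n12413 := d19_2 (iv F21841) D16606 (iv D12413)
def n16607 : Q := act 5 n12385
theorem D16607 : act 5 n12385 = n16607 := rfl
theorem F29334 : act 3 n16607 = n12386 := d16_1 D16607 (iv D12386) D12385
def n16608 : Q := act 1 n12386
theorem D16608 : act 1 n12386 = n16608 := rfl
def n16609 : Q := act 2 n12387
theorem D16609 : act 2 n12387 = n16609 := rfl
theorem F29335 : act 5 n16609 = n12389 := d13_2 (iv F21843) D16609 (iv D12389)
def n16610 : Q := act 2 n12388
theorem D16610 : act 2 n12388 = n16610 := rfl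
theorem F29336 : act 0 n16610 = n12389 := d1_1 D16610 (iv D12389) D12388
theorem F29337 : act 6 n16610 = n12590 := d14_2 F22097 D16610 (iv D12590)
def n16611 : Q := act 3 n12389
theorem D16611 : act 3 n12389 = n16611 := rfl
def n16612 : Q := act 6 n12389
theorem D16612 : act 6 n12389 = n16612 := rfl
theorem F29338 : act 0 n16612 = n12590 := d5_1 D16612 (iv F29337) F29336
theorem F29339 : act 2 n16612 = n12390 := d14_1 D16612 (iv D12390) D12389
def n16613 : Q := act 5 n12390
theorem D16613 : act 5 n12390 = n16613 := rfl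
theorem F29340 : act 0 n16613 = n12580 := d4_1 D16613 F22094 (iv F22096)
theorem F29341 : act 1 n16613 = n12619 := d9_1 D16613 F22157 D12641 (iv F22192) (iv F21844)
theorem F29342 : act 6 n16613 = n15197 := d20_2 D12390 D16613 F26477 (iv F22097) (iv F22094) (iv F22095) F21843
def n16614 : Q := act 1 n12392
theorem D16614 : act 1 n12392 = n16614 := rfl
theorem F29343 : act 2 n16614 = n12395 := d6_2 D12392 D16614 (iv D12395) (iv D10119) D10118
theorem F29344 : act 5 n16614 = n12719 := d9_2 F26417 D16614 F28918 D14719 (iv F29167)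
theorem F29345 : act 0 n16614 = n14439 := d23_3 (iv D12393) D12392 D16614 (iv D14439) (iv F29244) F22310 (iv D12718) (iv F21850) (iv F29343) (iv D16614) F25086 F25085 (iv F20595) (iv D11618) (iv D9551) (iv F14270) F16331 D11618 (iv F21847)
def n16615 : Q := act 6 n12392
theorem D16615 : act 6 n12392 = n16615 := rfl
theorem F29346 : act 2 n16615 = n12394 := d14_1 D16615 (iv D12394) D12392
theorem F29347 : act 5 n16615 = n15153 := d22_2 F26417 D16615 (iv D15153) D15152
def n16616 : Q := act 0 n12395
theorem D16616 : act 0 n12395 = n16616 := rfl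
theorem F29348 : act 2 n16616 = n14439 := d1_2 F29343 D16616 (iv F29345)
theorem F29349 : act 5 n16616 = n12718 := d4_2 (iv F21850) D16616 (iv D12718)
def n16617 : Q := act 3 n12395
theorem D16617 : act 3 n12395 = n16617 := rfl
theorem F29350 : act 1 n16617 = n12396 := d7_1 D16617 (iv D12396) D12395
theorem F29351 : act 5 n16617 = n12712 := d16_2 (iv F21850) D16617 F22300
theorem F29352 : act 2 n12712 = n16617 := d6_0 F29350 (iv F29314) F29313 (iv D12713) D12712
def n16618 : Q := act 6 n12395
theorem D16618 : act 6 n12395 = n16618 := rfl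
def n16619 : Q := act 4 n12396
theorem D16619 : act 4 n12396 = n16619 := rfl
theorem F29353 : act 0 n16619 = n12399 := d3_1 D16619 (iv D12399) (iv F21851)
def n16620 : Q := act 6 n12396
theorem D16620 : act 6 n12396 = n16620 := rfl
theorem F29354 : act 0 n16620 = n12400 := d5_1 D16620 (iv D12400) (iv F21851)
theorem F29355 : act 3 n16620 = n12397 := d17_1 D16620 (iv D12397) D12396
theorem F29356 : act 5 n16620 = n16595 := d22_2 F29315 D16620 (iv D16595) (iv F29312)
def n16621 : Q := act 1 n12397
theorem D16621 : act 1 n12397 = n16621 := rfl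
theorem F29357 : act 5 n12519 = n16621 := d24_1 (iv F22001) (iv D16621) (iv D12397) (iv F21826) F21827 F18138 (iv D10197) (iv D5536) (iv D2668) (iv F4168) F4167 D5512 (iv F8404) D10185
theorem E7262 : n16596 = n12520 := (c9_4 F29357 (iv D16621) F21854 D16596 (iv D12520) D12519)
theorem F29358 : act 1 n12520 = n12378 := (sb E7262 (iv D16596))
theorem F29359 : act 1 n15960 = n16268 := d8_3 F28148 F29358 (iv F27598)
theorem F29360 : act 1 n16580 = n12512 := d10_5 (iv F22003) F29358 (iv D12378) (iv F21816) D16580
def n16622 : Q := act 2 n12398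
theorem D16622 : act 2 n12398 = n16622 := rfl
theorem F29361 : act 5 n16622 = n12689 := d13_2 F22106 D16622 F22268
def n16623 : Q := act 6 n12399
theorem D16623 : act 6 n12399 = n16623 := rfl
theorem F29362 : act 4 n16623 = n12400 := d19_1 D16623 (iv D12400) D12399
def n16624 : Q := act 1 n12400
theorem D16624 : act 1 n12400 = n16624 := rfl
theorem F29363 : act 3 n16624 = n12401 := d7_2 (iv F21856) D16624 (iv D12401)
theorem F29364 : act 6 n16624 = n16624 := d10_2 D12400 D16624 (iv D16624) (iv D12400) F17978
def n16625 : Q := act 5 n12400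
theorem D16625 : act 5 n12400 = n16625 := rfl
theorem F29365 : act 0 n16625 = n16595 := d4_1 D16625 (iv F29356) F29354
theorem F29366 : act 2 n16625 = n16620 := d13_1 D16625 F29356 F29318
theorem F29367 : act 3 n16625 = n12402 := d16_1 D16625 (iv D12402) (iv F21856)
theorem F29368 : act 6 n16625 = n16593 := d20_2 D12400 D16625 F29315 D16620 F29356 (iv D16595) F21834
def n16626 : Q := act 0 n12401
theorem D16626 : act 0 n12401 = n16626 := rfl
def n16627 : Q := act 5 n12401
theorem D16627 : act 5 n12401 = n16627 := rfl
theorem F29370 : act 6 n12437 = n16627 := d24_0 (iv D16627) (iv D12401) (iv D10122) (iv F17972) (iv F21816) D16580 F29264 F29360 (iv F22003) (iv D12520) D12519 F22001 D12528 F22016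
theorem E7263 : n16626 = n10139 := (c22_5 D12437 F29370 (iv D16627) F21857 D16626)
theorem E7264 : n12435 = n12401 := ((D12435).symm.trans (sb E7263 (iv D16626)))
theorem F29371 : act 0 n12401 = n10139 := (sb E7264 (iv D12435))
theorem E7265 : n16097 = n16012 := ((((iv F27682)).symm.trans (sb E7264 (iv F27843)))).symm
theorem F29372 : act 0 n16012 = n12118 := (sb E7265 (iv D16097))
theorem F29373 : act 0 n16627 = n12437 := d22_4 (iv D12437) F17996 D12437 F29370
theorem F29374 : act 0 n16098 = n16153 := d1_3 F27951 F29372 D16098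
theorem F29375 : act 0 n12491 = n12436 := d3_3 (iv F27846) F29374 F27952
theorem F29376 : act 0 n12434 = n16624 := d2_3 F29363 F29371 (iv F21897)
def n16628 : Q := act 1 n12402
theorem D16628 : act 1 n12402 = n16628 := rfl
theorem F29377 : act 6 n16628 = n12550 := d10_2 (iv F21860) D16628 (iv D12550) (iv F18138) (iv F21827)
def n16629 : Q := act 2 n12404
theorem D16629 : act 2 n12404 = n16629 := rfl
theorem F29378 : act 0 n16629 = n12405 := d1_1 D16629 (iv D12405) D12404
theorem F29379 : act 6 n16629 = n15167 := d14_2 F22070 D16629 (iv D15167)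
def n16630 : Q := act 1 n12405
theorem D16630 : act 1 n12405 = n16630 := rfl
theorem F29380 : act 2 n16630 = n12408 := d6_2 D12405 D16630 (iv D12408) (iv D10125) D10124
def n16631 : Q := act 3 n12405
theorem D16631 : act 3 n12405 = n16631 := rfl
def n16632 : Q := act 5 n12405
theorem D16632 : act 5 n12405 = n16632 := rfl
theorem F29381 : act 2 n16632 = n12406 := d13_1 D16632 (iv D12406) D12405
def n16633 : Q := act 6 n12405
theorem D16633 : act 6 n12405 = n16633 := rfl
theorem F29382 : act 0 n16633 = n15167 := d5_1 D16633 (iv F29379) F29378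
theorem F29383 : act 2 n16633 = n12407 := d14_1 D16633 (iv D12407) D12405
def n16634 : Q := act 0 n12408
theorem D16634 : act 0 n12408 = n16634 := rfl
def n16635 : Q := act 3 n12408
theorem D16635 : act 3 n12408 = n16635 := rfl
theorem F29384 : act 1 n16635 = n12409 := d7_1 D16635 (iv D12409) D12408
def n16636 : Q := act 5 n12408
theorem D16636 : act 5 n12408 = n16636 := rfl
def n16637 : Q := act 6 n12408
theorem D16637 : act 6 n12408 = n16637 := rfl
def n16638 : Q := act 2 n12409
theorem D16638 : act 2 n12409 = n16638 := rfl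
theorem F29386 : act 3 n16638 = n15172 := d21_1 D16638 (iv D15172) (iv D11624) (iv D9555) F7046 D5507 D10127 (iv F21862)
def n16639 : Q := act 4 n12409
theorem D16639 : act 4 n12409 = n16639 := rfl
theorem F29387 : act 0 n16639 = n12413 := d3_1 D16639 (iv D12413) (iv F21862)
def n16640 : Q := act 5 n12409
theorem D16640 : act 5 n12409 = n16640 := rfl
theorem F29388 : act 0 n16640 = n12414 := d4_1 D16640 (iv D12414) (iv F21862)
theorem F29389 : act 3 n16640 = n12410 := d16_1 D16640 (iv D12410) D12409
theorem F29390 : act 6 n16640 = n16607 := d22_1 D16640 (iv D16607) F21841 (iv F21862)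
def n16641 : Q := act 1 n12410
theorem D16641 : act 1 n12410 = n16641 := rfl
def n16642 : Q := act 2 n12411
theorem D16642 : act 2 n12411 = n16642 := rfl
theorem F29391 : act 6 n16642 = n12578 := d14_2 F22099 D16642 F22092
def n16644 : Q := act 3 n12412
theorem D16644 : act 3 n12412 = n16644 := rfl
theorem F29394 : act 2 n16644 = n15170 := d11_1 D16644 (iv D15170) (iv D11622) F14280 D10125 D12409 D16638 F29386 (iv D15172) (iv D11624) (iv D9555) F7046 D5507 D10127 D12412
def n16645 : Q := act 4 n12412
theorem D16645 : act 4 n12412 = n16645 := rfl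
theorem F29395 : act 2 n16645 = n12413 := d12_1 D16645 (iv D12413) D12412
def n16646 : Q := act 5 n12412
theorem D16646 : act 5 n12412 = n16646 := rfl
theorem F29396 : act 2 n16646 = n12414 := d13_1 D16646 (iv D12414) D12412
def n16647 : Q := act 5 n12413
theorem D16647 : act 5 n12413 = n16647 := rfl
theorem F29397 : act 4 n16647 = n12414 := d18_1 D16647 (iv D12414) D12413
def n16648 : Q := act 1 n12414
theorem D16648 : act 1 n12414 = n16648 := rfl
theorem F29398 : act 3 n16648 = n12415 := d7_2 (iv F21867) D16648 (iv D12415)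
theorem F29399 : act 5 n16648 = n16648 := d9_2 D12414 D16648 (iv D16648) (iv D12414) F17985
def n16649 : Q := act 6 n12414
theorem D16649 : act 6 n12414 = n16649 := rfl
theorem F29400 : act 0 n16649 = n16607 := d5_1 D16649 (iv F29390) F29388
theorem F29401 : act 3 n16649 = n12416 := d17_1 D16649 (iv D12416) (iv F21867)
theorem F29402 : act 5 n16649 = n16604 := d20_1 D16649 F29331 D16640 F29390 (iv D16607) F21841 D12414
def n16650 : Q := act 0 n12415
theorem D16650 : act 0 n12415 = n16650 := rfl
def n16651 : Q := act 6 n12415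
theorem D16651 : act 6 n12415 = n16651 := rfl
def n16652 : Q := act 1 n12416
theorem D16652 : act 1 n12416 = n16652 := rfl
def n16653 : Q := act 0 n12419
theorem D16653 : act 0 n12419 = n16653 := rfl
theorem F29404 : act 1 n16653 = n14439 := d0_2 D12419 D16653 (iv F29345) (iv D16614) F25086 (iv D14357) F19898 D11270 F20098
theorem F29405 : act 2 n16653 = n12423 := d1_2 (iv F21874) D16653 (iv D12423)
theorem F29406 : act 3 n16653 = n14094 := d2_2 (iv F28979) D16653 F24608
theorem F29407 : act 5 n16653 = n14092 := d4_2 (iv F28980) D16653 F24605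
def n16654 : Q := act 6 n12419
theorem D16654 : act 6 n12419 = n16654 := rfl
theorem F29408 : act 2 n16654 = n12426 := d14_1 D16654 (iv D12426) (iv F21874)
theorem F29409 : act 3 n16654 = n14103 := d17_1 D16654 (iv D14103) (iv F28979)
def n16655 : Q := act 1 n12420
theorem D16655 : act 1 n12420 = n16655 := rfl
def n16656 : Q := act 1 n12423
theorem D16656 : act 1 n12423 = n16656 := rfl
theorem F29410 : act 0 n16656 = n16656 := d0_1 D16656 (iv D16656) (iv D12423) (iv D10134) F8385 F4167 (iv F8385) D10134 D12423
theorem F29411 : act 4 n16656 = n13757 := d8_2 F27805 D16656 F27833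
theorem F29412 : act 3 n13996 = n16656 := d15_5 F29411 (iv D13757) F19322 D11003 D13996
theorem F29413 : act 5 n16656 = n16656 := d18_0 F29411 F24160 (iv F29411)
def n16657 : Q := act 3 n12423
theorem D16657 : act 3 n12423 = n16657 := rfl
theorem F29414 : act 0 n16657 = n12424 := d2_1 D16657 (iv D12424) D12423
theorem F29415 : act 1 n16657 = n13996 := d7_1 D16657 F29412 (iv D16656)
theorem F29416 : act 4 n16657 = n13993 := d15_2 F27805 D16657 (iv D13993) (iv F24158) (iv F27832)
theorem F29417 : act 2 n16657 = n15869 := d21_2 F29405 D16657 F27434 F21182 F17653 (iv F19561) (iv F28979) D16653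
theorem F29418 : act 5 n15867 = n16657 := d13_0 F29417 (iv D15869) D15867
def n16658 : Q := act 5 n12423
theorem D16658 : act 5 n12423 = n16658 := rfl
theorem F29419 : act 0 n16658 = n12425 := d4_1 D16658 (iv D12425) D12423
theorem F29420 : act 1 n16658 = n16658 := d9_1 D16658 (iv D16658) D16656 F29413 (iv D16656)
theorem F29421 : act 2 n16658 = n14092 := d13_1 D16658 (iv F29407) F29405
theorem F29422 : act 3 n16658 = n15867 := d16_1 D16658 F29418 (iv D16657)
def n16659 : Q := act 6 n12423
theorem D16659 : act 6 n12423 = n16659 := rfl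
theorem F29423 : act 0 n16659 = n12426 := d5_1 D16659 (iv D12426) D12423
def n16660 : Q := act 2 n12424
theorem D16660 : act 2 n12424 = n16660 := rfl
theorem F29424 : act 0 n16660 = n15869 := d1_1 D16660 (iv F29417) F29414
theorem F29425 : act 1 n16660 = n13480 := d6_1 D16660 F23713 (iv F29023) (iv D12427) (iv F21881)
theorem F29426 : act 3 n16660 = n13485 := d11_2 D12424 D16660 F29126 F21197 (iv F24609) (iv F29406) F29405 D16657 F29417 F27434 F21182 F17653 (iv F19561) (iv F28979) F21874
theorem F29427 : act 5 n15864 = n16660 := d23_0 (iv D16660) F21881 F17990 F8388 D5533 F16287 (iv F18035) (iv F21884) (iv D12427) (iv F21881) (iv F29414) (iv F29418) (iv D15867) F21180 F17644 F17645 F17646 (iv F21180) (iv F27426)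
def n16661 : Q := act 4 n12424
theorem D16661 : act 4 n12424 = n16661 := rfl
theorem F29428 : act 0 n16661 = n13993 := d3_1 D16661 (iv F29416) F29414
theorem F29429 : act 1 n16661 = n12428 := d8_1 D16661 (iv D12428) (iv F21881)
theorem F29430 : act 3 n16661 = n13992 := d15_1 D16661 (iv F27829) (iv D16087) F21376 D12424
def n16662 : Q := act 5 n12424
theorem D16662 : act 5 n12424 = n16662 := rfl
theorem F29431 : act 0 n16662 = n15867 := d4_1 D16662 F29418 F29414
theorem F29432 : act 1 n16662 = n12516 := d9_1 D16662 (iv D12516) F18034 (iv F17991) (iv F21881)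
theorem F29433 : act 2 n16662 = n15864 := d13_1 D16662 F29427 (iv D16660)
theorem F29434 : act 3 n16662 = n12425 := d16_1 D16662 (iv D12425) D12424
def n16663 : Q := act 6 n12424
theorem D16663 : act 6 n12424 = n16663 := rfl
theorem F29435 : act 3 n16663 = n12426 := d17_1 D16663 (iv D12426) D12424
def n16664 : Q := act 6 n12425
theorem D16664 : act 6 n12425 = n16664 := rfl
theorem F29436 : act 2 n16664 = n14099 := d14_1 D16664 (iv D14099) (iv F29003)
theorem F29437 : act 5 n16664 = n16659 := d22_2 D12425 D16664 (iv D16659) (iv D12423)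
def n16665 : Q := act 5 n12426
theorem D16665 : act 5 n12426 = n16665 := rfl
theorem F29438 : act 0 n16665 = n16664 := d4_1 D16665 F29437 F29423
theorem F29439 : act 6 n16665 = n16658 := d20_2 D12426 D16665 (iv D16658) D16659 (iv F29437) (iv D16664) (iv D12425)
def n16666 : Q := act 4 n12427
theorem D16666 : act 4 n12427 = n16666 := rfl
theorem F29440 : act 0 n16666 = n12431 := d3_1 D16666 (iv D12431) (iv F21883)
theorem F29441 : act 1 n16666 = n14332 := d8_1 D16666 F25025 (iv F29023)
theorem F29442 : act 2 n16666 = n12428 := d12_1 D16666 (iv D12428) D12427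
theorem F29443 : act 5 n16666 = n12522 := d18_2 (iv F21884) D16666 (iv D12522)
theorem F29444 : act 3 n16666 = n14334 := d25_1 D16666 F29145 (iv D13900) (iv D10959) (iv D8201) (iv F10314) F16111 F10314 D8202 D10962 D13907 (iv F24394) (iv F19554) F19553 (iv D11048) F12297 (iv D8229) (iv D3928) (iv D1886) (iv D929) F904 F477 F235 (iv F477) D471 F906 (iv F897) D919 F14815 D1805 D3743 D7821 F16344 (iv D7821) F14827 (iv D3743) D3744 (iv F14727) (iv D1918) (iv D942) D941 (iv F3004) (iv F15036) F2864 F14978 (iv D878) (iv F1563) F1562 F871 F471 D268 (iv F1001) (iv F1804) D2113 D4405 D9118 D11432 F20227 F18183 (iv F20227) F28823 F28821 F28820 D13841 F28819 (iv D11369) D11368 F20161 D11389 (iv F28899) (iv D10751) (iv D7741) (iv F11502) (iv F19084) (iv F23714) F23713 (iv F29023)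
def n16667 : Q := act 3 n12429
theorem D16667 : act 3 n12429 = n16667 := rfl
theorem F29445 : act 0 n16667 = n16667 := d2_1 D16667 (iv D16667) F29024
theorem F29446 : act 1 n16667 = n12430 := d7_1 D16667 (iv D12430) D12429
theorem F29447 : act 5 n16667 = n16667 := d16_2 F21889 D16667 (iv D16667)
def n16668 : Q := act 4 n12430
theorem D16668 : act 4 n12430 = n16668 := rfl
theorem F29448 : act 0 n16668 = n15190 := d3_1 D16668 (iv D15190) (iv F21890)
theorem F29449 : act 2 n16668 = n15188 := d12_1 D16668 (iv D15188) (iv F21891)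
theorem F29450 : act 5 n16668 = n12534 := d18_2 (iv F21892) D16668 (iv D12534)
def n16669 : Q := act 1 n12433
theorem D16669 : act 1 n12433 = n16669 := rfl
theorem F29451 : act 4 n16669 = n12434 := d8_2 (iv F21896) D16669 (iv D12434)
theorem F29452 : act 6 n16669 = n16669 := d10_2 D12433 D16669 (iv D16669) (iv D12433) F17993
def n16670 : Q := act 2 n12434
theorem D16670 : act 2 n12434 = n16670 := rfl
theorem F29453 : act 6 n16670 = n16670 := d14_2 F21898 D16670 (iv D16670)
def n16671 : Q := act 5 n12434
theorem D16671 : act 5 n12434 = n16671 := rfl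
theorem F29454 : act 3 n16671 = n12437 := d16_1 D16671 (iv D12437) (iv F21897)
def n16672 : Q := act 3 n12436
theorem D16672 : act 3 n12436 = n16672 := rfl
theorem F29455 : act 1 n16672 = n12440 := d7_1 D16672 (iv D12440) (iv F21900)
theorem F29456 : act 6 n16672 = n16672 := d17_2 F21901 D16672 (iv D16672)
def n16673 : Q := act 5 n12436
theorem D16673 : act 5 n12436 = n16673 := rfl
theorem F29457 : act 2 n16673 = n12437 := d13_1 D16673 (iv D12437) D12436
def n16674 : Q := act 2 n12438
theorem D16674 : act 2 n12438 = n16674 := rfl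
def n16675 : Q := act 6 n12438
theorem D16675 : act 6 n12438 = n16675 := rfl
theorem F29458 : act 0 n16675 = n12667 := d5_1 D16675 (iv F26430) F26427
theorem F29459 : act 1 n16675 = n12444 := d10_1 D16675 (iv D12444) (iv D10143) (iv F17997) D12438
theorem F29460 : act 3 n16675 = n16613 := d17_1 D16675 F29342 F26476
theorem F29461 : act 5 n16675 = n12665 := d20_1 D16675 (iv F22227) (iv F26429) F26430 (iv D12667) D12668 (iv F22294)
def n16676 : Q := act 1 n12439
theorem D16676 : act 1 n12439 = n16676 := rfl
def n16677 : Q := act 3 n12439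
theorem D16677 : act 3 n12439 = n16677 := rfl
theorem F29462 : act 0 n16677 = n12440 := d2_1 D16677 (iv D12440) (iv F21902)
theorem F29463 : act 6 n16677 = n12446 := d17_2 (iv F21903) D16677 (iv D12446)
def n16678 : Q := act 2 n12440
theorem D16678 : act 2 n12440 = n16678 := rfl
theorem F29464 : act 6 n16678 = n12448 := d14_2 (iv F21904) D16678 (iv D12448)
def n16679 : Q := act 4 n12440
theorem D16679 : act 4 n12440 = n16679 := rfl
theorem F29465 : act 6 n16679 = n12449 := d19_2 (iv F21904) D16679 (iv D12449)
def n16680 : Q := act 5 n12440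
theorem D16680 : act 5 n12440 = n16680 := rfl
theorem F29466 : act 3 n16680 = n12441 := d16_1 D16680 (iv D12441) D12440
def n16681 : Q := act 1 n12441
theorem D16681 : act 1 n12441 = n16681 := rfl
def n16682 : Q := act 2 n12442
theorem D16682 : act 2 n12442 = n16682 := rfl
theorem F29467 : act 0 n16682 = n12443 := d1_1 D16682 (iv D12443) D12442
theorem F29468 : act 6 n16682 = n15283 := d14_2 F21906 D16682 (iv D15283)
def n16683 : Q := act 1 n12443
theorem D16683 : act 1 n12443 = n16683 := rfl
theorem F29469 : act 2 n16683 = n12445 := d6_2 D12443 D16683 (iv D12445) (iv D10144) D10143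
theorem F29470 : act 6 n16683 = n14750 := d10_2 F25706 D16683 (iv D14750) (iv F20202) D14761
def n16684 : Q := act 3 n12443
theorem D16684 : act 3 n12443 = n16684 := rfl
def n16685 : Q := act 0 n12445
theorem D16685 : act 0 n12445 = n16685 := rfl
def n16686 : Q := act 3 n12445
theorem D16686 : act 3 n12445 = n16686 := rfl
theorem F29471 : act 1 n16686 = n12446 := d7_1 D16686 (iv D12446) D12445
def n16687 : Q := act 5 n12445
theorem D16687 : act 5 n12445 = n16687 := rfl
def n16688 : Q := act 6 n12445
theorem D16688 : act 6 n12445 = n16688 := rfl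
theorem F29472 : act 2 n16688 = n14750 := d14_1 D16688 (iv F29470) F29469
theorem F29473 : act 5 n14752 = n16688 := d13_0 F29472 F25699 D14752
def n16689 : Q := act 2 n12446
theorem D16689 : act 2 n12446 = n16689 := rfl
theorem F29474 : act 0 n16689 = n12448 := d1_1 D16689 (iv D12448) (iv F21909)
theorem F29475 : act 3 n16689 = n15205 := d21_1 D16689 (iv D15205) (iv D11643) (iv D9563) F7051 D5515 D10146 (iv F21909)
def n16690 : Q := act 4 n12446
theorem D16690 : act 4 n12446 = n16690 := rfl
theorem F29476 : act 0 n16690 = n12449 := d3_1 D16690 (iv D12449) (iv F21909)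
def n16691 : Q := act 5 n12446
theorem D16691 : act 5 n12446 = n16691 := rfl
theorem F29477 : act 0 n16691 = n12450 := d4_1 D16691 (iv D12450) (iv F21909)
theorem F29478 : act 3 n16691 = n12447 := d16_1 D16691 (iv D12447) D12446
theorem F29479 : act 6 n16691 = n16680 := d22_1 D16691 (iv D16680) F21904 (iv F21909)
def n16692 : Q := act 1 n12447
theorem D16692 : act 1 n12447 = n16692 := rfl
def n16693 : Q := act 1 n12448
theorem D16693 : act 1 n12448 = n16693 := rfl
def n16694 : Q := act 3 n12448
theorem D16694 : act 3 n12448 = n16694 := rfl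
theorem F29481 : act 0 n16694 = n15205 := d2_1 D16694 (iv F29475) F29474
theorem F29482 : act 2 n16694 = n15203 := d11_1 D16694 (iv D15203) (iv D11641) F14289 D10144 D12446 D16689 F29475 (iv D15205) (iv D11643) (iv D9563) F7051 D5515 D10146 D12448
def n16695 : Q := act 4 n12448
theorem D16695 : act 4 n12448 = n16695 := rfl
def n16696 : Q := act 5 n12448
theorem D16696 : act 5 n12448 = n16696 := rfl
theorem F29484 : act 2 n16696 = n12450 := d13_1 D16696 (iv D12450) D12448
def n16697 : Q := act 5 n12449
theorem D16697 : act 5 n12449 = n16697 := rfl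
theorem F29485 : act 4 n16697 = n12450 := d18_1 D16697 (iv D12450) D12449
def n16698 : Q := act 1 n12450
theorem D16698 : act 1 n12450 = n16698 := rfl
theorem F29486 : act 3 n16698 = n12451 := d7_2 (iv F21914) D16698 (iv D12451)
theorem F29487 : act 5 n16698 = n16698 := d9_2 D12450 D16698 (iv D16698) (iv D12450) F18002
def n16699 : Q := act 6 n12450
theorem D16699 : act 6 n12450 = n16699 := rfl
theorem F29488 : act 0 n16699 = n16680 := d5_1 D16699 (iv F29479) F29477
theorem F29489 : act 3 n16699 = n12452 := d17_1 D16699 (iv D12452) (iv F21914)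
theorem F29490 : act 5 n16699 = n16677 := d20_1 D16699 F29463 D16691 F29479 (iv D16680) F21904 D12450
def n16700 : Q := act 0 n12451
theorem D16700 : act 0 n12451 = n16700 := rfl
theorem F29491 : act 2 n16700 = n16650 := d1_2 (iv F21915) D16700 (iv D16650)
def n16701 : Q := act 6 n12451
theorem D16701 : act 6 n12451 = n16701 := rfl
theorem F29493 : act 2 n16701 = n16651 := d14_1 D16701 (iv D16651) (iv F21915)
def n16702 : Q := act 1 n12452
theorem D16702 : act 1 n12452 = n16702 := rfl
def n16703 : Q := act 2 n12453
theorem D16703 : act 2 n12453 = n16703 := rfl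
theorem F29494 : act 0 n16703 = n15280 := d1_1 D16703 F26592 (iv F22084)
theorem F29495 : act 6 n16703 = n15278 := d14_2 F22083 D16703 (iv D15278)
def n16706 : Q := act 5 n12454
theorem D16706 : act 5 n12454 = n16706 := rfl
theorem F29497 : act 0 n16706 = n12459 := d4_1 D16706 (iv D12459) (iv F21921)
theorem F29498 : act 2 n16706 = n12455 := d13_1 D16706 (iv D12455) D12454
def n16708 : Q := act 0 n12457
theorem D16708 : act 0 n12457 = n16708 := rfl
theorem F29501 : act 2 n16708 = n12463 := d1_2 (iv F21924) D16708 (iv D12463)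
def n16709 : Q := act 3 n12457
theorem D16709 : act 3 n12457 = n16709 := rfl
def n16710 : Q := act 5 n12457
theorem D16710 : act 5 n12457 = n16710 := rfl
theorem F29503 : act 2 n16710 = n12465 := d13_1 D16710 (iv D12465) (iv F21924)
def n16711 : Q := act 6 n12457
theorem D16711 : act 6 n12457 = n16711 := rfl
theorem F29504 : act 2 n16711 = n12466 := d14_1 D16711 (iv D12466) (iv F21924)
def n16714 : Q := act 5 n12458
theorem D16714 : act 5 n12458 = n16714 := rfl
theorem F29505 : act 3 n16714 = n12459 := d16_1 D16714 (iv D12459) D12458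
def n16716 : Q := act 1 n12459
theorem D16716 : act 1 n12459 = n16716 := rfl
def n16717 : Q := act 6 n12459
theorem D16717 : act 6 n12459 = n16717 := rfl
theorem F29507 : act 2 n16717 = n12461 := d14_1 D16717 (iv D12461) (iv F21925)
def n16718 : Q := act 1 n12460
theorem D16718 : act 1 n12460 = n16718 := rfl
theorem F29509 : act 2 n16718 = n12617 := d6_2 (iv F21926) D16718 (iv D12617) F18078 (iv F18006)
def n16719 : Q := act 5 n12460
theorem D16719 : act 5 n12460 = n16719 := rfl
theorem F29511 : act 2 n16719 = n12462 := d13_1 D16719 (iv D12462) (iv F21926)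
def n16720 : Q := act 1 n12463
theorem D16720 : act 1 n12463 = n16720 := rfl
theorem F29513 : act 0 n16720 = n16720 := d0_1 D16720 (iv D16720) (iv D12463) (iv D10153) F8393 F4170 (iv F8393) D10153 D12463
def n16721 : Q := act 3 n12463
theorem D16721 : act 3 n12463 = n16721 := rfl
theorem F29514 : act 0 n16721 = n12464 := d2_1 D16721 (iv D12464) D12463
def n16722 : Q := act 5 n12463
theorem D16722 : act 5 n12463 = n16722 := rfl
theorem F29515 : act 0 n16722 = n12465 := d4_1 D16722 (iv D12465) D12463
def n16723 : Q := act 6 n12463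
theorem D16723 : act 6 n12463 = n16723 := rfl
theorem F29516 : act 0 n16723 = n12466 := d5_1 D16723 (iv D12466) D12463
def n16724 : Q := act 2 n12464
theorem D16724 : act 2 n12464 = n16724 := rfl
def n16725 : Q := act 4 n12464
theorem D16725 : act 4 n12464 = n16725 := rfl
theorem F29517 : act 1 n16725 = n12468 := d8_1 D16725 (iv D12468) (iv F21930)
def n16726 : Q := act 5 n12464
theorem D16726 : act 5 n12464 = n16726 := rfl
theorem F29518 : act 3 n16726 = n12465 := d16_1 D16726 (iv D12465) D12464
def n16727 : Q := act 6 n12464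
theorem D16727 : act 6 n12464 = n16727 := rfl
theorem F29519 : act 1 n16727 = n12629 := d10_1 D16727 (iv D12629) F18084 (iv F18008) (iv F21930)
theorem F29520 : act 3 n16727 = n12466 := d17_1 D16727 (iv D12466) D12464
def n16728 : Q := act 6 n12465
theorem D16728 : act 6 n12465 = n16728 := rfl
theorem F29521 : act 5 n16728 = n16723 := d22_2 D12465 D16728 (iv D16723) (iv D12463)
def n16729 : Q := act 5 n12466
theorem D16729 : act 5 n12466 = n16729 := rfl
theorem F29522 : act 0 n16729 = n16728 := d4_1 D16729 F29521 F29516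
theorem F29523 : act 6 n16729 = n16722 := d20_2 D12466 D16729 (iv D16722) D16723 (iv F29521) (iv D16728) (iv D12465)
def n16730 : Q := act 1 n12467
theorem D16730 : act 1 n12467 = n16730 := rfl
theorem F29524 : act 3 n16730 = n15222 := d7_2 (iv F21934) D16730 (iv D15222)
def n16731 : Q := act 4 n12467
theorem D16731 : act 4 n12467 = n16731 := rfl
theorem F29525 : act 0 n16731 = n12471 := d3_1 D16731 (iv D12471) (iv F21932)
theorem F29526 : act 2 n16731 = n12468 := d12_1 D16731 (iv D12468) D12467
theorem F29527 : act 6 n16731 = n12634 := d19_2 (iv F21933) D16731 (iv D12634)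
def n16732 : Q := act 0 n12469
theorem D16732 : act 0 n12469 = n16732 := rfl
def n16733 : Q := act 3 n12469
theorem D16733 : act 3 n12469 = n16733 := rfl
theorem F29530 : act 1 n16733 = n12470 := d7_1 D16733 (iv D12470) D12469
theorem F29531 : act 6 n16733 = n16733 := d17_2 F21938 D16733 (iv D16733)
def n16734 : Q := act 4 n12469
theorem D16734 : act 4 n12469 = n16734 := rfl
theorem F29532 : act 1 n16734 = n12471 := d8_1 D16734 (iv D12471) D12469
theorem F29534 : act 6 n16734 = n16734 := d19_2 F21938 D16734 (iv D16734)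
def n16735 : Q := act 5 n12469
theorem D16735 : act 5 n12469 = n16735 := rfl
def n16736 : Q := act 4 n12470
theorem D16736 : act 4 n12470 = n16736 := rfl
theorem F29536 : act 0 n16736 = n15223 := d3_1 D16736 (iv D15223) (iv F21939)
theorem F29537 : act 2 n16736 = n15221 := d12_1 D16736 (iv D15221) (iv F21940)
theorem F29538 : act 6 n16736 = n12645 := d19_2 (iv F21941) D16736 (iv D12645)
def n16737 : Q := act 3 n12471
theorem D16737 : act 3 n12471 = n16737 := rfl
theorem F29539 : act 6 n16737 = n12647 := d17_2 (iv F21943) D16737 (iv D12647)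
def n16738 : Q := act 5 n12471
theorem D16738 : act 5 n12471 = n16738 := rfl
theorem F29540 : act 2 n16738 = n12473 := d13_1 D16738 (iv D12473) (iv F21942)
theorem F29541 : act 4 n16738 = n12472 := d18_1 D16738 (iv D12472) D12471
def n16739 : Q := act 1 n12472
theorem D16739 : act 1 n12472 = n16739 := rfl
def n16740 : Q := act 1 n12473
theorem D16740 : act 1 n12473 = n16740 := rfl
theorem F29542 : act 4 n16740 = n12474 := d8_2 (iv F21945) D16740 (iv D12474)
theorem F29543 : act 5 n16740 = n16740 := d9_2 D12473 D16740 (iv D16740) (iv D12473) F18010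
def n16741 : Q := act 0 n12474
theorem D16741 : act 0 n12474 = n16741 := rfl
theorem F29544 : act 3 n16741 = n12475 := d2_2 (iv F21946) D16741 (iv D12475)
def n16742 : Q := act 2 n12474
theorem D16742 : act 2 n12474 = n16742 := rfl
theorem F29546 : act 5 n16742 = n16742 := d13_2 F21947 D16742 (iv D16742)
def n16743 : Q := act 6 n12474
theorem D16743 : act 6 n12474 = n16743 := rfl
theorem F29547 : act 3 n16743 = n12477 := d17_1 D16743 (iv D12477) (iv F21946)
def n16744 : Q := act 1 n12475
theorem D16744 : act 1 n12475 = n16744 := rfl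
def n16746 : Q := act 6 n12475
theorem D16746 : act 6 n12475 = n16746 := rfl
theorem F29550 : act 0 n16746 = n12477 := d5_1 D16746 (iv D12477) D12475
theorem F29551 : act 5 n16746 = n12477 := d22_2 F21948 D16746 (iv D12477) D12475
def n16747 : Q := act 3 n12476
theorem D16747 : act 3 n12476 = n16747 := rfl
theorem F29552 : act 1 n16747 = n12480 := d7_1 D16747 (iv D12480) (iv F21949)
theorem F29553 : act 5 n16747 = n16747 := d16_2 F21950 D16747 (iv D16747)
def n16748 : Q := act 6 n12476
theorem D16748 : act 6 n12476 = n16748 := rfl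
theorem F29554 : act 2 n16748 = n12477 := d14_1 D16748 (iv D12477) D12476
def n16749 : Q := act 2 n12478
theorem D16749 : act 2 n12478 = n16749 := rfl
def n16750 : Q := act 5 n12478
theorem D16750 : act 5 n12478 = n16750 := rfl
theorem F29555 : act 0 n16750 = n12557 := d4_1 D16750 (iv F26421) F26419
theorem F29556 : act 1 n16750 = n12484 := d9_1 D16750 (iv D12484) (iv D10162) (iv F18014) D12478
theorem F29557 : act 3 n16750 = n16601 := d16_1 D16750 F29327 F26516
theorem F29558 : act 6 n16750 = n12554 := d20_2 F22127 D16750 (iv F22257) (iv F26422) F26421 (iv D12557) D12556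
def n16751 : Q := act 1 n12479
theorem D16751 : act 1 n12479 = n16751 := rfl
def n16752 : Q := act 3 n12479
theorem D16752 : act 3 n12479 = n16752 := rfl
theorem F29559 : act 0 n16752 = n12480 := d2_1 D16752 (iv D12480) (iv F21951)
theorem F29560 : act 5 n16752 = n12486 := d16_2 (iv F21952) D16752 (iv D12486)
def n16753 : Q := act 2 n12480
theorem D16753 : act 2 n12480 = n16753 := rfl
theorem F29561 : act 5 n16753 = n12488 := d13_2 (iv F21953) D16753 (iv D12488)
def n16754 : Q := act 4 n12480
theorem D16754 : act 4 n12480 = n16754 := rfl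
theorem F29562 : act 5 n16754 = n12489 := d18_2 (iv F21953) D16754 (iv D12489)
def n16755 : Q := act 6 n12480
theorem D16755 : act 6 n12480 = n16755 := rfl
theorem F29563 : act 3 n16755 = n12481 := d17_1 D16755 (iv D12481) D12480
def n16756 : Q := act 1 n12481
theorem D16756 : act 1 n12481 = n16756 := rfl
def n16757 : Q := act 2 n12482
theorem D16757 : act 2 n12482 = n16757 := rfl
theorem F29564 : act 0 n16757 = n12483 := d1_1 D16757 (iv D12483) D12482
theorem F29565 : act 5 n16757 = n15243 := d13_2 (iv F21956) D16757 (iv D15243)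
def n16758 : Q := act 1 n12483
theorem D16758 : act 1 n12483 = n16758 := rfl
theorem F29566 : act 2 n16758 = n12485 := d6_2 D12483 D16758 (iv D12485) (iv D10163) D10162
def n16759 : Q := act 3 n12483
theorem D16759 : act 3 n12483 = n16759 := rfl
def n16760 : Q := act 5 n12483
theorem D16760 : act 5 n12483 = n16760 := rfl
theorem F29567 : act 0 n16760 = n15243 := d4_1 D16760 (iv F29565) F29564
theorem F29568 : act 2 n16760 = n12484 := d13_1 D16760 (iv D12484) D12483
theorem F29569 : act 6 n16760 = n15255 := d22_3 D15258 (iv F26566) D16760 F26560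
def n16761 : Q := act 0 n12485
theorem D16761 : act 0 n12485 = n16761 := rfl
def n16762 : Q := act 3 n12485
theorem D16762 : act 3 n12485 = n16762 := rfl
theorem F29570 : act 1 n16762 = n12486 := d7_1 D16762 (iv D12486) D12485
def n16763 : Q := act 5 n12485
theorem D16763 : act 5 n12485 = n16763 := rfl
def n16764 : Q := act 6 n12485
theorem D16764 : act 6 n12485 = n16764 := rfl
def n16765 : Q := act 2 n12486
theorem D16765 : act 2 n12486 = n16765 := rfl
theorem F29571 : act 0 n16765 = n12488 := d1_1 D16765 (iv D12488) (iv F21959)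
theorem F29572 : act 3 n16765 = n15238 := d21_1 D16765 (iv D15238) (iv D11662) (iv D9571) F7056 D5523 D10165 (iv F21959)
def n16766 : Q := act 4 n12486
theorem D16766 : act 4 n12486 = n16766 := rfl
theorem F29573 : act 0 n16766 = n12489 := d3_1 D16766 (iv D12489) (iv F21959)
def n16767 : Q := act 6 n12486
theorem D16767 : act 6 n12486 = n16767 := rfl
theorem F29574 : act 0 n16767 = n12490 := d5_1 D16767 (iv D12490) (iv F21959)
theorem F29575 : act 3 n16767 = n12487 := d17_1 D16767 (iv D12487) D12486
theorem F29576 : act 5 n16767 = n16755 := d22_2 F29560 D16767 (iv D16755) (iv F29559)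
def n16768 : Q := act 1 n12487
theorem D16768 : act 1 n12487 = n16768 := rfl
def n16769 : Q := act 1 n12488
theorem D16769 : act 1 n12488 = n16769 := rfl
def n16770 : Q := act 3 n12488
theorem D16770 : act 3 n12488 = n16770 := rfl
theorem F29578 : act 0 n16770 = n15238 := d2_1 D16770 (iv F29572) F29571
theorem F29579 : act 2 n16770 = n15236 := d11_1 D16770 (iv D15236) (iv D11660) F14299 D10163 D12486 D16765 F29572 (iv D15238) (iv D11662) (iv D9571) F7056 D5523 D10165 D12488
def n16771 : Q := act 4 n12488
theorem D16771 : act 4 n12488 = n16771 := rfl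
def n16772 : Q := act 6 n12488
theorem D16772 : act 6 n12488 = n16772 := rfl
theorem F29581 : act 2 n16772 = n12490 := d14_1 D16772 (iv D12490) D12488
def n16773 : Q := act 6 n12489
theorem D16773 : act 6 n12489 = n16773 := rfl
theorem F29582 : act 4 n16773 = n12490 := d19_1 D16773 (iv D12490) D12489
def n16774 : Q := act 1 n12490
theorem D16774 : act 1 n12490 = n16774 := rfl
theorem F29583 : act 3 n16774 = n12491 := d7_2 (iv F21964) D16774 (iv D12491)
theorem F29584 : act 6 n16774 = n16774 := d10_2 D12490 D16774 (iv D16774) (iv D12490) F18019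
theorem F29585 : act 0 n16672 = n16774 := d2_3 F29583 F29375 D16672
def n16775 : Q := act 5 n12490
theorem D16775 : act 5 n12490 = n16775 := rfl
theorem F29586 : act 0 n16775 = n16755 := d4_1 D16775 (iv F29576) F29574
theorem F29587 : act 3 n16775 = n12492 := d16_1 D16775 (iv D12492) (iv F21964)
theorem F29588 : act 6 n16775 = n16752 := d20_2 D12490 D16775 F29560 D16767 F29576 (iv D16755) F21953
def n16776 : Q := act 5 n12491
theorem D16776 : act 5 n12491 = n16776 := rfl
theorem F29589 : act 0 n16776 = n16673 := d4_1 D16776 (iv D16673) (iv F29375)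
theorem F29590 : act 2 n16776 = n16627 := d13_1 D16776 (iv D16627) (iv F21965)
theorem F29591 : act 6 n16776 = n16673 := d22_1 D16776 (iv D16673) F21901 (iv F29375)
def n16777 : Q := act 1 n12492
theorem D16777 : act 1 n12492 = n16777 := rfl
def n16778 : Q := act 2 n12493
theorem D16778 : act 2 n12493 = n16778 := rfl
theorem F29592 : act 0 n16778 = n15318 := d1_1 D16778 F26666 (iv F22130)
theorem F29593 : act 5 n16778 = n15316 := d13_2 F22129 D16778 (iv D15316)
def n16779 : Q := act 2 n12494
theorem D16779 : act 2 n12494 = n16779 := rfl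
theorem F29594 : act 0 n16779 = n15148 := d1_1 D16779 (iv D15148) (iv F21971)
theorem F29595 : act 1 n16779 = n15184 := d6_1 D16779 (iv F26464) F26463 F20680 D12494
theorem F29596 : act 5 n16779 = n16548 := d13_2 (iv F21973) D16779 (iv D16548)
def n16780 : Q := act 2 n12495
theorem D16780 : act 2 n12495 = n16780 := rfl
theorem F29597 : act 5 n16780 = n16633 := d13_2 F22080 D16780 F29383
def n16781 : Q := act 1 n12498
theorem D16781 : act 1 n12498 = n16781 := rfl
theorem F29598 : act 6 n16781 = n12504 := d10_2 D12498 D16781 (iv D12504) (iv D10174) D10171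
def n16782 : Q := act 5 n12498
theorem D16782 : act 5 n12498 = n16782 := rfl
theorem F29599 : act 0 n16782 = n14003 := d4_1 D16782 (iv F29013) F26675
theorem F29600 : act 2 n16782 = n12520 := d13_1 D16782 (iv D12520) (iv F21976)
theorem F29601 : act 3 n16782 = n13999 := d16_1 D16782 (iv F24503) (iv F29015)
theorem F29602 : act 6 n16782 = n13997 := d20_2 D12498 D16782 F28999 D15322 F29013 (iv D14003) F28997
theorem F29603 : act 1 n16597 = n16782 := d6_5 F29600 F29358 F21836 D12379 D16597
def n16783 : Q := act 6 n12499
theorem D16783 : act 6 n12499 = n16783 := rfl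
theorem F29604 : act 2 n16783 = n16783 := d14_1 D16783 (iv D16783) F21977
theorem F29605 : act 4 n16783 = n12501 := d19_1 D16783 (iv D12501) D12499
def n16784 : Q := act 1 n12501
theorem D16784 : act 1 n12501 = n16784 := rfl
theorem F29606 : act 3 n16784 = n12504 := d7_2 (iv F21981) D16784 (iv D12504)
def n16785 : Q := act 5 n12501
theorem D16785 : act 5 n12501 = n16785 := rfl
theorem F29607 : act 0 n16785 = n13594 := d4_1 D16785 F29033 F26546
theorem F29608 : act 2 n16785 = n16785 := d13_1 D16785 (iv D16785) F21980
theorem F29609 : act 3 n16785 = n12505 := d16_1 D16785 (iv D12505) (iv F21981)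
theorem F29610 : act 6 n16785 = n13591 := d20_2 D12501 D16785 F28989 D15247 (iv F29033) (iv D13594) (iv F28990)
def n16786 : Q := act 1 n12503
theorem D16786 : act 1 n12503 = n16786 := rfl
theorem F29611 : act 3 n16786 = n14027 := d7_2 (iv F29034) D16786 F24525
theorem F29612 : act 6 n16786 = n14018 := d10_2 D12503 D16786 (iv D14018) F19517 (iv F28984)
def n16787 : Q := act 0 n12504
theorem D16787 : act 0 n12504 = n16787 := rfl
def n16788 : Q := act 2 n12504
theorem D16788 : act 2 n12504 = n16788 := rfl
theorem F29613 : act 1 n16788 = n12508 := d6_1 D16788 (iv D12508) (iv D10176) (iv F18028) D12504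
def n16789 : Q := act 5 n12504
theorem D16789 : act 5 n12504 = n16789 := rfl
def n16790 : Q := act 1 n12505
theorem D16790 : act 1 n12505 = n16790 := rfl
def n16791 : Q := act 2 n12506
theorem D16791 : act 2 n12506 = n16791 := rfl
theorem F29614 : act 0 n16791 = n15213 := d1_1 D16791 F26494 F22073
theorem F29615 : act 5 n16791 = n15210 := d13_2 F22074 D16791 (iv D15210)
def n16792 : Q := act 2 n12507
theorem D16792 : act 2 n12507 = n16792 := rfl
theorem F29616 : act 0 n16792 = n12508 := d1_1 D16792 (iv D12508) D12507
theorem F29617 : act 5 n16792 = n15234 := d13_2 (iv F21989) D16792 (iv D15234)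
theorem F29618 : act 6 n16792 = n12530 := d14_2 (iv F21988) D16792 (iv D12530)
def n16793 : Q := act 3 n12508
theorem D16793 : act 3 n12508 = n16793 := rfl
theorem F29619 : act 6 n16793 = n12532 := d17_2 (iv F21990) D16793 (iv D12532)
def n16794 : Q := act 5 n12508
theorem D16794 : act 5 n12508 = n16794 := rfl
theorem F29620 : act 0 n16794 = n15234 := d4_1 D16794 (iv F29617) F29616
theorem F29621 : act 2 n16794 = n12509 := d13_1 D16794 (iv D12509) D12508
def n16795 : Q := act 2 n12510
theorem D16795 : act 2 n12510 = n16795 := rfl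
theorem F29622 : act 0 n16795 = n12644 := d1_1 D16795 F22194 (iv F22131)
theorem F29623 : act 6 n16795 = n12642 := d14_2 F22132 D16795 (iv D12642)
def n16796 : Q := act 2 n12511
theorem D16796 : act 2 n12511 = n16796 := rfl
theorem F29624 : act 0 n16796 = n12514 := d1_1 D16796 (iv D12514) (iv F21993)
theorem F29625 : act 1 n16796 = n15860 := d25_25 (iv F1063) F1062 F14934 F1062 F14934 (iv D570) F564 D571 D1140 D2342 D4861 F7409 (iv F7145) D9691 (iv F20845) (iv F20846) (iv F20847) (iv F26851) F26850 (iv D15323) (iv F28994) F28995 (iv F20743) D12511 D16796 (iv D15860) (iv D11998) (iv D9925) (iv D5051) F14831 F3824 D2439 D5055 (iv F17546) (iv D9866) (iv F17538) (iv D9860) (iv F14470) D11805 D15482 F29230 F23478 F19435 (iv F18933) (iv F28823) (iv D11432) (iv F17193) (iv D5684) (iv D2738) (iv D1324) (iv D661) F652 (iv F16964) (iv D320) F321 F160 (iv D78) (iv F153) (iv F270) F271 F130 D64 F139 D67 D149 D304 D595 D1184 F14764 (iv D1184) F1105 (iv D595) D596 F1107 (iv D582) (iv D295) D294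
theorem F29626 : act 3 n15868 = n16796 := d25_1 D15868 (iv D16796) (iv D12511) F20743 (iv D11723) D11724 D15323 (iv F26850) F26851 (iv D11797) D11798 F20845 (iv D9691) F7145 (iv D2344) (iv F3698) (iv D2342) (iv D1140) (iv D571) D570 F1062 F14934 F1062 F14934 (iv D570) F565 F286 (iv F146) (iv F239) D247 (iv F915) D944 F14704 (iv D1806) (iv D895) (iv D453) (iv F871) (iv F1562) F1563 F867 F14782 (iv F973) F972 F973 (iv F867) D878 (iv F2864) F15036 F3004 F15061 (iv D941) (iv F1648) (iv F3038) D3926 D8226 (iv F12310) (iv F19558) (iv D11051) F12308 (iv F7692) (iv F17643) (iv D9927) D9928 F17646 (iv D9928) (iv D5053) F3827 (iv D1188) F1110 F598 (iv F1110) (iv F1997) D2437 D5053 D9928 F17646 (iv F21180)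
theorem F29627 : act 4 n16796 = n15857 := d15_2 D15868 F29626 (iv D15857) F21171 D12001
def n16797 : Q := act 4 n12511
theorem D16797 : act 4 n12511 = n16797 := rfl
theorem F29628 : act 0 n16797 = n12515 := d3_1 D16797 (iv D12515) (iv F21993)
theorem F29629 : act 1 n16797 = n16797 := d8_1 D16797 (iv D16797) F21994
theorem F29630 : act 2 n16797 = n15857 := d12_1 D16797 (iv F29627) (iv D16796)
def n16798 : Q := act 5 n12511
theorem D16798 : act 5 n12511 = n16798 := rfl
theorem F29631 : act 0 n16798 = n12516 := d4_1 D16798 (iv D12516) (iv F21993)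
theorem F29632 : act 3 n16798 = n12512 := d16_1 D16798 (iv D12512) D12511
def n16799 : Q := act 6 n12511
theorem D16799 : act 6 n12511 = n16799 := rfl
theorem F29633 : act 0 n16799 = n12517 := d5_1 D16799 (iv D12517) (iv F21993)
theorem F29634 : act 3 n16799 = n12513 := d17_1 D16799 (iv D12513) D12511
def n16800 : Q := act 1 n12513
theorem D16800 : act 1 n12513 = n16800 := rfl
theorem F29635 : act 6 n16800 = n16800 := d10_2 D12513 D16800 (iv D16800) (iv D12513) F18033
def n16801 : Q := act 1 n12514
theorem D16801 : act 1 n12514 = n16801 := rfl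
theorem F29636 : act 2 n16801 = n12521 := d6_2 D12514 D16801 (iv D12521) (iv D10182) (iv F18034)
theorem F29637 : act 4 n16801 = n16536 := d25_26 (iv F135) F134 (iv F277) (iv F557) (iv F1032) D1090 F1884 D1293 D2667 D5533 F16287 D10189 F18044 (iv D9578) (iv D4635) D4634 F7057 D5526 D10172 F20108 (iv F28991) (iv F28996) F18026 D10179 D12514 D16801 F28708 F25142 F19933 F14267 D9547 F14269 D10111 D12377 F21835 F17978 (iv D10121) (iv D5504) (iv F7045) D9552 (iv F20110) (iv F21821) D16592 F29311 (iv D14845) F20245 (iv D9150) (iv D4422) (iv D2122) (iv D1040) (iv D524) F537 (iv F533) F532 F533 (iv F471) D453 (iv F1578) (iv F14816) F1633 D942 F14826 D1918 F14727 (iv D3744) (iv D1805) F14829 (iv F14815) (iv D919) F897 D476 F915 D490 F941 (iv D296) (iv D143) (iv D64)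
theorem F29638 : act 0 n16562 = n16801 := d3_3 F29637 F28706 (iv F28756)
theorem F29639 : act 5 n16535 = n16801 := d18_0 F29637 (iv D16536) D16535
def n16802 : Q := act 3 n12514
theorem D16802 : act 3 n12514 = n16802 := rfl
theorem F29640 : act 0 n16802 = n15868 := d2_1 D16802 F29626 F29624
theorem F29641 : act 4 n15864 = n16802 := d3_0 F29640 (iv D15868) (iv F27426)
def n16803 : Q := act 4 n12514
theorem D16803 : act 4 n12514 = n16803 := rfl
theorem F29642 : act 0 n16803 = n15857 := d3_1 D16803 (iv F29627) F29624
theorem F29643 : act 1 n16803 = n16536 := d8_1 D16803 (iv F29637) (iv D16801)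
theorem F29644 : act 2 n16803 = n12515 := d12_1 D16803 (iv D12515) D12514
theorem F29645 : act 3 n16803 = n15856 := d15_1 D16803 F27410 D15864 F29641 (iv D16802)
def n16804 : Q := act 5 n12514
theorem D16804 : act 5 n12514 = n16804 := rfl
theorem F29646 : act 2 n16804 = n12516 := d13_1 D16804 (iv D12516) D12514
def n16805 : Q := act 6 n12514
theorem D16805 : act 6 n12514 = n16805 := rfl
theorem F29647 : act 2 n16805 = n12517 := d14_1 D16805 (iv D12517) D12514
def n16806 : Q := act 5 n12515
theorem D16806 : act 5 n12515 = n16806 := rfl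
theorem F29648 : act 4 n16806 = n12516 := d18_1 D16806 (iv D12516) D12515
def n16807 : Q := act 6 n12515
theorem D16807 : act 6 n12515 = n16807 := rfl
theorem F29649 : act 4 n16807 = n12517 := d19_1 D16807 (iv D12517) D12515
def n16808 : Q := act 6 n12516
theorem D16808 : act 6 n12516 = n16808 := rfl
theorem F29650 : act 3 n16808 = n12518 := d17_1 D16808 (iv D12518) (iv F21998)
theorem F29651 : act 5 n16808 = n16799 := d22_2 D12516 D16808 (iv D16799) F21993
def n16809 : Q := act 1 n12517
theorem D16809 : act 1 n12517 = n16809 := rfl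
theorem F29652 : act 3 n16809 = n12519 := d7_2 (iv F21999) D16809 (iv D12519)
theorem F29653 : act 6 n16809 = n12525 := d10_2 D12517 D16809 (iv D12525) (iv D10184) (iv F18034)
def n16810 : Q := act 5 n12517
theorem D16810 : act 5 n12517 = n16810 := rfl
theorem F29654 : act 0 n16810 = n16808 := d4_1 D16810 F29651 F29633
theorem F29655 : act 3 n16810 = n12520 := d16_1 D16810 (iv D12520) (iv F21999)
theorem F29656 : act 6 n16810 = n16798 := d20_2 D12517 D16810 (iv D16798) D16799 (iv F29651) (iv D16808) (iv D12516)
theorem F29657 : act 1 n16595 = n16810 := d7_3 F29655 F29358 (iv F29319)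
def n16811 : Q := act 1 n12518
theorem D16811 : act 1 n12518 = n16811 := rfl
def n16812 : Q := act 0 n12519
theorem D16812 : act 0 n12519 = n16812 := rfl
theorem F29658 : act 6 n16812 = n12526 := d5_2 (iv F22001) D16812 (iv D12526)
def n16813 : Q := act 2 n12519
theorem D16813 : act 2 n12519 = n16813 := rfl
theorem F29659 : act 6 n16813 = n12527 := d14_2 (iv F22001) D16813 (iv D12527)
def n16814 : Q := act 6 n12522
theorem D16814 : act 6 n12522 = n16814 := rfl
theorem F29660 : act 0 n16814 = n12537 := d5_1 D16814 (iv D12537) (iv F22005)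
theorem F29661 : act 2 n16814 = n12524 := d14_1 D16814 (iv D12524) (iv F22006)
theorem F29662 : act 3 n16814 = n16544 := d17_1 D16814 (iv D16544) (iv F29154)
theorem F29663 : act 4 n16814 = n12523 := d19_1 D16814 (iv D12523) D12522
theorem F29664 : act 5 n16814 = n16574 := d22_2 F29443 D16814 F29270 (iv F29440)
def n16816 : Q := act 1 n12524
theorem D16816 : act 1 n12524 = n16816 := rfl
theorem F29666 : act 4 n16816 = n12525 := d8_2 (iv F22012) D16816 (iv D12525)
def n16817 : Q := act 0 n12525
theorem D16817 : act 0 n12525 = n16817 := rfl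
theorem F29667 : act 3 n16817 = n12526 := d2_2 (iv F22014) D16817 (iv D12526)
def n16818 : Q := act 2 n12525
theorem D16818 : act 2 n12525 = n16818 := rfl
def n16819 : Q := act 5 n12525
theorem D16819 : act 5 n12525 = n16819 := rfl
theorem F29668 : act 1 n16819 = n16671 := d9_1 D16819 (iv D16671) (iv D12434) (iv F18040) D12525
theorem F29669 : act 3 n16819 = n12528 := d16_1 D16819 (iv D12528) (iv F22014)
def n16820 : Q := act 1 n12526
theorem D16820 : act 1 n12526 = n16820 := rfl
def n16821 : Q := act 2 n12526
theorem D16821 : act 2 n12526 = n16821 := rfl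
theorem F29670 : act 0 n16821 = n12527 := d1_1 D16821 (iv D12527) D12526
def n16822 : Q := act 5 n12526
theorem D16822 : act 5 n12526 = n16822 := rfl
theorem F29671 : act 0 n16822 = n12528 := d4_1 D16822 (iv D12528) D12526
theorem F29672 : act 6 n16822 = n16621 := d22_1 D16822 (iv F29357) F22001 D12526
theorem F29673 : act 1 n16618 = n16822 := d10_5 F29672 (iv D16621) (iv D12397) D12395 D16618
def n16823 : Q := act 3 n12527
theorem D16823 : act 3 n12527 = n16823 := rfl
theorem F29674 : act 1 n16823 = n12532 := d7_1 D16823 (iv D12532) (iv F22015)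
def n16824 : Q := act 5 n12527
theorem D16824 : act 5 n12527 = n16824 := rfl
theorem F29675 : act 2 n16824 = n12528 := d13_1 D16824 (iv D12528) D12527
def n16825 : Q := act 6 n12528
theorem D16825 : act 6 n12528 = n16825 := rfl
theorem F29676 : act 0 n16825 = n16621 := d5_1 D16825 (iv F29672) F29671
theorem F29677 : act 5 n16825 = n16812 := d20_1 D16825 F29658 D16822 F29672 (iv F29357) F22001 D12528
theorem F29678 : act 1 n12551 = n16825 := d0_0 F29676 (iv D16621) F21852 D12401 F29371 (iv D10139) (iv F8408) D10198 D12551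
def n16826 : Q := act 2 n12529
theorem D16826 : act 2 n12529 = n16826 := rfl
theorem F29679 : act 6 n16826 = n16553 := d14_2 F22143 D16826 F28731
def n16827 : Q := act 1 n12530
theorem D16827 : act 1 n12530 = n16827 := rfl
def n16828 : Q := act 3 n12530
theorem D16828 : act 3 n12530 = n16828 := rfl
theorem F29680 : act 0 n16828 = n12532 := d2_1 D16828 (iv D12532) (iv F22017)
def n16829 : Q := act 5 n12530
theorem D16829 : act 5 n12530 = n16829 := rfl
theorem F29681 : act 0 n16829 = n12533 := d4_1 D16829 (iv D12533) (iv F22017)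
theorem F29682 : act 2 n16829 = n12531 := d13_1 D16829 (iv D12531) D12530
theorem F29683 : act 6 n16829 = n16794 := d20_2 F29618 D16829 (iv D16794) F21990 D12533 (iv F26522) (iv F29617)
def n16830 : Q := act 2 n12532
theorem D16830 : act 2 n12532 = n16830 := rfl
def n16831 : Q := act 4 n12532
theorem D16831 : act 4 n12532 = n16831 := rfl
def n16832 : Q := act 5 n12532
theorem D16832 : act 5 n12532 = n16832 := rfl
theorem F29684 : act 3 n16832 = n12533 := d16_1 D16832 (iv D12533) D12532
def n16833 : Q := act 1 n12533
theorem D16833 : act 1 n12533 = n16833 := rfl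
theorem F29685 : act 2 n16833 = n16681 := d6_2 (iv F22021) D16833 (iv D16681) F21905 (iv F18041)
def n16834 : Q := act 3 n12534
theorem D16834 : act 3 n12534 = n16834 := rfl
theorem F29686 : act 0 n16834 = n15263 := d2_1 D16834 (iv D15263) (iv F22022)
theorem F29687 : act 1 n16834 = n16834 := d7_1 D16834 (iv D16834) F22023
theorem F29688 : act 4 n16834 = n12536 := d15_2 D12534 D16834 (iv D12536) (iv D10190) D10189
def n16835 : Q := act 6 n12534
theorem D16835 : act 6 n12534 = n16835 := rfl
theorem F29689 : act 0 n16835 = n15264 := d5_1 D16835 (iv D15264) (iv F22022)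
theorem F29690 : act 2 n16835 = n15249 := d14_1 D16835 (iv D15249) (iv F22024)
theorem F29691 : act 4 n16835 = n12535 := d19_1 D16835 (iv D12535) D12534
def n16836 : Q := act 1 n12535
theorem D16836 : act 1 n12535 = n16836 := rfl
theorem F29692 : act 3 n16836 = n12538 := d7_2 (iv F22027) D16836 (iv D12538)
theorem F29693 : act 6 n16836 = n16836 := d10_2 D12535 D16836 (iv D16836) (iv D12535) F18043
def n16837 : Q := act 6 n12536
theorem D16837 : act 6 n12536 = n16837 := rfl
theorem F29694 : act 0 n16837 = n16544 := d5_1 D16837 (iv D16544) (iv F29151)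
theorem F29695 : act 3 n16837 = n12537 := d17_1 D16837 (iv D12537) D12536
theorem F29696 : act 5 n16837 = n16582 := d20_1 D16837 F29276 F25029 D16544 (iv F28724) (iv F29265) (iv F29266)
def n16838 : Q := act 1 n12537
theorem D16838 : act 1 n12537 = n16838 := rfl
theorem F29697 : act 4 n16838 = n12538 := d8_2 (iv F22030) D16838 (iv D12538)
theorem F29698 : act 6 n16838 = n16838 := d10_2 D12537 D16838 (iv D16838) (iv D12537) F18045
def n16839 : Q := act 5 n12537
theorem D16839 : act 5 n12537 = n16839 := rfl
theorem F29699 : act 0 n16839 = n16574 := d4_1 D16839 (iv F29664) F29660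
theorem F29700 : act 2 n16839 = n12541 := d13_1 D16839 (iv D12541) (iv F22029)
theorem F29701 : act 3 n16839 = n16582 := d16_1 D16839 (iv F29696) F29695
theorem F29702 : act 4 n16839 = n12539 := d18_1 D16839 (iv D12539) (iv F22030)
theorem F29703 : act 6 n16839 = n16666 := d20_2 D12537 D16839 F29443 D16814 F29664 F29270 F21894
def n16840 : Q := act 0 n12538
theorem D16840 : act 0 n12538 = n16840 := rfl
theorem F29704 : act 6 n16840 = n16840 := d5_2 F22031 D16840 (iv D16840)
def n16841 : Q := act 2 n12538
theorem D16841 : act 2 n12538 = n16841 := rfl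
theorem F29705 : act 1 n16841 = n12543 := d6_1 D16841 (iv D12543) (iv D10193) (iv F18047) D12538
theorem F29706 : act 6 n16841 = n16841 := d14_2 F22031 D16841 (iv D16841)
theorem F29707 : act 3 n12728 = n16841 := d7_0 F29705 F28529 D12728
def n16842 : Q := act 5 n12538
theorem D16842 : act 5 n12538 = n16842 := rfl
def n16843 : Q := act 1 n12539
theorem D16843 : act 1 n12539 = n16843 := rfl
def n16844 : Q := act 0 n12540
theorem D16844 : act 0 n12540 = n16844 := rfl
theorem F29708 : act 4 n16844 = n12542 := d3_2 (iv F22035) D16844 (iv D12542)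
theorem F29709 : act 6 n16844 = n12709 := d5_2 (iv F22036) D16844 (iv D12709)
def n16845 : Q := act 2 n12540
theorem D16845 : act 2 n12540 = n16845 := rfl
theorem F29710 : act 4 n16845 = n12543 := d12_2 (iv F22035) D16845 (iv D12543)
theorem F29711 : act 6 n16845 = n12710 := d14_2 (iv F22036) D16845 (iv D12710)
theorem F29712 : act 5 n16844 = n16845 := d22_0 F29711 F28522 (iv F22036) D16844
theorem E7266 : n16566 = n12360 := (c23_11 F29712 (iv D16845) (iv D12540) (iv F22011) F22013 F29271 (iv D16574) (iv F21812) (iv D12366) (iv F21803) D16566 (iv F28709) (iv F28760) F28759 D16574 (iv F29699) (iv D16839) F22029 D12540 D16844)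
theorem F29713 : act 1 n12360 = n12360 := (sb E7266 (iv D16566))
theorem E7267 : n16576 = n12365 := (c6_5 (iv F21803) F29713 F21803 D12365 D16576 (iv D12365))
theorem F29714 : act 2 n12365 = n12365 := (sb E7267 (iv D16576))
theorem F29715 : act 1 n16560 = n16560 := d7_3 F28751 F29713 (iv F28751)
theorem F29716 : act 1 n16563 = n16563 := d8_3 F28758 F29713 (iv F28758)
theorem E7268 : n16558 = n12356 := (c10_5 D12360 F29713 (iv D12360) D12356 D16558 (iv D12356))
theorem F29717 : act 6 n12356 = n12356 := (sb E7268 (iv D16558))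
theorem F29718 : act 6 n16555 = n16555 := d17_2 F29717 D16555 (iv D16555)
theorem F29719 : act 6 n16556 = n16556 := d19_2 F29717 D16556 (iv D16556)
theorem F29720 : act 6 n14375 = n14375 := d14_2 F29718 (iv F28735) F28735
theorem F29721 : act 1 n14378 = n14378 := d10_3 F29720 (iv D14375) D14378 (iv D14378) D14375
theorem F29723 : act 2 n16570 = n16570 := d6_4 (iv F28757) F29716 F28757 D16570 (iv D16570)
theorem F29724 : act 2 n16577 = n16577 := d13_3 (iv D16577) F29714 D16577
theorem F29725 : act 2 n16587 = n16587 := d21_4 F29714 F21810 D12372 D16587 (iv D16587) (iv D12372) (iv F21810) F29288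
def n16846 : Q := act 5 n12540
theorem D16846 : act 5 n12540 = n16846 := rfl
theorem F29728 : act 0 n16846 = n16845 := d4_1 D16846 (iv F29712) (iv D16844)
theorem F29729 : act 2 n16846 = n16844 := d13_1 D16846 F29712 (iv D16845)
theorem F29730 : act 4 n16846 = n12544 := d18_1 D16846 (iv D12544) (iv F22035)
def n16847 : Q := act 1 n12541
theorem D16847 : act 1 n12541 = n16847 := rfl
theorem F29731 : act 4 n16847 = n12545 := d8_2 (iv F22038) D16847 (iv D12545)
def n16848 : Q := act 1 n12542
theorem D16848 : act 1 n12542 = n16848 := rfl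
theorem F29732 : act 3 n16848 = n12546 := d7_2 (iv F22040) D16848 (iv D12546)
def n16849 : Q := act 1 n12544
theorem D16849 : act 1 n12544 = n16849 := rfl
theorem F29733 : act 3 n16849 = n12550 := d7_2 (iv F22043) D16849 (iv D12550)
theorem F29734 : act 5 n16849 = n12545 := d9_2 D12544 D16849 (iv D12545) (iv D10194) D10193
def n16850 : Q := act 0 n12545
theorem D16850 : act 0 n12545 = n16850 := rfl
theorem F29735 : act 3 n16850 = n12551 := d2_2 (iv F22044) D16850 (iv D12551)
def n16851 : Q := act 2 n12545
theorem D16851 : act 2 n12545 = n16851 := rfl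
def n16852 : Q := act 6 n12545
theorem D16852 : act 6 n12545 = n16852 := rfl
theorem F29736 : act 1 n16852 = n16663 := d10_1 D16852 (iv D16663) F21881 (iv F18053) D12545
theorem F29737 : act 3 n16852 = n12553 := d17_1 D16852 (iv D12553) (iv F22044)
def n16853 : Q := act 0 n12546
theorem D16853 : act 0 n12546 = n16853 := rfl
def n16854 : Q := act 2 n12546
theorem D16854 : act 2 n12546 = n16854 := rfl
def n16855 : Q := act 5 n12546
theorem D16855 : act 5 n12546 = n16855 := rfl
def n16856 : Q := act 6 n12546
theorem D16856 : act 6 n12546 = n16856 := rfl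
theorem F29738 : act 1 n16856 = n12720 := d10_1 D16856 (iv D12720) (iv D10276) (iv F18054) D12546
def n16857 : Q := act 1 n12547
theorem D16857 : act 1 n12547 = n16857 := rfl
def n16858 : Q := act 3 n12547
theorem D16858 : act 3 n12547 = n16858 := rfl
theorem F29739 : act 0 n16858 = n12548 := d2_1 D16858 (iv D12548) (iv F22045)
theorem F29740 : act 6 n16858 = n12722 := d17_2 (iv F22046) D16858 (iv D12722)
def n16859 : Q := act 2 n12548
theorem D16859 : act 2 n12548 = n16859 := rfl
theorem F29741 : act 6 n16859 = n12724 := d14_2 (iv F22048) D16859 (iv D12724)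
theorem F29742 : act 3 n16859 = n12549 := d21_1 D16859 F22049 (iv F22043) (iv F28531) F22040 D12547 D16858 F29739
theorem F29743 : act 5 n12548 = n16859 := d16_0 F29742 (iv D12549) D12548
def n16860 : Q := act 4 n12548
theorem D16860 : act 4 n12548 = n16860 := rfl
theorem F29744 : act 1 n16860 = n12561 := d8_1 D16860 (iv D12561) (iv F22047)
theorem F29745 : act 6 n16860 = n12725 := d19_2 (iv F22048) D16860 (iv D12725)
def n16861 : Q := act 1 n12549
theorem D16861 : act 1 n12549 = n16861 := rfl
theorem F29746 : act 5 n16861 = n12563 := d9_2 D12549 D16861 (iv D12563) (iv D10202) (iv F18055)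
def n16862 : Q := act 0 n12550
theorem D16862 : act 0 n12550 = n16862 := rfl
theorem F29747 : act 5 n16862 = n12551 := d4_2 (iv F22050) D16862 (iv D12551)
def n16863 : Q := act 2 n12550
theorem D16863 : act 2 n12550 = n16863 := rfl
theorem F29748 : act 5 n16863 = n12552 := d13_2 (iv F22050) D16863 (iv D12552)
def n16864 : Q := act 2 n12551
theorem D16864 : act 2 n12551 = n16864 := rfl
theorem F29749 : act 0 n16864 = n12552 := d1_1 D16864 (iv D12552) D12551
def n16865 : Q := act 6 n12551
theorem D16865 : act 6 n12551 = n16865 := rfl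
theorem F29750 : act 0 n16865 = n12553 := d5_1 D16865 (iv D12553) D12551
theorem F29751 : act 1 n16865 = n16627 := d10_1 D16865 (iv F29370) (iv F22016) D16825 (iv F29678)
theorem F29752 : act 5 n16865 = n16628 := d22_2 F29747 D16865 F29377 D16862
def n16866 : Q := act 3 n12552
theorem D16866 : act 3 n12552 = n16866 := rfl
theorem F29753 : act 1 n16866 = n12570 := d7_1 D16866 (iv D12570) (iv F22051)
def n16867 : Q := act 6 n12552
theorem D16867 : act 6 n12552 = n16867 := rfl
theorem F29754 : act 2 n16867 = n12553 := d14_1 D16867 (iv D12553) D12552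
def n16868 : Q := act 5 n12553
theorem D16868 : act 5 n12553 = n16868 := rfl
theorem F29755 : act 0 n16868 = n16628 := d4_1 D16868 (iv F29752) F29750
theorem F29756 : act 6 n16868 = n16862 := d20_2 D12553 D16868 F29747 D16865 F29752 F29377 F22050
def n16869 : Q := act 2 n12554
theorem D16869 : act 2 n12554 = n16869 := rfl
theorem F29757 : act 0 n16869 = n12555 := d1_1 D16869 (iv D12555) D12554
theorem F29758 : act 5 n16869 = n15160 := d13_2 F22257 D16869 (iv D15160)
def n16870 : Q := act 1 n12555
theorem D16870 : act 1 n12555 = n16870 := rfl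
theorem F29759 : act 2 n16870 = n12558 := d6_2 D12555 D16870 (iv D12558) (iv D10200) D10199
def n16871 : Q := act 3 n12555
theorem D16871 : act 3 n12555 = n16871 := rfl
def n16872 : Q := act 5 n12555
theorem D16872 : act 5 n12555 = n16872 := rfl
theorem F29760 : act 0 n16872 = n15160 := d4_1 D16872 (iv F29758) F29757
theorem F29761 : act 2 n16872 = n12556 := d13_1 D16872 (iv D12556) D12555
theorem F29762 : act 6 n16749 = n16872 := d14_0 F29761 F22127 D16749
def n16873 : Q := act 6 n12555
theorem D16873 : act 6 n12555 = n16873 := rfl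
theorem F29763 : act 2 n16873 = n12557 := d14_1 D16873 (iv D12557) D12555
def n16874 : Q := act 0 n12558
theorem D16874 : act 0 n12558 = n16874 := rfl
def n16875 : Q := act 3 n12558
theorem D16875 : act 3 n12558 = n16875 := rfl
theorem F29764 : act 1 n16875 = n12559 := d7_1 D16875 (iv D12559) D12558
def n16876 : Q := act 5 n12558
theorem D16876 : act 5 n12558 = n16876 := rfl
def n16877 : Q := act 6 n12558
theorem D16877 : act 6 n12558 = n16877 := rfl
theorem F29765 : act 1 n16877 = n12585 := d10_1 D16877 (iv D12585) (iv D10211) (iv F18058) D12558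
def n16878 : Q := act 2 n12559
theorem D16878 : act 2 n12559 = n16878 := rfl
theorem F29766 : act 0 n16878 = n12560 := d1_1 D16878 (iv D12560) (iv F22054)
theorem F29767 : act 6 n16878 = n12586 := d14_2 (iv F22055) D16878 (iv D12586)
theorem F29768 : act 3 n16878 = n12702 := d21_1 D16878 F22283 F18125 F8440 F4194 D5539 D10201 (iv F22054)
def n16879 : Q := act 4 n12559
theorem D16879 : act 4 n12559 = n16879 := rfl
theorem F29769 : act 0 n16879 = n12561 := d3_1 D16879 (iv D12561) (iv F22054)
theorem F29770 : act 6 n16879 = n12587 := d19_2 (iv F22055) D16879 (iv D12587)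
def n16880 : Q := act 1 n12560
theorem D16880 : act 1 n12560 = n16880 := rfl
def n16881 : Q := act 3 n12560
theorem D16881 : act 3 n12560 = n16881 := rfl
theorem F29771 : act 0 n16881 = n12702 := d2_1 D16881 (iv F29768) F29766
theorem F29772 : act 2 n16881 = n12697 := d11_1 D16881 F22279 F18121 F8437 D10200 D12559 D16878 F29768 F22283 F18125 F8440 F4194 D5539 D10201 D12560
theorem F29773 : act 6 n16881 = n12592 := d17_2 (iv F22056) D16881 (iv D12592)
def n16882 : Q := act 4 n12560
theorem D16882 : act 4 n12560 = n16882 := rfl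
theorem F29774 : act 2 n16882 = n12561 := d12_1 D16882 (iv D12561) D12560
theorem F29775 : act 6 n16882 = n12593 := d19_2 (iv F22056) D16882 (iv D12593)
def n16883 : Q := act 5 n12560
theorem D16883 : act 5 n12560 = n16883 := rfl
theorem F29776 : act 2 n16883 = n12562 := d13_1 D16883 (iv D12562) D12560
def n16884 : Q := act 5 n12561
theorem D16884 : act 5 n12561 = n16884 := rfl
theorem F29777 : act 4 n16884 = n12562 := d18_1 D16884 (iv D12562) D12561
def n16885 : Q := act 1 n12562
theorem D16885 : act 1 n12562 = n16885 := rfl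
theorem F29778 : act 3 n16885 = n12563 := d7_2 (iv F22058) D16885 (iv D12563)
def n16886 : Q := act 0 n12563
theorem D16886 : act 0 n12563 = n16886 := rfl
def n16887 : Q := act 2 n12563
theorem D16887 : act 2 n12563 = n16887 := rfl
theorem F29779 : act 1 n16887 = n12565 := d6_1 D16887 (iv D12565) (iv D10203) (iv F18060) D12563
def n16888 : Q := act 6 n12563
theorem D16888 : act 6 n12563 = n16888 := rfl
def n16889 : Q := act 2 n12564
theorem D16889 : act 2 n12564 = n16889 := rfl
theorem F29780 : act 0 n16889 = n12565 := d1_1 D16889 (iv D12565) D12564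
theorem F29781 : act 5 n16889 = n12568 := d13_2 (iv F22059) D16889 (iv D12568)
def n16890 : Q := act 3 n12565
theorem D16890 : act 3 n12565 = n16890 := rfl
theorem F29782 : act 5 n16890 = n12570 := d16_2 (iv F22060) D16890 (iv D12570)
def n16891 : Q := act 6 n12565
theorem D16891 : act 6 n12565 = n16891 := rfl
theorem F29783 : act 2 n16891 = n12566 := d14_1 D16891 (iv D12566) D12565
def n16892 : Q := act 1 n12568
theorem D16892 : act 1 n12568 = n16892 := rfl
def n16893 : Q := act 3 n12568
theorem D16893 : act 3 n12568 = n16893 := rfl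
theorem F29784 : act 0 n16893 = n12570 := d2_1 D16893 (iv D12570) (iv F22061)
def n16894 : Q := act 6 n12568
theorem D16894 : act 6 n12568 = n16894 := rfl
theorem F29785 : act 0 n16894 = n12571 := d5_1 D16894 (iv D12571) (iv F22061)
theorem F29786 : act 2 n16894 = n12569 := d14_1 D16894 (iv D12569) D12568
theorem F29787 : act 5 n16894 = n16891 := d22_2 F29781 D16894 (iv D16891) (iv F29780)
def n16895 : Q := act 2 n12570
theorem D16895 : act 2 n12570 = n16895 := rfl
def n16896 : Q := act 4 n12570
theorem D16896 : act 4 n12570 = n16896 := rfl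
def n16897 : Q := act 6 n12570
theorem D16897 : act 6 n12570 = n16897 := rfl
theorem F29788 : act 3 n16897 = n12571 := d17_1 D16897 (iv D12571) D12570
def n16898 : Q := act 1 n12571
theorem D16898 : act 1 n12571 = n16898 := rfl
theorem F29789 : act 2 n16898 = n16655 := d6_2 (iv F22085) D16898 (iv D16655) F21875 (iv F18062)
def n16899 : Q := act 5 n12571
theorem D16899 : act 5 n12571 = n16899 := rfl
theorem F29790 : act 0 n16899 = n16891 := d4_1 D16899 (iv F29787) F29785
theorem F29791 : act 2 n16899 = n12572 := d13_1 D16899 (iv D12572) (iv F22085)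
theorem F29792 : act 6 n16899 = n16889 := d20_2 D12571 D16899 F29781 D16894 F29787 (iv D16891) F22060
def n16900 : Q := act 1 n12573
theorem D16900 : act 1 n12573 = n16900 := rfl
def n16901 : Q := act 3 n12573
theorem D16901 : act 3 n12573 = n16901 := rfl
theorem F29793 : act 0 n16901 = n12577 := d2_1 D16901 (iv D12577) (iv F22088)
def n16902 : Q := act 5 n12573
theorem D16902 : act 5 n12573 = n16902 := rfl
theorem F29794 : act 0 n16902 = n12578 := d4_1 D16902 (iv D12578) (iv F22088)
theorem F29795 : act 2 n16902 = n12574 := d13_1 D16902 (iv D12574) D12573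
def n16903 : Q := act 6 n12573
theorem D16903 : act 6 n12573 = n16903 := rfl
theorem F29796 : act 0 n16903 = n12579 := d5_1 D16903 (iv D12579) (iv F22088)
theorem F29797 : act 2 n16903 = n12575 := d14_1 D16903 (iv D12575) D12573
theorem F29798 : act 5 n16903 = n16642 := d22_2 (iv D16902) D16903 F29391 (iv F29794)
def n16904 : Q := act 0 n12576
theorem D16904 : act 0 n12576 = n16904 := rfl
theorem F29799 : act 2 n16904 = n12582 := d1_2 (iv F22091) D16904 (iv D12582)
def n16905 : Q := act 3 n12576
theorem D16905 : act 3 n12576 = n16905 := rfl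
theorem F29800 : act 1 n16905 = n12577 := d7_1 D16905 (iv D12577) D12576
def n16906 : Q := act 5 n12576
theorem D16906 : act 5 n12576 = n16906 := rfl
theorem F29801 : act 2 n16906 = n12584 := d13_1 D16906 (iv D12584) (iv F22091)
def n16907 : Q := act 6 n12576
theorem D16907 : act 6 n12576 = n16907 := rfl
theorem F29802 : act 2 n16907 = n12585 := d14_1 D16907 (iv D12585) (iv F22091)
def n16908 : Q := act 2 n12577
theorem D16908 : act 2 n12577 = n16908 := rfl
def n16909 : Q := act 4 n12577
theorem D16909 : act 4 n12577 = n16909 := rfl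
def n16910 : Q := act 5 n12577
theorem D16910 : act 5 n12577 = n16910 := rfl
theorem F29803 : act 3 n16910 = n12578 := d16_1 D16910 (iv D12578) D12577
def n16911 : Q := act 6 n12577
theorem D16911 : act 6 n12577 = n16911 := rfl
theorem F29804 : act 3 n16911 = n12579 := d17_1 D16911 (iv D12579) D12577
def n16912 : Q := act 1 n12578
theorem D16912 : act 1 n12578 = n16912 := rfl
def n16913 : Q := act 1 n12579
theorem D16913 : act 1 n12579 = n16913 := rfl
def n16914 : Q := act 5 n12579
theorem D16914 : act 5 n12579 = n16914 := rfl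
theorem F29805 : act 0 n16914 = n16642 := d4_1 D16914 (iv F29798) F29796
theorem F29806 : act 2 n16914 = n12581 := d13_1 D16914 (iv D12581) (iv F22093)
theorem F29807 : act 6 n16914 = n16902 := d20_2 D12579 D16914 (iv D16902) D16903 F29798 F29391 (iv D12578)
def n16915 : Q := act 2 n12580
theorem D16915 : act 2 n12580 = n16915 := rfl
theorem F29808 : act 5 n16915 = n12590 := d13_2 (iv F22094) D16915 (iv D12590)
theorem F29809 : act 6 n16915 = n16609 := d14_2 F22095 D16915 (iv D16609)
def n16916 : Q := act 1 n12582
theorem D16916 : act 1 n12582 = n16916 := rfl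
theorem F29810 : act 0 n16916 = n12737 := d0_1 D16916 (iv D12737) (iv D10286) (iv D5604) F4213 (iv F4180) (iv F8413) D10211 D12582
def n16917 : Q := act 3 n12582
theorem D16917 : act 3 n12582 = n16917 := rfl
theorem F29811 : act 0 n16917 = n12583 := d2_1 D16917 (iv D12583) D12582
def n16918 : Q := act 5 n12582
theorem D16918 : act 5 n12582 = n16918 := rfl
theorem F29812 : act 0 n16918 = n12584 := d4_1 D16918 (iv D12584) D12582
def n16919 : Q := act 6 n12582
theorem D16919 : act 6 n12582 = n16919 := rfl
theorem F29813 : act 0 n16919 = n12585 := d5_1 D16919 (iv D12585) D12582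
def n16920 : Q := act 2 n12583
theorem D16920 : act 2 n12583 = n16920 := rfl
def n16921 : Q := act 4 n12583
theorem D16921 : act 4 n12583 = n16921 := rfl
theorem F29814 : act 1 n16921 = n12587 := d8_1 D16921 (iv D12587) (iv F22107)
def n16922 : Q := act 5 n12583
theorem D16922 : act 5 n12583 = n16922 := rfl
theorem F29815 : act 3 n16922 = n12584 := d16_1 D16922 (iv D12584) D12583
def n16923 : Q := act 6 n12583
theorem D16923 : act 6 n12583 = n16923 := rfl
theorem F29816 : act 3 n16923 = n12585 := d17_1 D16923 (iv D12585) D12583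
def n16924 : Q := act 1 n12584
theorem D16924 : act 1 n12584 = n16924 := rfl
theorem F29817 : act 5 n16924 = n12589 := d9_2 D12584 D16924 (iv D12589) (iv D10213) D10211
def n16925 : Q := act 6 n12584
theorem D16925 : act 6 n12584 = n16925 := rfl
theorem F29818 : act 5 n16925 = n16919 := d22_2 D12584 D16925 (iv D16919) (iv D12582)
def n16926 : Q := act 5 n12585
theorem D16926 : act 5 n12585 = n16926 := rfl
theorem F29819 : act 0 n16926 = n16925 := d4_1 D16926 F29818 F29813
theorem F29820 : act 6 n16926 = n16918 := d20_2 D12585 D16926 (iv D16918) D16919 (iv F29818) (iv D16925) (iv D12584)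
def n16927 : Q := act 1 n12586
theorem D16927 : act 1 n12586 = n16927 := rfl
theorem F29821 : act 3 n16927 = n12700 := d7_2 (iv F22109) D16927 (iv D12700)
def n16928 : Q := act 4 n12586
theorem D16928 : act 4 n12586 = n16928 := rfl
theorem F29822 : act 0 n16928 = n12593 := d3_1 D16928 (iv D12593) (iv F22108)
theorem F29823 : act 2 n16928 = n12587 := d12_1 D16928 (iv D12587) D12586
def n16929 : Q := act 5 n12586
theorem D16929 : act 5 n12586 = n16929 := rfl
theorem F29824 : act 0 n16929 = n12594 := d4_1 D16929 (iv D12594) (iv F22108)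
theorem F29825 : act 2 n16929 = n12588 := d13_1 D16929 (iv D12588) D12586
theorem F29826 : act 3 n16929 = n12671 := d16_1 D16929 F22234 (iv F22109)
theorem F29827 : act 6 n16929 = n16883 := d22_1 D16929 (iv D16883) F22056 (iv F22108)
def n16930 : Q := act 5 n12587
theorem D16930 : act 5 n12587 = n16930 := rfl
theorem F29828 : act 0 n16930 = n12595 := d4_1 D16930 (iv D12595) (iv F22110)
theorem F29829 : act 4 n16930 = n12588 := d18_1 D16930 (iv D12588) D12587
theorem F29830 : act 6 n16930 = n16884 := d22_1 D16930 (iv D16884) F22057 (iv F22110)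
def n16931 : Q := act 2 n12589
theorem D16931 : act 2 n12589 = n16931 := rfl
theorem F29831 : act 1 n16931 = n12590 := d6_1 D16931 (iv D12590) (iv D10214) (iv F18065) D12589
def n16932 : Q := act 6 n12589
theorem D16932 : act 6 n12589 = n16932 := rfl
theorem F29832 : act 1 n16932 = n16888 := d10_1 D16932 (iv D16888) (iv D12563) (iv F18066) D12589
def n16933 : Q := act 3 n12590
theorem D16933 : act 3 n12590 = n16933 := rfl
def n16934 : Q := act 0 n12591
theorem D16934 : act 0 n12591 = n16934 := rfl
theorem F29833 : act 2 n16934 = n12747 := d1_2 (iv F22114) D16934 (iv D12747)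
def n16935 : Q := act 3 n12591
theorem D16935 : act 3 n12591 = n16935 := rfl
theorem F29834 : act 1 n16935 = n12592 := d7_1 D16935 (iv D12592) D12591
def n16936 : Q := act 4 n12591
theorem D16936 : act 4 n12591 = n16936 := rfl
theorem F29835 : act 1 n16936 = n12593 := d8_1 D16936 (iv D12593) D12591
theorem F29836 : act 2 n16936 = n12748 := d12_1 D16936 (iv D12748) (iv F22114)
def n16937 : Q := act 5 n12591
theorem D16937 : act 5 n12591 = n16937 := rfl
theorem F29837 : act 2 n16937 = n12749 := d13_1 D16937 (iv D12749) (iv F22114)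
def n16938 : Q := act 6 n12591
theorem D16938 : act 6 n12591 = n16938 := rfl
theorem F29838 : act 2 n16938 = n12750 := d14_1 D16938 (iv D12750) (iv F22114)
def n16939 : Q := act 4 n12592
theorem D16939 : act 4 n12592 = n16939 := rfl
theorem F29839 : act 0 n16939 = n12701 := d3_1 D16939 (iv D12701) (iv F22115)
theorem F29840 : act 2 n16939 = n12696 := d12_1 D16939 (iv D12696) (iv F22116)
def n16940 : Q := act 5 n12592
theorem D16940 : act 5 n12592 = n16940 := rfl
theorem F29841 : act 0 n16940 = n12671 := d4_1 D16940 F22234 (iv F22115)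
theorem F29842 : act 2 n16940 = n12670 := d13_1 D16940 F22233 (iv F22116)
theorem F29843 : act 3 n16940 = n12594 := d16_1 D16940 (iv D12594) D12592
def n16941 : Q := act 3 n12593
theorem D16941 : act 3 n12593 = n16941 := rfl
def n16942 : Q := act 5 n12593
theorem D16942 : act 5 n12593 = n16942 := rfl
theorem F29844 : act 2 n16942 = n12595 := d13_1 D16942 (iv D12595) (iv F22117)
theorem F29845 : act 4 n16942 = n12594 := d18_1 D16942 (iv D12594) D12593
def n16943 : Q := act 1 n12594
theorem D16943 : act 1 n12594 = n16943 := rfl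
def n16944 : Q := act 6 n12594
theorem D16944 : act 6 n12594 = n16944 := rfl
theorem F29846 : act 0 n16944 = n16883 := d5_1 D16944 (iv F29827) F29824
theorem F29847 : act 2 n16944 = n12596 := d14_1 D16944 (iv D12596) (iv F22118)
theorem F29848 : act 5 n16944 = n16878 := d20_1 D16944 F29767 D16929 F29827 (iv D16883) F22056 D12594
def n16945 : Q := act 6 n12595
theorem D16945 : act 6 n12595 = n16945 := rfl
theorem F29849 : act 0 n16945 = n16884 := d5_1 D16945 (iv F29830) F29828
theorem F29850 : act 4 n16945 = n12596 := d19_1 D16945 (iv D12596) (iv F22119)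
theorem F29851 : act 5 n16945 = n16879 := d20_1 D16945 F29770 D16930 F29830 (iv D16884) F22057 D12595
def n16946 : Q := act 1 n12596
theorem D16946 : act 1 n12596 = n16946 := rfl
theorem F29852 : act 3 n16946 = n12597 := d7_2 (iv F22121) D16946 (iv D12597)
def n16947 : Q := act 0 n12597
theorem D16947 : act 0 n12597 = n16947 := rfl
def n16948 : Q := act 2 n12597
theorem D16948 : act 2 n12597 = n16948 := rfl
theorem F29853 : act 1 n16948 = n12599 := d6_1 D16948 (iv D12599) (iv D10219) (iv F18070) D12597
def n16949 : Q := act 5 n12597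
theorem D16949 : act 5 n12597 = n16949 := rfl
theorem F29854 : act 1 n16949 = n16876 := d9_1 D16949 (iv D16876) (iv D12558) (iv F18071) D12597
def n16950 : Q := act 2 n12598
theorem D16950 : act 2 n12598 = n16950 := rfl
theorem F29855 : act 0 n16950 = n12599 := d1_1 D16950 (iv D12599) D12598
theorem F29856 : act 6 n16950 = n15316 := d14_2 (iv F22123) D16950 (iv D15316)
def n16951 : Q := act 3 n12599
theorem D16951 : act 3 n12599 = n16951 := rfl
theorem F29857 : act 6 n16951 = n15317 := d17_2 (iv F22124) D16951 (iv D15317)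
def n16952 : Q := act 5 n12599
theorem D16952 : act 5 n12599 = n16952 := rfl
theorem F29858 : act 2 n16952 = n12600 := d13_1 D16952 (iv D12600) D12599
theorem F29859 : act 6 n16952 = n16778 := d22_1 D16952 F29593 (iv F29856) F29855
def n16953 : Q := act 2 n12605
theorem D16953 : act 2 n12605 = n16953 := rfl
theorem F29860 : act 0 n16953 = n15153 := d1_1 D16953 (iv F26433) F26431
theorem F29861 : act 1 n16953 = n14785 := d6_1 D16953 F26618 (iv D15287) F23440 D12605
theorem F29862 : act 6 n16953 = n15152 := d14_2 (iv F22144) D16953 F26416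
def n16954 : Q := act 2 n12606
theorem D16954 : act 2 n12606 = n16954 := rfl
theorem F29863 : act 0 n16954 = n15150 := d1_1 D16954 (iv D15150) (iv F22139)
theorem F29864 : act 5 n16954 = n16826 := d13_2 (iv F22141) D16954 (iv D16826)
theorem F29865 : act 6 n16954 = n16551 := d14_2 (iv F22142) D16954 (iv D16551)
def n16956 : Q := act 4 n12608
theorem D16956 : act 4 n12608 = n16956 := rfl
theorem F29867 : act 1 n16956 = n12612 := d8_1 D16956 (iv D12612) (iv F22146)
def n16957 : Q := act 5 n12608
theorem D16957 : act 5 n12608 = n16957 := rfl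
theorem F29868 : act 3 n16957 = n12609 := d16_1 D16957 (iv D12609) D12608
def n16958 : Q := act 6 n12608
theorem D16958 : act 6 n12608 = n16958 := rfl
theorem F29869 : act 3 n16958 = n12610 := d17_1 D16958 (iv D12610) D12608
def n16959 : Q := act 1 n12609
theorem D16959 : act 1 n12609 = n16959 := rfl
theorem F29870 : act 5 n16959 = n12615 := d9_2 D12609 D16959 (iv D12615) (iv D10225) D10223
def n16960 : Q := act 6 n12609
theorem D16960 : act 6 n12609 = n16960 := rfl
theorem F29871 : act 2 n16960 = n12631 := d14_1 D16960 (iv D12631) (iv F22147)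
theorem F29872 : act 5 n16960 = n15380 := d22_2 D12609 D16960 (iv D15380) F23449
def n16962 : Q := act 5 n12610
theorem D16962 : act 5 n12610 = n16962 := rfl
theorem F29874 : act 0 n16962 = n16960 := d4_1 D16962 F29872 F26739
theorem F29875 : act 2 n16962 = n12632 := d13_1 D16962 (iv D12632) (iv F22148)
theorem F29876 : act 6 n16962 = n15379 := d20_2 D12610 D16962 (iv D15379) D15380 (iv F29872) (iv D16960) (iv D12609)
def n16963 : Q := act 5 n12612
theorem D16963 : act 5 n12612 = n16963 := rfl
theorem F29877 : act 2 n16963 = n16963 := d13_1 D16963 (iv D16963) F23447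
theorem F29878 : act 4 n16963 = n12613 := d18_1 D16963 (iv D12613) D12612
def n16964 : Q := act 6 n12612
theorem D16964 : act 6 n12612 = n16964 := rfl
theorem F29880 : act 4 n16964 = n12614 := d19_1 D16964 (iv D12614) D12612
def n16965 : Q := act 1 n12613
theorem D16965 : act 1 n12613 = n16965 := rfl
theorem F29881 : act 3 n16965 = n12615 := d7_2 (iv F22149) D16965 (iv D12615)
def n16966 : Q := act 6 n12613
theorem D16966 : act 6 n12613 = n16966 := rfl
theorem F29882 : act 2 n16966 = n16966 := d14_1 D16966 (iv D16966) F23448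
theorem F29883 : act 3 n16966 = n12616 := d17_1 D16966 (iv D12616) (iv F22149)
theorem F29884 : act 5 n16966 = n15286 := d22_2 D12613 D16966 (iv D15286) F23436
def n16968 : Q := act 5 n12614
theorem D16968 : act 5 n12614 = n16968 := rfl
theorem F29888 : act 3 n16968 = n12618 := d16_1 D16968 (iv D12618) (iv F22150)
theorem F29889 : act 6 n16968 = n15285 := d20_2 D12614 D16968 (iv D15285) D15286 (iv F29884) (iv D16966) (iv D12613)
def n16969 : Q := act 0 n12615
theorem D16969 : act 0 n12615 = n16969 := rfl
def n16970 : Q := act 2 n12615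
theorem D16970 : act 2 n12615 = n16970 := rfl
theorem F29890 : act 1 n16970 = n12620 := d6_1 D16970 (iv D12620) (iv D10227) (iv F18077) D12615
def n16971 : Q := act 6 n12615
theorem D16971 : act 6 n12615 = n16971 := rfl
def n16972 : Q := act 1 n12616
theorem D16972 : act 1 n12616 = n16972 := rfl
def n16975 : Q := act 1 n12618
theorem D16975 : act 1 n12618 = n16975 := rfl
def n16976 : Q := act 2 n12619
theorem D16976 : act 2 n12619 = n16976 := rfl
theorem F29891 : act 0 n16976 = n12620 := d1_1 D16976 (iv D12620) D12619
theorem F29892 : act 5 n16976 = n12642 := d13_2 (iv F22157) D16976 (iv D12642)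
theorem F29893 : act 6 n16976 = n15201 := d14_2 F22158 D16976 (iv D15201)
def n16977 : Q := act 3 n12620
theorem D16977 : act 3 n12620 = n16977 := rfl
theorem F29894 : act 5 n16977 = n12643 := d16_2 (iv F22159) D16977 (iv D12643)
def n16978 : Q := act 6 n12620
theorem D16978 : act 6 n12620 = n16978 := rfl
theorem F29895 : act 0 n16978 = n15201 := d5_1 D16978 (iv F29893) F29891
theorem F29896 : act 2 n16978 = n12621 := d14_1 D16978 (iv D12621) D12620
theorem F29897 : act 5 n16978 = n16795 := d20_1 D16978 F29623 (iv F29892) F29893 F26482 (iv D12644) (iv F22159)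
def n16979 : Q := act 2 n12622
theorem D16979 : act 2 n12622 = n16979 := rfl
theorem F29898 : act 0 n16979 = n15181 := d1_1 D16979 F26452 (iv F22164)
theorem F29899 : act 6 n16979 = n15177 := d14_2 (iv F22166) D16979 (iv D15177)
def n16980 : Q := act 2 n12623
theorem D16980 : act 2 n12623 = n16980 := rfl
theorem F29900 : act 0 n16980 = n12626 := d1_1 D16980 (iv D12626) (iv F22167)
theorem F29901 : act 3 n15903 = n16980 := d25_1 D15903 (iv D16980) (iv D12623) (iv F23450) (iv D11752) D11753 D15381 (iv F26991) F26992 (iv D11840) D11841 F20932 (iv D9751) F7203 (iv D2361) (iv F3723) (iv D2359) (iv D1148) (iv D576) D575 F1076 F16792 F1076 F16792 (iv D575) F570 F288 F15710 (iv F243) D251 (iv F916) D954 F16474 (iv D1814) (iv D899) (iv D455) (iv F872) (iv F1565) F1566 F869 F16572 (iv F976) F975 F976 (iv F869) D879 (iv F2865) F16908 F3018 F16897 (iv D951) (iv F1653) (iv F3041) D3936 D8249 (iv F12391) (iv F19619) (iv D11081) F12389 (iv F15787) (iv F17662) (iv D9936) D9937 F17665 (iv D9937) (iv D5092) F3858 (iv D1198) F1120 F603 (iv F1120) (iv F2012)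 D2455 D5092 D9937 F17665 (iv F21215)
theorem F29902 : act 1 n16980 = n15895 := d7_1 F29901 F27477 (iv F27490)
theorem F29903 : act 4 n16980 = n15892 := d15_2 D15903 F29901 (iv D15892) F21206 D12019
def n16981 : Q := act 4 n12623
theorem D16981 : act 4 n12623 = n16981 := rfl
theorem F29904 : act 0 n16981 = n12627 := d3_1 D16981 (iv D12627) (iv F22167)
theorem F29905 : act 1 n16981 = n16981 := d8_1 D16981 (iv D16981) F22168
theorem F29906 : act 2 n16981 = n15892 := d12_1 D16981 (iv F29903) (iv D16980)
def n16982 : Q := act 5 n12623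
theorem D16982 : act 5 n12623 = n16982 := rfl
theorem F29907 : act 0 n16982 = n12628 := d4_1 D16982 (iv D12628) (iv F22167)
theorem F29908 : act 3 n16982 = n12624 := d16_1 D16982 (iv D12624) D12623
def n16983 : Q := act 6 n12623
theorem D16983 : act 6 n12623 = n16983 := rfl
theorem F29909 : act 0 n16983 = n12629 := d5_1 D16983 (iv D12629) (iv F22167)
theorem F29910 : act 3 n16983 = n12625 := d17_1 D16983 (iv D12625) D12623
def n16984 : Q := act 1 n12624
theorem D16984 : act 1 n12624 = n16984 := rfl
theorem F29911 : act 5 n16984 = n16984 := d9_2 D12624 D16984 (iv D16984) (iv D12624) F18083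
def n16985 : Q := act 1 n12625
theorem D16985 : act 1 n12625 = n16985 := rfl
theorem F29912 : act 6 n16985 = n16985 := d10_2 D12625 D16985 (iv D16985) (iv D12625) F18083
def n16986 : Q := act 1 n12626
theorem D16986 : act 1 n12626 = n16986 := rfl
theorem F29913 : act 2 n16986 = n12633 := d6_2 D12626 D16986 (iv D12633) (iv D10234) (iv F18084)
def n16987 : Q := act 3 n12626
theorem D16987 : act 3 n12626 = n16987 := rfl
theorem F29914 : act 0 n16987 = n15903 := d2_1 D16987 F29901 F29900
theorem F29915 : act 4 n15899 = n16987 := d3_0 F29914 (iv D15903) (iv F27484)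
def n16988 : Q := act 4 n12626
theorem D16988 : act 4 n12626 = n16988 := rfl
theorem F29916 : act 0 n16988 = n15892 := d3_1 D16988 (iv F29903) F29900
theorem F29917 : act 2 n16988 = n12627 := d12_1 D16988 (iv D12627) D12626
theorem F29918 : act 3 n16988 = n15891 := d15_1 D16988 F27468 D15899 F29915 (iv D16987)
def n16989 : Q := act 5 n12626
theorem D16989 : act 5 n12626 = n16989 := rfl
theorem F29919 : act 2 n16989 = n12628 := d13_1 D16989 (iv D12628) D12626
def n16990 : Q := act 6 n12626
theorem D16990 : act 6 n12626 = n16990 := rfl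
theorem F29920 : act 2 n16990 = n12629 := d14_1 D16990 (iv D12629) D12626
def n16991 : Q := act 5 n12627
theorem D16991 : act 5 n12627 = n16991 := rfl
theorem F29921 : act 4 n16991 = n12628 := d18_1 D16991 (iv D12628) D12627
def n16992 : Q := act 6 n12627
theorem D16992 : act 6 n12627 = n16992 := rfl
theorem F29922 : act 4 n16992 = n12629 := d19_1 D16992 (iv D12629) D12627
def n16993 : Q := act 1 n12628
theorem D16993 : act 1 n12628 = n16993 := rfl
theorem F29923 : act 3 n16993 = n12630 := d7_2 (iv F22172) D16993 (iv D12630)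
theorem F29924 : act 5 n16993 = n12637 := d9_2 D12628 D16993 (iv D12637) (iv D10236) (iv F18084)
def n16994 : Q := act 6 n12628
theorem D16994 : act 6 n12628 = n16994 := rfl
theorem F29925 : act 3 n16994 = n12631 := d17_1 D16994 (iv D12631) (iv F22172)
theorem F29926 : act 5 n16994 = n16983 := d22_2 D12628 D16994 (iv D16983) F22167
def n16995 : Q := act 5 n12629
theorem D16995 : act 5 n12629 = n16995 := rfl
theorem F29927 : act 0 n16995 = n16994 := d4_1 D16995 F29926 F29909
theorem F29928 : act 3 n16995 = n12632 := d16_1 D16995 (iv D12632) (iv F22173)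
theorem F29929 : act 6 n16995 = n16982 := d20_2 D12629 D16995 (iv D16982) D16983 (iv F29926) (iv D16994) (iv D12628)
def n16996 : Q := act 0 n12630
theorem D16996 : act 0 n12630 = n16996 := rfl
theorem F29930 : act 5 n16996 = n12638 := d4_2 (iv F22174) D16996 (iv D12638)
def n16997 : Q := act 2 n12630
theorem D16997 : act 2 n12630 = n16997 := rfl
theorem F29931 : act 5 n16997 = n12639 := d13_2 (iv F22174) D16997 (iv D12639)
def n16998 : Q := act 6 n12630
theorem D16998 : act 6 n12630 = n16998 := rfl
def n16999 : Q := act 1 n12631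
theorem D16999 : act 1 n12631 = n16999 := rfl
def n17000 : Q := act 1 n12632
theorem D17000 : act 1 n12632 = n17000 := rfl
def n17001 : Q := act 0 n12633
theorem D17001 : act 0 n12633 = n17001 := rfl
theorem F29932 : act 3 n17001 = n15297 := d2_2 (iv F22178) D17001 (iv D15297)
def n17002 : Q := act 4 n12633
theorem D17002 : act 4 n12633 = n17002 := rfl
theorem F29933 : act 1 n17002 = n12634 := d8_1 D17002 (iv D12634) D12633
def n17003 : Q := act 5 n12633
theorem D17003 : act 5 n12633 = n17003 := rfl
theorem F29934 : act 3 n17003 = n15299 := d16_1 D17003 (iv D15299) (iv F22178)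
def n17004 : Q := act 6 n12633
theorem D17004 : act 6 n12633 = n17004 := rfl
def n17005 : Q := act 3 n12634
theorem D17005 : act 3 n12634 = n17005 := rfl
theorem F29936 : act 0 n17005 = n12647 := d2_1 D17005 (iv D12647) (iv F22179)
theorem F29937 : act 4 n17005 = n15301 := d15_2 D12634 D17005 (iv D15301) (iv D11712) (iv F18086)
def n17006 : Q := act 5 n12634
theorem D17006 : act 5 n12634 = n17006 := rfl
theorem F29938 : act 0 n17006 = n12648 := d4_1 D17006 (iv D12648) (iv F22179)
theorem F29939 : act 2 n17006 = n12636 := d13_1 D17006 (iv D12636) (iv F22180)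
theorem F29940 : act 4 n17006 = n12635 := d18_1 D17006 (iv D12635) D12634
theorem F29941 : act 6 n17006 = n16738 := d22_1 D17006 (iv D16738) F21943 (iv F22179)
def n17007 : Q := act 1 n12635
theorem D17007 : act 1 n12635 = n17007 := rfl
theorem F29942 : act 3 n17007 = n15303 := d7_2 (iv F22183) D17007 (iv D15303)
def n17008 : Q := act 1 n12636
theorem D17008 : act 1 n12636 = n17008 := rfl
theorem F29943 : act 4 n17008 = n12637 := d8_2 (iv F22186) D17008 (iv D12637)
def n17009 : Q := act 0 n12637
theorem D17009 : act 0 n12637 = n17009 := rfl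
theorem F29944 : act 3 n17009 = n12638 := d2_2 (iv F22188) D17009 (iv D12638)
def n17010 : Q := act 2 n12637
theorem D17010 : act 2 n12637 = n17010 := rfl
def n17011 : Q := act 6 n12637
theorem D17011 : act 6 n12637 = n17011 := rfl
theorem F29945 : act 1 n17011 = n16743 := d10_1 D17011 (iv D16743) (iv D12474) (iv F18090) D12637
theorem F29946 : act 3 n17011 = n12640 := d17_1 D17011 (iv D12640) (iv F22188)
def n17012 : Q := act 1 n12638
theorem D17012 : act 1 n12638 = n17012 := rfl
def n17013 : Q := act 2 n12638
theorem D17013 : act 2 n12638 = n17013 := rfl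
theorem F29947 : act 0 n17013 = n12639 := d1_1 D17013 (iv D12639) D12638
def n17014 : Q := act 6 n12638
theorem D17014 : act 6 n12638 = n17014 := rfl
theorem F29948 : act 0 n17014 = n12640 := d5_1 D17014 (iv D12640) D12638
theorem F29949 : act 5 n17014 = n16998 := d22_2 F29930 D17014 (iv D16998) D16996
def n17015 : Q := act 3 n12639
theorem D17015 : act 3 n12639 = n17015 := rfl
theorem F29950 : act 1 n17015 = n12643 := d7_1 D17015 (iv D12643) (iv F22189)
def n17016 : Q := act 6 n12639
theorem D17016 : act 6 n12639 = n17016 := rfl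
theorem F29951 : act 2 n17016 = n12640 := d14_1 D17016 (iv D12640) D12639
def n17017 : Q := act 5 n12640
theorem D17017 : act 5 n12640 = n17017 := rfl
theorem F29952 : act 0 n17017 = n16998 := d4_1 D17017 (iv F29949) F29948
theorem F29953 : act 6 n17017 = n16996 := d20_2 D12640 D17017 F29930 D17014 F29949 (iv D16998) F22174
def n17018 : Q := act 2 n12641
theorem D17018 : act 2 n12641 = n17018 := rfl
theorem F29954 : act 5 n17018 = n16550 := d13_2 F22192 D17018 F28728
theorem F29955 : act 6 n17018 = n16779 := d14_2 (iv F22191) D17018 (iv D16779)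
def n17019 : Q := act 1 n12642
theorem D17019 : act 1 n12642 = n17019 := rfl
theorem F29956 : act 0 n17019 = n16906 := d23_3 F22157 D12642 D17019 (iv D16906) F22091 (iv D10211) F8413 D5546 F8417 F4181 (iv F7069) (iv D4642) D4641 D9591 (iv F23435) D10225 F18077 D10227 D12619
theorem F29957 : act 2 n16918 = n17019 := d23_1 D16918 (iv D17019) F22193 (iv F22159) (iv D12620) (iv D10227) (iv F18074) (iv D10221) (iv F23434) (iv D9591) F7068 D4644 F7073 (iv F4181) (iv F8414) (iv D5544) D5543 D10211 D12582
theorem F29958 : act 1 n17018 = n16918 := d6_5 F29957 (iv D17019) (iv D12642) D12641 D17018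
theorem F29959 : act 5 n17019 = n16904 := d13_2 D16918 F29957 F29799
def n17020 : Q := act 3 n12642
theorem D17020 : act 3 n12642 = n17020 := rfl
theorem F29960 : act 0 n17020 = n12643 := d2_1 D17020 (iv D12643) (iv F22193)
def n17021 : Q := act 2 n12643
theorem D17021 : act 2 n12643 = n17021 := rfl
def n17022 : Q := act 4 n12643
theorem D17022 : act 4 n12643 = n17022 := rfl
def n17023 : Q := act 6 n12643
theorem D17023 : act 6 n12643 = n17023 := rfl
theorem F29961 : act 3 n17023 = n12644 := d17_1 D17023 (iv D12644) D12643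
def n17024 : Q := act 1 n12644
theorem D17024 : act 1 n12644 = n17024 := rfl
theorem F29962 : act 2 n17024 = n16756 := d6_2 (iv F22194) D17024 (iv D16756) F21954 (iv F18091)
def n17025 : Q := act 3 n12645
theorem D17025 : act 3 n12645 = n17025 := rfl
theorem F29963 : act 0 n17025 = n15301 := d2_1 D17025 (iv D15301) (iv F22195)
theorem F29964 : act 1 n17025 = n17025 := d7_1 D17025 (iv D17025) F22196
theorem F29965 : act 4 n17025 = n12647 := d15_2 D12645 D17025 (iv D12647) (iv D10242) D10241
def n17026 : Q := act 5 n12645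
theorem D17026 : act 5 n12645 = n17026 := rfl
theorem F29966 : act 0 n17026 = n15302 := d4_1 D17026 (iv D15302) (iv F22195)
theorem F29967 : act 2 n17026 = n15288 := d13_1 D17026 (iv D15288) (iv F22197)
theorem F29968 : act 4 n17026 = n12646 := d18_1 D17026 (iv D12646) D12645
def n17027 : Q := act 1 n12646
theorem D17027 : act 1 n12646 = n17027 := rfl
theorem F29969 : act 3 n17027 = n12649 := d7_2 (iv F22200) D17027 (iv D12649)
theorem F29970 : act 5 n17027 = n17027 := d9_2 D12646 D17027 (iv D17027) (iv D12646) F18093
def n17028 : Q := act 2 n12647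
theorem D17028 : act 2 n12647 = n17028 := rfl
def n17029 : Q := act 5 n12647
theorem D17029 : act 5 n12647 = n17029 := rfl
theorem F29971 : act 3 n17029 = n12648 := d16_1 D17029 (iv D12648) D12647
def n17030 : Q := act 1 n12648
theorem D17030 : act 1 n12648 = n17030 := rfl
theorem F29972 : act 4 n17030 = n12649 := d8_2 (iv F22203) D17030 (iv D12649)
theorem F29973 : act 5 n17030 = n17030 := d9_2 D12648 D17030 (iv D17030) (iv D12648) F18095
def n17031 : Q := act 6 n12648
theorem D17031 : act 6 n12648 = n17031 := rfl
theorem F29974 : act 0 n17031 = n16738 := d5_1 D17031 (iv F29941) F29938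
theorem F29975 : act 2 n17031 = n12652 := d14_1 D17031 (iv D12652) (iv F22202)
theorem F29976 : act 4 n17031 = n12650 := d19_1 D17031 (iv D12650) (iv F22203)
theorem F29977 : act 5 n17031 = n16731 := d20_1 D17031 F29527 D17006 F29941 (iv D16738) F21943 D12648
def n17032 : Q := act 0 n12649
theorem D17032 : act 0 n12649 = n17032 := rfl
theorem F29978 : act 5 n17032 = n17032 := d4_2 F22204 D17032 (iv D17032)
def n17033 : Q := act 2 n12649
theorem D17033 : act 2 n12649 = n17033 := rfl
theorem F29979 : act 1 n17033 = n12654 := d6_1 D17033 (iv D12654) (iv D10245) (iv F18097) D12649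
theorem F29980 : act 5 n17033 = n17033 := d13_2 F22204 D17033 (iv D17033)
def n17034 : Q := act 6 n12649
theorem D17034 : act 6 n12649 = n17034 := rfl
def n17035 : Q := act 1 n12650
theorem D17035 : act 1 n12650 = n17035 := rfl
def n17036 : Q := act 0 n12651
theorem D17036 : act 0 n12651 = n17036 := rfl
theorem F29981 : act 4 n17036 = n12653 := d3_2 (iv F22208) D17036 (iv D12653)
theorem F29982 : act 5 n17036 = n12752 := d4_2 (iv F22209) D17036 (iv D12752)
def n17037 : Q := act 2 n12651
theorem D17037 : act 2 n12651 = n17037 := rfl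
theorem F29983 : act 4 n17037 = n12654 := d12_2 (iv F22208) D17037 (iv D12654)
theorem F29984 : act 5 n17037 = n12753 := d13_2 (iv F22209) D17037 (iv D12753)
def n17038 : Q := act 6 n12651
theorem D17038 : act 6 n12651 = n17038 := rfl
theorem F29985 : act 4 n17038 = n12655 := d19_1 D17038 (iv D12655) (iv F22208)
def n17039 : Q := act 1 n12652
theorem D17039 : act 1 n12652 = n17039 := rfl
theorem F29986 : act 4 n17039 = n12656 := d8_2 (iv F22211) D17039 (iv D12656)
def n17040 : Q := act 1 n12653
theorem D17040 : act 1 n12653 = n17040 := rfl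
theorem F29987 : act 3 n17040 = n12657 := d7_2 (iv F22213) D17040 (iv D12657)
def n17041 : Q := act 2 n12653
theorem D17041 : act 2 n12653 = n17041 := rfl
theorem F29988 : act 0 n17041 = n12654 := d1_1 D17041 (iv D12654) D12653
theorem F29989 : act 5 n17041 = n12756 := d13_2 (iv F22214) D17041 (iv D12756)
def n17043 : Q := act 6 n12654
theorem D17043 : act 6 n12654 = n17043 := rfl
theorem F29991 : act 2 n17043 = n12655 := d14_1 D17043 (iv D12655) D12654
def n17044 : Q := act 1 n12655
theorem D17044 : act 1 n12655 = n17044 := rfl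
theorem F29992 : act 3 n17044 = n12661 := d7_2 (iv F22216) D17044 (iv D12661)
theorem F29993 : act 6 n17044 = n12656 := d10_2 D12655 D17044 (iv D12656) (iv D10246) D10245
def n17045 : Q := act 0 n12656
theorem D17045 : act 0 n12656 = n17045 := rfl
theorem F29994 : act 3 n17045 = n12662 := d2_2 (iv F22217) D17045 (iv D12662)
def n17046 : Q := act 2 n12656
theorem D17046 : act 2 n12656 = n17046 := rfl
def n17047 : Q := act 5 n12656
theorem D17047 : act 5 n12656 = n17047 := rfl
theorem F29995 : act 1 n17047 = n16726 := d9_1 D17047 (iv D16726) F21930 (iv F18103) D12656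
theorem F29996 : act 3 n17047 = n12664 := d16_1 D17047 (iv D12664) (iv F22217)
def n17048 : Q := act 0 n12657
theorem D17048 : act 0 n12657 = n17048 := rfl
def n17049 : Q := act 2 n12657
theorem D17049 : act 2 n12657 = n17049 := rfl
def n17050 : Q := act 5 n12657
theorem D17050 : act 5 n12657 = n17050 := rfl
theorem F29997 : act 1 n17050 = n12763 := d9_1 D17050 (iv D12763) (iv D10297) (iv F18104) D12657
def n17051 : Q := act 6 n12657
theorem D17051 : act 6 n12657 = n17051 := rfl
def n17052 : Q := act 1 n12658
theorem D17052 : act 1 n12658 = n17052 := rfl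
def n17053 : Q := act 3 n12658
theorem D17053 : act 3 n12658 = n17053 := rfl
theorem F29998 : act 0 n17053 = n12659 := d2_1 D17053 (iv D12659) (iv F22218)
theorem F29999 : act 5 n17053 = n12766 := d16_2 (iv F22219) D17053 (iv D12766)
def n17054 : Q := act 2 n12659
theorem D17054 : act 2 n12659 = n17054 := rfl
theorem F30000 : act 5 n17054 = n12769 := d13_2 (iv F22221) D17054 (iv D12769)
def n17055 : Q := act 4 n12659
theorem D17055 : act 4 n12659 = n17055 := rfl
theorem F30001 : act 1 n17055 = n12672 := d8_1 D17055 (iv D12672) (iv F22220)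
theorem F30002 : act 5 n17055 = n12770 := d18_2 (iv F22221) D17055 (iv D12770)
def n17056 : Q := act 6 n12659
theorem D17056 : act 6 n12659 = n17056 := rfl
theorem F30003 : act 3 n17056 = n12660 := d17_1 D17056 (iv D12660) D12659
def n17057 : Q := act 1 n12660
theorem D17057 : act 1 n12660 = n17057 := rfl
theorem F30004 : act 6 n17057 = n12674 := d10_2 D12660 D17057 (iv D12674) (iv D10254) (iv F18105)
def n17058 : Q := act 0 n12661
theorem D17058 : act 0 n12661 = n17058 := rfl
theorem F30005 : act 6 n17058 = n12662 := d5_2 (iv F22223) D17058 (iv D12662)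
def n17059 : Q := act 2 n12661
theorem D17059 : act 2 n12661 = n17059 := rfl
theorem F30006 : act 6 n17059 = n12663 := d14_2 (iv F22223) D17059 (iv D12663)
def n17060 : Q := act 5 n12661
theorem D17060 : act 5 n12661 = n17060 := rfl
def n17061 : Q := act 1 n12662
theorem D17061 : act 1 n12662 = n17061 := rfl
def n17062 : Q := act 2 n12662
theorem D17062 : act 2 n12662 = n17062 := rfl
theorem F30007 : act 0 n17062 = n12663 := d1_1 D17062 (iv D12663) D12662
def n17063 : Q := act 5 n12662
theorem D17063 : act 5 n12662 = n17063 := rfl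
theorem F30008 : act 0 n17063 = n12664 := d4_1 D17063 (iv D12664) D12662
theorem F30009 : act 6 n17063 = n17060 := d22_1 D17063 (iv D17060) F22223 D12662
theorem F30010 : act 1 n16746 = n17063 := d24_14 F30009 (iv D17060) (iv D12661) (iv D10249) F8426 (iv D2714) F16682 (iv D1313) (iv F2179) (iv F4171) D5520 D10158 D12477 (iv F29551)
theorem E7269 : n17061 = n17017 := (c9_4 (iv F29551) F30010 (iv D17063) D17061 (iv D17017) F22190)
theorem F30011 : act 1 n17017 = n12662 := (sb E7269 (iv D17061))
def n17064 : Q := act 3 n12663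
theorem D17064 : act 3 n12663 = n17064 := rfl
theorem F30012 : act 1 n17064 = n12680 := d7_1 D17064 (iv D12680) (iv F22224)
def n17065 : Q := act 5 n12663
theorem D17065 : act 5 n12663 = n17065 := rfl
theorem F30013 : act 2 n17065 = n12664 := d13_1 D17065 (iv D12664) D12663
def n17066 : Q := act 6 n12664
theorem D17066 : act 6 n12664 = n17066 := rfl
theorem F30014 : act 0 n17066 = n17060 := d5_1 D17066 (iv F30009) F30008
theorem F30015 : act 5 n17066 = n17058 := d20_1 D17066 F30005 D17063 F30009 (iv D17060) F22223 D12664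
def n17067 : Q := act 2 n12665
theorem D17067 : act 2 n12665 = n17067 := rfl
theorem F30016 : act 0 n17067 = n12666 := d1_1 D17067 (iv D12666) D12665
theorem F30017 : act 6 n17067 = n15165 := d14_2 F22227 D17067 (iv D15165)
def n17068 : Q := act 1 n12666
theorem D17068 : act 1 n12666 = n17068 := rfl
theorem F30018 : act 2 n17068 = n12669 := d6_2 D12666 D17068 (iv D12669) (iv D10252) D10251
def n17069 : Q := act 3 n12666
theorem D17069 : act 3 n12666 = n17069 := rfl
def n17070 : Q := act 5 n12666
theorem D17070 : act 5 n12666 = n17070 := rfl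
theorem F30019 : act 2 n17070 = n12667 := d13_1 D17070 (iv D12667) D12666
def n17071 : Q := act 6 n12666
theorem D17071 : act 6 n12666 = n17071 := rfl
theorem F30020 : act 0 n17071 = n15165 := d5_1 D17071 (iv F30017) F30016
theorem F30021 : act 2 n17071 = n12668 := d14_1 D17071 (iv D12668) D12666
theorem F30022 : act 5 n16674 = n17071 := d13_0 F30021 (iv F22294) D16674
def n17072 : Q := act 0 n12669
theorem D17072 : act 0 n12669 = n17072 := rfl
def n17073 : Q := act 3 n12669
theorem D17073 : act 3 n12669 = n17073 := rfl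
theorem F30023 : act 1 n17073 = n12670 := d7_1 D17073 (iv D12670) D12669
def n17074 : Q := act 5 n12669
theorem D17074 : act 5 n12669 = n17074 := rfl
theorem F30024 : act 1 n17074 = n12694 := d9_1 D17074 (iv D12694) (iv D10263) (iv F18109) D12669
def n17075 : Q := act 6 n12669
theorem D17075 : act 6 n12669 = n17075 := rfl
def n17076 : Q := act 4 n12670
theorem D17076 : act 4 n12670 = n17076 := rfl
theorem F30025 : act 0 n17076 = n12672 := d3_1 D17076 (iv D12672) (iv F22232)
theorem F30026 : act 5 n17076 = n12696 := d18_2 (iv F22233) D17076 (iv D12696)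
def n17077 : Q := act 1 n12671
theorem D17077 : act 1 n12671 = n17077 := rfl
def n17078 : Q := act 4 n12671
theorem D17078 : act 4 n12671 = n17078 := rfl
theorem F30027 : act 2 n17078 = n12672 := d12_1 D17078 (iv D12672) D12671
theorem F30028 : act 5 n17078 = n12701 := d18_2 (iv F22234) D17078 (iv D12701)
def n17079 : Q := act 6 n12671
theorem D17079 : act 6 n12671 = n17079 := rfl
theorem F30029 : act 2 n17079 = n12673 := d14_1 D17079 (iv D12673) D12671
theorem F30030 : act 3 n17079 = n16883 := d17_1 D17079 (iv F29827) F29826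
theorem F30031 : act 5 n17079 = n16881 := d22_2 (iv F22234) D17079 F29773 F22115
def n17080 : Q := act 6 n12672
theorem D17080 : act 6 n12672 = n17080 := rfl
theorem F30032 : act 4 n17080 = n12673 := d19_1 D17080 (iv D12673) D12672
def n17081 : Q := act 1 n12673
theorem D17081 : act 1 n12673 = n17081 := rfl
theorem F30033 : act 3 n17081 = n12674 := d7_2 (iv F22236) D17081 (iv D12674)
def n17082 : Q := act 0 n12674
theorem D17082 : act 0 n12674 = n17082 := rfl
def n17083 : Q := act 2 n12674
theorem D17083 : act 2 n12674 = n17083 := rfl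
theorem F30034 : act 1 n17083 = n12676 := d6_1 D17083 (iv D12676) (iv D10255) (iv F18111) D12674
def n17084 : Q := act 5 n12674
theorem D17084 : act 5 n12674 = n17084 := rfl
def n17085 : Q := act 2 n12675
theorem D17085 : act 2 n12675 = n17085 := rfl
theorem F30035 : act 0 n17085 = n12676 := d1_1 D17085 (iv D12676) D12675
theorem F30036 : act 1 n17085 = n14632 := d6_1 D17085 F25536 F20139 (iv F21879) F22239
theorem F30037 : act 6 n17085 = n12678 := d14_2 (iv F22238) D17085 (iv D12678)
def n17086 : Q := act 3 n12676
theorem D17086 : act 3 n12676 = n17086 := rfl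
theorem F30038 : act 6 n17086 = n12680 := d17_2 (iv F22240) D17086 (iv D12680)
def n17087 : Q := act 5 n12676
theorem D17087 : act 5 n12676 = n17087 := rfl
theorem F30039 : act 2 n17087 = n12677 := d13_1 D17087 (iv D12677) D12676
def n17088 : Q := act 3 n12678
theorem D17088 : act 3 n12678 = n17088 := rfl
theorem F30040 : act 0 n17088 = n12680 := d2_1 D17088 (iv D12680) (iv F22242)
theorem F30041 : act 1 n17088 = n15240 := d7_1 D17088 F26527 (iv F22243)
def n17089 : Q := act 5 n12678
theorem D17089 : act 5 n12678 = n17089 := rfl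
theorem F30042 : act 0 n17089 = n12681 := d4_1 D17089 (iv D12681) (iv F22242)
theorem F30043 : act 2 n17089 = n12679 := d13_1 D17089 (iv D12679) D12678
theorem F30044 : act 6 n17089 = n17087 := d22_1 D17089 (iv D17087) F22240 (iv F22242)
def n17090 : Q := act 2 n12680
theorem D17090 : act 2 n12680 = n17090 := rfl
def n17091 : Q := act 4 n12680
theorem D17091 : act 4 n12680 = n17091 := rfl
def n17092 : Q := act 5 n12680
theorem D17092 : act 5 n12680 = n17092 := rfl
theorem F30045 : act 3 n17092 = n12681 := d16_1 D17092 (iv D12681) D12680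
def n17093 : Q := act 1 n12681
theorem D17093 : act 1 n12681 = n17093 := rfl
theorem F30046 : act 2 n17093 = n16716 := d6_2 (iv F22248) D17093 (iv D16716) F21925 (iv F18114)
def n17094 : Q := act 6 n12681
theorem D17094 : act 6 n12681 = n17094 := rfl
theorem F30047 : act 0 n17094 = n17087 := d5_1 D17094 (iv F30044) F30042
theorem F30048 : act 2 n17094 = n12682 := d14_1 D17094 (iv D12682) (iv F22248)
theorem F30049 : act 5 n17094 = n17085 := d20_1 D17094 F30037 D17089 F30044 (iv D17087) F22240 D12681
def n17095 : Q := act 1 n12683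
theorem D17095 : act 1 n12683 = n17095 := rfl
theorem F30050 : act 2 n17095 = n16900 := d6_2 D12683 D17095 (iv D16900) (iv D12573) (iv F18115)
def n17096 : Q := act 3 n12683
theorem D17096 : act 3 n12683 = n17096 := rfl
theorem F30051 : act 0 n17096 = n12687 := d2_1 D17096 (iv D12687) (iv F22259)
def n17097 : Q := act 5 n12683
theorem D17097 : act 5 n12683 = n17097 := rfl
theorem F30052 : act 0 n17097 = n12688 := d4_1 D17097 (iv D12688) (iv F22259)
theorem F30053 : act 2 n17097 = n12684 := d13_1 D17097 (iv D12684) D12683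
theorem F30054 : act 6 n17097 = n16622 := d22_1 D17097 F29361 (iv D12689) (iv F22259)
def n17098 : Q := act 6 n12683
theorem D17098 : act 6 n12683 = n17098 := rfl
theorem F30055 : act 0 n17098 = n12689 := d5_1 D17098 (iv D12689) (iv F22259)
theorem F30056 : act 2 n17098 = n12685 := d14_1 D17098 (iv D12685) D12683
def n17099 : Q := act 0 n12686
theorem D17099 : act 0 n12686 = n17099 := rfl
theorem F30057 : act 2 n17099 = n12692 := d1_2 (iv F22266) D17099 (iv D12692)
def n17100 : Q := act 3 n12686
theorem D17100 : act 3 n12686 = n17100 := rfl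
theorem F30058 : act 1 n17100 = n12687 := d7_1 D17100 (iv D12687) D12686
def n17101 : Q := act 5 n12686
theorem D17101 : act 5 n12686 = n17101 := rfl
theorem F30059 : act 2 n17101 = n12694 := d13_1 D17101 (iv D12694) (iv F22266)
def n17102 : Q := act 6 n12686
theorem D17102 : act 6 n12686 = n17102 := rfl
theorem F30060 : act 2 n17102 = n12695 := d14_1 D17102 (iv D12695) (iv F22266)
def n17103 : Q := act 2 n12687
theorem D17103 : act 2 n12687 = n17103 := rfl
def n17104 : Q := act 4 n12687
theorem D17104 : act 4 n12687 = n17104 := rfl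
def n17105 : Q := act 5 n12687
theorem D17105 : act 5 n12687 = n17105 := rfl
theorem F30061 : act 3 n17105 = n12688 := d16_1 D17105 (iv D12688) D12687
def n17106 : Q := act 6 n12687
theorem D17106 : act 6 n12687 = n17106 := rfl
theorem F30062 : act 3 n17106 = n12689 := d17_1 D17106 (iv D12689) D12687
def n17107 : Q := act 1 n12688
theorem D17107 : act 1 n12688 = n17107 := rfl
def n17108 : Q := act 6 n12688
theorem D17108 : act 6 n12688 = n17108 := rfl
theorem F30063 : act 0 n17108 = n16622 := d5_1 D17108 (iv F30054) F30052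
theorem F30064 : act 2 n17108 = n12690 := d14_1 D17108 (iv D12690) (iv F22267)
theorem F30065 : act 5 n17108 = n17098 := d20_1 D17108 (iv D17098) D17097 F30054 F29361 (iv D12689) D12688
def n17109 : Q := act 1 n12689
theorem D17109 : act 1 n12689 = n17109 := rfl
def n17110 : Q := act 2 n12691
theorem D17110 : act 2 n12691 = n17110 := rfl
theorem F30066 : act 5 n17110 = n16597 := d13_2 (iv F22274) D17110 (iv D16597)
theorem F30067 : act 6 n17110 = n12699 := d14_2 (iv F22275) D17110 (iv D12699)
def n17111 : Q := act 1 n12692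
theorem D17111 : act 1 n12692 = n17111 := rfl
theorem F30068 : act 0 n17111 = n12782 := d0_1 D17111 (iv D12782) (iv D10307) (iv D5647) F4239 (iv F4192) (iv F8435) D10263 D12692
def n17112 : Q := act 3 n12692
theorem D17112 : act 3 n12692 = n17112 := rfl
theorem F30069 : act 0 n17112 = n12693 := d2_1 D17112 (iv D12693) D12692
def n17113 : Q := act 5 n12692
theorem D17113 : act 5 n12692 = n17113 := rfl
theorem F30070 : act 0 n17113 = n12694 := d4_1 D17113 (iv D12694) D12692
def n17114 : Q := act 6 n12692
theorem D17114 : act 6 n12692 = n17114 := rfl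
theorem F30071 : act 0 n17114 = n12695 := d5_1 D17114 (iv D12695) D12692
def n17115 : Q := act 2 n12693
theorem D17115 : act 2 n12693 = n17115 := rfl
def n17116 : Q := act 4 n12693
theorem D17116 : act 4 n12693 = n17116 := rfl
theorem F30072 : act 1 n17116 = n12696 := d8_1 D17116 (iv D12696) (iv F22276)
def n17117 : Q := act 5 n12693
theorem D17117 : act 5 n12693 = n17117 := rfl
theorem F30073 : act 3 n17117 = n12694 := d16_1 D17117 (iv D12694) D12693
def n17118 : Q := act 6 n12693
theorem D17118 : act 6 n12693 = n17118 := rfl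
theorem F30074 : act 3 n17118 = n12695 := d17_1 D17118 (iv D12695) D12693
def n17119 : Q := act 6 n12694
theorem D17119 : act 6 n12694 = n17119 := rfl
theorem F30075 : act 5 n17119 = n17114 := d22_2 D12694 D17119 (iv D17114) (iv D12692)
def n17120 : Q := act 1 n12695
theorem D17120 : act 1 n12695 = n17120 := rfl
theorem F30076 : act 6 n17120 = n12698 := d10_2 D12695 D17120 (iv D12698) (iv D10265) D10263
def n17121 : Q := act 5 n12695
theorem D17121 : act 5 n12695 = n17121 := rfl
theorem F30077 : act 0 n17121 = n17119 := d4_1 D17121 F30075 F30071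
theorem F30078 : act 6 n17121 = n17113 := d20_2 D12695 D17121 (iv D17113) D17114 (iv F30075) (iv D17119) (iv D12694)
def n17122 : Q := act 6 n12696
theorem D17122 : act 6 n12696 = n17122 := rfl
theorem F30079 : act 0 n17122 = n12703 := d5_1 D17122 (iv D12703) (iv F22277)
theorem F30080 : act 4 n17122 = n12697 := d19_1 D17122 (iv D12697) D12696
theorem F30081 : act 5 n17122 = n17080 := d22_2 F30026 D17122 (iv D17080) (iv F30025)
def n17123 : Q := act 1 n12697
theorem D17123 : act 1 n12697 = n17123 := rfl
theorem F30082 : act 3 n17123 = n12698 := d7_2 (iv F22279) D17123 (iv D12698)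
def n17124 : Q := act 0 n12698
theorem D17124 : act 0 n12698 = n17124 := rfl
def n17125 : Q := act 2 n12698
theorem D17125 : act 2 n12698 = n17125 := rfl
theorem F30083 : act 1 n17125 = n12699 := d6_1 D17125 (iv D12699) (iv D10266) (iv F18121) D12698
def n17126 : Q := act 5 n12698
theorem D17126 : act 5 n12698 = n17126 := rfl
theorem F30084 : act 1 n17126 = n17084 := d9_1 D17126 (iv D17084) (iv D12674) (iv F18122) D12698
def n17127 : Q := act 3 n12699
theorem D17127 : act 3 n12699 = n17127 := rfl
def n17128 : Q := act 0 n12700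
theorem D17128 : act 0 n12700 = n17128 := rfl
theorem F30085 : act 2 n17128 = n12792 := d1_2 (iv F22281) D17128 (iv D12792)
def n17129 : Q := act 4 n12700
theorem D17129 : act 4 n12700 = n17129 := rfl
theorem F30086 : act 1 n17129 = n12701 := d8_1 D17129 (iv D12701) D12700
theorem F30087 : act 2 n17129 = n12793 := d12_1 D17129 (iv D12793) (iv F22281)
def n17130 : Q := act 5 n12700
theorem D17130 : act 5 n12700 = n17130 := rfl
theorem F30088 : act 2 n17130 = n12794 := d13_1 D17130 (iv D12794) (iv F22281)
def n17131 : Q := act 6 n12700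
theorem D17131 : act 6 n12700 = n17131 := rfl
theorem F30089 : act 2 n17131 = n12795 := d14_1 D17131 (iv D12795) (iv F22281)
def n17132 : Q := act 3 n12701
theorem D17132 : act 3 n12701 = n17132 := rfl
def n17133 : Q := act 6 n12701
theorem D17133 : act 6 n12701 = n17133 := rfl
theorem F30090 : act 2 n17133 = n12703 := d14_1 D17133 (iv D12703) (iv F22282)
theorem F30091 : act 4 n17133 = n12702 := d19_1 D17133 (iv D12702) D12701
def n17134 : Q := act 1 n12702
theorem D17134 : act 1 n12702 = n17134 := rfl
def n17135 : Q := act 5 n12702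
theorem D17135 : act 5 n12702 = n17135 := rfl
theorem F30092 : act 0 n17135 = n17079 := d4_1 D17135 F30031 F29771
theorem F30093 : act 2 n17135 = n12704 := d13_1 D17135 (iv D12704) (iv F22283)
theorem F30094 : act 3 n17135 = n16944 := d16_1 D17135 F29848 F29768
theorem F30095 : act 6 n17135 = n16940 := d20_2 D12702 D17135 (iv D16940) (iv F29773) (iv F30031) (iv D17079) F22234
def n17136 : Q := act 5 n12703
theorem D17136 : act 5 n12703 = n17136 := rfl
theorem F30096 : act 0 n17136 = n17080 := d4_1 D17136 (iv F30081) F30079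
theorem F30097 : act 4 n17136 = n12704 := d18_1 D17136 (iv D12704) (iv F22284)
theorem F30098 : act 6 n17136 = n17076 := d20_2 D12703 D17136 F30026 D17122 F30081 (iv D17080) F22235
def n17137 : Q := act 1 n12704
theorem D17137 : act 1 n12704 = n17137 := rfl
theorem F30099 : act 3 n17137 = n12705 := d7_2 (iv F22286) D17137 (iv D12705)
def n17138 : Q := act 0 n12705
theorem D17138 : act 0 n12705 = n17138 := rfl
def n17139 : Q := act 2 n12705
theorem D17139 : act 2 n12705 = n17139 := rfl
theorem F30100 : act 1 n17139 = n12707 := d6_1 D17139 (iv D12707) (iv D10271) (iv F18127) D12705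
def n17140 : Q := act 6 n12705
theorem D17140 : act 6 n12705 = n17140 := rfl
theorem F30101 : act 1 n17140 = n17075 := d10_1 D17140 (iv D17075) (iv D12669) (iv F18128) D12705
def n17141 : Q := act 2 n12706
theorem D17141 : act 2 n12706 = n17141 := rfl
theorem F30102 : act 0 n17141 = n12707 := d1_1 D17141 (iv D12707) D12706
theorem F30103 : act 5 n17141 = n15278 := d13_2 (iv F22289) D17141 (iv D15278)
def n17142 : Q := act 3 n12707
theorem D17142 : act 3 n12707 = n17142 := rfl
theorem F30104 : act 5 n17142 = n15279 := d16_2 (iv F22290) D17142 (iv D15279)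
def n17143 : Q := act 6 n12707
theorem D17143 : act 6 n12707 = n17143 := rfl
theorem F30105 : act 2 n17143 = n12708 := d14_1 D17143 (iv D12708) D12707
theorem F30106 : act 5 n17143 = n16703 := d22_2 (iv F22290) D17143 F29495 F26591
def n17144 : Q := act 1 n12709
theorem D17144 : act 1 n12709 = n17144 := rfl
theorem F30107 : act 4 n17144 = n12712 := d8_2 (iv F22295) D17144 (iv D12712)
def n17145 : Q := act 2 n12709
theorem D17145 : act 2 n12709 = n17145 := rfl
theorem F30108 : act 0 n17145 = n12710 := d1_1 D17145 (iv D12710) D12709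
theorem F30109 : act 4 n17145 = n12713 := d12_2 (iv F22295) D17145 (iv D12713)
theorem F30110 : act 6 n17145 = n16846 := d14_2 F29709 D17145 F29729
theorem F30111 : act 5 n12709 = n17145 := d20_7 F30110 (iv D16846) F22036 (iv F28522) (iv F29711) (iv F29712) F29709
def n17146 : Q := act 0 n12712
theorem D17146 : act 0 n12712 = n17146 := rfl
theorem F30112 : act 1 n17146 = n17146 := d0_2 D12712 D17146 (iv D17146) (iv D12712) (iv D10273) (iv D5592) F15385 D5592 D10273
theorem F30113 : act 3 n17146 = n12718 := d2_2 (iv F22300) D17146 (iv D12718)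
def n17147 : Q := act 6 n12712
theorem D17147 : act 6 n12712 = n17147 := rfl
theorem F30114 : act 3 n17147 = n12720 := d17_1 D17147 (iv D12720) (iv F22300)
def n17148 : Q := act 6 n12718
theorem D17148 : act 6 n12718 = n17148 := rfl
theorem F30115 : act 0 n17148 = n12720 := d5_1 D17148 (iv D12720) D12718
theorem F30116 : act 2 n17148 = n14440 := d14_1 D17148 (iv D14440) (iv F29244)
theorem F30117 : act 5 n17148 = n16618 := d22_2 F29349 D17148 (iv D16618) D16616
def n17149 : Q := act 3 n12719
theorem D17149 : act 3 n12719 = n17149 := rfl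
theorem F30118 : act 0 n17149 = n14425 := d2_1 D17149 F25189 (iv F28917)
theorem F30119 : act 1 n17149 = n14672 := d7_1 D17149 F25616 (iv F28918)
def n17150 : Q := act 6 n12719
theorem D17150 : act 6 n12719 = n17150 := rfl
theorem F30120 : act 0 n17150 = n14440 := d5_1 D17150 (iv D14440) (iv F28917)
theorem F30121 : act 2 n17150 = n12720 := d14_1 D17150 (iv D12720) D12719
def n17151 : Q := act 5 n12720
theorem D17151 : act 5 n12720 = n17151 := rfl
theorem F30122 : act 0 n17151 = n16618 := d4_1 D17151 (iv F30117) F30115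
theorem F30123 : act 6 n17151 = n16616 := d20_2 D12720 D17151 F29349 D17148 F30117 (iv D16618) F21850
theorem F30124 : act 1 n17151 = n16659 := d24_2 D12720 D17151 (iv D16659) D16658 F29420 (iv F29439) (iv D16665) (iv F22052) (iv D12553) (iv F22050) (iv D12550) (iv F18138) (iv D10278) D10276
def n17152 : Q := act 6 n12721
theorem D17152 : act 6 n12721 = n17152 := rfl
theorem F30125 : act 0 n17152 = n14724 := d5_1 D17152 (iv D14724) (iv F28915)
theorem F30126 : act 2 n17152 = n14720 := d14_1 D17152 (iv D14720) (iv F28916)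
theorem F30127 : act 3 n17152 = n13557 := d17_1 D17152 F23812 (iv F28920)
theorem F30128 : act 5 n17152 = n13555 := d22_2 F28919 D17152 (iv D13555) (iv F23803)
def n17153 : Q := act 4 n12722
theorem D17153 : act 4 n12722 = n17153 := rfl
theorem F30129 : act 0 n17153 = n12725 := d3_1 D17153 (iv D12725) (iv F22311)
def n17154 : Q := act 4 n12724
theorem D17154 : act 4 n12724 = n17154 := rfl
theorem F30130 : act 2 n17154 = n12725 := d12_1 D17154 (iv D12725) D12724
theorem F30131 : act 5 n17154 = n17153 := d18_2 (iv F28535) D17154 (iv D17153)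
def n17155 : Q := act 5 n12725
theorem D17155 : act 5 n12725 = n17155 := rfl
theorem F30132 : act 0 n17155 = n17154 := d4_1 D17155 F30131 F30129
theorem F30133 : act 1 n17155 = n15332 := d9_1 D17155 (iv D15332) F20749 (iv F18145) (iv F22315)
theorem F30134 : act 2 n17155 = n17153 := d13_1 D17155 (iv F30131) F30130
theorem F30135 : act 4 n17155 = n12726 := d18_1 D17155 (iv D12726) D12725
def n17156 : Q := act 6 n12726
theorem D17156 : act 6 n12726 = n17156 := rfl
theorem F30136 : act 0 n17156 = n16859 := d5_1 D17156 F29741 (iv F28534)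
theorem F30137 : act 2 n17156 = n16858 := d14_1 D17156 F29740 F28533
theorem F30138 : act 3 n17156 = n12727 := d17_1 D17156 (iv D12727) (iv F22317)
theorem F30139 : act 5 n17156 = n16858 := d20_1 D17156 F29740 (iv F28535) (iv F29741) (iv F29743) F22048 D12726
def n17157 : Q := act 1 n12727
theorem D17157 : act 1 n12727 = n17157 := rfl
theorem F30140 : act 6 n17157 = n15337 := d10_2 D12727 D17157 (iv D15337) (iv D11731) (iv F18140)
def n17158 : Q := act 0 n12728
theorem D17158 : act 0 n12728 = n17158 := rfl
theorem F30141 : act 6 n17158 = n17158 := d5_2 F22321 D17158 (iv D17158)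
def n17159 : Q := act 2 n12728
theorem D17159 : act 2 n12728 = n17159 := rfl
theorem F30142 : act 6 n17159 = n17159 := d14_2 F22321 D17159 (iv D17159)
def n17160 : Q := act 5 n12728
theorem D17160 : act 5 n12728 = n17160 := rfl
theorem F30143 : act 1 n17160 = n16855 := d9_1 D17160 (iv D16855) (iv D12546) (iv F18143) D12728
def n17161 : Q := act 0 n12729
theorem D17161 : act 0 n12729 = n17161 := rfl
def n17162 : Q := act 3 n12729
theorem D17162 : act 3 n12729 = n17162 := rfl
theorem F30144 : act 1 n17162 = n12730 := d7_1 D17162 (iv D12730) D12729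
def n17163 : Q := act 5 n12729
theorem D17163 : act 5 n12729 = n17163 := rfl
theorem F30145 : act 1 n17163 = n12733 := d9_1 D17163 (iv D12733) (iv D10284) (iv F18148) D12729
def n17164 : Q := act 6 n12729
theorem D17164 : act 6 n12729 = n17164 := rfl
theorem F30146 : act 1 n17164 = n14824 := d10_1 D17164 (iv D14824) (iv D11434) (iv F18149) D12729
def n17165 : Q := act 4 n12730
theorem D17165 : act 4 n12730 = n17165 := rfl
theorem F30147 : act 0 n17165 = n12736 := d3_1 D17165 (iv D12736) (iv F22322)
theorem F30148 : act 5 n17165 = n12736 := d18_2 (iv F22323) D17165 (iv D12736)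
theorem F30149 : act 6 n17165 = n14825 := d19_2 (iv F22324) D17165 (iv D14825)
def n17166 : Q := act 1 n12731
theorem D17166 : act 1 n12731 = n17166 := rfl
def n17167 : Q := act 3 n12731
theorem D17167 : act 3 n12731 = n17167 := rfl
theorem F30150 : act 0 n17167 = n12732 := d2_1 D17167 (iv D12732) D12731
def n17168 : Q := act 5 n12731
theorem D17168 : act 5 n12731 = n17168 := rfl
theorem F30151 : act 0 n17168 = n12733 := d4_1 D17168 (iv D12733) D12731
theorem F30152 : act 2 n17168 = n12739 := d13_1 D17168 (iv D12739) (iv F22325)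
def n17169 : Q := act 6 n12731
theorem D17169 : act 6 n12731 = n17169 := rfl
theorem F30153 : act 0 n17169 = n12734 := d5_1 D17169 (iv D12734) D12731
theorem F30154 : act 2 n17169 = n12740 := d14_1 D17169 (iv D12740) (iv F22325)
def n17170 : Q := act 2 n12732
theorem D17170 : act 2 n12732 = n17170 := rfl
def n17171 : Q := act 4 n12732
theorem D17171 : act 4 n12732 = n17171 := rfl
theorem F30155 : act 1 n17171 = n12736 := d8_1 D17171 (iv D12736) (iv F22326)
def n17172 : Q := act 5 n12732
theorem D17172 : act 5 n12732 = n17172 := rfl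
theorem F30156 : act 3 n17172 = n12733 := d16_1 D17172 (iv D12733) D12732
def n17173 : Q := act 6 n12732
theorem D17173 : act 6 n12732 = n17173 := rfl
theorem F30157 : act 1 n17173 = n14748 := d10_1 D17173 F25697 F20203 (iv F18151) (iv F22326)
theorem F30158 : act 3 n17173 = n12734 := d17_1 D17173 (iv D12734) D12732
def n17174 : Q := act 6 n12733
theorem D17174 : act 6 n12733 = n17174 := rfl
theorem F30159 : act 2 n17174 = n12745 := d14_1 D17174 (iv D12745) (iv F22327)
theorem F30160 : act 5 n17174 = n17169 := d22_2 D12733 D17174 (iv D17169) (iv D12731)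
def n17175 : Q := act 5 n12734
theorem D17175 : act 5 n12734 = n17175 := rfl
theorem F30161 : act 0 n17175 = n17174 := d4_1 D17175 F30160 F30153
theorem F30162 : act 2 n17175 = n12746 := d13_1 D17175 (iv D12746) (iv F22329)
theorem F30163 : act 6 n17175 = n17168 := d20_2 D12734 D17175 (iv D17168) D17169 (iv F30160) (iv D17174) (iv D12733)
def n17176 : Q := act 1 n12735
theorem D17176 : act 1 n12735 = n17176 := rfl
def n17177 : Q := act 4 n12735
theorem D17177 : act 4 n12735 = n17177 := rfl
theorem F30164 : act 2 n17177 = n12736 := d12_1 D17177 (iv D12736) D12735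
theorem F30165 : act 6 n17177 = n14827 := d19_2 (iv F22330) D17177 (iv D14827)
def n17178 : Q := act 2 n12737
theorem D17178 : act 2 n12737 = n17178 := rfl
def n17179 : Q := act 3 n12737
theorem D17179 : act 3 n12737 = n17179 := rfl
theorem F30166 : act 1 n17179 = n12738 := d7_1 D17179 (iv D12738) D12737
def n17180 : Q := act 5 n12737
theorem D17180 : act 5 n12737 = n17180 := rfl
def n17181 : Q := act 6 n12737
theorem D17181 : act 6 n12737 = n17181 := rfl
def n17182 : Q := act 2 n12738
theorem D17182 : act 2 n12738 = n17182 := rfl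
theorem F30167 : act 0 n17182 = n12741 := d1_1 D17182 (iv D12741) (iv F22332)
def n17183 : Q := act 4 n12738
theorem D17183 : act 4 n12738 = n17183 := rfl
theorem F30168 : act 0 n17183 = n12742 := d3_1 D17183 (iv D12742) (iv F22332)
def n17184 : Q := act 5 n12738
theorem D17184 : act 5 n12738 = n17184 := rfl
theorem F30169 : act 0 n17184 = n12743 := d4_1 D17184 (iv D12743) (iv F22332)
theorem F30170 : act 3 n17184 = n12739 := d16_1 D17184 (iv D12739) D12738
def n17185 : Q := act 6 n12738
theorem D17185 : act 6 n12738 = n17185 := rfl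
theorem F30171 : act 0 n17185 = n12744 := d5_1 D17185 (iv D12744) (iv F22332)
theorem F30172 : act 3 n17185 = n12740 := d17_1 D17185 (iv D12740) D12738
def n17186 : Q := act 1 n12739
theorem D17186 : act 1 n12739 = n17186 := rfl
def n17187 : Q := act 1 n12740
theorem D17187 : act 1 n12740 = n17187 := rfl
def n17188 : Q := act 3 n12741
theorem D17188 : act 3 n12741 = n17188 := rfl
def n17189 : Q := act 4 n12741
theorem D17189 : act 4 n12741 = n17189 := rfl
theorem F30173 : act 2 n17189 = n12742 := d12_1 D17189 (iv D12742) D12741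
def n17190 : Q := act 5 n12741
theorem D17190 : act 5 n12741 = n17190 := rfl
theorem F30174 : act 2 n17190 = n12743 := d13_1 D17190 (iv D12743) D12741
def n17191 : Q := act 6 n12741
theorem D17191 : act 6 n12741 = n17191 := rfl
theorem F30175 : act 2 n17191 = n12744 := d14_1 D17191 (iv D12744) D12741
def n17192 : Q := act 5 n12742
theorem D17192 : act 5 n12742 = n17192 := rfl
theorem F30176 : act 4 n17192 = n12743 := d18_1 D17192 (iv D12743) D12742
def n17193 : Q := act 6 n12742
theorem D17193 : act 6 n12742 = n17193 := rfl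
theorem F30177 : act 1 n17193 = n14743 := d10_1 D17193 (iv D14743) F20193 (iv F18155) (iv F22335)
theorem F30178 : act 4 n17193 = n12744 := d19_1 D17193 (iv D12744) D12742
def n17194 : Q := act 6 n12743
theorem D17194 : act 6 n12743 = n17194 := rfl
theorem F30179 : act 3 n17194 = n12745 := d17_1 D17194 (iv D12745) (iv F22336)
theorem F30180 : act 5 n17194 = n17185 := d22_2 D12743 D17194 (iv D17185) F22332
def n17195 : Q := act 5 n12744
theorem D17195 : act 5 n12744 = n17195 := rfl
theorem F30181 : act 0 n17195 = n17194 := d4_1 D17195 F30180 F30171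
theorem F30182 : act 3 n17195 = n12746 := d16_1 D17195 (iv D12746) (iv F22338)
theorem F30183 : act 6 n17195 = n17184 := d20_2 D12744 D17195 (iv D17184) D17185 (iv F30180) (iv D17194) (iv D12743)
def n17196 : Q := act 1 n12745
theorem D17196 : act 1 n12745 = n17196 := rfl
def n17197 : Q := act 1 n12746
theorem D17197 : act 1 n12746 = n17197 := rfl
theorem F30184 : act 5 n17197 = n14745 := d9_2 D12746 D17197 (iv D14745) (iv D11399) (iv F18153)
def n17198 : Q := act 1 n12747
theorem D17198 : act 1 n12747 = n17198 := rfl
def n17199 : Q := act 4 n12747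
theorem D17199 : act 4 n12747 = n17199 := rfl
theorem F30185 : act 0 n17199 = n12748 := d3_1 D17199 (iv D12748) D12747
def n17200 : Q := act 5 n12747
theorem D17200 : act 5 n12747 = n17200 := rfl
theorem F30186 : act 0 n17200 = n12749 := d4_1 D17200 (iv D12749) D12747
def n17201 : Q := act 6 n12747
theorem D17201 : act 6 n12747 = n17201 := rfl
theorem F30187 : act 0 n17201 = n12750 := d5_1 D17201 (iv D12750) D12747
def n17202 : Q := act 3 n12748
theorem D17202 : act 3 n12748 = n17202 := rfl
theorem F30188 : act 1 n17202 = n12751 := d7_1 D17202 (iv D12751) (iv F22342)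
def n17203 : Q := act 5 n12748
theorem D17203 : act 5 n12748 = n17203 := rfl
theorem F30189 : act 4 n17203 = n12749 := d18_1 D17203 (iv D12749) D12748
def n17204 : Q := act 6 n12748
theorem D17204 : act 6 n12748 = n17204 := rfl
theorem F30190 : act 4 n17204 = n12750 := d19_1 D17204 (iv D12750) D12748
def n17205 : Q := act 6 n12749
theorem D17205 : act 6 n12749 = n17205 := rfl
theorem F30191 : act 5 n17205 = n17201 := d22_2 D12749 D17205 (iv D17201) (iv D12747)
def n17206 : Q := act 5 n12750
theorem D17206 : act 5 n12750 = n17206 := rfl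
theorem F30192 : act 0 n17206 = n17205 := d4_1 D17206 F30191 F30187
theorem F30193 : act 6 n17206 = n17200 := d20_2 D12750 D17206 (iv D17200) D17201 (iv F30191) (iv D17205) (iv D12749)
def n17207 : Q := act 1 n12752
theorem D17207 : act 1 n12752 = n17207 := rfl
theorem F30194 : act 4 n17207 = n12755 := d8_2 (iv F22343) D17207 (iv D12755)
def n17208 : Q := act 2 n12752
theorem D17208 : act 2 n12752 = n17208 := rfl
theorem F30195 : act 0 n17208 = n12753 := d1_1 D17208 (iv D12753) D12752
theorem F30196 : act 4 n17208 = n12756 := d12_2 (iv F22343) D17208 (iv D12756)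
def n17209 : Q := act 6 n12752
theorem D17209 : act 6 n12752 = n17209 := rfl
theorem F30197 : act 0 n17209 = n12754 := d5_1 D17209 (iv D12754) D12752
theorem F30198 : act 4 n17209 = n12757 := d19_1 D17209 (iv D12757) (iv F22343)
theorem F30199 : act 5 n17209 = n17038 := d22_2 F29982 D17209 (iv D17038) D17036
def n17210 : Q := act 3 n12753
theorem D17210 : act 3 n12753 = n17210 := rfl
def n17211 : Q := act 6 n12753
theorem D17211 : act 6 n12753 = n17211 := rfl
theorem F30202 : act 4 n17211 = n12759 := d19_1 D17211 (iv D12759) (iv F22345)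
def n17212 : Q := act 5 n12754
theorem D17212 : act 5 n12754 = n17212 := rfl
theorem F30203 : act 0 n17212 = n17038 := d4_1 D17212 (iv F30199) F30197
theorem F30205 : act 6 n17212 = n17036 := d20_2 D12754 D17212 F29982 D17209 F30199 (iv D17038) F22209
def n17213 : Q := act 0 n12755
theorem D17213 : act 0 n12755 = n17213 := rfl
theorem F30206 : act 1 n17213 = n17213 := d0_2 D12755 D17213 (iv D17213) (iv D12755) (iv D10294) (iv D5635) F16788 D5635 D10294
theorem F30207 : act 3 n17213 = n12761 := d2_2 (iv F22348) D17213 (iv D12761)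
def n17214 : Q := act 2 n12755
theorem D17214 : act 2 n12755 = n17214 := rfl
def n17215 : Q := act 5 n12755
theorem D17215 : act 5 n12755 = n17215 := rfl
theorem F30208 : act 3 n17215 = n12763 := d16_1 D17215 (iv D12763) (iv F22348)
def n17216 : Q := act 6 n12755
theorem D17216 : act 6 n12755 = n17216 := rfl
theorem F30209 : act 3 n17216 = n12764 := d17_1 D17216 (iv D12764) (iv F22348)
def n17217 : Q := act 1 n12756
theorem D17217 : act 1 n12756 = n17217 := rfl
def n17218 : Q := act 3 n12756
theorem D17218 : act 3 n12756 = n17218 := rfl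
def n17219 : Q := act 6 n12756
theorem D17219 : act 6 n12756 = n17219 := rfl
theorem F30212 : act 2 n17219 = n12757 := d14_1 D17219 (iv D12757) D12756
def n17220 : Q := act 1 n12757
theorem D17220 : act 1 n12757 = n17220 := rfl
theorem F30214 : act 3 n17220 = n12768 := d7_2 (iv F22351) D17220 (iv D12768)
def n17221 : Q := act 2 n12758
theorem D17221 : act 2 n12758 = n17221 := rfl
def n17226 : Q := act 1 n12760
theorem D17226 : act 1 n12760 = n17226 := rfl
theorem F30222 : act 3 n17226 = n12773 := d7_2 (iv F22356) D17226 (iv D12773)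
def n17227 : Q := act 5 n12761
theorem D17227 : act 5 n12761 = n17227 := rfl
theorem F30224 : act 0 n17227 = n12763 := d4_1 D17227 (iv D12763) D12761
theorem F30225 : act 2 n17227 = n14445 := d13_1 D17227 (iv D14445) (iv F26626)
def n17228 : Q := act 6 n12761
theorem D17228 : act 6 n12761 = n17228 := rfl
theorem F30226 : act 0 n17228 = n12764 := d5_1 D17228 (iv D12764) D12761
theorem F30227 : act 2 n17228 = n14446 := d14_1 D17228 (iv D14446) (iv F26626)
def n17229 : Q := act 3 n12762
theorem D17229 : act 3 n12762 = n17229 := rfl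
theorem F30228 : act 0 n17229 = n14431 := d2_1 D17229 F25199 (iv F26622)
theorem F30229 : act 1 n17229 = n14115 := d7_1 D17229 F29195 (iv F26623)
theorem F30230 : act 5 n14116 = n17229 := d9_0 F30229 (iv D14115) (iv D11059) D11060 D14116
def n17230 : Q := act 5 n12762
theorem D17230 : act 5 n12762 = n17230 := rfl
theorem F30231 : act 0 n17230 = n14445 := d4_1 D17230 (iv D14445) (iv F26622)
theorem F30232 : act 1 n17230 = n13598 := d9_1 D17230 F23854 D14108 F29192 (iv F26623)
theorem F30233 : act 2 n17230 = n12763 := d13_1 D17230 (iv D12763) D12762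
theorem F30234 : act 3 n17230 = n14116 := d16_1 D17230 F30230 (iv D17229)
theorem F30235 : act 2 n17050 = n13600 := d6_2 F30233 (iv F29997) (iv D13600) (iv F23852) (iv F30232)
theorem F30236 : act 5 n13600 = n17049 := d13_2 D17050 F30235 (iv D17049)
theorem F30237 : act 3 n17049 = n13602 := d16_1 F30236 (iv D13602) (iv F23856)
def n17231 : Q := act 6 n12762
theorem D17231 : act 6 n12762 = n17231 := rfl
theorem F30238 : act 0 n17231 = n14446 := d5_1 D17231 (iv D14446) (iv F26622)
theorem F30239 : act 2 n17231 = n12764 := d14_1 D17231 (iv D12764) D12762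
def n17232 : Q := act 6 n12763
theorem D17232 : act 6 n12763 = n17232 := rfl
theorem F30240 : act 5 n17232 = n17228 := d22_2 D12763 D17232 (iv D17228) (iv D12761)
def n17233 : Q := act 1 n12764
theorem D17233 : act 1 n12764 = n17233 := rfl
theorem F30241 : act 6 n17233 = n12768 := d10_2 D12764 D17233 (iv D12768) (iv D10299) D10297
def n17234 : Q := act 5 n12764
theorem D17234 : act 5 n12764 = n17234 := rfl
theorem F30242 : act 0 n17234 = n17232 := d4_1 D17234 F30240 F30226
theorem F30243 : act 6 n17234 = n17227 := d20_2 D12764 D17234 (iv D17227) D17228 (iv F30240) (iv D17232) (iv D12763)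
def n17235 : Q := act 3 n12765
theorem D17235 : act 3 n12765 = n17235 := rfl
theorem F30245 : act 1 n17235 = n12766 := d7_1 D17235 (iv D12766) D12765
def n17236 : Q := act 5 n12765
theorem D17236 : act 5 n12765 = n17236 := rfl
theorem F30246 : act 0 n17236 = n14772 := d4_1 D17236 (iv D14772) (iv F26620)
theorem F30247 : act 2 n17236 = n14108 := d13_1 D17236 F29192 (iv F26621)
def n17237 : Q := act 6 n12765
theorem D17237 : act 6 n12765 = n17237 := rfl
theorem F30249 : act 2 n17237 = n14769 := d14_1 D17237 (iv D14769) (iv F26621)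
def n17238 : Q := act 2 n12766
theorem D17238 : act 2 n12766 = n17238 := rfl
theorem F30251 : act 3 n17238 = n17221 := d21_1 D17238 (iv D17221) (iv D12758) (iv D10295) F8525 D5637 D10300 (iv F22359)
def n17239 : Q := act 4 n12766
theorem D17239 : act 4 n12766 = n17239 := rfl
theorem F30252 : act 0 n17239 = n12770 := d3_1 D17239 (iv D12770) (iv F22359)
def n17240 : Q := act 6 n12766
theorem D17240 : act 6 n12766 = n17240 := rfl
theorem F30253 : act 0 n17240 = n12771 := d5_1 D17240 (iv D12771) (iv F22359)
theorem F30254 : act 3 n17240 = n12767 := d17_1 D17240 (iv D12767) D12766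
theorem F30255 : act 5 n17240 = n17056 := d22_2 F29999 D17240 (iv D17056) (iv F29998)
def n17241 : Q := act 1 n12767
theorem D17241 : act 1 n12767 = n17241 := rfl
def n17244 : Q := act 5 n12768
theorem D17244 : act 5 n12768 = n17244 := rfl
theorem F30256 : act 1 n17244 = n17060 := d9_1 D17244 (iv D17060) (iv D12661) (iv F18164) D12768
theorem F30257 : act 6 n16744 = n17244 := d10_0 F30256 (iv F30009) (iv F30010) (iv D16746) D16744
def n17245 : Q := act 3 n12769
theorem D17245 : act 3 n12769 = n17245 := rfl
theorem F30259 : act 2 n17245 = n17218 := d11_1 D17245 (iv D17218) (iv D12756) F18158 D10298 D12766 D17238 F30251 (iv D17221) (iv D12758) (iv D10295) F8525 D5637 D10300 D12769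
def n17246 : Q := act 4 n12769
theorem D17246 : act 4 n12769 = n17246 := rfl
theorem F30260 : act 2 n17246 = n12770 := d12_1 D17246 (iv D12770) D12769
def n17247 : Q := act 6 n12769
theorem D17247 : act 6 n12769 = n17247 := rfl
theorem F30261 : act 2 n17247 = n12771 := d14_1 D17247 (iv D12771) D12769
def n17248 : Q := act 6 n12770
theorem D17248 : act 6 n12770 = n17248 := rfl
theorem F30262 : act 1 n17248 = n15391 := d10_1 D17248 (iv D15391) F20782 (iv F18172) (iv F22363)
theorem F30263 : act 4 n17248 = n12771 := d19_1 D17248 (iv D12771) D12770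
def n17249 : Q := act 5 n12771
theorem D17249 : act 5 n12771 = n17249 := rfl
theorem F30264 : act 0 n17249 = n17056 := d4_1 D17249 (iv F30255) F30253
theorem F30265 : act 3 n17249 = n12772 := d16_1 D17249 (iv D12772) (iv F22365)
theorem F30266 : act 6 n17249 = n17053 := d20_2 D12771 D17249 F29999 D17240 F30255 (iv D17056) F22221
def n17250 : Q := act 1 n12772
theorem D17250 : act 1 n12772 = n17250 := rfl
theorem F30267 : act 5 n17250 = n15398 := d9_2 D12772 D17250 (iv D15398) (iv D11762) (iv F18166)
def n17251 : Q := act 0 n12773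
theorem D17251 : act 0 n12773 = n17251 := rfl
theorem F30268 : act 5 n17251 = n17251 := d4_2 F22369 D17251 (iv D17251)
def n17252 : Q := act 2 n12773
theorem D17252 : act 2 n12773 = n17252 := rfl
theorem F30269 : act 5 n17252 = n17252 := d13_2 F22369 D17252 (iv D17252)
def n17253 : Q := act 6 n12773
theorem D17253 : act 6 n12773 = n17253 := rfl
theorem F30270 : act 1 n17253 = n17051 := d10_1 D17253 (iv D17051) (iv D12657) (iv F18169) D12773
def n17254 : Q := act 0 n12774
theorem D17254 : act 0 n12774 = n17254 := rfl
theorem F30271 : act 2 n17254 = n17161 := d1_2 (iv F22370) D17254 (iv D17161)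
def n17255 : Q := act 3 n12774
theorem D17255 : act 3 n12774 = n17255 := rfl
theorem F30272 : act 1 n17255 = n12775 := d7_1 D17255 (iv D12775) D12774
def n17256 : Q := act 5 n12774
theorem D17256 : act 5 n12774 = n17256 := rfl
theorem F30273 : act 1 n17256 = n14835 := d9_1 D17256 (iv D14835) (iv D11440) (iv F18174) D12774
theorem F30274 : act 2 n17256 = n17163 := d13_1 D17256 (iv D17163) (iv F22370)
def n17257 : Q := act 6 n12774
theorem D17257 : act 6 n12774 = n17257 := rfl
theorem F30275 : act 1 n17257 = n12779 := d10_1 D17257 (iv D12779) (iv D10305) (iv F18175) D12774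
theorem F30276 : act 2 n17257 = n17164 := d14_1 D17257 (iv D17164) (iv F22370)
def n17258 : Q := act 4 n12775
theorem D17258 : act 4 n12775 = n17258 := rfl
theorem F30277 : act 0 n17258 = n12781 := d3_1 D17258 (iv D12781) (iv F22371)
theorem F30278 : act 5 n17258 = n14837 := d18_2 (iv F22372) D17258 (iv D14837)
theorem F30279 : act 6 n17258 = n12781 := d19_2 (iv F22373) D17258 (iv D12781)
def n17259 : Q := act 1 n12776
theorem D17259 : act 1 n12776 = n17259 := rfl
def n17260 : Q := act 3 n12776
theorem D17260 : act 3 n12776 = n17260 := rfl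
theorem F30280 : act 0 n17260 = n12777 := d2_1 D17260 (iv D12777) D12776
def n17261 : Q := act 5 n12776
theorem D17261 : act 5 n12776 = n17261 := rfl
theorem F30281 : act 0 n17261 = n12778 := d4_1 D17261 (iv D12778) D12776
theorem F30282 : act 2 n17261 = n12784 := d13_1 D17261 (iv D12784) (iv F22374)
theorem F30283 : act 1 n17261 = n16976 := d23_2 D12784 (iv F30282) F29891 F22159 (iv D10239) (iv D5555) F4183 (iv D1298) D1297 F2179 F16791 D1313 F2201 D1314 (iv F16574) (iv F16591) D2719 D5647 D10307
theorem E7270 : n17259 = n16904 := ((c9_5 D17261 F30283 F29892 D17019 F29959 (iv D17259))).symm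
theorem F30284 : act 1 n16904 = n12776 := (sb E7270 (iv D17259))
theorem E7271 : n17254 = n16900 := (c0_6 F30284 (iv D12776) (iv D10305) (iv F18173) D12774 D17254 (iv D16900) F22088 D12576 D16904)
theorem F30285 : act 0 n16900 = n12774 := (sb E7271 (iv D17254))
theorem E7272 : n17161 = n17095 := ((((iv F30050)).symm.trans (sb E7271 F30271))).symm
theorem F30286 : act 0 n17095 = n12729 := (sb E7272 (iv D17161))
theorem F30287 : act 2 n12782 = n16916 := d6_4 (iv F29799) F30284 F22374 D12782 (iv D16916)
theorem E7273 : n17178 = n17111 := (c1_3 F30287 F29810 D17178 F30068)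
theorem F30288 : act 2 n17111 = n12737 := (sb E7273 (iv D17178))
theorem E7274 : n17166 = n17099 := (c6_4 F30288 (iv D12737) (iv F22325) D17166 F30057 D17111)
theorem F30289 : act 1 n17099 = n12731 := (sb E7274 (iv D17166))
def n17262 : Q := act 6 n12776
theorem D17262 : act 6 n12776 = n17262 := rfl
theorem F30290 : act 0 n17262 = n12779 := d5_1 D17262 (iv D12779) D12776
theorem F30291 : act 2 n17262 = n12785 := d14_1 D17262 (iv D12785) (iv F22374)
def n17263 : Q := act 2 n12777
theorem D17263 : act 2 n12777 = n17263 := rfl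
def n17264 : Q := act 4 n12777
theorem D17264 : act 4 n12777 = n17264 := rfl
theorem F30292 : act 1 n17264 = n12781 := d8_1 D17264 (iv D12781) (iv F22375)
def n17265 : Q := act 5 n12777
theorem D17265 : act 5 n12777 = n17265 := rfl
theorem F30293 : act 1 n17265 = n14797 := d9_1 D17265 F25743 F20222 (iv F18177) (iv F22375)
theorem F30294 : act 3 n17265 = n12778 := d16_1 D17265 (iv D12778) D12777
def n17266 : Q := act 6 n12777
theorem D17266 : act 6 n12777 = n17266 := rfl
theorem F30295 : act 3 n17266 = n12779 := d17_1 D17266 (iv D12779) D12777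
def n17267 : Q := act 6 n12778
theorem D17267 : act 6 n12778 = n17267 := rfl
theorem F30296 : act 2 n17267 = n12790 := d14_1 D17267 (iv D12790) (iv F22377)
theorem F30297 : act 5 n17267 = n17262 := d22_2 D12778 D17267 (iv D17262) (iv D12776)
def n17268 : Q := act 5 n12779
theorem D17268 : act 5 n12779 = n17268 := rfl
theorem F30298 : act 0 n17268 = n17267 := d4_1 D17268 F30297 F30290
theorem F30299 : act 2 n17268 = n12791 := d13_1 D17268 (iv D12791) (iv F22378)
theorem F30300 : act 6 n17268 = n17261 := d20_2 D12779 D17268 (iv D17261) D17262 (iv F30297) (iv D17267) (iv D12778)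
def n17269 : Q := act 1 n12780
theorem D17269 : act 1 n12780 = n17269 := rfl
def n17270 : Q := act 4 n12780
theorem D17270 : act 4 n12780 = n17270 := rfl
theorem F30301 : act 2 n17270 = n12781 := d12_1 D17270 (iv D12781) D12780
theorem F30302 : act 5 n17270 = n14839 := d18_2 (iv F22379) D17270 (iv D14839)
def n17271 : Q := act 3 n12782
theorem D17271 : act 3 n12782 = n17271 := rfl
theorem F30303 : act 1 n17271 = n12783 := d7_1 D17271 (iv D12783) D12782
def n17272 : Q := act 5 n12782
theorem D17272 : act 5 n12782 = n17272 := rfl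
def n17273 : Q := act 6 n12782
theorem D17273 : act 6 n12782 = n17273 := rfl
def n17274 : Q := act 2 n12783
theorem D17274 : act 2 n12783 = n17274 := rfl
theorem F30304 : act 0 n17274 = n12786 := d1_1 D17274 (iv D12786) (iv F22381)
def n17275 : Q := act 4 n12783
theorem D17275 : act 4 n12783 = n17275 := rfl
theorem F30305 : act 0 n17275 = n12787 := d3_1 D17275 (iv D12787) (iv F22381)
def n17276 : Q := act 5 n12783
theorem D17276 : act 5 n12783 = n17276 := rfl
theorem F30306 : act 0 n17276 = n12788 := d4_1 D17276 (iv D12788) (iv F22381)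
theorem F30307 : act 3 n17276 = n12784 := d16_1 D17276 (iv D12784) D12783
def n17277 : Q := act 6 n12783
theorem D17277 : act 6 n12783 = n17277 := rfl
theorem F30308 : act 0 n17277 = n12789 := d5_1 D17277 (iv D12789) (iv F22381)
theorem F30309 : act 3 n17277 = n12785 := d17_1 D17277 (iv D12785) D12783
def n17278 : Q := act 1 n12784
theorem D17278 : act 1 n12784 = n17278 := rfl
theorem F30310 : act 2 n17278 = n16613 := d6_2 F30282 D17278 F29341 D16976 (iv F30283)
theorem F30311 : act 0 n17278 = n16915 := d23_3 D17261 F30282 D17278 F29808 (iv D12590) (iv D10214) F8414 (iv D2673) D2672 F4180 (iv F4213) F17110 F7083 (iv F16969) (iv D4416) F16839 D5644 D10305 D12776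
theorem F30312 : act 5 n16612 = n17278 := d4_0 F30311 F29808 (iv F29338)
theorem F30313 : act 1 n17272 = n16612 := d9_5 F30312 (iv D17278) (iv D12784) D12782 D17272
def n17279 : Q := act 1 n12785
theorem D17279 : act 1 n12785 = n17279 := rfl
def n17280 : Q := act 3 n12786
theorem D17280 : act 3 n12786 = n17280 := rfl
def n17281 : Q := act 4 n12786
theorem D17281 : act 4 n12786 = n17281 := rfl
theorem F30314 : act 2 n17281 = n12787 := d12_1 D17281 (iv D12787) D12786
def n17282 : Q := act 5 n12786
theorem D17282 : act 5 n12786 = n17282 := rfl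
theorem F30315 : act 2 n17282 = n12788 := d13_1 D17282 (iv D12788) D12786
def n17283 : Q := act 6 n12786
theorem D17283 : act 6 n12786 = n17283 := rfl
theorem F30316 : act 2 n17283 = n12789 := d14_1 D17283 (iv D12789) D12786
def n17284 : Q := act 5 n12787
theorem D17284 : act 5 n12787 = n17284 := rfl
theorem F30317 : act 1 n17284 = n14792 := d9_1 D17284 (iv D14792) F20212 (iv F18181) (iv F22384)
theorem F30318 : act 4 n17284 = n12788 := d18_1 D17284 (iv D12788) D12787
def n17285 : Q := act 6 n12787
theorem D17285 : act 6 n12787 = n17285 := rfl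
theorem F30319 : act 4 n17285 = n12789 := d19_1 D17285 (iv D12789) D12787
def n17286 : Q := act 6 n12788
theorem D17286 : act 6 n12788 = n17286 := rfl
theorem F30320 : act 3 n17286 = n12790 := d17_1 D17286 (iv D12790) (iv F22386)
theorem F30321 : act 5 n17286 = n17277 := d22_2 D12788 D17286 (iv D17277) F22381
def n17287 : Q := act 5 n12789
theorem D17287 : act 5 n12789 = n17287 := rfl
theorem F30322 : act 0 n17287 = n17286 := d4_1 D17287 F30321 F30308
theorem F30323 : act 3 n17287 = n12791 := d16_1 D17287 (iv D12791) (iv F22387)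
theorem F30324 : act 6 n17287 = n17276 := d20_2 D12789 D17287 (iv D17276) D17277 (iv F30321) (iv D17286) (iv D12788)
def n17288 : Q := act 1 n12790
theorem D17288 : act 1 n12790 = n17288 := rfl
theorem F30325 : act 6 n17288 = n14794 := d10_2 D12790 D17288 (iv D14794) (iv D11421) (iv F18179)
def n17289 : Q := act 1 n12791
theorem D17289 : act 1 n12791 = n17289 := rfl
def n17290 : Q := act 1 n12792
theorem D17290 : act 1 n12792 = n17290 := rfl
def n17291 : Q := act 4 n12792
theorem D17291 : act 4 n12792 = n17291 := rfl
theorem F30326 : act 0 n17291 = n12793 := d3_1 D17291 (iv D12793) D12792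
def n17292 : Q := act 5 n12792
theorem D17292 : act 5 n12792 = n17292 := rfl
theorem F30327 : act 0 n17292 = n12794 := d4_1 D17292 (iv D12794) D12792
def n17293 : Q := act 6 n12792
theorem D17293 : act 6 n12792 = n17293 := rfl
theorem F30328 : act 0 n17293 = n12795 := d5_1 D17293 (iv D12795) D12792
def n17294 : Q := act 3 n12793
theorem D17294 : act 3 n12793 = n17294 := rfl
theorem F30329 : act 1 n17294 = n12796 := d7_1 D17294 (iv D12796) (iv F22391)
def n17295 : Q := act 5 n12793
theorem D17295 : act 5 n12793 = n17295 := rfl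
theorem F30330 : act 4 n17295 = n12794 := d18_1 D17295 (iv D12794) D12793
def n17296 : Q := act 6 n12793
theorem D17296 : act 6 n12793 = n17296 := rfl
theorem F30331 : act 4 n17296 = n12795 := d19_1 D17296 (iv D12795) D12793
def n17297 : Q := act 6 n12794
theorem D17297 : act 6 n12794 = n17297 := rfl
theorem F30332 : act 5 n17297 = n17293 := d22_2 D12794 D17297 (iv D17293) (iv D12792)
def n17298 : Q := act 5 n12795
theorem D17298 : act 5 n12795 = n17298 := rfl
theorem F30333 : act 0 n17298 = n17297 := d4_1 D17298 F30332 F30328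
theorem F30334 : act 6 n17298 = n17292 := d20_2 D12795 D17298 (iv D17292) D17293 (iv F30332) (iv D17297) (iv D12794)
def n17299 : Q := act 6 n12797
theorem D17299 : act 6 n12797 = n17299 := rfl
theorem F30336 : act 1 n17299 = n12835 := d10_1 D17299 (iv D12835) F18221 (iv F18187) (iv F28890)
theorem F30339 : act 4 n17299 = n12800 := d19_1 D17299 (iv D12800) (iv F28891)
def n17300 : Q := act 6 n12799
theorem D17300 : act 6 n12799 = n17300 := rfl
theorem F30340 : act 0 n17300 = n13461 := d5_1 D17300 (iv D13461) (iv F28833)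
theorem F30342 : act 3 n17300 = n13337 := d17_1 D17300 (iv D13337) (iv F28834)
theorem F30343 : act 4 n17300 = n13461 := d19_1 D17300 (iv D13461) (iv F28835)
theorem F30344 : act 5 n17300 = n17299 := d20_1 D17300 (iv D17299) F28831 D13461 (iv F29261) (iv D12800) D12799
def n17301 : Q := act 1 n12801
theorem D17301 : act 1 n12801 = n17301 := rfl
theorem F30345 : act 2 n17301 = n14312 := d6_2 D12801 D17301 (iv D14312) (iv D11181) (iv F18189)
theorem F30346 : act 3 n17301 = n17176 := d7_2 (iv F22402) D17301 (iv D17176)
def n17302 : Q := act 4 n12801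
theorem D17302 : act 4 n12801 = n17302 := rfl
theorem F30347 : act 0 n17302 = n12808 := d3_1 D17302 (iv D12808) (iv F22399)
theorem F30348 : act 2 n17302 = n12802 := d12_1 D17302 (iv D12802) D12801
theorem F30349 : act 5 n17302 = n12808 := d18_2 (iv F22400) D17302 (iv D12808)
def n17303 : Q := act 1 n12803
theorem D17303 : act 1 n12803 = n17303 := rfl
theorem F30351 : act 2 n17303 = n12806 := d6_2 D12803 D17303 (iv D12806) (iv D10319) (iv F18192)
def n17304 : Q := act 3 n12803
theorem D17304 : act 3 n12803 = n17304 := rfl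
def n17305 : Q := act 4 n12803
theorem D17305 : act 4 n12803 = n17305 := rfl
theorem F30352 : act 2 n17305 = n12804 := d12_1 D17305 (iv D12804) D12803
def n17306 : Q := act 5 n12803
theorem D17306 : act 5 n12803 = n17306 := rfl
theorem F30354 : act 2 n17306 = n12805 := d13_1 D17306 (iv D12805) D12803
theorem F30355 : act 6 n17306 = n12850 := d20_2 (iv F22508) D17306 F22499 (iv F22816) F22815 (iv D12856) D12855
def n17307 : Q := act 5 n12804
theorem D17307 : act 5 n12804 = n17307 := rfl
theorem F30357 : act 1 n17307 = n14174 := d9_1 D17307 F24752 (iv F22404) F22406 (iv F22408)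
theorem F30360 : act 6 n17307 = n12851 := d20_2 (iv F22514) D17307 F22503 (iv F22808) (iv F22809) (iv D12858) D12857
def n17308 : Q := act 0 n12806
theorem D17308 : act 0 n12806 = n17308 := rfl
def n17309 : Q := act 3 n12806
theorem D17309 : act 3 n12806 = n17309 := rfl
theorem F30361 : act 1 n17309 = n12807 := d7_1 D17309 (iv D12807) D12806
def n17310 : Q := act 4 n12806
theorem D17310 : act 4 n12806 = n17310 := rfl
theorem F30362 : act 1 n17310 = n12808 := d8_1 D17310 (iv D12808) D12806
def n17311 : Q := act 5 n12806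
theorem D17311 : act 5 n12806 = n17311 := rfl
def n17312 : Q := act 6 n12806
theorem D17312 : act 6 n12806 = n17312 := rfl
theorem F30363 : act 1 n17312 = n14864 := d10_1 D17312 (iv D14864) (iv D11455) (iv F18198) D12806
def n17313 : Q := act 4 n12807
theorem D17313 : act 4 n12807 = n17313 := rfl
theorem F30364 : act 0 n17313 = n17177 := d3_1 D17313 (iv D17177) (iv F22414)
theorem F30365 : act 2 n17313 = n17165 := d12_1 D17313 (iv D17165) (iv F22415)
theorem F30366 : act 5 n17313 = n17177 := d18_2 (iv F22416) D17313 (iv D17177)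
theorem F30367 : act 6 n17313 = n14865 := d19_2 (iv F22417) D17313 (iv D14865)
def n17314 : Q := act 3 n12808
theorem D17314 : act 3 n12808 = n17314 := rfl
def n17315 : Q := act 1 n12809
theorem D17315 : act 1 n12809 = n17315 := rfl
theorem F30369 : act 2 n17315 = n12990 := d6_2 D12809 D17315 (iv D12990) F18451 (iv F18202)
def n17316 : Q := act 3 n12809
theorem D17316 : act 3 n12809 = n17316 := rfl
theorem F30370 : act 0 n17316 = n12813 := d2_1 D17316 (iv D12813) (iv F22420)
theorem F30371 : act 6 n17316 = n12948 := d17_2 (iv F22421) D17316 (iv D12948)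
theorem F30372 : act 2 n17316 = n17304 := d21_2 D12809 D17316 (iv D17304) (iv D12803) (iv D10317) F8627 D5695 (iv F18201)
def n17318 : Q := act 5 n12809
theorem D17318 : act 5 n12809 = n17318 := rfl
theorem F30377 : act 2 n17318 = n12811 := d13_1 D17318 (iv D12811) D12809
theorem F30378 : act 6 n17318 = n12845 := d20_2 (iv F22421) D17318 F22488 (iv D12816) D12815 (iv F22687) F22686
def n17320 : Q := act 0 n12812
theorem D17320 : act 0 n12812 = n17320 := rfl
theorem F30384 : act 2 n17320 = n12819 := d1_2 (iv F22430) D17320 (iv D12819)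
def n17321 : Q := act 3 n12812
theorem D17321 : act 3 n12812 = n17321 := rfl
theorem F30385 : act 1 n17321 = n12813 := d7_1 D17321 (iv D12813) D12812
def n17322 : Q := act 4 n12812
theorem D17322 : act 4 n12812 = n17322 := rfl
theorem F30387 : act 2 n17322 = n12820 := d12_1 D17322 (iv D12820) (iv F22430)
def n17323 : Q := act 5 n12812
theorem D17323 : act 5 n12812 = n17323 := rfl
theorem F30388 : act 2 n17323 = n12821 := d13_1 D17323 (iv D12821) (iv F22430)
def n17324 : Q := act 6 n12812
theorem D17324 : act 6 n12812 = n17324 := rfl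
theorem F30389 : act 2 n17324 = n12822 := d14_1 D17324 (iv D12822) (iv F22430)
def n17325 : Q := act 2 n12813
theorem D17325 : act 2 n12813 = n17325 := rfl
theorem F30390 : act 0 n17325 = n17304 := d1_1 D17325 (iv F30372) F30370
theorem F30391 : act 3 n17325 = n13015 := d11_2 D12813 D17325 (iv D13015) F18479 (iv F15626) D10321 D12809 D17316 F30372 (iv D17304) (iv D12803) (iv D10317) F8627 D5695 D10323
theorem F30392 : act 6 n13033 = n17325 := d17_0 F30391 F22816 D13033
def n17326 : Q := act 4 n12813
theorem D17326 : act 4 n12813 = n17326 := rfl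
def n17327 : Q := act 5 n12813
theorem D17327 : act 5 n12813 = n17327 := rfl
theorem F30393 : act 3 n17327 = n12815 := d16_1 D17327 (iv D12815) D12813
def n17328 : Q := act 6 n12813
theorem D17328 : act 6 n12813 = n17328 := rfl
theorem F30394 : act 0 n17328 = n12948 := d5_1 D17328 (iv F30371) F30370
theorem F30395 : act 2 n17328 = n13033 := d14_1 D17328 F30392 (iv D17325)
theorem F30396 : act 3 n17328 = n12816 := d17_1 D17328 (iv D12816) D12813
def n17329 : Q := act 3 n12814
theorem D17329 : act 3 n12814 = n17329 := rfl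
def n17333 : Q := act 1 n12816
theorem D17333 : act 1 n12816 = n17333 := rfl
theorem F30402 : act 2 n17333 = n13631 := d6_2 (iv F22434) D17333 (iv D13631) F19178 (iv F18213)
def n17334 : Q := act 1 n12819
theorem D17334 : act 1 n12819 = n17334 := rfl
theorem F30403 : act 3 n17334 = n17198 := d7_2 (iv F22441) D17334 (iv D17198)
def n17335 : Q := act 4 n12819
theorem D17335 : act 4 n12819 = n17335 := rfl
theorem F30404 : act 0 n17335 = n12820 := d3_1 D17335 (iv D12820) D12819
def n17336 : Q := act 5 n12819
theorem D17336 : act 5 n12819 = n17336 := rfl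
theorem F30405 : act 0 n17336 = n12821 := d4_1 D17336 (iv D12821) D12819
theorem F30406 : act 3 n17336 = n17200 := d16_1 D17336 (iv D17200) (iv F22441)
def n17337 : Q := act 6 n12819
theorem D17337 : act 6 n12819 = n17337 := rfl
theorem F30407 : act 0 n17337 = n12822 := d5_1 D17337 (iv D12822) D12819
theorem F30408 : act 3 n17337 = n17201 := d17_1 D17337 (iv D17201) (iv F22441)
def n17338 : Q := act 3 n12820
theorem D17338 : act 3 n12820 = n17338 := rfl
theorem F30409 : act 1 n17338 = n12823 := d7_1 D17338 (iv D12823) (iv F22442)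
theorem F30410 : act 4 n17338 = n17202 := d15_2 D12820 D17338 (iv D17202) (iv D12748) (iv F18215)
def n17339 : Q := act 5 n12820
theorem D17339 : act 5 n12820 = n17339 := rfl
theorem F30411 : act 4 n17339 = n12821 := d18_1 D17339 (iv D12821) D12820
def n17340 : Q := act 6 n12820
theorem D17340 : act 6 n12820 = n17340 := rfl
theorem F30412 : act 1 n17340 = n14684 := d10_1 D17340 F28948 F20246 (iv F18218) (iv F22442)
theorem F30413 : act 4 n17340 = n12822 := d19_1 D17340 (iv D12822) D12820
def n17341 : Q := act 6 n12821
theorem D17341 : act 6 n12821 = n17341 := rfl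
theorem F30414 : act 3 n17341 = n17205 := d17_1 D17341 (iv D17205) (iv F22443)
theorem F30415 : act 5 n17341 = n17337 := d22_2 D12821 D17341 (iv D17337) (iv D12819)
def n17342 : Q := act 5 n12822
theorem D17342 : act 5 n12822 = n17342 := rfl
theorem F30416 : act 0 n17342 = n17341 := d4_1 D17342 F30415 F30407
theorem F30417 : act 3 n17342 = n17206 := d16_1 D17342 (iv D17206) (iv F22445)
theorem F30418 : act 6 n17342 = n17336 := d20_2 D12822 D17342 (iv D17336) D17337 (iv F30415) (iv D17341) (iv D12821)
def n17343 : Q := act 0 n12824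
theorem D17343 : act 0 n12824 = n17343 := rfl
def n17344 : Q := act 2 n12824
theorem D17344 : act 2 n12824 = n17344 := rfl
theorem F30419 : act 1 n17344 = n12950 := d6_1 D17344 (iv D12950) (iv D10413) (iv F18219) D12824
def n17345 : Q := act 3 n12824
theorem D17345 : act 3 n12824 = n17345 := rfl
theorem F30420 : act 1 n17345 = n12825 := d7_1 D17345 (iv D12825) D12824
def n17346 : Q := act 4 n12824
theorem D17346 : act 4 n12824 = n17346 := rfl
theorem F30421 : act 1 n17346 = n12826 := d8_1 D17346 (iv D12826) D12824
def n17347 : Q := act 5 n12824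
theorem D17347 : act 5 n12824 = n17347 := rfl
def n17348 : Q := act 6 n12824
theorem D17348 : act 6 n12824 = n17348 := rfl
def n17349 : Q := act 2 n12825
theorem D17349 : act 2 n12825 = n17349 := rfl
theorem F30422 : act 0 n17349 = n12829 := d1_1 D17349 (iv D12829) (iv F22449)
def n17350 : Q := act 4 n12825
theorem D17350 : act 4 n12825 = n17350 := rfl
theorem F30423 : act 0 n17350 = n12830 := d3_1 D17350 (iv D12830) (iv F22449)
def n17351 : Q := act 5 n12825
theorem D17351 : act 5 n12825 = n17351 := rfl
theorem F30424 : act 0 n17351 = n12831 := d4_1 D17351 (iv D12831) (iv F22449)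
theorem F30425 : act 3 n17351 = n12827 := d16_1 D17351 (iv D12827) D12825
def n17352 : Q := act 6 n12825
theorem D17352 : act 6 n12825 = n17352 := rfl
theorem F30426 : act 0 n17352 = n12832 := d5_1 D17352 (iv D12832) (iv F22449)
theorem F30427 : act 3 n17352 = n12828 := d17_1 D17352 (iv D12828) D12825
def n17353 : Q := act 3 n12826
theorem D17353 : act 3 n12826 = n17353 := rfl
theorem F30428 : act 0 n17353 = n12833 := d2_1 D17353 (iv D12833) (iv F22450)
def n17354 : Q := act 5 n12826
theorem D17354 : act 5 n12826 = n17354 := rfl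
theorem F30431 : act 4 n17354 = n12827 := d18_1 D17354 (iv D12827) D12826
def n17355 : Q := act 6 n12826
theorem D17355 : act 6 n12826 = n17355 := rfl
theorem F30432 : act 0 n17355 = n12835 := d5_1 D17355 (iv D12835) (iv F22450)
theorem F30433 : act 2 n17355 = n12956 := d14_1 D17355 (iv D12956) (iv F22451)
theorem F30434 : act 4 n17355 = n12828 := d19_1 D17355 (iv D12828) D12826
def n17356 : Q := act 1 n12827
theorem D17356 : act 1 n12827 = n17356 := rfl
def n17357 : Q := act 1 n12828
theorem D17357 : act 1 n12828 = n17357 := rfl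
def n17358 : Q := act 3 n12829
theorem D17358 : act 3 n12829 = n17358 := rfl
theorem F30435 : act 1 n17358 = n17188 := d7_1 D17358 (iv D17188) (iv F22456)
def n17359 : Q := act 4 n12829
theorem D17359 : act 4 n12829 = n17359 := rfl
theorem F30436 : act 1 n17359 = n17189 := d8_1 D17359 (iv D17189) (iv F22456)
theorem F30437 : act 2 n17359 = n12830 := d12_1 D17359 (iv D12830) D12829
def n17360 : Q := act 5 n12829
theorem D17360 : act 5 n12829 = n17360 := rfl
theorem F30438 : act 2 n17360 = n12831 := d13_1 D17360 (iv D12831) D12829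
def n17361 : Q := act 6 n12829
theorem D17361 : act 6 n12829 = n17361 := rfl
theorem F30439 : act 2 n17361 = n12832 := d14_1 D17361 (iv D12832) D12829
def n17362 : Q := act 3 n12830
theorem D17362 : act 3 n12830 = n17362 := rfl
theorem F30440 : act 1 n17362 = n12838 := d7_1 D17362 (iv D12838) (iv F22457)
theorem F30441 : act 4 n17362 = n12833 := d15_2 D12830 D17362 (iv D12833) (iv D10331) D10330
def n17363 : Q := act 5 n12830
theorem D17363 : act 5 n12830 = n17363 := rfl
theorem F30442 : act 4 n17363 = n12831 := d18_1 D17363 (iv D12831) D12830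
def n17364 : Q := act 6 n12830
theorem D17364 : act 6 n12830 = n17364 := rfl
theorem F30443 : act 4 n17364 = n12832 := d19_1 D17364 (iv D12832) D12830
def n17365 : Q := act 6 n12831
theorem D17365 : act 6 n12831 = n17365 := rfl
theorem F30444 : act 3 n17365 = n12836 := d17_1 D17365 (iv D12836) (iv F22458)
theorem F30445 : act 5 n17365 = n17352 := d22_2 D12831 D17365 (iv D17352) F22449
def n17366 : Q := act 5 n12832
theorem D17366 : act 5 n12832 = n17366 := rfl
theorem F30446 : act 0 n17366 = n17365 := d4_1 D17366 F30445 F30426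
theorem F30448 : act 6 n17366 = n17351 := d20_2 D12832 D17366 (iv D17351) D17352 (iv F30445) (iv D17365) (iv D12831)
def n17367 : Q := act 2 n12833
theorem D17367 : act 2 n12833 = n17367 := rfl
def n17368 : Q := act 5 n12833
theorem D17368 : act 5 n12833 = n17368 := rfl
theorem F30449 : act 3 n17368 = n12834 := d16_1 D17368 (iv D12834) D12833
def n17369 : Q := act 6 n12833
theorem D17369 : act 6 n12833 = n17369 := rfl
theorem F30450 : act 1 n17369 = n13463 := d10_1 D17369 (iv D13463) F28888 (iv F20878) (iv F22460)
def n17370 : Q := act 6 n12834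
theorem D17370 : act 6 n12834 = n17370 := rfl
theorem F30453 : act 4 n17370 = n12836 := d19_1 D17370 (iv D12836) (iv F22462)
theorem F30454 : act 5 n17370 = n17355 := d22_2 D12834 D17370 (iv D17355) F22450
def n17371 : Q := act 5 n12835
theorem D17371 : act 5 n12835 = n17371 := rfl
theorem F30457 : act 4 n17371 = n12837 := d18_1 D17371 (iv D12837) (iv F22464)
theorem F30458 : act 6 n17371 = n17354 := d20_2 D12835 D17371 (iv D17354) D17355 (iv F30454) (iv D17370) (iv D12834)
def n17372 : Q := act 1 n12836
theorem D17372 : act 1 n12836 = n17372 := rfl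
def n17373 : Q := act 1 n12837
theorem D17373 : act 1 n12837 = n17373 := rfl
def n17374 : Q := act 1 n12839
theorem D17374 : act 1 n12839 = n17374 := rfl
def n17375 : Q := act 4 n12839
theorem D17375 : act 4 n12839 = n17375 := rfl
theorem F30459 : act 0 n17375 = n12840 := d3_1 D17375 (iv D12840) D12839
def n17376 : Q := act 5 n12839
theorem D17376 : act 5 n12839 = n17376 := rfl
theorem F30461 : act 0 n17376 = n12841 := d4_1 D17376 (iv D12841) D12839
def n17377 : Q := act 6 n12839
theorem D17377 : act 6 n12839 = n17377 := rfl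
def n17378 : Q := act 5 n12840
theorem D17378 : act 5 n12840 = n17378 := rfl
theorem F30465 : act 1 n17378 = n12874 := d9_1 D17378 (iv D12874) F18257 (iv F18230) (iv F22473)
def n17379 : Q := act 6 n12840
theorem D17379 : act 6 n12840 = n17379 := rfl
def n17380 : Q := act 6 n12841
theorem D17380 : act 6 n12841 = n17380 := rfl
def n17382 : Q := act 1 n12843
theorem D17382 : act 1 n12843 = n17382 := rfl
theorem F30476 : act 2 n17382 = n14261 := d6_2 D12843 D17382 (iv D14261) (iv D11154) (iv F18233)
theorem F30477 : act 3 n17382 = n17269 := d7_2 (iv F22482) D17382 (iv D17269)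
def n17384 : Q := act 1 n12845
theorem D17384 : act 1 n12845 = n17384 := rfl
theorem F30482 : act 2 n17384 = n12847 := d6_2 D12845 D17384 (iv D12847) (iv D10340) (iv F18236)
def n17385 : Q := act 3 n12845
theorem D17385 : act 3 n12845 = n17385 := rfl
theorem F30483 : act 5 n17385 = n17328 := d16_2 (iv F22488) D17385 F30396
def n17386 : Q := act 4 n12845
theorem D17386 : act 4 n12845 = n17386 := rfl
theorem F30484 : act 2 n17386 = n12846 := d12_1 D17386 (iv D12846) D12845
def n17387 : Q := act 0 n12847
theorem D17387 : act 0 n12847 = n17387 := rfl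
def n17388 : Q := act 3 n12847
theorem D17388 : act 3 n12847 = n17388 := rfl
theorem F30486 : act 1 n17388 = n12848 := d7_1 D17388 (iv D12848) D12847
def n17389 : Q := act 4 n12847
theorem D17389 : act 4 n12847 = n17389 := rfl
theorem F30487 : act 1 n17389 = n12849 := d8_1 D17389 (iv D12849) D12847
def n17390 : Q := act 5 n12847
theorem D17390 : act 5 n12847 = n17390 := rfl
theorem F30488 : act 1 n17390 = n14890 := d9_1 D17390 (iv D14890) (iv D11469) (iv F18238) D12847
def n17391 : Q := act 6 n12847
theorem D17391 : act 6 n12847 = n17391 := rfl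
def n17392 : Q := act 4 n12848
theorem D17392 : act 4 n12848 = n17392 := rfl
theorem F30489 : act 0 n17392 = n17270 := d3_1 D17392 (iv D17270) (iv F22492)
theorem F30490 : act 2 n17392 = n17258 := d12_1 D17392 (iv D17258) (iv F22493)
theorem F30491 : act 5 n17392 = n14892 := d18_2 (iv F22494) D17392 (iv D14892)
theorem F30492 : act 6 n17392 = n17270 := d19_2 (iv F22495) D17392 (iv D17270)
def n17393 : Q := act 3 n12849
theorem D17393 : act 3 n12849 = n17393 := rfl
def n17394 : Q := act 1 n12850
theorem D17394 : act 1 n12850 = n17394 := rfl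
theorem F30494 : act 2 n17394 = n13075 := d6_2 D12850 D17394 (iv D13075) F18530 (iv F18242)
def n17395 : Q := act 3 n12850
theorem D17395 : act 3 n12850 = n17395 := rfl
theorem F30495 : act 0 n17395 = n12853 := d2_1 D17395 (iv D12853) (iv F22498)
theorem F30496 : act 5 n17395 = n13033 := d16_2 (iv F22499) D17395 (iv D13033)
theorem F30497 : act 2 n17395 = n17385 := d21_2 D12850 D17395 (iv D17385) (iv D12845) (iv D10339) F8745 D5750 (iv F18241)
def n17396 : Q := act 4 n12850
theorem D17396 : act 4 n12850 = n17396 := rfl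
theorem F30499 : act 2 n17396 = n12851 := d12_1 D17396 (iv D12851) D12850
def n17397 : Q := act 0 n12852
theorem D17397 : act 0 n12852 = n17397 := rfl
theorem F30501 : act 2 n17397 = n12859 := d1_2 (iv F22504) D17397 (iv D12859)
def n17398 : Q := act 3 n12852
theorem D17398 : act 3 n12852 = n17398 := rfl
theorem F30502 : act 1 n17398 = n12853 := d7_1 D17398 (iv D12853) D12852
def n17399 : Q := act 4 n12852
theorem D17399 : act 4 n12852 = n17399 := rfl
theorem F30503 : act 1 n17399 = n12854 := d8_1 D17399 (iv D12854) D12852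
theorem F30504 : act 2 n17399 = n12860 := d12_1 D17399 (iv D12860) (iv F22504)
def n17400 : Q := act 5 n12852
theorem D17400 : act 5 n12852 = n17400 := rfl
theorem F30505 : act 2 n17400 = n12861 := d13_1 D17400 (iv D12861) (iv F22504)
def n17401 : Q := act 6 n12852
theorem D17401 : act 6 n12852 = n17401 := rfl
theorem F30506 : act 2 n17401 = n12862 := d14_1 D17401 (iv D12862) (iv F22504)
def n17402 : Q := act 2 n12853
theorem D17402 : act 2 n12853 = n17402 := rfl
theorem F30507 : act 0 n17402 = n17385 := d1_1 D17402 (iv F30497) F30495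
theorem F30508 : act 3 n17402 = n12930 := d11_2 D12853 D17402 (iv D12930) F18400 (iv F16616) D10342 D12850 D17395 F30497 (iv D17385) (iv D12845) (iv D10339) F8745 D5750 D10343
theorem F30509 : act 5 n12948 = n17402 := d16_0 F30508 F22686 D12948
theorem F30510 : act 6 n17327 = n17402 := d17_0 F30508 F22687 (iv F30393)
def n17403 : Q := act 4 n12853
theorem D17403 : act 4 n12853 = n17403 := rfl
def n17404 : Q := act 5 n12853
theorem D17404 : act 5 n12853 = n17404 := rfl
theorem F30511 : act 0 n17404 = n13033 := d4_1 D17404 (iv F30496) F30495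
theorem F30512 : act 2 n17404 = n12948 := d13_1 D17404 F30509 (iv D17402)
theorem F30513 : act 3 n17404 = n12855 := d16_1 D17404 (iv D12855) D12853
theorem F30514 : act 6 n17304 = n17404 := d17_0 F30513 (iv F22508) D17304
def n17405 : Q := act 6 n12853
theorem D17405 : act 6 n12853 = n17405 := rfl
theorem F30515 : act 2 n17405 = n17327 := d14_1 D17405 F30510 (iv D17402)
theorem F30516 : act 3 n17405 = n12856 := d17_1 D17405 (iv D12856) D12853
def n17406 : Q := act 3 n12854
theorem D17406 : act 3 n12854 = n17406 := rfl
theorem F30518 : act 2 n17406 = n17329 := d21_2 (iv F22505) D17406 (iv D17329) F22431 F18210 (iv F18294) (iv F22502) F22500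
def n17407 : Q := act 5 n12854
theorem D17407 : act 5 n12854 = n17407 := rfl
theorem F30521 : act 4 n17407 = n12855 := d18_1 D17407 (iv D12855) D12854
def n17409 : Q := act 1 n12855
theorem D17409 : act 1 n12855 = n17409 := rfl
theorem F30525 : act 2 n17409 = n13648 := d6_2 (iv F22507) D17409 (iv D13648) F19206 (iv F18247)
def n17411 : Q := act 1 n12859
theorem D17411 : act 1 n12859 = n17411 := rfl
theorem F30526 : act 3 n17411 = n17290 := d7_2 (iv F22517) D17411 (iv D17290)
def n17412 : Q := act 4 n12859
theorem D17412 : act 4 n12859 = n17412 := rfl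
theorem F30527 : act 0 n17412 = n12860 := d3_1 D17412 (iv D12860) D12859
def n17413 : Q := act 5 n12859
theorem D17413 : act 5 n12859 = n17413 := rfl
theorem F30528 : act 0 n17413 = n12861 := d4_1 D17413 (iv D12861) D12859
theorem F30529 : act 3 n17413 = n17292 := d16_1 D17413 (iv D17292) (iv F22517)
def n17414 : Q := act 6 n12859
theorem D17414 : act 6 n12859 = n17414 := rfl
theorem F30530 : act 0 n17414 = n12862 := d5_1 D17414 (iv D12862) D12859
theorem F30531 : act 3 n17414 = n17293 := d17_1 D17414 (iv D17293) (iv F22517)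
def n17415 : Q := act 3 n12860
theorem D17415 : act 3 n12860 = n17415 := rfl
theorem F30532 : act 1 n17415 = n12863 := d7_1 D17415 (iv D12863) (iv F22518)
theorem F30533 : act 4 n17415 = n17294 := d15_2 D12860 D17415 (iv D17294) (iv D12793) (iv F18251)
def n17416 : Q := act 5 n12860
theorem D17416 : act 5 n12860 = n17416 := rfl
theorem F30534 : act 1 n17416 = n14877 := d9_1 D17416 (iv D14877) F20271 (iv F18254) (iv F22518)
theorem F30535 : act 4 n17416 = n12861 := d18_1 D17416 (iv D12861) D12860
def n17417 : Q := act 6 n12860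
theorem D17417 : act 6 n12860 = n17417 := rfl
theorem F30536 : act 4 n17417 = n12862 := d19_1 D17417 (iv D12862) D12860
def n17418 : Q := act 6 n12861
theorem D17418 : act 6 n12861 = n17418 := rfl
theorem F30537 : act 3 n17418 = n17297 := d17_1 D17418 (iv D17297) (iv F22520)
theorem F30538 : act 5 n17418 = n17414 := d22_2 D12861 D17418 (iv D17414) (iv D12859)
def n17419 : Q := act 5 n12862
theorem D17419 : act 5 n12862 = n17419 := rfl
theorem F30539 : act 0 n17419 = n17418 := d4_1 D17419 F30538 F30530
theorem F30540 : act 3 n17419 = n17298 := d16_1 D17419 (iv D17298) (iv F22521)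
theorem F30541 : act 6 n17419 = n17413 := d20_2 D12862 D17419 (iv D17413) D17414 (iv F30538) (iv D17418) (iv D12861)
def n17420 : Q := act 0 n12864
theorem D17420 : act 0 n12864 = n17420 := rfl
def n17421 : Q := act 2 n12864
theorem D17421 : act 2 n12864 = n17421 := rfl
theorem F30542 : act 1 n17421 = n13035 := d6_1 D17421 (iv D13035) (iv D10460) (iv F18255) D12864
def n17422 : Q := act 3 n12864
theorem D17422 : act 3 n12864 = n17422 := rfl
theorem F30543 : act 1 n17422 = n12865 := d7_1 D17422 (iv D12865) D12864
def n17423 : Q := act 4 n12864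
theorem D17423 : act 4 n12864 = n17423 := rfl
theorem F30544 : act 1 n17423 = n12866 := d8_1 D17423 (iv D12866) D12864
def n17424 : Q := act 5 n12864
theorem D17424 : act 5 n12864 = n17424 := rfl
def n17425 : Q := act 6 n12864
theorem D17425 : act 6 n12864 = n17425 := rfl
def n17426 : Q := act 2 n12865
theorem D17426 : act 2 n12865 = n17426 := rfl
theorem F30545 : act 0 n17426 = n12869 := d1_1 D17426 (iv D12869) (iv F22525)
def n17427 : Q := act 4 n12865
theorem D17427 : act 4 n12865 = n17427 := rfl
theorem F30546 : act 0 n17427 = n12870 := d3_1 D17427 (iv D12870) (iv F22525)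
def n17428 : Q := act 5 n12865
theorem D17428 : act 5 n12865 = n17428 := rfl
theorem F30547 : act 0 n17428 = n12871 := d4_1 D17428 (iv D12871) (iv F22525)
theorem F30548 : act 3 n17428 = n12867 := d16_1 D17428 (iv D12867) D12865
def n17429 : Q := act 6 n12865
theorem D17429 : act 6 n12865 = n17429 := rfl
theorem F30549 : act 0 n17429 = n12872 := d5_1 D17429 (iv D12872) (iv F22525)
def n17430 : Q := act 3 n12866
theorem D17430 : act 3 n12866 = n17430 := rfl
theorem F30551 : act 0 n17430 = n12873 := d2_1 D17430 (iv D12873) (iv F22526)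
def n17433 : Q := act 1 n12867
theorem D17433 : act 1 n12867 = n17433 := rfl
def n17435 : Q := act 3 n12869
theorem D17435 : act 3 n12869 = n17435 := rfl
theorem F30558 : act 1 n17435 = n17280 := d7_1 D17435 (iv D17280) (iv F22532)
def n17436 : Q := act 4 n12869
theorem D17436 : act 4 n12869 = n17436 := rfl
theorem F30559 : act 1 n17436 = n17281 := d8_1 D17436 (iv D17281) (iv F22532)
theorem F30560 : act 2 n17436 = n12870 := d12_1 D17436 (iv D12870) D12869
def n17437 : Q := act 5 n12869
theorem D17437 : act 5 n12869 = n17437 := rfl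
theorem F30561 : act 2 n17437 = n12871 := d13_1 D17437 (iv D12871) D12869
def n17438 : Q := act 6 n12869
theorem D17438 : act 6 n12869 = n17438 := rfl
theorem F30562 : act 2 n17438 = n12872 := d14_1 D17438 (iv D12872) D12869
def n17439 : Q := act 3 n12870
theorem D17439 : act 3 n12870 = n17439 := rfl
theorem F30563 : act 1 n17439 = n12878 := d7_1 D17439 (iv D12878) (iv F22533)
theorem F30564 : act 4 n17439 = n12873 := d15_2 D12870 D17439 (iv D12873) (iv D10351) D10350
def n17440 : Q := act 5 n12870
theorem D17440 : act 5 n12870 = n17440 := rfl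
theorem F30565 : act 4 n17440 = n12871 := d18_1 D17440 (iv D12871) D12870
def n17441 : Q := act 6 n12870
theorem D17441 : act 6 n12870 = n17441 := rfl
theorem F30566 : act 4 n17441 = n12872 := d19_1 D17441 (iv D12872) D12870
def n17442 : Q := act 6 n12871
theorem D17442 : act 6 n12871 = n17442 := rfl
theorem F30568 : act 5 n17442 = n17429 := d22_2 D12871 D17442 (iv D17429) F22525
def n17443 : Q := act 5 n12872
theorem D17443 : act 5 n12872 = n17443 := rfl
theorem F30570 : act 3 n17443 = n12877 := d16_1 D17443 (iv D12877) (iv F22535)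
theorem F30571 : act 6 n17443 = n17428 := d20_2 D12872 D17443 (iv D17428) D17429 (iv F30568) (iv D17442) (iv D12871)
def n17444 : Q := act 2 n12873
theorem D17444 : act 2 n12873 = n17444 := rfl
def n17445 : Q := act 5 n12873
theorem D17445 : act 5 n12873 = n17445 := rfl
def n17446 : Q := act 6 n12873
theorem D17446 : act 6 n12873 = n17446 := rfl
def n17455 : Q := act 6 n12884
theorem D17455 : act 6 n12884 = n17455 := rfl
def n17456 : Q := act 1 n12885
theorem D17456 : act 1 n12885 = n17456 := rfl
theorem F30597 : act 6 n17456 = n13118 := d10_2 D12885 D17456 F22985 (iv F19828) (iv F19829)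
def n17461 : Q := act 6 n12888
theorem D17461 : act 6 n12888 = n17461 := rfl
theorem F30608 : act 5 n17461 = n17455 := d22_2 D12888 D17461 (iv D17455) F22567
def n17462 : Q := act 5 n12889
theorem D17462 : act 5 n12889 = n17462 := rfl
theorem F30613 : act 6 n17462 = n14883 := d20_2 D12889 D17462 F25863 D17455 (iv F30608) (iv D17461) (iv D12888)
def n17463 : Q := act 0 n12892
theorem D17463 : act 0 n12892 = n17463 := rfl
theorem F30614 : act 4 n17463 = n15458 := d3_2 (iv F22592) D17463 (iv D15458)
def n17464 : Q := act 5 n12892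
theorem D17464 : act 5 n12892 = n17464 := rfl
theorem F30615 : act 1 n17464 = n17339 := d9_1 D17464 (iv D17339) F22442 (iv F18325) D12892
theorem F30616 : act 4 n17464 = n15460 := d18_1 D17464 (iv D15460) (iv F22592)
def n17477 : Q := act 0 n12905
theorem D17477 : act 0 n12905 = n17477 := rfl
theorem F30651 : act 4 n17477 = n15537 := d3_2 (iv F22633) D17477 (iv D15537)
def n17479 : Q := act 5 n12905
theorem D17479 : act 5 n12905 = n17479 := rfl
theorem F30653 : act 1 n17479 = n15532 := d9_1 D17479 (iv D15532) F20918 (iv F18376) D12905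
def n17480 : Q := act 6 n12905
theorem D17480 : act 6 n12905 = n17480 := rfl
theorem F30655 : act 1 n17480 = n17417 := d10_1 D17480 (iv D17417) F22518 (iv F18377) D12905
theorem F30656 : act 4 n17480 = n15539 := d19_1 D17480 (iv D15539) (iv F22633)
def n17481 : Q := act 0 n12907
theorem D17481 : act 0 n12907 = n17481 := rfl
theorem F30657 : act 2 n17481 = n15715 := d1_2 (iv F22638) D17481 (iv D15715)
def n17483 : Q := act 4 n12907
theorem D17483 : act 4 n12907 = n17483 := rfl
theorem F30659 : act 1 n17483 = n12909 := d8_1 D17483 (iv D12909) D12907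
theorem F30660 : act 2 n17483 = n15701 := d12_1 D17483 F27215 (iv F22638)
def n17484 : Q := act 5 n12907
theorem D17484 : act 5 n12907 = n17484 := rfl
theorem F30661 : act 1 n17484 = n15688 := d9_1 D17484 F27198 F21046 (iv F18379) D12907
theorem F30662 : act 2 n17484 = n15685 := d13_1 D17484 F27192 (iv F22638)
def n17485 : Q := act 6 n12907
theorem D17485 : act 6 n12907 = n17485 := rfl
theorem F30663 : act 2 n17485 = n15716 := d14_1 D17485 (iv D15716) (iv F22638)
def n17487 : Q := act 6 n12908
theorem D17487 : act 6 n12908 = n17487 := rfl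
theorem F30668 : act 2 n17487 = n15718 := d14_1 D17487 (iv D15718) (iv F22641)
def n17491 : Q := act 1 n12911
theorem D17491 : act 1 n12911 = n17491 := rfl
theorem F30677 : act 6 n17491 = n12982 := d10_2 D12911 D17491 (iv D12982) (iv F18441) (iv F18381)
def n17492 : Q := act 2 n12912
theorem D17492 : act 2 n12912 = n17492 := rfl
theorem F30678 : act 6 n17492 = n12986 := d14_2 (iv F22651) D17492 (iv D12986)
def n17493 : Q := act 5 n12912
theorem D17493 : act 5 n12912 = n17493 := rfl
theorem F30680 : act 1 n17493 = n15446 := d9_1 D17493 F26822 (iv D12931) F18405 D12912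
theorem F30682 : act 6 n17493 = n12991 := d20_2 (iv F22651) D17493 F22766 D14125 (iv F24794) (iv D14190) F19662
def n17495 : Q := act 3 n12914
theorem D17495 : act 3 n12914 = n17495 := rfl
theorem F30683 : act 0 n17495 = n12915 := d2_1 D17495 (iv D12915) D12914
theorem F30684 : act 2 n17495 = n17358 := d21_2 (iv F22657) D17495 (iv D17358) (iv D12829) (iv D10330) F8650 (iv F9095) D10404
def n17496 : Q := act 4 n12914
theorem D17496 : act 4 n12914 = n17496 := rfl
theorem F30685 : act 0 n17496 = n12916 := d3_1 D17496 (iv D12916) D12914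
theorem F30686 : act 2 n17496 = n12933 := d12_1 D17496 (iv D12933) (iv F22657)
def n17498 : Q := act 6 n12914
theorem D17498 : act 6 n12914 = n17498 := rfl
theorem F30689 : act 0 n17498 = n12918 := d5_1 D17498 (iv D12918) D12914
theorem F30690 : act 2 n17498 = n12935 := d14_1 D17498 (iv D12935) (iv F22657)
def n17499 : Q := act 2 n12915
theorem D17499 : act 2 n12915 = n17499 := rfl
theorem F30691 : act 0 n17499 = n17358 := d1_1 D17499 (iv F30684) F30683
theorem F30692 : act 3 n17499 = n17349 := d11_2 D12915 D17499 (iv D17349) (iv D12825) F18219 (iv F18408) (iv F22657) D17495 F30684 (iv D17358) (iv D12829) (iv D10330) F8650 (iv F9095) (iv F18388)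
def n17508 : Q := act 1 n12918
theorem D17508 : act 1 n12918 = n17508 := rfl
theorem F30705 : act 6 n17508 = n12927 := d10_2 D12918 D17508 (iv D12927) (iv D10398) D10394
def n17512 : Q := act 6 n12919
theorem D17512 : act 6 n12919 = n17512 := rfl
theorem F30715 : act 3 n17512 = n12926 := d17_1 D17512 (iv D12926) (iv F22664)
def n17528 : Q := act 2 n12928
theorem D17528 : act 2 n12928 = n17528 := rfl
theorem F30735 : act 5 n17528 = n12947 := d13_2 (iv F22679) D17528 (iv D12947)
def n17530 : Q := act 0 n12932
theorem D17530 : act 0 n12932 = n17530 := rfl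
def n17531 : Q := act 2 n12932
theorem D17531 : act 2 n12932 = n17531 := rfl
def n17532 : Q := act 4 n12932
theorem D17532 : act 4 n12932 = n17532 := rfl
theorem F30740 : act 1 n17532 = n12933 := d8_1 D17532 (iv D12933) D12932
def n17533 : Q := act 5 n12932
theorem D17533 : act 5 n12932 = n17533 := rfl
theorem F30741 : act 3 n17533 = n12952 := d16_1 D17533 (iv D12952) (iv F22690)
def n17534 : Q := act 6 n12932
theorem D17534 : act 6 n12932 = n17534 := rfl
def n17536 : Q := act 5 n12933
theorem D17536 : act 5 n12933 = n17536 := rfl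
theorem F30746 : act 4 n17536 = n12934 := d18_1 D17536 (iv D12934) D12933
def n17537 : Q := act 6 n12933
theorem D17537 : act 6 n12933 = n17537 := rfl
theorem F30748 : act 4 n17537 = n12935 := d19_1 D17537 (iv D12935) D12933
def n17538 : Q := act 1 n12934
theorem D17538 : act 1 n12934 = n17538 := rfl
theorem F30749 : act 3 n17538 = n12957 := d7_2 (iv F22693) D17538 (iv D12957)
def n17539 : Q := act 1 n12935
theorem D17539 : act 1 n12935 = n17539 := rfl
theorem F30750 : act 3 n17539 = n12958 := d7_2 (iv F22695) D17539 (iv D12958)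
def n17543 : Q := act 1 n12937
theorem D17543 : act 1 n12937 = n17543 := rfl
theorem F30757 : act 4 n17543 = n12939 := d8_2 (iv F22698) D17543 (iv D12939)
def n17544 : Q := act 6 n12937
theorem D17544 : act 6 n12937 = n17544 := rfl
theorem F30759 : act 4 n17544 = n12940 := d19_1 D17544 (iv D12940) (iv F22698)
def n17546 : Q := act 0 n12939
theorem D17546 : act 0 n12939 = n17546 := rfl
theorem F30764 : act 3 n17546 = n12965 := d2_2 (iv F22701) D17546 (iv D12965)
theorem F30765 : act 5 n17546 = n12944 := d4_2 (iv F22702) D17546 (iv D12944)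
def n17547 : Q := act 2 n12939
theorem D17547 : act 2 n12939 = n17547 := rfl
theorem F30766 : act 5 n17547 = n12945 := d13_2 (iv F22702) D17547 (iv D12945)
def n17548 : Q := act 6 n12939
theorem D17548 : act 6 n12939 = n17548 := rfl
theorem F30767 : act 3 n17548 = n12967 := d17_1 D17548 (iv D12967) (iv F22701)
def n17549 : Q := act 1 n12940
theorem D17549 : act 1 n12940 = n17549 := rfl
theorem F30768 : act 3 n17549 = n12968 := d7_2 (iv F22703) D17549 (iv D12968)
def n17552 : Q := act 0 n12943
theorem D17552 : act 0 n12943 = n17552 := rfl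
theorem F30773 : act 4 n17552 = n12944 := d3_2 (iv F22712) D17552 (iv D12944)
def n17553 : Q := act 2 n12943
theorem D17553 : act 2 n12943 = n17553 := rfl
theorem F30774 : act 1 n17553 = n12947 := d6_1 D17553 (iv D12947) (iv D10411) (iv F18417) D12943
theorem F30775 : act 4 n17553 = n12945 := d12_2 (iv F22712) D17553 (iv D12945)
def n17554 : Q := act 6 n12943
theorem D17554 : act 6 n12943 = n17554 := rfl
theorem F30777 : act 4 n17554 = n12946 := d19_1 D17554 (iv D12946) (iv F22712)
def n17555 : Q := act 1 n12944
theorem D17555 : act 1 n12944 = n17555 := rfl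
theorem F30778 : act 3 n17555 = n12976 := d7_2 (iv F22713) D17555 (iv D12976)
def n17556 : Q := act 2 n12944
theorem D17556 : act 2 n12944 = n17556 := rfl
theorem F30779 : act 0 n17556 = n12945 := d1_1 D17556 (iv D12945) D12944
def n17557 : Q := act 6 n12944
theorem D17557 : act 6 n12944 = n17557 := rfl
theorem F30780 : act 0 n17557 = n12946 := d5_1 D17557 (iv D12946) D12944
theorem F30782 : act 5 n17557 = n17548 := d22_2 F30765 D17557 (iv D17548) D17546
def n17558 : Q := act 3 n12945
theorem D17558 : act 3 n12945 = n17558 := rfl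
theorem F30783 : act 1 n17558 = n12948 := d7_1 D17558 (iv D12948) (iv F22714)
def n17559 : Q := act 6 n12945
theorem D17559 : act 6 n12945 = n17559 := rfl
theorem F30784 : act 2 n17559 = n12946 := d14_1 D17559 (iv D12946) D12945
def n17560 : Q := act 5 n12946
theorem D17560 : act 5 n12946 = n17560 := rfl
theorem F30785 : act 0 n17560 = n17548 := d4_1 D17560 (iv F30782) F30780
theorem F30786 : act 3 n17560 = n12981 := d16_1 D17560 (iv D12981) (iv F22716)
theorem F30787 : act 6 n17560 = n17546 := d20_2 D12946 D17560 F30765 D17557 F30782 (iv D17548) F22702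
def n17562 : Q := act 4 n12948
theorem D17562 : act 4 n12948 = n17562 := rfl
def n17563 : Q := act 2 n12949
theorem D17563 : act 2 n12949 = n17563 := rfl
theorem F30788 : act 0 n17563 = n12950 := d1_1 D17563 (iv D12950) D12949
def n17565 : Q := act 5 n12949
theorem D17565 : act 5 n12949 = n17565 := rfl
theorem F30790 : act 0 n17565 = n12952 := d4_1 D17565 (iv D12952) D12949
def n17567 : Q := act 3 n12950
theorem D17567 : act 3 n12950 = n17567 := rfl
def n17568 : Q := act 4 n12950
theorem D17568 : act 4 n12950 = n17568 := rfl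
theorem F30792 : act 2 n17568 = n12951 := d12_1 D17568 (iv D12951) D12950
def n17569 : Q := act 5 n12950
theorem D17569 : act 5 n12950 = n17569 := rfl
theorem F30793 : act 2 n17569 = n12952 := d13_1 D17569 (iv D12952) D12950
def n17570 : Q := act 6 n12950
theorem D17570 : act 6 n12950 = n17570 := rfl
def n17572 : Q := act 5 n12951
theorem D17572 : act 5 n12951 = n17572 := rfl
theorem F30796 : act 4 n17572 = n12952 := d18_1 D17572 (iv D12952) D12951
def n17574 : Q := act 1 n12952
theorem D17574 : act 1 n12952 = n17574 := rfl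
theorem F30798 : act 5 n17574 = n12957 := d9_2 D12952 D17574 (iv D12957) (iv D10415) D10413
def n17575 : Q := act 6 n12952
theorem D17575 : act 6 n12952 = n17575 := rfl
def n17576 : Q := act 1 n12953
theorem D17576 : act 1 n12953 = n17576 := rfl
theorem F30800 : act 6 n17576 = n12958 := d10_2 D12953 D17576 (iv D12958) (iv D10416) D10413
def n17581 : Q := act 1 n12955
theorem D17581 : act 1 n12955 = n17581 := rfl
theorem F30808 : act 4 n17581 = n12957 := d8_2 (iv F22721) D17581 (iv D12957)
def n17582 : Q := act 1 n12956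
theorem D17582 : act 1 n12956 = n17582 := rfl
theorem F30809 : act 4 n17582 = n12958 := d8_2 (iv F22723) D17582 (iv D12958)
def n17583 : Q := act 0 n12957
theorem D17583 : act 0 n12957 = n17583 := rfl
def n17584 : Q := act 2 n12957
theorem D17584 : act 2 n12957 = n17584 := rfl
def n17585 : Q := act 6 n12957
theorem D17585 : act 6 n12957 = n17585 := rfl
def n17586 : Q := act 0 n12958
theorem D17586 : act 0 n12958 = n17586 := rfl
def n17587 : Q := act 2 n12958
theorem D17587 : act 2 n12958 = n17587 := rfl
def n17588 : Q := act 5 n12958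
theorem D17588 : act 5 n12958 = n17588 := rfl
def n17596 : Q := act 0 n12962
theorem D17596 : act 0 n12962 = n17596 := rfl
theorem F30820 : act 4 n17596 = n12965 := d3_2 (iv F22727) D17596 (iv D12965)
theorem F30821 : act 5 n17596 = n12973 := d4_2 (iv F22728) D17596 (iv D12973)
def n17597 : Q := act 2 n12962
theorem D17597 : act 2 n12962 = n17597 := rfl
theorem F30822 : act 4 n17597 = n12966 := d12_2 (iv F22727) D17597 (iv D12966)
def n17598 : Q := act 6 n12962
theorem D17598 : act 6 n12962 = n17598 := rfl
def n17599 : Q := act 1 n12963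
theorem D17599 : act 1 n12963 = n17599 := rfl
theorem F30825 : act 4 n17599 = n12968 := d8_2 (iv F22729) D17599 (iv D12968)
def n17601 : Q := act 1 n12965
theorem D17601 : act 1 n12965 = n17601 := rfl
def n17602 : Q := act 2 n12965
theorem D17602 : act 2 n12965 = n17602 := rfl
theorem F30828 : act 0 n17602 = n12966 := d1_1 D17602 (iv D12966) D12965
theorem F30829 : act 5 n17602 = n12977 := d13_2 (iv F22734) D17602 (iv D12977)
def n17603 : Q := act 3 n12966
theorem D17603 : act 3 n12966 = n17603 := rfl
theorem F30830 : act 5 n17603 = n12979 := d16_2 (iv F22735) D17603 (iv D12979)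
def n17604 : Q := act 6 n12966
theorem D17604 : act 6 n12966 = n17604 := rfl
theorem F30831 : act 2 n17604 = n12967 := d14_1 D17604 (iv D12967) D12966
def n17605 : Q := act 1 n12967
theorem D17605 : act 1 n12967 = n17605 := rfl
theorem F30832 : act 6 n17605 = n12968 := d10_2 D12967 D17605 (iv D12968) (iv D10421) D10420
def n17606 : Q := act 0 n12968
theorem D17606 : act 0 n12968 = n17606 := rfl
def n17607 : Q := act 2 n12968
theorem D17607 : act 2 n12968 = n17607 := rfl
def n17608 : Q := act 5 n12968
theorem D17608 : act 5 n12968 = n17608 := rfl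
theorem F30833 : act 1 n17608 = n17588 := d9_1 D17608 (iv D17588) (iv D12958) (iv F18431) D12968
def n17611 : Q := act 6 n12969
theorem D17611 : act 6 n12969 = n17611 := rfl
theorem F30836 : act 1 n17611 = n17585 := d10_1 D17611 (iv D17585) (iv D12957) (iv F18433) D12969
def n17619 : Q := act 1 n12973
theorem D17619 : act 1 n12973 = n17619 := rfl
theorem F30844 : act 4 n17619 = n12976 := d8_2 (iv F22741) D17619 (iv D12976)
def n17620 : Q := act 2 n12973
theorem D17620 : act 2 n12973 = n17620 := rfl
theorem F30845 : act 0 n17620 = n12974 := d1_1 D17620 (iv D12974) D12973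
theorem F30846 : act 4 n17620 = n12977 := d12_2 (iv F22741) D17620 (iv D12977)
def n17621 : Q := act 6 n12973
theorem D17621 : act 6 n12973 = n17621 := rfl
theorem F30849 : act 5 n17621 = n17598 := d22_2 F30821 D17621 (iv D17598) D17596
def n17623 : Q := act 6 n12974
theorem D17623 : act 6 n12974 = n17623 := rfl
theorem F30852 : act 4 n17623 = n12980 := d19_1 D17623 (iv D12980) (iv F22743)
def n17624 : Q := act 5 n12975
theorem D17624 : act 5 n12975 = n17624 := rfl
theorem F30854 : act 4 n17624 = n12981 := d18_1 D17624 (iv D12981) (iv F22744)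
theorem F30855 : act 6 n17624 = n17596 := d20_2 D12975 D17624 F30821 D17621 F30849 (iv D17598) F22728
def n17625 : Q := act 0 n12976
theorem D17625 : act 0 n12976 = n17625 := rfl
def n17626 : Q := act 2 n12976
theorem D17626 : act 2 n12976 = n17626 := rfl
def n17627 : Q := act 5 n12976
theorem D17627 : act 5 n12976 = n17627 := rfl
def n17628 : Q := act 6 n12976
theorem D17628 : act 6 n12976 = n17628 := rfl
def n17629 : Q := act 1 n12977
theorem D17629 : act 1 n12977 = n17629 := rfl
def n17630 : Q := act 3 n12977
theorem D17630 : act 3 n12977 = n17630 := rfl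
theorem F30856 : act 0 n17630 = n12979 := d2_1 D17630 (iv D12979) (iv F22745)
def n17631 : Q := act 6 n12977
theorem D17631 : act 6 n12977 = n17631 := rfl
theorem F30857 : act 0 n17631 = n12980 := d5_1 D17631 (iv D12980) (iv F22745)
theorem F30859 : act 5 n17631 = n17604 := d22_2 F30829 D17631 (iv D17604) (iv F30828)
def n17633 : Q := act 2 n12979
theorem D17633 : act 2 n12979 = n17633 := rfl
def n17634 : Q := act 4 n12979
theorem D17634 : act 4 n12979 = n17634 := rfl
theorem F30860 : act 1 n17634 = n12988 := d8_1 D17634 (iv D12988) (iv F22748)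
def n17635 : Q := act 6 n12979
theorem D17635 : act 6 n12979 = n17635 := rfl
theorem F30861 : act 3 n17635 = n12980 := d17_1 D17635 (iv D12980) D12979
def n17636 : Q := act 1 n12980
theorem D17636 : act 1 n12980 = n17636 := rfl
theorem F30862 : act 6 n17636 = n12990 := d10_2 D12980 D17636 (iv D12990) (iv D10435) (iv F18438)
def n17637 : Q := act 5 n12980
theorem D17637 : act 5 n12980 = n17637 := rfl
theorem F30863 : act 0 n17637 = n17604 := d4_1 D17637 (iv F30859) F30857
theorem F30864 : act 2 n17637 = n12981 := d13_1 D17637 (iv D12981) (iv F22749)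
theorem F30865 : act 6 n17637 = n17602 := d20_2 D12980 D17637 F30829 D17631 F30859 (iv D17604) F22735
def n17638 : Q := act 1 n12981
theorem D17638 : act 1 n12981 = n17638 := rfl
def n17639 : Q := act 2 n12982
theorem D17639 : act 2 n12982 = n17639 := rfl
theorem F30866 : act 4 n17639 = n12986 := d12_2 (iv F22753) D17639 (iv D12986)
def n17640 : Q := act 1 n12983
theorem D17640 : act 1 n12983 = n17640 := rfl
theorem F30867 : act 4 n17640 = n12987 := d8_2 (iv F22755) D17640 (iv D12987)
def n17641 : Q := act 3 n12983
theorem D17641 : act 3 n12983 = n17641 := rfl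
theorem F30868 : act 0 n17641 = n12984 := d2_1 D17641 (iv D12984) (iv F22754)
theorem F30870 : act 2 n17641 = n13069 := d21_2 D12983 D17641 (iv D13069) (iv D10477) F9171 (iv F17282) (iv F9116) D10429
def n17642 : Q := act 2 n12984
theorem D17642 : act 2 n12984 = n17642 := rfl
theorem F30871 : act 0 n17642 = n13069 := d1_1 D17642 (iv F30870) F30868
theorem F30873 : act 5 n17642 = n15828 := d13_2 F26929 D17642 F27370
def n17643 : Q := act 4 n12984
theorem D17643 : act 4 n12984 = n17643 := rfl
theorem F30874 : act 3 n17643 = n12988 := d15_1 D17643 (iv D12988) (iv D10434) (iv F18442) D12984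
def n17644 : Q := act 6 n12984
theorem D17644 : act 6 n12984 = n17644 := rfl
theorem F30877 : act 5 n15698 = n17644 := d22_0 (iv D17644) (iv F26929) F26930 (iv F27211)
def n17645 : Q := act 1 n12985
theorem D17645 : act 1 n12985 = n17645 := rfl
theorem F30878 : act 4 n17645 = n12990 := d8_2 (iv F22759) D17645 (iv D12990)
def n17646 : Q := act 1 n12986
theorem D17646 : act 1 n12986 = n17646 := rfl
theorem F30879 : act 2 n17646 = n12987 := d6_2 D12986 D17646 (iv D12987) (iv D10433) D10432
def n17647 : Q := act 3 n12986
theorem D17647 : act 3 n12986 = n17647 := rfl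
def n17648 : Q := act 0 n12987
theorem D17648 : act 0 n12987 = n17648 := rfl
def n17649 : Q := act 5 n12987
theorem D17649 : act 5 n12987 = n17649 := rfl
def n17650 : Q := act 6 n12987
theorem D17650 : act 6 n12987 = n17650 := rfl
theorem F30880 : act 1 n17650 = n15716 := d10_1 D17650 (iv D15716) (iv D11925) (iv F18449) D12987
def n17651 : Q := act 6 n12988
theorem D17651 : act 6 n12988 = n17651 := rfl
theorem F30881 : act 0 n17651 = n15713 := d5_1 D17651 (iv F27385) F27383
theorem F30882 : act 4 n17651 = n12989 := d19_1 D17651 (iv D12989) D12988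
theorem F30883 : act 5 n15710 = n17651 := d22_0 (iv D17651) (iv F26939) F26940 (iv F27222)
def n17652 : Q := act 1 n12989
theorem D17652 : act 1 n12989 = n17652 := rfl
theorem F30884 : act 3 n17652 = n12990 := d7_2 (iv F22762) D17652 (iv D12990)
def n17653 : Q := act 0 n12990
theorem D17653 : act 0 n12990 = n17653 := rfl
def n17654 : Q := act 5 n12990
theorem D17654 : act 5 n12990 = n17654 := rfl
theorem F30885 : act 1 n17654 = n15708 := d9_1 D17654 (iv D15708) (iv D11920) F18452 D12990
def n17657 : Q := act 0 n12992
theorem D17657 : act 0 n12992 = n17657 := rfl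
theorem F30892 : act 2 n17657 = n15843 := d1_2 (iv F22767) D17657 (iv D15843)
def n17660 : Q := act 5 n12992
theorem D17660 : act 5 n12992 = n17660 := rfl
theorem F30896 : act 2 n17660 = n15844 := d13_1 D17660 (iv D15844) (iv F22767)
def n17661 : Q := act 6 n12992
theorem D17661 : act 6 n12992 = n17661 := rfl
theorem F30897 : act 1 n17661 = n15816 := d10_1 D17661 F27353 F21128 (iv F18458) D12992
theorem F30898 : act 2 n17661 = n15813 := d14_1 D17661 F27347 (iv F22767)
def n17668 : Q := act 2 n12997
theorem D17668 : act 2 n12997 = n17668 := rfl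
theorem F30913 : act 5 n17668 = n13071 := d13_2 (iv F22780) D17668 (iv D13071)
def n17671 : Q := act 3 n12999
theorem D17671 : act 3 n12999 = n17671 := rfl
theorem F30918 : act 0 n17671 = n13000 := d2_1 D17671 (iv D13000) D12999
theorem F30919 : act 2 n17671 = n17435 := d21_2 (iv F22786) D17671 (iv D17435) (iv D12869) (iv D10350) F8767 (iv F9148) D10451
def n17675 : Q := act 2 n13000
theorem D17675 : act 2 n13000 = n17675 := rfl
theorem F30926 : act 0 n17675 = n17435 := d1_1 D17675 (iv F30919) F30918
theorem F30927 : act 3 n17675 = n17426 := d11_2 D13000 D17675 (iv D17426) (iv D12865) F18255 (iv F18487) (iv F22786) D17671 F30919 (iv D17435) (iv D12869) (iv D10350) F8767 (iv F9148) (iv F18467)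
def n17706 : Q := act 0 n13017
theorem D17706 : act 0 n13017 = n17706 := rfl
theorem F30973 : act 1 n17706 = n13034 := d0_2 D13017 D17706 (iv D13034) (iv D10460) (iv D6032) (iv D2919) (iv F4553) D6025 D10451
def n17707 : Q := act 2 n13017
theorem D17707 : act 2 n13017 = n17707 := rfl
def n17710 : Q := act 6 n13017
theorem D17710 : act 6 n13017 = n17710 := rfl
theorem F30977 : act 3 n17710 = n13038 := d17_1 D17710 (iv D13038) (iv F22819)
def n17723 : Q := act 0 n13025
theorem D17723 : act 0 n13025 = n17723 := rfl
theorem F31001 : act 3 n17723 = n13051 := d2_2 (iv F22832) D17723 (iv D13051)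
theorem F31002 : act 6 n17723 = n13029 := d5_2 (iv F22833) D17723 (iv D13029)
def n17724 : Q := act 2 n13025
theorem D17724 : act 2 n13025 = n17724 := rfl
theorem F31003 : act 6 n17724 = n13030 := d14_2 (iv F22833) D17724 (iv D13030)
def n17725 : Q := act 5 n13025
theorem D17725 : act 5 n13025 = n17725 := rfl
theorem F31004 : act 3 n17725 = n13053 := d16_1 D17725 (iv D13053) (iv F22832)
def n17728 : Q := act 0 n13028
theorem D17728 : act 0 n13028 = n17728 := rfl
theorem F31008 : act 4 n17728 = n13029 := d3_2 (iv F22841) D17728 (iv D13029)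
def n17729 : Q := act 2 n13028
theorem D17729 : act 2 n13028 = n17729 := rfl
theorem F31009 : act 1 n17729 = n13032 := d6_1 D17729 (iv D13032) (iv D10458) (iv F18496) D13028
theorem F31010 : act 4 n17729 = n13030 := d12_2 (iv F22841) D17729 (iv D13030)
def n17730 : Q := act 5 n13028
theorem D17730 : act 5 n13028 = n17730 := rfl
theorem F31012 : act 4 n17730 = n13031 := d18_1 D17730 (iv D13031) (iv F22841)
def n17731 : Q := act 1 n13029
theorem D17731 : act 1 n13029 = n17731 := rfl
theorem F31013 : act 3 n17731 = n13061 := d7_2 (iv F22842) D17731 (iv D13061)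
def n17732 : Q := act 2 n13029
theorem D17732 : act 2 n13029 = n17732 := rfl
theorem F31014 : act 0 n17732 = n13030 := d1_1 D17732 (iv D13030) D13029
def n17733 : Q := act 5 n13029
theorem D17733 : act 5 n13029 = n17733 := rfl
theorem F31015 : act 0 n17733 = n13031 := d4_1 D17733 (iv D13031) D13029
theorem F31017 : act 6 n17733 = n17725 := d22_1 D17733 (iv D17725) F22833 D13029
def n17734 : Q := act 3 n13030
theorem D17734 : act 3 n13030 = n17734 := rfl
theorem F31018 : act 1 n17734 = n13033 := d7_1 D17734 (iv D13033) (iv F22843)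
def n17735 : Q := act 5 n13030
theorem D17735 : act 5 n13030 = n17735 := rfl
theorem F31019 : act 2 n17735 = n13031 := d13_1 D17735 (iv D13031) D13030
def n17736 : Q := act 6 n13031
theorem D17736 : act 6 n13031 = n17736 := rfl
theorem F31020 : act 0 n17736 = n17725 := d5_1 D17736 (iv F31017) F31015
theorem F31021 : act 3 n17736 = n13066 := d17_1 D17736 (iv D13066) (iv F22845)
theorem F31022 : act 5 n17736 = n17723 := d20_1 D17736 F31002 D17733 F31017 (iv D17725) F22833 D13031
def n17738 : Q := act 4 n13033
theorem D17738 : act 4 n13033 = n17738 := rfl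
def n17739 : Q := act 2 n13034
theorem D17739 : act 2 n13034 = n17739 := rfl
theorem F31023 : act 0 n17739 = n13035 := d1_1 D17739 (iv D13035) D13034
def n17742 : Q := act 6 n13034
theorem D17742 : act 6 n13034 = n17742 := rfl
theorem F31026 : act 0 n17742 = n13038 := d5_1 D17742 (iv D13038) D13034
def n17743 : Q := act 3 n13035
theorem D17743 : act 3 n13035 = n17743 := rfl
def n17744 : Q := act 4 n13035
theorem D17744 : act 4 n13035 = n17744 := rfl
theorem F31027 : act 2 n17744 = n13036 := d12_1 D17744 (iv D13036) D13035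
def n17745 : Q := act 5 n13035
theorem D17745 : act 5 n13035 = n17745 := rfl
def n17746 : Q := act 6 n13035
theorem D17746 : act 6 n13035 = n17746 := rfl
theorem F31029 : act 2 n17746 = n13038 := d14_1 D17746 (iv D13038) D13035
def n17749 : Q := act 6 n13036
theorem D17749 : act 6 n13036 = n17749 := rfl
theorem F31032 : act 4 n17749 = n13038 := d19_1 D17749 (iv D13038) D13036
def n17750 : Q := act 1 n13037
theorem D17750 : act 1 n13037 = n17750 := rfl
theorem F31033 : act 5 n17750 = n13042 := d9_2 D13037 D17750 (iv D13042) (iv D10462) D10460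
def n17752 : Q := act 1 n13038
theorem D17752 : act 1 n13038 = n17752 := rfl
theorem F31035 : act 6 n17752 = n13043 := d10_2 D13038 D17752 (iv D13043) (iv D10463) D10460
def n17753 : Q := act 5 n13038
theorem D17753 : act 5 n13038 = n17753 := rfl
def n17759 : Q := act 0 n13042
theorem D17759 : act 0 n13042 = n17759 := rfl
def n17760 : Q := act 2 n13042
theorem D17760 : act 2 n13042 = n17760 := rfl
def n17761 : Q := act 6 n13042
theorem D17761 : act 6 n13042 = n17761 := rfl
def n17773 : Q := act 0 n13048
theorem D17773 : act 0 n13048 = n17773 := rfl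
theorem F31057 : act 4 n17773 = n13051 := d3_2 (iv F22858) D17773 (iv D13051)
theorem F31058 : act 6 n17773 = n13058 := d5_2 (iv F22859) D17773 (iv D13058)
def n17774 : Q := act 2 n13048
theorem D17774 : act 2 n13048 = n17774 := rfl
theorem F31059 : act 4 n17774 = n13052 := d12_2 (iv F22858) D17774 (iv D13052)
theorem F31060 : act 6 n17774 = n13059 := d14_2 (iv F22859) D17774 (iv D13059)
def n17780 : Q := act 1 n13051
theorem D17780 : act 1 n13051 = n17780 := rfl
def n17781 : Q := act 2 n13051
theorem D17781 : act 2 n13051 = n17781 := rfl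
theorem F31066 : act 0 n17781 = n13052 := d1_1 D17781 (iv D13052) D13051
theorem F31067 : act 6 n17781 = n13062 := d14_2 (iv F22864) D17781 (iv D13062)
def n17782 : Q := act 3 n13052
theorem D17782 : act 3 n13052 = n17782 := rfl
theorem F31068 : act 6 n17782 = n13064 := d17_2 (iv F22865) D17782 (iv D13064)
def n17783 : Q := act 5 n13052
theorem D17783 : act 5 n13052 = n17783 := rfl
theorem F31069 : act 2 n17783 = n13053 := d13_1 D17783 (iv D13053) D13052
def n17784 : Q := act 1 n13053
theorem D17784 : act 1 n13053 = n17784 := rfl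
theorem F31070 : act 5 n17784 = n13054 := d9_2 D13053 D17784 (iv D13054) (iv D10469) D10468
def n17787 : Q := act 6 n13054
theorem D17787 : act 6 n13054 = n17787 := rfl
theorem F31071 : act 1 n17787 = n17761 := d10_1 D17787 (iv D17761) (iv D13042) (iv F18512) D13054
def n17795 : Q := act 1 n13058
theorem D17795 : act 1 n13058 = n17795 := rfl
theorem F31079 : act 4 n17795 = n13061 := d8_2 (iv F22870) D17795 (iv D13061)
def n17796 : Q := act 2 n13058
theorem D17796 : act 2 n13058 = n17796 := rfl
theorem F31080 : act 0 n17796 = n13059 := d1_1 D17796 (iv D13059) D13058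
theorem F31081 : act 4 n17796 = n13062 := d12_2 (iv F22870) D17796 (iv D13062)
def n17799 : Q := act 5 n13059
theorem D17799 : act 5 n13059 = n17799 := rfl
theorem F31087 : act 4 n17799 = n13065 := d18_1 D17799 (iv D13065) (iv F22872)
def n17800 : Q := act 6 n13060
theorem D17800 : act 6 n13060 = n17800 := rfl
theorem F31089 : act 4 n17800 = n13066 := d19_1 D17800 (iv D13066) (iv F22873)
def n17801 : Q := act 0 n13061
theorem D17801 : act 0 n13061 = n17801 := rfl
def n17802 : Q := act 2 n13061
theorem D17802 : act 2 n13061 = n17802 := rfl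
def n17803 : Q := act 5 n13061
theorem D17803 : act 5 n13061 = n17803 := rfl
def n17804 : Q := act 6 n13061
theorem D17804 : act 6 n13061 = n17804 := rfl
def n17805 : Q := act 1 n13062
theorem D17805 : act 1 n13062 = n17805 := rfl
def n17806 : Q := act 3 n13062
theorem D17806 : act 3 n13062 = n17806 := rfl
theorem F31091 : act 0 n17806 = n13064 := d2_1 D17806 (iv D13064) (iv F22874)
def n17807 : Q := act 5 n13062
theorem D17807 : act 5 n13062 = n17807 := rfl
theorem F31092 : act 0 n17807 = n13065 := d4_1 D17807 (iv D13065) (iv F22874)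
theorem F31094 : act 6 n17807 = n17783 := d22_1 D17807 (iv D17783) F22865 (iv F22874)
def n17809 : Q := act 2 n13064
theorem D17809 : act 2 n13064 = n17809 := rfl
def n17810 : Q := act 4 n13064
theorem D17810 : act 4 n13064 = n17810 := rfl
theorem F31095 : act 1 n17810 = n13073 := d8_1 D17810 (iv D13073) (iv F22877)
def n17811 : Q := act 5 n13064
theorem D17811 : act 5 n13064 = n17811 := rfl
theorem F31096 : act 3 n17811 = n13065 := d16_1 D17811 (iv D13065) D13064
def n17812 : Q := act 1 n13065
theorem D17812 : act 1 n13065 = n17812 := rfl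
theorem F31097 : act 5 n17812 = n13075 := d9_2 D13065 D17812 (iv D13075) (iv D10482) (iv F18517)
def n17813 : Q := act 6 n13065
theorem D17813 : act 6 n13065 = n17813 := rfl
theorem F31098 : act 0 n17813 = n17783 := d5_1 D17813 (iv F31094) F31092
theorem F31099 : act 2 n17813 = n13066 := d14_1 D17813 (iv D13066) (iv F22878)
theorem F31100 : act 5 n17813 = n17781 := d20_1 D17813 F31067 D17807 F31094 (iv D17783) F22865 D13065
def n17814 : Q := act 1 n13066
theorem D17814 : act 1 n13066 = n17814 := rfl
def n17816 : Q := act 1 n13068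
theorem D17816 : act 1 n13068 = n17816 := rfl
theorem F31102 : act 4 n17816 = n13072 := d8_2 (iv F22884) D17816 (iv D13072)
def n17817 : Q := act 4 n13069
theorem D17817 : act 4 n13069 = n17817 := rfl
theorem F31103 : act 3 n17817 = n13073 := d15_1 D17817 (iv D13073) (iv D10481) (iv F18521) D13069
def n17818 : Q := act 5 n13069
theorem D17818 : act 5 n13069 = n17818 := rfl
theorem F31104 : act 0 n17818 = n15828 := d4_1 D17818 (iv F30873) F30871
theorem F31106 : act 6 n17818 = n15826 := d22_3 (iv F27070) F27071 D17818 F27366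
def n17819 : Q := act 1 n13070
theorem D17819 : act 1 n13070 = n17819 := rfl
theorem F31107 : act 4 n17819 = n13075 := d8_2 (iv F22888) D17819 (iv D13075)
def n17820 : Q := act 1 n13071
theorem D17820 : act 1 n13071 = n17820 := rfl
theorem F31108 : act 2 n17820 = n13072 := d6_2 D13071 D17820 (iv D13072) (iv D10480) D10479
def n17821 : Q := act 3 n13071
theorem D17821 : act 3 n13071 = n17821 := rfl
def n17822 : Q := act 0 n13072
theorem D17822 : act 0 n13072 = n17822 := rfl
def n17823 : Q := act 5 n13072
theorem D17823 : act 5 n13072 = n17823 := rfl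
theorem F31109 : act 1 n17823 = n15844 := d9_1 D17823 (iv D15844) (iv D11986) (iv F18528) D13072
def n17824 : Q := act 6 n13072
theorem D17824 : act 6 n13072 = n17824 := rfl
def n17825 : Q := act 5 n13073
theorem D17825 : act 5 n13073 = n17825 := rfl
theorem F31110 : act 0 n17825 = n15841 := d4_1 D17825 (iv F27388) F27225
theorem F31111 : act 2 n17825 = n17651 := d13_1 D17825 (iv F30883) F27223
theorem F31112 : act 4 n17825 = n13074 := d18_1 D17825 (iv D13074) D13073
theorem F31113 : act 6 n17825 = n15838 := d22_3 (iv F27072) F27073 D17825 F27380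
def n17826 : Q := act 1 n13074
theorem D17826 : act 1 n13074 = n17826 := rfl
theorem F31114 : act 3 n17826 = n13075 := d7_2 (iv F22892) D17826 (iv D13075)
def n17827 : Q := act 0 n13075
theorem D17827 : act 0 n13075 = n17827 := rfl
def n17828 : Q := act 6 n13075
theorem D17828 : act 6 n13075 = n17828 := rfl
theorem F31115 : act 1 n17828 = n15837 := d10_1 D17828 (iv D15837) (iv D11981) (iv F18531) D13075
def n17833 : Q := act 6 n13078
theorem D17833 : act 6 n13078 = n17833 := rfl
theorem F31131 : act 4 n17833 = n13079 := d19_1 D17833 (iv D13079) D13078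
def n18154 : Q := act 1 n13284
theorem D18154 : act 1 n13284 = n18154 := rfl
theorem F31735 : act 4 n18154 = n13293 := d8_2 (iv F23338) D18154 (iv D13293)
def n18155 : Q := act 1 n13285
theorem D18155 : act 1 n13285 = n18155 := rfl
theorem F31736 : act 4 n18155 = n13298 := d8_2 (iv F23340) D18155 (iv D13298)
theorem F31737 : act 6 n18155 = n18155 := d10_2 D13285 D18155 (iv D18155) (iv D13285) F18871
def n18156 : Q := act 1 n13286
theorem D18156 : act 1 n13286 = n18156 := rfl
theorem F31738 : act 4 n18156 = n13299 := d8_2 (iv F23344) D18156 (iv D13299)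
theorem F31739 : act 5 n18156 = n18156 := d9_2 D13286 D18156 (iv D18156) (iv D13286) F18874
def n18157 : Q := act 1 n13289
theorem D18157 : act 1 n13289 = n18157 := rfl
theorem F31740 : act 6 n18157 = n13293 := d10_2 D13289 D18157 (iv D13293) (iv D10639) D10636
theorem F31741 : act 5 n18157 = n15265 := d24_1 (iv F31740) (iv D15265) (iv D11681) (iv F20620) (iv F29022) (iv F18891) (iv D10644) F17224 (iv D6740) D6739 F16109 D10643 F18888 D13293
def n18158 : Q := act 5 n13289
theorem D18158 : act 5 n13289 = n18158 := rfl
theorem F31742 : act 0 n18158 = n15262 := d4_1 D18158 (iv F29258) F27547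
theorem F31743 : act 1 n18158 = n15266 := d9_1 D18158 (iv D15266) D15265 (iv F31741) (iv D18157)
theorem F31746 : act 4 n18158 = n15939 := d18_1 D18158 F27556 F27532
theorem F31747 : act 6 n18158 = n15259 := d20_2 D13289 D18158 F28853 D15937 F29258 (iv D15262) F28844
def n18162 : Q := act 5 n13293
theorem D18162 : act 5 n13293 = n18162 := rfl
def n18163 : Q := act 6 n13294
theorem D18163 : act 6 n13294 = n18163 := rfl
theorem F31750 : act 2 n18163 = n13296 := d14_1 D18163 (iv D13296) (iv F23354)
theorem F31751 : act 3 n18163 = n13488 := d17_1 D18163 F23727 F23695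
theorem F31752 : act 5 n18163 = n13481 := d22_2 D13294 D18163 (iv D13481) F19081
def n18164 : Q := act 1 n13295
theorem D18164 : act 1 n13295 = n18164 := rfl
def n18165 : Q := act 5 n13295
theorem D18165 : act 5 n13295 = n18165 := rfl
theorem F31755 : act 0 n18165 = n18163 := d4_1 D18165 F31752 F23715
theorem F31756 : act 2 n18165 = n13297 := d13_1 D18165 (iv D13297) (iv F23355)
theorem F31757 : act 3 n18165 = n13486 := d16_1 D18165 F23724 F23698
theorem F31758 : act 6 n18165 = n13480 := d20_2 D13295 D18165 (iv D13480) D13481 (iv F31752) (iv D18163) (iv D13294)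
def n18166 : Q := act 1 n13296
theorem D18166 : act 1 n13296 = n18166 := rfl
theorem F31759 : act 3 n18166 = n13298 := d7_2 (iv F23356) D18166 (iv D13298)
def n18167 : Q := act 1 n13297
theorem D18167 : act 1 n13297 = n18167 := rfl
theorem F31761 : act 3 n18167 = n13299 := d7_2 (iv F23359) D18167 (iv D13299)
theorem F31762 : act 5 n18167 = n18167 := d9_2 D13297 D18167 (iv D18167) (iv D13297) F18885
theorem F31763 : act 6 n18167 = n16843 := d10_2 (iv F23360) D18167 (iv D16843) F22034 F29023
def n18168 : Q := act 0 n13298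
theorem D18168 : act 0 n13298 = n18168 := rfl
def n18169 : Q := act 2 n13298
theorem D18169 : act 2 n13298 = n18169 := rfl
theorem F31765 : act 1 n18169 = n13351 := d6_1 D18169 (iv D13351) (iv D10670) (iv F18887) D13298
theorem F31766 : act 6 n18169 = n18169 := d14_2 F23361 D18169 (iv D18169)
def n18170 : Q := act 5 n13298
theorem D18170 : act 5 n13298 = n18170 := rfl
theorem F31767 : act 1 n18170 = n18162 := d9_1 D18170 (iv D18162) (iv D13293) (iv F18888) D13298
def n18171 : Q := act 0 n13299
theorem D18171 : act 0 n13299 = n18171 := rfl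
def n18172 : Q := act 2 n13299
theorem D18172 : act 2 n13299 = n18172 := rfl
theorem F31769 : act 1 n18172 = n13356 := d6_1 D18172 (iv D13356) (iv D10673) (iv F18890) D13299
theorem F31770 : act 5 n18172 = n18172 := d13_2 F23362 D18172 (iv D18172)
def n18173 : Q := act 6 n13299
theorem D18173 : act 6 n13299 = n18173 := rfl
theorem F31771 : act 1 n18173 = n15191 := d10_1 D18173 (iv D15191) (iv F29022) (iv F18891) D13299
theorem F31772 : act 3 n18173 = n16843 := d17_1 D18173 (iv F31763) F31761
def n18174 : Q := act 3 n13300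
theorem D18174 : act 3 n13300 = n18174 := rfl
theorem F31773 : act 0 n18174 = n13302 := d2_1 D18174 (iv D13302) D13300
theorem F31774 : act 1 n18174 = n13653 := d7_1 D18174 (iv D13653) (iv F23363)
theorem F31775 : act 4 n18174 = n13653 := d15_2 (iv F23364) D18174 (iv D13653) F19235 (iv F18932)
theorem F31776 : act 2 n18174 = n14928 := d21_6 (iv F23372) (iv D13302) D13301 (iv F23369) F23365 D18174 F25963 (iv D14928)
def n18175 : Q := act 5 n13300
theorem D18175 : act 5 n13300 = n18175 := rfl
theorem F31777 : act 0 n18175 = n13303 := d4_1 D18175 (iv D13303) D13300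
theorem F31778 : act 2 n18175 = n13406 := d13_1 D18175 (iv D13406) F23365
theorem F31779 : act 4 n18175 = n13333 := d18_1 D18175 (iv D13333) (iv F23364)
def n18176 : Q := act 6 n13300
theorem D18176 : act 6 n13300 = n18176 := rfl
theorem F31780 : act 0 n18176 = n13304 := d5_1 D18176 (iv D13304) D13300
theorem F31781 : act 2 n18176 = n13407 := d14_1 D18176 (iv D13407) F23365
theorem F31782 : act 4 n18176 = n13334 := d19_1 D18176 (iv D13334) (iv F23364)
def n18177 : Q := act 6 n13301
theorem D18177 : act 6 n13301 = n18177 := rfl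
theorem F31783 : act 0 n18177 = n13407 := d5_1 D18177 (iv D13407) (iv F23366)
theorem F31784 : act 2 n18177 = n13304 := d14_1 D18177 (iv D13304) D13301
theorem F31785 : act 3 n18177 = n13407 := d17_1 D18177 (iv D13407) F23369
theorem F31786 : act 4 n18177 = n13337 := d19_1 D18177 (iv D13337) (iv F23368)
def n18178 : Q := act 5 n13302
theorem D18178 : act 5 n13302 = n18178 := rfl
theorem F31787 : act 2 n18178 = n14929 := d13_1 D18178 (iv D14929) (iv F23372)
theorem F31788 : act 3 n18178 = n13303 := d16_1 D18178 (iv D13303) D13302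
theorem F31789 : act 4 n18178 = n13656 := d18_1 D18178 (iv D13656) (iv F23371)
def n18179 : Q := act 6 n13302
theorem D18179 : act 6 n13302 = n18179 := rfl
theorem F31790 : act 2 n18179 = n14930 := d14_1 D18179 (iv D14930) (iv F23372)
theorem F31791 : act 3 n18179 = n13304 := d17_1 D18179 (iv D13304) D13302
theorem F31792 : act 4 n18179 = n13657 := d19_1 D18179 (iv D13657) (iv F23371)
def n18180 : Q := act 6 n13303
theorem D18180 : act 6 n13303 = n18180 := rfl
theorem F31793 : act 4 n18180 = n13339 := d19_1 D18180 (iv D13339) (iv F23373)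
theorem F31794 : act 5 n18180 = n18176 := d22_2 D13303 D18180 (iv D18176) (iv D13300)
def n18181 : Q := act 1 n13304
theorem D18181 : act 1 n13304 = n18181 := rfl
theorem F31795 : act 4 n18181 = n13340 := d8_2 (iv F23374) D18181 (iv D13340)
theorem F31796 : act 6 n18181 = n13308 := d10_2 D13304 D18181 (iv D13308) (iv D10648) D10645
def n18182 : Q := act 5 n13304
theorem D18182 : act 5 n13304 = n18182 := rfl
theorem F31797 : act 0 n18182 = n18180 := d4_1 D18182 F31794 F31780
theorem F31798 : act 4 n18182 = n13341 := d18_1 D18182 (iv D13341) (iv F23374)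
theorem F31799 : act 6 n18182 = n18175 := d20_2 D13304 D18182 (iv D18175) D18176 (iv F31794) (iv D18180) (iv D13303)
def n18183 : Q := act 1 n13305
theorem D18183 : act 1 n13305 = n18183 := rfl
theorem F31800 : act 3 n18183 = n13307 := d7_2 (iv F23377) D18183 (iv D13307)
theorem F31801 : act 4 n18183 = n13662 := d8_2 (iv F23378) D18183 (iv D13662)
def n18184 : Q := act 1 n13306
theorem D18184 : act 1 n13306 = n18184 := rfl
theorem F31802 : act 3 n18184 = n13308 := d7_2 (iv F23381) D18184 (iv D13308)
theorem F31803 : act 4 n18184 = n13663 := d8_2 (iv F23382) D18184 (iv D13663)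
def n18185 : Q := act 0 n13307
theorem D18185 : act 0 n13307 = n18185 := rfl
theorem F31804 : act 4 n18185 = n13342 := d3_2 (iv F23383) D18185 (iv D13342)
def n18186 : Q := act 6 n13307
theorem D18186 : act 6 n13307 = n18186 := rfl
theorem F31805 : act 4 n18186 = n13344 := d19_1 D18186 (iv D13344) (iv F23383)
def n18187 : Q := act 0 n13308
theorem D18187 : act 0 n13308 = n18187 := rfl
theorem F31806 : act 4 n18187 = n13345 := d3_2 (iv F23384) D18187 (iv D13345)
def n18188 : Q := act 2 n13308
theorem D18188 : act 2 n13308 = n18188 := rfl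
theorem F31807 : act 4 n18188 = n13346 := d12_2 (iv F23384) D18188 (iv D13346)
def n18189 : Q := act 5 n13308
theorem D18189 : act 5 n13308 = n18189 := rfl
theorem F31808 : act 4 n18189 = n13347 := d18_1 D18189 (iv D13347) (iv F23384)
def n18190 : Q := act 1 n13309
theorem D18190 : act 1 n13309 = n18190 := rfl
theorem F31809 : act 3 n18190 = n14916 := d7_2 (iv F23387) D18190 (iv D14916)
theorem F31810 : act 4 n18190 = n13670 := d8_2 (iv F23388) D18190 (iv D13670)
theorem F31811 : act 5 n18190 = n13670 := d9_2 D13309 D18190 (iv D13670) (iv D10838) (iv F18901)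
def n18191 : Q := act 1 n13310
theorem D18191 : act 1 n13310 = n18191 := rfl
theorem F31812 : act 3 n18191 = n14917 := d7_2 (iv F23391) D18191 (iv D14917)
theorem F31813 : act 4 n18191 = n13671 := d8_2 (iv F23392) D18191 (iv D13671)
theorem F31814 : act 6 n18191 = n13671 := d10_2 D13310 D18191 (iv D13671) (iv D10839) (iv F18901)
def n18192 : Q := act 0 n13311
theorem D18192 : act 0 n13311 = n18192 := rfl
theorem F31815 : act 3 n18192 = n13315 := d2_2 (iv F23393) D18192 (iv D13315)
theorem F31816 : act 4 n18192 = n13672 := d3_2 (iv F23394) D18192 (iv D13672)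
theorem F31817 : act 5 n18192 = n13321 := d4_2 (iv F23395) D18192 (iv D13321)
theorem F31818 : act 2 n15010 = n18192 := d13_3 F31817 (iv F23420) D15010
def n18193 : Q := act 2 n13311
theorem D18193 : act 2 n13311 = n18193 := rfl
theorem F31819 : act 0 n18193 = n15010 := d1_1 D18193 F31818 (iv D18192)
theorem F31820 : act 4 n18193 = n13673 := d12_2 (iv F23394) D18193 (iv D13673)
theorem F31821 : act 5 n18193 = n13322 := d13_2 (iv F23395) D18193 (iv D13322)
theorem F31822 : act 3 n18193 = n15034 := d21_1 D18193 F26172 (iv F26125) F31818 F31815 F23406 (iv F31815) (iv D18192)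
def n18194 : Q := act 6 n13311
theorem D18194 : act 6 n13311 = n18194 := rfl
theorem F31823 : act 3 n18194 = n13316 := d17_1 D18194 (iv D13316) (iv F23393)
theorem F31824 : act 4 n18194 = n13674 := d19_1 D18194 (iv D13674) (iv F23394)
def n18195 : Q := act 1 n13312
theorem D18195 : act 1 n13312 = n18195 := rfl
theorem F31825 : act 3 n18195 = n13317 := d7_2 (iv F23396) D18195 (iv D13317)
theorem F31826 : act 4 n18195 = n13675 := d8_2 (iv F23397) D18195 (iv D13675)
def n18196 : Q := act 0 n13313
theorem D18196 : act 0 n13313 = n18196 := rfl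
theorem F31827 : act 3 n18196 = n13318 := d2_2 (iv F23399) D18196 (iv D13318)
theorem F31828 : act 4 n18196 = n13676 := d3_2 (iv F23400) D18196 (iv D13676)
theorem F31829 : act 6 n18196 = n13324 := d5_2 (iv F23401) D18196 (iv D13324)
theorem F31830 : act 2 n15023 = n18196 := d14_3 F31829 (iv F23429) D15023
def n18197 : Q := act 2 n13313
theorem D18197 : act 2 n13313 = n18197 := rfl
theorem F31831 : act 0 n18197 = n15023 := d1_1 D18197 F31830 (iv D18196)
theorem F31832 : act 4 n18197 = n13677 := d12_2 (iv F23400) D18197 (iv D13677)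
theorem F31833 : act 6 n18197 = n13325 := d14_2 (iv F23401) D18197 (iv D13325)
theorem F31834 : act 3 n18197 = n15062 := d21_1 D18197 F26231 (iv F26150) F31830 F31827 F23412 (iv F31827) (iv D18196)
def n18198 : Q := act 5 n13313
theorem D18198 : act 5 n13313 = n18198 := rfl
theorem F31835 : act 3 n18198 = n13319 := d16_1 D18198 (iv D13319) (iv F23399)
theorem F31836 : act 4 n18198 = n13678 := d18_1 D18198 (iv D13678) (iv F23400)
def n18199 : Q := act 1 n13314
theorem D18199 : act 1 n13314 = n18199 := rfl
theorem F31837 : act 3 n18199 = n13320 := d7_2 (iv F23403) D18199 (iv D13320)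
theorem F31838 : act 4 n18199 = n13679 := d8_2 (iv F23404) D18199 (iv D13679)
def n18200 : Q := act 1 n13316
theorem D18200 : act 1 n13316 = n18200 := rfl
theorem F31839 : act 4 n18200 = n13349 := d8_2 (iv F23410) D18200 (iv D13349)
theorem F31840 : act 6 n18200 = n13317 := d10_2 D13316 D18200 (iv D13317) (iv D10653) D10652
def n18201 : Q := act 0 n13317
theorem D18201 : act 0 n13317 = n18201 := rfl
theorem F31841 : act 4 n18201 = n13350 := d3_2 (iv F23411) D18201 (iv D13350)
def n18202 : Q := act 2 n13317
theorem D18202 : act 2 n13317 = n18202 := rfl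
theorem F31842 : act 4 n18202 = n13351 := d12_2 (iv F23411) D18202 (iv D13351)
def n18203 : Q := act 5 n13317
theorem D18203 : act 5 n13317 = n18203 := rfl
theorem F31843 : act 1 n18203 = n18189 := d9_1 D18203 (iv D18189) (iv D13308) (iv F18912) D13317
theorem F31844 : act 4 n18203 = n13352 := d18_1 D18203 (iv D13352) (iv F23411)
def n18204 : Q := act 1 n13318
theorem D18204 : act 1 n13318 = n18204 := rfl
theorem F31845 : act 4 n18204 = n13353 := d8_2 (iv F23413) D18204 (iv D13353)
def n18205 : Q := act 1 n13319
theorem D18205 : act 1 n13319 = n18205 := rfl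
theorem F31846 : act 4 n18205 = n13354 := d8_2 (iv F23416) D18205 (iv D13354)
theorem F31847 : act 5 n18205 = n13320 := d9_2 D13319 D18205 (iv D13320) (iv D10655) D10654
def n18206 : Q := act 0 n13320
theorem D18206 : act 0 n13320 = n18206 := rfl
theorem F31848 : act 4 n18206 = n13355 := d3_2 (iv F23417) D18206 (iv D13355)
def n18207 : Q := act 2 n13320
theorem D18207 : act 2 n13320 = n18207 := rfl
theorem F31849 : act 4 n18207 = n13356 := d12_2 (iv F23417) D18207 (iv D13356)
def n18208 : Q := act 6 n13320
theorem D18208 : act 6 n13320 = n18208 := rfl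
theorem F31850 : act 1 n18208 = n18186 := d10_1 D18208 (iv D18186) (iv D13307) (iv F18918) D13320
theorem F31851 : act 4 n18208 = n13357 := d19_1 D18208 (iv D13357) (iv F23417)
def n18209 : Q := act 6 n13321
theorem D18209 : act 6 n13321 = n18209 := rfl
theorem F31852 : act 0 n18209 = n13323 := d5_1 D18209 (iv D13323) D13321
theorem F31853 : act 2 n18209 = n15011 := d14_1 D18209 (iv D15011) F23420
theorem F31854 : act 3 n18209 = n13328 := d17_1 D18209 (iv D13328) (iv F23418)
theorem F31855 : act 4 n18209 = n13697 := d19_1 D18209 (iv D13697) (iv F23419)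
theorem F31856 : act 5 n18209 = n18194 := d22_2 F31817 D18209 (iv D18194) D18192
def n18210 : Q := act 6 n13322
theorem D18210 : act 6 n13322 = n18210 := rfl
theorem F31857 : act 0 n18210 = n15011 := d5_1 D18210 (iv D15011) (iv F23421)
theorem F31858 : act 2 n18210 = n13323 := d14_1 D18210 (iv D13323) D13322
theorem F31859 : act 3 n18210 = n15035 := d17_1 D18210 (iv D15035) (iv F23424)
theorem F31860 : act 4 n18210 = n13698 := d19_1 D18210 (iv D13698) (iv F23423)
def n18211 : Q := act 5 n13323
theorem D18211 : act 5 n13323 = n18211 := rfl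
theorem F31861 : act 0 n18211 = n18194 := d4_1 D18211 (iv F31856) F31852
theorem F31862 : act 3 n18211 = n13329 := d16_1 D18211 (iv D13329) (iv F23425)
theorem F31863 : act 4 n18211 = n13700 := d18_1 D18211 (iv D13700) (iv F23426)
theorem F31864 : act 6 n18211 = n18192 := d20_2 D13323 D18211 F31817 D18209 F31856 (iv D18194) F23395
def n18212 : Q := act 1 n13324
theorem D18212 : act 1 n13324 = n18212 := rfl
theorem F31865 : act 2 n18212 = n15024 := d6_2 F23429 D18212 (iv D15024) (iv D11544) D11543
theorem F31866 : act 3 n18212 = n13330 := d7_2 (iv F23427) D18212 (iv D13330)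
theorem F31867 : act 4 n18212 = n13704 := d8_2 (iv F23428) D18212 (iv D13704)
def n18213 : Q := act 5 n13324
theorem D18213 : act 5 n13324 = n18213 := rfl
theorem F31868 : act 0 n18213 = n13326 := d4_1 D18213 (iv D13326) D13324
theorem F31869 : act 2 n18213 = n15022 := d13_1 D18213 (iv D15022) F23429
theorem F31870 : act 3 n18213 = n13331 := d16_1 D18213 (iv D13331) (iv F23427)
theorem F31871 : act 4 n18213 = n13705 := d18_1 D18213 (iv D13705) (iv F23428)
theorem F31872 : act 6 n18213 = n18198 := d22_1 D18213 (iv D18198) F23401 D13324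
def n18214 : Q := act 5 n13325
theorem D18214 : act 5 n13325 = n18214 := rfl
theorem F31873 : act 0 n18214 = n15022 := d4_1 D18214 (iv D15022) (iv F23452)
theorem F31874 : act 2 n18214 = n13326 := d13_1 D18214 (iv D13326) D13325
theorem F31875 : act 3 n18214 = n15061 := d16_1 D18214 (iv D15061) (iv F23455)
theorem F31876 : act 4 n18214 = n13706 := d18_1 D18214 (iv D13706) (iv F23454)
def n18215 : Q := act 6 n13326
theorem D18215 : act 6 n13326 = n18215 := rfl
theorem F31877 : act 0 n18215 = n18198 := d5_1 D18215 (iv F31872) F31868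
theorem F31878 : act 3 n18215 = n13332 := d17_1 D18215 (iv D13332) (iv F23456)
theorem F31879 : act 4 n18215 = n13708 := d19_1 D18215 (iv D13708) (iv F23457)
theorem F31880 : act 5 n18215 = n18196 := d20_1 D18215 F31829 D18213 F31872 (iv D18198) F23401 D13326
def n18216 : Q := act 1 n13328
theorem D18216 : act 1 n13328 = n18216 := rfl
theorem F31881 : act 4 n18216 = n13362 := d8_2 (iv F23461) D18216 (iv D13362)
def n18217 : Q := act 1 n13329
theorem D18217 : act 1 n13329 = n18217 := rfl
theorem F31882 : act 4 n18217 = n13363 := d8_2 (iv F23465) D18217 (iv D13363)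
def n18218 : Q := act 0 n13330
theorem D18218 : act 0 n13330 = n18218 := rfl
theorem F31883 : act 1 n18218 = n13734 := d0_2 D13330 D18218 (iv D13734) (iv D10870) (iv D8014) (iv D3834) (iv F5093) D6810 D10660
theorem F31884 : act 4 n18218 = n13364 := d3_2 (iv F23467) D18218 (iv D13364)
def n18220 : Q := act 5 n13330
theorem D18220 : act 5 n13330 = n18220 := rfl
theorem F31887 : act 4 n18220 = n13366 := d18_1 D18220 (iv D13366) (iv F23467)
def n18221 : Q := act 6 n13330
theorem D18221 : act 6 n13330 = n18221 := rfl
theorem F31888 : act 4 n18221 = n13367 := d19_1 D18221 (iv D13367) (iv F23467)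
def n18222 : Q := act 1 n13331
theorem D18222 : act 1 n13331 = n18222 := rfl
theorem F31889 : act 4 n18222 = n13368 := d8_2 (iv F23470) D18222 (iv D13368)
def n18223 : Q := act 1 n13332
theorem D18223 : act 1 n13332 = n18223 := rfl
theorem F31890 : act 4 n18223 = n13369 := d8_2 (iv F23474) D18223 (iv D13369)
def n18224 : Q := act 1 n13334
theorem D18224 : act 1 n13334 = n18224 := rfl
theorem F31891 : act 3 n18224 = n13839 := d7_2 (iv F23481) D18224 (iv D13839)
theorem F31892 : act 6 n18224 = n13839 := d10_2 D13334 D18224 (iv D13839) (iv D10931) (iv F18931)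
def n18226 : Q := act 1 n13339
theorem D18226 : act 1 n13339 = n18226 := rfl
theorem F31893 : act 3 n18226 = n13843 := d7_2 (iv F23492) D18226 (iv D13843)
def n18227 : Q := act 0 n13340
theorem D18227 : act 0 n13340 = n18227 := rfl
theorem F31894 : act 3 n18227 = n13844 := d2_2 (iv F23494) D18227 (iv D13844)
theorem F31895 : act 6 n18227 = n13345 := d5_2 (iv F23495) D18227 (iv D13345)
def n18228 : Q := act 2 n13340
theorem D18228 : act 2 n13340 = n18228 := rfl
theorem F31896 : act 6 n18228 = n13346 := d14_2 (iv F23495) D18228 (iv D13346)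
def n18229 : Q := act 5 n13340
theorem D18229 : act 5 n13340 = n18229 := rfl
theorem F31897 : act 3 n18229 = n13846 := d16_1 D18229 (iv D13846) (iv F23494)
def n18230 : Q := act 1 n13341
theorem D18230 : act 1 n13341 = n18230 := rfl
theorem F31898 : act 3 n18230 = n13847 := d7_2 (iv F23497) D18230 (iv D13847)
def n18231 : Q := act 1 n13342
theorem D18231 : act 1 n13342 = n18231 := rfl
theorem F31899 : act 3 n18231 = n13848 := d7_2 (iv F23499) D18231 (iv D13848)
def n18232 : Q := act 6 n13342
theorem D18232 : act 6 n13342 = n18232 := rfl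
theorem F31900 : act 0 n18232 = n13344 := d5_1 D18232 (iv D13344) D13342
theorem F31901 : act 2 n18232 = n14744 := d14_1 D18232 F25694 (iv F29236)
theorem F31902 : act 3 n18232 = n13850 := d17_1 D18232 (iv D13850) (iv F23499)
theorem F31903 : act 5 n18232 = n14742 := d22_2 F29237 D18232 (iv D14742) (iv F25679)
def n18233 : Q := act 5 n13344
theorem D18233 : act 5 n13344 = n18233 := rfl
theorem F31904 : act 0 n18233 = n14742 := d4_1 D18233 (iv F31903) F31900
theorem F31905 : act 2 n18233 = n14734 := d13_1 D18233 F25684 F29233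
theorem F31906 : act 3 n18233 = n13853 := d16_1 D18233 (iv D13853) (iv F23500)
theorem F31907 : act 6 n18233 = n14732 := d20_2 D13344 D18233 F29237 D18232 F31903 (iv D14742) (iv F28822)
def n18234 : Q := act 1 n13345
theorem D18234 : act 1 n13345 = n18234 := rfl
theorem F31908 : act 3 n18234 = n13854 := d7_2 (iv F23501) D18234 (iv D13854)
def n18235 : Q := act 2 n13345
theorem D18235 : act 2 n13345 = n18235 := rfl
theorem F31909 : act 0 n18235 = n13346 := d1_1 D18235 (iv D13346) D13345
def n18236 : Q := act 5 n13345
theorem D18236 : act 5 n13345 = n18236 := rfl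
theorem F31910 : act 0 n18236 = n13347 := d4_1 D18236 (iv D13347) D13345
theorem F31911 : act 3 n18236 = n13856 := d16_1 D18236 (iv D13856) (iv F23501)
theorem F31912 : act 6 n18236 = n18229 := d22_1 D18236 (iv D18229) F23495 D13345
def n18238 : Q := act 5 n13346
theorem D18238 : act 5 n13346 = n18238 := rfl
theorem F31913 : act 2 n18238 = n13347 := d13_1 D18238 (iv D13347) D13346
def n18239 : Q := act 6 n13347
theorem D18239 : act 6 n13347 = n18239 := rfl
theorem F31914 : act 0 n18239 = n18229 := d5_1 D18239 (iv F31912) F31910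
theorem F31915 : act 3 n18239 = n13859 := d17_1 D18239 (iv D13859) (iv F23502)
theorem F31916 : act 5 n18239 = n18227 := d20_1 D18239 F31895 D18236 F31912 (iv D18229) F23495 D13347
def n18240 : Q := act 0 n13348
theorem D18240 : act 0 n13348 = n18240 := rfl
theorem F31917 : act 3 n18240 = n13860 := d2_2 (iv F23503) D18240 (iv D13860)
def n18241 : Q := act 6 n13348
theorem D18241 : act 6 n13348 = n18241 := rfl
theorem F31918 : act 3 n18241 = n13863 := d17_1 D18241 (iv D13863) (iv F23503)
def n18242 : Q := act 0 n13349
theorem D18242 : act 0 n13349 = n18242 := rfl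
theorem F31919 : act 3 n18242 = n13869 := d2_2 (iv F23504) D18242 (iv D13869)
theorem F31920 : act 6 n18242 = n13350 := d5_2 (iv F23505) D18242 (iv D13350)
def n18243 : Q := act 2 n13349
theorem D18243 : act 2 n13349 = n18243 := rfl
theorem F31921 : act 1 n18243 = n18243 := d6_1 D18243 (iv D18243) (iv D13349) F18940 D13349
theorem F31922 : act 6 n18243 = n13351 := d14_2 (iv F23505) D18243 (iv D13351)
def n18244 : Q := act 5 n13349
theorem D18244 : act 5 n13349 = n18244 := rfl
theorem F31923 : act 3 n18244 = n13871 := d16_1 D18244 (iv D13871) (iv F23504)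
def n18245 : Q := act 1 n13350
theorem D18245 : act 1 n13350 = n18245 := rfl
theorem F31924 : act 3 n18245 = n13872 := d7_2 (iv F23506) D18245 (iv D13872)
def n18246 : Q := act 2 n13350
theorem D18246 : act 2 n13350 = n18246 := rfl
theorem F31925 : act 0 n18246 = n13351 := d1_1 D18246 (iv D13351) D13350
def n18247 : Q := act 5 n13350
theorem D18247 : act 5 n13350 = n18247 := rfl
theorem F31926 : act 0 n18247 = n13352 := d4_1 D18247 (iv D13352) D13350
theorem F31927 : act 3 n18247 = n13874 := d16_1 D18247 (iv D13874) (iv F23506)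
theorem F31928 : act 6 n18247 = n18244 := d22_1 D18247 (iv D18244) F23505 D13350
theorem F31929 : act 1 n13892 = n18247 := d24_14 F31928 (iv D18244) (iv D13349) (iv D10669) F10306 (iv D3307) (iv F3037) (iv D1884) D1883 (iv F5981) D8199 D10954 D13889 (iv F24379)
theorem F31930 : act 5 n18245 = n13963 := d9_4 (iv F24379) F31929 (iv D18247) D18245 F24451
def n18248 : Q := act 3 n13351
theorem D18248 : act 3 n13351 = n18248 := rfl
def n18249 : Q := act 5 n13351
theorem D18249 : act 5 n13351 = n18249 := rfl
theorem F31931 : act 2 n18249 = n13352 := d13_1 D18249 (iv D13352) D13351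
def n18250 : Q := act 6 n13352
theorem D18250 : act 6 n13352 = n18250 := rfl
theorem F31932 : act 0 n18250 = n18244 := d5_1 D18250 (iv F31928) F31926
theorem F31933 : act 3 n18250 = n13877 := d17_1 D18250 (iv D13877) (iv F23508)
theorem F31934 : act 5 n18250 = n18242 := d20_1 D18250 F31920 D18247 F31928 (iv D18244) F23505 D13352
def n18251 : Q := act 0 n13353
theorem D18251 : act 0 n13353 = n18251 := rfl
theorem F31935 : act 3 n18251 = n13878 := d2_2 (iv F23509) D18251 (iv D13878)
def n18252 : Q := act 2 n13353
theorem D18252 : act 2 n13353 = n18252 := rfl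
def n18253 : Q := act 5 n13353
theorem D18253 : act 5 n13353 = n18253 := rfl
theorem F31937 : act 3 n18253 = n13880 := d16_1 D18253 (iv D13880) (iv F23509)
def n18254 : Q := act 6 n13353
theorem D18254 : act 6 n13353 = n18254 := rfl
theorem F31938 : act 1 n18254 = n13367 := d10_1 D18254 (iv D13367) (iv D10677) (iv F18945) D13353
theorem F31939 : act 3 n18254 = n13881 := d17_1 D18254 (iv D13881) (iv F23509)
def n18255 : Q := act 0 n13354
theorem D18255 : act 0 n13354 = n18255 := rfl
theorem F31940 : act 3 n18255 = n13887 := d2_2 (iv F23510) D18255 (iv D13887)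
theorem F31941 : act 5 n18255 = n13355 := d4_2 (iv F23511) D18255 (iv D13355)
def n18256 : Q := act 2 n13354
theorem D18256 : act 2 n13354 = n18256 := rfl
theorem F31942 : act 1 n18256 = n18256 := d6_1 D18256 (iv D18256) (iv D13354) F18946 D13354
theorem F31943 : act 5 n18256 = n13356 := d13_2 (iv F23511) D18256 (iv D13356)
def n18257 : Q := act 6 n13354
theorem D18257 : act 6 n13354 = n18257 := rfl
theorem F31944 : act 3 n18257 = n13889 := d17_1 D18257 (iv D13889) (iv F23510)
def n18258 : Q := act 1 n13355
theorem D18258 : act 1 n13355 = n18258 := rfl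
theorem F31945 : act 3 n18258 = n13890 := d7_2 (iv F23512) D18258 (iv D13890)
def n18259 : Q := act 2 n13355
theorem D18259 : act 2 n13355 = n18259 := rfl
theorem F31946 : act 0 n18259 = n13356 := d1_1 D18259 (iv D13356) D13355
def n18260 : Q := act 6 n13355
theorem D18260 : act 6 n13355 = n18260 := rfl
theorem F31947 : act 0 n18260 = n13357 := d5_1 D18260 (iv D13357) D13355
theorem F31948 : act 3 n18260 = n13892 := d17_1 D18260 (iv D13892) (iv F23512)
theorem F31949 : act 5 n18260 = n18257 := d22_2 F31941 D18260 (iv D18257) D18255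
theorem F31950 : act 1 n18260 = n13874 := d24_2 D18257 (iv F31949) F24365 (iv D13871) (iv D10946) (iv D8195) F5979 (iv D1881) D1882 F3033 D3308 (iv F10310) D10672 D13354
theorem F31951 : act 6 n13915 = n18258 := d10_4 D18260 F31950 F24365 (iv F24403) (iv D18258)
def n18261 : Q := act 3 n13356
theorem D18261 : act 3 n13356 = n18261 := rfl
def n18262 : Q := act 6 n13356
theorem D18262 : act 6 n13356 = n18262 := rfl
theorem F31952 : act 2 n18262 = n13357 := d14_1 D18262 (iv D13357) D13356
def n18263 : Q := act 5 n13357
theorem D18263 : act 5 n13357 = n18263 := rfl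
theorem F31953 : act 0 n18263 = n18257 := d4_1 D18263 (iv F31949) F31947
theorem F31954 : act 3 n18263 = n13895 := d16_1 D18263 (iv D13895) (iv F23514)
theorem F31955 : act 6 n18263 = n18255 := d20_2 D13357 D18263 F31941 D18260 F31949 (iv D18257) F23511
def n18264 : Q := act 6 n13358
theorem D18264 : act 6 n13358 = n18264 := rfl
theorem F31956 : act 0 n18264 = n13361 := d5_1 D18264 (iv D13361) D13358
theorem F31957 : act 2 n18264 = n16293 := d14_1 D18264 F28208 F27826
theorem F31958 : act 3 n18264 = n13898 := d17_1 D18264 (iv D13898) (iv F23516)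
theorem F31959 : act 4 n18264 = n16291 := d19_1 D18264 F28201 (iv F27825)
theorem F31960 : act 5 n18264 = n16289 := d22_2 F28153 D18264 (iv D16289) (iv F28151)
def n18265 : Q := act 1 n13361
theorem D18265 : act 1 n13361 = n18265 := rfl
theorem F31961 : act 3 n18265 = n13904 := d7_2 (iv F23519) D18265 (iv D13904)
theorem F31962 : act 6 n18265 = n13362 := d10_2 D13361 D18265 (iv D13362) (iv D10675) D10674
def n18266 : Q := act 5 n13361
theorem D18266 : act 5 n13361 = n18266 := rfl
theorem F31963 : act 0 n18266 = n16289 := d4_1 D18266 (iv F31960) F31956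
theorem F31964 : act 2 n18266 = n16272 := d13_1 D18266 F28162 F27838
theorem F31965 : act 3 n18266 = n13905 := d16_1 D18266 (iv D13905) (iv F23519)
theorem F31966 : act 4 n18266 = n16271 := d18_1 D18266 F28158 F27837
theorem F31967 : act 6 n18266 = n16270 := d20_2 D13361 D18266 F28153 D18264 F31960 (iv D16289) F27835
def n18267 : Q := act 0 n13362
theorem D18267 : act 0 n13362 = n18267 := rfl
theorem F31968 : act 3 n18267 = n13913 := d2_2 (iv F23520) D18267 (iv D13913)
def n18268 : Q := act 2 n13362
theorem D18268 : act 2 n13362 = n18268 := rfl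
theorem F31969 : act 1 n18268 = n18268 := d6_1 D18268 (iv D18268) (iv D13362) F18951 D13362
def n18269 : Q := act 5 n13362
theorem D18269 : act 5 n13362 = n18269 := rfl
theorem F31970 : act 1 n18269 = n18244 := d9_1 D18269 (iv D18244) (iv D13349) (iv F18953) D13362
theorem F31971 : act 3 n18269 = n13915 := d16_1 D18269 (iv D13915) (iv F23520)
theorem F31972 : act 6 n13890 = n18269 := d17_0 F31971 F31951 F31945
def n18270 : Q := act 0 n13363
theorem D18270 : act 0 n13363 = n18270 := rfl
theorem F31973 : act 3 n18270 = n13928 := d2_2 (iv F23521) D18270 (iv D13928)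
def n18271 : Q := act 2 n13363
theorem D18271 : act 2 n13363 = n18271 := rfl
theorem F31974 : act 1 n18271 = n18271 := d6_1 D18271 (iv D18271) (iv D13363) F18955 D13363
def n18272 : Q := act 6 n13363
theorem D18272 : act 6 n13363 = n18272 := rfl
theorem F31975 : act 1 n18272 = n18241 := d10_1 D18272 (iv D18241) (iv D13348) (iv F18957) D13363
theorem F31976 : act 3 n18272 = n13930 := d17_1 D18272 (iv D13930) (iv F23521)
def n18273 : Q := act 2 n13364
theorem D18273 : act 2 n13364 = n18273 := rfl
theorem F31977 : act 0 n18273 = n13365 := d1_1 D18273 (iv D13365) D13364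
theorem F31978 : act 1 n18273 = n14039 := d6_1 D18273 F24537 F24444 (iv D13944) (iv F23522)
def n18274 : Q := act 5 n13364
theorem D18274 : act 5 n13364 = n18274 := rfl
theorem F31979 : act 0 n18274 = n13366 := d4_1 D18274 (iv D13366) D13364
theorem F31980 : act 3 n18274 = n13945 := d16_1 D18274 (iv D13945) (iv F23523)
def n18275 : Q := act 6 n13364
theorem D18275 : act 6 n13364 = n18275 := rfl
theorem F31981 : act 0 n18275 = n13367 := d5_1 D18275 (iv D13367) D13364
theorem F31982 : act 3 n18275 = n13946 := d17_1 D18275 (iv D13946) (iv F23523)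
def n18277 : Q := act 5 n13365
theorem D18277 : act 5 n13365 = n18277 := rfl
theorem F31984 : act 2 n18277 = n13366 := d13_1 D18277 (iv D13366) D13365
def n18278 : Q := act 6 n13365
theorem D18278 : act 6 n13365 = n18278 := rfl
theorem F31985 : act 2 n18278 = n13367 := d14_1 D18278 (iv D13367) D13365
def n18279 : Q := act 1 n13366
theorem D18279 : act 1 n13366 = n18279 := rfl
theorem F31986 : act 3 n18279 = n13951 := d7_2 (iv F23525) D18279 (iv D13951)
theorem F31987 : act 5 n18279 = n13368 := d9_2 D13366 D18279 (iv D13368) (iv D10678) D10677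
def n18280 : Q := act 6 n13366
theorem D18280 : act 6 n13366 = n18280 := rfl
theorem F31988 : act 3 n18280 = n13952 := d17_1 D18280 (iv D13952) (iv F23525)
theorem F31989 : act 5 n18280 = n18275 := d22_2 D13366 D18280 (iv D18275) (iv D13364)
def n18281 : Q := act 5 n13367
theorem D18281 : act 5 n13367 = n18281 := rfl
theorem F31990 : act 0 n18281 = n18280 := d4_1 D18281 F31989 F31981
theorem F31991 : act 3 n18281 = n13953 := d16_1 D18281 (iv D13953) (iv F23526)
theorem F31992 : act 6 n18281 = n18274 := d20_2 D13367 D18281 (iv D18274) D18275 (iv F31989) (iv D18280) (iv D13366)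
def n18282 : Q := act 0 n13368
theorem D18282 : act 0 n13368 = n18282 := rfl
theorem F31993 : act 3 n18282 = n13961 := d2_2 (iv F23527) D18282 (iv D13961)
def n18283 : Q := act 2 n13368
theorem D18283 : act 2 n13368 = n18283 := rfl
theorem F31994 : act 1 n18283 = n18283 := d6_1 D18283 (iv D18283) (iv D13368) F18960 D13368
def n18284 : Q := act 6 n13368
theorem D18284 : act 6 n13368 = n18284 := rfl
theorem F31995 : act 1 n18284 = n18257 := d10_1 D18284 (iv D18257) (iv D13354) (iv F18962) D13368
theorem F31996 : act 3 n18284 = n13963 := d17_1 D18284 (iv D13963) (iv F23527)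
theorem F31997 : act 5 n13872 = n18284 := d16_0 F31996 (iv F31930) F31924
def n18285 : Q := act 0 n13369
theorem D18285 : act 0 n13369 = n18285 := rfl
theorem F31998 : act 3 n18285 = n13976 := d2_2 (iv F23528) D18285 (iv D13976)
def n18286 : Q := act 2 n13369
theorem D18286 : act 2 n13369 = n18286 := rfl
theorem F31999 : act 1 n18286 = n18286 := d6_1 D18286 (iv D18286) (iv D13369) F18964 D13369
def n18287 : Q := act 5 n13369
theorem D18287 : act 5 n13369 = n18287 := rfl
theorem F32000 : act 1 n18287 = n18253 := d9_1 D18287 (iv D18253) (iv D13353) (iv F18966) D13369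
theorem F32001 : act 3 n18287 = n13978 := d16_1 D18287 (iv D13978) (iv F23528)
def n18288 : Q := act 0 n13370
theorem D18288 : act 0 n13370 = n18288 := rfl
theorem F32002 : act 3 n18288 = n13372 := d2_2 (iv F23529) D18288 (iv D13372)
theorem F32003 : act 4 n18288 = n13384 := d3_2 (iv F23530) D18288 (iv D13384)
theorem F32004 : act 5 n18288 = n13372 := d4_2 (iv F23531) D18288 (iv D13372)
theorem F32005 : act 2 n18288 = n16451 := d23_1 (iv F32004) (iv D16451) (iv D12296) D12298 (iv F28186) F28185 (iv D13315) F18910 F16112 (iv D6809) F5090 (iv D1844) (iv D911) (iv F1574) (iv F2856) D3641 (iv F11295) D10682 D13372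
theorem F32006 : act 1 n14681 = n18288 := d8_3 F32003 F28803 D14681
def n18289 : Q := act 2 n13370
theorem D18289 : act 2 n13370 = n18289 := rfl
theorem F32007 : act 0 n18289 = n16451 := d1_1 D18289 (iv F32005) (iv D18288)
theorem F32008 : act 1 n18289 = n18289 := d6_1 D18289 (iv D18289) (iv D13370) F18968 D13370
theorem F32009 : act 4 n18289 = n13385 := d12_2 (iv F23530) D18289 (iv D13385)
theorem F32010 : act 5 n18289 = n13373 := d13_2 (iv F23531) D18289 (iv D13373)
theorem F32011 : act 3 n16456 = n18289 := d2_0 F32007 F28511 D16456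
def n18290 : Q := act 6 n13370
theorem D18290 : act 6 n13370 = n18290 := rfl
theorem F32012 : act 3 n18290 = n13374 := d17_1 D18290 (iv D13374) (iv F23529)
theorem F32013 : act 4 n18290 = n13386 := d19_1 D18290 (iv D13386) (iv F23530)
def n18291 : Q := act 0 n13371
theorem D18291 : act 0 n13371 = n18291 := rfl
theorem F32014 : act 3 n18291 = n13375 := d2_2 (iv F23532) D18291 (iv D13375)
theorem F32015 : act 4 n18291 = n13388 := d3_2 (iv F23533) D18291 (iv D13388)
theorem F32016 : act 6 n18291 = n13375 := d5_2 (iv F23534) D18291 (iv D13375)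
def n18292 : Q := act 2 n13371
theorem D18292 : act 2 n13371 = n18292 := rfl
theorem F32017 : act 1 n18292 = n18292 := d6_1 D18292 (iv D18292) (iv D13371) F18972 D13371
theorem F32018 : act 4 n18292 = n13389 := d12_2 (iv F23533) D18292 (iv D13389)
theorem F32019 : act 6 n18292 = n13376 := d14_2 (iv F23534) D18292 (iv D13376)
def n18293 : Q := act 5 n13371
theorem D18293 : act 5 n13371 = n18293 := rfl
theorem F32020 : act 3 n18293 = n13377 := d16_1 D18293 (iv D13377) (iv F23532)
theorem F32021 : act 4 n18293 = n13390 := d18_1 D18293 (iv D13390) (iv F23533)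
def n18294 : Q := act 1 n13372
theorem D18294 : act 1 n13372 = n18294 := rfl
theorem F32022 : act 3 n18294 = n14681 := d7_2 F32002 D18294 F32006
theorem F32023 : act 4 n18294 = n13392 := d8_2 (iv F23535) D18294 (iv D13392)
def n18295 : Q := act 2 n13372
theorem D18295 : act 2 n13372 = n18295 := rfl
theorem F32024 : act 0 n18295 = n13373 := d1_1 D18295 (iv D13373) D13372
theorem F32025 : act 4 n18295 = n13393 := d12_2 (iv F23535) D18295 (iv D13393)
theorem F32026 : act 5 n18295 = n16451 := d13_2 F32004 D18295 (iv F32005)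
theorem F32027 : act 3 n16005 = n18295 := d16_3 F32026 F28511 (iv F27671)
theorem F32028 : act 1 n18295 = n16006 := d7_1 F32027 (iv D16006) D16005
def n18296 : Q := act 6 n13372
theorem D18296 : act 6 n13372 = n18296 := rfl
theorem F32029 : act 0 n18296 = n13374 := d5_1 D18296 (iv D13374) D13372
theorem F32030 : act 4 n18296 = n13394 := d19_1 D18296 (iv D13394) (iv F23535)
theorem F32031 : act 5 n18296 = n18290 := d22_2 F32004 D18296 (iv D18290) D18288
def n18297 : Q := act 3 n13373
theorem D18297 : act 3 n13373 = n18297 := rfl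
theorem F32032 : act 0 n18297 = n16005 := d2_1 D18297 F32027 F32024
theorem F32033 : act 1 n18297 = n13378 := d7_1 D18297 (iv D13378) (iv F23536)
theorem F32034 : act 5 n18297 = n16456 := d16_2 F32010 D18297 F32011
theorem F32035 : act 4 n16616 = n18297 := d18_3 F32034 F28540 (iv F29349)
def n18298 : Q := act 6 n13373
theorem D18298 : act 6 n13373 = n18298 := rfl
theorem F32036 : act 2 n18298 = n13374 := d14_1 D18298 (iv D13374) D13373
theorem F32037 : act 4 n18298 = n13396 := d19_1 D18298 (iv D13396) (iv F23537)
def n18299 : Q := act 5 n13374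
theorem D18299 : act 5 n13374 = n18299 := rfl
theorem F32038 : act 0 n18299 = n18290 := d4_1 D18299 (iv F32031) F32029
theorem F32039 : act 3 n18299 = n18296 := d16_1 D18299 F32031 F32012
theorem F32040 : act 4 n18299 = n13397 := d18_1 D18299 (iv D13397) (iv F23538)
theorem F32041 : act 6 n18299 = n18288 := d20_2 D13374 D18299 F32004 D18296 F32031 (iv D18290) F23531
def n18300 : Q := act 1 n13375
theorem D18300 : act 1 n13375 = n18300 := rfl
theorem F32042 : act 4 n18300 = n13398 := d8_2 (iv F23539) D18300 (iv D13398)
def n18301 : Q := act 2 n13375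
theorem D18301 : act 2 n13375 = n18301 := rfl
theorem F32043 : act 0 n18301 = n13376 := d1_1 D18301 (iv D13376) D13375
theorem F32044 : act 4 n18301 = n13399 := d12_2 (iv F23539) D18301 (iv D13399)
def n18302 : Q := act 5 n13375
theorem D18302 : act 5 n13375 = n18302 := rfl
theorem F32045 : act 0 n18302 = n13377 := d4_1 D18302 (iv D13377) D13375
theorem F32046 : act 4 n18302 = n13400 := d18_1 D18302 (iv D13400) (iv F23539)
theorem F32047 : act 6 n18302 = n18293 := d22_1 D18302 (iv D18293) F23534 D13375
def n18303 : Q := act 3 n13376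
theorem D18303 : act 3 n13376 = n18303 := rfl
theorem F32048 : act 1 n18303 = n13379 := d7_1 D18303 (iv D13379) (iv F23540)
def n18304 : Q := act 5 n13376
theorem D18304 : act 5 n13376 = n18304 := rfl
theorem F32049 : act 2 n18304 = n13377 := d13_1 D18304 (iv D13377) D13376
theorem F32050 : act 4 n18304 = n13402 := d18_1 D18304 (iv D13402) (iv F23541)
def n18305 : Q := act 6 n13377
theorem D18305 : act 6 n13377 = n18305 := rfl
theorem F32051 : act 0 n18305 = n18293 := d5_1 D18305 (iv F32047) F32045
theorem F32052 : act 3 n18305 = n18302 := d17_1 D18305 F32047 F32020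
theorem F32053 : act 4 n18305 = n13403 := d19_1 D18305 (iv D13403) (iv F23542)
theorem F32054 : act 5 n18305 = n18291 := d20_1 D18305 F32016 D18302 F32047 (iv D18293) F23534 D13377
def n18306 : Q := act 4 n13378
theorem D18306 : act 4 n13378 = n18306 := rfl
theorem F32055 : act 0 n18306 = n18306 := d3_1 D18306 (iv D18306) F23543
theorem F32056 : act 1 n18306 = n16616 := d8_1 D18306 F32035 F32033
theorem F32057 : act 2 n18306 = n16656 := d12_1 D18306 F29411 F24162
theorem F32058 : act 3 n18306 = n13404 := d15_1 D18306 (iv D13404) (iv D10699) (iv F18978) D13378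
theorem F32059 : act 5 n18306 = n18306 := d18_2 F23544 D18306 (iv D18306)
theorem F32060 : act 6 n18306 = n16656 := d19_2 F24161 D18306 F29411
def n18307 : Q := act 4 n13379
theorem D18307 : act 4 n13379 = n18307 := rfl
theorem F32061 : act 0 n18307 = n18307 := d3_1 D18307 (iv D18307) F23545
theorem F32062 : act 3 n18307 = n13405 := d15_1 D18307 (iv D13405) (iv D10700) (iv F18981) D13379
theorem F32063 : act 6 n18307 = n18307 := d19_2 F23546 D18307 (iv D18307)
def n18308 : Q := act 1 n13381
theorem D18308 : act 1 n13381 = n18308 := rfl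
theorem F32064 : act 3 n18308 = n13491 := d7_2 (iv F23549) D18308 (iv D13491)
theorem F32065 : act 4 n18308 = n13414 := d8_2 (iv F23550) D18308 (iv D13414)
theorem F32066 : act 6 n18308 = n13383 := d10_2 D13381 D18308 (iv D13383) (iv D10688) D10686
def n18309 : Q := act 0 n13382
theorem D18309 : act 0 n13382 = n18309 := rfl
theorem F32067 : act 1 n18309 = n15635 := d0_2 D13382 D18309 (iv F29186) (iv F29226) F28818 (iv F28803) (iv D13384) (iv D10689) (iv F18985)
theorem F32068 : act 3 n18309 = n13517 := d2_2 (iv F23551) D18309 (iv D13517)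
theorem F32069 : act 4 n18309 = n13424 := d3_2 (iv F23552) D18309 (iv D13424)
theorem F32070 : act 5 n18309 = n15612 := d4_2 F29254 D18309 F27108
theorem F32071 : act 2 n18309 = n16263 := d21_0 F28140 (iv F29644) F29645 F27409 (iv F29044) (iv D13518) (iv F23551) D18309
def n18310 : Q := act 2 n13382
theorem D18310 : act 2 n13382 = n18310 := rfl
theorem F32072 : act 0 n18310 = n16263 := d1_1 D18310 (iv F32071) (iv D18309)
theorem F32073 : act 1 n18310 = n18310 := d6_1 D18310 (iv D18310) (iv D13382) F18986 D13382
theorem F32074 : act 3 n18310 = n16797 := d11_2 (iv F23551) D18310 F29630 (iv D15857) F21170 F29081 (iv F29079) (iv F32068) F32071 F28140 (iv F29644) F29645 F27409 (iv F29044) (iv D13518)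
theorem F32075 : act 4 n18310 = n13425 := d12_2 (iv F23552) D18310 (iv D13425)
def n18311 : Q := act 6 n13382
theorem D18311 : act 6 n13382 = n18311 := rfl
theorem F32076 : act 3 n18311 = n13519 := d17_1 D18311 (iv D13519) (iv F23551)
theorem F32077 : act 4 n18311 = n13426 := d19_1 D18311 (iv D13426) (iv F23552)
def n18312 : Q := act 0 n13383
theorem D18312 : act 0 n13383 = n18312 := rfl
theorem F32078 : act 3 n18312 = n13521 := d2_2 (iv F23553) D18312 (iv D13521)
theorem F32079 : act 4 n18312 = n13428 := d3_2 (iv F23554) D18312 (iv D13428)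
theorem F32080 : act 2 n16366 = n18312 := d12_3 F32079 (iv F28315) D16366
theorem E7275 : n15762 = n13521 := ((c21_4 F29917 (iv F28354) F32080 F32078 F27286 F21105 (iv F21205) D15892 (iv F29916))).symm
theorem F32081 : act 1 n13521 = n11947 := (sb E7275 (iv D15762))
theorem F32082 : act 2 n13521 = n11958 := (sb E7275 F27286)
theorem E7276 : n14287 = n10766 := (((F23768).symm.trans (sb E7275 F27287))).symm
theorem E7277 : n15730 = n13535 := (((D13535).symm.trans (sb E7276 (iv F27248)))).symm
theorem E7278 : n13536 = n11167 := ((D13536).symm.trans (sb E7276 (iv D14287)))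
theorem F32083 : act 2 n13535 = n11932 := (sb E7277 (iv D15730))
theorem F32084 : act 4 n13535 = n11947 := (sb E7277 F27249)
theorem E7279 : n14282 = n10767 := (((iv F24940)).symm.trans (sb E7278 F23789))
theorem F32085 : act 2 n11167 = n10766 := (sb E7278 (iv D13536))
theorem F32086 : act 0 n10767 = n11167 := (sb E7279 F24940)
theorem E7280 : n13538 = n11164 := ((D13538).symm.trans (sb E7279 (iv D14282)))
theorem E7281 : n15785 = n13522 := ((((iv F23769)).symm.trans (sb E7279 (iv F27312)))).symm
theorem E7282 : n14434 = n14279 := ((((iv F24939)).symm.trans (sb E7280 (iv F25204)))).symm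
theorem F32087 : act 3 n11164 = n10767 := (sb E7280 (iv D13538))
theorem F32089 : act 3 n13522 = n12025 := (sb E7281 F27311)
theorem F32090 : act 3 n14279 = n11252 := (sb E7282 (iv D14434))
theorem E7283 : n14157 = n13576 := (c25_19 D12627 (iv F28354) F32080 F32078 F32082 (iv D11958) F17593 (iv D5103) (iv D2461) F2017 F16537 (iv F3725) (iv F7478) D9888 F17581 (iv F19790) (iv D11167) (iv F19621) D14157 (iv D13576) F19133 (iv D7769) (iv D3720) F2910 D1801 F2924 F1821 D1057 F16447 (iv D567) (iv D286) (iv D139) (iv F274) F273 F154 F83 F54 F55 F34 (iv F55) (iv F83) D80 (iv F325) D324 F16504 F351 D348 (iv F16477) (iv D545) F553 D286 F563 (iv F571) D577 D1149 (iv F3723) (iv D2359) F16688 (iv D1148) (iv D576) F569 D576 F16580 D1148 D2359 F3723 (iv D1149) (iv F1908) (iv D1107) (iv D556) (iv F1038) D1096 (iv F3540) D4643 D9595 (iv F18086) (iv D10234) (iv F18084))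
theorem F32091 : act 1 n13576 = n11087 := (sb E7283 F24723)
theorem F32092 : act 3 n13576 = n11082 := (sb E7283 (iv D14157))
theorem E7284 : n14166 = n13609 := (c6_3 D13576 F32091 D14166 (iv D13609) (iv D10799) (iv F19133))
theorem F32093 : act 0 n13609 = n13646 := (sb E7284 F24740)
theorem F32094 : act 2 n13609 = n11087 := (sb E7284 (iv D14166))
theorem E7285 : n13638 = n13637 := ((((iv F23925)).symm.trans (sb E7284 F24741))).symm
theorem F32095 : act 6 n13609 = n14147 := (sb E7284 F24742)
theorem F32096 : act 0 n13637 = n10821 := (sb E7285 F23926)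
theorem F32097 : act 2 n13637 = n10818 := (sb E7285 F23927)
theorem F32098 : act 4 n13637 = n10817 := (sb E7285 (iv D13638))
theorem F32099 : act 5 n13637 = n14169 := (sb E7285 (iv F24748))
theorem F32100 : act 6 n13637 = n11079 := (sb E7285 F23928)
theorem E7286 : n14146 = n14144 := ((c10_2 F32100 (iv F24703) (iv D14146) (iv D11078) (iv F19195) D13637)).symm
theorem F32101 : act 3 n14144 = n14056 := (sb E7286 F24708)
theorem F32102 : act 6 n14144 = n11078 := (sb E7286 (iv D14146))
theorem F32103 : act 1 n14056 = n14147 := d7_1 F32101 (iv D14147) (iv F24703)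
theorem E7287 : n13635 = n13634 := (c6_2 F32097 (iv F23919) (iv D13634) F19188 D10817 D13637)
theorem F32104 : act 1 n13634 = n10818 := (sb E7287 F23919)
theorem F32106 : act 4 n13634 = n10815 := (sb E7287 (iv D13635))
theorem F32107 : act 3 n14423 = n15913 := d15_3 D14279 F32090 (iv F25187) F27506 F21230
theorem F32108 : act 3 n13539 = n14283 := d16_3 (iv D14283) F32087 D13539
theorem F32109 : act 3 n13498 = n14284 := d17_3 (iv D14284) F32087 (iv F23744)
theorem F32110 : act 0 n14289 = n13498 := d2_3 F32109 F24943 (iv F24947)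
theorem F32111 : act 2 n13497 = n14289 := d1_0 F32110 (iv D13498) D13497
theorem F32112 : act 0 n14288 = n13539 := d2_3 F32108 F24941 (iv F24945)
theorem F32113 : act 2 n13537 = n14288 := d1_0 F32112 F23793 (iv F23790)
theorem E7288 : n13569 = n13568 := ((c21_9 (iv D13569) (iv F23788) F32083 (iv D11932) F17574 D11932 (iv F32083) F23788 D13568)).symm
theorem F32114 : act 2 n13568 = n10780 := (sb E7288 (iv D13569))
theorem F32115 : act 1 n15763 = n18312 := d7_3 F32078 F32081 D15763
def n18313 : Q := act 2 n13383
theorem D18313 : act 2 n13383 = n18313 := rfl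
theorem F32116 : act 0 n18313 = n16366 := d1_1 D18313 F32080 (iv D18312)
theorem F32117 : act 1 n18313 = n18313 := d6_1 D18313 (iv D18313) (iv D13383) F18990 D13383
theorem F32118 : act 3 n18313 = n16981 := d11_2 (iv F23553) D18313 F29906 (iv D15892) F21205 (iv F21105) (iv F32082) (iv F32078) (iv F32080) F28354 (iv F29917) F29918 F27467 (iv F32089) (iv D13522)
theorem F32119 : act 4 n18313 = n13429 := d12_2 (iv F23554) D18313 (iv D13429)
def n18314 : Q := act 5 n13383
theorem D18314 : act 5 n13383 = n18314 := rfl
theorem F32120 : act 3 n18314 = n13523 := d16_1 D18314 (iv D13523) (iv F23553)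
theorem F32121 : act 4 n18314 = n13430 := d18_1 D18314 (iv D13430) (iv F23554)
def n18315 : Q := act 2 n13384
theorem D18315 : act 2 n13384 = n18315 := rfl
theorem F32122 : act 0 n18315 = n13385 := d1_1 D18315 (iv D13385) D13384
theorem F32123 : act 4 n18315 = n16451 := d12_2 F32003 D18315 (iv F32005)
theorem F32124 : act 5 n18315 = n13393 := d13_2 (iv F23555) D18315 (iv D13393)
theorem F32125 : act 1 n18315 = n16452 := d23_2 (iv F23555) D18315 F28512 D16454 F28518 (iv D13348) (iv D10668) F10306 F15592 (iv D3307) F2639 (iv D927) (iv D468) (iv F873) (iv F1567) D1763 (iv F5605) D7622 D10693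
theorem F32126 : act 3 n17144 = n18315 := d25_1 (iv F30107) (iv D18315) F28804 (iv D11355) (iv D9079) F6700 F5605 F2868 F1569 F14858 (iv F1768) (iv F3263) (iv F6503) F6502 D7747 F11513 D7752 D10773 (iv F28901) F28978 (iv D11057) F12311 F6027 F14729 F5747 (iv D2140) (iv D1049) (iv D529) (iv F988) F14709 F14702 F1024 D559 D1115 (iv F17007) F2271 (iv D1360) (iv D677) (iv F16826) (iv D542) (iv D275) F271 F130 F74 F44 D30 (iv F139) D143 D296 (iv F941) (iv F1661) D1922 (iv F6027) (iv F12311) D11057 F28969 (iv D13596) (iv F19168) (iv D10806) (iv D7780) (iv D3724) F14920 (iv F5702) D7760 D10791 (iv F19174) F28971 F28960 F19172 D11445 D14845 F25801 F28532 F22313 (iv F28523) (iv D12713) D12712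
def n18316 : Q := act 3 n13385
theorem D18316 : act 3 n13385 = n18316 := rfl
theorem F32127 : act 0 n18316 = n17144 := d2_1 D18316 F32126 F32122
theorem F32128 : act 1 n18316 = n18316 := d7_1 D18316 (iv D18316) F23556
theorem F32129 : act 4 n18316 = n17146 := d15_2 F32009 D18316 F30113 (iv F28540) F32011
theorem F32130 : act 5 n18316 = n13395 := d16_2 (iv F23557) D18316 (iv D13395)
theorem F32131 : act 2 n18316 = n13395 := d21_2 D13385 D18316 (iv D13395) (iv D10694) (iv F13599) D11355 (iv F28804) (iv D13384)
def n18317 : Q := act 6 n13385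
theorem D18317 : act 6 n13385 = n18317 := rfl
theorem F32132 : act 2 n18317 = n13386 := d14_1 D18317 (iv D13386) D13385
def n18318 : Q := act 1 n13386
theorem D18318 : act 1 n13386 = n18318 := rfl
theorem F32133 : act 6 n18318 = n13387 := d10_2 D13386 D18318 (iv D13387) (iv D10690) D10689
def n18319 : Q := act 0 n13387
theorem D18319 : act 0 n13387 = n18319 := rfl
def n18320 : Q := act 2 n13387
theorem D18320 : act 2 n13387 = n18320 := rfl
def n18321 : Q := act 5 n13387
theorem D18321 : act 5 n13387 = n18321 := rfl
theorem F32135 : act 1 n18321 = n18314 := d9_1 D18321 (iv D18314) (iv D13383) (iv F18995) D13387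
def n18322 : Q := act 1 n13388
theorem D18322 : act 1 n13388 = n18322 := rfl
def n18323 : Q := act 2 n13388
theorem D18323 : act 2 n13388 = n18323 := rfl
theorem F32136 : act 0 n18323 = n13389 := d1_1 D18323 (iv D13389) D13388
theorem F32137 : act 6 n18323 = n13399 := d14_2 (iv F23558) D18323 (iv D13399)
def n18324 : Q := act 3 n13389
theorem D18324 : act 3 n13389 = n18324 := rfl
theorem F32138 : act 1 n18324 = n18324 := d7_1 D18324 (iv D18324) F23559
theorem F32139 : act 6 n18324 = n13401 := d17_2 (iv F23560) D18324 (iv D13401)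
def n18325 : Q := act 5 n13389
theorem D18325 : act 5 n13389 = n18325 := rfl
theorem F32140 : act 2 n18325 = n13390 := d13_1 D18325 (iv D13390) D13389
def n18326 : Q := act 1 n13390
theorem D18326 : act 1 n13390 = n18326 := rfl
theorem F32141 : act 5 n18326 = n13391 := d9_2 D13390 D18326 (iv D13391) (iv D10692) D10691
def n18327 : Q := act 0 n13391
theorem D18327 : act 0 n13391 = n18327 := rfl
def n18328 : Q := act 2 n13391
theorem D18328 : act 2 n13391 = n18328 := rfl
def n18329 : Q := act 6 n13391
theorem D18329 : act 6 n13391 = n18329 := rfl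
theorem F32143 : act 1 n18329 = n18311 := d10_1 D18329 (iv D18311) (iv D13382) (iv F18999) D13391
def n18330 : Q := act 6 n13392
theorem D18330 : act 6 n13392 = n18330 := rfl
theorem F32144 : act 3 n18330 = n14656 := d17_1 D18330 (iv D14656) (iv F28814)
theorem F32145 : act 5 n18330 = n14848 := d22_2 F29172 D18330 (iv D14848) (iv F25797)
def n18331 : Q := act 1 n13393
theorem D18331 : act 1 n13393 = n18331 := rfl
theorem F32146 : act 4 n18331 = n16006 := d8_2 F32025 D18331 (iv F32028)
theorem F32147 : act 0 n16010 = n18331 := d3_3 F32146 F27672 D16010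
theorem F32148 : act 3 n16619 = n18331 := d15_5 F32146 (iv D16006) F21311 D12396 D16619
def n18332 : Q := act 3 n13393
theorem D18332 : act 3 n13393 = n18332 := rfl
theorem F32149 : act 0 n18332 = n13395 := d2_1 D18332 (iv D13395) (iv F23561)
theorem F32150 : act 1 n18332 = n16619 := d7_1 D18332 F32148 (iv D18331)
theorem F32151 : act 2 n18332 = n17144 := d11_1 D18332 F32126 (iv D18315) F28804 (iv D11355) F13599 D10694 D13395 (iv F32131) (iv D18316) (iv D13385) (iv F20140) (iv F28805) F20146 D13393
theorem F32152 : act 4 n18332 = n16617 := d15_2 F32025 D18332 (iv D16617) (iv F27670) F32027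
theorem F32153 : act 5 n18332 = n17144 := d16_2 F32124 D18332 F32126
def n18333 : Q := act 6 n13393
theorem D18333 : act 6 n13393 = n18333 := rfl
theorem F32154 : act 0 n18333 = n13396 := d5_1 D18333 (iv D13396) (iv F23561)
theorem F32155 : act 2 n18333 = n13394 := d14_1 D18333 (iv D13394) D13393
theorem F32156 : act 5 n18333 = n18317 := d22_2 F32124 D18333 (iv D18317) (iv F32122)
def n18334 : Q := act 1 n13394
theorem D18334 : act 1 n13394 = n18334 := rfl
def n18335 : Q := act 4 n13395
theorem D18335 : act 4 n13395 = n18335 := rfl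
theorem F32157 : act 0 n18335 = n16617 := d3_1 D18335 (iv F32152) F32149
theorem F32158 : act 1 n18335 = n13404 := d8_1 D18335 (iv D13404) (iv F23564)
theorem F32159 : act 2 n18335 = n17146 := d12_1 D18335 (iv F32129) F32131
theorem F32160 : act 3 n18335 = n16616 := d15_1 D18335 F32035 (iv D18297) F23537 D13395
theorem F32161 : act 5 n18335 = n17146 := d18_2 F32130 D18335 (iv F32129)
def n18336 : Q := act 6 n13395
theorem D18336 : act 6 n13395 = n18336 := rfl
theorem F32162 : act 3 n18336 = n13396 := d17_1 D18336 (iv D13396) D13395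
def n18337 : Q := act 5 n13396
theorem D18337 : act 5 n13396 = n18337 := rfl
theorem F32163 : act 0 n18337 = n18317 := d4_1 D18337 (iv F32156) F32154
theorem F32164 : act 2 n18337 = n13397 := d13_1 D18337 (iv D13397) (iv F23565)
theorem F32165 : act 6 n18337 = n18315 := d20_2 D13396 D18337 F32124 D18333 F32156 (iv D18317) F23557
def n18338 : Q := act 1 n13397
theorem D18338 : act 1 n13397 = n18338 := rfl
def n18339 : Q := act 0 n13398
theorem D18339 : act 0 n13398 = n18339 := rfl
theorem F32166 : act 1 n18339 = n13568 := d0_2 D13398 D18339 (iv D13568) (iv D10780) (iv D7755) (iv D3713) (iv F5606) D7623 D10696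
theorem F32167 : act 2 n13572 = n18339 := d6_0 F32166 F32114 (iv D10780) D10781 D13572
def n18340 : Q := act 2 n13398
theorem D18340 : act 2 n13398 = n18340 := rfl
theorem F32168 : act 0 n18340 = n13572 := d1_1 D18340 F32167 (iv D18339)
def n18341 : Q := act 5 n13398
theorem D18341 : act 5 n13398 = n18341 := rfl
def n18342 : Q := act 6 n13398
theorem D18342 : act 6 n13398 = n18342 := rfl
def n18343 : Q := act 1 n13399
theorem D18343 : act 1 n13399 = n18343 := rfl
def n18344 : Q := act 3 n13399
theorem D18344 : act 3 n13399 = n18344 := rfl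
theorem F32169 : act 0 n18344 = n13401 := d2_1 D18344 (iv D13401) (iv F23568)
def n18345 : Q := act 5 n13399
theorem D18345 : act 5 n13399 = n18345 := rfl
theorem F32170 : act 0 n18345 = n13402 := d4_1 D18345 (iv D13402) (iv F23568)
theorem F32171 : act 2 n18345 = n13400 := d13_1 D18345 (iv D13400) D13399
theorem F32172 : act 6 n18345 = n18325 := d22_1 D18345 (iv D18325) F23560 (iv F23568)
def n18346 : Q := act 1 n13400
theorem D18346 : act 1 n13400 = n18346 := rfl
def n18347 : Q := act 2 n13401
theorem D18347 : act 2 n13401 = n18347 := rfl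
def n18348 : Q := act 4 n13401
theorem D18348 : act 4 n13401 = n18348 := rfl
theorem F32174 : act 1 n18348 = n13405 := d8_1 D18348 (iv D13405) (iv F23571)
def n18349 : Q := act 5 n13401
theorem D18349 : act 5 n13401 = n18349 := rfl
theorem F32175 : act 3 n18349 = n13402 := d16_1 D18349 (iv D13402) D13401
def n18350 : Q := act 6 n13402
theorem D18350 : act 6 n13402 = n18350 := rfl
theorem F32176 : act 0 n18350 = n18325 := d5_1 D18350 (iv F32172) F32170
theorem F32177 : act 2 n18350 = n13403 := d14_1 D18350 (iv D13403) (iv F23572)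
theorem F32178 : act 5 n18350 = n18323 := d20_1 D18350 F32137 D18345 F32172 (iv D18325) F23560 D13402
def n18351 : Q := act 1 n13403
theorem D18351 : act 1 n13403 = n18351 := rfl
def n18352 : Q := act 6 n13406
theorem D18352 : act 6 n13406 = n18352 := rfl
theorem F32179 : act 2 n18352 = n18182 := d14_1 D18352 F31799 F31778
theorem F32180 : act 4 n18352 = n13463 := d19_1 D18352 (iv D13463) (iv F23581)
theorem F32181 : act 5 n18352 = n18177 := d22_2 D13406 D18352 (iv D18177) F23366
def n18353 : Q := act 1 n13407
theorem D18353 : act 1 n13407 = n18353 := rfl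
theorem F32182 : act 4 n18353 = n13464 := d8_2 (iv F23582) D18353 (iv D13464)
def n18354 : Q := act 5 n13407
theorem D18354 : act 5 n13407 = n18354 := rfl
theorem F32184 : act 0 n18354 = n18352 := d4_1 D18354 F32181 F31783
theorem F32185 : act 2 n18354 = n18180 := d13_1 D18354 F31794 F31781
theorem F32186 : act 3 n18354 = n18352 := d16_1 D18354 F32181 F31785
theorem F32187 : act 4 n18354 = n13465 := d18_1 D18354 (iv D13465) (iv F23582)
theorem F32188 : act 6 n18354 = n14817 := d20_2 D13407 D18354 (iv F29029) D18177 (iv F32181) (iv D18352) (iv D13406)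
theorem F32189 : act 1 n17364 = n18354 := d10_5 F32188 F25760 F20230 (iv F22457) D17364
def n18356 : Q := act 0 n13411
theorem D18356 : act 0 n13411 = n18356 := rfl
theorem F32191 : act 4 n18356 = n13476 := d3_2 (iv F23588) D18356 (iv D13476)
def n18357 : Q := act 2 n13411
theorem D18357 : act 2 n13411 = n18357 := rfl
theorem F32192 : act 1 n18357 = n13668 := d6_1 D18357 (iv D13668) (iv D10837) (iv F19014) D13411
theorem F32193 : act 4 n18357 = n13477 := d12_2 (iv F23588) D18357 (iv D13477)
def n18358 : Q := act 5 n13411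
theorem D18358 : act 5 n13411 = n18358 := rfl
def n18359 : Q := act 0 n13412
theorem D18359 : act 0 n13412 = n18359 := rfl
theorem F32195 : act 3 n18359 = n13416 := d2_2 (iv F23589) D18359 (iv D13416)
theorem F32196 : act 4 n18359 = n15612 := d3_2 F29253 D18359 F27108
theorem F32197 : act 5 n18359 = n13424 := d4_2 (iv F23590) D18359 (iv D13424)
theorem F32198 : act 2 n16264 = n18359 := d13_3 F32197 (iv F28100) D16264
def n18360 : Q := act 2 n13412
theorem D18360 : act 2 n13412 = n18360 := rfl
theorem F32199 : act 0 n18360 = n16264 := d1_1 D18360 F32198 (iv D18359)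
theorem F32200 : act 5 n18360 = n13425 := d13_2 (iv F23590) D18360 (iv D13425)
theorem F32201 : act 3 n16261 = n18360 := d16_3 F32200 (iv F28102) D16261
def n18361 : Q := act 6 n13412
theorem D18361 : act 6 n13412 = n18361 := rfl
theorem F32202 : act 3 n18361 = n13418 := d17_1 D18361 (iv D13418) (iv F23589)
def n18362 : Q := act 1 n13413
theorem D18362 : act 1 n13413 = n18362 := rfl
theorem F32203 : act 3 n18362 = n13419 := d7_2 (iv F23591) D18362 (iv D13419)
def n18363 : Q := act 0 n13414
theorem D18363 : act 0 n13414 = n18363 := rfl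
theorem F32204 : act 3 n18363 = n13420 := d2_2 (iv F23593) D18363 (iv D13420)
theorem F32205 : act 6 n18363 = n13428 := d5_2 (iv F23594) D18363 (iv D13428)
theorem F32206 : act 2 n16368 = n18363 := d14_3 F32205 (iv F28315) D16368
def n18364 : Q := act 2 n13414
theorem D18364 : act 2 n13414 = n18364 := rfl
theorem F32207 : act 0 n18364 = n16368 := d1_1 D18364 F32206 (iv D18363)
theorem F32208 : act 6 n18364 = n13429 := d14_2 (iv F23594) D18364 (iv D13429)
theorem F32209 : act 3 n16365 = n18364 := d17_3 F32208 (iv F28317) D16365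
def n18365 : Q := act 5 n13414
theorem D18365 : act 5 n13414 = n18365 := rfl
theorem F32210 : act 3 n18365 = n13422 := d16_1 D18365 (iv D13422) (iv F23593)
def n18366 : Q := act 1 n13415
theorem D18366 : act 1 n13415 = n18366 := rfl
theorem F32211 : act 3 n18366 = n13423 := d7_2 (iv F23596) D18366 (iv D13423)
theorem F32212 : act 4 n18366 = n15356 := d8_2 (iv F28869) D18366 (iv D15356)
theorem F32213 : act 6 n18366 = n15359 := d10_2 (iv F28870) D18366 (iv D15359) (iv D11743) (iv F20763)
def n18367 : Q := act 1 n13416
theorem D18367 : act 1 n13416 = n18367 := rfl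
theorem F32214 : act 4 n18367 = n13501 := d8_2 (iv F23598) D18367 (iv D13501)
theorem F32215 : act 5 n18367 = n15329 := d9_2 (iv F23599) D18367 (iv F26859) (iv F29238) (iv D13432)
theorem F32216 : act 2 n15332 = n18367 := d13_3 F32215 F26683 D15332
def n18368 : Q := act 2 n13416
theorem D18368 : act 2 n13416 = n18368 := rfl
theorem F32217 : act 0 n18368 = n13417 := d1_1 D18368 (iv D13417) D13416
theorem F32218 : act 1 n18368 = n17153 := d6_1 D18368 (iv F30134) F30133 F32216 (iv D18367)
theorem F32219 : act 4 n18368 = n13502 := d12_2 (iv F23598) D18368 (iv D13502)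
theorem F32220 : act 5 n18368 = n13433 := d13_2 (iv F23599) D18368 (iv D13433)
def n18369 : Q := act 3 n13417
theorem D18369 : act 3 n13417 = n18369 := rfl
theorem F32221 : act 1 n18369 = n13682 := d7_1 D18369 (iv D13682) (iv F23600)
theorem F32222 : act 5 n18369 = n13435 := d16_2 (iv F23602) D18369 (iv D13435)
def n18370 : Q := act 6 n13417
theorem D18370 : act 6 n13417 = n18370 := rfl
theorem F32223 : act 2 n18370 = n13418 := d14_1 D18370 (iv D13418) D13417
theorem F32224 : act 4 n18370 = n13504 := d19_1 D18370 (iv D13504) (iv F23601)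
def n18371 : Q := act 1 n13418
theorem D18371 : act 1 n13418 = n18371 := rfl
theorem F32225 : act 4 n18371 = n13505 := d8_2 (iv F23603) D18371 (iv D13505)
theorem F32226 : act 6 n18371 = n13419 := d10_2 D13418 D18371 (iv D13419) (iv D10708) D10707
def n18372 : Q := act 0 n13419
theorem D18372 : act 0 n13419 = n18372 := rfl
theorem F32227 : act 4 n18372 = n13506 := d3_2 (iv F23604) D18372 (iv D13506)
def n18373 : Q := act 2 n13419
theorem D18373 : act 2 n13419 = n18373 := rfl
theorem F32228 : act 1 n18373 = n13686 := d6_1 D18373 (iv D13686) (iv D10847) (iv F19020) D13419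
theorem F32229 : act 4 n18373 = n13507 := d12_2 (iv F23604) D18373 (iv D13507)
def n18374 : Q := act 5 n13419
theorem D18374 : act 5 n13419 = n18374 := rfl
theorem F32230 : act 1 n18374 = n18358 := d9_1 D18374 (iv D18358) (iv D13411) (iv F19022) D13419
theorem F32231 : act 4 n18374 = n13508 := d18_1 D18374 (iv D13508) (iv F23604)
def n18375 : Q := act 1 n13420
theorem D18375 : act 1 n13420 = n18375 := rfl
theorem F32232 : act 4 n18375 = n13509 := d8_2 (iv F23605) D18375 (iv D13509)
def n18376 : Q := act 2 n13420
theorem D18376 : act 2 n13420 = n18376 := rfl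
theorem F32233 : act 0 n18376 = n13421 := d1_1 D18376 (iv D13421) D13420
theorem F32234 : act 4 n18376 = n13510 := d12_2 (iv F23605) D18376 (iv D13510)
theorem F32235 : act 6 n18376 = n13443 := d14_2 (iv F23606) D18376 (iv D13443)
def n18377 : Q := act 3 n13421
theorem D18377 : act 3 n13421 = n18377 := rfl
theorem F32236 : act 1 n18377 = n13690 := d7_1 D18377 (iv D13690) (iv F23607)
theorem F32237 : act 6 n18377 = n13445 := d17_2 (iv F23609) D18377 (iv D13445)
def n18378 : Q := act 5 n13421
theorem D18378 : act 5 n13421 = n18378 := rfl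
theorem F32238 : act 2 n18378 = n13422 := d13_1 D18378 (iv D13422) D13421
theorem F32239 : act 4 n18378 = n13512 := d18_1 D18378 (iv D13512) (iv F23608)
def n18379 : Q := act 1 n13422
theorem D18379 : act 1 n13422 = n18379 := rfl
theorem F32240 : act 4 n18379 = n13513 := d8_2 (iv F23610) D18379 (iv D13513)
theorem F32241 : act 5 n18379 = n13423 := d9_2 D13422 D18379 (iv D13423) (iv D10710) D10709
def n18380 : Q := act 0 n13423
theorem D18380 : act 0 n13423 = n18380 := rfl
theorem F32242 : act 4 n18380 = n13514 := d3_2 (iv F23611) D18380 (iv D13514)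
def n18381 : Q := act 2 n13423
theorem D18381 : act 2 n13423 = n18381 := rfl
theorem F32243 : act 1 n18381 = n13694 := d6_1 D18381 (iv D13694) (iv D10851) (iv F19026) D13423
theorem F32244 : act 4 n18381 = n13515 := d12_2 (iv F23611) D18381 (iv D13515)
def n18382 : Q := act 6 n13423
theorem D18382 : act 6 n13423 = n18382 := rfl
theorem F32245 : act 1 n18382 = n15358 := d10_1 D18382 (iv D15358) F28879 (iv F19028) D13423
theorem F32246 : act 3 n18382 = n15359 := d17_1 D18382 (iv F32213) F32211
theorem F32247 : act 4 n18382 = n13516 := d19_1 D18382 (iv D13516) (iv F23611)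
def n18383 : Q := act 1 n13424
theorem D18383 : act 1 n13424 = n18383 := rfl
theorem F32248 : act 2 n18383 = n16269 := d6_2 F28100 D18383 (iv D16269) (iv D12206) (iv F21520)
theorem F32249 : act 3 n18383 = n13432 := d7_2 (iv F23612) D18383 (iv D13432)
theorem F32250 : act 4 n18383 = n15635 := d8_2 F32069 D18383 (iv F32067)
def n18384 : Q := act 6 n13424
theorem D18384 : act 6 n13424 = n18384 := rfl
theorem F32251 : act 0 n18384 = n13426 := d5_1 D18384 (iv D13426) D13424
theorem F32252 : act 2 n18384 = n16265 := d14_1 D18384 (iv D16265) F28100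
theorem F32253 : act 3 n18384 = n13434 := d17_1 D18384 (iv D13434) (iv F23612)
theorem F32254 : act 5 n18384 = n18361 := d22_2 F32197 D18384 (iv D18361) D18359
def n18385 : Q := act 6 n13425
theorem D18385 : act 6 n13425 = n18385 := rfl
theorem F32255 : act 0 n18385 = n16265 := d5_1 D18385 (iv D16265) F28101
theorem F32256 : act 2 n18385 = n13426 := d14_1 D18385 (iv D13426) D13425
theorem F32257 : act 3 n18385 = n16262 := d17_1 D18385 (iv D16262) F28102
def n18386 : Q := act 1 n13426
theorem D18386 : act 1 n13426 = n18386 := rfl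
theorem F32258 : act 3 n18386 = n13437 := d7_2 (iv F23614) D18386 (iv D13437)
theorem F32259 : act 4 n18386 = n18329 := d8_2 F32077 D18386 F32143
theorem F32260 : act 6 n18386 = n13427 := d10_2 D13426 D18386 (iv D13427) (iv D10712) D10711
def n18387 : Q := act 5 n13426
theorem D18387 : act 5 n13426 = n18387 := rfl
theorem F32261 : act 0 n18387 = n18361 := d4_1 D18387 (iv F32254) F32251
theorem F32262 : act 3 n18387 = n13438 := d16_1 D18387 (iv D13438) (iv F23614)
theorem F32263 : act 6 n18387 = n18359 := d20_2 D13426 D18387 F32197 D18384 F32254 (iv D18361) F23590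
def n18388 : Q := act 0 n13427
theorem D18388 : act 0 n13427 = n18388 := rfl
theorem F32264 : act 3 n18388 = n13439 := d2_2 (iv F23615) D18388 (iv D13439)
theorem F32265 : act 4 n18388 = n18327 := d3_2 (iv F23616) D18388 (iv D18327)
def n18389 : Q := act 2 n13427
theorem D18389 : act 2 n13427 = n18389 := rfl
theorem F32267 : act 4 n18389 = n18328 := d12_2 (iv F23616) D18389 (iv D18328)
def n18390 : Q := act 5 n13427
theorem D18390 : act 5 n13427 = n18390 := rfl
theorem F32268 : act 1 n18390 = n18293 := d9_1 D18390 (iv D18293) (iv D13371) (iv F19033) D13427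
theorem F32269 : act 3 n18390 = n13441 := d16_1 D18390 (iv D13441) (iv F23615)
theorem F32270 : act 4 n18390 = n18326 := d18_1 D18390 F32141 (iv F23616)
def n18391 : Q := act 1 n13428
theorem D18391 : act 1 n13428 = n18391 := rfl
theorem F32271 : act 2 n18391 = n16372 := d6_2 F28315 D18391 (iv D16372) (iv D12258) (iv F21609)
theorem F32272 : act 3 n18391 = n13442 := d7_2 (iv F23617) D18391 (iv D13442)
theorem F32273 : act 4 n18391 = n15763 := d8_2 F32079 D18391 F32115
def n18392 : Q := act 5 n13428
theorem D18392 : act 5 n13428 = n18392 := rfl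
theorem F32274 : act 0 n18392 = n13430 := d4_1 D18392 (iv D13430) D13428
theorem F32275 : act 2 n18392 = n16367 := d13_1 D18392 (iv D16367) F28315
theorem F32276 : act 3 n18392 = n13444 := d16_1 D18392 (iv D13444) (iv F23617)
theorem F32277 : act 6 n18392 = n18365 := d22_1 D18392 (iv D18365) F23594 D13428
def n18393 : Q := act 5 n13429
theorem D18393 : act 5 n13429 = n18393 := rfl
theorem F32278 : act 0 n18393 = n16367 := d4_1 D18393 (iv D16367) F28316
theorem F32279 : act 2 n18393 = n13430 := d13_1 D18393 (iv D13430) D13429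
theorem F32280 : act 3 n18393 = n16364 := d16_1 D18393 (iv D16364) F28317
def n18394 : Q := act 1 n13430
theorem D18394 : act 1 n13430 = n18394 := rfl
theorem F32281 : act 3 n18394 = n13447 := d7_2 (iv F23619) D18394 (iv D13447)
theorem F32282 : act 4 n18394 = n18321 := d8_2 F32121 D18394 F32135
theorem F32283 : act 5 n18394 = n13431 := d9_2 D13430 D18394 (iv D13431) (iv D10714) D10713
def n18395 : Q := act 6 n13430
theorem D18395 : act 6 n13430 = n18395 := rfl
theorem F32284 : act 0 n18395 = n18365 := d5_1 D18395 (iv F32277) F32274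
theorem F32285 : act 3 n18395 = n13448 := d17_1 D18395 (iv D13448) (iv F23619)
theorem F32286 : act 5 n18395 = n18363 := d20_1 D18395 F32205 D18392 F32277 (iv D18365) F23594 D13430
def n18396 : Q := act 0 n13431
theorem D18396 : act 0 n13431 = n18396 := rfl
theorem F32287 : act 3 n18396 = n13449 := d2_2 (iv F23620) D18396 (iv D13449)
theorem F32288 : act 4 n18396 = n18319 := d3_2 (iv F23621) D18396 (iv D18319)
def n18397 : Q := act 2 n13431
theorem D18397 : act 2 n13431 = n18397 := rfl
theorem F32290 : act 4 n18397 = n18320 := d12_2 (iv F23621) D18397 (iv D18320)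
def n18398 : Q := act 6 n13431
theorem D18398 : act 6 n13431 = n18398 := rfl
theorem F32291 : act 1 n18398 = n18290 := d10_1 D18398 (iv D18290) (iv D13370) (iv F19039) D13431
theorem F32292 : act 3 n18398 = n13451 := d17_1 D18398 (iv D13451) (iv F23620)
theorem F32293 : act 4 n18398 = n18318 := d19_1 D18398 F32133 (iv F23621)
def n18399 : Q := act 6 n13432
theorem D18399 : act 6 n13432 = n18399 := rfl
theorem F32294 : act 4 n18399 = n13548 := d19_1 D18399 (iv D13548) (iv F23622)
theorem F32295 : act 5 n18399 = n15478 := d22_2 (iv F29238) D18399 (iv D15478) (iv F26858)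
def n18400 : Q := act 1 n13433
theorem D18400 : act 1 n13433 = n18400 := rfl
theorem F32296 : act 4 n18400 = n13549 := d8_2 (iv F23624) D18400 (iv D13549)
def n18401 : Q := act 3 n13433
theorem D18401 : act 3 n13433 = n18401 := rfl
theorem F32297 : act 0 n18401 = n13435 := d2_1 D18401 (iv D13435) (iv F23623)
def n18402 : Q := act 6 n13433
theorem D18402 : act 6 n13433 = n18402 := rfl
theorem F32298 : act 0 n18402 = n13436 := d5_1 D18402 (iv D13436) (iv F23623)
theorem F32299 : act 2 n18402 = n13434 := d14_1 D18402 (iv D13434) D13433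
theorem F32300 : act 4 n18402 = n13551 := d19_1 D18402 (iv D13551) (iv F23624)
theorem F32301 : act 5 n18402 = n18370 := d22_2 F32220 D18402 (iv D18370) (iv F32217)
def n18403 : Q := act 1 n13434
theorem D18403 : act 1 n13434 = n18403 := rfl
theorem F32302 : act 4 n18403 = n13552 := d8_2 (iv F23626) D18403 (iv D13552)
def n18404 : Q := act 4 n13435
theorem D18404 : act 4 n13435 = n18404 := rfl
theorem F32303 : act 1 n18404 = n13452 := d8_1 D18404 (iv D13452) (iv F23628)
theorem F32304 : act 3 n18404 = n13554 := d15_1 D18404 (iv D13554) (iv D10773) (iv F19042) D13435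
def n18405 : Q := act 6 n13435
theorem D18405 : act 6 n13435 = n18405 := rfl
theorem F32305 : act 3 n18405 = n13436 := d17_1 D18405 (iv D13436) D13435
def n18406 : Q := act 1 n13436
theorem D18406 : act 1 n13436 = n18406 := rfl
theorem F32306 : act 4 n18406 = n13556 := d8_2 (iv F23630) D18406 (iv D13556)
theorem F32307 : act 6 n18406 = n13454 := d10_2 D13436 D18406 (iv D13454) (iv D10724) (iv F19041)
def n18407 : Q := act 5 n13436
theorem D18407 : act 5 n13436 = n18407 := rfl
theorem F32308 : act 0 n18407 = n18370 := d4_1 D18407 (iv F32301) F32298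
theorem F32309 : act 2 n18407 = n13438 := d13_1 D18407 (iv D13438) (iv F23629)
theorem F32310 : act 4 n18407 = n13557 := d18_1 D18407 (iv D13557) (iv F23630)
theorem F32311 : act 6 n18407 = n18368 := d20_2 D13436 D18407 F32220 D18402 F32301 (iv D18370) F23602
def n18408 : Q := act 0 n13437
theorem D18408 : act 0 n13437 = n18408 := rfl
theorem F32312 : act 4 n18408 = n13558 := d3_2 (iv F23631) D18408 (iv D13558)
theorem F32313 : act 6 n18408 = n13439 := d5_2 (iv F23632) D18408 (iv D13439)
def n18409 : Q := act 2 n13437
theorem D18409 : act 2 n13437 = n18409 := rfl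
theorem F32314 : act 4 n18409 = n13559 := d12_2 (iv F23631) D18409 (iv D13559)
theorem F32315 : act 6 n18409 = n13440 := d14_2 (iv F23632) D18409 (iv D13440)
def n18410 : Q := act 5 n13437
theorem D18410 : act 5 n13437 = n18410 := rfl
theorem F32316 : act 4 n18410 = n13560 := d18_1 D18410 (iv D13560) (iv F23631)
def n18411 : Q := act 1 n13438
theorem D18411 : act 1 n13438 = n18411 := rfl
theorem F32317 : act 4 n18411 = n13561 := d8_2 (iv F23634) D18411 (iv D13561)
def n18412 : Q := act 1 n13439
theorem D18412 : act 1 n13439 = n18412 := rfl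
theorem F32318 : act 4 n18412 = n13562 := d8_2 (iv F23636) D18412 (iv D13562)
def n18413 : Q := act 2 n13439
theorem D18413 : act 2 n13439 = n18413 := rfl
theorem F32319 : act 0 n18413 = n13440 := d1_1 D18413 (iv D13440) D13439
theorem F32320 : act 4 n18413 = n13563 := d12_2 (iv F23636) D18413 (iv D13563)
def n18414 : Q := act 5 n13439
theorem D18414 : act 5 n13439 = n18414 := rfl
theorem F32321 : act 0 n18414 = n13441 := d4_1 D18414 (iv D13441) D13439
theorem F32322 : act 4 n18414 = n13564 := d18_1 D18414 (iv D13564) (iv F23636)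
theorem F32323 : act 6 n18414 = n18410 := d22_1 D18414 (iv D18410) F23632 D13439
def n18415 : Q := act 3 n13440
theorem D18415 : act 3 n13440 = n18415 := rfl
theorem F32324 : act 1 n18415 = n13455 := d7_1 D18415 (iv D13455) (iv F23637)
def n18416 : Q := act 5 n13440
theorem D18416 : act 5 n13440 = n18416 := rfl
theorem F32325 : act 1 n18416 = n13780 := d9_1 D18416 (iv D13780) (iv D10892) (iv F19056) (iv F23637)
theorem F32326 : act 2 n18416 = n13441 := d13_1 D18416 (iv D13441) D13440
theorem F32327 : act 4 n18416 = n13566 := d18_1 D18416 (iv D13566) (iv F23638)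
def n18417 : Q := act 6 n13441
theorem D18417 : act 6 n13441 = n18417 := rfl
theorem F32328 : act 0 n18417 = n18410 := d5_1 D18417 (iv F32323) F32321
theorem F32329 : act 4 n18417 = n13567 := d19_1 D18417 (iv D13567) (iv F23640)
theorem F32330 : act 5 n18417 = n18408 := d20_1 D18417 F32313 D18414 F32323 (iv D18410) F23632 D13441
def n18418 : Q := act 0 n13442
theorem D18418 : act 0 n13442 = n18418 := rfl
theorem F32331 : act 4 n18418 = n13568 := d3_2 (iv F23641) D18418 (iv D13568)
theorem F32332 : act 2 n18418 = n13442 := d21_0 (iv F32272) F32271 F28364 F28037 (iv F28364) (iv F32271) F32272 D18418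
def n18419 : Q := act 5 n13442
theorem D18419 : act 5 n13442 = n18419 := rfl
theorem F32333 : act 4 n18419 = n13570 := d18_1 D18419 (iv D13570) (iv F23641)
def n18420 : Q := act 6 n13442
theorem D18420 : act 6 n13442 = n18420 := rfl
theorem F32334 : act 4 n18420 = n13571 := d19_1 D18420 (iv D13571) (iv F23641)
def n18421 : Q := act 1 n13443
theorem D18421 : act 1 n13443 = n18421 := rfl
theorem F32335 : act 4 n18421 = n13572 := d8_2 (iv F23643) D18421 (iv D13572)
def n18422 : Q := act 3 n13443
theorem D18422 : act 3 n13443 = n18422 := rfl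
theorem F32336 : act 0 n18422 = n13445 := d2_1 D18422 (iv D13445) (iv F23642)
def n18423 : Q := act 5 n13443
theorem D18423 : act 5 n13443 = n18423 := rfl
theorem F32337 : act 0 n18423 = n13446 := d4_1 D18423 (iv D13446) (iv F23642)
theorem F32338 : act 2 n18423 = n13444 := d13_1 D18423 (iv D13444) D13443
theorem F32339 : act 4 n18423 = n13574 := d18_1 D18423 (iv D13574) (iv F23643)
theorem F32340 : act 6 n18423 = n18378 := d22_1 D18423 (iv D18378) F23609 (iv F23642)
def n18424 : Q := act 1 n13444
theorem D18424 : act 1 n13444 = n18424 := rfl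
theorem F32341 : act 4 n18424 = n13575 := d8_2 (iv F23645) D18424 (iv D13575)
def n18425 : Q := act 4 n13445
theorem D18425 : act 4 n13445 = n18425 := rfl
theorem F32342 : act 1 n18425 = n13456 := d8_1 D18425 (iv D13456) (iv F23647)
theorem F32343 : act 3 n18425 = n13577 := d15_1 D18425 (iv D13577) (iv D10783) (iv F19047) D13445
def n18426 : Q := act 5 n13445
theorem D18426 : act 5 n13445 = n18426 := rfl
theorem F32344 : act 3 n18426 = n13446 := d16_1 D18426 (iv D13446) D13445
def n18427 : Q := act 1 n13446
theorem D18427 : act 1 n13446 = n18427 := rfl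
theorem F32345 : act 4 n18427 = n13579 := d8_2 (iv F23649) D18427 (iv D13579)
theorem F32346 : act 5 n18427 = n13458 := d9_2 D13446 D18427 (iv D13458) (iv D10727) (iv F19046)
def n18428 : Q := act 6 n13446
theorem D18428 : act 6 n13446 = n18428 := rfl
theorem F32347 : act 0 n18428 = n18378 := d5_1 D18428 (iv F32340) F32337
theorem F32348 : act 2 n18428 = n13448 := d14_1 D18428 (iv D13448) (iv F23648)
theorem F32349 : act 4 n18428 = n13580 := d19_1 D18428 (iv D13580) (iv F23649)
theorem F32350 : act 5 n18428 = n18376 := d20_1 D18428 F32235 D18423 F32340 (iv D18378) F23609 D13446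
def n18429 : Q := act 0 n13447
theorem D18429 : act 0 n13447 = n18429 := rfl
theorem F32351 : act 4 n18429 = n13581 := d3_2 (iv F23650) D18429 (iv D13581)
theorem F32352 : act 5 n18429 = n13449 := d4_2 (iv F23651) D18429 (iv D13449)
def n18430 : Q := act 2 n13447
theorem D18430 : act 2 n13447 = n18430 := rfl
theorem F32353 : act 4 n18430 = n13582 := d12_2 (iv F23650) D18430 (iv D13582)
theorem F32354 : act 5 n18430 = n13450 := d13_2 (iv F23651) D18430 (iv D13450)
def n18431 : Q := act 6 n13447
theorem D18431 : act 6 n13447 = n18431 := rfl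
theorem F32355 : act 4 n18431 = n13583 := d19_1 D18431 (iv D13583) (iv F23650)
def n18432 : Q := act 1 n13448
theorem D18432 : act 1 n13448 = n18432 := rfl
theorem F32356 : act 4 n18432 = n13584 := d8_2 (iv F23653) D18432 (iv D13584)
def n18433 : Q := act 1 n13449
theorem D18433 : act 1 n13449 = n18433 := rfl
theorem F32357 : act 4 n18433 = n13585 := d8_2 (iv F23655) D18433 (iv D13585)
def n18434 : Q := act 2 n13449
theorem D18434 : act 2 n13449 = n18434 := rfl
theorem F32358 : act 0 n18434 = n13450 := d1_1 D18434 (iv D13450) D13449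
theorem F32359 : act 4 n18434 = n13586 := d12_2 (iv F23655) D18434 (iv D13586)
theorem F32360 : act 1 n16930 = n18434 := d8_3 F32359 (iv F29219) (iv F29829)
def n18435 : Q := act 6 n13449
theorem D18435 : act 6 n13449 = n18435 := rfl
theorem F32361 : act 0 n18435 = n13451 := d5_1 D18435 (iv D13451) D13449
theorem F32362 : act 4 n18435 = n13587 := d19_1 D18435 (iv D13587) (iv F23655)
theorem F32363 : act 5 n18435 = n18431 := d22_2 F32352 D18435 (iv D18431) D18429
def n18436 : Q := act 3 n13450
theorem D18436 : act 3 n13450 = n18436 := rfl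
theorem F32364 : act 1 n18436 = n13459 := d7_1 D18436 (iv D13459) (iv F23656)
def n18437 : Q := act 6 n13450
theorem D18437 : act 6 n13450 = n18437 := rfl
theorem F32365 : act 1 n18437 = n13761 := d10_1 D18437 (iv D13761) (iv D10881) (iv F19065) (iv F23656)
theorem F32366 : act 2 n18437 = n13451 := d14_1 D18437 (iv D13451) D13450
theorem F32367 : act 4 n18437 = n13589 := d19_1 D18437 (iv D13589) (iv F23657)
def n18438 : Q := act 5 n13451
theorem D18438 : act 5 n13451 = n18438 := rfl
theorem F32368 : act 0 n18438 = n18431 := d4_1 D18438 (iv F32363) F32361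
theorem F32369 : act 4 n18438 = n13590 := d18_1 D18438 (iv D13590) (iv F23659)
theorem F32370 : act 6 n18438 = n18429 := d20_2 D13451 D18438 F32352 D18435 F32363 (iv D18431) F23651
def n18439 : Q := act 6 n13452
theorem D18439 : act 6 n13452 = n18439 := rfl
theorem F32371 : act 2 n18439 = n13763 := d14_1 D18439 (iv D13763) (iv F23660)
theorem F32372 : act 3 n18439 = n13599 := d17_1 D18439 (iv D13599) (iv F23661)
theorem F32373 : act 4 n18439 = n13453 := d19_1 D18439 (iv D13453) D13452
def n18440 : Q := act 1 n13453
theorem D18440 : act 1 n13453 = n18440 := rfl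
theorem F32374 : act 3 n18440 = n13454 := d7_2 (iv F23664) D18440 (iv D13454)
def n18441 : Q := act 0 n13454
theorem D18441 : act 0 n13454 = n18441 := rfl
theorem F32375 : act 4 n18441 = n13601 := d3_2 (iv F23665) D18441 (iv D13601)
def n18442 : Q := act 5 n13454
theorem D18442 : act 5 n13454 = n18442 := rfl
theorem F32376 : act 1 n18442 = n18430 := d9_1 D18442 F32354 F23656 F19064 D13454
theorem F32377 : act 2 n18442 = n18427 := d13_1 D18442 F32346 F23674
theorem F32378 : act 4 n18442 = n13602 := d18_1 D18442 (iv D13602) (iv F23665)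
def n18443 : Q := act 4 n13455
theorem D18443 : act 4 n13455 = n18443 := rfl
theorem F32379 : act 0 n18443 = n13783 := d3_1 D18443 F24205 (iv F23666)
theorem F32380 : act 3 n18443 = n13603 := d15_1 D18443 (iv D13603) (iv D10796) (iv F19055) D13455
theorem F32381 : act 5 n18443 = n13782 := d18_2 (iv F23667) D18443 (iv D13782)
def n18444 : Q := act 5 n13456
theorem D18444 : act 5 n13456 = n18444 := rfl
theorem F32382 : act 2 n18444 = n13783 := d13_1 D18444 (iv D13783) (iv F23668)
theorem F32383 : act 3 n18444 = n13612 := d16_1 D18444 (iv D13612) (iv F23669)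
theorem F32384 : act 4 n18444 = n13457 := d18_1 D18444 (iv D13457) D13456
theorem F32385 : act 6 n18444 = n18443 := d22_1 D18444 F32381 (iv F24272) F24269
def n18445 : Q := act 1 n13457
theorem D18445 : act 1 n13457 = n18445 := rfl
theorem F32386 : act 3 n18445 = n13458 := d7_2 (iv F23672) D18445 (iv D13458)
def n18446 : Q := act 0 n13458
theorem D18446 : act 0 n13458 = n18446 := rfl
theorem F32387 : act 2 n18446 = n18441 := d1_2 (iv F23674) D18446 (iv D18441)
theorem F32388 : act 4 n18446 = n13614 := d3_2 (iv F23675) D18446 (iv D13614)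
def n18447 : Q := act 6 n13458
theorem D18447 : act 6 n13458 = n18447 := rfl
theorem F32389 : act 1 n18447 = n18409 := d10_1 D18447 F32315 F23637 (iv F19061) D13458
theorem F32390 : act 2 n18447 = n18406 := d14_1 D18447 F32307 (iv F23674)
theorem F32391 : act 4 n18447 = n13615 := d19_1 D18447 (iv D13615) (iv F23675)
def n18448 : Q := act 4 n13459
theorem D18448 : act 4 n13459 = n18448 := rfl
theorem F32392 : act 0 n18448 = n13763 := d3_1 D18448 F24170 (iv F23676)
theorem F32393 : act 3 n18448 = n13616 := d15_1 D18448 (iv D13616) (iv D10803) (iv F19063) D13459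
theorem F32394 : act 5 n18448 = n18439 := d18_2 (iv F23677) D18448 F32373
theorem F32395 : act 6 n18448 = n13762 := d19_2 (iv F23678) D18448 (iv D13762)
def n18449 : Q := act 1 n13461
theorem D18449 : act 1 n13461 = n18449 := rfl
theorem F32396 : act 3 n18449 = n13464 := d7_2 (iv F23682) D18449 (iv D13464)
theorem F32397 : act 5 n18449 = n17373 := d9_2 F29261 D18449 (iv D17373) (iv D12837) (iv F22397)
theorem F32398 : act 6 n18449 = n13472 := d10_2 D13461 D18449 (iv D13472) (iv D10737) (iv F19067)
theorem F32399 : act 5 n17348 = n13530 := d24_7 (iv F32398) F32397 (iv D17373) F22469 (iv D12827) D12824 D17348 (iv D13530) (iv D10764) (iv F19089) (iv D10746) D10747 F19091 D13472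
theorem F32400 : act 3 n13560 = n17348 := d16_3 F32399 F23779 D13560
theorem E7289 : n17347 = n13532 := ((c22_5 (iv D17347) D17348 F32399 F23780 D13532)).symm
theorem F32401 : act 5 n13532 = n12824 := (sb E7289 (iv D17347))
theorem E7290 : n17343 = n13534 := (c22_5 (iv D13534) (iv F23780) (iv F32399) (iv D17348) D17343)
theorem F32402 : act 0 n13534 = n12824 := (sb E7290 (iv D17343))
theorem E7291 : n17334 = n14648 := (c0_9 (iv F23786) F32402 (iv D12824) (iv D10329) (iv D5703) (iv F8639) D10327 D12819 D17334 F25568)
theorem F32403 : act 1 n14648 = n12819 := (sb E7291 (iv D17334))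
theorem E7292 : n17198 = n13400 := (((F25569).symm.trans (sb E7291 F30403))).symm
theorem E7293 : n18346 = n12747 := ((D18346).symm.trans (sb E7292 (iv D17198)))
theorem F32404 : act 1 n12747 = n13400 := (sb E7293 (iv D18346))
theorem E7294 : n17345 = n13564 := (c2_3 (iv F23787) F32402 D17345 F23816)
theorem F32405 : act 1 n13564 = n12825 := (sb E7294 F30420)
theorem F32406 : act 3 n13564 = n12824 := (sb E7294 (iv D17345))
theorem F32407 : act 1 n17350 = n18414 := d8_3 F32322 F32405 D17350
theorem F32408 : act 1 n18302 = n17199 := d0_4 F32407 F32321 F23639 (iv F32045) F30185 F22342 (iv F18225) (iv F22457) (iv F30423)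
theorem F32409 : act 1 n18341 = n17200 := d9_5 (iv D17200) F32404 (iv D13400) D13398 D18341
theorem F32410 : act 1 n17335 = n14651 := d8_3 F25575 F32403 D17335
theorem F32411 : act 3 n18351 = n17335 := d7_0 F32410 F25574 D18351
theorem F32412 : act 0 n17338 = n18351 := d2_3 F32411 F30404 D17338
def n18450 : Q := act 0 n13464
theorem D18450 : act 0 n13464 = n18450 := rfl
theorem F32413 : act 6 n18450 = n13476 := d5_2 (iv F23686) D18450 (iv D13476)
def n18451 : Q := act 2 n13464
theorem D18451 : act 2 n13464 = n18451 := rfl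
theorem F32414 : act 6 n18451 = n13477 := d14_2 (iv F23686) D18451 (iv D13477)
def n18452 : Q := act 5 n13464
theorem D18452 : act 5 n13464 = n18452 := rfl
theorem F32415 : act 1 n18452 = n17366 := d9_1 D18452 (iv D17366) (iv F28827) (iv D13465) D13464
def n18453 : Q := act 3 n13466
theorem D18453 : act 3 n13466 = n18453 := rfl
theorem F32417 : act 0 n18453 = n13482 := d2_1 D18453 (iv D13482) (iv F23690)
theorem F32418 : act 1 n18453 = n18453 := d7_1 D18453 (iv D18453) F23691
theorem F32419 : act 2 n18453 = n16561 := d11_1 D18453 (iv D16561) F21801 (iv F21255) F21254 F18983 (iv F19083) D13482 (iv F25139) (iv F28705) F28704 F21792 F28837 (iv F28839) (iv F23692)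
theorem F32420 : act 4 n18453 = n14336 := d15_2 D13466 D18453 (iv D14336) F19861 (iv F19069)
theorem F32421 : act 5 n18453 = n15437 := d16_2 (iv F28845) D18453 (iv D15437)
def n18454 : Q := act 6 n13466
theorem D18454 : act 6 n13466 = n18454 := rfl
theorem F32424 : act 4 n18454 = n13468 := d19_1 D18454 (iv D13468) D13466
def n18455 : Q := act 1 n13468
theorem D18455 : act 1 n13468 = n18455 := rfl
theorem F32425 : act 3 n18455 = n18164 := d7_2 (iv F23698) D18455 (iv D18164)
def n18457 : Q := act 0 n13472
theorem D18457 : act 0 n13472 = n18457 := rfl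
theorem F32428 : act 3 n18457 = n13476 := d2_2 (iv F23704) D18457 (iv D13476)
def n18459 : Q := act 5 n13472
theorem D18459 : act 5 n13472 = n18459 := rfl
def n18460 : Q := act 1 n13476
theorem D18460 : act 1 n13476 = n18460 := rfl
def n18462 : Q := act 5 n13476
theorem D18462 : act 5 n13476 = n18462 := rfl
theorem F32432 : act 6 n18462 = n18452 := d22_1 D18462 (iv D18452) F23686 D13476
def n18463 : Q := act 3 n13477
theorem D18463 : act 3 n13477 = n18463 := rfl
theorem F32433 : act 1 n18463 = n13857 := d7_1 D18463 (iv D13857) (iv F23709)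
def n18465 : Q := act 6 n13478
theorem D18465 : act 6 n13478 = n18465 := rfl
theorem F32436 : act 5 n18465 = n18450 := d20_1 D18465 F32413 D18462 F32432 (iv D18452) F23686 D13478
def n18466 : Q := act 5 n13479
theorem D18466 : act 5 n13479 = n18466 := rfl
theorem F32437 : act 0 n18466 = n14337 := d4_1 D18466 (iv D14337) (iv F23710)
theorem F32438 : act 2 n18466 = n14332 := d13_1 D18466 (iv D14332) (iv F23711)
theorem F32439 : act 4 n18466 = n13480 := d18_1 D18466 (iv D13480) D13479
def n18467 : Q := act 6 n13479
theorem D18467 : act 6 n13479 = n18467 := rfl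
theorem F32440 : act 0 n18467 = n14338 := d5_1 D18467 (iv D14338) (iv F23710)
theorem F32441 : act 2 n18467 = n14333 := d14_1 D18467 (iv D14333) (iv F23711)
theorem F32442 : act 4 n18467 = n13481 := d19_1 D18467 (iv D13481) D13479
def n18468 : Q := act 1 n13481
theorem D18468 : act 1 n13481 = n18468 := rfl
theorem F32443 : act 3 n18468 = n13487 := d7_2 (iv F23717) D18468 (iv D13487)
def n18469 : Q := act 5 n13482
theorem D18469 : act 5 n13482 = n18469 := rfl
theorem F32444 : act 0 n18469 = n15437 := d4_1 D18469 (iv F32421) F32417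
theorem F32445 : act 3 n18469 = n13483 := d16_1 D18469 (iv D13483) D13482
def n18470 : Q := act 6 n13482
theorem D18470 : act 6 n13482 = n18470 := rfl
theorem F32446 : act 3 n18470 = n13484 := d17_1 D18470 (iv D13484) D13482
def n18471 : Q := act 1 n13483
theorem D18471 : act 1 n13483 = n18471 := rfl
theorem F32447 : act 2 n18471 = n15592 := d6_2 (iv F23719) D18471 F27074 (iv F28872) (iv D13489)
theorem F32448 : act 4 n18471 = n13485 := d8_2 (iv F23720) D18471 (iv D13485)
theorem F32449 : act 5 n18471 = n15856 := d9_2 D13483 D18471 (iv F29173) (iv D14391) F19929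
theorem F32450 : act 0 n18471 = n15593 := d23_3 D10744 (iv F23719) D18471 F29091 F21170 (iv D9930) F7689 F6199 F3701 (iv F3573) (iv F7135) (iv F17196) (iv F18185) (iv F28890) (iv D12797) D12799 F22396 (iv F28838) F19076
def n18472 : Q := act 6 n13483
theorem D18472 : act 6 n13483 = n18472 := rfl
theorem F32451 : act 0 n18472 = n15440 := d5_1 D18472 (iv D15440) (iv F28874)
theorem F32453 : act 4 n18472 = n13486 := d19_1 D18472 (iv D13486) (iv F23720)
theorem F32454 : act 5 n18472 = n18454 := d20_1 D18472 (iv D18454) F28845 D15440 (iv F29251) (iv D13484) D13483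
def n18473 : Q := act 1 n13484
theorem D18473 : act 1 n13484 = n18473 := rfl
theorem F32455 : act 4 n18473 = n13487 := d8_2 (iv F23722) D18473 (iv D13487)
def n18474 : Q := act 1 n13486
theorem D18474 : act 1 n13486 = n18474 := rfl
def n18475 : Q := act 0 n13487
theorem D18475 : act 0 n13487 = n18475 := rfl
def n18476 : Q := act 2 n13487
theorem D18476 : act 2 n13487 = n18476 := rfl
theorem F32456 : act 1 n18476 = n13498 := d6_1 D18476 (iv D13498) (iv D10748) (iv F19085) D13487
def n18477 : Q := act 5 n13487
theorem D18477 : act 5 n13487 = n18477 := rfl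
theorem F32457 : act 1 n18477 = n15873 := d24_2 F25149 D18477 (iv F29128) F29127 F29124 D14394 F25148 F29721 (iv D14378) D14377 F28800 (iv F25152) (iv D14396) D14395
theorem E7295 : n15872 = n13488 := ((c9_3 (iv D18477) (iv D13487) D13488 (iv D15872) D15873 (iv F32457))).symm
theorem F32458 : act 1 n13488 = n12003 := (sb E7295 (iv D15872))
theorem E7296 : n13467 = n12006 := ((F23727).symm.trans (sb E7295 F27438))
theorem E7297 : n15876 = n10742 := ((D15876).symm.trans (sb E7296 F23693))
theorem E7298 : n11783 = n9929 := ((((iv D12006)).symm.trans (sb E7296 F28876))).symm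
theorem E7299 : n15719 = n10736 := (((iv F27231)).symm.trans (sb E7296 F23694))
theorem E7300 : n15875 = n13294 := (((iv F27446)).symm.trans (sb E7296 F23695))
theorem E7301 : n15862 = n11781 := (((iv F27425)).symm.trans (sb E7296 F28877))
theorem E7302 : n15877 = n10734 := ((D15877).symm.trans (sb E7296 (iv D13467)))
theorem F32459 : act 6 n12006 = n13488 := (sb E7296 (iv F23727))
theorem F32460 : act 0 n10742 = n12006 := (sb E7297 (iv D15876))
theorem E7303 : n9677 = n5054 := (((F17648).symm.trans (sb E7298 F20815))).symm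
theorem E7304 : n15443 = n12005 := ((((iv F21189)).symm.trans (sb E7298 D15443))).symm
theorem E7305 : n11999 = n9676 := (((iv F21177)).symm.trans (sb E7298 (iv D11783)))
theorem E7307 : n11927 = n9681 := ((((iv F28875)).symm.trans (sb E7299 (iv D15719)))).symm
theorem F32461 : act 2 n10736 = n12006 := (sb E7299 F27231)
theorem F32462 : act 3 n13294 = n12006 := (sb E7300 F27446)
theorem F32463 : act 4 n11781 = n12006 := (sb E7301 F27425)
theorem F32464 : act 5 n10734 = n12006 := (sb E7302 (iv D15877))
theorem E7308 : n9883 = n4687 := (((iv F17568)).symm.trans (sb E7303 F14441))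
theorem E7309 : n4753 = n2438 := (((F7687).symm.trans (sb E7303 F14442))).symm
theorem E7310 : n9926 = n4684 := (((iv F17641)).symm.trans (sb E7303 (iv D9677)))
theorem E7311 : n11785 = n2437 := ((((iv D5054)).symm.trans (sb E7303 D11785))).symm
theorem F32465 : act 1 n12005 = n13294 := (sb E7304 F29252)
theorem E7312 : n15861 = n11782 := (((D11782).symm.trans (sb E7305 (iv F27423)))).symm
theorem F32466 : act 4 n9676 = n9929 := (sb E7305 F21177)
theorem E7313 : n11784 = n9925 := ((D11784).symm.trans (sb E7305 (iv D11999)))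
theorem E7314 : n12926 = n4694 := (((F14448).symm.trans (sb E7307 (iv F22672)))).symm
theorem E7315 : n15718 = n10738 := ((((iv F28880)).symm.trans (sb E7307 (iv F27229)))).symm
theorem E7316 : n15703 = n4686 := ((((iv D9681)).symm.trans (sb E7307 (iv F27217)))).symm
theorem E7317 : n10398 = n10315 := ((((iv F18186)).symm.trans (sb E7307 F21065))).symm
theorem E7318 : n10374 = n9882 := (((iv F18326)).symm.trans (sb E7307 (iv D11927)))
theorem E7319 : n10402 = n2257 := (((F7135).symm.trans (sb E7308 (iv F18403)))).symm
theorem F32467 : act 1 n4687 = n5054 := (sb E7308 F17568)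
theorem E7320 : n4882 = n2289 := (((F7136).symm.trans (sb E7308 F17569))).symm
theorem E7321 : n11918 = n2253 := ((((iv D4687)).symm.trans (sb E7308 (iv F21056)))).symm
theorem E7322 : n5989 = n5685 := ((((iv F17196)).symm.trans (sb E7308 F17570))).symm
theorem E7323 : n5859 = n4876 := (((iv F17132)).symm.trans (sb E7308 (iv D9883)))
theorem E7324 : n2286 = n1186 := (((F3829).symm.trans (sb E7309 (iv D4753)))).symm
theorem E7325 : n9813 = n1185 := ((((iv D2438)).symm.trans (sb E7309 D9813))).symm
theorem E7326 : n5052 = n2252 := ((((iv D4684)).symm.trans (sb E7310 F17640))).symm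
theorem F32468 : act 4 n4684 = n5054 := (sb E7310 F17641)
theorem E7327 : n9678 = n5051 := ((D9678).symm.trans (sb E7310 (iv D9926)))
theorem E7328 : n12889 = n1188 := (((F3827).symm.trans (sb E7311 (iv F22580)))).symm
theorem E7329 : n15442 = n11998 := ((D15442).symm.trans (sb E7312 (iv D15861)))
theorem F32469 : act 6 n9925 = n9676 := (sb E7313 (iv D11784))
theorem E7332 : n17512 = n9697 := (((D9697).symm.trans (sb E7314 (iv F30715)))).symm
theorem E7335 : n10397 = n9698 := (((D9698).symm.trans (sb E7314 (iv D12926)))).symm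
theorem E7336 : n17487 = n11450 := ((((iv F28883)).symm.trans (sb E7315 (iv F30668)))).symm
theorem E7337 : n12921 = n11814 := ((((iv F28884)).symm.trans (sb E7315 F27230))).symm
theorem E7338 : n12893 = n11926 := (((iv F28886)).symm.trans (sb E7315 (iv D15718)))
theorem E7339 : n12924 = n5684 := ((((iv F17194)).symm.trans (sb E7316 F27218))).symm
theorem E7340 : n11917 = n9682 := (((D9682).symm.trans (sb E7316 (iv D15703)))).symm
theorem E7341 : n12927 = n12797 := ((((iv F28890)).symm.trans (sb E7317 D12927))).symm
theorem E7342 : n5986 = n5705 := (((F18187).symm.trans (sb E7317 (iv D10398)))).symm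
theorem E7343 : n12892 = n11912 := ((((iv F21046)).symm.trans (sb E7318 D12892))).symm
theorem E7344 : n10390 = n10328 := (((iv F18379)).symm.trans (sb E7318 F18325))
theorem F32470 : act 6 n9882 = n9681 := (sb E7318 F18326)
theorem E7345 : n12931 = n1142 := (((F3573).symm.trans (sb E7319 D12931))).symm
theorem E7346 : n5991 = n1119 := (((F3574).symm.trans (sb E7319 F18404))).symm
theorem E7347 : n12929 = n1101 := ((((iv D2257)).symm.trans (sb E7319 (iv F22683)))).symm
theorem E7348 : n10392 = n4423 := ((((iv F6747)).symm.trans (sb E7319 F18405))).symm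
theorem E7349 : n5988 = n4696 := (((D4696).symm.trans (sb E7319 (iv D10402)))).symm
theorem F32471 : act 1 n2289 = n2438 := (sb E7320 F7441)
theorem E7350 : n2899 = n2812 := ((((iv F17115)).symm.trans (sb E7320 F7442))).symm
theorem E7351 : n2396 = n1115 := ((((iv D2289)).symm.trans (sb E7320 F7443))).symm
theorem E7352 : n2832 = n2352 := ((F17108).symm.trans (sb E7320 (iv D4882)))
theorem E7353 : n9918 = n1099 := ((((iv D2253)).symm.trans (sb E7321 F21055))).symm
theorem E7354 : n10400 = n2738 := (((F17119).symm.trans (sb E7321 F21057))).symm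
theorem E7355 : n9877 = n4688 := (((D4688).symm.trans (sb E7321 (iv D11918)))).symm
theorem E7356 : n2897 = n2749 := (((F8617).symm.trans (sb E7322 (iv D5989)))).symm
theorem E7357 : n10369 = n2349 := ((((iv D4876)).symm.trans (sb E7323 (iv F18306)))).symm
theorem E7358 : n5983 = n5699 := (((iv F17432)).symm.trans (sb E7323 F17131))
theorem F32472 : act 6 n4876 = n4687 := (sb E7323 F17132)
theorem E7359 : n2436 = n1114 := (((iv F3825)).symm.trans (sb E7324 (iv D2286)))
theorem E7360 : n4754 = n595 := ((((iv D1186)).symm.trans (sb E7324 D4754))).symm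
theorem E7361 : n10371 = n597 := (((F1997).symm.trans (sb E7325 (iv F18311)))).symm
theorem E7362 : n4685 = n2435 := ((D4685).symm.trans (sb E7326 (iv D5052)))
theorem F32473 : act 6 n5051 = n4684 := (sb E7327 (iv D9678))
theorem E7366 : n17462 = n1140 := (((F2005).symm.trans (sb E7328 D17462))).symm
theorem F32474 : act 6 n11998 = n11782 := (sb E7329 (iv D15442))
theorem E7367 : n12919 = n11815 := (((D11815).symm.trans (sb E7332 (iv D17512)))).symm
theorem F32475 : act 0 n9698 = n9882 := (sb E7335 F18390)
theorem E7372 : n12908 = n12823 := ((((iv F22448)).symm.trans (sb E7336 (iv D17487)))).symm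
theorem E7375 : n10395 = n10335 := ((((iv F20878)).symm.trans (sb E7337 (iv D12921)))).symm
theorem E7376 : n15694 = n13516 := (((iv F27205)).symm.trans (sb E7338 F28885))
theorem E7377 : n15717 = n15358 := ((D15717).symm.trans (sb E7338 (iv F26716)))
theorem F32476 : act 6 n11926 = n10738 := (sb E7338 F28886)
theorem E7380 : n10396 = n2748 := (((F8614).symm.trans (sb E7339 (iv D12924)))).symm
theorem E7381 : n15672 = n11793 := (((D11793).symm.trans (sb E7340 (iv F27182)))).symm
theorem F32477 : act 4 n9682 = n9882 := (sb E7340 F21053)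
theorem E7383 : n12909 = n5698 := ((((iv F17184)).symm.trans (sb E7340 (iv F22644)))).symm
theorem E7386 : n17508 = n17299 := (((D17299).symm.trans (sb E7341 (iv F30705)))).symm
theorem E7387 : n10394 = n10331 := ((((iv F18221)).symm.trans (sb E7342 D10394))).symm
theorem E7388 : n17463 = n15692 := ((((iv F27201)).symm.trans (sb E7343 D17463))).symm
theorem E7390 : n17464 = n15688 := ((((iv F27198)).symm.trans (sb E7343 D17464))).symm
theorem E7391 : n15695 = n13500 := ((D15695).symm.trans (sb E7343 F29248))
theorem E7392 : n12907 = n12820 := ((((iv F22442)).symm.trans (sb E7344 D12907))).symm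
theorem F32478 : act 5 n10328 = n9882 := (sb E7344 F18379)
theorem E7393 : n14884 = n2343 := ((((iv F3699)).symm.trans (sb E7345 (iv F25864)))).symm
theorem E7395 : n10403 = n583 := (((F1943).symm.trans (sb E7345 F22688))).symm
theorem E7397 : n15446 = n1960 := ((((iv F3125)).symm.trans (sb E7345 (iv F26822)))).symm
theorem E7398 : n11796 = n2347 := (((D2347).symm.trans (sb E7345 F22689))).symm
theorem E7399 : n5985 = n2140 := ((((iv F14694)).symm.trans (sb E7346 F17409))).symm
theorem E7400 : n2935 = n561 := ((((iv D1119)).symm.trans (sb E7346 F9090))).symm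
theorem E7401 : n2898 = n2297 := (((D2297).symm.trans (sb E7346 (iv D5991)))).symm
theorem E7402 : n10500 = n553 := ((((iv D1101)).symm.trans (sb E7347 F22682))).symm
theorem E7403 : n12911 = n2122 := ((((iv F3372)).symm.trans (sb E7347 F22684))).symm
theorem E7404 : n10399 = n2258 := (((D2258).symm.trans (sb E7347 (iv D12929)))).symm
theorem E7405 : n12912 = n7782 := ((((iv F11556)).symm.trans (sb E7348 D12912))).symm
theorem F32479 : act 0 n4696 = n4876 := (sb E7349 (iv F17433))
theorem E7406 : n10401 = n9701 := (((D9701).symm.trans (sb E7349 D10401))).symm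
theorem E7407 : n1423 = n1360 := ((((iv D2812)).symm.trans (sb E7350 F4527))).symm
theorem E7408 : n1406 = n1371 := (((F4405).symm.trans (sb E7350 (iv D2899)))).symm
theorem F32480 : act 1 n1115 = n1186 := (sb E7351 F3772)
theorem E7409 : n4963 = n559 := ((((iv D1115)).symm.trans (sb E7351 (iv F7573)))).symm
theorem E7410 : n1370 = n1166 := ((F17000).symm.trans (sb E7351 (iv D2396)))
theorem E7411 : n5854 = n1145 := ((((iv D2352)).symm.trans (sb E7352 (iv F8914)))).symm
theorem E7412 : n2896 = n2826 := ((F16988).symm.trans (sb E7352 (iv F17017)))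
theorem F32481 : act 6 n2352 = n2289 := (sb E7352 (iv F17108))
theorem E7415 : n4953 = n2254 := (((D2254).symm.trans (sb E7353 (iv D9918)))).symm
theorem E7416 : n5987 = n1329 := (((F4275).symm.trans (sb E7354 (iv D10400)))).symm
theorem E7417 : n9684 = n4872 := ((D9684).symm.trans (sb E7355 (iv D9877)))
theorem F32482 : act 4 n4688 = n4876 := (sb E7355 F17563)
theorem E7418 : n10391 = n2745 := ((((iv F17107)).symm.trans (sb E7355 (iv F18383)))).symm
theorem E7419 : n1410 = n1407 := ((F4292).symm.trans (sb E7356 F4524))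
theorem E7420 : n12884 = n1961 := (((F3706).symm.trans (sb E7357 (iv F22567)))).symm
theorem E7423 : n10324 = n4875 := (((iv F18209)).symm.trans (sb E7358 (iv F17434)))
theorem F32483 : act 5 n5699 = n4876 := (sb E7358 F17432)
theorem F32484 : act 3 n1114 = n1186 := (sb E7359 F3825)
theorem E7424 : n2287 = n1184 := ((D2287).symm.trans (sb E7359 (iv D2436)))
theorem E7425 : n5856 = n304 := ((((iv D595)).symm.trans (sb E7360 (iv F17126)))).symm
theorem E7426 : n12885 = n483 := (((F1109).symm.trans (sb E7361 (iv F22569)))).symm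
theorem E7428 : n12891 = n571 := (((F1111).symm.trans (sb E7361 D12891))).symm
theorem F32485 : act 6 n2435 = n2252 := (sb E7362 (iv D4685))
theorem E7431 : n14883 = n1970 := ((((iv F3143)).symm.trans (sb E7366 F30613))).symm
theorem F32486 : act 0 n11815 = n11926 := (sb E7367 F22663)
theorem F32487 : act 2 n12823 = n11926 := (sb E7372 F22641)
theorem F32488 : act 5 n12823 = n11926 := (sb E7372 F22640)
theorem E7443 : n12915 = n12833 := ((((iv F22460)).symm.trans (sb E7375 (iv F22658)))).symm
theorem F32489 : act 1 n13516 = n11926 := (sb E7376 F27205)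
theorem F32490 : act 3 n13516 = n11912 := (sb E7376 (iv D15694))
theorem F32491 : act 4 n15358 = n11926 := (sb E7377 (iv D15717))
theorem E7445 : n12916 = n5703 := (((D5703).symm.trans (sb E7380 (iv F22659)))).symm
theorem E7446 : n15459 = n11903 := ((D15459).symm.trans (sb E7381 (iv D15672)))
theorem F32492 : act 4 n11793 = n11912 := (sb E7381 F27183)
theorem E7448 : n17483 = n10327 := (((D10327).symm.trans (sb E7383 (iv F30659)))).symm
theorem E7449 : n12918 = n12835 := (((F30336).symm.trans (sb E7386 (iv D17508)))).symm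
theorem E7450 : n12914 = n12826 := ((((iv F22450)).symm.trans (sb E7387 D12914))).symm
theorem E7451 : n6001 = n5993 := ((F18222).symm.trans (sb E7387 F18388))
theorem F32493 : act 4 n15692 = n15458 := (sb E7388 F30614)
theorem E7453 : n17484 = n17339 := (((iv F30661)).symm.trans (sb E7390 F30615))
theorem F32494 : act 4 n15688 = n15460 := (sb E7390 F30616)
theorem F32495 : act 2 n13500 = n11913 := (sb E7391 F27206)
theorem F32496 : act 6 n13500 = n11912 := (sb E7391 (iv D15695))
theorem E7454 : n17481 = n17335 := ((((iv F30404)).symm.trans (sb E7392 D17481))).symm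
theorem E7455 : n17322 = n11925 := (((iv F30387)).symm.trans (sb E7392 F22638))
theorem E7456 : n17485 = n17340 := (((D17340).symm.trans (sb E7392 D17485))).symm
theorem E7457 : n11466 = n1160 := (((F3700).symm.trans (sb E7393 F25866))).symm
theorem E7458 : n11465 = n4114 := ((((iv F6248)).symm.trans (sb E7393 (iv D14884)))).symm
theorem E7460 : n11787 = n968 := ((((iv F1695)).symm.trans (sb E7395 (iv F20826)))).symm
theorem E7461 : n6067 = n296 := ((((iv D583)).symm.trans (sb E7395 F18406))).symm
theorem E7462 : n9687 = n1161 := (((D1161).symm.trans (sb E7395 F18407))).symm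
theorem E7464 : n17493 = n3954 := ((((iv F6026)).symm.trans (sb E7397 (iv F30680)))).symm
theorem E7466 : n10325 = n4871 := (((D4871).symm.trans (sb E7398 F20842))).symm
theorem E7467 : n10393 = n3746 := ((((iv F5747)).symm.trans (sb E7399 D10393))).symm
theorem E7469 : n6063 = n283 := ((((iv D561)).symm.trans (sb E7400 (iv F9199)))).symm
theorem E7470 : n1422 = n1120 := (((D1120).symm.trans (sb E7400 (iv D2935)))).symm
theorem F32497 : act 0 n2297 = n2352 := (sb E7401 (iv F16987))
theorem E7471 : n5990 = n4772 := (((D4772).symm.trans (sb E7401 D5990))).symm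
theorem E7472 : n13093 = n280 := ((((iv D553)).symm.trans (sb E7402 (iv F22936)))).symm
theorem E7474 : n6060 = n1102 := (((D1102).symm.trans (sb E7402 (iv D10500)))).symm
theorem E7475 : n17491 = n3725 := ((((iv F5716)).symm.trans (sb E7403 D17491))).symm
theorem E7476 : n12928 = n4697 := (((D4697).symm.trans (sb E7404 D12928))).symm
theorem E7477 : n14125 = n10807 := ((((iv F19169)).symm.trans (sb E7405 (iv F24662)))).symm
theorem E7478 : n17492 = n10810 := ((((iv F19176)).symm.trans (sb E7405 D17492))).symm
theorem E7479 : n10812 = n10432 := ((D10812).symm.trans (sb E7405 F22651))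
theorem E7480 : n11820 = n10339 := ((D11820).symm.trans (sb E7406 F18399))
theorem E7481 : n12930 = n11821 := (((D11821).symm.trans (sb E7406 D12930))).symm
theorem E7482 : n6007 = n5997 := ((F17406).symm.trans (sb E7406 F18401))
theorem E7483 : n2933 = n677 := ((((iv D1360)).symm.trans (sb E7407 (iv F4580)))).symm
theorem E7484 : n707 = n682 := (((F2272).symm.trans (sb E7407 (iv D1423)))).symm
theorem E7485 : n711 = n699 := ((F2278).symm.trans (sb E7408 (iv D1406)))
theorem F32498 : act 2 n1371 = n2352 := (sb E7408 (iv F3711))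
theorem E7486 : n9920 = n282 := ((((iv D559)).symm.trans (sb E7409 (iv F17625)))).symm
theorem E7487 : n2390 = n1116 := (((D1116).symm.trans (sb E7409 (iv D4963)))).symm
theorem E7488 : n2830 = n586 := ((((iv D1166)).symm.trans (sb E7410 D2830))).symm
theorem E7489 : n1420 = n1367 := ((F16854).symm.trans (sb E7410 (iv F16878)))
theorem F32499 : act 6 n1166 = n1115 := (sb E7410 (iv F17000))
theorem E7490 : n10367 = n962 := (((F1946).symm.trans (sb E7411 (iv F18301)))).symm
theorem E7491 : n2942 = n574 := (((F1947).symm.trans (sb E7411 F8915))).symm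
theorem E7492 : n10370 = n573 := ((((iv D1145)).symm.trans (sb E7411 D10370))).symm
theorem E7493 : n5838 = n2351 := (((iv F8887)).symm.trans (sb E7412 F16982))
theorem F32500 : act 5 n2826 = n2352 := (sb E7412 (iv F16988))
theorem E7498 : n4689 = n2386 := ((D4689).symm.trans (sb E7415 (iv D4953)))
theorem E7499 : n6051 = n1327 := ((((iv F16996)).symm.trans (sb E7415 (iv F17435)))).symm
theorem E7500 : n2901 = n701 := (((F2226).symm.trans (sb E7416 F9083))).symm
theorem F32501 : act 1 n4872 = n4688 := (sb E7417 (iv D9684))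
theorem E7502 : n9876 = n5695 := ((((iv F8636)).symm.trans (sb E7418 F18381))).symm
theorem F32502 : act 1 n1407 = n2749 := (sb E7419 (iv F4292))
theorem E7503 : n2905 = n2900 := (((D2900).symm.trans (sb E7419 (iv F4538)))).symm
theorem E7505 : n14258 = n4095 := (((D4095).symm.trans (sb E7420 F24911))).symm
theorem F32503 : act 1 n4875 = n5699 := (sb E7423 F18209)
theorem E7511 : n12814 = n9881 := ((((iv F17567)).symm.trans (sb E7423 (iv F22431)))).symm
theorem F32504 : act 6 n1184 = n1114 := (sb E7424 (iv D2287))
theorem E7514 : n10368 = n247 := (((F594).symm.trans (sb E7425 (iv F18303)))).symm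
theorem E7516 : n10373 = n295 := (((F595).symm.trans (sb E7425 D10373))).symm
theorem E7517 : n17456 = n934 := ((((iv F1649)).symm.trans (sb E7426 D17456))).symm
theorem E7521 : n11481 = n967 := ((((iv F1694)).symm.trans (sb E7428 F22591))).symm
theorem E7522 : n11468 = n3988 := ((((iv F6086)).symm.trans (sb E7431 F25861))).symm
theorem E7525 : n17495 = n17353 := ((((iv F30428)).symm.trans (sb E7443 (iv F30683)))).symm
theorem E7526 : n17499 = n17367 := (((D17367).symm.trans (sb E7443 D17499))).symm
theorem E7531 : n17496 = n10329 := (((D10329).symm.trans (sb E7445 (iv F30685)))).symm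
theorem E7532 : n10405 = n2904 := (((F8650).symm.trans (sb E7445 F22660))).symm
theorem F32505 : act 2 n11903 = n11793 := (sb E7446 (iv D15459))
theorem E7536 : n15701 = n12812 := ((((iv F22430)).symm.trans (sb E7448 F30660))).symm
theorem E7537 : n17498 = n17355 := ((((iv F30432)).symm.trans (sb E7449 (iv F30689)))).symm
theorem E7538 : n10419 = n10407 := ((F22463).symm.trans (sb E7449 F22662))
theorem E7541 : n10414 = n10404 := ((F22451).symm.trans (sb E7450 F22657))
theorem F32506 : act 2 n5993 = n10331 := (sb E7451 (iv F18222))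
theorem E7544 : n10418 = n10406 := (((D10406).symm.trans (sb E7451 D10418))).symm
theorem F32507 : act 1 n17339 = n15688 := (sb E7453 F30661)
theorem F32508 : act 2 n17339 = n15685 := (sb E7453 F30662)
theorem F32509 : act 2 n17335 = n15715 := (sb E7454 F30657)
theorem F32510 : act 2 n11925 = n12820 := (sb E7455 F30387)
theorem F32511 : act 2 n17340 = n15716 := (sb E7456 F30663)
theorem E7546 : n9290 = n582 := ((((iv D1160)).symm.trans (sb E7457 F20282))).symm
theorem E7547 : n9192 = n1988 := ((((iv F3172)).symm.trans (sb E7457 (iv D11466)))).symm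
theorem E7548 : n9193 = n8352 := ((((iv F12432)).symm.trans (sb E7458 F20278))).symm
theorem E7550 : n12913 = n1922 := ((((iv F3087)).symm.trans (sb E7460 (iv F22653)))).symm
theorem E7551 : n9815 = n490 := ((((iv D968)).symm.trans (sb E7460 F20827))).symm
theorem E7552 : n9685 = n1971 := (((D1971).symm.trans (sb E7460 F20829))).symm
theorem E7554 : n4763 = n584 := (((D584).symm.trans (sb E7461 F16993))).symm
theorem E7555 : n5696 = n2385 := (((D2385).symm.trans (sb E7462 (iv F16857)))).symm
theorem E7558 : n12991 = n8286 := (((D8286).symm.trans (sb E7464 F30682))).symm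
theorem E7561 : n12811 = n9874 := (((D9874).symm.trans (sb E7466 (iv F22426)))).symm
theorem E7562 : n12815 = n9875 := (((D9875).symm.trans (sb E7466 (iv F22432)))).symm
theorem E7563 : n11067 = n7824 := ((((iv F11642)).symm.trans (sb E7467 (iv F19588)))).symm
theorem E7564 : n6055 = n1806 := ((((iv D3746)).symm.trans (sb E7467 F18386))).symm
theorem E7565 : n7829 = n6011 := ((D7829).symm.trans (sb E7467 F18387))
theorem E7567 : n10497 = n138 := ((((iv D283)).symm.trans (sb E7469 (iv F18567)))).symm
theorem E7568 : n2932 = n562 := (((D562).symm.trans (sb E7469 (iv D6063)))).symm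
theorem F32512 : act 0 n1120 = n1166 := (sb E7470 (iv F16853))
theorem E7569 : n2934 = n2298 := (((D2298).symm.trans (sb E7470 D2934))).symm
theorem E7570 : n9825 = n5745 := ((D9825).symm.trans (sb E7471 (iv F16624)))
theorem E7571 : n6155 = n5749 := (((iv F17292)).symm.trans (sb E7471 (iv F16616)))
theorem E7572 : n2948 = n2903 := (((iv F16940)).symm.trans (sb E7471 F9089))
theorem E7576 : n10495 = n554 := (((D554).symm.trans (sb E7472 (iv D13093)))).symm
theorem E7578 : n10499 = n2259 := (((D2259).symm.trans (sb E7474 D10499))).symm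
theorem E7579 : n12982 = n7783 := (((D7783).symm.trans (sb E7475 F30677))).symm
theorem E7580 : n12846 = n9703 := (((D9703).symm.trans (sb E7476 F22676))).symm
theorem E7581 : n17528 = n9704 := (((D9704).symm.trans (sb E7476 D17528))).symm
theorem E7582 : n10411 = n2908 := ((((iv F16935)).symm.trans (sb E7476 F22679))).symm
theorem E7583 : n13619 = n13617 := ((((iv F29117)).symm.trans (sb E7477 F24663))).symm
theorem E7584 : n11066 = n11062 := ((((iv F19579)).symm.trans (sb E7477 (iv D14125)))).symm
theorem E7585 : n13630 = n12986 := ((D13630).symm.trans (sb E7478 F30678))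
theorem E7586 : n11101 = n10825 := (((iv F19662)).symm.trans (sb E7479 (iv F19217)))
theorem F32513 : act 6 n10432 = n7782 := (sb E7479 (iv D10812))
theorem F32514 : act 0 n10339 = n9701 := (sb E7480 (iv D11820))
theorem E7588 : n15509 = n12845 := (((D12845).symm.trans (sb E7480 D15509))).symm
theorem E7589 : n10429 = n10326 := (((F18237).symm.trans (sb E7480 F20887))).symm
theorem E7590 : n17402 = n15510 := (((D15510).symm.trans (sb E7481 (iv F30508)))).symm
theorem E7591 : n10430 = n10412 := ((F20890).symm.trans (sb E7481 F22686))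
theorem F32515 : act 5 n5997 = n9701 := (sb E7482 (iv F17406))
theorem E7592 : n10431 = n10321 := ((((iv F18203)).symm.trans (sb E7482 D10431))).symm
theorem E7594 : n1421 = n344 := (((F1241).symm.trans (sb E7483 (iv D2933)))).symm
theorem E7595 : n360 = n358 := ((F1245).symm.trans (sb E7484 (iv D707)))
theorem F32516 : act 2 n682 = n1166 := (sb E7484 (iv F1976))
theorem F32517 : act 1 n699 = n1371 := (sb E7485 (iv F2278))
theorem E7599 : n11992 = n541 := ((((iv F1024)).symm.trans (sb E7486 (iv F21159)))).symm
theorem E7601 : n2291 = n1163 := ((D2291).symm.trans (sb E7487 (iv D2390)))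
theorem F32518 : act 3 n1116 = n1166 := (sb E7487 F3764)
theorem E7602 : n2927 = n680 := ((((iv F16860)).symm.trans (sb E7487 F16986))).symm
theorem E7603 : n5852 = n491 := (((F1094).symm.trans (sb E7488 D5852))).symm
theorem E7604 : n1427 = n298 := (((F1095).symm.trans (sb E7488 F4428))).symm
theorem E7605 : n5855 = n297 := ((((iv D586)).symm.trans (sb E7488 D5855))).symm
theorem E7606 : n2822 = n1165 := (((iv F4419)).symm.trans (sb E7489 F16851))
theorem F32519 : act 5 n1367 = n1166 := (sb E7489 (iv F16854))
theorem E7607 : n11190 = n1962 := (((D1962).symm.trans (sb E7490 F19829))).symm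
theorem E7610 : n6081 = n290 := ((((iv D574)).symm.trans (sb E7491 D6081))).symm
theorem E7611 : n10365 = n1144 := (((D1144).symm.trans (sb E7492 F18308))).symm
theorem E7612 : n10362 = n2910 := ((((iv F16936)).symm.trans (sb E7493 (iv F18283)))).symm
theorem F32520 : act 1 n2351 = n2826 := (sb E7493 F8887)
theorem E7613 : n10364 = n2925 := ((((iv F4572)).symm.trans (sb E7493 (iv F18294)))).symm
theorem F32521 : act 1 n2386 = n2254 := (sb E7498 (iv D4689))
theorem E7621 : n4952 = n2744 := (((D2744).symm.trans (sb E7499 (iv F17437)))).symm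
theorem E7622 : n5994 = n1409 := (((D1409).symm.trans (sb E7500 (iv F9097)))).symm
theorem F32522 : act 4 n701 = n1407 := (sb E7500 (iv D2901))
theorem E7623 : n5996 = n1411 := (((D1411).symm.trans (sb E7500 D5996))).symm
theorem E7625 : n11916 = n10323 := (((D10323).symm.trans (sb E7502 (iv F21051)))).symm
theorem F32523 : act 4 n5695 = n4875 := (sb E7502 F17561)
theorem F32524 : act 5 n5695 = n4871 := (sb E7502 (iv D9876))
theorem E7627 : n6005 = n5995 := (((D5995).symm.trans (sb E7503 D6005))).symm
theorem E7628 : n11153 = n8526 := (((D8526).symm.trans (sb E7505 F24907))).symm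
theorem E7629 : n11151 = n8528 := (((D8528).symm.trans (sb E7505 (iv D14258)))).symm
theorem E7636 : n17329 = n11924 := ((((iv F21063)).symm.trans (sb E7511 D17329))).symm
theorem E7638 : n12886 = n476 := ((((iv F915)).symm.trans (sb E7514 D12886))).symm
theorem E7642 : n9288 = n496 := ((((iv F952)).symm.trans (sb E7516 F18322))).symm
theorem E7644 : n13118 = n1897 := (((D1897).symm.trans (sb E7517 F30597))).symm
theorem E7652 : n9292 = n1911 := ((((iv F3078)).symm.trans (sb E7521 F20317))).symm
theorem E7653 : n9195 = n8348 := ((((iv F12426)).symm.trans (sb E7522 F20287))).symm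
theorem F32525 : act 2 n17353 = n17358 := (sb E7525 F30684)
theorem F32526 : act 0 n17367 = n17358 := (sb E7526 F30691)
theorem F32527 : act 3 n17367 = n17349 := (sb E7526 F30692)
theorem E7657 : n12933 = n6000 := (((F18219).symm.trans (sb E7531 F30686))).symm
theorem F32528 : act 4 n2904 = n5993 := (sb E7532 (iv D10405))
theorem E7659 : n12937 = n6002 := (((D6002).symm.trans (sb E7532 D12937))).symm
theorem E7660 : n12938 = n6003 := (((D6003).symm.trans (sb E7532 D12938))).symm
theorem F32529 : act 4 n12812 = n11925 := (sb E7536 F27215)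
theorem E7662 : n12956 = n12935 := ((F30433).symm.trans (sb E7537 F30690))
theorem F32530 : act 2 n10407 = n12835 := (sb E7538 (iv F22463))
theorem E7665 : n12951 = n12932 := (((D12932).symm.trans (sb E7541 (iv F22718)))).symm
theorem F32531 : act 2 n10404 = n12826 := (sb E7541 (iv F22451))
theorem E7667 : n12955 = n12934 := (((D12934).symm.trans (sb E7541 D12955))).symm
theorem E7670 : n12962 = n12939 := (((D12939).symm.trans (sb E7544 D12962))).symm
theorem F32532 : act 2 n10406 = n12834 := (sb E7544 (iv F22461))
theorem E7671 : n12963 = n12940 := (((D12940).symm.trans (sb E7544 D12963))).symm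
theorem E7672 : n4496 = n978 := ((((iv F1711)).symm.trans (sb E7546 (iv D9290)))).symm
theorem E7673 : n4447 = n4087 := ((((iv F6191)).symm.trans (sb E7547 (iv D9192)))).symm
theorem E7674 : n11104 = n4448 := (((iv F19670)).symm.trans (sb E7548 F13763))
theorem E7675 : n11467 = n11107 := ((((iv F19677)).symm.trans (sb E7548 D11467))).symm
theorem E7676 : n11100 = n10338 := (((iv F19660)).symm.trans (sb E7548 (iv F18234)))
theorem E7678 : n10490 = n944 := ((((iv D1922)).symm.trans (sb E7550 F22654))).symm
theorem E7679 : n10436 = n4015 := (((D4015).symm.trans (sb E7550 F22655))).symm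
theorem E7680 : n4761 = n969 := (((D969).symm.trans (sb E7551 F16374))).symm
theorem E7681 : n8530 = n4115 := (((D4115).symm.trans (sb E7552 (iv F15915)))).symm
theorem E7683 : n2823 = n1162 := (((D1162).symm.trans (sb E7554 F16855))).symm
theorem E7684 : n10322 = n4950 := (((D4950).symm.trans (sb E7555 (iv F18204)))).symm
theorem E7685 : n10318 = n4951 := (((D4951).symm.trans (sb E7555 (iv F18195)))).symm
theorem E7688 : n11065 = n11061 := (((D11061).symm.trans (sb E7558 F22765))).symm
theorem E7692 : n11193 = n11063 := (((iv F19838)).symm.trans (sb E7561 F22427))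
theorem E7693 : n17318 = n11914 := (((D11914).symm.trans (sb E7561 (iv F30377)))).symm
theorem F32533 : act 6 n9874 = n10339 := (sb E7561 F22429)
theorem E7695 : n17327 = n11915 := (((D11915).symm.trans (sb E7562 (iv F30393)))).symm
theorem E7696 : n10826 = n10805 := (((iv F19220)).symm.trans (sb E7563 F19589))
theorem E7697 : n8397 = n3744 := ((((iv D7824)).symm.trans (sb E7563 F19590))).symm
theorem E7698 : n8388 = n8291 := (((iv F12513)).symm.trans (sb E7563 (iv D11067)))
theorem E7699 : n10489 = n895 := ((((iv D1806)).symm.trans (sb E7564 (iv F18550)))).symm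
theorem E7700 : n3747 = n2952 := ((D3747).symm.trans (sb E7564 F15899))
theorem E7701 : n8347 = n7879 := ((F17412).symm.trans (sb E7565 (iv F17100)))
theorem F32534 : act 6 n6011 = n3746 := (sb E7565 (iv D7829))
theorem E7705 : n6058 = n284 := (((D284).symm.trans (sb E7567 (iv D10497)))).symm
theorem E7706 : n6062 = n1121 := (((D1121).symm.trans (sb E7568 D6062))).symm
theorem E7707 : n4774 = n2872 := ((D4774).symm.trans (sb E7569 F16614))
theorem E7708 : n2980 = n2876 := ((F17283).symm.trans (sb E7569 F16615))
theorem E7709 : n1431 = n1426 := (((iv F16806)).symm.trans (sb E7569 F4581))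
theorem F32535 : act 0 n5745 = n4772 := (sb E7570 (iv D9825))
theorem F32536 : act 2 n5749 = n4772 := (sb E7571 F17292)
theorem E7713 : n10478 = n10342 := (((D10342).symm.trans (sb E7571 (iv F18523)))).symm
theorem E7714 : n2977 = n2918 := (((F16617).symm.trans (sb E7571 (iv D6155)))).symm
theorem F32537 : act 5 n2903 = n4772 := (sb E7572 F16940)
theorem E7715 : n6094 = n5694 := ((((iv F15627)).symm.trans (sb E7572 D6094))).symm
theorem E7723 : n10530 = n557 := (((F16646).symm.trans (sb E7576 F18639))).symm
theorem E7727 : n10377 = n4699 := (((D4699).symm.trans (sb E7578 F18572))).symm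
theorem E7730 : n14120 = n8288 := ((((iv F12317)).symm.trans (sb E7579 (iv F24652)))).symm
theorem E7731 : n17639 = n10811 := ((((iv F19178)).symm.trans (sb E7579 D17639))).symm
theorem F32538 : act 4 n7783 = n10432 := (sb E7579 F22753)
theorem E7733 : n11098 = n10341 := (((iv F19655)).symm.trans (sb E7580 F22489))
theorem E7734 : n17386 = n11822 := (((D11822).symm.trans (sb E7580 (iv F30484)))).symm
theorem F32539 : act 4 n9703 = n10339 := (sb E7580 (iv D12846))
theorem E7735 : n12947 = n6009 := (((F17447).symm.trans (sb E7581 F30735))).symm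
theorem F32540 : act 4 n2908 = n5997 := (sb E7582 F18422)
theorem F32541 : act 6 n13617 = n10804 := (sb E7583 (iv D13619))
theorem F32542 : act 0 n11062 = n10432 := (sb E7584 F19586)
theorem E7736 : n14124 = n14112 := ((((iv F24639)).symm.trans (sb E7584 D14124))).symm
theorem E7737 : n17647 = n14599 := ((D17647).symm.trans (sb E7585 F29225))
theorem E7738 : n14188 = n13650 := (((iv F24788)).symm.trans (sb E7585 (iv F23950)))
theorem F32543 : act 6 n12986 = n10810 := (sb E7585 (iv D13630))
theorem F32544 : act 5 n10825 = n10432 := (sb E7586 F19662)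
theorem F32545 : act 0 n12845 = n11821 := (sb E7588 F26925)
theorem E7739 : n12983 = n12816 := (((F22488).symm.trans (sb E7588 F26927))).symm
theorem F32546 : act 4 n10326 = n6008 := (sb E7589 F18440)
theorem F32547 : act 0 n15510 = n17385 := (sb E7590 F30507)
theorem E7740 : n15828 = n12853 := (((iv F27370)).symm.trans (sb E7590 (iv D17402)))
theorem E7741 : n12984 = n12948 := ((F26929).symm.trans (sb E7590 (iv F30509)))
theorem E7742 : n12974 = n12945 := ((((iv F22714)).symm.trans (sb E7591 (iv F22742)))).symm
theorem F32548 : act 5 n10412 = n11821 := (sb E7591 (iv F20890))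
theorem E7743 : n12985 = n12809 := ((((iv F22421)).symm.trans (sb E7591 D12985))).symm
theorem F32549 : act 4 n10321 = n6010 := (sb E7592 F18445)
theorem F32550 : act 5 n10321 = n9874 := (sb E7592 (iv F18446))
theorem E7747 : n708 = n179 := (((F664).symm.trans (sb E7594 F2342))).symm
theorem F32551 : act 1 n358 = n682 := (sb E7595 (iv F1245))
theorem E7748 : n710 = n178 := ((((iv D358)).symm.trans (sb E7595 D710))).symm
theorem E7754 : n13079 = n517 := ((((iv F14709)).symm.trans (sb E7599 (iv F22906)))).symm
theorem E7755 : n15851 = n1069 := ((((iv F1853)).symm.trans (sb E7599 (iv F27399)))).symm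
theorem E7756 : n9919 = n1077 := (((D1077).symm.trans (sb E7599 (iv D11992)))).symm
theorem F32552 : act 1 n1163 = n1116 := (sb E7601 (iv D2291))
theorem E7759 : n2389 = n1366 := (((D1366).symm.trans (sb E7602 F16981))).symm
theorem E7760 : n8566 = n970 := (((D970).symm.trans (sb E7603 F17122))).symm
theorem E7763 : n2943 = n144 := ((((iv D298)).symm.trans (sb E7604 D2943))).symm
theorem E7764 : n5839 = n585 := (((D585).symm.trans (sb E7605 F17124))).symm
theorem E7765 : n5834 = n1433 := ((((iv F16807)).symm.trans (sb E7606 (iv F8882)))).symm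
theorem F32553 : act 1 n1165 = n1367 := (sb E7606 F4419)
theorem E7766 : n5837 = n1447 := ((((iv F2370)).symm.trans (sb E7606 D5837))).symm
theorem E7768 : n8563 = n4096 := (((D4096).symm.trans (sb E7607 F19826))).symm
theorem E7769 : n11192 = n1969 := ((((iv F3139)).symm.trans (sb E7607 (iv F19834)))).symm
theorem E7770 : n8561 = n4097 := (((D4097).symm.trans (sb E7607 (iv D11190)))).symm
theorem E7777 : n3059 = n357 := ((((iv F685)).symm.trans (sb E7610 F17261))).symm
theorem E7778 : n12883 = n2350 := (((D2350).symm.trans (sb E7611 (iv F22562)))).symm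
theorem E7779 : n6130 = n1419 := ((((iv F2340)).symm.trans (sb E7611 F18296))).symm
theorem E7780 : n5944 = n2368 := (((F4546).symm.trans (sb E7612 F18285))).symm
theorem E7781 : n12851 = n6042 := ((((iv F9174)).symm.trans (sb E7613 (iv F22502)))).symm
theorem E7796 : n9850 = n5690 := ((((iv F8627)).symm.trans (sb E7621 (iv F17520)))).symm
theorem F32554 : act 5 n2744 = n2385 := (sb E7621 (iv D4952))
theorem F32555 : act 4 n1409 = n2900 := (sb E7622 (iv D5994))
theorem E7798 : n10409 = n2906 := (((D2906).symm.trans (sb E7622 D10409))).symm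
theorem F32556 : act 4 n1411 = n2902 := (sb E7623 F9105)
theorem E7799 : n15700 = n12813 := (((D12813).symm.trans (sb E7625 (iv F27214)))).symm
theorem F32557 : act 4 n10323 = n9881 := (sb E7625 F21052)
theorem F32558 : act 5 n10323 = n9875 := (sb E7625 (iv D11916))
theorem E7802 : n10425 = n10410 := (((D10410).symm.trans (sb E7627 D10425))).symm
theorem E7803 : n14260 = n11154 := (((D11154).symm.trans (sb E7628 (iv F24912)))).symm
theorem F32559 : act 5 n8526 = n8525 := (sb E7628 (iv D11153))
theorem F32560 : act 0 n8528 = n8525 := (sb E7629 (iv D11151))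
theorem E7804 : n14257 = n11157 := ((((iv F19778)).symm.trans (sb E7629 D14257))).symm
theorem F32561 : act 4 n8528 = n8526 := (sb E7629 F19769)
theorem E7805 : n14117 = n9878 := ((((iv F17565)).symm.trans (sb E7629 (iv F24645)))).symm
theorem E7808 : n17406 = n11985 := ((((iv F21147)).symm.trans (sb E7636 (iv F30518)))).symm
theorem E7810 : n14913 = n239 := ((((iv D476)).symm.trans (sb E7638 (iv F25930)))).symm
theorem E7811 : n10517 = n945 := (((D945).symm.trans (sb E7638 F22574))).symm
theorem E7819 : n4497 = n959 := ((((iv F1676)).symm.trans (sb E7642 F13873))).symm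
theorem E7821 : n14911 = n935 := (((F3051).symm.trans (sb E7644 (iv F25923)))).symm
theorem E7839 : n4499 = n3986 := ((((iv F6081)).symm.trans (sb E7652 F13876))).symm
theorem F32562 : act 1 n8348 = n10825 := (sb E7653 (iv F19215))
theorem E7842 : n11471 = n11103 := (((D11103).symm.trans (sb E7653 (iv F20293)))).symm
theorem E7844 : n17532 = n10413 := (((D10413).symm.trans (sb E7657 (iv F30740)))).symm
theorem F32563 : act 4 n6000 = n10404 := (sb E7657 (iv D12933))
theorem E7846 : n17536 = n10415 := (((D10415).symm.trans (sb E7657 D17536))).symm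
theorem E7847 : n17537 = n10416 := (((D10416).symm.trans (sb E7657 D17537))).symm
theorem E7851 : n17543 = n10420 := (((D10420).symm.trans (sb E7659 D17543))).symm
theorem F32564 : act 4 n6002 = n10406 := (sb E7659 F22698)
theorem E7852 : n17544 = n10421 := (((D10421).symm.trans (sb E7659 D17544))).symm
theorem F32565 : act 4 n6003 = n10407 := (sb E7660 F22700)
theorem E7857 : n17582 = n17539 := (((D17539).symm.trans (sb E7662 D17582))).symm
theorem F32566 : act 2 n12935 = n17355 := (sb E7662 (iv F30433))
theorem E7863 : n17568 = n17531 := (((D17531).symm.trans (sb E7665 (iv F30792)))).symm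
theorem E7865 : n17572 = n17533 := (((D17533).symm.trans (sb E7665 D17572))).symm
theorem E7869 : n17581 = n17538 := (((D17538).symm.trans (sb E7667 D17581))).symm
theorem E7875 : n17596 = n17546 := (((D17546).symm.trans (sb E7670 D17596))).symm
theorem E7876 : n17597 = n17547 := (((D17547).symm.trans (sb E7670 D17597))).symm
theorem E7878 : n17599 = n17549 := (((D17549).symm.trans (sb E7671 D17599))).symm
theorem E7879 : n2165 = n1956 := ((((iv F3118)).symm.trans (sb E7672 (iv D4496)))).symm
theorem E7880 : n8505 = n2134 := (((iv F12690)).symm.trans (sb E7673 F6790))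
theorem F32570 : act 2 n4087 = n2133 := (sb E7673 (iv D4447))
theorem E7881 : n8483 = n5743 := (((iv F12652)).symm.trans (sb E7673 F16968))
theorem F32571 : act 0 n4448 = n8352 := (sb E7674 F19670)
theorem E7882 : n14192 = n9194 := (((D9194).symm.trans (sb E7674 (iv F24797)))).symm
theorem F32572 : act 4 n4448 = n8348 := (sb E7674 (iv D11104))
theorem E7883 : n14885 = n14195 := ((((iv F24801)).symm.trans (sb E7675 D14885))).symm
theorem E7884 : n14199 = n11442 := ((D14199).symm.trans (sb E7675 F20286))
theorem E7885 : n14187 = n12843 := (((iv F24787)).symm.trans (sb E7675 (iv F22480)))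
theorem F32573 : act 4 n10338 = n8337 := (sb E7676 (iv D11100))
theorem F32574 : act 5 n10338 = n8352 := (sb E7676 F19660)
theorem E7887 : n6102 = n1923 := (((D1923).symm.trans (sb E7678 F18554))).symm
theorem E7888 : n8387 = n8290 := ((D8387).symm.trans (sb E7679 F18454))
theorem F32575 : act 2 n4015 = n6011 := (sb E7679 (iv D10436))
theorem E7889 : n4120 = n1972 := (((D1972).symm.trans (sb E7680 F15914))).symm
theorem E7890 : n8562 = n8332 := ((D8562).symm.trans (sb E7681 F12722))
theorem E7892 : n5835 = n2387 := (((D2387).symm.trans (sb E7683 (iv F8883)))).symm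
theorem E7893 : n5827 = n2388 := (((D2388).symm.trans (sb E7683 (iv F8875)))).symm
theorem E7894 : n8609 = n8289 := ((F17314).symm.trans (sb E7684 F18205))
theorem E7895 : n5752 = n2419 := (((F17315).symm.trans (sb E7684 F18206))).symm
theorem F32576 : act 6 n4950 = n5745 := (sb E7684 F18208)
theorem E7896 : n12805 = n9907 := ((((iv F17604)).symm.trans (sb E7685 (iv F22412)))).symm
theorem F32577 : act 6 n4951 = n5749 := (sb E7685 F18197)
theorem E7903 : n14123 = n14118 := (((D14118).symm.trans (sb E7688 (iv F24660)))).symm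
theorem F32578 : act 5 n11061 = n8287 := (sb E7688 (iv D11065))
theorem F32579 : act 1 n11063 = n9874 := (sb E7692 F19838)
theorem E7904 : n14327 = n14121 := (((D14121).symm.trans (sb E7692 D14327))).symm
theorem F32580 : act 6 n11914 = n12845 := (sb E7693 F30378)
theorem E7905 : n17405 = n11976 := ((((iv F21133)).symm.trans (sb E7695 (iv F30515)))).symm
theorem F32581 : act 1 n10805 = n7824 := (sb E7696 F19220)
theorem F32582 : act 3 n10805 = n13617 := (sb E7696 (iv F29118))
theorem E7906 : n7822 = n7821 := ((F19164).symm.trans (sb E7696 (iv D10826)))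
theorem E7909 : n4020 = n4017 := ((((iv F6123)).symm.trans (sb E7697 (iv D8397)))).symm
theorem F32583 : act 3 n8291 = n11062 := (sb E7698 (iv F19577))
theorem F32584 : act 5 n8291 = n4015 := (sb E7698 (iv D8388))
theorem F32585 : act 6 n8291 = n7824 := (sb E7698 F12513)
theorem E7911 : n6095 = n1807 := (((D1807).symm.trans (sb E7699 F18551))).symm
theorem E7912 : n4082 = n3774 := (((iv F17063)).symm.trans (sb E7700 (iv F16975)))
theorem F32586 : act 6 n2952 = n1806 := (sb E7700 (iv D3747))
theorem F32587 : act 2 n7879 = n8291 := (sb E7701 (iv F17241))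
theorem F32588 : act 5 n7879 = n6011 := (sb E7701 (iv F17412))
theorem E7920 : n6120 = n287 := (((F16559).symm.trans (sb E7705 (iv F17346)))).symm
theorem E7921 : n5930 = n2300 := (((D2300).symm.trans (sb E7706 (iv F16623)))).symm
theorem E7922 : n6124 = n1135 := (((F16583).symm.trans (sb E7706 F17345))).symm
theorem E7923 : n2938 = n713 := ((((iv F16693)).symm.trans (sb E7706 F9198))).symm
theorem F32589 : act 0 n2872 = n2298 := (sb E7707 (iv D4774))
theorem E7926 : n2949 = n2824 := ((((iv F16626)).symm.trans (sb E7707 (iv F16937)))).symm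
theorem F32590 : act 2 n2876 = n2298 := (sb E7708 (iv F17283))
theorem F32591 : act 5 n1426 = n2298 := (sb E7709 F16806)
theorem E7928 : n2951 = n2821 := ((((iv F15561)).symm.trans (sb E7709 D2951))).symm
theorem E7933 : n13070 = n12850 := (((D12850).symm.trans (sb E7713 (iv F22887)))).symm
theorem E7934 : n6039 = n6029 := (((F18243).symm.trans (sb E7713 (iv D10478)))).symm
theorem E7936 : n6023 = n4832 := (((iv F9144)).symm.trans (sb E7714 (iv F16538)))
theorem F32592 : act 5 n5694 = n4950 := (sb E7715 F17333)
theorem E7950 : n9921 = n1106 := ((((iv F1905)).symm.trans (sb E7723 F18636))).symm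
theorem E7955 : n8336 = n5934 := (((iv F15183)).symm.trans (sb E7727 F18335))
theorem E7956 : n10358 = n4730 := (((F16810).symm.trans (sb E7727 F18336))).symm
theorem F32593 : act 1 n8288 = n11062 := (sb E7730 (iv D14120))
theorem F32594 : act 4 n10811 = n12986 := (sb E7731 F30866)
theorem F32595 : act 0 n10341 = n8337 := (sb E7733 F19654)
theorem F32596 : act 1 n10341 = n9703 := (sb E7733 F19655)
theorem E7959 : n14183 = n12849 := ((((iv F22496)).symm.trans (sb E7733 D14183))).symm
theorem F32597 : act 5 n10341 = n8348 := (sb E7733 F19656)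
theorem F32598 : act 6 n10341 = n8337 := (sb E7733 F19657)
theorem F32599 : act 4 n11822 = n12845 := (sb E7734 (iv D17386))
theorem E7960 : n17553 = n10427 := ((((iv F18438)).symm.trans (sb E7735 (iv F30774)))).symm
theorem F32600 : act 4 n6009 = n10412 := (sb E7735 F22717)
theorem F32601 : act 0 n14112 = n12986 := (sb E7736 F24661)
theorem F32602 : act 3 n14599 = n12986 := (sb E7737 (iv D17647))
theorem F32603 : act 5 n13650 = n12986 := (sb E7738 F24788)
theorem E7962 : n17640 = n17333 := (((D17333).symm.trans (sb E7739 D17640))).symm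
theorem E7963 : n17641 = n17328 := ((((iv F30396)).symm.trans (sb E7739 D17641))).symm
theorem F32604 : act 4 n12816 = n10433 := (sb E7739 F22755)
theorem E7964 : n17818 = n17395 := ((((iv F30495)).symm.trans (sb E7740 (iv F31104)))).symm
theorem F32605 : act 2 n12853 = n15510 := (sb E7740 F27370)
theorem E7965 : n11977 = n10343 := ((((iv D12853)).symm.trans (sb E7740 F27371))).symm
theorem E7968 : n17643 = n17562 := (((D17562).symm.trans (sb E7741 D17643))).symm
theorem F32606 : act 5 n12948 = n15510 := (sb E7741 (iv F26929))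
theorem E7969 : n17644 = n17316 := ((((iv F30371)).symm.trans (sb E7741 D17644))).symm
theorem E7970 : n17620 = n17556 := ((((iv F30779)).symm.trans (sb E7742 (iv F30845)))).symm
theorem E7971 : n17623 = n17559 := (((D17559).symm.trans (sb E7742 D17623))).symm
theorem E7972 : n17645 = n17315 := (((D17315).symm.trans (sb E7743 D17645))).symm
theorem F32607 : act 4 n12809 = n10435 := (sb E7743 F22759)
theorem F32608 : act 5 n12809 = n11914 := (sb E7743 (iv F22760))
theorem E7978 : n726 = n84 := ((((iv D179)).symm.trans (sb E7747 (iv F1312)))).symm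
theorem F32609 : act 3 n179 = n358 := (sb E7747 (iv D708))
theorem E7979 : n1425 = n361 := (((D361).symm.trans (sb E7747 D1425))).symm
theorem E7980 : n721 = n86 := (((F358).symm.trans (sb E7748 (iv F1302)))).symm
theorem E7989 : n13829 = n263 := ((((iv D517)).symm.trans (sb E7754 (iv F24310)))).symm
theorem E7990 : n17833 = n1019 := ((((iv F1778)).symm.trans (sb E7754 (iv F31131)))).symm
theorem E7991 : n10485 = n632 := (((F16831).symm.trans (sb E7754 (iv D13079)))).symm
theorem E7992 : n11991 = n2185 := (((D2185).symm.trans (sb E7755 (iv D15851)))).symm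
theorem E7993 : n8509 = n2097 := ((((iv F16829)).symm.trans (sb E7756 F17623))).symm
theorem E7997 : n4834 = n2817 := ((((iv F4412)).symm.trans (sb E7759 (iv F17311)))).symm
theorem F32610 : act 3 n1366 = n1165 := (sb E7759 F3763)
theorem F32611 : act 5 n1366 = n1162 := (sb E7759 (iv D2389))
theorem E7998 : n4118 = n1973 := (((D1973).symm.trans (sb E7760 F12785))).symm
theorem E7999 : n8613 = n977 := ((((iv F1708)).symm.trans (sb E7760 (iv F17339)))).symm
theorem E8000 : n4116 = n1974 := (((D1974).symm.trans (sb E7760 (iv D8566)))).symm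
theorem E8006 : n1486 = n183 := ((((iv F366)).symm.trans (sb E7763 (iv F17259)))).symm
theorem E8007 : n10363 = n1164 := (((D1164).symm.trans (sb E7764 (iv F18287)))).symm
theorem E8008 : n2967 = n720 := ((((iv F1299)).symm.trans (sb E7764 F17258))).symm
theorem E8009 : n2877 = n1181 := (((F2355).symm.trans (sb E7765 F17341))).symm
theorem F32612 : act 3 n1447 = n2876 := (sb E7766 F17290)
theorem E8010 : n10359 = n1180 := ((((iv F16692)).symm.trans (sb E7766 (iv F18276)))).symm
theorem F32613 : act 5 n4096 = n4115 := (sb E7768 (iv D8563))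
theorem E8013 : n14309 = n4110 := ((((iv F6235)).symm.trans (sb E7769 (iv F24974)))).symm
theorem E8014 : n11123 = n3979 := ((((iv F6069)).symm.trans (sb E7769 F19836))).symm
theorem E8015 : n8608 = n4112 := (((D4112).symm.trans (sb E7769 (iv D11192)))).symm
theorem F32614 : act 0 n4097 = n4115 := (sb E7770 (iv D8561))
theorem E8027 : n2966 = n706 := ((((iv F1280)).symm.trans (sb E7777 F4777))).symm
theorem E8029 : n10380 = n2924 := ((((iv F4570)).symm.trans (sb E7778 F22564))).symm
theorem E8030 : n10458 = n2923 := ((((iv F4569)).symm.trans (sb E7779 (iv F18500)))).symm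
theorem E8031 : n2911 = n2881 := ((F15855).symm.trans (sb E7780 F9023))
theorem E8032 : n10344 = n4913 := ((((iv F7493)).symm.trans (sb E7780 (iv F18245)))).symm
theorem E8033 : n17396 = n10482 := ((((iv F18530)).symm.trans (sb E7781 (iv F30499)))).symm
theorem F32615 : act 4 n6042 = n10342 := (sb E7781 (iv D12851))
theorem E8034 : n17307 = n4911 := (((F17487).symm.trans (sb E7781 (iv F30360)))).symm
theorem E8049 : n11863 = n10317 := (((D10317).symm.trans (sb E7796 (iv F20972)))).symm
theorem F32616 : act 5 n5690 = n4951 := (sb E7796 F17522)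
theorem E8052 : n12943 = n6006 := (((D6006).symm.trans (sb E7798 D12943))).symm
theorem F32617 : act 4 n2906 = n5995 := (sb E7798 F18418)
theorem E8053 : n17325 = n15589 := ((D17325).symm.trans (sb E7799 F27213))
theorem F32618 : act 5 n12813 = n11915 := (sb E7799 (iv D15700))
theorem E8058 : n12973 = n12944 := (((D12944).symm.trans (sb E7802 D12973))).symm
theorem F32619 : act 5 n11154 = n11152 := (sb E7803 (iv D14260))
theorem F32620 : act 0 n11157 = n11152 := (sb E7804 F24905)
theorem F32621 : act 4 n11157 = n11154 := (sb E7804 F24906)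
theorem F32622 : act 0 n9878 = n11061 := (sb E7805 (iv D14117))
theorem F32623 : act 4 n9878 = n11063 := (sb E7805 F24644)
theorem E8066 : n12854 = n9914 := (((F21148).symm.trans (sb E7808 (iv D17406)))).symm
theorem E8071 : n11486 = n477 := (((D477).symm.trans (sb E7810 (iv D14913)))).symm
theorem E8072 : n8392 = n1925 := (((D1925).symm.trans (sb E7811 F18608))).symm
theorem E8085 : n2166 = n1954 := ((((iv F3115)).symm.trans (sb E7819 F6852))).symm
theorem E8086 : n9291 = n482 := ((((iv D959)).symm.trans (sb E7819 D9291))).symm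
theorem E8089 : n12879 = n1898 := (((D1898).symm.trans (sb E7821 F25922))).symm
theorem F32624 : act 1 n3986 = n7879 := (sb E7839 (iv F11756))
theorem E8110 : n14889 = n14191 := (((D14191).symm.trans (sb E7842 (iv F25873)))).symm
theorem F32625 : act 4 n10413 = n12932 := (sb E7844 (iv D17532))
theorem F32626 : act 4 n10415 = n12934 := (sb E7846 F30746)
theorem F32627 : act 4 n10416 = n12935 := (sb E7847 F30748)
theorem F32628 : act 4 n10420 = n12939 := (sb E7851 F30757)
theorem F32629 : act 4 n10421 = n12940 := (sb E7852 F30759)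
theorem F32631 : act 4 n17539 = n12958 := (sb E7857 F30809)
theorem F32634 : act 4 n17531 = n12950 := (sb E7863 (iv D17568))
theorem F32635 : act 4 n17533 = n12952 := (sb E7865 F30796)
theorem F32637 : act 4 n17538 = n12957 := (sb E7869 F30808)
theorem F32638 : act 4 n17546 = n12965 := (sb E7875 F30820)
theorem E8114 : n17624 = n17560 := ((((iv F30787)).symm.trans (sb E7875 (iv F30855)))).symm
theorem F32639 : act 4 n17547 = n12966 := (sb E7876 F30822)
theorem F32641 : act 4 n17549 = n12968 := (sb E7878 F30825)
theorem E8116 : n4083 = n1061 := (((iv F6187)).symm.trans (sb E7879 F3434))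
theorem F32642 : act 2 n1956 = n1060 := (sb E7879 (iv D2165))
theorem E8117 : n4072 = n2870 := (((iv F6177)).symm.trans (sb E7879 F16842))
theorem F32643 : act 0 n2134 = n4087 := (sb E7880 F12690)
theorem F32644 : act 5 n5743 = n4087 := (sb E7881 F12652)
theorem F32645 : act 0 n9194 = n11107 := (sb E7882 F24796)
theorem F32646 : act 4 n9194 = n11103 := (sb E7882 (iv D14192))
theorem F32647 : act 3 n14195 = n14838 := (sb E7883 F25868)
theorem F32648 : act 3 n11442 = n11107 := (sb E7884 (iv D14199))
theorem F32649 : act 4 n12843 = n11099 := (sb E7885 (iv D14187))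
theorem F32650 : act 5 n12843 = n11107 := (sb E7885 F24787)
theorem E8118 : n4019 = n4016 := (((D4016).symm.trans (sb E7887 F15883))).symm
theorem F32651 : act 2 n1923 = n2952 := (sb E7887 (iv D6102))
theorem F32652 : act 1 n8290 = n4015 := (sb E7888 (iv D8387))
theorem F32653 : act 3 n8290 = n11061 := (sb E7888 (iv F19573))
theorem F32654 : act 6 n8290 = n4115 := (sb E7888 F12510)
theorem E8119 : n4117 = n4067 := ((D4117).symm.trans (sb E7889 F6255))
theorem F32655 : act 1 n8332 = n4951 := (sb E7890 F12779)
theorem F32656 : act 2 n8332 = n4115 := (sb E7890 (iv D8562))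
theorem E8120 : n11191 = n11093 := ((((iv F19641)).symm.trans (sb E7890 D11191))).symm
theorem E8124 : n4140 = n4018 := (((iv F17313)).symm.trans (sb E7892 F16627))
theorem E8125 : n2879 = n1178 := ((((iv F17308)).symm.trans (sb E7892 F16628))).symm
theorem F32657 : act 6 n2387 = n2872 := (sb E7892 F16629)
theorem F32658 : act 6 n2388 = n2876 := (sb E7893 F16622)
theorem F32659 : act 1 n8289 = n4950 := (sb E7894 (iv F17314))
theorem E8126 : n8557 = n4138 := (((iv F12766)).symm.trans (sb E7894 (iv D8609)))
theorem E8127 : n9747 = n1177 := ((((iv D2419)).symm.trans (sb E7895 F16631))).symm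
theorem E8128 : n10346 = n4909 := ((((iv F7486)).symm.trans (sb E7895 (iv F18250)))).symm
theorem F32660 : act 6 n2419 = n2774 := (sb E7895 (iv D5752))
theorem E8129 : n17306 = n11975 := (((D11975).symm.trans (sb E7896 (iv F30354)))).symm
theorem F32661 : act 6 n9907 = n10342 := (sb E7896 F22413)
theorem F32662 : act 0 n14118 = n11919 := (sb E7903 F24659)
theorem F32663 : act 5 n14118 = n11064 := (sb E7903 (iv D14123))
theorem F32664 : act 4 n14121 = n11919 := (sb E7904 F25004)
theorem E8139 : n12856 = n9908 := ((((iv D11976)).symm.trans (sb E7905 F30516))).symm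
theorem F32665 : act 6 n11976 = n12853 := (sb E7905 (iv D17405))
theorem E8140 : n10827 = n3743 := ((((iv D7821)).symm.trans (sb E7906 (iv F19225)))).symm
theorem F32666 : act 4 n7821 = n10805 := (sb E7906 (iv F19164))
theorem F32667 : act 0 n4017 = n2952 := (sb E7909 F16997)
theorem F32668 : act 4 n4017 = n8291 := (sb E7909 (iv F12325))
theorem F32669 : act 3 n1807 = n2952 := (sb E7911 F9235)
theorem F32670 : act 5 n3774 = n2952 := (sb E7912 F17063)
theorem E8158 : n5029 = n566 := ((((iv F1055)).symm.trans (sb E7920 F15938))).symm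
theorem E8161 : n4071 = n2873 := ((F15190).symm.trans (sb E7921 F9013))
theorem E8162 : n5826 = n2331 := (((F16699).symm.trans (sb E7921 F17344))).symm
theorem F32671 : act 3 n2300 = n2872 := (sb E7921 (iv D5930))
theorem E8163 : n2964 = n2329 := ((((iv F3679)).symm.trans (sb E7922 F9260))).symm
theorem F32672 : act 3 n713 = n1426 := (sb E7923 F4588)
theorem F32673 : act 3 n2824 = n1432 := (sb E7926 F4596)
theorem F32674 : act 3 n2821 = n1433 := (sb E7928 F4597)
theorem F32675 : act 5 n2821 = n2387 := (sb E7928 (iv F16951))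
theorem E8177 : n17819 = n17394 := (((D17394).symm.trans (sb E7933 D17819))).symm
theorem E8178 : n10477 = n10459 := (((F22499).symm.trans (sb E7933 (iv D13070)))).symm
theorem E8179 : n2922 = n2917 := ((((iv D6029)).symm.trans (sb E7934 (iv D6039)))).symm
theorem E8180 : n10448 = n9761 := (((iv F18480)).symm.trans (sb E7934 (iv F17491)))
theorem F32676 : act 0 n4832 = n5690 := (sb E7936 (iv F15846))
theorem F32677 : act 2 n4832 = n5694 := (sb E7936 (iv F15626))
theorem F32678 : act 6 n4832 = n2918 := (sb E7936 F9144)
theorem E8198 : n8435 = n2125 := (((F15144).symm.trans (sb E7950 F17627))).symm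
theorem F32679 : act 0 n5934 = n3982 := (sb E7955 F12407)
theorem F32680 : act 1 n5934 = n4699 := (sb E7955 F15183)
theorem E8205 : n10379 = n3981 := (((iv F18344)).symm.trans (sb E7955 (iv D8336)))
theorem F32681 : act 5 n5934 = n3986 := (sb E7955 F12409)
theorem F32682 : act 6 n5934 = n3982 := (sb E7955 F15184)
theorem E8206 : n8293 = n5829 := (((iv F16809)).symm.trans (sb E7956 F18271))
theorem E8207 : n12804 = n9763 := ((((iv F14602)).symm.trans (sb E7956 (iv F22409)))).symm
theorem F32683 : act 0 n12849 = n11099 := (sb E7959 F24773)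
theorem E8211 : n17393 = n14077 := ((D17393).symm.trans (sb E7959 F24776))
theorem F32684 : act 5 n12849 = n11103 := (sb E7959 F24774)
theorem F32685 : act 6 n12849 = n11099 := (sb E7959 F24775)
theorem F32686 : act 4 n10427 = n12945 := (sb E7960 F30775)
theorem F32687 : act 4 n17333 = n12987 := (sb E7962 F30867)
theorem E8212 : n13069 = n13033 := (((F30395).symm.trans (sb E7963 F30870))).symm
theorem F32688 : act 6 n17395 = n15826 := (sb E7964 F31106)
theorem E8214 : n13068 = n12855 := (((D12855).symm.trans (sb E7965 (iv F22885)))).symm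
theorem F32689 : act 3 n17562 = n12988 := (sb E7968 F30874)
theorem F32690 : act 5 n17316 = n15698 := (sb E7969 (iv F30877))
theorem F32691 : act 4 n17556 = n12977 := (sb E7970 F30846)
theorem F32692 : act 4 n17559 = n12980 := (sb E7971 F30852)
theorem F32693 : act 4 n17315 = n12990 := (sb E7972 F30878)
theorem E8220 : n368 = n40 := (((F176).symm.trans (sb E7978 (iv D726)))).symm
theorem F32694 : act 3 n361 = n709 := (sb E7979 F2347)
theorem E8222 : n366 = n185 := (((D185).symm.trans (sb E7980 (iv D721)))).symm
theorem E8238 : n10921 = n518 := (((D518).symm.trans (sb E7989 (iv D13829)))).symm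
theorem E8239 : n13078 = n1233 := (((F16966).symm.trans (sb E7990 (iv D17833)))).symm
theorem E8240 : n10918 = n1259 := (((D1259).symm.trans (sb E7991 (iv F19406)))).symm
theorem E8241 : n11134 = n4337 := ((((iv F16894)).symm.trans (sb E7992 F21157))).symm
theorem E8243 : n8178 = n4370 := (((D4370).symm.trans (sb E7993 F12696))).symm
theorem F32695 : act 5 n2817 = n2388 := (sb E7997 F17312)
theorem F32696 : act 5 n1973 = n1972 := (sb E7998 (iv D4118))
theorem E8251 : n4143 = n1985 := ((((iv F3166)).symm.trans (sb E7999 F12844))).symm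
theorem E8253 : n4139 = n1987 := (((D1987).symm.trans (sb E7999 (iv D8613)))).symm
theorem F32697 : act 0 n1974 = n1972 := (sb E8000 (iv D4116))
theorem F32698 : act 3 n1974 = n1973 := (sb E8000 F6250)
theorem E8254 : n8389 = n2391 := (((F6180).symm.trans (sb E8000 (iv F12515)))).symm
theorem E8262 : n1439 = n365 := ((((iv F702)).symm.trans (sb E8006 F2459))).symm
theorem E8264 : n5945 = n1446 := ((((iv F2369)).symm.trans (sb E8007 F18289))).symm
theorem F32699 : act 3 n720 = n1440 := (sb E8008 F4619)
theorem E8265 : n1434 = n1397 := ((F15862).symm.trans (sb E8009 F4499))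
theorem F32700 : act 3 n1181 = n1396 := (sb E8009 (iv D2877))
theorem E8266 : n8390 = n2425 := (((D2425).symm.trans (sb E8010 F18273))).symm
theorem E8273 : n11182 = n8552 := ((((iv F12760)).symm.trans (sb E8013 F24975))).symm
theorem E8275 : n11178 = n8555 := (((D8555).symm.trans (sb E8013 (iv D14309)))).symm
theorem E8277 : n8467 = n8333 := (((D8333).symm.trans (sb E8014 (iv D11123)))).symm
theorem E8278 : n10357 = n3959 := (((F6238).symm.trans (sb E8015 (iv F18268)))).symm
theorem E8297 : n6028 = n1418 := ((((iv F2339)).symm.trans (sb E8027 (iv F9157)))).symm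
theorem E8299 : n7867 = n6043 := (((D6043).symm.trans (sb E8029 F18347))).symm
theorem E8300 : n12857 = n6040 := ((((iv F9173)).symm.trans (sb E8029 (iv F22512)))).symm
theorem E8301 : n13032 = n6041 := (((D6041).symm.trans (sb E8030 D13032))).symm
theorem F32701 : act 4 n2923 = n6029 := (sb E8030 F18501)
theorem E8302 : n1413 = n1401 := (((F4502).symm.trans (sb E8031 (iv D2911)))).symm
theorem F32702 : act 1 n2881 = n2368 := (sb E8031 (iv F15855))
theorem E8303 : n6015 = n5754 := ((((iv F8759)).symm.trans (sb E8031 D6015))).symm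
theorem E8305 : n2887 = n2369 := (((iv F16545)).symm.trans (sb E8031 F15851))
theorem F32703 : act 4 n4913 = n5750 := (sb E8032 (iv D10344))
theorem F32704 : act 4 n10482 = n12850 := (sb E8033 (iv D17396))
theorem E8306 : n14174 = n9911 := (((D9911).symm.trans (sb E8034 F30357))).symm
theorem E8314 : n15588 = n12803 := (((D12803).symm.trans (sb E8049 D15588))).symm
theorem F32705 : act 5 n10317 = n9907 := (sb E8049 F20974)
theorem E8318 : n17552 = n10426 := (((D10426).symm.trans (sb E8052 D17552))).symm
theorem F32706 : act 4 n6006 = n10410 := (sb E8052 F22712)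
theorem E8319 : n17554 = n10428 := (((D10428).symm.trans (sb E8052 D17554))).symm
theorem F32707 : act 0 n15589 = n17304 := (sb E8053 F30390)
theorem F32708 : act 2 n15589 = n12813 := (sb E8053 (iv D17325))
theorem E8320 : n13015 = n11864 := ((((iv D15589)).symm.trans (sb E8053 F30391))).symm
theorem E8331 : n17619 = n17555 := (((D17555).symm.trans (sb E8058 D17619))).symm
theorem E8337 : n17399 = n11986 := (((D11986).symm.trans (sb E8066 (iv F30503)))).symm
theorem F32709 : act 4 n9914 = n10343 := (sb E8066 (iv D12854))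
theorem E8338 : n17407 = n10480 := ((((iv F18528)).symm.trans (sb E8066 D17407))).symm
theorem E8347 : n10356 = n946 := (((D946).symm.trans (sb E8071 F20331))).symm
theorem F32710 : act 1 n1925 = n4017 := (sb E8072 (iv D8392))
theorem F32711 : act 1 n1954 = n3774 := (sb E8085 (iv F5779))
theorem E8366 : n9043 = n925 := ((((iv F1638)).symm.trans (sb E8086 F13875))).symm
theorem E8368 : n10361 = n3958 := (((D3958).symm.trans (sb E8089 F22548))).symm
theorem F32712 : act 4 n14191 = n11469 := (sb E8110 (iv D14889))
theorem F32713 : act 4 n17560 = n12981 := (sb E8114 F30854)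
theorem F32715 : act 0 n1061 = n1956 := (sb E8116 F6187)
theorem F32716 : act 3 n1061 = n1954 := (sb E8116 (iv D4083))
theorem F32717 : act 3 n2870 = n1950 := (sb E8117 (iv D4072))
theorem F32718 : act 5 n2870 = n1956 := (sb E8117 F6177)
theorem F32719 : act 4 n4016 = n8290 := (sb E8118 (iv F12324))
theorem F32720 : act 5 n4016 = n1924 := (sb E8118 (iv D4019))
theorem F32721 : act 1 n4067 = n2388 := (sb E8119 F6251)
theorem F32722 : act 2 n4067 = n1972 := (sb E8119 (iv D4117))
theorem F32723 : act 1 n11093 = n9907 := (sb E8120 F19830)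
theorem E8383 : n14326 = n14178 := (((D14178).symm.trans (sb E8120 D14326))).symm
theorem F32724 : act 1 n4018 = n2387 := (sb E8124 F17313)
theorem E8387 : n4818 = n592 := ((((iv D1178)).symm.trans (sb E8125 F16549))).symm
theorem F32725 : act 6 n1178 = n1396 := (sb E8125 (iv D2879))
theorem F32726 : act 0 n4138 = n4112 := (sb E8126 F12765)
theorem F32727 : act 2 n4138 = n8289 := (sb E8126 F12766)
theorem F32728 : act 6 n4138 = n4111 := (sb E8126 (iv D8557))
theorem E8390 : n11839 = n2364 := ((((iv F3728)).symm.trans (sb E8127 (iv F20930)))).symm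
theorem E8392 : n4720 = n2420 := (((D2420).symm.trans (sb E8127 (iv D9747)))).symm
theorem F32729 : act 6 n4909 = n5750 := (sb E8128 (iv D10346))
theorem F32730 : act 6 n11975 = n12850 := (sb E8129 F30355)
theorem F32731 : act 6 n9908 = n10343 := (sb E8139 (iv D12856))
theorem F32732 : act 6 n3743 = n7821 := (sb E8140 (iv D10827))
theorem E8430 : n4037 = n1052 := (((F15024).symm.trans (sb E8158 F15736))).symm
theorem F32733 : act 0 n2873 = n1950 := (sb E8161 F6175)
theorem F32734 : act 1 n2873 = n2300 := (sb E8161 (iv F15190))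
theorem E8436 : n5933 = n1949 := ((D5933).symm.trans (sb E8161 (iv D4071)))
theorem F32735 : act 5 n2873 = n1954 := (sb E8161 F6176)
theorem F32736 : act 6 n2873 = n1950 := (sb E8161 F15058)
theorem E8437 : n4022 = n2818 := (((iv F16698)).symm.trans (sb E8162 F8873))
theorem F32737 : act 3 n2331 = n2817 := (sb E8162 (iv D5826))
theorem F32738 : act 0 n2329 = n2817 := (sb E8163 F15550)
theorem F32739 : act 2 n2329 = n2821 := (sb E8163 (iv F15560))
theorem F32740 : act 6 n2329 = n1440 := (sb E8163 F4613)
theorem F32741 : act 4 n17394 = n13075 := (sb E8177 F31107)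
theorem E8454 : n13059 = n13030 := ((((iv F22843)).symm.trans (sb E8178 (iv F22871)))).symm
theorem E8455 : n6037 = n6027 := ((((iv F9153)).symm.trans (sb E8179 (iv F9169)))).symm
theorem F32742 : act 0 n9761 = n10317 := (sb E8180 F18478)
theorem F32743 : act 6 n9761 = n6029 := (sb E8180 F18480)
theorem E8476 : n4430 = n4038 := ((D4430).symm.trans (sb E8198 F12576))
theorem F32744 : act 2 n3981 = n5934 := (sb E8205 F18344)
theorem F32745 : act 1 n5829 = n4730 := (sb E8206 F16809)
theorem E8485 : n11068 = n10320 := ((((iv F18199)).symm.trans (sb E8206 D11068))).symm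
theorem E8486 : n4469 = n3963 := (((iv F16850)).symm.trans (sb E8206 F12329))
theorem E8487 : n17305 = n11865 := (((D11865).symm.trans (sb E8207 (iv F30352)))).symm
theorem F32746 : act 4 n9763 = n10317 := (sb E8207 (iv D12804))
theorem F32747 : act 3 n14077 = n12849 := (sb E8211 (iv D17393))
theorem E8490 : n17817 = n17738 := (((D17738).symm.trans (sb E8212 D17817))).symm
theorem F32748 : act 6 n13033 = n15589 := (sb E8212 (iv F27071))
theorem E8492 : n17816 = n17409 := (((D17409).symm.trans (sb E8214 D17816))).symm
theorem E8496 : n187 = n87 := (((D87).symm.trans (sb E8220 (iv D368)))).symm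
theorem E8500 : n377 = n192 := (((F392).symm.trans (sb E8222 F729))).symm
theorem F32749 : act 3 n185 = n185 := (sb E8222 (iv D366))
theorem E8502 : n723 = n367 := (((D367).symm.trans (sb E8222 D723))).symm
theorem E8521 : n8130 = n1026 := (((D1026).symm.trans (sb E8238 (iv D10921)))).symm
theorem E8524 : n13826 = n2537 := (((D2537).symm.trans (sb E8239 (iv F24303)))).symm
theorem E8525 : n11114 = n2593 := (((D2593).symm.trans (sb E8240 (iv F19699)))).symm
theorem E8526 : n8116 = n2594 := (((D2594).symm.trans (sb E8240 (iv D10918)))).symm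
theorem E8528 : n10927 = n8988 := (((D8988).symm.trans (sb E8241 F19751))).symm
theorem E8531 : n9042 = n3905 := ((D9042).symm.trans (sb E8243 (iv D8178)))
theorem F32750 : act 2 n1985 = n4018 := (sb E8251 F6284)
theorem E8540 : n4068 = n4065 := ((((iv F6170)).symm.trans (sb E8251 F6285))).symm
theorem F32751 : act 6 n1985 = n1986 := (sb E8251 (iv D4143))
theorem F32752 : act 0 n1987 = n1985 := (sb E8253 (iv D4139))
theorem E8542 : n5823 = n1927 := (((F3168).symm.trans (sb E8253 (iv F15727)))).symm
theorem F32753 : act 3 n1987 = n1986 := (sb E8253 F6280)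
theorem F32754 : act 0 n2391 = n4016 := (sb E8254 (iv D8389))
theorem F32755 : act 3 n2391 = n4018 := (sb E8254 F12514)
theorem F32756 : act 3 n365 = n716 := (sb E8262 F2361)
theorem E8552 : n715 = n182 := ((((iv D365)).symm.trans (sb E8262 (iv D1439)))).symm
theorem E8553 : n3766 = n2981 := (((D2981).symm.trans (sb E8264 (iv F16541)))).symm
theorem F32757 : act 3 n1446 = n2878 := (sb E8264 F9024)
theorem E8554 : n714 = n696 := (((F2304).symm.trans (sb E8265 (iv D1434)))).symm
theorem F32758 : act 1 n1397 = n1181 := (sb E8265 (iv F15862))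

end Cfsg.Agent.Helper17.SuzbTC
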