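import Cfsg.Agent.Helper17.SuzbTC.Facts3

set_option autoImplicit false
set_option linter.all false

noncomputable section

namespace Cfsg.Agent.Helper17.SuzbTC

theorem E8556 : n1400 = n1182 := ((F16489).symm.trans (sb E8265 F15854))
theorem F32759 : act 2 n2425 = n4016 := (sb E8266 (iv D8390))
theorem F32760 : act 3 n2425 = n4067 := (sb E8266 F17321)
theorem E8568 : n14313 = n11179 := (((D11179).symm.trans (sb E8273 (iv F24981)))).symm
theorem E8569 : n11095 = n11091 := ((((iv F19636)).symm.trans (sb E8273 F19813))).symm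
theorem F32761 : act 6 n8552 = n8553 := (sb E8273 (iv D11182))
theorem F32762 : act 0 n8555 = n8552 := (sb E8275 (iv D11178))
theorem E8571 : n12802 = n8294 := (((F12762).symm.trans (sb E8275 (iv F22404)))).symm
theorem E8572 : n14308 = n11184 := ((((iv F19814)).symm.trans (sb E8275 D14308))).symm
theorem F32763 : act 4 n8555 = n8553 := (sb E8275 F19805)
theorem E8573 : n10483 = n4064 := (((iv F18533)).symm.trans (sb E8277 (iv D8467)))
theorem F32764 : act 5 n8333 = n4138 := (sb E8277 F12638)
theorem F32765 : act 0 n3959 = n5829 := (sb E8278 F18267)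
theorem F32766 : act 5 n3959 = n5829 := (sb E8278 F18269)
theorem E8598 : n10456 = n2921 := ((((iv F4566)).symm.trans (sb E8297 (iv F18496)))).symm
theorem F32767 : act 4 n1418 = n2917 := (sb E8297 F9158)
theorem E8599 : n2916 = n705 := ((((iv D1418)).symm.trans (sb E8297 (iv D6028)))).symm
theorem E8600 : n8468 = n8334 := (((F15905).symm.trans (sb E8299 (iv F12639)))).symm
theorem E8601 : n10823 = n10479 := ((((iv F18526)).symm.trans (sb E8299 (iv F19208)))).symm
theorem E8602 : n10440 = n3765 := (((iv F18466)).symm.trans (sb E8299 (iv D7867)))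
theorem E8603 : n8304 = n7845 := (((iv F16076)).symm.trans (sb E8299 (iv F16730)))
theorem F32768 : act 4 n6040 = n10345 := (sb E8300 F22513)
theorem E8604 : n17729 = n10474 := ((((iv F18517)).symm.trans (sb E8301 (iv F31009)))).symm
theorem F32769 : act 4 n6041 = n10459 := (sb E8301 F22846)
theorem F32770 : act 1 n1401 = n703 := (sb E8302 (iv D1413))
theorem E8606 : n2912 = n2779 := ((((iv F4351)).symm.trans (sb E8302 D2912))).symm
theorem F32771 : act 1 n5754 = n4913 := (sb E8303 F15942)
theorem E8608 : n10437 = n10348 := ((((iv F18253)).symm.trans (sb E8303 D10437))).symm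
theorem E8610 : n5966 = n4914 := (((iv F16612)).symm.trans (sb E8303 (iv F15943)))
theorem F32772 : act 0 n2369 = n2328 := (sb E8305 F16543)
theorem F32773 : act 2 n2369 = n1401 := (sb E8305 F4511)
theorem E8611 : n4920 = n2319 := ((D4920).symm.trans (sb E8305 F16544))
theorem F32774 : act 6 n2369 = n2881 := (sb E8305 F16545)
theorem F32775 : act 4 n9911 = n11093 := (sb E8306 F24751)
theorem F32776 : act 5 n12803 = n11975 := (sb E8314 F27068)
theorem F32777 : act 4 n10426 = n12944 := (sb E8318 F30773)
theorem F32778 : act 4 n10428 = n12946 := (sb E8319 F30777)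
theorem F32779 : act 0 n11864 = n12803 := (sb E8320 F22814)
theorem F32780 : act 6 n11864 = n10459 := (sb E8320 F22816)
theorem F32781 : act 4 n17555 = n12976 := (sb E8331 F30844)
theorem E8631 : n12992 = n12860 := (((iv F22767)).symm.trans (sb E8337 F30504))
theorem F32782 : act 4 n11986 = n12852 := (sb E8337 (iv D17399))
theorem F32783 : act 4 n10480 = n12855 := (sb E8338 F30521)
theorem E8643 : n5828 = n1926 := (((D1926).symm.trans (sb E8347 F18263))).symm
theorem E8661 : n4371 = n1876 := (((D1876).symm.trans (sb E8366 (iv D9043)))).symm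
theorem F32784 : act 2 n3958 = n5829 := (sb E8368 F18281)
theorem F32785 : act 4 n14178 = n11980 := (sb E8383 F25002)
theorem E8681 : n2321 = n1179 := (((D1179).symm.trans (sb E8387 (iv D4818)))).symm
theorem E8685 : n15542 = n4906 := ((((iv F7480)).symm.trans (sb E8390 (iv F26990)))).symm
theorem E8687 : n9744 = n4910 := (((D4910).symm.trans (sb E8390 (iv D11839)))).symm
theorem F32786 : act 1 n2420 = n2268 := (sb E8392 (iv D4720))
theorem E8688 : n9737 = n1196 := ((((iv F15752)).symm.trans (sb E8392 (iv F14552)))).symm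
theorem E8725 : n2147 = n1933 := ((D2147).symm.trans (sb E8430 (iv D4037)))
theorem F32787 : act 2 n1949 = n2873 := (sb E8436 (iv D5933))
theorem F32788 : act 1 n2818 = n2331 := (sb E8437 F16698)
theorem E8730 : n2148 = n1931 := (((iv F16726)).symm.trans (sb E8437 F6126))
theorem E8751 : n17796 = n17732 := ((((iv F31014)).symm.trans (sb E8454 (iv F31080)))).symm
theorem E8752 : n10472 = n10457 := ((((iv D13030)).symm.trans (sb E8454 (iv D13059)))).symm
theorem E8753 : n17799 = n17735 := (((D17735).symm.trans (sb E8454 D17799))).symm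
theorem E8754 : n17774 = n17724 := ((((iv F31003)).symm.trans (sb E8454 (iv F31060)))).symm
theorem E8756 : n2920 = n2915 := ((((iv D6027)).symm.trans (sb E8455 (iv D6037)))).symm
theorem F32789 : act 0 n4038 = n2126 := (sb E8476 F6759)
theorem F32790 : act 2 n4038 = n2125 := (sb E8476 (iv D4430))
theorem E8768 : n9163 = n8309 := ((((iv F12351)).symm.trans (sb E8476 D9163))).symm
theorem F32791 : act 6 n4038 = n5688 := (sb E8476 (iv F16761))
theorem F32792 : act 1 n10320 = n9763 := (sb E8485 F19592)
theorem E8777 : n14126 = n12808 := ((((iv F22418)).symm.trans (sb E8485 D14126))).symm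
theorem E8778 : n9165 = n8305 := ((F18200).symm.trans (sb E8485 F19594))
theorem F32793 : act 6 n3963 = n5829 := (sb E8486 F16850)
theorem F32794 : act 4 n11865 = n12803 := (sb E8487 (iv D17305))
theorem F32795 : act 3 n17738 = n13073 := (sb E8490 F31103)
theorem F32796 : act 4 n17409 = n13072 := (sb E8492 F31102)
theorem F32797 : act 3 n87 = n87 := (sb E8496 (iv D187))
theorem E8782 : n370 = n188 := (((D188).symm.trans (sb E8496 D370))).symm
theorem E8785 : n739 = n374 := ((((iv F720)).symm.trans (sb E8500 (iv F1339)))).symm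
theorem F32798 : act 3 n192 = n192 := (sb E8500 F728)
theorem E8787 : n191 = n90 := ((((iv D192)).symm.trans (sb E8500 (iv D377)))).symm
theorem E8789 : n1452 = n724 := (((D724).symm.trans (sb E8502 D1452))).symm
theorem F32799 : act 3 n367 = n367 := (sb E8502 F1307)
theorem E8813 : n3884 = n2090 := (((D2090).symm.trans (sb E8521 (iv D8130)))).symm
theorem E8816 : n10919 = n5270 := (((D5270).symm.trans (sb E8524 F24304))).symm
theorem E8817 : n10917 = n5387 := (((D5387).symm.trans (sb E8525 F19700))).symm
theorem E8818 : n5390 = n3878 := ((D5390).symm.trans (sb E8526 (iv D8116)))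
theorem E8820 : n13820 = n11311 := (((D11311).symm.trans (sb E8528 (iv F24290)))).symm
theorem F32800 : act 3 n3905 = n4370 := (sb E8531 (iv D9042))
theorem E8823 : n10094 = n8166 := ((((iv F12175)).symm.trans (sb E8531 (iv F17951)))).symm
theorem F32801 : act 0 n4065 = n2425 := (sb E8540 F15871)
theorem E8830 : n6163 = n1946 := ((((iv D4065)).symm.trans (sb E8540 (iv F9308)))).symm
theorem F32802 : act 2 n4065 = n2391 := (sb E8540 (iv F6181))
theorem F32803 : act 4 n4065 = n8333 := (sb E8540 (iv F12404))
theorem F32804 : act 6 n4065 = n1947 := (sb E8540 (iv D4068))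
theorem F32805 : act 0 n1927 = n2818 := (sb E8542 F8867)
theorem F32806 : act 3 n1927 = n2815 := (sb E8542 (iv D5823))
theorem F32807 : act 5 n1927 = n2818 := (sb E8542 F16762)
theorem F32808 : act 3 n182 = n362 := (sb E8552 (iv D715))
theorem E8839 : n4069 = n4066 := (((iv F15900)).symm.trans (sb E8553 (iv F6171)))
theorem F32809 : act 3 n2981 = n1815 := (sb E8553 F5766)
theorem E8840 : n6115 = n1814 := (((iv F16953)).symm.trans (sb E8553 (iv D3766)))
theorem E8841 : n4033 = n3755 := ((F15637).symm.trans (sb E8553 (iv F16607)))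
theorem F32810 : act 1 n696 = n362 := (sb E8554 (iv D714))
theorem F32811 : act 0 n1182 = n1134 := (sb E8556 F16497)
theorem F32812 : act 2 n1182 = n696 := (sb E8556 (iv D1400))
theorem F32813 : act 3 n1182 = n1130 := (sb E8556 (iv F16542))
theorem E8843 : n2430 = n1129 := ((D2430).symm.trans (sb E8556 F16498))
theorem F32814 : act 6 n1182 = n1397 := (sb E8556 (iv F16489))
theorem E8853 : n14180 = n14175 := ((((iv F24755)).symm.trans (sb E8568 F24982))).symm
theorem F32815 : act 6 n11179 = n11181 := (sb E8568 (iv D14313))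
theorem F32816 : act 0 n11091 = n9911 := (sb E8569 F19645)
theorem F32817 : act 3 n11091 = n8333 := (sb E8569 F19646)
theorem F32818 : act 6 n11091 = n8330 := (sb E8569 (iv D11095))
theorem F32819 : act 0 n8294 = n10320 := (sb E8571 F22403)
theorem E8855 : n17302 = n11069 := (((D11069).symm.trans (sb E8571 (iv F30348)))).symm
theorem F32820 : act 4 n8294 = n10316 := (sb E8571 (iv D12802))
theorem F32821 : act 5 n8294 = n10320 := (sb E8571 F22406)
theorem F32822 : act 0 n11184 = n11179 := (sb E8572 F24971)
theorem F32823 : act 4 n11184 = n11181 := (sb E8572 F24972)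
theorem F32824 : act 1 n4064 = n8333 := (sb E8573 F18533)
theorem F32825 : act 2 n4064 = n6043 := (sb E8573 (iv D10483))
theorem E8883 : n13028 = n6038 := (((D6038).symm.trans (sb E8598 D13028))).symm
theorem F32826 : act 4 n2921 = n6027 := (sb E8598 F18497)
theorem E8885 : n6026 = n1416 := ((((iv D2921)).symm.trans (sb E8598 (iv D10456)))).symm
theorem F32827 : act 4 n705 = n1414 := (sb E8599 (iv D2916))
theorem E8886 : n11096 = n11092 := (((iv F19648)).symm.trans (sb E8600 (iv F19638)))
theorem E8887 : n11097 = n7862 := ((D11097).symm.trans (sb E8600 F12641))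
theorem F32828 : act 6 n8334 = n4064 := (sb E8600 (iv D8468))
theorem E8888 : n13647 = n13071 := (((D13071).symm.trans (sb E8601 (iv F23944)))).symm
theorem F32829 : act 4 n10479 = n7802 := (sb E8601 F19209)
theorem E8889 : n12997 = n7801 := (((iv F22780)).symm.trans (sb E8601 (iv D10823)))
theorem E8890 : n11071 = n10814 := (((iv F19599)).symm.trans (sb E8601 F19210))
theorem F32830 : act 5 n3765 = n6043 := (sb E8602 F18466)
theorem F32831 : act 1 n7845 = n3963 := (sb E8603 (iv D8304))
theorem F32832 : act 2 n7845 = n8334 := (sb E8603 (iv F16131))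
theorem F32833 : act 6 n7845 = n6043 := (sb E8603 F16076)
theorem F32834 : act 4 n10474 = n13030 := (sb E8604 F31010)
theorem F32835 : act 1 n2779 = n1414 := (sb E8606 F4549)
theorem E8892 : n6018 = n5760 := ((((iv F8770)).symm.trans (sb E8606 D6018))).symm
theorem E8894 : n12993 = n12863 := (((D12863).symm.trans (sb E8608 D12993))).symm
theorem E8896 : n10389 = n9915 := (((iv F18377)).symm.trans (sb E8608 F18458))
theorem F32836 : act 0 n4914 = n4727 := (sb E8610 F16609)
theorem F32837 : act 4 n4914 = n4719 := (sb E8610 F16610)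
theorem E8897 : n9916 = n4718 := ((D9916).symm.trans (sb E8610 F16611))
theorem F32838 : act 6 n4914 = n5754 := (sb E8610 F16612)
theorem E8898 : n4805 = n2456 := (((iv F7322)).symm.trans (sb E8611 F15773))
theorem F32839 : act 5 n2319 = n2369 := (sb E8611 (iv D4920))
theorem E8919 : n17657 = n17412 := ((((iv F30527)).symm.trans (sb E8631 D17657))).symm
theorem F32840 : act 2 n12860 = n11986 := (sb E8631 F22767)
theorem E8921 : n17660 = n17416 := (((D17416).symm.trans (sb E8631 D17660))).symm
theorem E8922 : n17661 = n17417 := (((D17417).symm.trans (sb E8631 D17661))).symm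
theorem F32841 : act 2 n1926 = n2818 := (sb E8643 (iv D5828))
theorem F32842 : act 3 n1876 = n2098 := (sb E8661 (iv D4371))
theorem E8942 : n9044 = n3862 := ((((iv F5922)).symm.trans (sb E8661 D9044))).symm
theorem E8943 : n5472 = n3901 := ((((iv F5965)).symm.trans (sb E8661 (iv F16833)))).symm
theorem F32843 : act 1 n1179 = n1130 := (sb E8681 (iv D2321))
theorem E8951 : n4808 = n601 := ((((iv F15739)).symm.trans (sb E8681 (iv F7325)))).symm
theorem E8955 : n11838 = n9902 := (((D9902).symm.trans (sb E8685 (iv D15542)))).symm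
theorem F32844 : act 1 n4910 = n4719 := (sb E8687 (iv D9744))
theorem E8956 : n11829 = n2461 := ((((iv F15766)).symm.trans (sb E8687 (iv F20912)))).symm
theorem E8957 : n4715 = n2452 := ((((iv F3855)).symm.trans (sb E8688 (iv D9737)))).symm
theorem F32845 : act 0 n1933 = n1053 := (sb E8725 F3416)
theorem F32846 : act 2 n1933 = n1052 := (sb E8725 (iv D2147))
theorem F32847 : act 6 n1933 = n2815 := (sb E8725 (iv F16660))
theorem F32848 : act 3 n1931 = n1053 := (sb E8730 (iv D2148))
theorem F32849 : act 6 n1931 = n2818 := (sb E8730 F16726)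
theorem E9010 : n13058 = n13029 := ((((iv D17732)).symm.trans (sb E8751 (iv D17796)))).symm
theorem F32850 : act 4 n17732 = n13062 := (sb E8751 F31081)
theorem E9012 : n13060 = n13031 := (((D13031).symm.trans (sb E8752 D13060))).symm
theorem F32851 : act 4 n17735 = n13065 := (sb E8753 F31087)
theorem F32852 : act 4 n17724 = n13052 := (sb E8754 F31059)
theorem E9015 : n6033 = n6025 := (((D6025).symm.trans (sb E8756 (iv F9166)))).symm
theorem F32853 : act 0 n8309 = n4431 := (sb E8768 F13711)
theorem E9019 : n11453 = n11077 := ((((iv F19612)).symm.trans (sb E8768 D11453))).symm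
theorem F32854 : act 6 n8309 = n10316 := (sb E8768 (iv F18191))
theorem E9020 : n17314 = n14030 := ((D17314).symm.trans (sb E8777 F24668))
theorem E9021 : n11457 = n11073 := ((F22419).symm.trans (sb E8777 F24667))
theorem F32855 : act 4 n8305 = n4431 := (sb E8778 (iv D9165))
theorem F32856 : act 6 n8305 = n10320 := (sb E8778 (iv F18200))
theorem E9023 : n373 = n189 := ((((iv F15759)).symm.trans (sb E8782 (iv F15772)))).symm
theorem F32857 : act 3 n188 = n188 := (sb E8782 F713)
theorem E9025 : n1479 = n740 := (((D740).symm.trans (sb E8785 D1479))).symm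
theorem F32858 : act 3 n374 = n374 := (sb E8785 F1340)
theorem F32859 : act 3 n90 = n90 := (sb E8787 (iv D191))
theorem F32860 : act 3 n724 = n724 := (sb E8789 F2383)
theorem E9049 : n4354 = n1866 := ((D4354).symm.trans (sb E8813 (iv D3884)))
theorem E9052 : n13804 = n10086 := (((D10086).symm.trans (sb E8816 (iv F24247)))).symm
theorem E9053 : n13824 = n10089 := (((D10089).symm.trans (sb E8817 (iv F24299)))).symm
theorem E9054 : n10090 = n8115 := ((D10090).symm.trans (sb E8817 (iv D10917)))
theorem F32861 : act 3 n3878 = n2594 := (sb E8818 (iv D5390))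
theorem E9057 : n14554 = n10913 := ((D14554).symm.trans (sb E8820 (iv D13820)))
theorem E9059 : n12340 = n10923 := (((D10923).symm.trans (sb E8823 (iv F21776)))).symm
theorem F32862 : act 3 n8166 = n5469 := (sb E8823 (iv D10094))
theorem F32863 : act 2 n1946 = n2981 := (sb E8830 (iv D6163))
theorem F32864 : act 0 n4066 = n2981 := (sb E8839 F15900)
theorem F32865 : act 1 n4066 = n1948 := (sb E8839 (iv D4069))
theorem F32866 : act 4 n4066 = n8334 := (sb E8839 (iv F12405))
theorem E9066 : n8475 = n3763 := (((F6173).symm.trans (sb E8839 D8475))).symm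
theorem F32867 : act 5 n1814 = n2981 := (sb E8840 F16953)
theorem F32868 : act 1 n3755 = n1931 := (sb E8841 (iv D4033))
theorem F32869 : act 6 n3755 = n2981 := (sb E8841 (iv F15637))
theorem E9068 : n2315 = n1194 := (((iv F3664)).symm.trans (sb E8843 F15761))
theorem F32870 : act 5 n1129 = n1182 := (sb E8843 (iv D2430))
theorem F32871 : act 0 n14175 = n11980 := (sb E8853 F24766)
theorem F32872 : act 6 n14175 = n11094 := (sb E8853 (iv D14180))
theorem F32873 : act 0 n11069 = n12808 := (sb E8855 F30347)
theorem F32874 : act 4 n11069 = n12801 := (sb E8855 (iv D17302))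
theorem F32875 : act 5 n11069 = n12808 := (sb E8855 F30349)
theorem E9099 : n17728 = n10473 := (((D10473).symm.trans (sb E8883 D17728))).symm
theorem F32876 : act 4 n6038 = n10457 := (sb E8883 F22841)
theorem E9101 : n17730 = n10475 := (((D10475).symm.trans (sb E8883 D17730))).symm
theorem E9104 : n10452 = n2919 := (((D2919).symm.trans (sb E8885 (iv F18488)))).symm
theorem F32877 : act 4 n1416 = n2915 := (sb E8885 (iv D6026))
theorem F32878 : act 0 n11092 = n10479 := (sb E8886 F19647)
theorem F32879 : act 1 n11092 = n8331 := (sb E8886 (iv D11096))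
theorem E9105 : n14181 = n14169 := ((((iv F24746)).symm.trans (sb E8886 D14181))).symm
theorem F32880 : act 3 n11092 = n8334 := (sb E8886 F19648)
theorem E9106 : n14182 = n10818 := (((F19640).symm.trans (sb E8886 D14182))).symm
theorem E9107 : n10828 = n10816 := (((iv F19228)).symm.trans (sb E8887 F19650))
theorem F32881 : act 5 n7862 = n8334 := (sb E8887 (iv D11097))
theorem F32882 : act 4 n13071 = n10822 := (sb E8888 F23945)
theorem E9108 : n17668 = n10821 := (((iv F30913)).symm.trans (sb E8888 (iv D13647)))
theorem E9109 : n14131 = n13633 := (((iv F24680)).symm.trans (sb E8888 F23946))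
theorem F32883 : act 5 n7801 = n10479 := (sb E8889 F22780)
theorem F32884 : act 1 n10814 = n8305 := (sb E8890 F19598)
theorem F32885 : act 6 n10814 = n10479 := (sb E8890 F19599)
theorem E9111 : n10441 = n10351 := ((((iv F18257)).symm.trans (sb E8892 D10441))).symm
theorem E9114 : n12906 = n11987 := (((iv F22635)).symm.trans (sb E8894 F22770))
theorem F32886 : act 0 n9915 = n9758 := (sb E8896 F18374)
theorem E9118 : n12905 = n11973 := ((((iv F21128)).symm.trans (sb E8896 D12905))).symm
theorem F32887 : act 4 n9915 = n9742 := (sb E8896 F18375)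
theorem E9119 : n11988 = n9741 := ((D11988).symm.trans (sb E8896 F18376))
theorem F32888 : act 6 n9915 = n10348 := (sb E8896 F18377)
theorem E9120 : n9734 = n5093 := (((iv F14547)).symm.trans (sb E8897 F17615))
theorem F32889 : act 5 n4718 = n4914 := (sb E8897 (iv D9916))
theorem F32890 : act 1 n2456 = n2319 := (sb E8898 F7322)
theorem F32891 : act 2 n17412 = n15843 := (sb E8919 F30892)
theorem F32892 : act 2 n17416 = n15844 := (sb E8921 F30896)
theorem E9138 : n17480 = n15816 := (((iv F30655)).symm.trans (sb E8922 F30897))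
theorem F32893 : act 2 n17417 = n15813 := (sb E8922 F30898)
theorem E9146 : n11313 = n8081 := (((D8081).symm.trans (sb E8942 (iv F20077)))).symm
theorem E9148 : n9014 = n3882 := (((F17038).symm.trans (sb E8943 F17494))).symm
theorem F32894 : act 3 n3901 = n2637 := (sb E8943 (iv D5472))
theorem E9152 : n2316 = n1192 := ((((iv F2011)).symm.trans (sb E8951 (iv D4808)))).symm
theorem E9153 : n15538 = n11964 := (((D11964).symm.trans (sb E8955 (iv F26984)))).symm
theorem E9156 : n9735 = n5086 := ((((iv F7739)).symm.trans (sb E8956 (iv D11829)))).symm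
theorem F32895 : act 5 n2452 = n2266 := (sb E8957 (iv D4715))
theorem E9188 : n17795 = n17731 := (((D17731).symm.trans (sb E9010 D17795))).symm
theorem E9191 : n17773 = n17723 := ((((iv F31002)).symm.trans (sb E9010 (iv F31058)))).symm
theorem E9195 : n17800 = n17736 := (((D17736).symm.trans (sb E9012 D17800))).symm
theorem E9199 : n10461 = n10451 := (((D10451).symm.trans (sb E9015 (iv F18502)))).symm
theorem F32896 : act 0 n11077 = n9164 := (sb E9019 F20259)
theorem E9205 : n14858 = n14138 := ((((iv F24692)).symm.trans (sb E9019 D14858))).symm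
theorem E9206 : n14142 = n11436 := ((D14142).symm.trans (sb E9019 F20261))
theorem F32897 : act 6 n11077 = n12801 := (sb E9019 (iv F22401))
theorem F32898 : act 3 n14030 = n12808 := (sb E9020 (iv D17314))
theorem E9208 : n14862 = n14134 := (((D14134).symm.trans (sb E9021 (iv F25832)))).symm
theorem F32899 : act 4 n11073 = n9164 := (sb E9021 (iv D11457))
theorem F32900 : act 6 n11073 = n12808 := (sb E9021 (iv F22419))
theorem F32901 : act 3 n189 = n189 := (sb E9023 (iv D373))
theorem F32902 : act 3 n740 = n740 := (sb E9025 F2446)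
theorem F32903 : act 3 n1866 = n2090 := (sb E9049 (iv D4354))
theorem E9219 : n9016 = n3852 := ((((iv F5905)).symm.trans (sb E9049 D9016))).symm
theorem E9221 : n12331 = n10905 := ((D12331).symm.trans (sb E9052 (iv D13804)))
theorem E9222 : n12336 = n10916 := ((D12336).symm.trans (sb E9053 (iv D13824)))
theorem F32904 : act 3 n8115 = n5387 := (sb E9054 (iv D10090))
theorem F32905 : act 4 n10913 = n11311 := (sb E9057 (iv D14554))
theorem E9225 : n16523 = n13816 := ((((iv F24279)).symm.trans (sb E9057 (iv F28673)))).symm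
theorem F32906 : act 3 n10923 = n10093 := (sb E9059 (iv D12340))
theorem E9228 : n7860 = n7859 := ((((iv F11723)).symm.trans (sb E9066 F12647))).symm
theorem F32907 : act 1 n1194 = n1129 := (sb E9068 F3664)
theorem F32908 : act 3 n1194 = n1128 := (sb E9068 (iv D2315))
theorem F32909 : act 4 n10473 = n13029 := (sb E9099 F31008)
theorem F32910 : act 4 n10475 = n13031 := (sb E9101 F31012)
theorem F32912 : act 4 n2919 = n6025 := (sb E9104 (iv D10452))
theorem F32913 : act 0 n14169 = n13071 := (sb E9105 F24768)
theorem E9262 : n13636 = n13634 := ((((iv F32104)).symm.trans (sb E9106 F24770))).symm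
theorem F32914 : act 1 n10816 = n7862 := (sb E9107 F19228)
theorem F32915 : act 5 n10821 = n13071 := (sb E9108 F30913)
theorem F32916 : act 6 n13633 = n13071 := (sb E9109 F24680)
theorem E9263 : n12999 = n12866 := ((((iv F22526)).symm.trans (sb E9111 D12999))).symm
theorem F32917 : act 2 n10351 = n6025 := (sb E9111 F18467)
theorem E9264 : n13000 = n12873 := (((D12873).symm.trans (sb E9111 D13000))).symm
theorem E9265 : n13002 = n12874 := (((D12874).symm.trans (sb E9111 D13002))).symm
theorem F32918 : act 0 n11987 = n11858 := (sb E9114 F22634)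
theorem F32919 : act 2 n11987 = n12863 := (sb E9114 F22635)
theorem E9271 : n15845 = n15416 := ((D15845).symm.trans (sb E9114 (iv F26780)))
theorem E9272 : n15846 = n11835 := ((D15846).symm.trans (sb E9114 F22636))
theorem F32920 : act 6 n11987 = n12863 := (sb E9114 F22637)
theorem E9273 : n17477 = n15820 := ((((iv F27356)).symm.trans (sb E9118 D17477))).symm
theorem F32921 : act 4 n11973 = n11836 := (sb E9118 F22633)
theorem E9274 : n17479 = n15823 := (((D15823).symm.trans (sb E9118 D17479))).symm
theorem E9275 : n15847 = n11832 := ((((iv F20918)).symm.trans (sb E9119 D15847))).symm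
theorem F32922 : act 5 n9741 = n9915 := (sb E9119 (iv D11988))
theorem F32923 : act 1 n5093 = n4718 := (sb E9120 F14547)
theorem E9276 : n11826 = n9938 := ((((iv F17667)).symm.trans (sb E9120 (iv F20902)))).symm
theorem F32924 : act 4 n5093 = n4714 := (sb E9120 (iv D9734))
theorem F32925 : act 1 n15816 = n17417 := (sb E9138 F30655)
theorem F32926 : act 4 n15816 = n15539 := (sb E9138 F30656)
theorem E9307 : n14557 = n10914 := (((D10914).symm.trans (sb E9146 (iv F25428)))).symm
theorem F32927 : act 4 n8081 = n8989 := (sb E9146 (iv D11313))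
theorem E9308 : n12335 = n10912 := ((((iv F19394)).symm.trans (sb E9146 (iv F21764)))).symm
theorem F32928 : act 3 n3882 = n4353 := (sb E9148 (iv D9014))
theorem F32929 : act 5 n1192 = n1128 := (sb E9152 (iv D2316))
theorem F32930 : act 2 n11964 = n11836 := (sb E9153 (iv D15538))
theorem E9310 : n11827 = n9934 := (((D9934).symm.trans (sb E9156 (iv F20905)))).symm
theorem F32931 : act 5 n5086 = n4714 := (sb E9156 (iv D9735))
theorem F32932 : act 4 n17731 = n13061 := (sb E9188 F31079)
theorem F32934 : act 4 n17723 = n13051 := (sb E9191 F31057)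
theorem F32935 : act 4 n17736 = n13066 := (sb E9195 F31089)
theorem E9339 : n13036 = n13017 := (((D13017).symm.trans (sb E9199 (iv F22847)))).symm
theorem F32937 : act 3 n14138 = n14826 := (sb E9205 F25827)
theorem F32938 : act 3 n11436 = n11077 := (sb E9206 (iv D14142))
theorem F32939 : act 4 n14134 = n11455 := (sb E9208 (iv D14862))
theorem E9354 : n11310 = n8058 := (((D8058).symm.trans (sb E9219 (iv F20070)))).symm
theorem E9356 : n16517 = n13802 := ((((iv F24243)).symm.trans (sb E9221 (iv F28653)))).symm
theorem E9357 : n16520 = n13803 := (((D13803).symm.trans (sb E9221 (iv F28661)))).symm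
theorem F32940 : act 4 n10905 = n10086 := (sb E9221 (iv D12331))
theorem F32941 : act 3 n10916 = n10089 := (sb E9222 (iv D12336))
theorem F32942 : act 4 n13816 = n12333 := (sb E9225 (iv D16523))
theorem F32943 : act 4 n7859 = n10816 := (sb E9228 (iv F19192))
theorem F32944 : act 5 n7859 = n3762 := (sb E9228 (iv D7860))
theorem F32948 : act 3 n13634 = n10816 := (sb E9262 F23923)
theorem F32949 : act 5 n13634 = n10815 := (sb E9262 (iv D13636))
theorem F32950 : act 2 n12866 = n10451 := (sb E9263 F22786)
theorem E9374 : n17671 = n17430 := (((D17430).symm.trans (sb E9263 D17671))).symm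
theorem E9377 : n17675 = n17444 := (((D17444).symm.trans (sb E9264 D17675))).symm
theorem F32951 : act 2 n12874 = n10453 := (sb E9265 F22790)
theorem F32953 : act 4 n15416 = n11987 := (sb E9271 (iv D15845))
theorem F32954 : act 5 n11835 = n11987 := (sb E9272 (iv D15846))
theorem F32955 : act 4 n15820 = n15537 := (sb E9273 F30651)
theorem F32956 : act 1 n15823 = n15532 := (sb E9274 F30653)
theorem E9388 : n15517 = n12024 := (((iv F26944)).symm.trans (sb E9275 F27392))
theorem F32958 : act 4 n9938 = n9733 := (sb E9276 (iv D11826))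
theorem F32959 : act 4 n10914 = n11312 := (sb E9307 (iv D14557))
theorem E9392 : n16526 = n13817 := ((((iv F24281)).symm.trans (sb E9307 (iv F28680)))).symm
theorem E9393 : n14549 = n10906 := (((F19393).symm.trans (sb E9308 (iv F25408)))).symm
theorem F32960 : act 4 n10912 = n10088 := (sb E9308 (iv D12335))
theorem E9395 : n15521 = n12016 := (((D12016).symm.trans (sb E9310 (iv F26953)))).symm
theorem F32961 : act 5 n9934 = n9733 := (sb E9310 (iv D11827))
theorem E9408 : n17744 = n17707 := (((D17707).symm.trans (sb E9339 (iv F31027)))).symm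
theorem E9410 : n17749 = n17710 := (((D17710).symm.trans (sb E9339 D17749))).symm
theorem E9418 : n14552 = n10907 := (((D10907).symm.trans (sb E9354 (iv F25415)))).symm
theorem F32962 : act 4 n8058 = n8972 := (sb E9354 (iv D11310))
theorem F32963 : act 4 n13802 = n12329 := (sb E9356 (iv D16517))
theorem F32964 : act 4 n13803 = n12330 := (sb E9357 (iv D16520))
theorem F32970 : act 2 n17430 = n17435 := (sb E9374 F30919)
theorem F32973 : act 0 n17444 = n17435 := (sb E9377 F30926)
theorem F32974 : act 3 n17444 = n17426 := (sb E9377 F30927)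
theorem F32977 : act 2 n12024 = n11832 := (sb E9388 F26944)
theorem F32978 : act 4 n12024 = n11824 := (sb E9388 (iv D15517))
theorem F32979 : act 4 n13817 = n12334 := (sb E9392 (iv D16526))
theorem F32980 : act 4 n10906 = n11308 := (sb E9393 (iv D14549))
theorem F32981 : act 5 n12016 = n11825 := (sb E9395 (iv D15521))
theorem F32985 : act 4 n17707 = n13035 := (sb E9408 (iv D17744))
theorem F32987 : act 4 n17710 = n13038 := (sb E9410 F31032)
theorem F32990 : act 4 n10907 = n11309 := (sb E9418 (iv D14552))
theorem F32991 : act 6 n18474 = n18477 := d24_0 (iv D18477) (iv D13487) (iv D10743) D10742 D13485 F29128 (iv D15873) (iv F32458) (iv F32459) (iv F32464) F19071 D13468 (iv F23724) D18474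
theorem F32992 : act 4 n14548 = n13805 := d3_2 F32990 (iv F25404) F24249
theorem F32993 : act 4 n14550 = n13807 := d8_2 F32990 D14550 (iv D13807)
theorem F32994 : act 5 n15520 = n15895 := d18_2 F32981 D15520 (iv D15895)
theorem F32995 : act 3 n15909 = n15520 := d16_3 F32994 F27477 D15909
theorem F32996 : act 4 n15515 = n15911 := d3_2 F32978 D15515 (iv D15911)
theorem F32997 : act 4 n15518 = n15906 := d18_3 F27494 F32978 D15518
theorem F33000 : act 1 n15893 = n15518 := d8_3 F32997 (iv D15906) (iv F27471)
theorem F33002 : act 2 n15534 = n15801 := d6_4 (iv F27470) F33000 F26945 D15534 F27339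
theorem F33003 : act 2 n15911 = n15528 := d12_1 F32996 (iv D15528) (iv F26941)
theorem F33004 : act 4 n14553 = n13819 := d3_2 F32959 (iv F25417) F24285
theorem F33005 : act 4 n14555 = n13821 := d8_2 F32959 D14555 (iv D13821)
theorem F33006 : act 2 n15537 = n15799 := d12_1 F32955 F27336 D15820
theorem F33007 : act 3 n14141 = n14827 := d15_5 (iv D14827) F32938 (iv D11077) D11076 D14141
theorem F33008 : act 3 n14865 = n14038 := d2_2 F33007 (iv F25834) (iv F24697)
theorem F33009 : act 2 n15539 = n15797 := d14_3 F27332 F32930 D15539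
theorem F33010 : act 1 n15796 = n17401 := d6_3 F33009 (iv D15797) (iv F27329) F30506 (iv F26985)
theorem F33011 : act 4 n17401 = n15813 := d8_2 (iv F27330) F33010 (iv D15813)
theorem F33012 : act 5 n17821 = n13646 := d16_2 F32915 D17821 (iv D13646)
theorem E9427 : n17827 = n17812 := (c23_8 F32915 (iv D13071) (iv D10479) (iv D6040) D6042 (iv F18530) D13075 D17827 F31097 (iv F30494) (iv D17394) F22498 D12855 F22507 F18247 (iv F12398) F12400 D10817 D13637 F32096)
theorem F33013 : act 0 n17812 = n13075 := (sb E9427 (iv D17827))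
theorem F33014 : act 5 n17828 = n17828 := d22_2 F31097 D17828 (iv D17828) (iv F33013)
theorem F33015 : act 4 n15844 = n17400 := d12_2 (iv F30535) F32892 F30505
theorem F33016 : act 4 n15843 = n17397 := d12_2 D17412 F32891 F30501
theorem F33017 : act 4 n13648 = n17820 := d8_2 F32882 D13648 (iv D17820)
theorem F33018 : act 4 n17301 = n14128 := d8_2 F32874 D17301 (iv D14128)
theorem F33019 : act 4 n14316 = n14312 := d12_2 F33018 (iv F24984) (iv F30345)
theorem F33020 : act 0 n14310 = n14315 := d2_3 F24983 F32822 D14310
theorem F33021 : act 2 n14122 = n14310 := d21_6 F19814 F12763 F6239 (iv F12315) D11064 D14122 (iv D14310) (iv F32822)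
theorem F33022 : act 6 n14310 = n14264 := d14_2 (iv F24658) F33021 (iv D14264)
theorem F33023 : act 4 n17303 = n15590 := d8_2 F32794 D17303 (iv D15590)
theorem F33024 : act 2 n15590 = n17310 := d12_1 F33023 (iv D17310) (iv F30351)
theorem F33025 : act 5 n15826 = n17304 := d16_2 F32776 D15826 (iv D17304)
theorem F33026 : act 3 n17403 = n15841 := d15_3 F32709 D12853 D17403 F27387 F21148
theorem F33027 : act 6 n15827 = n17403 := d17_0 F33026 (iv D15841) (iv F27369)
theorem F33028 : act 6 n15698 = n17385 := d20_2 (iv F30371) F32690 F30483 (iv D17328) F32618 (iv F26930) (iv F32606)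
theorem F33029 : act 4 n17646 = n13631 := d12_2 F32687 (iv F30879) (iv F30402)
theorem F33030 : act 2 n14259 = n14179 := d21_4 F32656 (iv F12715) D11152 D14259 (iv D14179) (iv D11094) F12396 D8332
theorem F33031 : act 5 n14262 = n14259 := d13_0 F33030 F24765 (iv F24915)
theorem F33032 : act 0 n14266 = n14259 := d21_8 F33030 (iv D14179) (iv D11094) F12396 (iv F6206) (iv F12719) (iv F19778) (iv F24921)
theorem F33033 : act 4 n14185 = n17382 := d8_2 F32649 D14185 (iv D17382)
theorem F33034 : act 4 n14261 = n14267 := d12_2 F33033 F30476 F24922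
theorem F33035 : act 3 n14198 = n14839 := d15_5 (iv D14839) F32648 (iv D11107) D11106 D14198
theorem F33036 : act 3 n14892 = n14085 := d2_2 F33035 (iv F25875) (iv F24806)
theorem F33037 : act 5 n15699 = n17326 := d18_2 F32618 D15699 (iv D17326)
theorem F33038 : act 3 n17326 = n15713 := d16_1 F33037 (iv D15713) (iv F27212)
theorem F33039 : act 3 n17646 = n14753 := d7_2 F32602 D17646 F25700
theorem F33040 : act 6 n14688 = n17646 := d17_0 F33039 (iv D14753) (iv F25632)
theorem F33041 : act 2 n17650 = n14688 := d14_3 F33040 F30879 D17650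
theorem F33042 : act 4 n17384 = n15511 := d8_2 F32599 D17384 (iv D15511)
theorem F33043 : act 2 n15511 = n17389 := d12_1 F33042 (iv D17389) (iv F30482)
theorem F33044 : act 1 n15668 = n17323 := d9_3 F32558 (iv F21032) D15668 (iv D17323) (iv D12812)
theorem F33045 : act 2 n15460 = n15669 := d6_4 (iv F27174) F33044 F30388 (iv F26844) (iv D15669)
theorem F33046 : act 4 n17323 = n15685 := d8_2 (iv F27175) F33044 (iv D15685)
theorem F33047 : act 4 n15715 = n17320 := d3_2 F32529 D15715 (iv D17320)
theorem F33048 : act 4 n15716 = n17324 := d19_3 (iv D17324) F32529 D15716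
theorem F33049 : act 2 n15458 = n15671 := d1_2 F32505 D15458 (iv D15671)
theorem F33050 : act 2 n15456 = n15673 := d14_3 (iv D15673) F32505 (iv F26838)
theorem F33051 : act 1 n15859 = n15440 := d6_3 F33050 F27184 (iv F27415) F26806 D15456
theorem F33052 : act 6 n15441 = n15860 := d19_2 F32474 D15441 (iv D15860)
theorem F33053 : act 3 n15874 = n15441 := d17_3 F33052 F27419 D15874
theorem F33054 : act 1 n14337 = n15874 := d8_3 F27444 F32465 (iv F25033)
theorem F33055 : act 1 n18163 = n15870 := d10_3 D12005 F32465 D18163 (iv D15870) F21180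
def n18478 : Q := act 6 n13489
theorem D18478 : act 6 n13489 = n18478 := rfl
theorem F33056 : act 0 n18478 = n15615 := d5_1 D18478 (iv D15615) (iv F28871)
theorem F33057 : act 2 n18478 = n15611 := d14_1 D18478 (iv D15611) (iv F28872)
theorem F33058 : act 4 n18478 = n13495 := d19_1 D18478 (iv D13495) (iv F23728)
def n18479 : Q := act 1 n13490
theorem D18479 : act 1 n13490 = n18479 := rfl
theorem F33059 : act 4 n18479 = n13496 := d8_2 (iv F23730) D18479 (iv D13496)
def n18480 : Q := act 0 n13491
theorem D18480 : act 0 n13491 = n18480 := rfl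
theorem F33060 : act 4 n18480 = n13497 := d3_2 (iv F23732) D18480 (iv D13497)
theorem F33061 : act 6 n18480 = n13521 := d5_2 (iv F23733) D18480 (iv D13521)
def n18481 : Q := act 2 n13491
theorem D18481 : act 2 n13491 = n18481 := rfl
theorem F33064 : act 4 n18481 = n13498 := d12_2 (iv F23732) D18481 (iv D13498)
theorem F33065 : act 6 n18481 = n13522 := d14_2 (iv F23733) D18481 (iv D13522)
theorem F33066 : act 3 n15915 = n18481 := d17_3 F33065 F32089 D15915
def n18482 : Q := act 5 n13491
theorem D18482 : act 5 n13491 = n18482 := rfl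
theorem F33067 : act 4 n18482 = n13499 := d18_1 D18482 (iv D13499) (iv F23732)
def n18483 : Q := act 6 n13494
theorem D18483 : act 6 n13494 = n18483 := rfl
theorem F33068 : act 0 n18483 = n15618 := d5_1 D18483 (iv D15618) (iv F29095)
theorem F33069 : act 2 n18483 = n13495 := d14_1 D18483 (iv D13495) D13494
theorem F33070 : act 3 n18483 = n14241 := d17_1 D18483 F24889 (iv F29037)
theorem F33071 : act 4 n18483 = n15611 := d19_1 D18483 (iv D15611) (iv F29096)
theorem F33072 : act 5 n18483 = n14238 := d20_1 D18483 (iv D14238) F29084 D15618 F29105 (iv D13529) (iv F23739)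
def n18484 : Q := act 1 n13495
theorem D18484 : act 1 n13495 = n18484 := rfl
theorem F33073 : act 3 n18484 = n13505 := d7_2 (iv F23740) D18484 (iv D13505)
theorem F33074 : act 6 n18484 = n13496 := d10_2 D13495 D18484 (iv D13496) (iv D10747) D10746
def n18485 : Q := act 0 n13496
theorem D18485 : act 0 n13496 = n18485 := rfl
theorem F33075 : act 3 n18485 = n13506 := d2_2 (iv F23741) D18485 (iv D13506)
def n18486 : Q := act 2 n13496
theorem D18486 : act 2 n13496 = n18486 := rfl
def n18487 : Q := act 5 n13496
theorem D18487 : act 5 n13496 = n18487 := rfl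
theorem F33076 : act 1 n18487 = n18459 := d9_1 D18487 (iv D18459) (iv D13472) (iv F19091) D13496
theorem F33077 : act 3 n18487 = n13508 := d16_1 D18487 (iv D13508) (iv F23741)
def n18488 : Q := act 1 n13497
theorem D18488 : act 1 n13497 = n18488 := rfl
theorem F33078 : act 3 n18488 = n13509 := d7_2 (iv F23742) D18488 (iv D13509)
def n18489 : Q := act 5 n13498
theorem D18489 : act 5 n13498 = n18489 := rfl
theorem F33079 : act 2 n18489 = n13499 := d13_1 D18489 (iv D13499) D13498
theorem F33080 : act 3 n18489 = n14291 := d16_1 D18489 F24951 (iv F32109)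
theorem F33081 : act 6 n18489 = n14288 := d22_1 D18489 (iv D14288) D14289 F32110
def n18490 : Q := act 1 n13499
theorem D18490 : act 1 n13499 = n18490 := rfl
theorem F33082 : act 3 n18490 = n13513 := d7_2 (iv F23745) D18490 (iv D13513)
theorem F33083 : act 5 n18490 = n13500 := d9_2 D13499 D18490 (iv D13500) (iv D10749) D10748
theorem F33084 : act 2 n15696 = n18490 := d13_3 F33083 F32495 D15696
def n18491 : Q := act 0 n13500
theorem D18491 : act 0 n13500 = n18491 := rfl
theorem F33085 : act 2 n18491 = n15693 := d1_2 (iv F32495) D18491 F27202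
theorem F33086 : act 3 n18491 = n13514 := d2_2 (iv F23746) D18491 (iv D13514)
theorem F33087 : act 6 n18491 = n15692 := d5_2 (iv F32496) D18491 F27201
def n18492 : Q := act 0 n13501
theorem D18492 : act 0 n13501 = n18492 := rfl
theorem F33088 : act 1 n18492 = n15471 := d0_2 D13501 D18492 F26867 F20857 F28882 (iv D10738) F11497 D7741 D10750
theorem F33089 : act 2 n18492 = n15325 := d1_2 (iv F28922) D18492 F26679
theorem F33090 : act 3 n18492 = n15465 := d2_2 (iv F28923) D18492 F29179
theorem F33091 : act 5 n18492 = n15323 := d4_2 (iv F28924) D18492 F26677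
def n18493 : Q := act 6 n13501
theorem D18493 : act 6 n13501 = n18493 := rfl
theorem F33092 : act 2 n18493 = n15334 := d14_1 D18493 (iv D15334) (iv F28922)
def n18494 : Q := act 1 n13504
theorem D18494 : act 1 n13504 = n18494 := rfl
theorem F33093 : act 6 n18494 = n13868 := d10_2 D13504 D18494 (iv D13868) (iv D10945) (iv F19098)
def n18495 : Q := act 0 n13505
theorem D18495 : act 0 n13505 = n18495 := rfl
theorem F33094 : act 6 n18495 = n13506 := d5_2 (iv F23752) D18495 (iv D13506)
def n18496 : Q := act 2 n13505
theorem D18496 : act 2 n13505 = n18496 := rfl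
theorem F33095 : act 6 n18496 = n13507 := d14_2 (iv F23752) D18496 (iv D13507)
def n18497 : Q := act 5 n13505
theorem D18497 : act 5 n13505 = n18497 := rfl
def n18498 : Q := act 1 n13506
theorem D18498 : act 1 n13506 = n18498 := rfl
def n18499 : Q := act 2 n13506
theorem D18499 : act 2 n13506 = n18499 := rfl
theorem F33096 : act 0 n18499 = n13507 := d1_1 D18499 (iv D13507) D13506
def n18500 : Q := act 5 n13506
theorem D18500 : act 5 n13506 = n18500 := rfl
theorem F33097 : act 0 n18500 = n13508 := d4_1 D18500 (iv D13508) D13506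
theorem F33098 : act 6 n18500 = n18497 := d22_1 D18500 (iv D18497) F23752 D13506
def n18501 : Q := act 3 n13507
theorem D18501 : act 3 n13507 = n18501 := rfl
theorem F33099 : act 1 n18501 = n13875 := d7_1 D18501 (iv D13875) (iv F23753)
def n18502 : Q := act 5 n13507
theorem D18502 : act 5 n13507 = n18502 := rfl
theorem F33100 : act 2 n18502 = n13508 := d13_1 D18502 (iv D13508) D13507
def n18503 : Q := act 6 n13508
theorem D18503 : act 6 n13508 = n18503 := rfl
theorem F33101 : act 0 n18503 = n18497 := d5_1 D18503 (iv F33098) F33097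
theorem F33102 : act 5 n18503 = n18495 := d20_1 D18503 F33094 D18500 F33098 (iv D18497) F23752 D13508
def n18504 : Q := act 0 n13509
theorem D18504 : act 0 n13509 = n18504 := rfl
def n18505 : Q := act 2 n13509
theorem D18505 : act 2 n13509 = n18505 := rfl
def n18506 : Q := act 5 n13509
theorem D18506 : act 5 n13509 = n18506 := rfl
def n18507 : Q := act 6 n13509
theorem D18507 : act 6 n13509 = n18507 := rfl
theorem F33103 : act 1 n18507 = n13571 := d10_1 D18507 (iv D13571) (iv D10780) (iv F19100) D13509
def n18508 : Q := act 1 n13510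
theorem D18508 : act 1 n13510 = n18508 := rfl
def n18509 : Q := act 3 n13510
theorem D18509 : act 3 n13510 = n18509 := rfl
theorem F33104 : act 0 n18509 = n13511 := d2_1 D18509 (iv D13511) (iv F23755)
theorem F33105 : act 6 n18509 = n13573 := d17_2 (iv F23756) D18509 (iv D13573)
def n18510 : Q := act 2 n13511
theorem D18510 : act 2 n13511 = n18510 := rfl
theorem F33106 : act 6 n18510 = n13576 := d14_2 (iv F23758) D18510 (iv D13576)
theorem F33107 : act 3 n18510 = n14159 := d21_1 D18510 F24726 (iv F24947) (iv F32111) F23742 D13510 D18509 F33104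
def n18511 : Q := act 4 n13511
theorem D18511 : act 4 n13511 = n18511 := rfl
theorem F33108 : act 1 n18511 = n13884 := d8_1 D18511 (iv D13884) (iv F23757)
theorem F33109 : act 6 n18511 = n13577 := d19_2 (iv F23758) D18511 (iv D13577)
def n18512 : Q := act 5 n13511
theorem D18512 : act 5 n13511 = n18512 := rfl
theorem F33110 : act 3 n18512 = n13512 := d16_1 D18512 (iv D13512) D13511
def n18513 : Q := act 1 n13512
theorem D18513 : act 1 n13512 = n18513 := rfl
theorem F33111 : act 5 n18513 = n13886 := d9_2 D13512 D18513 (iv D13886) (iv D10953) (iv F19101)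
def n18514 : Q := act 0 n13513
theorem D18514 : act 0 n13513 = n18514 := rfl
theorem F33112 : act 5 n18514 = n13514 := d4_2 (iv F23760) D18514 (iv D13514)
def n18515 : Q := act 2 n13513
theorem D18515 : act 2 n13513 = n18515 := rfl
theorem F33113 : act 5 n18515 = n13515 := d13_2 (iv F23760) D18515 (iv D13515)
def n18516 : Q := act 6 n13513
theorem D18516 : act 6 n13513 = n18516 := rfl
def n18517 : Q := act 1 n13514
theorem D18517 : act 1 n13514 = n18517 := rfl
def n18518 : Q := act 2 n13514
theorem D18518 : act 2 n13514 = n18518 := rfl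
theorem F33114 : act 0 n18518 = n13515 := d1_1 D18518 (iv D13515) D13514
def n18519 : Q := act 6 n13514
theorem D18519 : act 6 n13514 = n18519 := rfl
theorem F33115 : act 0 n18519 = n13516 := d5_1 D18519 (iv D13516) D13514
theorem F33116 : act 3 n18519 = n15692 := d17_1 D18519 (iv F33087) F33086
theorem F33117 : act 5 n18519 = n18516 := d22_2 F33112 D18519 (iv D18516) D18514
def n18520 : Q := act 3 n13515
theorem D18520 : act 3 n13515 = n18520 := rfl
theorem F33118 : act 1 n18520 = n13893 := d7_1 D18520 (iv D13893) (iv F23761)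
def n18521 : Q := act 6 n13515
theorem D18521 : act 6 n13515 = n18521 := rfl
theorem F33119 : act 2 n18521 = n13516 := d14_1 D18521 (iv D13516) D13515
def n18522 : Q := act 5 n13516
theorem D18522 : act 5 n13516 = n18522 := rfl
theorem F33120 : act 0 n18522 = n18516 := d4_1 D18522 (iv F33117) F33115
theorem F33121 : act 3 n18522 = n15688 := d16_1 D18522 F27198 (iv F32490)
theorem F33122 : act 6 n18522 = n18514 := d20_2 D13516 D18522 F33112 D18519 F33117 (iv D18516) F23760
def n18523 : Q := act 6 n13517
theorem D18523 : act 6 n13517 = n18523 := rfl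
theorem F33123 : act 0 n18523 = n13519 := d5_1 D18523 (iv D13519) D13517
theorem F33124 : act 2 n18523 = n15620 := d14_1 D18523 (iv D15620) (iv F29079)
theorem F33125 : act 4 n18523 = n13527 := d19_1 D18523 (iv D13527) (iv F23763)
theorem F33126 : act 5 n18523 = n18478 := d20_1 D18523 (iv D18478) F23729 D13519 F29101 (iv D15615) (iv F29080)
def n18524 : Q := act 1 n13519
theorem D18524 : act 1 n13519 = n18524 := rfl
theorem F33127 : act 3 n18524 = n18329 := d7_2 F32076 D18524 F32143
theorem F33128 : act 4 n18524 = n13530 := d8_2 (iv F23765) D18524 (iv D13530)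
theorem F33129 : act 6 n18524 = n13520 := d10_2 D13519 D18524 (iv D13520) (iv D10759) D10758
def n18525 : Q := act 0 n13520
theorem D18525 : act 0 n13520 = n18525 := rfl
theorem F33130 : act 3 n18525 = n18327 := d2_2 (iv F23766) D18525 (iv D18327)
theorem F33131 : act 4 n18525 = n13532 := d3_2 (iv F23767) D18525 (iv D13532)
theorem F33132 : act 5 n17346 = n18525 := d18_0 F33131 F32401 D17346
def n18526 : Q := act 2 n13520
theorem D18526 : act 2 n13520 = n18526 := rfl
theorem F33133 : act 1 n18526 = n14670 := d6_1 D18526 (iv D14670) (iv D11367) (iv F19104) D13520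
theorem F33134 : act 4 n18526 = n13533 := d12_2 (iv F23767) D18526 (iv D13533)
def n18527 : Q := act 5 n13520
theorem D18527 : act 5 n13520 = n18527 := rfl
theorem F33135 : act 0 n18527 = n17346 := d4_1 D18527 F33132 (iv D18525)
theorem F33136 : act 1 n18527 = n14639 := d9_1 D18527 (iv D14639) (iv D11353) (iv F19107) D13520
theorem F33137 : act 3 n18527 = n18326 := d16_1 D18527 F32141 (iv F23766)
theorem F33138 : act 4 n18527 = n13534 := d18_1 D18527 (iv D13534) (iv F23767)
def n18528 : Q := act 5 n13521
theorem D18528 : act 5 n13521 = n18528 := rfl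
theorem F33139 : act 0 n18528 = n13523 := d4_1 D18528 (iv D13523) D13521
theorem F33140 : act 2 n18528 = n15786 := d13_1 D18528 (iv D15786) (iv F32082)
theorem F33141 : act 4 n18528 = n13537 := d18_1 D18528 (iv D13537) (iv F23768)
theorem F33142 : act 6 n18528 = n18482 := d22_1 D18528 (iv D18482) F23733 D13521
def n18529 : Q := act 5 n13522
theorem D18529 : act 5 n13522 = n18529 := rfl
theorem F33144 : act 2 n18529 = n13523 := d13_1 D18529 (iv D13523) D13522
theorem F33145 : act 3 n18529 = n15914 := d16_1 D18529 (iv D15914) (iv F32089)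
theorem F33146 : act 4 n18529 = n13539 := d18_1 D18529 (iv D13539) (iv F23769)
def n18530 : Q := act 1 n13523
theorem D18530 : act 1 n13523 = n18530 := rfl
theorem F33147 : act 3 n18530 = n18321 := d7_2 F32120 D18530 F32135
theorem F33148 : act 4 n18530 = n13540 := d8_2 (iv F23770) D18530 (iv D13540)
theorem F33149 : act 5 n18530 = n13524 := d9_2 D13523 D18530 (iv D13524) (iv D10761) D10760
def n18531 : Q := act 6 n13523
theorem D18531 : act 6 n13523 = n18531 := rfl
theorem F33150 : act 0 n18531 = n18482 := d5_1 D18531 (iv F33142) F33139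
theorem F33151 : act 4 n18531 = n13541 := d19_1 D18531 (iv D13541) (iv F23770)
theorem F33152 : act 5 n18531 = n18480 := d20_1 D18531 F33061 D18528 F33142 (iv D18482) F23733 D13523
def n18532 : Q := act 0 n13524
theorem D18532 : act 0 n13524 = n18532 := rfl
theorem F33153 : act 3 n18532 = n18319 := d2_2 (iv F23771) D18532 (iv D18319)
theorem F33154 : act 4 n18532 = n13542 := d3_2 (iv F23772) D18532 (iv D13542)
def n18533 : Q := act 2 n13524
theorem D18533 : act 2 n13524 = n18533 := rfl
theorem F33155 : act 1 n18533 = n14660 := d6_1 D18533 (iv D14660) (iv D11363) (iv F19110) D13524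
theorem F33156 : act 4 n18533 = n13543 := d12_2 (iv F23772) D18533 (iv D13543)
def n18534 : Q := act 6 n13524
theorem D18534 : act 6 n13524 = n18534 := rfl
theorem F33157 : act 1 n18534 = n14636 := d10_1 D18534 (iv D14636) (iv D11352) (iv F19113) D13524
theorem F33158 : act 3 n18534 = n18318 := d17_1 D18534 F32133 (iv F23771)
theorem F33159 : act 4 n18534 = n13544 := d19_1 D18534 (iv D13544) (iv F23772)
def n18535 : Q := act 1 n13527
theorem D18535 : act 1 n13527 = n18535 := rfl
theorem F33160 : act 3 n18535 = n13552 := d7_2 (iv F23776) D18535 (iv D13552)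
theorem F33161 : act 6 n18535 = n15492 := d10_2 D13527 D18535 (iv D15492) F20867 (iv F28935)
def n18536 : Q := act 1 n13529
theorem D18536 : act 1 n13529 = n18536 := rfl
def n18537 : Q := act 0 n13530
theorem D18537 : act 0 n13530 = n18537 := rfl
theorem F33162 : act 3 n18537 = n13558 := d2_2 (iv F23779) D18537 (iv D13558)
theorem F33163 : act 6 n18537 = n13532 := d5_2 (iv F23780) D18537 (iv D13532)
def n18538 : Q := act 2 n13530
theorem D18538 : act 2 n13530 = n18538 := rfl
theorem F33164 : act 6 n18538 = n13533 := d14_2 (iv F23780) D18538 (iv D13533)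
def n18539 : Q := act 1 n13531
theorem D18539 : act 1 n13531 = n18539 := rfl
theorem F33165 : act 3 n18539 = n13561 := d7_2 (iv F23782) D18539 (iv D13561)
def n18540 : Q := act 1 n13532
theorem D18540 : act 1 n13532 = n18540 := rfl
theorem F33166 : act 3 n18540 = n13562 := d7_2 (iv F23784) D18540 (iv D13562)
theorem F33167 : act 5 n18540 = n17356 := d9_2 (iv F32401) D18540 (iv D17356) (iv D12827) D12824
def n18541 : Q := act 2 n13532
theorem D18541 : act 2 n13532 = n18541 := rfl
theorem F33168 : act 0 n18541 = n13533 := d1_1 D18541 (iv D13533) D13532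
theorem F33169 : act 5 n18541 = n17344 := d13_2 (iv F32401) D18541 (iv D17344)
def n18542 : Q := act 3 n13533
theorem D18542 : act 3 n13533 = n18542 := rfl
theorem F33170 : act 1 n18542 = n14715 := d7_1 D18542 (iv D14715) (iv F23785)
def n18543 : Q := act 5 n13533
theorem D18543 : act 5 n13533 = n18543 := rfl
theorem F33171 : act 0 n18543 = n17344 := d4_1 D18543 (iv F33169) F33168
theorem F33172 : act 2 n18543 = n13534 := d13_1 D18543 (iv D13534) D13533
def n18544 : Q := act 6 n13534
theorem D18544 : act 6 n13534 = n18544 := rfl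
theorem F33173 : act 0 n18544 = n17348 := d5_1 D18544 (iv D17348) (iv F32402)
theorem F33174 : act 3 n18544 = n13567 := d17_1 D18544 (iv D13567) (iv F23787)
theorem F33175 : act 5 n18544 = n18537 := d20_1 D18544 F33163 F32401 D17348 F32399 F23780 D13534
def n18545 : Q := act 0 n13535
theorem D18545 : act 0 n13535 = n18545 := rfl
theorem F33177 : act 3 n18545 = n13568 := d2_2 (iv F23788) D18545 (iv D13568)
theorem F33178 : act 4 n18545 = n15751 := d3_2 (iv F32084) D18545 F27279
def n18546 : Q := act 5 n13535
theorem D18546 : act 5 n13535 = n18546 := rfl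
theorem F33180 : act 3 n18546 = n13570 := d16_1 D18546 (iv D13570) (iv F23788)
def n18548 : Q := act 1 n13537
theorem D18548 : act 1 n13537 = n18548 := rfl
theorem F33185 : act 3 n18548 = n13575 := d7_2 (iv F23791) D18548 (iv D13575)
def n18549 : Q := act 1 n13539
theorem D18549 : act 1 n13539 = n18549 := rfl
def n18550 : Q := act 6 n13539
theorem D18550 : act 6 n13539 = n18550 := rfl
theorem F33186 : act 0 n18550 = n18489 := d5_1 D18550 F33081 F32112
theorem F33187 : act 2 n18550 = n13541 := d14_1 D18550 (iv D13541) (iv F23793)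
theorem F33188 : act 3 n18550 = n14292 := d17_1 D18550 F24954 (iv F32108)
theorem F33189 : act 5 n18550 = n14289 := d20_1 D18550 (iv D14289) D14288 (iv F33081) (iv D18489) F23744 D13539
def n18551 : Q := act 0 n13540
theorem D18551 : act 0 n13540 = n18551 := rfl
theorem F33190 : act 3 n18551 = n13581 := d2_2 (iv F23794) D18551 (iv D13581)
theorem F33191 : act 5 n18551 = n13542 := d4_2 (iv F23795) D18551 (iv D13542)
def n18552 : Q := act 2 n13540
theorem D18552 : act 2 n13540 = n18552 := rfl
theorem F33192 : act 5 n18552 = n13543 := d13_2 (iv F23795) D18552 (iv D13543)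
def n18553 : Q := act 6 n13540
theorem D18553 : act 6 n13540 = n18553 := rfl
theorem F33193 : act 3 n18553 = n13583 := d17_1 D18553 (iv D13583) (iv F23794)
def n18554 : Q := act 1 n13541
theorem D18554 : act 1 n13541 = n18554 := rfl
theorem F33194 : act 3 n18554 = n13584 := d7_2 (iv F23797) D18554 (iv D13584)
def n18555 : Q := act 1 n13542
theorem D18555 : act 1 n13542 = n18555 := rfl
theorem F33195 : act 3 n18555 = n13585 := d7_2 (iv F23799) D18555 (iv D13585)
def n18556 : Q := act 2 n13542
theorem D18556 : act 2 n13542 = n18556 := rfl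
theorem F33196 : act 0 n18556 = n13543 := d1_1 D18556 (iv D13543) D13542
def n18557 : Q := act 6 n13542
theorem D18557 : act 6 n13542 = n18557 := rfl
theorem F33197 : act 0 n18557 = n13544 := d5_1 D18557 (iv D13544) D13542
theorem F33198 : act 3 n18557 = n13587 := d17_1 D18557 (iv D13587) (iv F23799)
theorem F33199 : act 5 n18557 = n18553 := d22_2 F33191 D18557 (iv D18553) D18551
theorem F33200 : act 1 n18557 = n17370 := d24_2 D18553 (iv F33199) (iv D17370) (iv D12834) F18221 (iv F18187) F18186 F28875 (iv F19096) (iv D10749) D10748 F19093 D10768 D13540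
theorem F33201 : act 4 n17372 = n18557 := d8_0 F33200 F30453 D17372
theorem F33202 : act 6 n15502 = n18555 := d10_4 D18557 F33200 (iv D17370) (iv F26915) (iv D18555)
theorem F33203 : act 4 n18555 = n15508 := d19_1 F33202 (iv D15508) (iv F26916)
theorem F33204 : act 1 n15508 = n18532 := d8_1 F33203 F33154 D18555
theorem F33205 : act 6 n18532 = n17372 := d10_2 D15508 F33204 (iv D17372) (iv D12836) (iv F20884)
theorem F33206 : act 0 n17372 = n18534 := d5_1 F33205 (iv D18534) D18532
def n18558 : Q := act 3 n13543
theorem D18558 : act 3 n13543 = n18558 := rfl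
theorem F33207 : act 1 n18558 = n14692 := d7_1 D18558 (iv D14692) (iv F23800)
def n18559 : Q := act 6 n13543
theorem D18559 : act 6 n13543 = n18559 := rfl
theorem F33208 : act 2 n18559 = n13544 := d14_1 D18559 (iv D13544) D13543
def n18560 : Q := act 5 n13544
theorem D18560 : act 5 n13544 = n18560 := rfl
theorem F33209 : act 0 n18560 = n18553 := d4_1 D18560 (iv F33199) F33197
theorem F33210 : act 3 n18560 = n13590 := d16_1 D18560 (iv D13590) (iv F23802)
theorem F33211 : act 6 n18560 = n18551 := d20_2 D13544 D18560 F33191 D18557 F33199 (iv D18553) F23795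
def n18561 : Q := act 1 n13548
theorem D18561 : act 1 n13548 = n18561 := rfl
theorem F33212 : act 3 n18561 = n15492 := d7_2 (iv F28933) D18561 (iv D15492)
theorem F33213 : act 6 n18561 = n13552 := d10_2 D13548 D18561 (iv D13552) (iv D10772) D10770
def n18562 : Q := act 6 n13549
theorem D18562 : act 6 n13549 = n18562 := rfl
theorem F33214 : act 3 n18562 = n16979 := d17_1 D18562 F29899 F29169
def n18563 : Q := act 4 n13550
theorem D18563 : act 4 n13550 = n18563 := rfl
theorem F33215 : act 0 n18563 = n13554 := d3_1 D18563 (iv D13554) (iv F23803)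
theorem F33216 : act 5 n18563 = n15128 := d18_2 (iv F28919) D18563 F26364
def n18564 : Q := act 6 n13550
theorem D18564 : act 6 n13550 = n18564 := rfl
theorem F33217 : act 0 n18564 = n13555 := d5_1 D18564 (iv D13555) (iv F23803)
theorem F33218 : act 2 n18564 = n14727 := d14_1 D18564 F25677 (iv F28902)
theorem F33219 : act 3 n18564 = n13551 := d17_1 D18564 (iv D13551) D13550
theorem F33220 : act 5 n18564 = n14724 := d20_1 D18564 (iv D14724) (iv F28900) D13555 (iv F30128) (iv D17152) (iv F28919)
def n18565 : Q := act 1 n13551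
theorem D18565 : act 1 n13551 = n18565 := rfl
def n18566 : Q := act 0 n13552
theorem D18566 : act 0 n13552 = n18566 := rfl
def n18567 : Q := act 2 n13552
theorem D18567 : act 2 n13552 = n18567 := rfl
def n18568 : Q := act 5 n13552
theorem D18568 : act 5 n13552 = n18568 := rfl
theorem F33221 : act 1 n18568 = n18497 := d9_1 D18568 (iv D18497) (iv D13505) (iv F19122) D13552
theorem E9428 : n18498 = n17205 := (c24_6 F33213 D18568 F33221 (iv F33098) (iv D18500) D18498 (iv D17205) (iv D12749) (iv D10291) F17233 F13690 (iv F14468) D11804 (iv F28934) D18561)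
theorem F33222 : act 1 n17205 = n13506 := (sb E9428 (iv D18498))
theorem F33223 : act 1 n18485 = n17341 := d7_3 F30414 F33222 (iv F33075)
def n18569 : Q := act 6 n13554
theorem D18569 : act 6 n13554 = n18569 := rfl
theorem F33224 : act 4 n18569 = n13555 := d19_1 D18569 (iv D13555) D13554
def n18570 : Q := act 1 n13555
theorem D18570 : act 1 n13555 = n18570 := rfl
theorem F33225 : act 3 n18570 = n13556 := d7_2 (iv F23808) D18570 (iv D13556)
theorem F33226 : act 6 n18570 = n13600 := d10_2 D13555 D18570 (iv D13600) (iv D10794) (iv F19123)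
def n18571 : Q := act 0 n13556
theorem D18571 : act 0 n13556 = n18571 := rfl
theorem F33227 : act 6 n18571 = n13601 := d5_2 (iv F23809) D18571 (iv D13601)
def n18572 : Q := act 5 n13556
theorem D18572 : act 5 n13556 = n18572 := rfl
def n18573 : Q := act 1 n13557
theorem D18573 : act 1 n13557 = n18573 := rfl
def n18574 : Q := act 1 n13558
theorem D18574 : act 1 n13558 = n18574 := rfl
def n18575 : Q := act 2 n13558
theorem D18575 : act 2 n13558 = n18575 := rfl
theorem F33228 : act 0 n18575 = n13559 := d1_1 D18575 (iv D13559) D13558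
theorem F33229 : act 6 n18575 = n13563 := d14_2 (iv F23813) D18575 (iv D13563)
def n18576 : Q := act 3 n13559
theorem D18576 : act 3 n13559 = n18576 := rfl
theorem F33230 : act 6 n18576 = n13565 := d17_2 (iv F23814) D18576 (iv D13565)
def n18577 : Q := act 5 n13559
theorem D18577 : act 5 n13559 = n18577 := rfl
theorem F33231 : act 2 n18577 = n13560 := d13_1 D18577 (iv D13560) D13559
def n18578 : Q := act 1 n13560
theorem D18578 : act 1 n13560 = n18578 := rfl
theorem F33232 : act 5 n18578 = n13561 := d9_2 D13560 D18578 (iv D13561) (iv D10776) D10775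
def n18579 : Q := act 0 n13561
theorem D18579 : act 0 n13561 = n18579 := rfl
def n18580 : Q := act 2 n13561
theorem D18580 : act 2 n13561 = n18580 := rfl
def n18581 : Q := act 6 n13561
theorem D18581 : act 6 n13561 = n18581 := rfl
theorem F33233 : act 1 n18581 = n18493 := d10_1 D18581 (iv D18493) (iv D13501) (iv F19127) D13561
def n18582 : Q := act 0 n13562
theorem D18582 : act 0 n13562 = n18582 := rfl
def n18583 : Q := act 2 n13562
theorem D18583 : act 2 n13562 = n18583 := rfl
def n18584 : Q := act 5 n13562
theorem D18584 : act 5 n13562 = n18584 := rfl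
theorem F33234 : act 1 n18584 = n17351 := d9_1 D18584 (iv D17351) (iv F32405) (iv D13564) D13562
theorem F33235 : act 3 n18584 = n17356 := d16_1 D18584 (iv F33167) F33166
def n18585 : Q := act 6 n13562
theorem D18585 : act 6 n13562 = n18585 := rfl
def n18586 : Q := act 1 n13563
theorem D18586 : act 1 n13563 = n18586 := rfl
def n18587 : Q := act 3 n13563
theorem D18587 : act 3 n13563 = n18587 := rfl
theorem F33236 : act 0 n18587 = n13565 := d2_1 D18587 (iv D13565) (iv F23815)
def n18588 : Q := act 5 n13563
theorem D18588 : act 5 n13563 = n18588 := rfl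
theorem F33237 : act 0 n18588 = n13566 := d4_1 D18588 (iv D13566) (iv F23815)
theorem F33238 : act 2 n18588 = n13564 := d13_1 D18588 (iv D13564) D13563
theorem F33239 : act 6 n18588 = n18577 := d22_1 D18588 (iv D18577) F23814 (iv F23815)
theorem F33240 : act 1 n17360 = n13937 := d23_6 D18588 F33238 F32405 F22449 D12831 (iv F30438) F24421 (iv D10978) (iv D8209) (iv D3920) (iv F3034) (iv D1884) F1640 D931 D1889 (iv F17067) D7765 (iv F19128) (iv F23815)
theorem F33241 : act 2 n13938 = n15497 := d6_4 (iv F30438) F33240 F24422 D13938 F26908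
theorem E9429 : n17190 = n13935 := ((c9_4 D17360 F33240 (iv D13937) D13935 (iv D17190) (iv F22456))).symm
theorem F33242 : act 2 n13935 = n12743 := (sb E9429 F30174)
theorem F33243 : act 5 n13935 = n12741 := (sb E9429 (iv D17190))
theorem E9430 : n15344 = n13932 := (c6_2 F33242 (iv F26698) (iv D13932) (iv D10974) D10975 D13935)
theorem F33244 : act 1 n13932 = n12743 := (sb E9430 F26698)
theorem F33245 : act 3 n13932 = n11737 := (sb E9430 F26699)
theorem F33246 : act 5 n13932 = n11735 := (sb E9430 (iv D15344))
theorem E9431 : n15343 = n13933 := (c13_2 F33246 D15343 (iv D13933) D13932)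
theorem F33247 : act 1 n13933 = n15496 := (sb E9431 (iv F26907))
theorem F33248 : act 2 n13933 = n11735 := (sb E9431 (iv D15343))
theorem F33249 : act 5 n15496 = n13938 := d9_2 D13933 F33247 (iv D13938) (iv D10976) D10974
theorem E9432 : n15495 = n13575 := ((c23_19 D15497 (iv F33241) (iv D13938) F19470 (iv D8210) D8209 F12211 (iv F12244) F17250 (iv D8239) (iv F15612) F6009 (iv D3721) D3720 (iv F11523) (iv F19130) D13574 F23825 D13575 (iv D15495))).symm
theorem F33250 : act 0 n13575 = n11813 := (sb E9432 (iv D15495))
theorem E9433 : n18548 = n11817 := (((iv F33185)).symm.trans (sb E9432 F26906))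
theorem E9434 : n15503 = n13537 := ((D15503).symm.trans (sb E9433 (iv D18548)))
theorem F33251 : act 3 n11817 = n13575 := (sb E9433 F33185)
theorem F33252 : act 1 n13537 = n11817 := (sb E9434 (iv D15503))
theorem F33253 : act 1 n15458 = n18551 := d0_6 F33252 (iv D11817) (iv D9699) (iv F14450) D11793 D15458 (iv D18551) (iv D13540) (iv F23790)
theorem F33254 : act 1 n15500 = n18528 := d8_3 F33141 F33252 (iv F26912)
theorem F33255 : act 1 n15505 = n18546 := d9_3 D13537 F33252 D15505 (iv D18546) (iv D13535)
theorem F33256 : act 1 n13581 = n15360 := d7_3 (iv F26842) F33253 F33190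
theorem F33257 : act 0 n15494 = n18424 := d3_3 F32341 F33250 (iv F26905)
def n18589 : Q := act 2 n13565
theorem D18589 : act 2 n13565 = n18589 := rfl
def n18590 : Q := act 4 n13565
theorem D18590 : act 4 n13565 = n18590 := rfl
theorem F33258 : act 1 n18590 = n13603 := d8_1 D18590 (iv D13603) (iv F23818)
def n18591 : Q := act 5 n13565
theorem D18591 : act 5 n13565 = n18591 := rfl
theorem F33259 : act 1 n18591 = n14049 := d9_1 D18591 (iv D14049) F19532 (iv F19147) (iv F23818)
theorem F33260 : act 3 n18591 = n13566 := d16_1 D18591 (iv D13566) D13565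
def n18592 : Q := act 6 n13566
theorem D18592 : act 6 n13566 = n18592 := rfl
theorem F33261 : act 0 n18592 = n18577 := d5_1 D18592 (iv F33239) F33237
theorem F33262 : act 2 n18592 = n13567 := d14_1 D18592 (iv D13567) (iv F23820)
theorem F33263 : act 5 n18592 = n18575 := d20_1 D18592 F33229 D18588 F33239 (iv D18577) F23814 D13566
def n18593 : Q := act 1 n13567
theorem D18593 : act 1 n13567 = n18593 := rfl
theorem F33264 : act 6 n18593 = n18351 := d10_2 D13567 D18593 (iv D18351) (iv D13403) (iv F19129)
def n18594 : Q := act 5 n13568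
theorem D18594 : act 5 n13568 = n18594 := rfl
theorem F33265 : act 0 n18594 = n13570 := d4_1 D18594 (iv D13570) D13568
def n18595 : Q := act 6 n13568
theorem D18595 : act 6 n13568 = n18595 := rfl
def n18596 : Q := act 1 n13570
theorem D18596 : act 1 n13570 = n18596 := rfl
theorem F33269 : act 3 n18596 = n15505 := d7_2 F33180 D18596 F33255
theorem F33270 : act 5 n18596 = n13575 := d9_2 D13570 D18596 (iv D13575) (iv D10782) D10780
theorem F33271 : act 0 n15497 = n18596 := d4_3 F33270 F33250 D15497
def n18597 : Q := act 6 n13570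
theorem D18597 : act 6 n13570 = n18597 := rfl
theorem F33272 : act 5 n18597 = n18595 := d22_2 D13570 D18597 (iv D18595) (iv D13568)
def n18598 : Q := act 5 n13571
theorem D18598 : act 5 n13571 = n18598 := rfl
theorem F33275 : act 6 n18598 = n18594 := d20_2 D13571 D18598 (iv D18594) D18595 (iv F33272) (iv D18597) (iv D13570)
def n18599 : Q := act 3 n13572
theorem D18599 : act 3 n13572 = n18599 := rfl
theorem F33276 : act 1 n18599 = n13573 := d7_1 D18599 (iv D13573) D13572
def n18600 : Q := act 5 n13572
theorem D18600 : act 5 n13572 = n18600 := rfl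
def n18601 : Q := act 6 n13572
theorem D18601 : act 6 n13572 = n18601 := rfl
def n18602 : Q := act 2 n13573
theorem D18602 : act 2 n13573 = n18602 := rfl
theorem F33277 : act 0 n18602 = n13576 := d1_1 D18602 (iv D13576) (iv F23823)
theorem F33278 : act 3 n18602 = n14150 := d11_2 D13573 D18602 F24714 F32087 (iv D10767) F11517 D7756 D10783 D13576 F32092 F19621 D11167 F32085 F19117 D10781
def n18603 : Q := act 4 n13573
theorem D18603 : act 4 n13573 = n18603 := rfl
theorem F33279 : act 0 n18603 = n13577 := d3_1 D18603 (iv D13577) (iv F23823)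
def n18604 : Q := act 5 n13573
theorem D18604 : act 5 n13573 = n18604 := rfl
theorem F33280 : act 0 n18604 = n13578 := d4_1 D18604 (iv D13578) (iv F23823)
theorem F33281 : act 3 n18604 = n13574 := d16_1 D18604 (iv D13574) D13573
theorem F33282 : act 6 n18604 = n18512 := d22_1 D18604 (iv D18512) F23758 (iv F23823)
def n18605 : Q := act 1 n13574
theorem D18605 : act 1 n13574 = n18605 := rfl
def n18606 : Q := act 2 n13575
theorem D18606 : act 2 n13575 = n18606 := rfl
theorem F33283 : act 0 n18606 = n15496 := d1_1 D18606 (iv D15496) (iv F33250)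
def n18607 : Q := act 6 n13575
theorem D18607 : act 6 n13575 = n18607 := rfl
theorem F33284 : act 0 n18607 = n15480 := d5_1 D18607 F26881 (iv F33250)
theorem F33285 : act 1 n18607 = n18516 := d10_1 D18607 (iv D18516) (iv D13513) (iv F19132) D13575
theorem F33286 : act 3 n18607 = n15489 := d17_1 D18607 F26897 F33251
def n18608 : Q := act 4 n13576
theorem D18608 : act 4 n13576 = n18608 := rfl
theorem F33287 : act 1 n18608 = n14163 := d8_1 D18608 F24735 (iv F32091)
theorem F33288 : act 2 n18608 = n13577 := d12_1 D18608 (iv D13577) D13576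
theorem F33289 : act 3 n18608 = n14154 := d15_1 D18608 (iv D14154) (iv D11081) D11082 (iv F32092)
def n18609 : Q := act 5 n13576
theorem D18609 : act 5 n13576 = n18609 := rfl
theorem F33290 : act 2 n18609 = n13578 := d13_1 D18609 (iv D13578) D13576
def n18610 : Q := act 5 n13577
theorem D18610 : act 5 n13577 = n18610 := rfl
theorem F33292 : act 4 n18610 = n13578 := d18_1 D18610 (iv D13578) D13577
def n18611 : Q := act 1 n13578
theorem D18611 : act 1 n13578 = n18611 := rfl
theorem F33293 : act 3 n18611 = n13579 := d7_2 (iv F23828) D18611 (iv D13579)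
theorem F33294 : act 5 n18611 = n13613 := d9_2 D13578 D18611 (iv D13613) (iv D10801) (iv F19133)
def n18612 : Q := act 6 n13578
theorem D18612 : act 6 n13578 = n18612 := rfl
theorem F33296 : act 3 n18612 = n13580 := d17_1 D18612 (iv D13580) (iv F23828)
theorem F33297 : act 5 n18612 = n18509 := d20_1 D18612 F33105 D18604 F33282 (iv D18512) F23758 D13578
def n18613 : Q := act 0 n13579
theorem D18613 : act 0 n13579 = n18613 := rfl
theorem F33298 : act 5 n18613 = n13614 := d4_2 (iv F23829) D18613 (iv D13614)
def n18614 : Q := act 6 n13579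
theorem D18614 : act 6 n13579 = n18614 := rfl
def n18615 : Q := act 1 n13580
theorem D18615 : act 1 n13580 = n18615 := rfl
def n18616 : Q := act 2 n13581
theorem D18616 : act 2 n13581 = n18616 := rfl
theorem F33299 : act 0 n18616 = n13582 := d1_1 D18616 (iv D13582) D13581
theorem F33300 : act 5 n18616 = n13586 := d13_2 (iv F23833) D18616 (iv D13586)
theorem F33301 : act 1 n16922 = n18616 := d9_5 F33300 (iv F29219) (iv D12588) (iv F22107) D16922
theorem F33302 : act 3 n16924 = n18616 := d16_3 F33300 F29220 (iv F29817)
def n18617 : Q := act 3 n13582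
theorem D18617 : act 3 n13582 = n18617 := rfl
theorem F33303 : act 0 n18617 = n16924 := d2_1 D18617 F33302 F33299
theorem F33304 : act 1 n18617 = n17049 := d7_1 D18617 F30237 F23857
theorem F33305 : act 5 n18617 = n13588 := d16_2 (iv F23834) D18617 (iv D13588)
theorem F33306 : act 2 n18617 = n17052 := d23_1 (iv F33305) (iv D17052) F22218 F18106 (iv D5637) (iv D2714) F16681 (iv D1313) (iv D656) (iv D332) (iv F558) (iv F642) (iv F1197) D1295 D2671 D5544 (iv F18065) D12589 F29214
def n18618 : Q := act 6 n13582
theorem D18618 : act 6 n13582 = n18618 := rfl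
theorem F33307 : act 2 n18618 = n13583 := d14_1 D18618 (iv D13583) D13582
def n18619 : Q := act 1 n13583
theorem D18619 : act 1 n13583 = n18619 := rfl
theorem F33308 : act 6 n18619 = n13584 := d10_2 D13583 D18619 (iv D13584) (iv D10786) D10785
def n18620 : Q := act 0 n13584
theorem D18620 : act 0 n13584 = n18620 := rfl
def n18621 : Q := act 2 n13584
theorem D18621 : act 2 n13584 = n18621 := rfl
def n18622 : Q := act 5 n13584
theorem D18622 : act 5 n13584 = n18622 := rfl
theorem F33309 : act 1 n18622 = n18506 := d9_1 D18622 (iv D18506) (iv D13509) (iv F19137) D13584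
def n18623 : Q := act 0 n13585
theorem D18623 : act 0 n13585 = n18623 := rfl
theorem F33310 : act 1 n18623 = n18582 := d0_2 D13585 D18623 (iv D18582) (iv D13562) (iv D10777) (iv D7754) (iv F5699) D7758 D10787
def n18624 : Q := act 2 n13585
theorem D18624 : act 2 n13585 = n18624 := rfl
theorem F33311 : act 1 n18624 = n16929 := d6_1 D18624 F29825 F29219 (iv D13586) D13585
theorem F33312 : act 3 n17077 = n18624 := d7_0 F33311 F29826 D17077
def n18625 : Q := act 5 n13585
theorem D18625 : act 5 n13585 = n18625 := rfl
def n18626 : Q := act 6 n13585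
theorem D18626 : act 6 n13585 = n18626 := rfl
theorem F33313 : act 3 n18626 = n15502 := d17_1 D18626 F33202 F33195
theorem F33314 : act 1 n17368 = n18626 := d7_3 F33313 F26915 (iv F30449)
theorem F33315 : act 5 n15499 = n18626 := d16_0 F33313 (iv D15502) (iv F26911)
def n18627 : Q := act 6 n13586
theorem D18627 : act 6 n13586 = n18627 := rfl
theorem F33316 : act 0 n18627 = n13589 := d5_1 D18627 (iv D13589) (iv F23835)
theorem F33317 : act 2 n18627 = n13587 := d14_1 D18627 (iv D13587) D13586
theorem F33318 : act 3 n18627 = n16932 := d17_1 D18627 (iv D16932) (iv F29220)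
theorem F33319 : act 5 n18627 = n18618 := d22_2 F33300 D18627 (iv D18618) (iv F33299)
def n18628 : Q := act 1 n13587
theorem D18628 : act 1 n13587 = n18628 := rfl
theorem F33320 : act 3 n18628 = n17370 := d7_2 F33198 D18628 (iv F33200)
theorem F33321 : act 6 n18628 = n17368 := d10_2 D13587 D18628 F33314 (iv D18626) (iv D13585)
def n18629 : Q := act 2 n13588
theorem D18629 : act 2 n13588 = n18629 := rfl
theorem F33322 : act 0 n18629 = n16931 := d1_1 D18629 (iv D16931) F29214
theorem F33323 : act 1 n18629 = n17236 := d6_1 D18629 F30247 (iv D14108) F19566 (iv F23838)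
theorem F33324 : act 5 n18629 = n17052 := d13_2 F33305 D18629 (iv F33306)
def n18630 : Q := act 4 n13588
theorem D18630 : act 4 n13588 = n18630 := rfl
theorem F33325 : act 0 n18630 = n16336 := d3_1 D18630 F28287 F29214
theorem F33326 : act 1 n18630 = n13616 := d8_1 D18630 (iv D13616) (iv F23838)
def n18631 : Q := act 6 n13588
theorem D18631 : act 6 n13588 = n18631 := rfl
theorem F33327 : act 0 n18631 = n16932 := d5_1 D18631 (iv D16932) F29214
theorem F33328 : act 1 n18631 = n14003 := d10_1 D18631 (iv D14003) F19508 (iv F19158) (iv F23838)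
theorem F33329 : act 3 n18631 = n13589 := d17_1 D18631 (iv D13589) D13588
def n18632 : Q := act 5 n13589
theorem D18632 : act 5 n13589 = n18632 := rfl
theorem F33330 : act 0 n18632 = n18618 := d4_1 D18632 (iv F33319) F33316
theorem F33331 : act 2 n18632 = n13590 := d13_1 D18632 (iv D13590) (iv F23840)
theorem F33332 : act 6 n18632 = n18616 := d20_2 D13589 D18632 F33300 D18627 F33319 (iv D18618) F23834
def n18633 : Q := act 1 n13590
theorem D18633 : act 1 n13590 = n18633 := rfl
theorem F33333 : act 5 n18633 = n18338 := d9_2 D13590 D18633 (iv D18338) (iv D13397) (iv F19139)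
def n18634 : Q := act 1 n13591
theorem D18634 : act 1 n13591 = n18634 := rfl
theorem F33334 : act 3 n18634 = n15186 := d7_2 (iv F28988) D18634 F26463
theorem F33335 : act 5 n18634 = n15185 := d9_2 (iv F28989) D18634 F26461 F20619 (iv F20677)
def n18635 : Q := act 4 n13596
theorem D18635 : act 4 n13596 = n18635 := rfl
theorem F33336 : act 0 n18635 = n14455 := d3_1 D18635 F25231 (iv F28903)
theorem F33337 : act 1 n18635 = n13597 := d8_1 D18635 (iv D13597) D13596
theorem F33338 : act 2 n18635 = n14106 := d12_1 D18635 F24628 F28969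
theorem F33339 : act 3 n18635 = n13597 := d15_1 D18635 (iv D13597) (iv F19168) (iv F28975) F23891
theorem F33340 : act 5 n18635 = n14010 := d18_2 F28968 D18635 (iv F24603)
def n18636 : Q := act 6 n13596
theorem D18636 : act 6 n13596 = n18636 := rfl
theorem F33341 : act 0 n18636 = n14599 := d5_1 D18636 (iv D14599) (iv F28903)
theorem F33342 : act 2 n18636 = n14110 := d14_1 D18636 (iv D14110) F28969
theorem F33343 : act 3 n18636 = n14112 := d17_1 D18636 (iv F28977) F23891
theorem F33344 : act 5 n18636 = n14110 := d22_2 F28968 D18636 (iv D14110) (iv F24602)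
def n18637 : Q := act 6 n13597
theorem D18637 : act 6 n13597 = n18637 := rfl
theorem F33345 : act 2 n18637 = n13599 := d14_1 D18637 (iv D13599) (iv F23850)
theorem F33346 : act 4 n18637 = n13598 := d19_1 D18637 (iv D13598) D13597
theorem F33347 : act 5 n18637 = n14107 := d22_2 (iv F23851) D18637 (iv D14107) F19563
def n18638 : Q := act 1 n13599
theorem D18638 : act 1 n13599 = n18638 := rfl
theorem F33348 : act 4 n18638 = n13600 := d8_2 (iv F23855) D18638 (iv D13600)
def n18639 : Q := act 0 n13600
theorem D18639 : act 0 n13600 = n18639 := rfl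
theorem F33349 : act 3 n18639 = n13601 := d2_2 (iv F23856) D18639 (iv D13601)
def n18640 : Q := act 1 n13601
theorem D18640 : act 1 n13601 = n18640 := rfl
def n18641 : Q := act 5 n13601
theorem D18641 : act 5 n13601 = n18641 := rfl
theorem F33350 : act 0 n18641 = n13602 := d4_1 D18641 (iv D13602) D13601
theorem F33351 : act 2 n18641 = n18613 := d13_1 D18641 F33298 F23876
theorem F33352 : act 6 n18641 = n18572 := d22_1 D18641 (iv D18572) F23809 D13601
def n18642 : Q := act 6 n13602
theorem D18642 : act 6 n13602 = n18642 := rfl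
theorem F33353 : act 0 n18642 = n18572 := d5_1 D18642 (iv F33352) F33350
theorem F33354 : act 2 n18642 = n18614 := d14_1 D18642 (iv D18614) (iv F23858)
theorem F33355 : act 5 n18642 = n18571 := d20_1 D18642 F33227 D18641 F33352 (iv D18572) F23809 D13602
def n18643 : Q := act 1 n13604
theorem D18643 : act 1 n13604 = n18643 := rfl
def n18644 : Q := act 3 n13604
theorem D18644 : act 3 n13604 = n18644 := rfl
theorem F33356 : act 0 n18644 = n13605 := d2_1 D18644 (iv D13605) D13604
def n18645 : Q := act 5 n13604
theorem D18645 : act 5 n13604 = n18645 := rfl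
theorem F33357 : act 0 n18645 = n13606 := d4_1 D18645 (iv D13606) D13604
def n18646 : Q := act 6 n13604
theorem D18646 : act 6 n13604 = n18646 := rfl
def n18648 : Q := act 4 n13605
theorem D18648 : act 4 n13605 = n18648 := rfl
theorem F33361 : act 1 n18648 = n13608 := d8_1 D18648 (iv D13608) (iv F23862)
def n18651 : Q := act 6 n13606
theorem D18651 : act 6 n13606 = n18651 := rfl
def n18653 : Q := act 4 n13609
theorem D18653 : act 4 n13609 = n18653 := rfl
theorem F33370 : act 1 n18653 = n13610 := d8_1 D18653 (iv D13610) D13609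
theorem F33371 : act 2 n18653 = n14163 := d12_1 D18653 F24735 (iv F32094)
theorem F33372 : act 3 n18653 = n13610 := d15_1 D18653 (iv D13610) (iv F19196) (iv F32098) F23925
theorem F33373 : act 6 n18653 = n14057 := d19_2 (iv F32095) D18653 (iv F24710)
def n18654 : Q := act 5 n13609
theorem D18654 : act 5 n13609 = n18654 := rfl
theorem F33374 : act 0 n18654 = n17821 := d4_1 D18654 F33012 (iv F32093)
theorem F33375 : act 2 n18654 = n14167 := d13_1 D18654 (iv D14167) (iv F32094)
theorem F33376 : act 3 n18654 = n14169 := d16_1 D18654 (iv F32099) F23925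
theorem F33377 : act 6 n18654 = n14167 := d22_1 D18654 (iv D14167) (iv F23943) (iv F32093)
def n18655 : Q := act 5 n13610
theorem D18655 : act 5 n13610 = n18655 := rfl
theorem F33378 : act 2 n18655 = n13612 := d13_1 D18655 (iv D13612) (iv F23868)
theorem F33379 : act 4 n18655 = n13611 := d18_1 D18655 (iv D13611) D13610
theorem F33380 : act 6 n18655 = n14164 := d22_1 D18655 (iv D14164) (iv F23938) F23936
def n18656 : Q := act 1 n13611
theorem D18656 : act 1 n13611 = n18656 := rfl
theorem F33381 : act 3 n18656 = n14173 := d7_2 (iv F23871) D18656 (iv D14173)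
def n18657 : Q := act 1 n13612
theorem D18657 : act 1 n13612 = n18657 := rfl
theorem F33382 : act 4 n18657 = n13613 := d8_2 (iv F23873) D18657 (iv D13613)
def n18658 : Q := act 0 n13613
theorem D18658 : act 0 n13613 = n18658 := rfl
theorem F33383 : act 3 n18658 = n13614 := d2_2 (iv F23875) D18658 (iv D13614)
def n18659 : Q := act 2 n13613
theorem D18659 : act 2 n13613 = n18659 := rfl
def n18660 : Q := act 6 n13613
theorem D18660 : act 6 n13613 = n18660 := rfl
theorem F33384 : act 1 n18660 = n18576 := d10_1 D18660 F33230 F23818 (iv F19154) D13613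
theorem F33385 : act 3 n18660 = n13615 := d17_1 D18660 (iv D13615) (iv F23875)
def n18661 : Q := act 1 n13614
theorem D18661 : act 1 n13614 = n18661 := rfl
def n18662 : Q := act 6 n13614
theorem D18662 : act 6 n13614 = n18662 := rfl
theorem F33386 : act 0 n18662 = n13615 := d5_1 D18662 (iv D13615) D13614
theorem F33387 : act 2 n18662 = n18571 := d14_1 D18662 F33227 (iv F23876)
theorem F33388 : act 5 n18662 = n18614 := d22_2 F33298 D18662 (iv D18614) D18613
def n18663 : Q := act 5 n13615
theorem D18663 : act 5 n13615 = n18663 := rfl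
theorem F33389 : act 0 n18663 = n18614 := d4_1 D18663 (iv F33388) F33386
theorem F33390 : act 2 n18663 = n18572 := d13_1 D18663 (iv D18572) (iv F23878)
theorem F33391 : act 6 n18663 = n18613 := d20_2 D13615 D18663 F33298 D18662 F33388 (iv D18614) F23829
def n18664 : Q := act 1 n13626
theorem D18664 : act 1 n13626 = n18664 := rfl
theorem F33392 : act 4 n18664 = n14688 := d8_2 (iv F28965) D18664 (iv D14688)
theorem F33393 : act 6 n18664 = n13631 := d10_2 D13626 D18664 (iv D13631) (iv D10811) D10808
def n18665 : Q := act 6 n13627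
theorem D18665 : act 6 n13627 = n18665 := rfl
theorem F33394 : act 0 n18665 = n18637 := d5_1 D18665 (iv D18637) (iv F23902)
theorem F33395 : act 2 n18665 = n14014 := d14_1 D18665 F24513 (iv F23903)
theorem F33396 : act 4 n18665 = n13628 := d19_1 D18665 (iv D13628) D13627
theorem F33397 : act 5 n18665 = n14011 := d20_1 D18665 (iv D14011) (iv F23851) D18637 F33347 (iv D14107) (iv F23904)
def n18666 : Q := act 1 n13628
theorem D18666 : act 1 n13628 = n18666 := rfl
theorem F33398 : act 3 n18666 = n13631 := d7_2 (iv F23907) D18666 (iv D13631)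
theorem F33399 : act 5 n18666 = n14803 := d9_2 (iv F23908) D18666 F25747 (iv F29200) (iv D14012)
theorem F33400 : act 0 n14805 = n18666 := d4_3 F33399 (iv D14803) D14805
theorem F33401 : act 2 n15432 = n18666 := d13_3 F33399 F29202 D15432
def n18667 : Q := act 0 n13631
theorem D18667 : act 0 n13631 = n18667 := rfl
theorem F33402 : act 3 n18667 = n14805 := d2_2 F33398 D18667 F33400
theorem F33403 : act 5 n14712 = n18667 := d16_0 F33402 (iv D14805) (iv F25659)
def n18668 : Q := act 5 n13631
theorem D18668 : act 5 n13631 = n18668 := rfl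
theorem F33404 : act 0 n18668 = n14712 := d4_1 D18668 F33403 (iv D18667)
theorem F33405 : act 3 n18668 = n14803 := d16_1 D18668 (iv F33399) F33398
def n18669 : Q := act 0 n13632
theorem D18669 : act 0 n13632 = n18669 := rfl
theorem F33406 : act 2 n18669 = n14860 := d1_2 (iv F23912) D18669 (iv D14860)
def n18670 : Q := act 4 n13632
theorem D18670 : act 4 n13632 = n18670 := rfl
theorem F33407 : act 1 n18670 = n13633 := d8_1 D18670 (iv D13633) D13632
theorem F33408 : act 2 n18670 = n14134 := d12_1 D18670 F32939 (iv F23912)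
def n18671 : Q := act 5 n13632
theorem D18671 : act 5 n13632 = n18671 := rfl
theorem F33409 : act 1 n18671 = n14145 := d9_1 D18671 (iv D14145) (iv D11078) (iv F19182) D13632
theorem F33410 : act 2 n18671 = n14863 := d13_1 D18671 (iv D14863) (iv F23912)
def n18672 : Q := act 6 n13632
theorem D18672 : act 6 n13632 = n18672 := rfl
theorem F33411 : act 2 n18672 = n14864 := d14_1 D18672 (iv D14864) (iv F23912)
def n18673 : Q := act 3 n13633
theorem D18673 : act 3 n13633 = n18673 := rfl
theorem F33412 : act 0 n18673 = n14167 := d2_1 D18673 F24743 (iv F23913)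
theorem F33413 : act 2 n18673 = n17821 := d11_1 D18673 (iv D17821) (iv D13071) F18526 (iv F32825) (iv F12394) (iv F19629) (iv F24743) (iv F33375) F33376 F24746 F32880 (iv F32832) (iv F19185) (iv F23914)
theorem F33414 : act 5 n18673 = n14147 := d16_2 (iv F23915) D18673 (iv D14147)
theorem F33415 : act 6 n18673 = n17821 := d17_2 (iv F32916) D18673 (iv D17821)
def n18676 : Q := act 4 n13639
theorem D18676 : act 4 n13639 = n18676 := rfl
theorem F33418 : act 2 n18676 = n14869 := d12_1 D18676 (iv D14869) (iv F23929)
def n18677 : Q := act 5 n13639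
theorem D18677 : act 5 n13639 = n18677 := rfl
theorem F33420 : act 2 n18677 = n14870 := d13_1 D18677 (iv D14870) (iv F23929)
def n18678 : Q := act 6 n13639
theorem D18678 : act 6 n13639 = n18678 := rfl
def n18680 : Q := act 4 n13640
theorem D18680 : act 4 n13640 = n18680 := rfl
theorem F33424 : act 1 n18680 = n13644 := d8_1 D18680 (iv D13644) (iv F23930)
def n18681 : Q := act 5 n13640
theorem D18681 : act 5 n13640 = n18681 := rfl
theorem F33425 : act 3 n18681 = n13642 := d16_1 D18681 (iv D13642) D13640
def n18682 : Q := act 6 n13640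
theorem D18682 : act 6 n13640 = n18682 := rfl
theorem F33426 : act 1 n18682 = n14156 := d10_1 D18682 (iv D14156) F19619 (iv F19203) (iv F23930)
theorem F33427 : act 3 n18682 = n13643 := d17_1 D18682 (iv D13643) D13640
def n18685 : Q := act 6 n13641
theorem D18685 : act 6 n13641 = n18685 := rfl
theorem F33431 : act 1 n18685 = n14159 := d10_1 D18685 (iv D14159) F19620 (iv F19205) (iv F23931)
theorem F33432 : act 2 n18685 = n14878 := d14_1 D18685 (iv D14878) (iv F23932)
theorem F33433 : act 4 n18685 = n13643 := d19_1 D18685 (iv D13643) D13641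
def n18686 : Q := act 1 n13642
theorem D18686 : act 1 n13642 = n18686 := rfl
theorem F33434 : act 5 n18686 = n13648 := d9_2 D13642 D18686 (iv D13648) (iv D10822) D10819
def n18687 : Q := act 6 n13642
theorem D18687 : act 6 n13642 = n18687 := rfl
theorem F33436 : act 5 n18687 = n18678 := d22_2 D13642 D18687 (iv D18678) (iv D13639)
def n18688 : Q := act 5 n13643
theorem D18688 : act 5 n13643 = n18688 := rfl
theorem F33438 : act 2 n18688 = n14880 := d13_1 D18688 (iv D14880) (iv F23935)
theorem F33439 : act 6 n18688 = n18677 := d20_2 D13643 D18688 (iv D18677) D18678 (iv F33436) (iv D18687) (iv D13642)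
def n18689 : Q := act 3 n13644
theorem D18689 : act 3 n13644 = n18689 := rfl
theorem F33440 : act 0 n18689 = n18653 := d2_1 D18689 F33372 (iv F23936)
theorem F33441 : act 2 n18689 = n14057 := d11_1 D18689 (iv D14057) F19534 (iv F19350) (iv F23668) F23669 (iv F23868) (iv F33372) F33371 (iv D14163) F19625 (iv F24203) (iv F24270) F24271 (iv F23937)
theorem F33442 : act 4 n18689 = n13646 := d15_2 D13644 D18689 (iv D13646) (iv D10821) D10820
theorem F33443 : act 6 n18689 = n14163 := d17_2 (iv F23938) D18689 (iv D14163)
def n18690 : Q := act 5 n13644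
theorem D18690 : act 5 n13644 = n18690 := rfl
theorem F33444 : act 0 n18690 = n18655 := d4_1 D18690 (iv D18655) (iv F23936)
theorem F33445 : act 2 n18690 = n14061 := d13_1 D18690 F24563 (iv F23937)
theorem F33446 : act 4 n18690 = n13645 := d18_1 D18690 (iv D13645) D13644
theorem F33447 : act 6 n18690 = n14058 := d20_2 (iv F23938) D18690 (iv D14058) (iv F23869) D18655 F33380 (iv D14164)
def n18691 : Q := act 1 n13645
theorem D18691 : act 1 n13645 = n18691 := rfl
theorem F33448 : act 3 n18691 = n13648 := d7_2 (iv F23941) D18691 (iv D13648)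
def n18692 : Q := act 0 n13648
theorem D18692 : act 0 n13648 = n18692 := rfl
def n18693 : Q := act 6 n13648
theorem D18693 : act 6 n13648 = n18693 := rfl
theorem F33449 : act 1 n18693 = n18672 := d10_1 D18693 (iv D18672) (iv D13632) (iv F19207) D13648
def n18694 : Q := act 0 n13649
theorem D18694 : act 0 n13649 = n18694 := rfl
theorem F33450 : act 2 n18694 = n14887 := d1_2 (iv F23947) D18694 (iv D14887)
theorem F33451 : act 3 n18694 = n14756 := d2_2 F24509 D18694 F29199
theorem F33452 : act 5 n14689 = n18694 := d16_0 F33451 (iv D14756) (iv F25633)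
def n18695 : Q := act 4 n13649
theorem D18695 : act 4 n13649 = n18695 := rfl
theorem F33453 : act 1 n18695 = n13650 := d8_1 D18695 (iv D13650) D13649
theorem F33454 : act 2 n18695 = n14191 := d12_1 D18695 F32712 (iv F23947)
def n18696 : Q := act 5 n13649
theorem D18696 : act 5 n13649 = n18696 := rfl
theorem F33455 : act 0 n18696 = n14689 := d4_1 D18696 F33452 (iv D18694)
theorem F33456 : act 1 n18696 = n18668 := d9_1 D18696 (iv D18668) (iv D13631) (iv F19212) D13649
theorem F33457 : act 2 n18696 = n14890 := d13_1 D18696 (iv D14890) (iv F23947)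
theorem F33458 : act 3 n18696 = n14754 := d16_1 D18696 (iv F29200) F24509
def n18697 : Q := act 6 n13649
theorem D18697 : act 6 n13649 = n18697 := rfl
theorem F33459 : act 1 n18697 = n14089 := d10_1 D18697 (iv D14089) (iv D11048) (iv F19213) D13649
theorem F33460 : act 2 n18697 = n14891 := d14_1 D18697 (iv D14891) (iv F23947)
def n18698 : Q := act 3 n13650
theorem D18698 : act 3 n13650 = n18698 := rfl
theorem F33461 : act 0 n18698 = n14110 := d2_1 D18698 F24636 (iv F23948)
theorem F33462 : act 2 n18698 = n14599 := d11_1 D18698 F32602 (iv D12986) F18447 (iv F32575) (iv F12313) (iv F19568) (iv F24636) (iv F33342) F33343 F24639 (iv F32583) (iv F32587) (iv F19216) (iv F23949)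
theorem F33463 : act 5 n18698 = n14599 := d16_2 (iv F32603) D18698 F32602
theorem F33464 : act 6 n18698 = n14090 := d17_2 (iv F23951) D18698 (iv D14090)
def n18699 : Q := act 5 n13653
theorem D18699 : act 5 n13653 = n18699 := rfl
theorem F33465 : act 0 n18699 = n13656 := d4_1 D18699 (iv D13656) (iv F23960)
theorem F33466 : act 2 n18699 = n15975 := d13_1 D18699 (iv D15975) F23961
theorem F33467 : act 3 n18699 = n13654 := d16_1 D18699 (iv D13654) D13653
def n18700 : Q := act 6 n13653
theorem D18700 : act 6 n13653 = n18700 := rfl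
theorem F33468 : act 0 n18700 = n13657 := d5_1 D18700 (iv D13657) (iv F23960)
theorem F33469 : act 2 n18700 = n15976 := d14_1 D18700 (iv D15976) F23961
theorem F33470 : act 3 n18700 = n13655 := d17_1 D18700 (iv D13655) D13653
def n18701 : Q := act 1 n13654
theorem D18701 : act 1 n13654 = n18701 := rfl
theorem F33471 : act 4 n18701 = n13838 := d8_2 (iv F23964) D18701 (iv D13838)
def n18702 : Q := act 1 n13655
theorem D18702 : act 1 n13655 = n18702 := rfl
theorem F33472 : act 4 n18702 = n13839 := d8_2 (iv F23967) D18702 (iv D13839)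
def n18703 : Q := act 1 n13656
theorem D18703 : act 1 n13656 = n18703 := rfl
theorem F33473 : act 3 n18703 = n13658 := d7_2 (iv F23969) D18703 (iv D13658)
theorem F33474 : act 5 n18703 = n13662 := d9_2 D13656 D18703 (iv D13662) (iv D10834) (iv F19237)
def n18704 : Q := act 6 n13656
theorem D18704 : act 6 n13656 = n18704 := rfl
theorem F33475 : act 2 n18704 = n15980 := d14_1 D18704 (iv D15980) (iv F23968)
theorem F33476 : act 3 n18704 = n13659 := d17_1 D18704 (iv D13659) (iv F23969)
theorem F33477 : act 5 n18704 = n18700 := d22_2 D13656 D18704 (iv D18700) F23960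
def n18705 : Q := act 1 n13657
theorem D18705 : act 1 n13657 = n18705 := rfl
theorem F33478 : act 3 n18705 = n13660 := d7_2 (iv F23971) D18705 (iv D13660)
theorem F33479 : act 6 n18705 = n13663 := d10_2 D13657 D18705 (iv D13663) (iv D10835) (iv F19237)
def n18706 : Q := act 5 n13657
theorem D18706 : act 5 n13657 = n18706 := rfl
theorem F33480 : act 0 n18706 = n18704 := d4_1 D18706 F33477 F33468
theorem F33481 : act 2 n18706 = n15982 := d13_1 D18706 (iv D15982) (iv F23970)
theorem F33482 : act 3 n18706 = n13661 := d16_1 D18706 (iv D13661) (iv F23971)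
theorem F33483 : act 6 n18706 = n18699 := d20_2 D13657 D18706 (iv D18699) D18700 (iv F33477) (iv D18704) (iv D13656)
def n18707 : Q := act 0 n13658
theorem D18707 : act 0 n13658 = n18707 := rfl
theorem F33484 : act 4 n18707 = n13840 := d3_2 (iv F23972) D18707 (iv D13840)
theorem F33485 : act 5 n18707 = n13664 := d4_2 (iv F23973) D18707 (iv D13664)
theorem F33486 : act 2 n18707 = n14681 := d23_1 (iv F33485) F32006 (iv D18288) F23531 D13373 F23536 F18977 F18979 (iv D10684) (iv D7599) F5590 (iv D1774) D1773 D3672 D7660 D10703 F19011 D10836 D13664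
theorem F33487 : act 1 n16282 = n18707 := d6_5 F33486 F32006 F32005 (iv D16451) (iv F28179)
theorem F33488 : act 0 n18701 = n16269 := d0_5 F33487 (iv D18707) (iv D13658) (iv F23962) D18701 (iv D16269) F21523 D12213 D16282
def n18708 : Q := act 2 n13658
theorem D18708 : act 2 n13658 = n18708 := rfl
theorem F33489 : act 0 n18708 = n14681 := d1_1 D18708 (iv F33486) (iv D18707)
theorem F33490 : act 4 n18708 = n13841 := d12_2 (iv F23972) D18708 (iv D13841)
theorem F33491 : act 5 n18708 = n13665 := d13_2 (iv F23973) D18708 (iv D13665)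
def n18709 : Q := act 6 n13658
theorem D18709 : act 6 n13658 = n18709 := rfl
theorem F33492 : act 4 n18709 = n13842 := d19_1 D18709 (iv D13842) (iv F23972)
def n18710 : Q := act 1 n13659
theorem D18710 : act 1 n13659 = n18710 := rfl
theorem F33493 : act 4 n18710 = n13843 := d8_2 (iv F23974) D18710 (iv D13843)
def n18711 : Q := act 0 n13660
theorem D18711 : act 0 n13660 = n18711 := rfl
theorem F33494 : act 4 n18711 = n13844 := d3_2 (iv F23976) D18711 (iv D13844)
theorem F33495 : act 6 n18711 = n13667 := d5_2 (iv F23977) D18711 (iv D13667)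
def n18712 : Q := act 2 n13660
theorem D18712 : act 2 n13660 = n18712 := rfl
theorem F33496 : act 4 n18712 = n13845 := d12_2 (iv F23976) D18712 (iv D13845)
theorem F33497 : act 6 n18712 = n13668 := d14_2 (iv F23977) D18712 (iv D13668)
def n18713 : Q := act 5 n13660
theorem D18713 : act 5 n13660 = n18713 := rfl
theorem F33498 : act 4 n18713 = n13846 := d18_1 D18713 (iv D13846) (iv F23976)
def n18714 : Q := act 1 n13661
theorem D18714 : act 1 n13661 = n18714 := rfl
theorem F33499 : act 4 n18714 = n13847 := d8_2 (iv F23980) D18714 (iv D13847)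
def n18715 : Q := act 0 n13662
theorem D18715 : act 0 n13662 = n18715 := rfl
theorem F33500 : act 3 n18715 = n13664 := d2_2 (iv F23982) D18715 (iv D13664)
def n18716 : Q := act 2 n13662
theorem D18716 : act 2 n13662 = n18716 := rfl
theorem F33501 : act 1 n18716 = n15950 := d6_1 D18716 (iv D15950) (iv D12045) (iv F19242) D13662
def n18717 : Q := act 6 n13662
theorem D18717 : act 6 n13662 = n18717 := rfl
theorem F33502 : act 3 n18717 = n13666 := d17_1 D18717 (iv D13666) (iv F23982)
def n18718 : Q := act 0 n13663
theorem D18718 : act 0 n13663 = n18718 := rfl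
theorem F33503 : act 3 n18718 = n13667 := d2_2 (iv F23983) D18718 (iv D13667)
def n18719 : Q := act 2 n13663
theorem D18719 : act 2 n13663 = n18719 := rfl
theorem F33504 : act 1 n18719 = n15954 := d6_1 D18719 (iv D15954) (iv D12047) (iv F19245) D13663
def n18720 : Q := act 5 n13663
theorem D18720 : act 5 n13663 = n18720 := rfl
theorem F33505 : act 3 n18720 = n13669 := d16_1 D18720 (iv D13669) (iv F23983)
def n18721 : Q := act 1 n13664
theorem D18721 : act 1 n13664 = n18721 := rfl
theorem F33506 : act 4 n18721 = n13848 := d8_2 (iv F23984) D18721 (iv D13848)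
def n18722 : Q := act 2 n13664
theorem D18722 : act 2 n13664 = n18722 := rfl
theorem F33507 : act 0 n18722 = n13665 := d1_1 D18722 (iv D13665) D13664
theorem F33508 : act 4 n18722 = n13849 := d12_2 (iv F23984) D18722 (iv D13849)
theorem F33509 : act 5 n18722 = n14681 := d13_2 F33485 D18722 (iv F33486)
def n18723 : Q := act 6 n13664
theorem D18723 : act 6 n13664 = n18723 := rfl
theorem F33510 : act 0 n18723 = n13666 := d5_1 D18723 (iv D13666) D13664
theorem F33511 : act 4 n18723 = n13850 := d19_1 D18723 (iv D13850) (iv F23984)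
theorem F33512 : act 5 n18723 = n18709 := d22_2 F33485 D18723 (iv D18709) D18707
def n18724 : Q := act 6 n13665
theorem D18724 : act 6 n13665 = n18724 := rfl
theorem F33513 : act 2 n18724 = n13666 := d14_1 D18724 (iv D13666) D13665
theorem F33514 : act 4 n18724 = n13852 := d19_1 D18724 (iv D13852) (iv F23985)
def n18725 : Q := act 5 n13666
theorem D18725 : act 5 n13666 = n18725 := rfl
theorem F33515 : act 0 n18725 = n18709 := d4_1 D18725 (iv F33512) F33510
theorem F33516 : act 4 n18725 = n13853 := d18_1 D18725 (iv D13853) (iv F23986)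
theorem F33517 : act 6 n18725 = n18707 := d20_2 D13666 D18725 F33485 D18723 F33512 (iv D18709) F23973
def n18726 : Q := act 1 n13667
theorem D18726 : act 1 n13667 = n18726 := rfl
theorem F33518 : act 4 n18726 = n13854 := d8_2 (iv F23987) D18726 (iv D13854)
def n18727 : Q := act 2 n13667
theorem D18727 : act 2 n13667 = n18727 := rfl
theorem F33519 : act 0 n18727 = n13668 := d1_1 D18727 (iv D13668) D13667
theorem F33520 : act 4 n18727 = n13855 := d12_2 (iv F23987) D18727 (iv D13855)
def n18728 : Q := act 5 n13667
theorem D18728 : act 5 n13667 = n18728 := rfl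
theorem F33521 : act 0 n18728 = n13669 := d4_1 D18728 (iv D13669) D13667
theorem F33522 : act 4 n18728 = n13856 := d18_1 D18728 (iv D13856) (iv F23987)
theorem F33523 : act 6 n18728 = n18713 := d22_1 D18728 (iv D18713) F23977 D13667
def n18729 : Q := act 3 n13668
theorem D18729 : act 3 n13668 = n18729 := rfl
def n18730 : Q := act 5 n13668
theorem D18730 : act 5 n13668 = n18730 := rfl
theorem F33524 : act 2 n18730 = n13669 := d13_1 D18730 (iv D13669) D13668
theorem F33525 : act 4 n18730 = n13858 := d18_1 D18730 (iv D13858) (iv F23988)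
def n18731 : Q := act 6 n13669
theorem D18731 : act 6 n13669 = n18731 := rfl
theorem F33526 : act 0 n18731 = n18713 := d5_1 D18731 (iv F33523) F33521
theorem F33527 : act 4 n18731 = n13859 := d19_1 D18731 (iv D13859) (iv F23989)
theorem F33528 : act 5 n18731 = n18711 := d20_1 D18731 F33495 D18728 F33523 (iv D18713) F23977 D13669
def n18732 : Q := act 0 n13670
theorem D18732 : act 0 n13670 = n18732 := rfl
theorem F33529 : act 3 n18732 = n15930 := d2_2 (iv F23990) D18732 (iv D15930)
theorem F33530 : act 1 n18193 = n18732 := d7_3 F33529 (iv F27536) (iv F31822)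
theorem F33531 : act 2 n18732 = n18190 := d6_2 D18193 F33530 (iv D18190) F23386 D13311
def n18733 : Q := act 2 n13670
theorem D18733 : act 2 n13670 = n18733 := rfl
theorem F33532 : act 0 n18733 = n18190 := d1_1 D18733 (iv F33531) (iv D18732)
theorem F33533 : act 1 n18733 = n13673 := d6_1 D18733 (iv D13673) (iv D10840) (iv F19250) D13670
theorem F33534 : act 4 n18733 = n18732 := d12_2 F31810 D18733 F33531
theorem F33535 : act 5 n18733 = n18732 := d13_2 F31811 D18733 F33531
theorem F33536 : act 1 n15975 = n15975 := d23_10 (iv F33535) (iv D18733) (iv D13670) F19249 (iv D9951) (iv F17701) (iv F19237) (iv F23960) D18699 F33466 F27628 (iv D12059) F19238 F19237 F11934 D8000 (iv F19250) D13670 D18732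
theorem F33537 : act 5 n15973 = n15973 := d9_4 D15975 F33536 (iv D15975) D15973 (iv D15973)
theorem F33538 : act 3 n16244 = n18733 := d16_3 F33535 F33529 (iv F28095)
def n18734 : Q := act 6 n13670
theorem D18734 : act 6 n13670 = n18734 := rfl
theorem F33539 : act 3 n18734 = n15932 := d17_1 D18734 (iv D15932) (iv F23990)
def n18735 : Q := act 0 n13671
theorem D18735 : act 0 n13671 = n18735 := rfl
theorem F33540 : act 3 n18735 = n15933 := d2_2 (iv F23991) D18735 (iv D15933)
theorem F33541 : act 1 n18197 = n18735 := d7_3 F33540 (iv F27540) (iv F31834)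
theorem F33542 : act 2 n18735 = n18191 := d6_2 D18197 F33541 (iv D18191) F23390 D13313
def n18736 : Q := act 2 n13671
theorem D18736 : act 2 n13671 = n18736 := rfl
theorem F33543 : act 0 n18736 = n18191 := d1_1 D18736 (iv F33542) (iv D18735)
theorem F33544 : act 1 n18736 = n13677 := d6_1 D18736 (iv D13677) (iv D10842) (iv F19253) D13671
theorem F33545 : act 4 n18736 = n18735 := d12_2 F31813 D18736 F33542
theorem F33546 : act 6 n18736 = n18735 := d14_2 F31814 D18736 F33542
theorem F33547 : act 3 n16349 = n18736 := d17_3 F33546 F33540 (iv F28312)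
def n18737 : Q := act 5 n13671
theorem D18737 : act 5 n13671 = n18737 := rfl
theorem F33548 : act 3 n18737 = n15935 := d16_1 D18737 (iv D15935) (iv F23991)
def n18738 : Q := act 1 n13672
theorem D18738 : act 1 n13672 = n18738 := rfl
theorem F33549 : act 3 n18738 = n13680 := d7_2 (iv F23992) D18738 (iv D13680)
def n18739 : Q := act 1 n13674
theorem D18739 : act 1 n13674 = n18739 := rfl
theorem F33550 : act 3 n18739 = n13684 := d7_2 (iv F24004) D18739 (iv D13684)
theorem F33551 : act 6 n18739 = n13675 := d10_2 D13674 D18739 (iv D13675) (iv D10841) D10840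
def n18740 : Q := act 0 n13675
theorem D18740 : act 0 n13675 = n18740 := rfl
theorem F33552 : act 3 n18740 = n13685 := d2_2 (iv F24005) D18740 (iv D13685)
def n18741 : Q := act 2 n13675
theorem D18741 : act 2 n13675 = n18741 := rfl
def n18742 : Q := act 5 n13675
theorem D18742 : act 5 n13675 = n18742 := rfl
theorem F33553 : act 1 n18742 = n18720 := d9_1 D18742 (iv D18720) (iv D13663) (iv F19258) D13675
theorem F33554 : act 3 n18742 = n13687 := d16_1 D18742 (iv D13687) (iv F24005)
def n18743 : Q := act 1 n13676
theorem D18743 : act 1 n13676 = n18743 := rfl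
theorem F33555 : act 3 n18743 = n13688 := d7_2 (iv F24006) D18743 (iv D13688)
def n18744 : Q := act 1 n13678
theorem D18744 : act 1 n13678 = n18744 := rfl
theorem F33556 : act 3 n18744 = n13692 := d7_2 (iv F24012) D18744 (iv D13692)
theorem F33557 : act 5 n18744 = n13679 := d9_2 D13678 D18744 (iv D13679) (iv D10843) D10842
def n18745 : Q := act 0 n13679
theorem D18745 : act 0 n13679 = n18745 := rfl
theorem F33558 : act 3 n18745 = n13693 := d2_2 (iv F24013) D18745 (iv D13693)
def n18746 : Q := act 2 n13679
theorem D18746 : act 2 n13679 = n18746 := rfl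
def n18747 : Q := act 6 n13679
theorem D18747 : act 6 n13679 = n18747 := rfl
theorem F33559 : act 1 n18747 = n18717 := d10_1 D18747 (iv D18717) (iv D13662) (iv F19263) D13679
theorem F33560 : act 3 n18747 = n13695 := d17_1 D18747 (iv D13695) (iv F24013)
def n18748 : Q := act 0 n13680
theorem D18748 : act 0 n13680 = n18748 := rfl
theorem F33561 : act 4 n18748 = n13860 := d3_2 (iv F24014) D18748 (iv D13860)
def n18749 : Q := act 2 n13680
theorem D18749 : act 2 n13680 = n18749 := rfl
theorem F33562 : act 4 n18749 = n13861 := d12_2 (iv F24014) D18749 (iv D13861)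
theorem F33563 : act 5 n18748 = n18749 := d23_0 (iv D18749) (iv D13680) (iv D10844) F11942 D8011 F11959 (iv F11970) (iv F16325) (iv D8046) F15165 F15030 F5647 D3837 (iv F11959) (iv F19284) (iv F24017) (iv D13681) D13680 D18748
def n18750 : Q := act 5 n13680
theorem D18750 : act 5 n13680 = n18750 := rfl
theorem F33564 : act 0 n18750 = n18749 := d4_1 D18750 (iv F33563) (iv D18748)
theorem F33565 : act 1 n18750 = n13714 := d9_1 D18750 (iv D13714) (iv D10860) (iv F19265) D13680
theorem F33566 : act 2 n18750 = n18748 := d13_1 D18750 F33563 (iv D18749)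
theorem F33567 : act 4 n18750 = n13862 := d18_1 D18750 (iv D13862) (iv F24014)
def n18751 : Q := act 6 n13680
theorem D18751 : act 6 n13680 = n18751 := rfl
theorem F33568 : act 4 n18751 = n13863 := d19_1 D18751 (iv D13863) (iv F24014)
def n18752 : Q := act 3 n13681
theorem D18752 : act 3 n13681 = n18752 := rfl
theorem F33569 : act 0 n18752 = n13682 := d2_1 D18752 (iv D13682) (iv F24015)
theorem F33570 : act 5 n18752 = n13717 := d16_2 (iv F24017) D18752 (iv D13717)
def n18753 : Q := act 4 n13682
theorem D18753 : act 4 n13682 = n18753 := rfl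
theorem F33571 : act 2 n18753 = n13797 := d12_1 D18753 (iv F29018) F28109
theorem F33572 : act 3 n18753 = n13866 := d15_1 D18753 (iv D13866) (iv D10944) (iv F19266) D13682
theorem F33573 : act 5 n18753 = n13720 := d18_2 (iv F24018) D18753 (iv D13720)
def n18754 : Q := act 6 n13682
theorem D18754 : act 6 n13682 = n18754 := rfl
theorem F33574 : act 3 n18754 = n13683 := d17_1 D18754 (iv D13683) D13682
def n18755 : Q := act 1 n13683
theorem D18755 : act 1 n13683 = n18755 := rfl
theorem F33575 : act 4 n18755 = n13868 := d8_2 (iv F24020) D18755 (iv D13868)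
def n18756 : Q := act 0 n13684
theorem D18756 : act 0 n13684 = n18756 := rfl
theorem F33576 : act 4 n18756 = n13869 := d3_2 (iv F24021) D18756 (iv D13869)
theorem F33577 : act 6 n18756 = n13685 := d5_2 (iv F24022) D18756 (iv D13685)
def n18757 : Q := act 2 n13684
theorem D18757 : act 2 n13684 = n18757 := rfl
theorem F33578 : act 4 n18757 = n13870 := d12_2 (iv F24021) D18757 (iv D13870)
theorem F33579 : act 6 n18757 = n13686 := d14_2 (iv F24022) D18757 (iv D13686)
def n18758 : Q := act 5 n13684
theorem D18758 : act 5 n13684 = n18758 := rfl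
theorem F33580 : act 4 n18758 = n13871 := d18_1 D18758 (iv D13871) (iv F24021)
def n18759 : Q := act 1 n13685
theorem D18759 : act 1 n13685 = n18759 := rfl
theorem F33581 : act 4 n18759 = n13872 := d8_2 (iv F24023) D18759 (iv D13872)
def n18760 : Q := act 2 n13685
theorem D18760 : act 2 n13685 = n18760 := rfl
theorem F33582 : act 0 n18760 = n13686 := d1_1 D18760 (iv D13686) D13685
theorem F33583 : act 4 n18760 = n13873 := d12_2 (iv F24023) D18760 (iv D13873)
def n18761 : Q := act 5 n13685
theorem D18761 : act 5 n13685 = n18761 := rfl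
theorem F33584 : act 0 n18761 = n13687 := d4_1 D18761 (iv D13687) D13685
theorem F33585 : act 4 n18761 = n13874 := d18_1 D18761 (iv D13874) (iv F24023)
theorem F33586 : act 6 n18761 = n18758 := d22_1 D18761 (iv D18758) F24022 D13685
def n18762 : Q := act 3 n13686
theorem D18762 : act 3 n13686 = n18762 := rfl
def n18763 : Q := act 5 n13686
theorem D18763 : act 5 n13686 = n18763 := rfl
theorem F33587 : act 2 n18763 = n13687 := d13_1 D18763 (iv D13687) D13686
theorem F33588 : act 4 n18763 = n13876 := d18_1 D18763 (iv D13876) (iv F24024)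
def n18764 : Q := act 6 n13687
theorem D18764 : act 6 n13687 = n18764 := rfl
theorem F33589 : act 0 n18764 = n18758 := d5_1 D18764 (iv F33586) F33584
theorem F33590 : act 4 n18764 = n13877 := d19_1 D18764 (iv D13877) (iv F24026)
theorem F33591 : act 5 n18764 = n18756 := d20_1 D18764 F33577 D18761 F33586 (iv D18758) F24022 D13687
def n18765 : Q := act 0 n13688
theorem D18765 : act 0 n13688 = n18765 := rfl
theorem F33592 : act 4 n18765 = n13878 := d3_2 (iv F24027) D18765 (iv D13878)
def n18766 : Q := act 2 n13688
theorem D18766 : act 2 n13688 = n18766 := rfl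
theorem F33593 : act 4 n18766 = n13879 := d12_2 (iv F24027) D18766 (iv D13879)
def n18767 : Q := act 5 n13688
theorem D18767 : act 5 n13688 = n18767 := rfl
theorem F33594 : act 4 n18767 = n13880 := d18_1 D18767 (iv D13880) (iv F24027)
def n18768 : Q := act 6 n13688
theorem D18768 : act 6 n13688 = n18768 := rfl
theorem F33595 : act 1 n18768 = n13737 := d10_1 D18768 (iv D13737) (iv D10870) (iv F19271) D13688
theorem F33596 : act 4 n18768 = n13881 := d19_1 D18768 (iv D13881) (iv F24027)
def n18769 : Q := act 1 n13689
theorem D18769 : act 1 n13689 = n18769 := rfl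
theorem F33597 : act 4 n18769 = n13882 := d8_2 (iv F24029) D18769 (iv D13882)
def n18770 : Q := act 3 n13689
theorem D18770 : act 3 n13689 = n18770 := rfl
theorem F33598 : act 0 n18770 = n13690 := d2_1 D18770 (iv D13690) (iv F24028)
theorem F33599 : act 6 n18770 = n13739 := d17_2 (iv F24030) D18770 (iv D13739)
def n18771 : Q := act 4 n13690
theorem D18771 : act 4 n13690 = n18771 := rfl
theorem F33600 : act 3 n18771 = n13884 := d15_1 D18771 (iv D13884) (iv D10952) (iv F19272) D13690
theorem F33601 : act 6 n18771 = n13742 := d19_2 (iv F24031) D18771 (iv D13742)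
def n18772 : Q := act 5 n13690
theorem D18772 : act 5 n13690 = n18772 := rfl
theorem F33602 : act 3 n18772 = n13691 := d16_1 D18772 (iv D13691) D13690
def n18773 : Q := act 1 n13691
theorem D18773 : act 1 n13691 = n18773 := rfl
theorem F33603 : act 4 n18773 = n13886 := d8_2 (iv F24033) D18773 (iv D13886)
def n18774 : Q := act 0 n13692
theorem D18774 : act 0 n13692 = n18774 := rfl
theorem F33604 : act 4 n18774 = n13887 := d3_2 (iv F24034) D18774 (iv D13887)
theorem F33605 : act 5 n18774 = n13693 := d4_2 (iv F24035) D18774 (iv D13693)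
def n18775 : Q := act 2 n13692
theorem D18775 : act 2 n13692 = n18775 := rfl
theorem F33606 : act 4 n18775 = n13888 := d12_2 (iv F24034) D18775 (iv D13888)
theorem F33607 : act 5 n18775 = n13694 := d13_2 (iv F24035) D18775 (iv D13694)
def n18776 : Q := act 6 n13692
theorem D18776 : act 6 n13692 = n18776 := rfl
theorem F33608 : act 4 n18776 = n13889 := d19_1 D18776 (iv D13889) (iv F24034)
def n18777 : Q := act 1 n13693
theorem D18777 : act 1 n13693 = n18777 := rfl
theorem F33609 : act 4 n18777 = n13890 := d8_2 (iv F24036) D18777 (iv D13890)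
def n18778 : Q := act 2 n13693
theorem D18778 : act 2 n13693 = n18778 := rfl
theorem F33610 : act 0 n18778 = n13694 := d1_1 D18778 (iv D13694) D13693
theorem F33611 : act 4 n18778 = n13891 := d12_2 (iv F24036) D18778 (iv D13891)
def n18779 : Q := act 6 n13693
theorem D18779 : act 6 n13693 = n18779 := rfl
theorem F33612 : act 0 n18779 = n13695 := d5_1 D18779 (iv D13695) D13693
theorem F33613 : act 4 n18779 = n13892 := d19_1 D18779 (iv D13892) (iv F24036)
theorem F33614 : act 5 n18779 = n18776 := d22_2 F33605 D18779 (iv D18776) D18774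
def n18780 : Q := act 3 n13694
theorem D18780 : act 3 n13694 = n18780 := rfl
def n18781 : Q := act 6 n13694
theorem D18781 : act 6 n13694 = n18781 := rfl
theorem F33615 : act 2 n18781 = n13695 := d14_1 D18781 (iv D13695) D13694
theorem F33616 : act 4 n18781 = n13894 := d19_1 D18781 (iv D13894) (iv F24037)
def n18782 : Q := act 5 n13695
theorem D18782 : act 5 n13695 = n18782 := rfl
theorem F33617 : act 0 n18782 = n18776 := d4_1 D18782 (iv F33614) F33612
theorem F33618 : act 4 n18782 = n13895 := d18_1 D18782 (iv D13895) (iv F24039)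
theorem F33619 : act 6 n18782 = n18774 := d20_2 D13695 D18782 F33605 D18779 F33614 (iv D18776) F24035
def n18783 : Q := act 0 n13696
theorem D18783 : act 0 n13696 = n18783 := rfl
theorem F33620 : act 1 n18783 = n16052 := d0_2 D13696 D18783 (iv F27817) (iv F27820) (iv D13321) (iv D10656) F10231 D8006 D10852
theorem F33621 : act 2 n18783 = n16053 := d1_2 (iv F24040) D18783 F27760
theorem F33622 : act 3 n18783 = n13712 := d2_2 (iv F24041) D18783 (iv D13712)
theorem F33623 : act 4 n18783 = n16052 := d3_2 (iv F27821) D18783 (iv F27817)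
theorem F33624 : act 5 n18783 = n16168 := d4_2 F28192 D18783 (iv F28189)
def n18784 : Q := act 6 n13696
theorem D18784 : act 6 n13696 = n18784 := rfl
theorem F33625 : act 2 n18784 = n16161 := d14_1 D18784 (iv D16161) (iv F24040)
theorem F33626 : act 3 n18784 = n13715 := d17_1 D18784 (iv D13715) (iv F24041)
def n18785 : Q := act 1 n13697
theorem D18785 : act 1 n13697 = n18785 := rfl
theorem F33627 : act 3 n18785 = n13719 := d7_2 (iv F24044) D18785 (iv D13719)
def n18786 : Q := act 1 n13698
theorem D18786 : act 1 n13698 = n18786 := rfl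
theorem F33628 : act 3 n18786 = n16245 := d7_2 (iv F24048) D18786 (iv D16245)
def n18787 : Q := act 0 n13699
theorem D18787 : act 0 n13699 = n18787 := rfl
theorem F33629 : act 3 n18787 = n13724 := d2_2 (iv F24049) D18787 (iv D13724)
theorem F33630 : act 6 n18787 = n13701 := d5_2 (iv F24050) D18787 (iv D13701)
def n18788 : Q := act 2 n13699
theorem D18788 : act 2 n13699 = n18788 := rfl
theorem F33631 : act 6 n18788 = n13702 := d14_2 (iv F24050) D18788 (iv D13702)
def n18789 : Q := act 5 n13699
theorem D18789 : act 5 n13699 = n18789 := rfl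
theorem F33632 : act 3 n18789 = n13726 := d16_1 D18789 (iv D13726) (iv F24049)
def n18790 : Q := act 1 n13700
theorem D18790 : act 1 n13700 = n18790 := rfl
theorem F33633 : act 3 n18790 = n13727 := d7_2 (iv F24052) D18790 (iv D13727)
def n18791 : Q := act 1 n13701
theorem D18791 : act 1 n13701 = n18791 := rfl
theorem F33634 : act 3 n18791 = n13728 := d7_2 (iv F24054) D18791 (iv D13728)
def n18792 : Q := act 2 n13701
theorem D18792 : act 2 n13701 = n18792 := rfl
theorem F33635 : act 0 n18792 = n13702 := d1_1 D18792 (iv D13702) D13701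
def n18793 : Q := act 5 n13701
theorem D18793 : act 5 n13701 = n18793 := rfl
theorem F33636 : act 0 n18793 = n13703 := d4_1 D18793 (iv D13703) D13701
theorem F33637 : act 3 n18793 = n13730 := d16_1 D18793 (iv D13730) (iv F24054)
theorem F33638 : act 6 n18793 = n18789 := d22_1 D18793 (iv D18789) F24050 D13701
def n18794 : Q := act 3 n13702
theorem D18794 : act 3 n13702 = n18794 := rfl
def n18795 : Q := act 5 n13702
theorem D18795 : act 5 n13702 = n18795 := rfl
theorem F33639 : act 2 n18795 = n13703 := d13_1 D18795 (iv D13703) D13702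
def n18796 : Q := act 6 n13703
theorem D18796 : act 6 n13703 = n18796 := rfl
theorem F33640 : act 0 n18796 = n18789 := d5_1 D18796 (iv F33638) F33636
theorem F33641 : act 3 n18796 = n13733 := d17_1 D18796 (iv D13733) (iv F24056)
theorem F33642 : act 5 n18796 = n18787 := d20_1 D18796 F33630 D18793 F33638 (iv D18789) F24050 D13703
def n18797 : Q := act 0 n13704
theorem D18797 : act 0 n13704 = n18797 := rfl
theorem F33643 : act 2 n18797 = n16202 := d1_2 (iv F24057) D18797 (iv D16202)
theorem F33644 : act 3 n18797 = n13734 := d2_2 (iv F24058) D18797 (iv D13734)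
def n18798 : Q := act 5 n13704
theorem D18798 : act 5 n13704 = n18798 := rfl
theorem F33645 : act 2 n18798 = n16204 := d13_1 D18798 (iv D16204) (iv F24057)
theorem F33646 : act 3 n18798 = n13736 := d16_1 D18798 (iv D13736) (iv F24058)
def n18799 : Q := act 6 n13704
theorem D18799 : act 6 n13704 = n18799 := rfl
theorem F33647 : act 2 n18799 = n16205 := d14_1 D18799 (iv D16205) (iv F24057)
theorem F33648 : act 3 n18799 = n13737 := d17_1 D18799 (iv D13737) (iv F24058)
def n18800 : Q := act 1 n13705
theorem D18800 : act 1 n13705 = n18800 := rfl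
theorem F33649 : act 3 n18800 = n13741 := d7_2 (iv F24061) D18800 (iv D13741)
def n18801 : Q := act 1 n13706
theorem D18801 : act 1 n13706 = n18801 := rfl
theorem F33650 : act 3 n18801 = n16348 := d7_2 (iv F24065) D18801 (iv D16348)
def n18802 : Q := act 0 n13707
theorem D18802 : act 0 n13707 = n18802 := rfl
theorem F33651 : act 3 n18802 = n13746 := d2_2 (iv F24066) D18802 (iv D13746)
theorem F33652 : act 4 n18802 = n18793 := d3_2 (iv F24067) D18802 F33636
theorem F33653 : act 5 n18802 = n13709 := d4_2 (iv F24068) D18802 (iv D13709)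
def n18803 : Q := act 2 n13707
theorem D18803 : act 2 n13707 = n18803 := rfl
theorem F33654 : act 4 n18803 = n18795 := d12_2 (iv F24067) D18803 F33639
theorem F33655 : act 5 n18803 = n13710 := d13_2 (iv F24068) D18803 (iv D13710)
def n18804 : Q := act 6 n13707
theorem D18804 : act 6 n13707 = n18804 := rfl
theorem F33656 : act 3 n18804 = n13748 := d17_1 D18804 (iv D13748) (iv F24066)
theorem F33657 : act 4 n18804 = n18796 := d19_1 D18804 (iv D18796) (iv F24067)
def n18805 : Q := act 1 n13708
theorem D18805 : act 1 n13708 = n18805 := rfl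
theorem F33658 : act 3 n18805 = n13749 := d7_2 (iv F24070) D18805 (iv D13749)
def n18806 : Q := act 1 n13709
theorem D18806 : act 1 n13709 = n18806 := rfl
theorem F33659 : act 3 n18806 = n13750 := d7_2 (iv F24072) D18806 (iv D13750)
theorem F33660 : act 4 n18806 = n18791 := d8_2 (iv F24073) D18806 (iv D18791)
def n18807 : Q := act 2 n13709
theorem D18807 : act 2 n13709 = n18807 := rfl
theorem F33661 : act 0 n18807 = n13710 := d1_1 D18807 (iv D13710) D13709
def n18808 : Q := act 6 n13709
theorem D18808 : act 6 n13709 = n18808 := rfl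
theorem F33663 : act 0 n18808 = n13711 := d5_1 D18808 (iv D13711) D13709
theorem F33664 : act 3 n18808 = n13752 := d17_1 D18808 (iv D13752) (iv F24072)
theorem F33665 : act 4 n18808 = n18787 := d19_1 D18808 F33630 (iv F24073)
theorem F33666 : act 5 n18808 = n18804 := d22_2 F33653 D18808 (iv D18804) D18802
def n18809 : Q := act 3 n13710
theorem D18809 : act 3 n13710 = n18809 := rfl
theorem F33667 : act 1 n18809 = n18794 := d7_1 D18809 (iv D18794) (iv F24074)
def n18810 : Q := act 6 n13710
theorem D18810 : act 6 n13710 = n18810 := rfl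
theorem F33668 : act 2 n18810 = n13711 := d14_1 D18810 (iv D13711) D13710
theorem F33669 : act 4 n18810 = n18788 := d19_1 D18810 F33631 (iv F24075)
def n18811 : Q := act 5 n13711
theorem D18811 : act 5 n13711 = n18811 := rfl
theorem F33670 : act 0 n18811 = n18804 := d4_1 D18811 (iv F33666) F33663
theorem F33671 : act 3 n18811 = n13755 := d16_1 D18811 (iv D13755) (iv F24077)
theorem F33672 : act 4 n18811 = n18789 := d18_1 D18811 (iv D18789) (iv F24078)
theorem F33673 : act 6 n18811 = n18802 := d20_2 D13711 D18811 F33653 D18808 F33666 (iv D18804) F24068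
def n18812 : Q := act 2 n13712
theorem D18812 : act 2 n13712 = n18812 := rfl
theorem F33674 : act 0 n18812 = n13713 := d1_1 D18812 (iv D13713) D13712
theorem F33675 : act 1 n18812 = n13758 := d6_1 D18812 F27831 F27806 D16090 F27824
theorem F33676 : act 4 n18812 = n13896 := d12_2 (iv F24079) D18812 (iv D13896)
def n18813 : Q := act 5 n13712
theorem D18813 : act 5 n13712 = n18813 := rfl
theorem F33677 : act 0 n18813 = n13714 := d4_1 D18813 (iv D13714) D13712
theorem F33678 : act 3 n18813 = n16168 := d16_1 D18813 (iv F33624) F33622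
theorem F33679 : act 4 n18813 = n13897 := d18_1 D18813 (iv D13897) (iv F24079)
def n18814 : Q := act 6 n13712
theorem D18814 : act 6 n13712 = n18814 := rfl
theorem F33680 : act 0 n18814 = n13715 := d5_1 D18814 (iv D13715) D13712
theorem F33681 : act 4 n18814 = n13898 := d19_1 D18814 (iv D13898) (iv F24079)
def n18815 : Q := act 1 n13713
theorem D18815 : act 1 n13713 = n18815 := rfl
theorem F33682 : act 0 n18815 = n13716 := d0_1 D18815 (iv D13716) F19284 F11959 (iv F11970) D10881 D13758 (iv F33675) F33674
theorem F33683 : act 2 n18815 = n13716 := d6_2 D13713 D18815 (iv D13716) (iv D10861) D10860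
theorem F33684 : act 4 n18815 = n13899 := d8_2 (iv F24080) D18815 (iv D13899)
def n18816 : Q := act 3 n13713
theorem D18816 : act 3 n13713 = n18816 := rfl
def n18817 : Q := act 5 n13713
theorem D18817 : act 5 n13713 = n18817 := rfl
theorem F33685 : act 2 n18817 = n13714 := d13_1 D18817 (iv D13714) D13713
theorem F33686 : act 4 n18817 = n13901 := d18_1 D18817 (iv D13901) (iv F24080)
def n18818 : Q := act 6 n13713
theorem D18818 : act 6 n13713 = n18818 := rfl
theorem F33687 : act 2 n18818 = n13715 := d14_1 D18818 (iv D13715) D13713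
theorem F33688 : act 4 n18818 = n13902 := d19_1 D18818 (iv D13902) (iv F24080)
def n18819 : Q := act 6 n13714
theorem D18819 : act 6 n13714 = n18819 := rfl
theorem F33689 : act 4 n18819 = n13903 := d19_1 D18819 (iv D13903) (iv F24081)
theorem F33690 : act 5 n18819 = n18814 := d22_2 D13714 D18819 (iv D18814) (iv D13712)
def n18820 : Q := act 1 n13715
theorem D18820 : act 1 n13715 = n18820 := rfl
theorem F33691 : act 4 n18820 = n13904 := d8_2 (iv F24082) D18820 (iv D13904)
theorem F33692 : act 6 n18820 = n13719 := d10_2 D13715 D18820 (iv D13719) (iv D10862) D10860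
def n18821 : Q := act 5 n13715
theorem D18821 : act 5 n13715 = n18821 := rfl
theorem F33693 : act 0 n18821 = n18819 := d4_1 D18821 F33690 F33680
theorem F33694 : act 4 n18821 = n13905 := d18_1 D18821 (iv D13905) (iv F24082)
theorem F33695 : act 6 n18821 = n18813 := d20_2 D13715 D18821 (iv D18813) D18814 (iv F33690) (iv D18819) (iv D13714)
def n18822 : Q := act 3 n13716
theorem D18822 : act 3 n13716 = n18822 := rfl
theorem F33696 : act 1 n18822 = n13717 := d7_1 D18822 (iv D13717) D13716
def n18823 : Q := act 5 n13716
theorem D18823 : act 5 n13716 = n18823 := rfl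
theorem F33697 : act 4 n18823 = n13908 := d18_1 D18823 (iv D13908) (iv F24083)
def n18824 : Q := act 6 n13716
theorem D18824 : act 6 n13716 = n18824 := rfl
theorem F33698 : act 4 n18824 = n13909 := d19_1 D18824 (iv D13909) (iv F24083)
def n18825 : Q := act 4 n13717
theorem D18825 : act 4 n13717 = n18825 := rfl
theorem F33699 : act 0 n18825 = n13720 := d3_1 D18825 (iv D13720) (iv F24084)
theorem F33700 : act 3 n18825 = n13910 := d15_1 D18825 (iv D13910) (iv D10963) (iv F19285) D13717
def n18826 : Q := act 6 n13717
theorem D18826 : act 6 n13717 = n18826 := rfl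
theorem F33701 : act 0 n18826 = n13721 := d5_1 D18826 (iv D13721) (iv F24084)
theorem F33702 : act 3 n18826 = n13718 := d17_1 D18826 (iv D13718) D13717
theorem F33703 : act 5 n18826 = n18754 := d22_2 F33570 D18826 (iv D18754) (iv F33569)
def n18827 : Q := act 1 n13718
theorem D18827 : act 1 n13718 = n18827 := rfl
theorem F33704 : act 4 n18827 = n13912 := d8_2 (iv F24087) D18827 (iv D13912)
def n18828 : Q := act 0 n13719
theorem D18828 : act 0 n13719 = n18828 := rfl
theorem F33705 : act 4 n18828 = n13913 := d3_2 (iv F24089) D18828 (iv D13913)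
def n18829 : Q := act 2 n13719
theorem D18829 : act 2 n13719 = n18829 := rfl
theorem F33706 : act 4 n18829 = n13914 := d12_2 (iv F24089) D18829 (iv D13914)
def n18830 : Q := act 5 n13719
theorem D18830 : act 5 n13719 = n18830 := rfl
theorem F33707 : act 1 n18830 = n18758 := d9_1 D18830 (iv D18758) (iv D13684) (iv F19288) D13719
theorem F33708 : act 4 n18830 = n13915 := d18_1 D18830 (iv D13915) (iv F24089)
def n18831 : Q := act 6 n13720
theorem D18831 : act 6 n13720 = n18831 := rfl
theorem F33709 : act 3 n18831 = n13916 := d17_1 D18831 (iv D13916) (iv F24091)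
theorem F33710 : act 4 n18831 = n13721 := d19_1 D18831 (iv D13721) D13720
def n18832 : Q := act 1 n13721
theorem D18832 : act 1 n13721 = n18832 := rfl
theorem F33711 : act 3 n18832 = n13722 := d7_2 (iv F24092) D18832 (iv D13722)
theorem F33712 : act 6 n18832 = n13764 := d10_2 D13721 D18832 (iv D13764) (iv D10884) (iv F19289)
def n18833 : Q := act 5 n13721
theorem D18833 : act 5 n13721 = n18833 := rfl
theorem F33713 : act 0 n18833 = n18754 := d4_1 D18833 (iv F33703) F33701
theorem F33714 : act 3 n18833 = n13723 := d16_1 D18833 (iv D13723) (iv F24092)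
theorem F33715 : act 6 n18833 = n18752 := d20_2 D13721 D18833 F33570 D18826 F33703 (iv D18754) F24018
def n18834 : Q := act 0 n13722
theorem D18834 : act 0 n13722 = n18834 := rfl
theorem F33716 : act 4 n18834 = n13919 := d3_2 (iv F24093) D18834 (iv D13919)
theorem F33717 : act 6 n18834 = n13766 := d5_2 (iv F24094) D18834 (iv D13766)
def n18835 : Q := act 2 n13722
theorem D18835 : act 2 n13722 = n18835 := rfl
theorem F33718 : act 1 n18835 = n13725 := d6_1 D18835 (iv D13725) (iv D10865) (iv F19290) D13722
theorem F33719 : act 4 n18835 = n13920 := d12_2 (iv F24093) D18835 (iv D13920)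
theorem F33720 : act 6 n18835 = n13767 := d14_2 (iv F24094) D18835 (iv D13767)
def n18836 : Q := act 5 n13722
theorem D18836 : act 5 n13722 = n18836 := rfl
theorem F33721 : act 4 n18836 = n13921 := d18_1 D18836 (iv D13921) (iv F24093)
def n18837 : Q := act 1 n13723
theorem D18837 : act 1 n13723 = n18837 := rfl
theorem F33722 : act 4 n18837 = n13922 := d8_2 (iv F24097) D18837 (iv D13922)
def n18838 : Q := act 1 n13724
theorem D18838 : act 1 n13724 = n18838 := rfl
theorem F33723 : act 4 n18838 = n13923 := d8_2 (iv F24099) D18838 (iv D13923)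
def n18839 : Q := act 2 n13724
theorem D18839 : act 2 n13724 = n18839 := rfl
theorem F33724 : act 0 n18839 = n13725 := d1_1 D18839 (iv D13725) D13724
theorem F33725 : act 4 n18839 = n13924 := d12_2 (iv F24099) D18839 (iv D13924)
theorem F33726 : act 6 n18839 = n13729 := d14_2 (iv F24100) D18839 (iv D13729)
def n18840 : Q := act 3 n13725
theorem D18840 : act 3 n13725 = n18840 := rfl
theorem F33727 : act 6 n18840 = n13731 := d17_2 (iv F24102) D18840 (iv D13731)
def n18841 : Q := act 5 n13725
theorem D18841 : act 5 n13725 = n18841 := rfl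
theorem F33728 : act 2 n18841 = n13726 := d13_1 D18841 (iv D13726) D13725
theorem F33729 : act 4 n18841 = n13926 := d18_1 D18841 (iv D13926) (iv F24101)
def n18842 : Q := act 1 n13726
theorem D18842 : act 1 n13726 = n18842 := rfl
theorem F33730 : act 4 n18842 = n13927 := d8_2 (iv F24103) D18842 (iv D13927)
theorem F33731 : act 5 n18842 = n13727 := d9_2 D13726 D18842 (iv D13727) (iv D10866) D10865
def n18843 : Q := act 0 n13727
theorem D18843 : act 0 n13727 = n18843 := rfl
theorem F33732 : act 4 n18843 = n13928 := d3_2 (iv F24104) D18843 (iv D13928)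
def n18844 : Q := act 2 n13727
theorem D18844 : act 2 n13727 = n18844 := rfl
theorem F33733 : act 4 n18844 = n13929 := d12_2 (iv F24104) D18844 (iv D13929)
def n18845 : Q := act 6 n13727
theorem D18845 : act 6 n13727 = n18845 := rfl
theorem F33734 : act 1 n18845 = n18751 := d10_1 D18845 (iv D18751) (iv D13680) (iv F19296) D13727
theorem F33735 : act 4 n18845 = n13930 := d19_1 D18845 (iv D13930) (iv F24104)
def n18846 : Q := act 0 n13728
theorem D18846 : act 0 n13728 = n18846 := rfl
theorem F33736 : act 4 n18846 = n13931 := d3_2 (iv F24105) D18846 (iv D13931)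
def n18847 : Q := act 2 n13728
theorem D18847 : act 2 n13728 = n18847 := rfl
theorem F33737 : act 4 n18847 = n13932 := d12_2 (iv F24105) D18847 (iv D13932)
theorem F33738 : act 1 n17192 = n18847 := d8_3 F33737 F33244 (iv F30176)
theorem F33739 : act 5 n15341 = n18847 := d18_0 F33737 F33246 (iv F26696)
def n18848 : Q := act 5 n13728
theorem D18848 : act 5 n13728 = n18848 := rfl
theorem F33740 : act 2 n18848 = n15341 := d13_1 D18848 F33739 (iv D18847)
theorem F33741 : act 4 n18848 = n13933 := d18_1 D18848 (iv D13933) (iv F24105)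
def n18849 : Q := act 6 n13728
theorem D18849 : act 6 n13728 = n18849 := rfl
theorem F33742 : act 4 n18849 = n13934 := d19_1 D18849 (iv D13934) (iv F24105)
def n18850 : Q := act 1 n13729
theorem D18850 : act 1 n13729 = n18850 := rfl
theorem F33743 : act 2 n18850 = n17192 := d6_2 D13729 D18850 F33738 (iv D18847) (iv D13728)
theorem F33744 : act 4 n18850 = n13935 := d8_2 (iv F24107) D18850 (iv D13935)
theorem F33745 : act 5 n17189 = n18850 := d18_0 F33744 F33243 D17189
def n18851 : Q := act 3 n13729
theorem D18851 : act 3 n13729 = n18851 := rfl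
theorem F33746 : act 0 n18851 = n13731 := d2_1 D18851 (iv D13731) (iv F24106)
def n18852 : Q := act 5 n13729
theorem D18852 : act 5 n13729 = n18852 := rfl
theorem F33747 : act 0 n18852 = n13732 := d4_1 D18852 (iv D13732) (iv F24106)
theorem F33748 : act 2 n18852 = n13730 := d13_1 D18852 (iv D13730) D13729
theorem F33749 : act 4 n18852 = n13937 := d18_1 D18852 (iv D13937) (iv F24107)
theorem F33750 : act 6 n18852 = n18841 := d22_1 D18852 (iv D18841) F24102 (iv F24106)
def n18853 : Q := act 1 n13730
theorem D18853 : act 1 n13730 = n18853 := rfl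
theorem F33751 : act 4 n18853 = n13938 := d8_2 (iv F24109) D18853 (iv D13938)
def n18854 : Q := act 2 n13731
theorem D18854 : act 2 n13731 = n18854 := rfl
def n18855 : Q := act 4 n13731
theorem D18855 : act 4 n13731 = n18855 := rfl
theorem F33752 : act 1 n18855 = n13775 := d8_1 D18855 (iv D13775) (iv F24111)
theorem F33753 : act 3 n18855 = n13940 := d15_1 D18855 (iv D13940) (iv D10977) (iv F19299) D13731
def n18856 : Q := act 5 n13731
theorem D18856 : act 5 n13731 = n18856 := rfl
theorem F33754 : act 1 n18856 = n18856 := d9_1 D18856 (iv D18856) F24111 F19343 (iv F24111)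
theorem F33755 : act 3 n18856 = n13732 := d16_1 D18856 (iv D13732) D13731
def n18857 : Q := act 6 n13732
theorem D18857 : act 6 n13732 = n18857 := rfl
theorem F33756 : act 0 n18857 = n18841 := d5_1 D18857 (iv F33750) F33747
theorem F33757 : act 2 n18857 = n13733 := d14_1 D18857 (iv D13733) (iv F24113)
theorem F33758 : act 4 n18857 = n13942 := d19_1 D18857 (iv D13942) (iv F24114)
theorem F33759 : act 5 n18857 = n18839 := d20_1 D18857 F33726 D18852 F33750 (iv D18841) F24102 D13732
def n18858 : Q := act 1 n13733
theorem D18858 : act 1 n13733 = n18858 := rfl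
theorem F33760 : act 4 n18858 = n13943 := d8_2 (iv F24116) D18858 (iv D13943)
theorem F33761 : act 6 n18858 = n18223 := d10_2 D13733 D18858 (iv D18223) (iv D13332) (iv F19300)
def n18859 : Q := act 2 n13734
theorem D18859 : act 2 n13734 = n18859 := rfl
theorem F33762 : act 0 n18859 = n13735 := d1_1 D18859 (iv D13735) D13734
theorem F33763 : act 4 n18859 = n13944 := d12_2 (iv F24118) D18859 (iv D13944)
theorem F33764 : act 1 n13778 = n18859 := d8_3 F33763 (iv F24444) (iv F24198)
def n18860 : Q := act 5 n13734
theorem D18860 : act 5 n13734 = n18860 := rfl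
theorem F33765 : act 0 n18860 = n13736 := d4_1 D18860 (iv D13736) D13734
theorem F33766 : act 4 n18860 = n13945 := d18_1 D18860 (iv D13945) (iv F24118)
def n18861 : Q := act 6 n13734
theorem D18861 : act 6 n13734 = n18861 := rfl
theorem F33767 : act 0 n18861 = n13737 := d5_1 D18861 (iv D13737) D13734
theorem F33768 : act 4 n18861 = n13946 := d19_1 D18861 (iv D13946) (iv F24118)
def n18862 : Q := act 1 n13735
theorem D18862 : act 1 n13735 = n18862 := rfl
theorem F33769 : act 0 n18862 = n13738 := d0_1 D18862 (iv D13738) F19303 F11964 (iv F11993) D10892 D13778 F33764 F33762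
theorem F33770 : act 2 n18862 = n13738 := d6_2 D13735 D18862 (iv D13738) (iv D10871) D10870
theorem F33771 : act 4 n18862 = n13947 := d8_2 (iv F24119) D18862 (iv D13947)
def n18863 : Q := act 3 n13735
theorem D18863 : act 3 n13735 = n18863 := rfl
def n18864 : Q := act 5 n13735
theorem D18864 : act 5 n13735 = n18864 := rfl
theorem F33772 : act 2 n18864 = n13736 := d13_1 D18864 (iv D13736) D13735
theorem F33773 : act 4 n18864 = n13949 := d18_1 D18864 (iv D13949) (iv F24119)
def n18865 : Q := act 6 n13735
theorem D18865 : act 6 n13735 = n18865 := rfl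
theorem F33774 : act 2 n18865 = n13737 := d14_1 D18865 (iv D13737) D13735
theorem F33775 : act 4 n18865 = n13950 := d19_1 D18865 (iv D13950) (iv F24119)
def n18866 : Q := act 1 n13736
theorem D18866 : act 1 n13736 = n18866 := rfl
theorem F33776 : act 4 n18866 = n13951 := d8_2 (iv F24120) D18866 (iv D13951)
theorem F33777 : act 5 n18866 = n13741 := d9_2 D13736 D18866 (iv D13741) (iv D10872) D10870
def n18867 : Q := act 6 n13736
theorem D18867 : act 6 n13736 = n18867 := rfl
theorem F33778 : act 4 n18867 = n13952 := d19_1 D18867 (iv D13952) (iv F24120)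
theorem F33779 : act 5 n18867 = n18861 := d22_2 D13736 D18867 (iv D18861) (iv D13734)
def n18868 : Q := act 5 n13737
theorem D18868 : act 5 n13737 = n18868 := rfl
theorem F33780 : act 0 n18868 = n18867 := d4_1 D18868 F33779 F33767
theorem F33781 : act 4 n18868 = n13953 := d18_1 D18868 (iv D13953) (iv F24121)
theorem F33782 : act 6 n18868 = n18860 := d20_2 D13737 D18868 (iv D18860) D18861 (iv F33779) (iv D18867) (iv D13736)
def n18869 : Q := act 3 n13738
theorem D18869 : act 3 n13738 = n18869 := rfl
theorem F33783 : act 1 n18869 = n13739 := d7_1 D18869 (iv D13739) D13738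
def n18870 : Q := act 5 n13738
theorem D18870 : act 5 n13738 = n18870 := rfl
theorem F33784 : act 4 n18870 = n13956 := d18_1 D18870 (iv D13956) (iv F24122)
def n18871 : Q := act 6 n13738
theorem D18871 : act 6 n13738 = n18871 := rfl
theorem F33785 : act 4 n18871 = n13957 := d19_1 D18871 (iv D13957) (iv F24122)
def n18872 : Q := act 4 n13739
theorem D18872 : act 4 n13739 = n18872 := rfl
theorem F33786 : act 0 n18872 = n13742 := d3_1 D18872 (iv D13742) (iv F24123)
theorem F33787 : act 3 n18872 = n13958 := d15_1 D18872 (iv D13958) (iv D10985) (iv F19304) D13739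
def n18873 : Q := act 5 n13739
theorem D18873 : act 5 n13739 = n18873 := rfl
theorem F33788 : act 0 n18873 = n13743 := d4_1 D18873 (iv D13743) (iv F24123)
theorem F33789 : act 3 n18873 = n13740 := d16_1 D18873 (iv D13740) D13739
theorem F33790 : act 6 n18873 = n18772 := d22_1 D18873 (iv D18772) F24031 (iv F24123)
def n18874 : Q := act 1 n13740
theorem D18874 : act 1 n13740 = n18874 := rfl
theorem F33791 : act 4 n18874 = n13960 := d8_2 (iv F24126) D18874 (iv D13960)
def n18875 : Q := act 0 n13741
theorem D18875 : act 0 n13741 = n18875 := rfl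
theorem F33792 : act 4 n18875 = n13961 := d3_2 (iv F24128) D18875 (iv D13961)
def n18876 : Q := act 2 n13741
theorem D18876 : act 2 n13741 = n18876 := rfl
theorem F33793 : act 4 n18876 = n13962 := d12_2 (iv F24128) D18876 (iv D13962)
def n18877 : Q := act 6 n13741
theorem D18877 : act 6 n13741 = n18877 := rfl
theorem F33794 : act 1 n18877 = n18776 := d10_1 D18877 (iv D18776) (iv D13692) (iv F19307) D13741
theorem F33795 : act 4 n18877 = n13963 := d19_1 D18877 (iv D13963) (iv F24128)
def n18878 : Q := act 5 n13742
theorem D18878 : act 5 n13742 = n18878 := rfl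
theorem F33796 : act 3 n18878 = n13964 := d16_1 D18878 (iv D13964) (iv F24130)
theorem F33797 : act 4 n18878 = n13743 := d18_1 D18878 (iv D13743) D13742
def n18879 : Q := act 1 n13743
theorem D18879 : act 1 n13743 = n18879 := rfl
theorem F33798 : act 3 n18879 = n13744 := d7_2 (iv F24131) D18879 (iv D13744)
theorem F33799 : act 5 n18879 = n13784 := d9_2 D13743 D18879 (iv D13784) (iv D10895) (iv F19308)
def n18880 : Q := act 6 n13743
theorem D18880 : act 6 n13743 = n18880 := rfl
theorem F33800 : act 0 n18880 = n18772 := d5_1 D18880 (iv F33790) F33788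
theorem F33801 : act 3 n18880 = n13745 := d17_1 D18880 (iv D13745) (iv F24131)
theorem F33802 : act 5 n18880 = n18770 := d20_1 D18880 F33599 D18873 F33790 (iv D18772) F24031 D13743
def n18881 : Q := act 0 n13744
theorem D18881 : act 0 n13744 = n18881 := rfl
theorem F33803 : act 4 n18881 = n13967 := d3_2 (iv F24132) D18881 (iv D13967)
theorem F33804 : act 5 n18881 = n13786 := d4_2 (iv F24133) D18881 (iv D13786)
def n18882 : Q := act 2 n13744
theorem D18882 : act 2 n13744 = n18882 := rfl
theorem F33805 : act 1 n18882 = n13747 := d6_1 D18882 (iv D13747) (iv D10875) (iv F19309) D13744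
theorem F33806 : act 4 n18882 = n13968 := d12_2 (iv F24132) D18882 (iv D13968)
theorem F33807 : act 5 n18882 = n13787 := d13_2 (iv F24133) D18882 (iv D13787)
def n18883 : Q := act 6 n13744
theorem D18883 : act 6 n13744 = n18883 := rfl
theorem F33808 : act 4 n18883 = n13969 := d19_1 D18883 (iv D13969) (iv F24132)
def n18884 : Q := act 1 n13745
theorem D18884 : act 1 n13745 = n18884 := rfl
theorem F33809 : act 4 n18884 = n13970 := d8_2 (iv F24136) D18884 (iv D13970)
def n18885 : Q := act 1 n13746
theorem D18885 : act 1 n13746 = n18885 := rfl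
theorem F33810 : act 4 n18885 = n13971 := d8_2 (iv F24138) D18885 (iv D13971)
def n18886 : Q := act 2 n13746
theorem D18886 : act 2 n13746 = n18886 := rfl
theorem F33811 : act 0 n18886 = n13747 := d1_1 D18886 (iv D13747) D13746
theorem F33812 : act 4 n18886 = n13972 := d12_2 (iv F24138) D18886 (iv D13972)
theorem F33813 : act 5 n18886 = n13751 := d13_2 (iv F24139) D18886 (iv D13751)
def n18887 : Q := act 3 n13747
theorem D18887 : act 3 n13747 = n18887 := rfl
theorem F33814 : act 5 n18887 = n13753 := d16_2 (iv F24141) D18887 (iv D13753)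
def n18888 : Q := act 6 n13747
theorem D18888 : act 6 n13747 = n18888 := rfl
theorem F33815 : act 2 n18888 = n13748 := d14_1 D18888 (iv D13748) D13747
theorem F33816 : act 4 n18888 = n13974 := d19_1 D18888 (iv D13974) (iv F24140)
def n18889 : Q := act 1 n13748
theorem D18889 : act 1 n13748 = n18889 := rfl
theorem F33817 : act 4 n18889 = n13975 := d8_2 (iv F24142) D18889 (iv D13975)
theorem F33818 : act 6 n18889 = n13749 := d10_2 D13748 D18889 (iv D13749) (iv D10876) D10875
def n18890 : Q := act 0 n13749
theorem D18890 : act 0 n13749 = n18890 := rfl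
theorem F33819 : act 4 n18890 = n13976 := d3_2 (iv F24143) D18890 (iv D13976)
def n18891 : Q := act 2 n13749
theorem D18891 : act 2 n13749 = n18891 := rfl
theorem F33820 : act 4 n18891 = n13977 := d12_2 (iv F24143) D18891 (iv D13977)
def n18892 : Q := act 5 n13749
theorem D18892 : act 5 n13749 = n18892 := rfl
theorem F33821 : act 1 n18892 = n18767 := d9_1 D18892 (iv D18767) (iv D13688) (iv F19315) D13749
theorem F33822 : act 4 n18892 = n13978 := d18_1 D18892 (iv D13978) (iv F24143)
def n18893 : Q := act 0 n13750
theorem D18893 : act 0 n13750 = n18893 := rfl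
theorem F33823 : act 1 n18893 = n18846 := d0_2 D13750 D18893 (iv D18846) (iv D13728) (iv D10867) (iv D8013) (iv F5873) D8017 D10877
theorem F33824 : act 4 n18893 = n13979 := d3_2 (iv F24144) D18893 (iv D13979)
def n18894 : Q := act 2 n13750
theorem D18894 : act 2 n13750 = n18894 := rfl
theorem F33825 : act 4 n18894 = n13980 := d12_2 (iv F24144) D18894 (iv D13980)
def n18895 : Q := act 5 n13750
theorem D18895 : act 5 n13750 = n18895 := rfl
theorem F33826 : act 4 n18895 = n13981 := d18_1 D18895 (iv D13981) (iv F24144)
def n18896 : Q := act 6 n13750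
theorem D18896 : act 6 n13750 = n18896 := rfl
theorem F33827 : act 4 n18896 = n13982 := d19_1 D18896 (iv D13982) (iv F24144)
def n18897 : Q := act 1 n13751
theorem D18897 : act 1 n13751 = n18897 := rfl
theorem F33828 : act 4 n18897 = n13983 := d8_2 (iv F24146) D18897 (iv D13983)
def n18898 : Q := act 3 n13751
theorem D18898 : act 3 n13751 = n18898 := rfl
theorem F33829 : act 0 n18898 = n13753 := d2_1 D18898 (iv D13753) (iv F24145)
def n18899 : Q := act 6 n13751
theorem D18899 : act 6 n13751 = n18899 := rfl
theorem F33830 : act 0 n18899 = n13754 := d5_1 D18899 (iv D13754) (iv F24145)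
theorem F33831 : act 2 n18899 = n13752 := d14_1 D18899 (iv D13752) D13751
theorem F33832 : act 4 n18899 = n13985 := d19_1 D18899 (iv D13985) (iv F24146)
theorem F33833 : act 5 n18899 = n18888 := d22_2 F33813 D18899 (iv D18888) (iv F33811)
def n18900 : Q := act 1 n13752
theorem D18900 : act 1 n13752 = n18900 := rfl
theorem F33834 : act 4 n18900 = n13986 := d8_2 (iv F24148) D18900 (iv D13986)
def n18901 : Q := act 2 n13753
theorem D18901 : act 2 n13753 = n18901 := rfl
def n18902 : Q := act 4 n13753
theorem D18902 : act 4 n13753 = n18902 := rfl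
theorem F33835 : act 1 n18902 = n13795 := d8_1 D18902 (iv D13795) (iv F24150)
theorem F33836 : act 3 n18902 = n13988 := d15_1 D18902 (iv D13988) (iv D10999) (iv F19318) D13753
def n18903 : Q := act 6 n13753
theorem D18903 : act 6 n13753 = n18903 := rfl
theorem F33837 : act 1 n18903 = n18903 := d10_1 D18903 (iv D18903) F24150 F19367 (iv F24150)
theorem F33838 : act 3 n18903 = n13754 := d17_1 D18903 (iv D13754) D13753
def n18904 : Q := act 5 n13754
theorem D18904 : act 5 n13754 = n18904 := rfl
theorem F33839 : act 0 n18904 = n18888 := d4_1 D18904 (iv F33833) F33830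
theorem F33840 : act 2 n18904 = n13755 := d13_1 D18904 (iv D13755) (iv F24152)
theorem F33841 : act 4 n18904 = n13990 := d18_1 D18904 (iv D13990) (iv F24153)
theorem F33842 : act 6 n18904 = n18886 := d20_2 D13754 D18904 F33813 D18899 F33833 (iv D18888) F24141
def n18905 : Q := act 1 n13755
theorem D18905 : act 1 n13755 = n18905 := rfl
theorem F33843 : act 4 n18905 = n13991 := d8_2 (iv F24155) D18905 (iv D13991)
theorem F33844 : act 5 n18905 = n18217 := d9_2 D13755 D18905 (iv D18217) (iv D13329) (iv F19319)
def n18906 : Q := act 5 n13756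
theorem D18906 : act 5 n13756 = n18906 := rfl
theorem F33845 : act 1 n18906 = n18906 := d9_1 D18906 (iv D18906) (iv D13756) F19323 D13756
theorem F33846 : act 2 n18906 = n13760 := d13_1 D18906 (iv D13760) (iv F24157)
theorem F33847 : act 4 n18906 = n13994 := d18_1 D18906 (iv D13994) (iv F24158)
def n18907 : Q := act 6 n13756
theorem D18907 : act 6 n13756 = n18907 := rfl
theorem F33848 : act 1 n18907 = n18298 := d10_1 D18907 (iv D18298) F23536 (iv F19324) D13756
theorem F33849 : act 2 n18907 = n13761 := d14_1 D18907 (iv D13761) (iv F24157)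
theorem F33850 : act 4 n18907 = n13995 := d19_1 D18907 (iv D13995) (iv F24158)
def n18908 : Q := act 3 n13758
theorem D18908 : act 3 n13758 = n18908 := rfl
theorem F33851 : act 0 n18908 = n13759 := d2_1 D18908 (iv D13759) D13758
def n18909 : Q := act 5 n13758
theorem D18909 : act 5 n13758 = n18909 := rfl
theorem F33852 : act 0 n18909 = n13760 := d4_1 D18909 (iv D13760) D13758
theorem F33853 : act 4 n18909 = n13998 := d18_1 D18909 (iv D13998) (iv F24163)
theorem F33854 : act 1 n15324 = n18909 := d8_3 F33853 F28994 D15324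
def n18910 : Q := act 6 n13758
theorem D18910 : act 6 n13758 = n18910 := rfl
theorem F33855 : act 0 n18910 = n13761 := d5_1 D18910 (iv D13761) D13758
theorem F33856 : act 4 n18910 = n13999 := d19_1 D18910 (iv D13999) (iv F24163)
def n18911 : Q := act 2 n13759
theorem D18911 : act 2 n13759 = n18911 := rfl
theorem F33857 : act 1 n18911 = n18753 := d6_1 D18911 F33571 F24231 F19371 (iv F24164)
theorem F33858 : act 3 n18911 = n14497 := d21_1 D18911 (iv D14497) (iv F25280) F25279 D16087 (iv F27831) D18908 F33851
theorem F33859 : act 4 n18369 = n18911 := d15_0 F33858 F25315 (iv F28899) (iv F23601) D18369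
theorem F33860 : act 5 n18404 = n18911 := d16_0 F33858 F28908 (iv F32304)
def n18912 : Q := act 4 n13759
theorem D18912 : act 4 n13759 = n18912 := rfl
theorem F33861 : act 1 n18912 = n13762 := d8_1 D18912 (iv D13762) (iv F24164)
theorem F33862 : act 2 n18912 = n18369 := d12_1 D18912 F33859 (iv D18911)
theorem F33863 : act 3 n18912 = n14001 := d15_1 D18912 (iv D14001) (iv D11005) (iv F19325) D13759
theorem F33864 : act 5 n16246 = n18912 := d16_0 F33863 F29002 D16246
def n18913 : Q := act 5 n13759
theorem D18913 : act 5 n13759 = n18913 := rfl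
theorem F33865 : act 1 n18913 = n16249 := d9_1 D18913 (iv F29017) F24231 F19372 (iv F24164)
theorem F33866 : act 2 n18913 = n18404 := d13_1 D18913 F33860 (iv D18911)
theorem F33867 : act 3 n18913 = n13760 := d16_1 D18913 (iv D13760) D13759
theorem F33868 : act 4 n18913 = n16246 := d18_1 D18913 F33864 (iv D18912)
def n18914 : Q := act 6 n13759
theorem D18914 : act 6 n13759 = n18914 := rfl
theorem F33869 : act 3 n18914 = n13761 := d17_1 D18914 (iv D13761) D13759
def n18915 : Q := act 6 n13760
theorem D18915 : act 6 n13760 = n18915 := rfl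
theorem F33870 : act 4 n18915 = n14004 := d19_1 D18915 (iv D14004) (iv F24165)
theorem F33871 : act 5 n18915 = n18910 := d22_2 D13760 D18915 (iv D18910) (iv D13758)
def n18916 : Q := act 5 n13761
theorem D18916 : act 5 n13761 = n18916 := rfl
theorem F33872 : act 0 n18916 = n18915 := d4_1 D18916 F33871 F33855
theorem F33873 : act 4 n18916 = n14005 := d18_1 D18916 (iv D14005) (iv F24166)
theorem F33874 : act 6 n18916 = n18909 := d20_2 D13761 D18916 (iv D18909) D18910 (iv F33871) (iv D18915) (iv D13760)
def n18917 : Q := act 1 n13763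
theorem D18917 : act 1 n13763 = n18917 := rfl
theorem F33875 : act 3 n18917 = n14013 := d7_2 (iv F24169) D18917 (iv D14013)
theorem F33876 : act 4 n18917 = n13764 := d8_2 (iv F24170) D18917 (iv D13764)
def n18918 : Q := act 5 n13763
theorem D18918 : act 5 n13763 = n18918 := rfl
theorem F33877 : act 0 n18918 = n18439 := d4_1 D18918 (iv F32394) F32392
theorem F33878 : act 2 n18918 = n18448 := d13_1 D18918 F32394 F32371
theorem F33879 : act 3 n18918 = n14014 := d16_1 D18918 (iv D14014) (iv F24169)
theorem F33880 : act 4 n18918 = n13765 := d18_1 D18918 (iv D13765) (iv F24170)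
theorem F33881 : act 6 n18918 = n13800 := d20_2 D13763 D18918 F24240 (iv F32395) F32394 (iv D18439) F23662
def n18919 : Q := act 0 n13764
theorem D18919 : act 0 n13764 = n18919 := rfl
theorem F33882 : act 3 n18919 = n13766 := d2_2 (iv F24171) D18919 (iv D13766)
def n18920 : Q := act 2 n13764
theorem D18920 : act 2 n13764 = n18920 := rfl
def n18921 : Q := act 5 n13764
theorem D18921 : act 5 n13764 = n18921 := rfl
theorem F33883 : act 3 n18921 = n13768 := d16_1 D18921 (iv D13768) (iv F24171)
def n18922 : Q := act 1 n13765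
theorem D18922 : act 1 n13765 = n18922 := rfl
theorem F33884 : act 3 n18922 = n13769 := d7_2 (iv F24174) D18922 (iv D13769)
def n18923 : Q := act 1 n13766
theorem D18923 : act 1 n13766 = n18923 := rfl
theorem F33885 : act 0 n18923 = n15365 := d0_1 D18923 F26723 (iv F29828) F32360 F32358 F23656 F19062 D10885 D13766
theorem F33886 : act 4 n18923 = n14019 := d8_2 (iv F24176) D18923 (iv D14019)
theorem F33887 : act 5 n15363 = n18923 := d18_0 F33886 F29217 (iv F26721)
def n18924 : Q := act 2 n13766
theorem D18924 : act 2 n13766 = n18924 := rfl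
theorem F33888 : act 0 n18924 = n13767 := d1_1 D18924 (iv D13767) D13766
theorem F33889 : act 4 n18924 = n14020 := d12_2 (iv F24176) D18924 (iv D14020)
def n18925 : Q := act 5 n13766
theorem D18925 : act 5 n13766 = n18925 := rfl
theorem F33890 : act 0 n18925 = n13768 := d4_1 D18925 (iv D13768) D13766
theorem F33891 : act 4 n18925 = n14021 := d18_1 D18925 (iv D14021) (iv F24176)
theorem F33892 : act 6 n18925 = n18836 := d22_1 D18925 (iv D18836) F24094 D13766
def n18926 : Q := act 3 n13767
theorem D18926 : act 3 n13767 = n18926 := rfl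
theorem F33893 : act 1 n18926 = n13771 := d7_1 D18926 (iv D13771) (iv F24177)
def n18927 : Q := act 5 n13767
theorem D18927 : act 5 n13767 = n18927 := rfl
theorem F33894 : act 2 n18927 = n13768 := d13_1 D18927 (iv D13768) D13767
theorem F33895 : act 4 n18927 = n14023 := d18_1 D18927 (iv D14023) (iv F24178)
def n18928 : Q := act 1 n13768
theorem D18928 : act 1 n13768 = n18928 := rfl
theorem F33896 : act 4 n18928 = n14024 := d8_2 (iv F24179) D18928 (iv D14024)
theorem F33897 : act 5 n18928 = n13769 := d9_2 D13768 D18928 (iv D13769) (iv D10886) D10885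
def n18929 : Q := act 6 n13768
theorem D18929 : act 6 n13768 = n18929 := rfl
theorem F33898 : act 0 n18929 = n18836 := d5_1 D18929 (iv F33892) F33890
theorem F33899 : act 4 n18929 = n14025 := d19_1 D18929 (iv D14025) (iv F24179)
theorem F33900 : act 5 n18929 = n18834 := d20_1 D18929 F33717 D18925 F33892 (iv D18836) F24094 D13768
def n18930 : Q := act 0 n13769
theorem D18930 : act 0 n13769 = n18930 := rfl
theorem F33901 : act 4 n18930 = n14026 := d3_2 (iv F24180) D18930 (iv D14026)
def n18931 : Q := act 6 n13769
theorem D18931 : act 6 n13769 = n18931 := rfl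
theorem F33902 : act 1 n18931 = n13799 := d10_1 D18931 (iv D13799) (iv D10902) (iv F19333) D13769
theorem F33903 : act 4 n18931 = n14027 := d19_1 D18931 (iv D14027) (iv F24180)
def n18932 : Q := act 1 n13770
theorem D18932 : act 1 n13770 = n18932 := rfl
theorem F33904 : act 4 n18932 = n14028 := d8_2 (iv F24182) D18932 (iv D14028)
def n18933 : Q := act 3 n13770
theorem D18933 : act 3 n13770 = n18933 := rfl
theorem F33905 : act 0 n18933 = n13771 := d2_1 D18933 (iv D13771) (iv F24181)
theorem F33906 : act 5 n18933 = n13771 := d16_2 (iv F24183) D18933 (iv D13771)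
theorem F33907 : act 6 n18933 = n13773 := d17_2 (iv F24184) D18933 (iv D13773)
def n18934 : Q := act 2 n13771
theorem D18934 : act 2 n13771 = n18934 := rfl
theorem F33908 : act 6 n18934 = n13774 := d14_2 (iv F24185) D18934 (iv D13774)
def n18935 : Q := act 4 n13771
theorem D18935 : act 4 n13771 = n18935 := rfl
theorem F33909 : act 3 n18935 = n14031 := d15_1 D18935 (iv D14031) (iv D11020) (iv F19338) D13771
theorem F33910 : act 6 n18935 = n13775 := d19_2 (iv F24185) D18935 (iv D13775)
def n18936 : Q := act 0 n13772
theorem D18936 : act 0 n13772 = n18936 := rfl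
theorem F33911 : act 4 n18936 = n14032 := d3_2 (iv F24186) D18936 (iv D14032)
def n18937 : Q := act 3 n13772
theorem D18937 : act 3 n13772 = n18937 := rfl
theorem F33912 : act 1 n18937 = n13773 := d7_1 D18937 (iv D13773) D13772
def n18938 : Q := act 5 n13772
theorem D18938 : act 5 n13772 = n18938 := rfl
theorem F33913 : act 1 n18938 = n18938 := d9_1 D18938 (iv D18938) (iv D13772) F19342 D13772
theorem F33914 : act 4 n18938 = n14034 := d18_1 D18938 (iv D14034) (iv F24186)
def n18939 : Q := act 6 n13772
theorem D18939 : act 6 n13772 = n18939 := rfl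
theorem F33915 : act 4 n18939 = n14035 := d19_1 D18939 (iv D14035) (iv F24186)
def n18940 : Q := act 4 n13773
theorem D18940 : act 4 n13773 = n18940 := rfl
theorem F33916 : act 0 n18940 = n13775 := d3_1 D18940 (iv D13775) (iv F24187)
theorem F33917 : act 3 n18940 = n14036 := d15_1 D18940 (iv D14036) (iv D11022) (iv F19341) D13773
theorem F33918 : act 5 n18940 = n18940 := d18_2 F24188 D18940 (iv D18940)
def n18941 : Q := act 1 n13774
theorem D18941 : act 1 n13774 = n18941 := rfl
def n18942 : Q := act 4 n13774
theorem D18942 : act 4 n13774 = n18942 := rfl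
theorem F33919 : act 2 n18942 = n13775 := d12_1 D18942 (iv D13775) D13774
theorem F33920 : act 5 n18942 = n18942 := d18_2 F24189 D18942 (iv D18942)
def n18943 : Q := act 0 n13776
theorem D18943 : act 0 n13776 = n18943 := rfl
theorem F33921 : act 2 n18943 = n13778 := d1_2 (iv F24192) D18943 (iv D13778)
theorem F33922 : act 4 n18943 = n14039 := d3_2 (iv F24193) D18943 (iv D14039)
def n18944 : Q := act 3 n13776
theorem D18944 : act 3 n13776 = n18944 := rfl
theorem F33923 : act 1 n18944 = n13777 := d7_1 D18944 (iv D13777) D13776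
def n18945 : Q := act 5 n13776
theorem D18945 : act 5 n13776 = n18945 := rfl
theorem F33924 : act 1 n18945 = n18304 := d9_1 D18945 (iv D18304) F23540 (iv F19346) D13776
theorem F33925 : act 2 n18945 = n13780 := d13_1 D18945 (iv D13780) (iv F24192)
theorem F33926 : act 4 n18945 = n14041 := d18_1 D18945 (iv D14041) (iv F24193)
def n18946 : Q := act 6 n13776
theorem D18946 : act 6 n13776 = n18946 := rfl
theorem F33927 : act 1 n18946 = n18946 := d10_1 D18946 (iv D18946) (iv D13776) F19347 D13776
theorem F33928 : act 2 n18946 = n13781 := d14_1 D18946 (iv D13781) (iv F24192)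
theorem F33929 : act 4 n18946 = n14042 := d19_1 D18946 (iv D14042) (iv F24193)
def n18947 : Q := act 4 n13777
theorem D18947 : act 4 n13777 = n18947 := rfl
theorem F33931 : act 2 n18947 = n18307 := d12_1 D18947 (iv D18307) (iv F24197)
theorem F33932 : act 3 n18947 = n14043 := d15_1 D18947 (iv D14043) (iv D11026) (iv F19345) D13777
theorem F33933 : act 5 n18947 = n18307 := d18_2 (iv F24195) D18947 (iv D18307)
theorem F33934 : act 6 n18947 = n18947 := d19_2 F24196 D18947 (iv D18947)
def n18948 : Q := act 3 n13778
theorem D18948 : act 3 n13778 = n18948 := rfl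
theorem F33935 : act 0 n18948 = n13779 := d2_1 D18948 (iv D13779) D13778
def n18949 : Q := act 5 n13778
theorem D18949 : act 5 n13778 = n18949 := rfl
theorem F33936 : act 0 n18949 = n13780 := d4_1 D18949 (iv D13780) D13778
theorem F33937 : act 4 n18949 = n14045 := d18_1 D18949 (iv D14045) (iv F24198)
def n18950 : Q := act 6 n13778
theorem D18950 : act 6 n13778 = n18950 := rfl
theorem F33938 : act 0 n18950 = n13781 := d5_1 D18950 (iv D13781) D13778
theorem F33939 : act 4 n18950 = n14046 := d19_1 D18950 (iv D14046) (iv F24198)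
def n18951 : Q := act 2 n13779
theorem D18951 : act 2 n13779 = n18951 := rfl
def n18952 : Q := act 4 n13779
theorem D18952 : act 4 n13779 = n18952 := rfl
theorem F33940 : act 1 n18952 = n13782 := d8_1 D18952 (iv D13782) (iv F24199)
theorem F33941 : act 3 n18952 = n14048 := d15_1 D18952 (iv D14048) (iv D11028) (iv F19348) D13779
def n18953 : Q := act 5 n13779
theorem D18953 : act 5 n13779 = n18953 := rfl
theorem F33942 : act 3 n18953 = n13780 := d16_1 D18953 (iv D13780) D13779
def n18954 : Q := act 6 n13779
theorem D18954 : act 6 n13779 = n18954 := rfl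
theorem F33943 : act 3 n18954 = n13781 := d17_1 D18954 (iv D13781) D13779
def n18955 : Q := act 6 n13780
theorem D18955 : act 6 n13780 = n18955 := rfl
theorem F33944 : act 4 n18955 = n14051 := d19_1 D18955 (iv D14051) (iv F24200)
theorem F33945 : act 5 n18955 = n18950 := d22_2 D13780 D18955 (iv D18950) (iv D13778)
def n18956 : Q := act 5 n13781
theorem D18956 : act 5 n13781 = n18956 := rfl
theorem F33946 : act 0 n18956 = n18955 := d4_1 D18956 F33945 F33938
theorem F33947 : act 4 n18956 = n14052 := d18_1 D18956 (iv D14052) (iv F24201)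
theorem F33948 : act 6 n18956 = n18949 := d20_2 D13781 D18956 (iv D18949) D18950 (iv F33945) (iv D18955) (iv D13780)
def n18957 : Q := act 1 n13783
theorem D18957 : act 1 n13783 = n18957 := rfl
theorem F33949 : act 3 n18957 = n14060 := d7_2 (iv F24204) D18957 (iv D14060)
theorem F33950 : act 4 n18957 = n13784 := d8_2 (iv F24205) D18957 (iv D13784)
def n18958 : Q := act 6 n13783
theorem D18958 : act 6 n13783 = n18958 := rfl
theorem F33951 : act 0 n18958 = n18444 := d5_1 D18958 F32385 F32379
theorem F33952 : act 2 n18958 = n18443 := d14_1 D18958 (iv F32385) F32382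
theorem F33953 : act 3 n18958 = n14061 := d17_1 D18958 (iv D14061) (iv F24204)
theorem F33954 : act 4 n18958 = n13785 := d19_1 D18958 (iv D13785) (iv F24205)
theorem F33955 : act 5 n18958 = n13814 := d20_1 D18958 F24272 (iv F32381) (iv F32385) (iv D18444) F23670 D13783
def n18959 : Q := act 0 n13784
theorem D18959 : act 0 n13784 = n18959 := rfl
theorem F33956 : act 3 n18959 = n13786 := d2_2 (iv F24206) D18959 (iv D13786)
def n18960 : Q := act 2 n13784
theorem D18960 : act 2 n13784 = n18960 := rfl
def n18961 : Q := act 6 n13784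
theorem D18961 : act 6 n13784 = n18961 := rfl
theorem F33957 : act 3 n18961 = n13788 := d17_1 D18961 (iv D13788) (iv F24206)
def n18962 : Q := act 1 n13785
theorem D18962 : act 1 n13785 = n18962 := rfl
theorem F33958 : act 3 n18962 = n13789 := d7_2 (iv F24209) D18962 (iv D13789)
def n18963 : Q := act 1 n13786
theorem D18963 : act 1 n13786 = n18963 := rfl
theorem F33959 : act 4 n18963 = n14066 := d8_2 (iv F24211) D18963 (iv D14066)
def n18964 : Q := act 2 n13786
theorem D18964 : act 2 n13786 = n18964 := rfl
theorem F33960 : act 0 n18964 = n13787 := d1_1 D18964 (iv D13787) D13786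
theorem F33961 : act 4 n18964 = n14067 := d12_2 (iv F24211) D18964 (iv D14067)
def n18965 : Q := act 6 n13786
theorem D18965 : act 6 n13786 = n18965 := rfl
theorem F33962 : act 0 n18965 = n13788 := d5_1 D18965 (iv D13788) D13786
theorem F33963 : act 4 n18965 = n14068 := d19_1 D18965 (iv D14068) (iv F24211)
theorem F33964 : act 5 n18965 = n18883 := d22_2 F33804 D18965 (iv D18883) D18881
def n18966 : Q := act 3 n13787
theorem D18966 : act 3 n13787 = n18966 := rfl
theorem F33965 : act 1 n18966 = n13791 := d7_1 D18966 (iv D13791) (iv F24212)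
def n18967 : Q := act 6 n13787
theorem D18967 : act 6 n13787 = n18967 := rfl
theorem F33966 : act 2 n18967 = n13788 := d14_1 D18967 (iv D13788) D13787
theorem F33967 : act 4 n18967 = n14070 := d19_1 D18967 (iv D14070) (iv F24213)
def n18968 : Q := act 1 n13788
theorem D18968 : act 1 n13788 = n18968 := rfl
theorem F33968 : act 4 n18968 = n14071 := d8_2 (iv F24214) D18968 (iv D14071)
theorem F33969 : act 6 n18968 = n13789 := d10_2 D13788 D18968 (iv D13789) (iv D10897) D10896
theorem F33970 : act 2 n18939 = n18968 := d14_3 F33969 F24215 D18939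
def n18969 : Q := act 5 n13788
theorem D18969 : act 5 n13788 = n18969 := rfl
theorem F33971 : act 0 n18969 = n18883 := d4_1 D18969 (iv F33964) F33962
theorem F33972 : act 4 n18969 = n14072 := d18_1 D18969 (iv D14072) (iv F24214)
theorem F33973 : act 6 n18969 = n18881 := d20_2 D13788 D18969 F33804 D18965 F33964 (iv D18883) F24133
def n18970 : Q := act 0 n13789
theorem D18970 : act 0 n13789 = n18970 := rfl
theorem F33974 : act 2 n18970 = n18936 := d1_2 (iv F24215) D18970 (iv D18936)
theorem F33975 : act 4 n18970 = n14073 := d3_2 (iv F24216) D18970 (iv D14073)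
def n18971 : Q := act 5 n13789
theorem D18971 : act 5 n13789 = n18971 := rfl
theorem F33976 : act 1 n18971 = n13812 := d9_1 D18971 (iv D13812) (iv D10909) (iv F19356) D13789
theorem F33977 : act 2 n18971 = n18938 := d13_1 D18971 (iv D18938) (iv F24215)
theorem F33978 : act 4 n18971 = n14074 := d18_1 D18971 (iv D14074) (iv F24216)
def n18972 : Q := act 1 n13790
theorem D18972 : act 1 n13790 = n18972 := rfl
theorem F33979 : act 2 n18972 = n18932 := d6_2 D13790 D18972 (iv D18932) (iv D13770) (iv F19357)
theorem F33980 : act 4 n18972 = n14075 := d8_2 (iv F24218) D18972 (iv D14075)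
def n18973 : Q := act 3 n13790
theorem D18973 : act 3 n13790 = n18973 := rfl
theorem F33981 : act 0 n18973 = n13791 := d2_1 D18973 (iv D13791) (iv F24217)
theorem F33982 : act 5 n18973 = n13793 := d16_2 (iv F24219) D18973 (iv D13793)
theorem F33983 : act 6 n18973 = n13791 := d17_2 (iv F24220) D18973 (iv D13791)
def n18974 : Q := act 2 n13791
theorem D18974 : act 2 n13791 = n18974 := rfl
theorem F33984 : act 5 n18974 = n13794 := d13_2 (iv F24221) D18974 (iv D13794)
def n18975 : Q := act 4 n13791
theorem D18975 : act 4 n13791 = n18975 := rfl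
theorem F33985 : act 3 n18975 = n14078 := d15_1 D18975 (iv D14078) (iv D11043) (iv F19362) D13791
theorem F33986 : act 5 n18975 = n13795 := d18_2 (iv F24221) D18975 (iv D13795)
def n18976 : Q := act 0 n13792
theorem D18976 : act 0 n13792 = n18976 := rfl
theorem F33987 : act 2 n18976 = n18930 := d1_2 (iv F24222) D18976 (iv D18930)
theorem F33988 : act 4 n18976 = n14079 := d3_2 (iv F24223) D18976 (iv D14079)
def n18977 : Q := act 3 n13792
theorem D18977 : act 3 n13792 = n18977 := rfl
theorem F33989 : act 1 n18977 = n13793 := d7_1 D18977 (iv D13793) D13792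
def n18978 : Q := act 5 n13792
theorem D18978 : act 5 n13792 = n18978 := rfl
theorem F33990 : act 2 n18978 = n18928 := d13_1 D18978 F33897 (iv F24222)
theorem F33991 : act 4 n18978 = n14081 := d18_1 D18978 (iv D14081) (iv F24223)
def n18979 : Q := act 6 n13792
theorem D18979 : act 6 n13792 = n18979 := rfl
theorem F33992 : act 1 n18979 = n18979 := d10_1 D18979 (iv D18979) (iv D13792) F19366 D13792
theorem F33993 : act 2 n18979 = n18931 := d14_1 D18979 (iv D18931) (iv F24222)
theorem F33994 : act 4 n18979 = n14082 := d19_1 D18979 (iv D14082) (iv F24223)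
def n18980 : Q := act 4 n13793
theorem D18980 : act 4 n13793 = n18980 := rfl
theorem F33995 : act 0 n18980 = n13795 := d3_1 D18980 (iv D13795) (iv F24224)
theorem F33996 : act 3 n18980 = n14083 := d15_1 D18980 (iv D14083) (iv D11045) (iv F19365) D13793
theorem F33997 : act 6 n18980 = n18980 := d19_2 F24225 D18980 (iv D18980)
def n18981 : Q := act 1 n13794
theorem D18981 : act 1 n13794 = n18981 := rfl
def n18982 : Q := act 4 n13794
theorem D18982 : act 4 n13794 = n18982 := rfl
theorem F33998 : act 2 n18982 = n13795 := d12_1 D18982 (iv D13795) D13794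
theorem F33999 : act 6 n18982 = n18982 := d19_2 F24226 D18982 (iv D18982)
def n18983 : Q := act 1 n13796
theorem D18983 : act 1 n13796 = n18983 := rfl
theorem F34000 : act 4 n18983 = n18634 := d8_2 (iv F24230) D18983 (iv D18634)
def n18984 : Q := act 3 n13796
theorem D18984 : act 3 n13796 = n18984 := rfl
theorem F34001 : act 0 n18984 = n13797 := d2_1 D18984 (iv D13797) D13796
def n18985 : Q := act 6 n13796
theorem D18985 : act 6 n13796 = n18985 := rfl
theorem F34002 : act 0 n18985 = n13799 := d5_1 D18985 (iv D13799) D13796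
theorem F34003 : act 2 n18985 = n18985 := d14_1 D18985 (iv D18985) F24229
theorem F34004 : act 4 n18985 = n16785 := d19_1 D18985 F29610 (iv F24230)
theorem F34005 : act 5 n18985 = n16783 := d22_2 (iv F29016) D18985 (iv D16783) (iv F26540)
def n18986 : Q := act 6 n13797
theorem D18986 : act 6 n13797 = n18986 := rfl
theorem F34006 : act 3 n18986 = n13799 := d17_1 D18986 (iv D13799) D13797
def n18987 : Q := act 5 n13799
theorem D18987 : act 5 n13799 = n18987 := rfl
theorem F34007 : act 0 n18987 = n16783 := d4_1 D18987 (iv F34005) F34002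
theorem F34008 : act 2 n18987 = n18987 := d13_1 D18987 (iv D18987) F24235
theorem F34009 : act 4 n18987 = n15247 := d18_1 D18987 (iv F29033) (iv F24236)
theorem F34010 : act 6 n18987 = n15245 := d20_2 D13799 D18987 (iv F29016) D18985 F34005 (iv D16783) F28993
def n18988 : Q := act 3 n13801
theorem D18988 : act 3 n13801 = n18988 := rfl
theorem F34011 : act 0 n18988 = n18988 := d2_1 D18988 (iv D18988) F24241
theorem F34012 : act 1 n18988 = n13802 := d7_1 D18988 (iv D13802) D13801
theorem F34013 : act 4 n18988 = n16515 := d15_2 (iv F24242) D18988 (iv D16515) F21747 (iv F32941)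
def n18989 : Q := act 2 n13802
theorem D18989 : act 2 n13802 = n18989 := rfl
theorem F34014 : act 0 n18989 = n13803 := d1_1 D18989 (iv D13803) (iv F24243)
theorem F34015 : act 4 n18989 = n16516 := d12_2 (iv F32963) D18989 (iv D16516)
theorem F34016 : act 5 n18989 = n13803 := d13_2 (iv F24244) D18989 (iv D13803)
theorem F34017 : act 6 n18989 = n13805 := d14_2 (iv F24245) D18989 (iv D13805)
theorem F34018 : act 3 n18989 = n18934 := d21_1 D18989 (iv D18934) (iv D13771) (iv D10888) F11978 D8052 D10905 (iv F24243)
def n18990 : Q := act 1 n13803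
theorem D18990 : act 1 n13803 = n18990 := rfl
theorem F34019 : act 4 n18990 = n16518 := d8_2 (iv F32964) D18990 (iv D16518)
def n18991 : Q := act 3 n13803
theorem D18991 : act 3 n13803 = n18991 := rfl
theorem F34020 : act 0 n18991 = n18934 := d2_1 D18991 (iv F34018) F34014
theorem F34021 : act 2 n18991 = n18933 := d11_1 D18991 (iv D18933) (iv D13770) F19334 D10904 D13802 D18989 F34018 (iv D18934) (iv D13771) (iv D10888) F11978 D8052 D10905 D13803
theorem F34022 : act 5 n18991 = n18934 := d16_2 F34016 D18991 (iv F34018)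
theorem F34023 : act 6 n18991 = n13808 := d17_2 (iv F24246) D18991 (iv D13808)
def n18992 : Q := act 1 n13805
theorem D18992 : act 1 n13805 = n18992 := rfl
theorem F34024 : act 3 n18992 = n18941 := d7_2 (iv F24251) D18992 (iv D18941)
def n18993 : Q := act 0 n13807
theorem D18993 : act 0 n13807 = n18993 := rfl
theorem F34025 : act 2 n18993 = n18993 := d1_2 F24255 D18993 (iv D18993)
def n18994 : Q := act 3 n13807
theorem D18994 : act 3 n13807 = n18994 := rfl
theorem F34026 : act 1 n18994 = n13808 := d7_1 D18994 (iv D13808) D13807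
def n18995 : Q := act 5 n13807
theorem D18995 : act 5 n13807 = n18995 := rfl
theorem F34027 : act 1 n18995 = n18995 := d9_1 D18995 (iv D18995) (iv D13807) F19380 D13807
theorem F34028 : act 2 n18995 = n18995 := d13_1 D18995 (iv D18995) F24255
def n18996 : Q := act 6 n13807
theorem D18996 : act 6 n13807 = n18996 := rfl
theorem F34029 : act 2 n18996 = n18996 := d14_1 D18996 (iv D18996) F24255
def n18997 : Q := act 4 n13808
theorem D18997 : act 4 n13808 = n18997 := rfl
theorem F34030 : act 0 n18997 = n18942 := d3_1 D18997 (iv D18942) (iv F24256)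
theorem F34031 : act 2 n18997 = n18940 := d12_1 D18997 (iv D18940) (iv F24257)
theorem F34032 : act 5 n18997 = n18997 := d18_2 F24258 D18997 (iv D18997)
def n18998 : Q := act 1 n13810
theorem D18998 : act 1 n13810 = n18998 := rfl
theorem F34033 : act 4 n18998 = n18643 := d8_2 (iv F24262) D18998 (iv D18643)
def n18999 : Q := act 3 n13810
theorem D18999 : act 3 n13810 = n18999 := rfl
theorem F34034 : act 0 n18999 = n13811 := d2_1 D18999 (iv D13811) D13810
def n19000 : Q := act 5 n13810
theorem D19000 : act 5 n13810 = n19000 := rfl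
theorem F34035 : act 0 n19000 = n13812 := d4_1 D19000 (iv D13812) D13810
theorem F34036 : act 2 n19000 = n19000 := d13_1 D19000 (iv D19000) F24261
theorem F34037 : act 4 n19000 = n18645 := d18_1 D19000 (iv D18645) (iv F24262)
def n19001 : Q := act 6 n13810
theorem D19001 : act 6 n13810 = n19001 := rfl
theorem F34038 : act 0 n19001 = n13813 := d5_1 D19001 (iv D13813) D13810
theorem F34040 : act 4 n19001 = n18646 := d19_1 D19001 (iv D18646) (iv F24262)
def n19002 : Q := act 2 n13811
theorem D19002 : act 2 n13811 = n19002 := rfl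
theorem F34041 : act 1 n19002 = n18951 := d6_1 D19002 (iv D18951) F24199 (iv F19387) (iv F24263)
def n19003 : Q := act 4 n13811
theorem D19003 : act 4 n13811 = n19003 := rfl
theorem F34042 : act 1 n19003 = n13814 := d8_1 D19003 (iv D13814) (iv F24263)
theorem F34043 : act 3 n19003 = n18648 := d15_1 D19003 (iv D18648) (iv D13605) (iv F19385) D13811
def n19004 : Q := act 5 n13811
theorem D19004 : act 5 n13811 = n19004 := rfl
theorem F34044 : act 3 n19004 = n13812 := d16_1 D19004 (iv D13812) D13811
def n19005 : Q := act 6 n13811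
theorem D19005 : act 6 n13811 = n19005 := rfl
theorem F34045 : act 1 n19005 = n18954 := d10_1 D19005 (iv D18954) F24199 (iv F19388) (iv F24263)
theorem F34046 : act 3 n19005 = n13813 := d17_1 D19005 (iv D13813) D13811
def n19006 : Q := act 6 n13812
theorem D19006 : act 6 n13812 = n19006 := rfl
theorem F34047 : act 2 n19006 = n19006 := d14_1 D19006 (iv D19006) F24264
theorem F34048 : act 4 n19006 = n18651 := d19_1 D19006 (iv D18651) (iv F24265)
theorem F34049 : act 5 n19006 = n19001 := d22_2 D13812 D19006 (iv D19001) (iv D13810)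
def n19007 : Q := act 5 n13813
theorem D19007 : act 5 n13813 = n19007 := rfl
theorem F34050 : act 0 n19007 = n19006 := d4_1 D19007 F34049 F34038
theorem F34053 : act 6 n19007 = n19000 := d20_2 D13813 D19007 (iv D19000) D19001 (iv F34049) (iv D19006) (iv D13812)
def n19008 : Q := act 3 n13815
theorem D19008 : act 3 n13815 = n19008 := rfl
theorem F34054 : act 0 n19008 = n19008 := d2_1 D19008 (iv D19008) F24273
theorem F34055 : act 1 n19008 = n13816 := d7_1 D19008 (iv D13816) D13815
theorem F34056 : act 4 n19008 = n16521 := d15_2 (iv F24275) D19008 (iv D16521) F21756 (iv F32906)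
theorem F34057 : act 5 n19008 = n18988 := d16_2 (iv F24276) D19008 (iv D18988)
theorem F34058 : act 6 n19008 = n18988 := d17_2 (iv F24277) D19008 (iv D18988)
def n19009 : Q := act 2 n13816
theorem D19009 : act 2 n13816 = n19009 := rfl
theorem F34059 : act 0 n19009 = n13817 := d1_1 D19009 (iv D13817) (iv F24278)
theorem F34060 : act 4 n19009 = n16522 := d12_2 (iv F32942) D19009 (iv D16522)
theorem F34061 : act 5 n19009 = n13819 := d13_2 (iv F24279) D19009 (iv D13819)
theorem F34062 : act 6 n19009 = n13817 := d14_2 (iv F24280) D19009 (iv D13817)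
theorem F34063 : act 3 n19009 = n18974 := d21_1 D19009 (iv D18974) (iv D13791) (iv D10899) F12001 D8075 D10912 (iv F24278)
def n19010 : Q := act 1 n13817
theorem D19010 : act 1 n13817 = n19010 := rfl
theorem F34064 : act 2 n19010 = n18992 := d6_2 D13817 D19010 (iv D18992) (iv D13805) (iv F19393)
theorem F34065 : act 4 n19010 = n16524 := d8_2 (iv F32979) D19010 (iv D16524)
def n19011 : Q := act 3 n13817
theorem D19011 : act 3 n13817 = n19011 := rfl
theorem F34066 : act 0 n19011 = n18974 := d2_1 D19011 (iv F34063) F34059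
theorem F34067 : act 2 n19011 = n18973 := d11_1 D19011 (iv D18973) (iv D13790) F19358 D10911 D13816 D19009 F34063 (iv D18974) (iv D13791) (iv D10899) F12001 D8075 D10912 D13817
theorem F34068 : act 5 n19011 = n13822 := d16_2 (iv F24281) D19011 (iv D13822)
theorem F34069 : act 6 n19011 = n18974 := d17_2 F34062 D19011 (iv F34063)
def n19012 : Q := act 1 n13819
theorem D19012 : act 1 n13819 = n19012 := rfl
theorem F34070 : act 2 n19012 = n18990 := d6_2 D13819 D19012 (iv D18990) (iv D13803) (iv F19396)
theorem F34071 : act 3 n19012 = n18981 := d7_2 (iv F24287) D19012 (iv D18981)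
def n19013 : Q := act 0 n13821
theorem D19013 : act 0 n13821 = n19013 := rfl
theorem F34072 : act 2 n19013 = n19013 := d1_2 F24292 D19013 (iv D19013)
def n19014 : Q := act 3 n13821
theorem D19014 : act 3 n13821 = n19014 := rfl
theorem F34073 : act 1 n19014 = n13822 := d7_1 D19014 (iv D13822) D13821
def n19015 : Q := act 5 n13821
theorem D19015 : act 5 n13821 = n19015 := rfl
theorem F34074 : act 2 n19015 = n19015 := d13_1 D19015 (iv D19015) F24292
def n19016 : Q := act 6 n13821
theorem D19016 : act 6 n13821 = n19016 := rfl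
def n19017 : Q := act 4 n13822
theorem D19017 : act 4 n13822 = n19017 := rfl
theorem F34077 : act 0 n19017 = n18982 := d3_1 D19017 (iv D18982) (iv F24293)
theorem F34078 : act 2 n19017 = n18980 := d12_1 D19017 (iv D18980) (iv F24294)
theorem F34079 : act 6 n19017 = n19017 := d19_2 F24295 D19017 (iv D19017)
def n19018 : Q := act 0 n13838
theorem D19018 : act 0 n13838 = n19018 := rfl
theorem F34080 : act 2 n19018 = n15635 := d1_2 F29227 D19018 (iv F29186)
theorem F34081 : act 4 n19018 = n16269 := d3_2 F33471 D19018 (iv F33488)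
theorem F34082 : act 1 n16270 = n19018 := d8_3 F34081 (iv D16269) D16270
def n19019 : Q := act 6 n13838
theorem D19019 : act 6 n13838 = n19019 := rfl
def n19020 : Q := act 0 n13839
theorem D19020 : act 0 n13839 = n19020 := rfl
def n19021 : Q := act 2 n13839
theorem D19021 : act 2 n13839 = n19021 := rfl
theorem F34083 : act 1 n19021 = n13845 := d6_1 D19021 (iv D13845) (iv D10934) (iv F19437) D13839
def n19022 : Q := act 5 n13839
theorem D19022 : act 5 n13839 = n19022 := rfl
def n19023 : Q := act 1 n13840
theorem D19023 : act 1 n13840 = n19023 := rfl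
theorem F34084 : act 0 n19023 = n16284 := d0_1 D19023 F28181 (iv F28151) F34082 (iv D19018) (iv D13838) F19434 D10932 D13840
theorem F34085 : act 2 n19023 = n16452 := d6_2 (iv F28816) D19023 (iv F32125) (iv D18315) F28803
theorem F34086 : act 3 n19023 = n13861 := d7_2 (iv F28817) D19023 F29188
theorem F34087 : act 4 n19023 = n16282 := d8_2 F33484 D19023 F33487
theorem F34088 : act 5 n18240 = n19023 := d16_0 F34086 (iv F24352) (iv F31917)
def n19024 : Q := act 6 n13841
theorem D19024 : act 6 n13841 = n19024 := rfl
theorem F34089 : act 0 n19024 = n14682 := d5_1 D19024 (iv D14682) (iv F28818)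
theorem F34090 : act 2 n19024 = n13842 := d14_1 D19024 (iv D13842) D13841
theorem F34091 : act 3 n19024 = n14678 := d17_1 D19024 (iv D14678) (iv F28819)
theorem F34092 : act 1 n18598 = n19024 := d24_14 (iv D19024) F24337 F28887 (iv F22448) F32488 (iv F32489) (iv D13516) (iv F23760) (iv D13513) (iv F19132) (iv D10782) D10780 D13571 D18598
def n19025 : Q := act 1 n13842
theorem D19025 : act 1 n13842 = n19025 := rfl
theorem F34093 : act 6 n19025 = n13843 := d10_2 D13842 D19025 (iv D13843) (iv D10933) D10932
def n19026 : Q := act 0 n13843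
theorem D19026 : act 0 n13843 = n19026 := rfl
def n19027 : Q := act 2 n13843
theorem D19027 : act 2 n13843 = n19027 := rfl
def n19028 : Q := act 5 n13843
theorem D19028 : act 5 n13843 = n19028 := rfl
theorem F34094 : act 1 n19028 = n19022 := d9_1 D19028 (iv D19022) (iv D13839) (iv F19439) D13843
def n19029 : Q := act 1 n13844
theorem D19029 : act 1 n13844 = n19029 := rfl
def n19030 : Q := act 2 n13844
theorem D19030 : act 2 n13844 = n19030 := rfl
theorem F34095 : act 0 n19030 = n13845 := d1_1 D19030 (iv D13845) D13844
theorem F34096 : act 6 n19030 = n13855 := d14_2 (iv F24338) D19030 (iv D13855)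
def n19031 : Q := act 3 n13845
theorem D19031 : act 3 n13845 = n19031 := rfl
theorem F34097 : act 6 n19031 = n13857 := d17_2 (iv F24339) D19031 (iv D13857)
def n19032 : Q := act 5 n13845
theorem D19032 : act 5 n13845 = n19032 := rfl
theorem F34098 : act 2 n19032 = n13846 := d13_1 D19032 (iv D13846) D13845
def n19033 : Q := act 1 n13846
theorem D19033 : act 1 n13846 = n19033 := rfl
theorem F34099 : act 5 n19033 = n13847 := d9_2 D13846 D19033 (iv D13847) (iv D10935) D10934
theorem F34100 : act 6 n19033 = n15496 := d24_3 (iv F19440) D13846 D19033 F33249 (iv D13938) F19471 (iv D10972) (iv D8206) (iv D3919) (iv F5979) (iv D3913) D3914 F5980 D8192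
theorem F34101 : act 2 n15480 = n19033 := d14_3 F34100 (iv D15496) (iv F26881)
theorem F34102 : act 1 n19032 = n15470 := d6_3 F34101 (iv D19033) (iv F34098) F26865 D15480
theorem F34103 : act 3 n15475 = n19032 := d7_0 F34102 F26866 D15475
theorem E9435 : n18450 = n13477 := (c24_14 (iv F24339) D19032 F34102 (iv D15470) F28930 (iv D10770) D10772 F19122 D13505 F23752 D13508 F23754 D18465 F32436 F23709)
theorem E9438 : n18451 = n13476 := (((iv F32414)).symm.trans (sb E9435 F32413))
theorem F34107 : act 2 n13476 = n13464 := (sb E9438 (iv D18451))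
theorem F34108 : act 6 n13476 = n13477 := (sb E9438 F32414)
theorem F34109 : act 6 n19021 = n18460 := d10_4 F34108 F23709 (iv F24339) (iv F34083) (iv D18460)
theorem F34110 : act 6 n18463 = n18457 := d17_2 F34108 D18463 F32428
theorem F34111 : act 6 n18357 = n18356 := d19_2 F34108 (iv F32193) F32191
theorem F34115 : act 2 n18460 = n18224 := d14_1 F34109 F31892 D19021
theorem F34117 : act 5 n19031 = n15475 := d16_0 F34103 (iv D19032) D19031
def n19034 : Q := act 0 n13847
theorem D19034 : act 0 n13847 = n19034 := rfl
theorem F34118 : act 6 n13938 = n19034 := d22_3 (iv F34099) F34100 F33249 (iv D19034)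
def n19035 : Q := act 2 n13847
theorem D19035 : act 2 n13847 = n19035 := rfl
theorem F34119 : act 1 n19035 = n19027 := d6_1 D19035 (iv D19027) (iv D13843) (iv F19442) D13847
theorem F34120 : act 5 n19035 = n15480 := d13_2 F34099 D19035 F34101
theorem F34121 : act 5 n18561 = n19027 := d9_4 F34120 (iv D15480) (iv F28934) D18561 (iv F34119)
theorem F34122 : act 3 n15491 = n19035 := d16_3 F34120 F26880 D15491
theorem F34123 : act 6 n18596 = n19035 := d22_1 (iv F33270) F34120 F26881 (iv F33250)
theorem F34124 : act 2 n19028 = n18561 := d13_3 F34121 (iv D19027) D19028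
theorem F34125 : act 6 n18567 = n19028 := d14_0 F34124 F33213 D18567
def n19036 : Q := act 6 n13847
theorem D19036 : act 6 n13847 = n19036 := rfl
theorem F34126 : act 0 n19036 = n13938 := d5_1 D19036 F34118 (iv D19034)
theorem F34127 : act 1 n19036 = n19019 := d10_1 D19036 (iv D19019) (iv D13838) (iv F19443) D13847
theorem F34128 : act 2 n19036 = n18596 := d14_1 D19036 F34123 (iv D19035)
theorem F34129 : act 5 n18606 = n19036 := d22_0 (iv D19036) (iv F34099) F34100 (iv F33283)
theorem F34130 : act 0 n18640 = n13932 := d23_15 F34129 F34128 (iv D18596) (iv F33265) (iv D18594) F32114 (iv D10780) (iv D7755) D7757 (iv F19134) D13579 D18613 F33298 F23876 D18640 F33246 (iv F33248) F33247 (iv F33283)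
theorem F34131 : act 1 n17184 = n14026 := d0_4 D18640 F34130 F33244 (iv F30169) (iv D14026) (iv D11018) F12235 D10795 D13601
theorem F34132 : act 2 n13931 = n18640 := d1_0 F34130 (iv D13932) D13931
theorem F34133 : act 3 n15346 = n18640 := d2_0 F34130 F33245 (iv F26700)
theorem F34134 : act 5 n15342 = n18640 := d4_0 F34130 F33246 D15342
theorem F34135 : act 1 n18639 = n15346 := d7_3 F34133 (iv D18640) (iv F33349)
theorem F34136 : act 0 n17186 = n14018 := d0_5 F34135 F26700 F20762 (iv F22333) D17186 (iv D14018) F19515 D13600 D18639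
theorem F34137 : act 3 n14026 = n17186 := d2_0 F34136 F24516 D14026
theorem F34138 : act 2 n18661 = n13979 := d6_4 F34132 (iv D18640) (iv F23876) D18661 F24470
theorem F34139 : act 0 n13980 = n18661 := d1_3 F34138 (iv D13979) D13980
def n19037 : Q := act 0 n13848
theorem D19037 : act 0 n13848 = n19037 := rfl
theorem F34140 : act 1 n19037 = n13860 := d0_2 D13848 D19037 (iv D13860) (iv D10942) (iv D8193) (iv D3913) (iv F5977) D8191 D10936
theorem F34141 : act 2 n16549 = n19037 := d6_0 F34140 (iv F24355) F24354 (iv F24387) F29150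
theorem F34142 : act 5 n18231 = n19037 := d9_0 F34140 F24352 F29188 F29237 D18231
def n19038 : Q := act 2 n13848
theorem D19038 : act 2 n13848 = n19038 := rfl
theorem F34143 : act 0 n19038 = n16549 := d1_1 D19038 F34141 (iv D19037)
theorem F34144 : act 3 n16548 = n19038 := d2_0 F34143 (iv D16549) (iv F28726)
def n19039 : Q := act 5 n13848
theorem D19039 : act 5 n13848 = n19039 := rfl
theorem F34145 : act 0 n19039 = n18231 := d4_1 D19039 F34142 (iv D19037)
theorem F34146 : act 1 n19039 = n18240 := d9_1 D19039 F34088 (iv D19023) F24336 D13848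
theorem F34147 : act 3 n19039 = n19037 := d16_1 D19039 (iv F34142) F31899
def n19040 : Q := act 6 n13848
theorem D19040 : act 6 n13848 = n19040 := rfl
def n19041 : Q := act 6 n13849
theorem D19041 : act 6 n13849 = n19041 := rfl
theorem F34148 : act 0 n19041 = n13852 := d5_1 D19041 (iv D13852) (iv F24340)
theorem F34149 : act 2 n19041 = n13850 := d14_1 D19041 (iv D13850) D13849
theorem F34150 : act 3 n19041 = n14583 := d17_1 D19041 (iv D14583) (iv F28943)
theorem F34151 : act 5 n19041 = n19024 := d20_1 D19041 (iv D19024) F24337 D13852 (iv F29232) (iv D14682) (iv F28944)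
def n19042 : Q := act 1 n13850
theorem D19042 : act 1 n13850 = n19042 := rfl
def n19043 : Q := act 1 n13852
theorem D19043 : act 1 n13852 = n19043 := rfl
theorem F34152 : act 3 n19043 = n17340 := d7_2 (iv F29231) D19043 F30412
theorem F34153 : act 6 n19043 = n17338 := d10_2 D13852 D19043 F30409 F22448 (iv F28887)
theorem F34154 : act 0 n18593 = n19043 := d5_3 F34153 F32412 (iv F33264)
def n19044 : Q := act 1 n13853
theorem D19044 : act 1 n13853 = n19044 := rfl
def n19045 : Q := act 0 n13854
theorem D19045 : act 0 n13854 = n19045 := rfl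
theorem F34155 : act 1 n19045 = n13878 := d0_2 D13854 D19045 (iv D13878) (iv D10950) (iv D8197) (iv D3915) (iv F5978) D8192 D10939
def n19046 : Q := act 2 n13854
theorem D19046 : act 2 n13854 = n19046 := rfl
def n19047 : Q := act 5 n13854
theorem D19047 : act 5 n13854 = n19047 := rfl
def n19048 : Q := act 6 n13854
theorem D19048 : act 6 n13854 = n19048 := rfl
def n19049 : Q := act 1 n13855
theorem D19049 : act 1 n13855 = n19049 := rfl
def n19050 : Q := act 3 n13855
theorem D19050 : act 3 n13855 = n19050 := rfl
theorem F34156 : act 0 n19050 = n13857 := d2_1 D19050 (iv D13857) (iv F24346)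
def n19051 : Q := act 5 n13855
theorem D19051 : act 5 n13855 = n19051 := rfl
theorem F34157 : act 0 n19051 = n13858 := d4_1 D19051 (iv D13858) (iv F24346)
theorem F34158 : act 2 n19051 = n13856 := d13_1 D19051 (iv D13856) D13855
theorem F34159 : act 6 n19051 = n19032 := d22_1 D19051 (iv D19032) F24339 (iv F24346)
theorem E9439 : n19049 = n18342 := (c24_3 (iv F34159) (iv D19051) D19049 (iv D18342) D18341 F32409 (iv F30193) (iv D17206) (iv F25805) (iv D14848) D14847 F25803 D15479 F26879 (iv F34102))
theorem F34160 : act 1 n18342 = n13855 := (sb E9439 (iv D19049))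
theorem E9440 : n19030 = n18322 := (c10_3 D18342 F34160 (iv F34096) (iv D18322) F23558 D13398)
theorem F34161 : act 0 n18322 = n13845 := (sb E9440 F34095)
theorem F34162 : act 2 n18322 = n13844 := (sb E9440 (iv D19030))
theorem F34163 : act 6 n18322 = n13855 := (sb E9440 F34096)
theorem F34164 : act 1 n19051 = n15331 := d24_2 F34163 D19051 (iv D15331) (iv F28924) (iv D13501) (iv F19127) (iv D10776) D10775 F19125 D10779 F19129 D13403 F23574 D18322
theorem F34165 : act 0 n19021 = n15763 := d0_3 D18322 F34161 (iv F34083) F32115 (iv D18312) (iv D13383) F18989 D10691 D13388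
theorem F34166 : act 2 n15763 = n19020 := d1_2 D19021 F34165 (iv D19020)
theorem F34167 : act 3 n15751 = n19021 := d2_0 F34165 (iv D15763) (iv F27279)
theorem E9441 : n18460 = n11848 := (c21_3 (iv D19021) (iv F31891) (iv F34115) (iv D11848) F14582 D9893 D11947 D15763 (iv F34165))
theorem E9442 : n13476 = n9757 := (((F20944).symm.trans (sb E9441 (iv D18460)))).symm
theorem E9443 : n18224 = n15561 := (((D15561).symm.trans (sb E9441 F34115))).symm
theorem E9444 : n19021 = n15563 := (((D15563).symm.trans (sb E9441 (iv F34109)))).symm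
theorem E9445 : n11835 = n10739 := (((iv F20921)).symm.trans (sb E9442 (iv D13476)))
theorem E9446 : n13464 = n11857 := (((D11857).symm.trans (sb E9442 F34107))).symm
theorem E9447 : n18457 = n4725 := ((((iv D9757)).symm.trans (sb E9442 (iv F32428)))).symm
theorem E9448 : n18356 = n11854 := ((((iv F20956)).symm.trans (sb E9442 (iv F32191)))).symm
theorem E9450 : n13477 = n11464 := ((((iv F20277)).symm.trans (sb E9442 F34108))).symm
theorem F34168 : act 1 n15561 = n13334 := (sb E9443 (iv D18224))
theorem F34169 : act 3 n15561 = n13839 := (sb E9443 F31891)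
theorem F34170 : act 6 n15561 = n13839 := (sb E9443 F31892)
theorem F34171 : act 0 n15563 = n15763 := (sb E9444 F34165)
theorem F34172 : act 1 n15563 = n13845 := (sb E9444 F34083)
theorem F34173 : act 2 n15563 = n13839 := (sb E9444 (iv D19021))
theorem E9451 : n15751 = n11850 := (((F27028).symm.trans (sb E9444 (iv F34167)))).symm
theorem F34174 : act 0 n10739 = n9757 := (sb E9445 F20921)
theorem E9452 : n15531 = n7736 := ((((iv D10739)).symm.trans (sb E9445 (iv F26972)))).symm
theorem E9453 : n13472 = n9741 := (((iv F23704)).symm.trans (sb E9445 (iv D11835)))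
theorem E9454 : n13411 = n11771 := (((iv F23588)).symm.trans (sb E9445 F20922))
theorem E9455 : n13478 = n11987 := ((D13478).symm.trans (sb E9445 F32954))
theorem E9456 : n15577 = n10733 := ((D15577).symm.trans (sb E9446 (iv D13464)))
theorem E9457 : n18449 = n10337 := (((F20963).symm.trans (sb E9446 (iv F32396)))).symm
theorem E9458 : n18353 = n14832 := ((((iv F25784)).symm.trans (sb E9446 (iv F32182)))).symm
theorem E9459 : n18452 = n10355 := ((((iv F20965)).symm.trans (sb E9446 D18452))).symm
theorem F34175 : act 6 n11857 = n10739 := (sb E9446 F23686)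
theorem E9460 : n18463 = n9181 := ((((iv F13743)).symm.trans (sb E9447 (iv F34110)))).symm
theorem E9461 : n18357 = n14881 := ((((iv F25859)).symm.trans (sb E9448 (iv F34111)))).symm
theorem E9462 : n14876 = n10940 := (((iv F25848)).symm.trans (sb E9450 F23709))
theorem F34176 : act 2 n11464 = n10739 := (sb E9450 (iv D13477))
theorem E9464 : n15552 = n11947 := (((iv F27012)).symm.trans (sb E9451 F27279))
theorem E9465 : n11942 = n9895 := (((F20947).symm.trans (sb E9451 (iv D15751)))).symm
theorem E9466 : n18545 = n9754 := (((F20948).symm.trans (sb E9451 (iv F33178)))).symm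
theorem E9467 : n11832 = n10737 := ((((iv F19080)).symm.trans (sb E9452 (iv D15531)))).symm
theorem E9468 : n15410 = n10704 := ((((iv F19015)).symm.trans (sb E9452 F26973))).symm
theorem F34177 : act 3 n9741 = n10739 := (sb E9453 F23704)
theorem E9471 : n18459 = n9915 := (((F32922).symm.trans (sb E9453 D18459))).symm
theorem F34178 : act 4 n11771 = n10739 := (sb E9454 F23588)
theorem E9473 : n18358 = n15416 := (((D15416).symm.trans (sb E9454 D18358))).symm
theorem E9474 : n15822 = n13508 := (((iv F27360)).symm.trans (sb E9455 (iv F23754)))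
theorem F34179 : act 5 n11987 = n10739 := (sb E9455 (iv D13478))
theorem F34180 : act 1 n10733 = n11857 := (sb E9456 (iv D15577))
theorem E9475 : n13461 = n12840 := (((iv F23682)).symm.trans (sb E9456 F27051))
theorem E9476 : n17373 = n5760 := (((F18230).symm.trans (sb E9457 F32397))).symm
theorem F34181 : act 1 n14832 = n13407 := (sb E9458 (iv D18353))
theorem E9477 : n17366 = n12873 := ((((iv F22536)).symm.trans (sb E9459 F32415))).symm
theorem E9478 : n13857 = n11460 := ((((iv F20271)).symm.trans (sb E9460 F32433))).symm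
theorem F34182 : act 1 n14881 = n13668 := (sb E9461 F32192)
theorem F34183 : act 1 n10940 = n11464 := (sb E9462 F25848)
theorem F34184 : act 0 n11947 = n11850 := (sb E9464 F27012)
theorem E9479 : n11944 = n9893 := ((((iv D11947)).symm.trans (sb E9464 F27013))).symm
theorem E9480 : n13535 = n11844 := (((iv F32084)).symm.trans (sb E9464 F27014))
theorem E9481 : n15764 = n15565 := ((D15764).symm.trans (sb E9464 (iv F27033)))
theorem E9482 : n15765 = n11842 := ((D15765).symm.trans (sb E9464 (iv D15552)))
theorem E9483 : n15744 = n11169 := ((((iv F19792)).symm.trans (sb E9465 (iv F27271)))).symm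
theorem E9484 : n11949 = n9890 := (((iv F21095)).symm.trans (sb E9465 (iv D11942)))
theorem E9485 : n15725 = n4904 := (((F17587).symm.trans (sb E9465 (iv F27239)))).symm
theorem E9487 : n15753 = n4902 := ((((iv D9895)).symm.trans (sb E9465 D15753))).symm
theorem E9488 : n13568 = n11847 := ((((iv F20943)).symm.trans (sb E9466 F33177))).symm
theorem E9489 : n15528 = n7740 := (((F19079).symm.trans (sb E9467 (iv F26967)))).symm
theorem F34185 : act 1 n10737 = n9741 := (sb E9467 F20918)
theorem E9490 : n13468 = n12024 := (((iv F23697)).symm.trans (sb E9467 (iv F32977)))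
theorem E9491 : n13470 = n9740 := (((iv F23702)).symm.trans (sb E9467 (iv D11832)))
theorem E9492 : n15532 = n10747 := ((((iv F19091)).symm.trans (sb E9467 D15532))).symm
theorem F34186 : act 1 n10704 = n11771 := (sb E9468 F26771)
theorem E9494 : n13409 = n11768 := (((iv F23586)).symm.trans (sb E9468 (iv D15410)))
theorem E9495 : n18487 = n11973 := ((((iv F21128)).symm.trans (sb E9471 (iv F33076)))).symm
theorem F34187 : act 1 n15416 = n18374 := (sb E9473 (iv F32230))
theorem F34188 : act 1 n13508 = n11987 := (sb E9474 F27360)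
theorem E9496 : n17375 = n17300 := (((iv F30459)).symm.trans (sb E9475 (iv F30340)))
theorem F34189 : act 3 n12840 = n10733 := (sb E9475 F23682)
theorem E9497 : n17300 = n10336 := ((((iv D12840)).symm.trans (sb E9475 (iv F30343)))).symm
theorem E9498 : n17378 = n12800 := ((D17378).symm.trans (sb E9475 (iv F29261)))
theorem E9499 : n17379 = n10731 := ((D17379).symm.trans (sb E9475 (iv D13461)))
theorem E9500 : n12837 = n10351 := ((((iv F18257)).symm.trans (sb E9476 (iv D17373)))).symm
theorem E9501 : n17430 = n17365 := (((iv F30551)).symm.trans (sb E9477 F30446))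
theorem E9502 : n17445 = n12832 := ((D17445).symm.trans (sb E9477 (iv D17366)))
theorem E9503 : n17446 = n17351 := ((D17446).symm.trans (sb E9477 F30448))
theorem E9504 : n19050 = n14869 := ((((iv F25839)).symm.trans (sb E9478 (iv F34156)))).symm
theorem F34190 : act 3 n11460 = n10940 := (sb E9478 (iv D13857))
theorem E9505 : n19031 = n14878 := (((D14878).symm.trans (sb E9478 (iv F34097)))).symm
theorem F34191 : act 0 n9893 = n9895 := (sb E9479 F21092)
theorem E9506 : n15755 = n4905 := (((F17585).symm.trans (sb E9479 D15755))).symm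
theorem E9507 : n11932 = n9892 := (((iv F21076)).symm.trans (sb E9479 F21093))
theorem E9508 : n11951 = n11948 := (((D11948).symm.trans (sb E9479 (iv F21099)))).symm
theorem E9509 : n15554 = n10766 := ((D15554).symm.trans (sb E9480 (iv D13535)))
theorem E9510 : n15549 = n10780 := (((iv F27007)).symm.trans (sb E9480 F23788))
theorem F34192 : act 4 n11844 = n11947 := (sb E9480 F32084)
theorem E9511 : n18546 = n11852 := ((((iv F20951)).symm.trans (sb E9480 D18546))).symm
theorem F34193 : act 5 n15565 = n11947 := (sb E9481 (iv D15764))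
theorem F34194 : act 6 n11842 = n11947 := (sb E9482 (iv D15765))
theorem E9513 : n14289 = n11939 := (((iv F24947)).symm.trans (sb E9483 (iv D15744)))
theorem F34195 : act 3 n9890 = n9895 := (sb E9484 F21095)
theorem E9514 : n15732 = n4901 := ((((iv D9890)).symm.trans (sb E9484 (iv F27253)))).symm
theorem E9515 : n15768 = n11943 := (((D11943).symm.trans (sb E9484 D15768))).symm
theorem F34196 : act 6 n9890 = n9893 := (sb E9484 (iv D11949))
theorem E9516 : n11929 = n9887 := ((((iv F17578)).symm.trans (sb E9485 (iv D15725)))).symm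
theorem E9517 : n15767 = n9894 := (((D9894).symm.trans (sb E9487 (iv F27293)))).symm
theorem E9518 : n18339 = n14875 := ((((iv F25846)).symm.trans (sb E9488 (iv F32166)))).symm
theorem E9519 : n18418 = n15557 := ((((iv F27018)).symm.trans (sb E9488 (iv F32331)))).symm
theorem E9520 : n18594 = n15560 := (((D15560).symm.trans (sb E9488 D18594))).symm
theorem E9521 : n18595 = n9751 := ((((iv D11847)).symm.trans (sb E9488 D18595))).symm
theorem E9522 : n15911 = n10743 := ((((iv F19085)).symm.trans (sb E9489 (iv F33003)))).symm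
theorem E9523 : n11831 = n10745 := ((((iv F19087)).symm.trans (sb E9489 (iv D15528)))).symm
theorem E9524 : n18455 = n9938 := ((((iv D12024)).symm.trans (sb E9490 D18455))).symm
theorem F34197 : act 2 n12024 = n10737 := (sb E9490 F23697)
theorem E9525 : n15910 = n13295 := (((iv F27504)).symm.trans (sb E9490 F23698))
theorem E9526 : n18454 = n11824 := (((F32978).symm.trans (sb E9490 (iv F32424)))).symm
theorem E9527 : n15906 = n13486 := (((iv F27494)).symm.trans (sb E9490 (iv F23724)))
theorem E9528 : n15912 = n10734 := ((D15912).symm.trans (sb E9490 (iv D13468)))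
theorem E9529 : n15355 = n9648 := (((F14558).symm.trans (sb E9491 F28847))).symm
theorem F34198 : act 4 n9740 = n10737 := (sb E9491 F23702)
theorem E9530 : n13490 = n11833 := (((D11833).symm.trans (sb E9491 (iv F23731)))).symm
theorem E9531 : n11834 = n10735 := ((D11834).symm.trans (sb E9491 (iv D13470)))
theorem E9532 : n15823 = n13496 := (((D13496).symm.trans (sb E9492 (iv F32956)))).symm
theorem E9533 : n15407 = n10706 := (((iv F26768)).symm.trans (sb E9494 F23585))
theorem E9534 : n15927 = n15298 := ((((iv F26643)).symm.trans (sb E9494 (iv F27530)))).symm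
theorem F34199 : act 3 n11768 = n10704 := (sb E9494 F23586)
theorem E9535 : n15411 = n13413 := ((D15411).symm.trans (sb E9494 (iv F23592)))
theorem E9536 : n15412 = n10702 := ((D15412).symm.trans (sb E9494 (iv D13409)))
theorem F34200 : act 3 n11973 = n13508 := (sb E9495 F33077)
theorem E9537 : n17375 = n10336 := (E9496).trans E9497
theorem E9538 : n12840 = n12839 := (((D12839).symm.trans (sb E9537 F30459))).symm
theorem E9539 : n13337 = n11438 := ((((iv F20236)).symm.trans (sb E9497 F30342))).symm
theorem E9540 : n17299 = n12841 := (((D12841).symm.trans (sb E9497 F30344))).symm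
theorem E9541 : n12842 = n12799 := ((D12842).symm.trans (sb E9497 (iv D17300)))
theorem E9542 : n12874 = n10333 := (((F22397).symm.trans (sb E9498 F30465))).symm
theorem E9543 : n17376 = n12800 := ((D17376).symm.trans (iv (sb E9498 (tr (iv D17378) E9538))))
theorem E9544 : n17377 = n10731 := ((D17377).symm.trans (iv (sb E9499 (tr (iv D17379) E9538))))
theorem E9545 : n12866 = n12836 := (((iv F22526)).symm.trans (sb E9500 F22467))
theorem E9546 : n10422 = n6025 := (((F32917).symm.trans (sb E9500 F22468))).symm
theorem E9547 : n17371 = n5758 := ((((iv D10351)).symm.trans (sb E9500 (iv F30457)))).symm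
theorem E9548 : n12875 = n12827 := ((D12875).symm.trans (sb E9500 F22469))
theorem F34201 : act 0 n17365 = n12873 := (sb E9501 F30551)
theorem F34202 : act 2 n17365 = n17435 := (sb E9501 F32970)
theorem F34203 : act 5 n12832 = n12873 := (sb E9502 (iv D17445))
theorem F34204 : act 6 n17351 = n12873 := (sb E9503 (iv D17446))
theorem F34205 : act 3 n14869 = n13855 := (sb E9504 (iv D19050))
theorem F34206 : act 3 n14878 = n13845 := (sb E9505 (iv D19031))
theorem F34207 : act 5 n14878 = n15475 := (sb E9505 F34117)
theorem E9549 : n11946 = n9888 := ((((iv F17580)).symm.trans (sb E9506 F27285))).symm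
theorem E9550 : n11931 = n9885 := (((iv F21074)).symm.trans (sb E9507 (iv D11932)))
theorem F34208 : act 4 n9892 = n9893 := (sb E9507 F21076)
theorem E9551 : n15731 = n9897 := ((((iv F17589)).symm.trans (sb E9507 D15731))).symm
theorem F34209 : act 0 n11948 = n11952 := (sb E9508 (iv F21100))
theorem E9552 : n15772 = n15766 := (((D15766).symm.trans (sb E9508 D15772))).symm
theorem F34210 : act 2 n11948 = n15565 := (sb E9508 (iv F27031))
theorem F34211 : act 1 n10766 = n11844 := (sb E9509 (iv D15554))
theorem F34212 : act 0 n10780 = n11847 := (sb E9510 F27005)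
theorem F34213 : act 2 n10780 = n11847 := (sb E9510 F27006)
theorem F34214 : act 3 n10780 = n11844 := (sb E9510 F27007)
theorem E9553 : n15559 = n13570 := (((D13570).symm.trans (sb E9510 (iv F27022)))).symm
theorem E9554 : n13571 = n11841 := ((D13571).symm.trans (sb E9510 (iv D15549)))
theorem E9555 : n15570 = n15505 := ((D15570).symm.trans (sb E9511 (iv F33255)))
theorem E9556 : n15737 = n13498 := (((iv F27263)).symm.trans (sb E9513 F32110))
theorem E9557 : n15741 = n13497 := (((iv F27268)).symm.trans (sb E9513 (iv F32111)))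
theorem F34215 : act 3 n11939 = n11169 := (sb E9513 F24947)
theorem E9558 : n15787 = n9889 := ((((iv D11939)).symm.trans (sb E9513 (iv F27317)))).symm
theorem E9559 : n18550 = n15745 := (((D15745).symm.trans (sb E9513 (iv F33189)))).symm
theorem E9560 : n15746 = n11167 := ((D15746).symm.trans (sb E9513 (iv D14289)))
theorem E9561 : n11934 = n9884 := ((((iv F17572)).symm.trans (sb E9514 F27252))).symm
theorem F34216 : act 3 n11943 = n11952 := (sb E9515 F27295)
theorem E9564 : n15727 = n4899 := ((((iv D9887)).symm.trans (sb E9516 D15727))).symm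
theorem F34217 : act 6 n9894 = n11948 := (sb E9517 (iv D15767))
theorem F34218 : act 0 n14875 = n13398 := (sb E9518 (iv D18339))
theorem F34219 : act 2 n14875 = n13572 := (sb E9518 (iv F32167))
theorem F34220 : act 0 n15557 = n13442 := (sb E9519 (iv D18418))
theorem F34221 : act 2 n15557 = n13442 := (sb E9519 F32332)
theorem E9565 : n18598 = n15548 := (((F27026).symm.trans (sb E9520 (iv F33275)))).symm
theorem E9566 : n18597 = n11846 := (((D11846).symm.trans (sb E9521 (iv F33272)))).symm
theorem F34222 : act 0 n10743 = n12024 := (sb E9522 (iv D15911))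
theorem E9567 : n15515 = n13484 := ((((iv F23722)).symm.trans (sb E9522 (iv F32996)))).symm
theorem F34223 : act 0 n10745 = n9740 := (sb E9523 (iv D11831))
theorem E9568 : n15527 = n13491 := (((D13491).symm.trans (sb E9523 D15527))).symm
theorem E9569 : n13381 = n11767 := (((iv F23549)).symm.trans (sb E9523 F20917))
theorem E9570 : n15529 = n11791 := ((((iv F28865)).symm.trans (sb E9523 D15529))).symm
theorem E9572 : n18164 = n12023 := ((((iv F21224)).symm.trans (sb E9524 F32425))).symm
theorem F34224 : act 3 n13295 = n12024 := (sb E9525 F27504)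
theorem E9573 : n18472 = n15518 := (((D15518).symm.trans (sb E9526 (iv F32454)))).symm
theorem E9574 : n15519 = n13466 := ((D15519).symm.trans (sb E9526 (iv D18454)))
theorem E9575 : n18474 = n12020 := ((D18474).symm.trans (sb E9527 (iv D15906)))
theorem F34225 : act 5 n13486 = n12024 := (sb E9527 F27494)
theorem F34226 : act 6 n10734 = n12024 := (sb E9528 (iv D15912))
theorem E9576 : n13289 = n11711 := ((((iv F20729)).symm.trans (sb E9529 F29260))).symm
theorem E9577 : n15351 = n11769 := (((D11769).symm.trans (sb E9529 F26710))).symm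
theorem E9578 : n11770 = n11740 := ((D11770).symm.trans (sb E9529 (iv D15355)))
theorem E9579 : n18479 = n15534 := (((D15534).symm.trans (sb E9530 D18479))).symm
theorem F34227 : act 4 n11833 = n10747 := (sb E9530 F23730)
theorem E9580 : n15535 = n10744 := ((D15535).symm.trans (sb E9530 (iv D13490)))
theorem F34228 : act 6 n10735 = n9740 := (sb E9531 (iv D11834))
theorem E9582 : n18486 = n11974 := ((D18486).symm.trans (sb E9532 F27361))
theorem F34229 : act 5 n13496 = n11973 := (sb E9532 (iv D15823))
theorem F34230 : act 0 n10706 = n11768 := (sb E9533 F26768)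
theorem F34231 : act 0 n15298 = n12040 := (sb E9534 F27529)
theorem F34232 : act 3 n15298 = n12035 := (sb E9534 F27531)
theorem F34233 : act 5 n15298 = n15939 := (sb E9534 (iv F27556))
theorem F34234 : act 6 n15298 = n12033 := (sb E9534 (iv D15927))
theorem F34235 : act 5 n13413 = n11768 := (sb E9535 (iv D15411))
theorem F34236 : act 6 n10702 = n11768 := (sb E9536 (iv D15412))
theorem E9583 : n17374 = n10337 := ((D17374).symm.trans (sb E9538 F22473))
theorem E9584 : n14828 = n10733 := (((iv F25778)).symm.trans (sb E9538 F34189))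
theorem F34237 : act 4 n12839 = n10336 := (sb E9538 (iv D12840))
theorem E9586 : n14788 = n10665 := (((iv F25732)).symm.trans (sb E9539 F23489))
theorem E9587 : n18177 = n14829 := (((D14829).symm.trans (sb E9539 (iv F31786)))).symm
theorem E9588 : n14830 = n13463 := ((D14830).symm.trans (sb E9539 (iv F23685)))
theorem E9589 : n14831 = n10663 := ((D14831).symm.trans (sb E9539 (iv D13337)))
theorem E9590 : n12835 = n10352 := (((F22475).symm.trans (sb E9540 F30336))).symm
theorem F34238 : act 4 n12841 = n12800 := (sb E9540 F30339)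
theorem E9591 : n17380 = n12797 := ((D17380).symm.trans (sb E9540 (iv D17299)))
theorem F34239 : act 6 n12799 = n10336 := (sb E9541 (iv D12842))
theorem E9594 : n10453 = n6003 := (((F18224).symm.trans (sb E9542 F32951))).symm
theorem F34240 : act 5 n10333 = n10351 := (sb E9542 (iv D12874))
theorem F34241 : act 0 n12800 = n12841 := (sb E9543 F30461)
theorem F34242 : act 5 n12800 = n12839 := (sb E9543 (iv D17376))
theorem F34243 : act 6 n10731 = n12839 := (sb E9544 (iv D17377))
theorem F34244 : act 0 n12836 = n10351 := (sb E9545 F22526)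
theorem E9596 : n17423 = n17372 := (((D17372).symm.trans (sb E9545 (iv F30544)))).symm
theorem E9597 : n10451 = n10421 := (((F22465).symm.trans (sb E9545 F32950))).symm
theorem E9598 : n17370 = n10349 := (((iv F30453)).symm.trans (sb E9545 (iv D12866)))
theorem E9600 : n12969 = n2915 := ((((iv D6025)).symm.trans (sb E9546 D12969))).symm
theorem E9601 : n12941 = n2919 := (((F9148).symm.trans (sb E9546 (iv F22706)))).symm
theorem E9602 : n10454 = n10415 := ((D10454).symm.trans (sb E9546 F18433))
theorem E9603 : n17354 = n10353 := (((D10353).symm.trans (sb E9547 F30458))).symm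
theorem E9604 : n17356 = n15581 := ((D17356).symm.trans (sb E9548 (iv F27056)))
theorem F34245 : act 6 n12827 = n10351 := (sb E9548 (iv D12875))
theorem F34246 : act 1 n9888 = n9892 := (sb E9549 (iv D11946))
theorem E9609 : n15761 = n11162 := ((((iv F19786)).symm.trans (sb E9549 D15761))).symm
theorem F34247 : act 0 n9885 = n9887 := (sb E9550 F21072)
theorem F34248 : act 3 n9885 = n9892 := (sb E9550 F21074)
theorem E9611 : n11935 = n11933 := (((D11933).symm.trans (sb E9550 (iv F21083)))).symm
theorem F34249 : act 4 n9897 = n11948 := (sb E9551 F27251)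
theorem F34250 : act 4 n15766 = n11956 := (sb E9552 F27302)
theorem F34251 : act 0 n13570 = n15560 := (sb E9553 (iv F27023))
theorem F34252 : act 2 n13570 = n15560 := (sb E9553 (iv F27024))
theorem F34253 : act 3 n13570 = n11852 := (sb E9553 F27021)
theorem E9612 : n18507 = n11756 := ((((iv F20933)).symm.trans (sb E9554 (iv F33103)))).symm
theorem E9613 : n18420 = n15547 := (((D15547).symm.trans (sb E9554 (iv F32334)))).symm
theorem F34254 : act 6 n11841 = n10780 := (sb E9554 (iv D13571))
theorem F34255 : act 1 n15505 = n11852 := (sb E9555 (iv D15570))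
theorem F34256 : act 0 n13498 = n11939 := (sb E9556 F27263)
theorem E9614 : n18481 = n11937 := (((iv F33064)).symm.trans (sb E9556 (iv D15737)))
theorem F34257 : act 2 n13497 = n11939 := (sb E9557 F27268)
theorem E9615 : n18480 = n11938 := (((iv F33060)).symm.trans (sb E9557 (iv D15741)))
theorem E9616 : n12027 = n11928 := ((((iv F21066)).symm.trans (sb E9558 F27316))).symm
theorem E9617 : n11958 = n11941 := (((D11941).symm.trans (sb E9558 (iv D15787)))).symm
theorem F34258 : act 0 n15745 = n18489 := (sb E9559 F33186)
theorem F34259 : act 2 n15745 = n13541 := (sb E9559 F33187)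
theorem F34260 : act 3 n15745 = n14292 := (sb E9559 F33188)
theorem F34261 : act 6 n15745 = n13539 := (sb E9559 (iv D18550))
theorem F34262 : act 6 n11167 = n11939 := (sb E9560 (iv D15746))
theorem F34263 : act 4 n9884 = n9887 := (sb E9561 F21080)
theorem E9618 : n15734 = n11930 := (((D11930).symm.trans (sb E9561 D15734))).symm
theorem F34264 : act 6 n9884 = n9885 := (sb E9561 (iv D11934))
theorem E9619 : n15733 = n9886 := (((D9886).symm.trans (sb E9564 (iv F27256)))).symm
theorem F34265 : act 1 n15548 = n19024 := (sb E9565 F34092)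
theorem F34266 : act 6 n11846 = n13570 := (sb E9566 (iv D18597))
theorem F34267 : act 0 n13484 = n11824 := (sb E9567 (iv D15515))
theorem E9620 : n18308 = n15406 := (((iv F32064)).symm.trans (sb E9568 F26966))
theorem E9621 : n15937 = n15297 := ((((iv F26641)).symm.trans (sb E9569 (iv F27548)))).symm
theorem F34268 : act 3 n11767 = n10745 := (sb E9569 F23549)
theorem F34269 : act 4 n11767 = n10706 := (sb E9569 F23550)
theorem E9622 : n15408 = n11741 := ((D15408).symm.trans (sb E9569 F28843))
theorem E9623 : n15409 = n10686 := ((D15409).symm.trans (sb E9569 (iv D13381)))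
theorem F34270 : act 0 n11791 = n11833 := (sb E9570 F26968)
theorem F34271 : act 1 n12023 = n13295 := (sb E9572 (iv D18164))
theorem F34272 : act 0 n15518 = n15440 := (sb E9573 F32451)
theorem F34273 : act 4 n15518 = n13486 := (sb E9573 F32453)
theorem F34274 : act 6 n15518 = n13483 := (sb E9573 (iv D18472))
theorem F34275 : act 6 n13466 = n11824 := (sb E9574 (iv D15519))
theorem F34276 : act 1 n12020 = n13486 := (sb E9575 (iv D18474))
theorem E9624 : n18477 = n15907 := (((D15907).symm.trans (sb E9575 F32991))).symm
theorem E9625 : n18157 = n9595 := ((((iv D11711)).symm.trans (sb E9576 D18157))).symm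
theorem E9626 : n16539 = n12633 := ((((iv F22178)).symm.trans (sb E9576 (iv F28716)))).symm
theorem E9627 : n18158 = n15299 := (((D15299).symm.trans (sb E9576 D18158))).symm
theorem E9628 : n15300 = n10636 := ((D15300).symm.trans (sb E9576 (iv D13289)))
theorem F34277 : act 4 n11769 = n13413 := (sb E9577 F29255)
theorem E9629 : n15414 = n11738 := ((D15414).symm.trans (sb E9577 (iv D15351)))
theorem F34278 : act 6 n11740 = n9648 := (sb E9578 (iv D11770))
theorem F34279 : act 4 n15534 = n13496 := (sb E9579 F33059)
theorem F34280 : act 6 n10744 = n11833 := (sb E9580 (iv D15535))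
theorem F34281 : act 2 n11974 = n13496 := (sb E9582 (iv D18486))
theorem F34282 : act 1 n10337 = n12839 := (sb E9583 (iv D17374))
theorem F34283 : act 0 n10733 = n11438 := (sb E9584 (iv D14828))
theorem F34284 : act 3 n10733 = n12839 := (sb E9584 F25778)
theorem E9631 : n13340 = n11418 := ((D13340).symm.trans (sb E9586 (iv D14788)))
theorem F34285 : act 2 n10665 = n11438 := (sb E9586 F25732)
theorem F34286 : act 0 n14829 = n13407 := (sb E9587 F31783)
theorem F34287 : act 2 n14829 = n13304 := (sb E9587 F31784)
theorem F34288 : act 3 n14829 = n13407 := (sb E9587 F31785)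
theorem F34289 : act 5 n14829 = n18352 := (sb E9587 (iv F32181))
theorem F34290 : act 6 n14829 = n13301 := (sb E9587 (iv D18177))
theorem E9632 : n17369 = n12871 := (((iv F30450)).symm.trans (sb E9588 F25780))
theorem F34291 : act 3 n13463 = n12841 := (sb E9588 F25781)
theorem F34292 : act 5 n13463 = n11438 := (sb E9588 (iv D14830))
theorem F34293 : act 6 n10663 = n11438 := (sb E9589 (iv D14831))
theorem E9633 : n17355 = n12867 := ((((iv F22528)).symm.trans (sb E9590 (iv F30432)))).symm
theorem E9634 : n10407 = n6034 := (((F18259).symm.trans (sb E9590 (iv F32530)))).symm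
theorem F34294 : act 4 n10352 = n10333 := (sb E9590 F22464)
theorem E9635 : n12876 = n10331 := ((D12876).symm.trans (sb E9590 (iv D12835)))
theorem F34295 : act 6 n12797 = n12841 := (sb E9591 (iv D17380))
theorem F34296 : act 5 n6003 = n6025 := (sb E9594 (iv D10453))
theorem E9638 : n18557 = n12864 := ((F33201).symm.trans (sb E9596 (iv D17423)))
theorem F34297 : act 0 n10421 = n6025 := (sb E9597 (iv D10451))
theorem E9639 : n13017 = n12968 := (((D12968).symm.trans (sb E9597 D13017))).symm
theorem E9640 : n12940 = n6032 := (((iv F22703)).symm.trans (sb E9597 F18487))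
theorem E9642 : n18628 = n12865 := (((D12865).symm.trans (sb E9598 (iv F33320)))).symm
theorem F34298 : act 4 n10349 = n12836 := (sb E9598 F30453)
theorem E9643 : n12868 = n12834 := ((D12868).symm.trans (sb E9598 (iv D17370)))
theorem E9647 : n17611 = n6027 := (((D6027).symm.trans (sb E9600 D17611))).symm
theorem E9648 : n12934 = n6035 := (((D6035).symm.trans (sb E9601 F22707))).symm
theorem E9649 : n13025 = n12957 := (((D12957).symm.trans (sb E9602 D13025))).symm
theorem F34299 : act 6 n10415 = n6025 := (sb E9602 (iv D10454))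
theorem F34300 : act 4 n10353 = n12827 := (sb E9603 F30431)
theorem E9651 : n12877 = n12826 := ((D12877).symm.trans (sb E9603 (iv D17354)))
theorem F34301 : act 1 n15581 = n12827 := (sb E9604 (iv D17356))
theorem F34302 : act 3 n15581 = n18584 := (sb E9604 (iv F33235))
theorem F34303 : act 5 n15581 = n18540 := (sb E9604 (iv F33167))
theorem E9652 : n15781 = n14272 := ((((iv F24929)).symm.trans (sb E9609 (iv F27309)))).symm
theorem F34304 : act 0 n11933 = n11936 := (sb E9611 (iv F21084))
theorem E9653 : n15735 = n14273 := ((((iv F24931)).symm.trans (sb E9611 D15735))).symm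
theorem F34305 : act 3 n11933 = n9897 := (sb E9611 F21082)
theorem E9654 : n15389 = n13509 := ((D15389).symm.trans (sb E9612 (iv D18507)))
theorem F34306 : act 6 n15547 = n13442 := (sb E9613 (iv D18420))
theorem F34307 : act 2 n11937 = n13491 := (sb E9614 (iv D18481))
theorem E9655 : n15915 = n15720 := ((((iv F27233)).symm.trans (sb E9614 (iv F33066)))).symm
theorem F34308 : act 4 n11937 = n13498 := (sb E9614 F33064)
theorem E9656 : n15739 = n13522 := ((D15739).symm.trans (sb E9614 F33065))
theorem F34309 : act 0 n11938 = n13491 := (sb E9615 (iv D18480))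
theorem F34310 : act 4 n11938 = n13497 := (sb E9615 F33060)
theorem E9657 : n18531 = n15742 := (((D15742).symm.trans (sb E9615 (iv F33152)))).symm
theorem E9658 : n15743 = n13521 := ((D15743).symm.trans (sb E9615 F33061))
theorem E9659 : n15894 = n15721 := (((D15721).symm.trans (sb E9616 (iv F27473)))).symm
theorem F34311 : act 4 n11928 = n9942 := (sb E9616 F21229)
theorem E9660 : n15917 = n15723 := (((D15723).symm.trans (sb E9616 D15917))).symm
theorem E9661 : n15724 = n9939 := ((D15724).symm.trans (sb E9616 (iv D12027)))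
theorem F34312 : act 1 n11941 = n9899 := (sb E9617 (iv D11958))
theorem F34313 : act 4 n11941 = n11167 := (sb E9617 F21106)
theorem E9662 : n15786 = n15750 := (((D15750).symm.trans (sb E9617 D15786))).symm
theorem F34314 : act 4 n11930 = n11936 := (sb E9618 F27259)
theorem F34315 : act 6 n9886 = n11933 := (sb E9619 (iv D15733))
theorem F34316 : act 3 n15406 = n13491 := (sb E9620 F32064)
theorem F34317 : act 4 n15406 = n13414 := (sb E9620 F32065)
theorem F34318 : act 6 n15406 = n13383 := (sb E9620 F32066)
theorem E9663 : n17001 = n12362 := (((iv F29932)).symm.trans (sb E9621 F27549))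
theorem F34319 : act 4 n15297 = n12040 := (sb E9621 F27550)
theorem F34320 : act 5 n15297 = n15262 := (sb E9621 F29258)
theorem F34321 : act 6 n15297 = n12038 := (sb E9621 (iv D15937))
theorem F34322 : act 0 n11741 = n11769 := (sb E9622 F26769)
theorem F34323 : act 5 n11741 = n11767 := (sb E9622 (iv D15408))
theorem F34324 : act 6 n10686 = n11767 := (sb E9623 (iv D15409))
theorem F34325 : act 1 n15907 = n15873 := (sb E9624 F32457)
theorem E9664 : n15901 = n13487 := ((F27496).symm.trans (sb E9624 (iv D18477)))
theorem E9665 : n15265 = n11713 := (((D11713).symm.trans (sb E9625 F31741))).symm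
theorem E9666 : n13293 = n11652 := ((((iv F20644)).symm.trans (sb E9625 F31740))).symm
theorem E9667 : n17002 = n12347 := ((D17002).symm.trans (sb E9626 F28717))
theorem E9668 : n17003 = n16569 := ((D17003).symm.trans (sb E9626 (iv F28768)))
theorem E9669 : n17004 = n12345 := ((D17004).symm.trans (sb E9626 (iv D16539)))
theorem F34326 : act 0 n15299 = n15262 := (sb E9627 F31742)
theorem F34327 : act 1 n15299 = n15266 := (sb E9627 F31743)
theorem F34328 : act 4 n15299 = n15939 := (sb E9627 F31746)
theorem F34329 : act 6 n15299 = n15259 := (sb E9627 F31747)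
theorem F34330 : act 6 n10636 = n11711 := (sb E9628 (iv D15300))
theorem F34331 : act 6 n11738 = n11769 := (sb E9629 (iv D15414))
theorem E9670 : n18227 = n14781 := ((((iv F25725)).symm.trans (sb E9631 D18227))).symm
theorem F34332 : act 1 n11418 = n10665 := (sb E9631 (iv D13340))
theorem E9671 : n18228 = n9106 := ((((iv D11418)).symm.trans (sb E9631 D18228))).symm
theorem E9672 : n14789 = n10934 := ((D14789).symm.trans (sb E9631 F23494))
theorem E9673 : n18181 = n14790 := (((D14790).symm.trans (sb E9631 (iv F31795)))).symm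
theorem E9674 : n18229 = n14791 := (((D14791).symm.trans (sb E9631 D18229))).symm
theorem E9675 : n14621 = n10667 := (((iv F25525)).symm.trans (sb E9631 F23495))
theorem F34333 : act 1 n12871 = n13463 := (sb E9632 F30450)
theorem E9676 : n17442 = n12833 := ((D17442).symm.trans (sb E9632 (iv D17369)))
theorem E9677 : n12935 = n10462 := (((F22529).symm.trans (sb E9633 (iv F32566)))).symm
theorem F34334 : act 4 n12867 = n12828 := (sb E9633 F30434)
theorem F34335 : act 3 n6034 = n6003 := (sb E9634 F18412)
theorem F34336 : act 4 n6034 = n6003 := (sb E9634 (iv F32565))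
theorem E9678 : n10467 = n5993 := ((D10467).symm.trans (sb E9634 (iv D10407)))
theorem F34337 : act 6 n10331 = n10352 := (sb E9635 (iv D12876))
theorem E9682 : n17420 = n13544 := ((D17420).symm.trans (sb E9638 F33197))
theorem E9683 : n17422 = n13587 := ((D17422).symm.trans (sb E9638 F33198))
theorem F34338 : act 4 n12864 = n17372 := (sb E9638 (iv F33201))
theorem E9684 : n18553 = n17424 := (((D17424).symm.trans (sb E9638 F33199))).symm
theorem E9685 : n17425 = n13542 := ((D17425).symm.trans (sb E9638 (iv D18557)))
theorem E9686 : n17706 = n17606 := (((D17606).symm.trans (sb E9639 D17706))).symm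
theorem E9687 : n17707 = n17607 := (((D17607).symm.trans (sb E9639 D17707))).symm
theorem E9688 : n17549 = n10460 := (((iv F30768)).symm.trans (sb E9639 F22819))
theorem E9690 : n17710 = n17605 := ((((iv F30832)).symm.trans (sb E9639 D17710))).symm
theorem F34339 : act 3 n6032 = n10421 := (sb E9640 F22703)
theorem F34340 : act 4 n6032 = n10421 := (sb E9640 (iv F32629))
theorem E9691 : n10463 = n10406 := ((D10463).symm.trans (sb E9640 (iv D12940)))
theorem E9693 : n17429 = n17368 := ((D17429).symm.trans (sb E9642 F33321))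
theorem F34341 : act 0 n12834 = n10353 := (sb E9643 F22530)
theorem F34342 : act 6 n12834 = n10349 := (sb E9643 (iv D12868))
theorem E9695 : n17585 = n10457 := (((D10457).symm.trans (sb E9647 F30836))).symm
theorem E9696 : n17538 = n10468 := (((D10468).symm.trans (sb E9648 D17538))).symm
theorem F34343 : act 3 n6035 = n10415 := (sb E9648 F22693)
theorem F34344 : act 4 n6035 = n10415 := (sb E9648 (iv F32626))
theorem E9697 : n10469 = n10404 := ((D10469).symm.trans (sb E9648 (iv D12934)))
theorem E9698 : n17723 = n17583 := (((D17583).symm.trans (sb E9649 D17723))).symm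
theorem E9699 : n17724 = n17584 := (((D17584).symm.trans (sb E9649 D17724))).symm
theorem E9700 : n17725 = n17574 := ((((iv F30798)).symm.trans (sb E9649 D17725))).symm
theorem E9703 : n17443 = n17353 := (((D17353).symm.trans (sb E9651 (iv F30570)))).symm
theorem F34345 : act 5 n12826 = n10353 := (sb E9651 (iv D12877))
theorem F34346 : act 6 n12826 = n12867 := (sb E9651 F22545)
theorem F34347 : act 5 n14272 = n11956 := (sb E9652 (iv D15781))
theorem F34348 : act 3 n14273 = n11956 := (sb E9653 F27261)
theorem E9704 : n18505 = n11759 := ((D18505).symm.trans (sb E9654 F26749))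
theorem E9705 : n18488 = n15546 := (((iv F33078)).symm.trans (sb E9654 (iv F26998)))
theorem F34349 : act 6 n13509 = n11756 := (sb E9654 (iv D15389))
theorem F34350 : act 4 n15720 = n12030 := (sb E9655 F27510)
theorem F34351 : act 5 n15720 = n15916 := (sb E9655 (iv F27512))
theorem F34352 : act 6 n15720 = n12025 := (sb E9655 (iv D15915))
theorem F34353 : act 0 n13522 = n11941 := (sb E9656 F27265)
theorem E9706 : n18529 = n15748 := ((D18529).symm.trans (sb E9656 (iv F27275)))
theorem F34354 : act 6 n13522 = n11937 := (sb E9656 (iv D15739))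
theorem F34355 : act 0 n15742 = n18482 := (sb E9657 F33150)
theorem F34356 : act 4 n15742 = n13541 := (sb E9657 F33151)
theorem F34357 : act 6 n15742 = n13523 := (sb E9657 (iv D18531))
theorem F34358 : act 2 n13521 = n11941 := (sb E9658 F27270)
theorem F34359 : act 6 n13521 = n11938 := (sb E9658 (iv D15743))
theorem F34360 : act 4 n15721 = n12021 := (sb E9659 F27474)
theorem F34361 : act 6 n15721 = n12015 := (sb E9659 (iv D15894))
theorem F34362 : act 0 n15723 = n15916 := (sb E9660 F27513)
theorem F34363 : act 4 n15723 = n12032 := (sb E9660 F27514)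
theorem F34364 : act 6 n15723 = n15914 := (sb E9660 F27515)
theorem F34365 : act 3 n9939 = n11941 := (sb E9661 F27237)
theorem F34366 : act 6 n9939 = n11928 := (sb E9661 (iv D15724))
theorem F34367 : act 2 n15750 = n18528 := (sb E9662 (iv F33140))
theorem F34368 : act 3 n15750 = n12026 := (sb E9662 F27313)
theorem F34369 : act 4 n15750 = n14288 := (sb E9662 F27314)
theorem F34370 : act 0 n12362 = n12633 := (sb E9663 (iv D17001))
theorem F34371 : act 3 n12362 = n15297 := (sb E9663 F29932)
theorem E9707 : n18475 = n12021 := ((D18475).symm.trans (sb E9664 F27487))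
theorem E9708 : n18476 = n12030 := ((D18476).symm.trans (sb E9664 F27488))
theorem F34372 : act 5 n13487 = n15907 := (sb E9664 (iv F27496))
theorem E9709 : n14395 = n12018 := (((iv F25149)).symm.trans (sb E9664 (iv D15901)))
theorem E9710 : n15303 = n11681 := ((D15303).symm.trans (sb E9665 (iv D15265)))
theorem E9713 : n15222 = n10639 := ((D15222).symm.trans (sb E9666 (iv D13293)))
theorem E9716 : n18154 = n15223 := (((D15223).symm.trans (sb E9666 (iv F31735)))).symm
theorem E9717 : n18162 = n15224 := (((D15224).symm.trans (sb E9666 D18162))).symm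
theorem E9718 : n16541 = n12634 := ((D16541).symm.trans (sb E9667 F29933))
theorem F34373 : act 4 n12347 = n12633 := (sb E9667 (iv D17002))
theorem F34374 : act 3 n16569 = n15299 := (sb E9668 F29934)
theorem F34375 : act 5 n16569 = n12633 := (sb E9668 (iv D17003))
theorem F34376 : act 6 n12345 = n12633 := (sb E9669 (iv D17004))
theorem E9719 : n14703 = n13844 := ((F25726).symm.trans (sb E9670 F31894))
theorem F34377 : act 5 n14781 = n18239 := (sb E9670 (iv F31916))
theorem F34378 : act 6 n14781 = n13345 := (sb E9670 F31895)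
theorem E9720 : n13346 = n11346 := ((((iv F20135)).symm.trans (sb E9671 F31896))).symm
theorem E9721 : n14700 = n13845 := (((D13845).symm.trans (sb E9672 F25734))).symm
theorem F34379 : act 3 n10934 = n11418 := (sb E9672 (iv D14789))
theorem F34380 : act 1 n14790 = n13304 := (sb E9673 (iv D18181))
theorem F34381 : act 6 n14790 = n13308 := (sb E9673 F31796)
theorem F34382 : act 0 n14791 = n18239 := (sb E9674 (iv F31914))
theorem F34383 : act 3 n14791 = n13846 := (sb E9674 F31897)
theorem F34384 : act 6 n14791 = n18236 := (sb E9674 (iv F31912))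
theorem F34385 : act 6 n10667 = n11418 := (sb E9675 F25525)
theorem F34386 : act 6 n12833 = n12871 := (sb E9676 (iv D17442))
theorem E9722 : n17539 = n13042 := (((D13042).symm.trans (sb E9677 D17539))).symm
theorem F34387 : act 3 n10462 = n10416 := (sb E9677 F22695)
theorem F34388 : act 4 n10462 = n10416 := (sb E9677 (iv F32627))
theorem F34389 : act 6 n5993 = n6034 := (sb E9678 (iv D10467))
theorem F34390 : act 0 n13544 = n12864 := (sb E9682 (iv D17420))
theorem F34391 : act 1 n13587 = n12865 := (sb E9683 F30543)
theorem F34392 : act 3 n13587 = n12864 := (sb E9683 (iv D17422))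
theorem F34393 : act 0 n17424 = n18560 := (sb E9684 (iv F33209))
theorem F34394 : act 3 n17424 = n13583 := (sb E9684 F33193)
theorem F34395 : act 6 n17424 = n13540 := (sb E9684 (iv D18553))
theorem F34396 : act 6 n13542 = n12864 := (sb E9685 (iv D17425))
theorem F34397 : act 1 n17606 = n13034 := (sb E9686 F30973)
theorem F34400 : act 4 n17607 = n13035 := (sb E9687 F32985)
theorem F34401 : act 3 n10460 = n12968 := (sb E9688 F30768)
theorem F34402 : act 4 n10460 = n12968 := (sb E9688 F32641)
theorem F34405 : act 3 n17605 = n13038 := (sb E9690 F30977)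
theorem F34406 : act 4 n17605 = n13038 := (sb E9690 F32987)
theorem F34407 : act 0 n10406 = n6035 := (sb E9691 F18504)
theorem E9724 : n13043 = n12939 := (((D12939).symm.trans (sb E9691 D13043))).symm
theorem F34408 : act 6 n10406 = n6032 := (sb E9691 (iv D10463))
theorem F34409 : act 0 n17368 = n12872 := (sb E9693 F30549)
theorem F34410 : act 6 n17368 = n12865 := (sb E9693 (iv D17429))
theorem F34411 : act 6 n10457 = n12957 := (sb E9695 (iv D17585))
theorem F34412 : act 3 n10468 = n12957 := (sb E9696 F30749)
theorem F34413 : act 4 n10468 = n12957 := (sb E9696 F32637)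
theorem E9725 : n13054 = n12932 := (((D12932).symm.trans (sb E9697 D13054))).symm
theorem F34414 : act 5 n10404 = n6035 := (sb E9697 (iv D10469))
theorem F34415 : act 6 n10404 = n10462 := (sb E9697 F18512)
theorem F34416 : act 3 n17583 = n13051 := (sb E9698 F31001)
theorem F34417 : act 4 n17583 = n13051 := (sb E9698 F32934)
theorem F34418 : act 5 n17583 = n17736 := (sb E9698 (iv F31022))
theorem F34419 : act 6 n17583 = n13029 := (sb E9698 F31002)
theorem F34420 : act 4 n17584 = n13052 := (sb E9699 F32852)
theorem F34421 : act 6 n17584 = n13030 := (sb E9699 F31003)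
theorem F34422 : act 0 n17574 = n17736 := (sb E9700 (iv F31020))
theorem F34423 : act 3 n17574 = n13053 := (sb E9700 F31004)
theorem F34425 : act 6 n17574 = n17733 := (sb E9700 (iv F31017))
theorem F34426 : act 5 n17353 = n12872 := (sb E9703 (iv D17443))
theorem F34427 : act 6 n17353 = n17428 := (sb E9703 F30571)
theorem F34428 : act 2 n11759 = n13509 := (sb E9704 (iv D18505))
theorem F34429 : act 1 n15546 = n13497 := (sb E9705 (iv D18488))
theorem F34430 : act 3 n15546 = n13509 := (sb E9705 F33078)
theorem F34431 : act 2 n15748 = n13523 := (sb E9706 F33144)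
theorem F34432 : act 3 n15748 = n15914 := (sb E9706 F33145)
theorem F34433 : act 4 n15748 = n13539 := (sb E9706 F33146)
theorem F34434 : act 5 n15748 = n13522 := (sb E9706 (iv D18529))
theorem F34435 : act 0 n12021 = n13487 := (sb E9707 (iv D18475))
theorem E9726 : n15923 = n13498 := ((D15923).symm.trans (sb E9708 F32456))
theorem F34436 : act 2 n12030 = n13487 := (sb E9708 (iv D18476))
theorem E9727 : n15898 = n11233 := ((D15898).symm.trans (sb E9709 (iv D14395)))
theorem F34437 : act 6 n12018 = n13487 := (sb E9709 F25149)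
theorem F34438 : act 1 n11681 = n11713 := (sb E9710 (iv D15303))
theorem E9728 : n17007 = n12523 := ((((iv F22009)).symm.trans (sb E9710 (iv F29942)))).symm
theorem F34439 : act 1 n10639 = n11652 := (sb E9713 (iv D15222))
theorem E9729 : n16730 = n13291 := ((((iv F23353)).symm.trans (sb E9713 (iv F29524)))).symm
theorem F34440 : act 1 n15223 = n13284 := (sb E9716 (iv D18154))
theorem F34441 : act 1 n15224 = n18170 := (sb E9717 (iv F31767))
theorem F34442 : act 1 n12634 = n12347 := (sb E9718 (iv D16541))
theorem E9730 : n17005 = n12349 := ((D17005).symm.trans (sb E9718 F28719))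
theorem E9731 : n18322 = n11381 := (((iv F34162)).symm.trans (sb E9719 (iv D14703)))
theorem F34443 : act 3 n13844 = n14781 := (sb E9719 (iv F25726))
theorem E9732 : n18235 = n14620 := ((((iv F25523)).symm.trans (sb E9720 (iv F31909)))).symm
theorem F34444 : act 2 n11346 = n10667 := (sb E9720 (iv D13346))
theorem E9734 : n18188 = n14622 := (((D14622).symm.trans (sb E9720 (iv F31807)))).symm
theorem E9735 : n18238 = n14623 := (((D14623).symm.trans (sb E9720 D18238))).symm
theorem E9736 : n14878 = n11379 := (((iv F34206)).symm.trans (sb E9721 (iv D14700)))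
theorem F34445 : act 3 n13042 = n12958 := (sb E9722 F30750)
theorem F34446 : act 4 n13042 = n12958 := (sb E9722 F32631)
theorem E9743 : n17752 = n17548 := (((D17548).symm.trans (sb E9724 (iv F31035)))).symm
theorem E9746 : n17784 = n17533 := (((D17533).symm.trans (sb E9725 (iv F31070)))).symm
theorem E9747 : n17787 = n17534 := (((D17534).symm.trans (sb E9725 D17787))).symm
theorem F34447 : act 1 n13498 = n12030 := (sb E9726 (iv D15923))
theorem E9748 : n14286 = n14284 := (((F32109).symm.trans (sb E9726 F27521))).symm
theorem F34448 : act 1 n11233 = n12018 := (sb E9727 (iv D15898))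
theorem F34449 : act 1 n12523 = n12635 := (sb E9728 (iv D17007))
theorem F34450 : act 1 n13291 = n12467 := (sb E9729 (iv D16730))
theorem E9749 : n16545 = n12647 := ((D16545).symm.trans (sb E9730 F29936))
theorem F34451 : act 3 n12349 = n12634 := (sb E9730 (iv D17005))
theorem E9750 : n15929 = n15301 := (((iv F27534)).symm.trans (sb E9730 F29937))
theorem F34452 : act 0 n11381 = n13845 := (sb E9731 F34161)
theorem E9751 : n14649 = n13388 := (((iv F25571)).symm.trans (sb E9731 (iv D18322)))
theorem F34453 : act 2 n11381 = n13844 := (sb E9731 F34162)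
theorem E9752 : n14590 = n13855 := (((iv F25490)).symm.trans (sb E9731 F34163))
theorem F34454 : act 2 n14620 = n13345 := (sb E9732 (iv D18235))
theorem F34455 : act 2 n14622 = n13308 := (sb E9734 (iv D18188))
theorem F34456 : act 2 n14623 = n13347 := (sb E9735 F31913)
theorem E9753 : n14699 = n11850 := ((D14699).symm.trans (sb E9736 F25850))
theorem E9754 : n18685 = n9089 := ((((iv D11379)).symm.trans (sb E9736 (iv F33432)))).symm
theorem F34457 : act 3 n11379 = n13845 := (sb E9736 F34206)
theorem E9755 : n14663 = n11462 := (((iv F25599)).symm.trans (sb E9736 F25851))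
theorem E9756 : n15475 = n14701 := (((D14701).symm.trans (sb E9736 F34207))).symm
theorem E9757 : n14589 = n11460 := (((iv F25489)).symm.trans (sb E9736 (iv D14878)))
theorem F34458 : act 1 n17548 = n13038 := (sb E9743 (iv D17752))
theorem F34459 : act 1 n17533 = n13053 := (sb E9746 (iv D17784))
theorem F34460 : act 1 n17534 = n17761 := (sb E9747 F31071)
theorem F34461 : act 1 n14284 = n11166 := (sb E9748 (iv D14286))
theorem F34462 : act 0 n12647 = n12349 := (sb E9749 (iv D16545))
theorem E9758 : n16737 = n16589 := (((iv F29539)).symm.trans (sb E9749 (iv F29305)))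
theorem F34463 : act 1 n15301 = n12035 := (sb E9750 (iv D15929))
theorem F34464 : act 4 n15301 = n12349 := (sb E9750 F27534)
theorem F34465 : act 1 n13388 = n11381 := (sb E9751 F25571)
theorem E9759 : n14637 = n11358 := (((iv F25547)).symm.trans (sb E9751 (iv D14649)))
theorem E9760 : n14869 = n11333 := (((iv F34205)).symm.trans (sb E9752 (iv D14590)))
theorem F34466 : act 6 n13855 = n11381 := (sb E9752 F25490)
theorem F34467 : act 1 n11850 = n11379 := (sb E9753 (iv D14699))
theorem E9761 : n14159 = n11378 := (((D11378).symm.trans (sb E9754 F33431))).symm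
theorem E9762 : n13643 = n11364 := ((((iv F20157)).symm.trans (sb E9754 F33433))).symm
theorem E9763 : n13641 = n11332 := ((((iv F20119)).symm.trans (sb E9754 (iv D18685)))).symm
theorem E9764 : n14871 = n11365 := (((iv F25841)).symm.trans (sb E9755 F25598))
theorem F34468 : act 4 n11462 = n11379 := (sb E9755 F25599)
theorem F34469 : act 1 n14701 = n11801 := (sb E9756 (iv D15475))
theorem F34470 : act 3 n14701 = n19032 := (sb E9756 F34103)
theorem E9765 : n14877 = n14707 := ((D14877).symm.trans (sb E9757 (iv F25653)))
theorem F34471 : act 6 n11460 = n11379 := (sb E9757 F25489)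
theorem F34472 : act 3 n16589 = n12471 := (sb E9758 (iv D16737))
theorem F34473 : act 6 n16589 = n12647 := (sb E9758 F29539)
theorem E9766 : n14647 = n11353 := (((iv F25567)).symm.trans (sb E9759 (iv D14637)))
theorem F34474 : act 3 n11358 = n13388 := (sb E9759 F25547)
theorem E9767 : n14638 = n11357 := (((iv F25551)).symm.trans (sb E9759 F25548))
theorem E9768 : n14651 = n14650 := (((D14650).symm.trans (sb E9759 (iv F25576)))).symm
theorem F34475 : act 0 n11333 = n11460 := (sb E9760 F25839)
theorem E9769 : n18676 = n9062 := ((((iv D11333)).symm.trans (sb E9760 (iv F33418)))).symm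
theorem F34476 : act 3 n11333 = n13855 := (sb E9760 F34205)
theorem E9770 : n14570 = n11458 := (((iv F25459)).symm.trans (sb E9760 (iv D14869)))
theorem E9771 : n14696 = n11169 := ((D14696).symm.trans (sb E9761 F24726))
theorem E9772 : n18510 = n9103 := (((F20175).symm.trans (sb E9761 (iv F33107)))).symm
theorem E9773 : n14662 = n11084 := (((iv F25597)).symm.trans (sb E9761 F24727))
theorem E9774 : n14698 = n11082 := ((D14698).symm.trans (sb E9761 (iv D14159)))
theorem F34477 : act 2 n11364 = n11462 := (sb E9762 F23935)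
theorem E9776 : n18682 = n14473 := ((((iv F25270)).symm.trans (sb E9762 (iv F33427)))).symm
theorem E9777 : n18688 = n14664 := (((D14664).symm.trans (sb E9762 D18688))).symm
theorem E9778 : n14569 = n10819 := (((iv F25457)).symm.trans (sb E9762 (iv D13643)))
theorem E9779 : n14588 = n10821 := ((D14588).symm.trans (sb E9763 F23931))
theorem F34478 : act 2 n11332 = n11460 := (sb E9763 F23932)
theorem F34479 : act 0 n11365 = n11462 := (sb E9764 F25841)
theorem E9782 : n14879 = n14666 := (((D14666).symm.trans (sb E9764 (iv F25852)))).symm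
theorem F34480 : act 1 n14707 = n17416 := (sb E9765 (iv F30534))
theorem F34481 : act 4 n14707 = n11461 := (sb E9765 F25849)
theorem F34482 : act 5 n14707 = n11460 := (sb E9765 (iv D14877))
theorem F34483 : act 0 n11353 = n11358 := (sb E9766 F25567)
theorem E9783 : n14646 = n11365 := ((D14646).symm.trans (sb E9767 F25550))
theorem F34484 : act 2 n11357 = n11353 := (sb E9767 (iv D14638))
theorem F34485 : act 4 n11357 = n11358 := (sb E9767 F25551)
theorem F34486 : act 6 n11357 = n11358 := (sb E9767 F25552)
theorem F34487 : act 0 n14650 = n14639 := (sb E9768 F25573)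
theorem F34488 : act 1 n14650 = n17335 := (sb E9768 (iv F32410))
theorem F34489 : act 3 n14650 = n13403 := (sb E9768 F25574)
theorem F34490 : act 4 n14650 = n14648 := (sb E9768 F25575)
theorem F34491 : act 6 n14650 = n11359 := (sb E9768 (iv D14651))
theorem E9784 : n13639 = n11321 := ((((iv F20095)).symm.trans (sb E9769 (iv D18676)))).symm
theorem E9785 : n14867 = n11333 := ((D14867).symm.trans (sb E9770 F25458))
theorem F34492 : act 4 n11458 = n11333 := (sb E9770 F25459)
theorem F34493 : act 6 n11458 = n11365 := (sb E9770 F25460)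
theorem F34494 : act 2 n11169 = n11378 := (sb E9771 (iv D14696))
theorem E9786 : n13511 = n11411 := (((D11411).symm.trans (sb E9772 (iv D18510)))).symm
theorem E9787 : n13576 = n11413 := (((D11413).symm.trans (sb E9772 F33106))).symm
theorem F34495 : act 1 n11084 = n11364 := (sb E9773 (iv D14662))
theorem F34496 : act 4 n11084 = n11378 := (sb E9773 F25597)
theorem E9788 : n14158 = n14104 := ((D14158).symm.trans (sb E9774 (iv F29198)))
theorem F34497 : act 6 n11082 = n11378 := (sb E9774 (iv D14698))
theorem F34498 : act 1 n14473 = n14156 := (sb E9776 F33426)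
theorem E9790 : n13640 = n11325 := (((F25272).symm.trans (sb E9776 (iv D18682)))).symm
theorem F34499 : act 2 n14664 = n14880 := (sb E9777 F33438)
theorem E9791 : n18677 = n14571 := (((F25603).symm.trans (sb E9777 F33439))).symm
theorem F34500 : act 4 n10819 = n11332 := (sb E9778 F25456)
theorem E9792 : n14668 = n13642 := (((D13642).symm.trans (sb E9778 (iv F25611)))).symm
theorem F34501 : act 6 n10819 = n11364 := (sb E9778 F25457)
theorem F34502 : act 1 n10821 = n11332 := (sb E9779 (iv D14588))
theorem E9793 : n13646 = n11344 := ((D13646).symm.trans (sb E9779 F25487))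
theorem F34503 : act 0 n14666 = n14880 := (sb E9782 (iv F25853))
theorem F34504 : act 6 n14666 = n11461 := (sb E9782 (iv D14879))
theorem F34505 : act 1 n11365 = n11357 := (sb E9783 (iv D14646))
theorem E9794 : n14665 = n13398 := ((D14665).symm.trans (sb E9783 F25566))
theorem F34506 : act 0 n11321 = n10819 := (sb E9784 (iv D13639))
theorem F34507 : act 2 n11321 = n11458 := (sb E9784 F23929)
theorem F34508 : act 1 n11333 = n11458 := (sb E9785 (iv D14867))
theorem E9797 : n18509 = n12765 := ((((iv F26620)).symm.trans (sb E9786 (iv F33104)))).symm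
theorem E9798 : n14770 = n10952 := ((D14770).symm.trans (sb E9786 F23757))
theorem E9799 : n14771 = n10755 := ((D14771).symm.trans (sb E9786 (iv D13511)))
theorem E9800 : n18511 = n14519 := ((((iv F25353)).symm.trans (sb E9786 D18511))).symm
theorem E9801 : n18512 = n14772 := (((D14772).symm.trans (sb E9786 D18512))).symm
theorem E9802 : n14773 = n10783 := ((D14773).symm.trans (sb E9786 F23758))
theorem E9803 : n18602 = n14769 := ((((iv F25716)).symm.trans (sb E9787 (iv F33277)))).symm
theorem E9804 : n14618 = n11087 := (((iv F25522)).symm.trans (sb E9787 F32091))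
theorem F34509 : act 3 n11413 = n11082 := (sb E9787 F32092)
theorem E9805 : n18608 = n14521 := ((((iv F25355)).symm.trans (sb E9787 D18608))).symm
theorem E9806 : n18609 = n14776 := (((D14776).symm.trans (sb E9787 D18609))).symm
theorem F34510 : act 2 n14104 = n11168 := (sb E9788 F24724)
theorem F34511 : act 4 n14104 = n11083 := (sb E9788 F24725)
theorem F34512 : act 5 n14104 = n11082 := (sb E9788 (iv D14158))
theorem E9807 : n14574 = n10820 := ((D14574).symm.trans (sb E9790 F23930))
theorem F34513 : act 3 n11325 = n10819 := (sb E9790 (iv D13640))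
theorem E9809 : n18680 = n14452 := ((((iv F25224)).symm.trans (sb E9790 D18680))).symm
theorem E9810 : n18681 = n14576 := (((D14576).symm.trans (sb E9790 D18681))).symm
theorem F34514 : act 2 n14571 = n14870 := (sb E9791 F33420)
theorem F34515 : act 0 n13642 = n14571 := (sb E9792 F25608)
theorem F34516 : act 4 n13642 = n11384 := (sb E9792 F25610)
theorem F34517 : act 6 n13642 = n11366 := (sb E9792 (iv D14668))
theorem E9811 : n14615 = n13609 := ((D14615).symm.trans (sb E9793 (iv F32093)))
theorem E9812 : n14616 = n14147 := ((D14616).symm.trans (sb E9793 (iv F24711)))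
theorem F34518 : act 3 n11344 = n10821 := (sb E9793 (iv D13646))
theorem E9813 : n18689 = n14463 := ((((iv F25246)).symm.trans (sb E9793 (iv F33442)))).symm
theorem E9814 : n17821 = n14617 := (((D14617).symm.trans (sb E9793 (iv F33012)))).symm
theorem F34519 : act 3 n13398 = n11365 := (sb E9794 (iv D14665))
theorem E9815 : n17235 = n13510 := ((D17235).symm.trans (sb E9797 (iv D18509)))
theorem E9816 : n18612 = n17236 := (((D17236).symm.trans (sb E9797 (iv F33297)))).symm
theorem E9817 : n17237 = n13573 := ((D17237).symm.trans (sb E9797 F33105))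
theorem E9818 : n13883 = n11414 := (((iv F24370)).symm.trans (sb E9798 F26627))
theorem F34520 : act 1 n10952 = n11411 := (sb E9798 (iv D14770))
theorem F34521 : act 3 n10755 = n11411 := (sb E9799 (iv D14771))
theorem F34522 : act 1 n14519 = n13884 := (sb E9800 F33108)
theorem F34523 : act 6 n14519 = n13577 := (sb E9800 F33109)
theorem F34524 : act 3 n14772 = n13512 := (sb E9801 F33110)
theorem F34525 : act 6 n14772 = n18604 := (sb E9801 (iv F33282))
theorem F34526 : act 2 n10783 = n11413 := (sb E9802 F25719)
theorem F34527 : act 6 n10783 = n11411 := (sb E9802 (iv D14773))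
theorem F34528 : act 3 n14769 = n14150 := (sb E9803 F33278)
theorem F34529 : act 1 n11087 = n11413 := (sb E9804 F25522)
theorem F34530 : act 6 n11087 = n11344 := (sb E9804 (iv D14618))
theorem F34531 : act 1 n14521 = n14163 := (sb E9805 F33287)
theorem F34532 : act 2 n14521 = n13577 := (sb E9805 F33288)
theorem F34533 : act 3 n14521 = n14154 := (sb E9805 F33289)
theorem F34534 : act 2 n14776 = n13578 := (sb E9806 F33290)
theorem F34535 : act 1 n10820 = n11325 := (sb E9807 (iv D14574))
theorem F34537 : act 1 n14452 = n13644 := (sb E9809 F33424)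
theorem F34538 : act 3 n14576 = n13642 := (sb E9810 F33425)
theorem F34539 : act 0 n13609 = n11344 := (sb E9811 (iv D14615))
theorem F34540 : act 2 n14147 = n11344 := (sb E9812 (iv D14616))
theorem F34541 : act 0 n14463 = n18653 := (sb E9813 F33440)
theorem F34542 : act 2 n14463 = n14057 := (sb E9813 F33441)
theorem F34543 : act 3 n14463 = n13644 := (sb E9813 (iv D18689))
theorem F34544 : act 6 n14463 = n14163 := (sb E9813 F33443)
theorem F34545 : act 0 n14617 = n18654 := (sb E9814 (iv F33374))
theorem F34546 : act 2 n14617 = n18673 := (sb E9814 (iv F33413))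
theorem F34547 : act 3 n14617 = n13071 := (sb E9814 (iv D17821))
theorem F34548 : act 6 n14617 = n18673 := (sb E9814 (iv F33415))
theorem E9819 : n18508 = n12766 := ((D18508).symm.trans (sb E9815 F30245))
theorem F34549 : act 3 n13510 = n12765 := (sb E9815 (iv D17235))
theorem F34550 : act 3 n17236 = n13580 := (sb E9816 F33296)
theorem F34551 : act 6 n17236 = n13578 := (sb E9816 (iv D18612))
theorem F34552 : act 2 n13573 = n14769 := (sb E9817 F30249)
theorem F34553 : act 6 n13573 = n12765 := (sb E9817 (iv D17237))
theorem F34554 : act 0 n11414 = n10952 := (sb E9818 F24370)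
theorem F34555 : act 2 n11414 = n10952 := (sb E9818 F24372)
theorem E9820 : n14778 = n10951 := ((D14778).symm.trans (sb E9818 (iv D13883)))
theorem E9821 : n14779 = n13966 := ((D14779).symm.trans (sb E9818 (iv F24458)))
theorem E9822 : n14780 = n10985 := ((D14780).symm.trans (sb E9818 F24371))
theorem F34556 : act 1 n12766 = n13510 := (sb E9819 (iv D18508))
theorem E9823 : n13882 = n11415 := ((D13882).symm.trans (sb E9820 F25724))
theorem F34557 : act 3 n10951 = n11414 := (sb E9820 (iv D14778))
theorem F34558 : act 5 n13966 = n11414 := (sb E9821 (iv D14779))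
theorem F34559 : act 6 n10985 = n11414 := (sb E9822 (iv D14780))
theorem F34560 : act 1 n11415 = n10951 := (sb E9823 (iv D13882))
theorem E9824 : n18769 = n14782 := (((D14782).symm.trans (sb E9823 (iv F33597)))).symm
theorem F34561 : act 1 n14782 = n13689 := (sb E9824 (iv D18769))
theorem F34562 : act 1 n18376 = n17239 := d0_4 F34561 F24028 (iv F23607) (iv F32233) F30252 F22363 F18170 (iv F20212) (iv F25727)
theorem F34563 : act 1 n13879 = n14781 := d6_5 (iv D14781) F34560 (iv D10951) D10950 D13879
theorem F34564 : act 1 n13957 = n14620 := d10_5 F25524 F34560 F19451 D10984 D13957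
theorem F34565 : act 3 n14619 = n13957 := d7_0 F34564 (iv D14620) D14619
theorem F34566 : act 6 n13955 = n14619 := d17_0 F34565 (iv D13957) D13955
theorem F34567 : act 2 n14619 = n14056 := d14_1 F34566 (iv D14056) F24442
theorem F34568 : act 3 n19029 = n13879 := d7_0 F34563 (iv F34443) D19029
theorem E9825 : n18252 = n17210 := ((c25_2 (iv F22345) D17210 (iv D18252) F23509 D13879 F34563 (iv F34443) (iv F34453) (iv D11381) (iv D9090) (iv D4393) F3350 F1803 F1000 (iv F876) D892 (iv F2910) D3720 D7769 D10799 D13609 (iv F23925) F32097 F19198 F16515 F16671 (iv D4057) (iv D1941) (iv D952) (iv F1636) F16675 (iv D885) F872 F472 (iv F535) F534 D519 F993 D533 D1057 F16447 F1057 (iv D301) (iv D146) F140 D70 F149 D153 D307 D601 F1119 F16488 D1173 (iv F3725) (iv F7478) D9888 F17581 (iv F19790) (iv D11167) (iv F19621) (iv F34509) (iv F34526) F19133 (iv D7769) (iv D3720) F2910 D1801 F2924 D2130 D4439 D9180 (iv F16685) (iv F18165) (iv D10300) (iv D5637) (iv F8525) D10295 F18159)).symm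
theorem F34569 : act 2 n17210 = n13353 := (sb E9825 (iv D18252))
theorem F34570 : act 2 n19029 = n16483 := d21_6 D12753 D17210 F34569 F23509 D13879 (iv F34568) F28586 (iv D12752)
theorem F34571 : act 0 n19029 = n16386 := d21_8 F28391 F21714 D12753 D17210 F34569 F23509 D13879 (iv F34568)
theorem F34572 : act 1 n16373 = n19020 := d0_4 D19029 F34571 F28390 (iv F28365) (iv D19020) (iv D13839) F19436 D10934 D13844
theorem F34573 : act 4 n16384 = n19029 := d3_0 F34571 (iv D16386) D16384
theorem F34574 : act 1 n18711 = n16384 := d8_3 F34573 (iv D19029) (iv F33494)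
theorem F34575 : act 0 n16372 = n18702 := d0_5 F34574 (iv D16384) (iv D12265) (iv F21612) D16372 (iv D18702) F23965 D13660 D18711
theorem F34576 : act 4 n19020 = n16372 := d3_0 F34575 F33472 D19020
theorem F34577 : act 1 n16483 = n18323 := d6_1 F34570 (iv D18323) F34465 F34453 D19029
theorem F34578 : act 3 n18323 = n17207 := d7_2 (iv F28586) F34577 (iv D17207)
theorem F34579 : act 4 n18323 = n16482 := d8_2 D16483 F34577 (iv D16482)
theorem F34580 : act 0 n16482 = n18292 := d3_1 F34579 F32018 (iv F32136)
theorem F34581 : act 2 n16482 = n18291 := d12_1 F34579 F32015 D18323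
theorem F34582 : act 6 n16482 = n18301 := d19_2 (iv F32137) F34579 F32044
theorem F34583 : act 3 n18301 = n16490 := d17_1 F34582 (iv D16490) (iv F28584)
theorem F34584 : act 0 n16490 = n18303 := d2_1 F34583 (iv D18303) (iv F32043)
theorem F34585 : act 4 n17216 = n18344 := d15_4 (iv F32044) F34583 F28603 (iv F30209) (iv D18344)
theorem F34586 : act 0 n18348 = n17216 := d3_3 F34585 F32169 D18348
theorem F34587 : act 6 n18344 = n17207 := d19_2 D17216 F34585 F30194
theorem F34588 : act 0 n17207 = n18324 := d5_1 F34587 F32139 (iv F32169)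
theorem F34589 : act 4 n18324 = n17213 := d3_2 (iv F30194) F34588 (iv D17213)
theorem E9826 : n18347 = n18324 := ((c21_9 (iv D18347) (iv D13401) (iv D10697) (iv F13600) D11358 F34474 D18323 F34578 F34588)).symm
theorem F34590 : act 2 n18324 = n13401 := (sb E9826 (iv D18347))
theorem F34591 : act 2 n17207 = n18344 := d1_2 (iv F34590) (iv F34588) F32169
theorem E9827 : n17216 = n17214 := (c12_3 (iv F30194) F34591 (iv F34585) (iv D17214))
theorem F34592 : act 0 n17214 = n18348 := (sb E9827 (iv F34586))
theorem F34593 : act 3 n17214 = n12764 := (sb E9827 F30209)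
theorem F34594 : act 4 n17214 = n18344 := (sb E9827 F34585)
theorem F34595 : act 6 n17214 = n12755 := (sb E9827 (iv D17216))
theorem F34596 : act 6 n17213 = n18348 := d5_2 F34595 D17213 (iv F34592)
theorem F34597 : act 3 n18348 = n17228 := d17_1 F34596 (iv D17228) (iv F30207)
theorem F34598 : act 1 n17228 = n18307 := d7_1 F34597 F32062 (iv F32174)
theorem F34599 : act 4 n17228 = n18303 := d15_2 D18348 F34597 (iv D18303) F23541 D13401
theorem F34600 : act 6 n18303 = n16487 := d19_2 D17228 F34599 F28597
theorem F34601 : act 3 n16487 = n18292 := d17_1 F34600 F32019 D18303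
theorem F34602 : act 2 n18348 = n17213 := d1_2 D17214 F34592 (iv D17213)
theorem F34603 : act 6 n14522 = n13958 := d19_2 F34559 (iv F25356) (iv D13958)
theorem F34604 : act 0 n13884 = n14522 := d5_3 F34603 F24445 (iv F24373)
theorem F34605 : act 2 n13884 = n14522 := d14_3 F34603 F24446 (iv F24373)
theorem E9828 : n17247 = n12766 := (c6_1 (iv F30261) F34556 (iv D13510) D13509 (iv F34428) (iv F22364))
theorem E9829 : n17238 = n12771 := ((D17238).symm.trans (sb E9828 F30261))
theorem E9830 : n17240 = n12769 := ((D17240).symm.trans (sb E9828 (iv D17247)))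
theorem F34606 : act 2 n12771 = n12766 := (sb E9829 (iv D17238))
theorem E9831 : n17221 = n10301 := (((F22365).symm.trans (sb E9829 F30251))).symm
theorem F34607 : act 0 n12769 = n12771 := (sb E9830 F30253)
theorem E9832 : n17245 = n12767 := ((D17245).symm.trans (sb E9830 F30254))
theorem E9833 : n17056 = n17054 := ((((iv F30000)).symm.trans (sb E9830 F30255))).symm
theorem F34608 : act 6 n12769 = n12766 := (sb E9830 (iv D17240))
theorem E9834 : n12758 = n5638 := (((F18167).symm.trans (sb E9831 (iv D17221)))).symm
theorem E9835 : n17218 = n10299 := (((F22361).symm.trans (sb E9832 F30259))).symm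
theorem F34609 : act 3 n12767 = n12769 := (sb E9832 (iv D17245))
theorem F34610 : act 0 n17054 = n17249 := (sb E9833 (iv F30264))
theorem F34611 : act 3 n17054 = n12660 := (sb E9833 F30003)
theorem F34612 : act 6 n17054 = n12659 := (sb E9833 (iv D17056))
theorem E9836 : n10296 = n10295 := (((iv F18161)).symm.trans (sb E9834 (iv D12758)))
theorem E9840 : n12757 = n12756 := (((iv F22351)).symm.trans (sb E9835 (iv D17218)))
theorem E9841 : n12759 = n5635 := ((((iv D10295)).symm.trans (sb E9836 (iv F22354)))).symm
theorem F34613 : act 3 n10295 = n5638 := (sb E9836 F18161)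
theorem E9842 : n12754 = n12753 := ((((iv F22345)).symm.trans (sb E9836 (iv F22347)))).symm
theorem E9843 : n12760 = n12654 := ((((iv F22215)).symm.trans (sb E9836 D12760))).symm
theorem E9844 : n17220 = n17217 := (((D17217).symm.trans (sb E9840 D17220))).symm
theorem E9845 : n17219 = n10294 := ((((iv D12756)).symm.trans (sb E9840 (iv F30212)))).symm
theorem F34614 : act 3 n12756 = n10299 := (sb E9840 F22351)
theorem E9846 : n17209 = n17208 := ((((iv F30196)).symm.trans (sb E9840 (iv F30198)))).symm
theorem E9847 : n17041 = n12655 := (((iv F29989)).symm.trans (sb E9840 F22352))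
theorem E9849 : n17211 = n10293 := ((((iv F18157)).symm.trans (sb E9841 (iv F30202)))).symm
theorem F34615 : act 6 n5635 = n10295 := (sb E9841 (iv D12759))
theorem E9851 : n17210 = n16485 := ((D17210).symm.trans (sb E9842 (iv F28591)))
theorem E9852 : n17212 = n17037 := ((((iv F29984)).symm.trans (sb E9842 D17212))).symm
theorem E9853 : n17226 = n17033 := ((((iv F29979)).symm.trans (sb E9843 D17226))).symm
theorem F34616 : act 3 n12654 = n10302 := (sb E9843 F22356)
theorem E9854 : n17043 = n12653 := ((D17043).symm.trans (sb E9843 F22357))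
theorem F34617 : act 3 n17217 = n12768 := (sb E9844 F30214)
theorem F34618 : act 6 n10294 = n12756 := (sb E9845 (iv D17219))
theorem F34619 : act 5 n17208 = n17038 := (sb E9846 F30199)
theorem F34620 : act 6 n17208 = n12752 := (sb E9846 (iv D17209))
theorem F34621 : act 0 n12655 = n12654 := (sb E9847 F29988)
theorem F34622 : act 5 n12655 = n12756 := (sb E9847 F29989)
theorem F34623 : act 6 n10293 = n12753 := (sb E9849 (iv D17211))
theorem F34624 : act 2 n16485 = n13353 := (sb E9851 F34569)
theorem F34625 : act 3 n16485 = n12753 := (sb E9851 (iv D17210))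
theorem F34626 : act 0 n17037 = n17038 := (sb E9852 F30203)
theorem F34627 : act 6 n17037 = n17036 := (sb E9852 F30205)
theorem F34628 : act 3 n17033 = n12773 := (sb E9853 F30222)
theorem F34629 : act 2 n12653 = n12655 := (sb E9854 F29991)
theorem F34630 : act 6 n12653 = n12654 := (sb E9854 (iv D17043))
theorem E9855 : n18601 = n14872 := (c10_5 F34608 F34556 F23756 D13572 D18601 F25842)
theorem F34631 : act 6 n14872 = n13572 := (sb E9855 (iv D18601))
theorem F34632 : act 2 n17249 = n17053 := d11_13 (iv F22213) F34629 F22216 (iv F22222) (iv F34611) (iv D17054) (iv D12659) (iv D10248) (iv F18099) D12654 F34616 (iv F22367) (iv F30265) (iv D17053) (iv D12658)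
theorem F34633 : act 2 n17038 = n17036 := d12_3 F29981 F34629 (iv F29985)
theorem E9856 : n18204 = n16388 := (c12_3 (iv F28592) F34624 (iv F31845) F28393)
theorem F34634 : act 1 n16388 = n13318 := (sb E9856 (iv D18204))
theorem F34635 : act 4 n16388 = n13353 := (sb E9856 F31845)
theorem E9857 : n18254 = n16386 := (c14_3 D16485 F34624 D18254 F28391)
theorem E9858 : n13367 = n12267 := (((F28390).symm.trans (sb E9857 F31938))).symm
theorem F34636 : act 3 n16386 = n13881 := (sb E9857 F31939)
theorem F34637 : act 6 n16386 = n13353 := (sb E9857 (iv D18254))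
theorem E9859 : n18275 = n16373 := ((((iv F28365)).symm.trans (sb E9858 (iv F31981)))).symm
theorem E9860 : n18278 = n10051 := (((F21631).symm.trans (sb E9858 (iv F31985)))).symm
theorem E9861 : n16391 = n10983 := ((D16391).symm.trans (sb E9858 F23526))
theorem E9862 : n18221 = n10050 := ((((iv D12267)).symm.trans (sb E9858 (iv F31888)))).symm
theorem E9863 : n18281 = n16392 := (((D16392).symm.trans (sb E9858 D18281))).symm
theorem E9864 : n16133 = n10677 := (((iv F27916)).symm.trans (sb E9858 (iv D13367)))
theorem F34638 : act 3 n16373 = n13946 := (sb E9859 F31982)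
theorem F34639 : act 5 n16373 = n18280 := (sb E9859 (iv F31989))
theorem F34640 : act 6 n16373 = n13364 := (sb E9859 (iv D18275))
theorem E9865 : n13365 = n12135 := ((((iv F21414)).symm.trans (sb E9860 (iv D18278)))).symm
theorem F34641 : act 3 n10983 = n12267 := (sb E9861 (iv D16391))
theorem E9866 : n13330 = n12134 := ((((iv F21411)).symm.trans (sb E9862 (iv D18221)))).symm
theorem F34642 : act 0 n16392 = n18280 := (sb E9863 F31990)
theorem F34643 : act 3 n16392 = n13953 := (sb E9863 F31991)
theorem F34644 : act 6 n16392 = n18274 := (sb E9863 F31992)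
theorem F34645 : act 6 n10677 = n12267 := (sb E9864 F27916)
theorem E9867 : n18273 = n16130 := ((((iv F27908)).symm.trans (sb E9865 (iv F31977)))).symm
theorem F34646 : act 2 n12135 = n10677 := (sb E9865 (iv D13365))
theorem E9870 : n18277 = n16135 := (((D16135).symm.trans (sb E9865 D18277))).symm
theorem E9871 : n18218 = n16129 := ((((iv F27905)).symm.trans (sb E9866 D18218))).symm
theorem E9872 : n16131 = n10660 := ((D16131).symm.trans (sb E9866 (iv D13330)))
theorem E9873 : n18212 = n16132 := (((D16132).symm.trans (sb E9866 (iv F31866)))).symm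
theorem F34647 : act 4 n12134 = n10677 := (sb E9866 F23467)
theorem E9874 : n18220 = n16134 := (((D16134).symm.trans (sb E9866 D18220))).symm
theorem F34648 : act 1 n16130 = n14039 := (sb E9867 F31978)
theorem F34649 : act 2 n16130 = n13364 := (sb E9867 (iv D18273))
theorem F34650 : act 2 n16135 = n13366 := (sb E9870 F31984)
theorem F34651 : act 1 n16129 = n13734 := (sb E9871 F31883)
theorem F34652 : act 4 n16129 = n13364 := (sb E9871 F31884)
theorem F34653 : act 1 n10660 = n12134 := (sb E9872 (iv D16131))
theorem F34654 : act 1 n16132 = n13324 := (sb E9873 (iv D18212))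
theorem E9875 : n16070 = n15024 := ((F27913).symm.trans (sb E9873 F31865))
theorem F34655 : act 4 n16132 = n13704 := (sb E9873 F31867)
theorem F34656 : act 4 n16134 = n13366 := (sb E9874 F31887)
theorem F34657 : act 0 n15024 = n12105 := (sb E9875 F27780)
theorem F34658 : act 2 n15024 = n16132 := (sb E9875 (iv F27913))
theorem F34659 : act 3 n15024 = n12104 := (sb E9875 (iv D16070))
theorem F34660 : act 5 n15024 = n16217 := (sb E9875 (iv F28045))
theorem F34661 : act 6 n15024 = n12175 := (sb E9875 F27781)
theorem F34662 : act 2 n13878 = n13881 := d21_0 (iv F34636) F28391 F21714 D12753 (iv F34625) F34624 F23509 D13878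
theorem F34663 : act 0 n13881 = n13879 := d21_8 (iv D13879) (iv F23509) (iv F34624) F34625 (iv D12753) (iv F21714) (iv F28391) F34636
theorem F34664 : act 0 n18766 = n18768 := d3_3 F33596 F34663 (iv F33593)
theorem F34665 : act 6 n13879 = n13878 := d5_2 D13881 F34663 (iv D13878)
theorem F34666 : act 6 n19045 = n18234 := d10_2 F34665 (iv F34155) (iv D18234) (iv F34378) (iv F34563)
theorem F34667 : act 6 n18251 = n19029 := d17_2 F34665 (iv F31935) F34568
theorem F34668 : act 6 n18765 = n18766 := d19_2 F34665 (iv F33592) F33593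
theorem F34669 : act 2 n18768 = n18765 := d14_3 F34668 (iv D18766) D18768
theorem F34670 : act 1 n19048 = n18251 := d10_5 F34667 (iv D19029) F24338 D13854 D19048
theorem F34671 : act 0 n18234 = n19048 := d0_9 F34670 (iv D18251) (iv D13353) (iv D10671) (iv D6862) (iv F10303) D10667 D13345 D18234
theorem F34672 : act 3 n19045 = n19048 := d7_0 F34670 F31935 (iv F34155)
theorem E9876 : n16206 = n16205 := (c19_2 F34661 D16206 (iv D16205) (iv F26152))
theorem F34673 : act 0 n16205 = n12179 := (sb E9876 F28030)
theorem E9877 : n18799 = n16389 := (((iv F33647)).symm.trans (sb E9876 (iv F28395)))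
theorem F34674 : act 4 n16205 = n12175 := (sb E9876 (iv D16206))
theorem F34675 : act 2 n16389 = n16205 := (sb E9877 F33647)
theorem F34676 : act 3 n16389 = n13737 := (sb E9877 F33648)
theorem F34677 : act 6 n16389 = n13704 := (sb E9877 (iv D18799))
theorem F34678 : act 6 n18797 = n16213 := d5_2 F34677 D18797 (iv F28394)
theorem E9878 : n16202 = n16072 := ((c14_3 F34678 F28038 (iv F27783) (iv F33643))).symm
theorem F34679 : act 0 n16072 = n12174 := (sb E9878 (iv D16202))
theorem F34680 : act 2 n16072 = n18797 := (sb E9878 (iv F33643))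
theorem F34681 : act 3 n16213 = n18861 := d17_1 F34678 (iv D18861) (iv F33644)
theorem F34682 : act 4 n16071 = n18797 := d19_3 F34678 (iv D16213) (iv F27782)
theorem F34683 : act 6 n16204 = n16215 := d22_1 D16204 (iv D16215) (iv F27783) F34679
theorem F34684 : act 4 n16217 = n16204 := d19_3 F34683 F28040 D16217
theorem E9879 : n16069 = n15025 := (c7_2 F34659 D16069 (iv D15025) D15024)
theorem F34685 : act 1 n15025 = n12104 := (sb E9879 (iv D16069))
theorem E9880 : n16041 = n12092 := (c0_4 F34685 F21364 (iv F21351) (iv F27740) F21351 (iv F21364) (iv F34685) F26153 F20461 (iv F26153))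
theorem F34686 : act 0 n12092 = n12092 := (sb E9880 F27740)
theorem E9881 : n12091 = n9973 := ((((iv D12092)).symm.trans (sb E9880 (iv D16041)))).symm
theorem F34687 : act 0 n9973 = n9973 := (sb E9881 (iv D12091))
theorem E9883 : n16030 = n12085 := ((((iv F21339)).symm.trans (sb E9881 (iv F27722)))).symm
theorem E9884 : n14952 = n11511 := ((((iv F20387)).symm.trans (sb E9881 (iv F26020)))).symm
theorem E9885 : n16042 = n12093 := (((D12093).symm.trans (sb E9881 D16042))).symm
theorem F34688 : act 0 n12085 = n12085 := (sb E9883 (iv D16030))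
theorem F34689 : act 0 n11511 = n11511 := (sb E9884 (iv D14952))
theorem F34690 : act 0 n12093 = n12093 := (sb E9885 F27742)
theorem F34691 : act 6 n12093 = n12093 := (sb E9885 F27743)
theorem F34692 : act 1 n16066 = n15076 := d6_5 F26265 F34685 (iv D12104) D12103 D16066
theorem F34693 : act 3 n14526 = n16066 := d7_0 F34692 (iv D15076) (iv F25363)
theorem E9886 : n16120 = n8938 := (c21_6 D14526 F34693 (iv D16066) F21363 D12129 D16120 D11293 D14523 F25357)
theorem E9887 : n12129 = n11278 := ((((iv F20010)).symm.trans (sb E9886 (iv D16120)))).symm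
theorem E9888 : n16116 = n8932 := ((((iv D11278)).symm.trans (sb E9887 (iv F27881)))).symm
theorem E9889 : n16119 = n14486 := (((D14486).symm.trans (sb E9887 D16119))).symm
theorem E9890 : n14487 = n9991 := ((D14487).symm.trans (sb E9887 (iv D12129)))
theorem E9891 : n14473 = n10150 := (((iv F25271)).symm.trans (sb E9887 F21404))
theorem E9892 : n16121 = n14488 := (((D14488).symm.trans (sb E9887 D16121))).symm
theorem E9893 : n16122 = n14452 := ((((iv F25225)).symm.trans (sb E9887 D16122))).symm
theorem E9894 : n12128 = n11279 := (((D11279).symm.trans (sb E9888 (iv D16116)))).symm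
theorem E9895 : n12454 = n11272 := ((((iv F20000)).symm.trans (sb E9888 F27882))).symm
theorem F34694 : act 2 n14486 = n12132 := (sb E9889 F27889)
theorem F34695 : act 4 n14486 = n12457 := (sb E9889 F27890)
theorem F34696 : act 2 n9991 = n11278 := (sb E9890 (iv D14487))
theorem E9896 : n14156 = n12457 := (((D12457).symm.trans (sb E9891 F34498))).symm
theorem E9897 : n12458 = n11364 := ((D12458).symm.trans (sb E9891 F25270))
theorem F34697 : act 4 n10150 = n11278 := (sb E9891 F25271)
theorem E9898 : n14579 = n12459 := (((D12459).symm.trans (sb E9891 (iv F25476)))).symm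
theorem E9899 : n12460 = n11325 := ((D12460).symm.trans (sb E9891 F25272))
theorem F34698 : act 2 n14488 = n12130 := (sb E9892 F27891)
theorem F34699 : act 2 n14452 = n12131 := (sb E9893 F27893)
theorem F34700 : act 0 n11279 = n9991 := (sb E9894 (iv D12128))
theorem E9900 : n16014 = n14363 := ((((iv F25098)).symm.trans (sb E9894 (iv F27688)))).symm
theorem E9901 : n16065 = n14489 := (((D14489).symm.trans (sb E9894 (iv F27776)))).symm
theorem E9902 : n14474 = n10149 := (((iv F25273)).symm.trans (sb E9894 F21403))
theorem E9903 : n16117 = n14490 := (((D14490).symm.trans (sb E9894 D16117))).symm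
theorem E9904 : n16118 = n14453 := ((((iv F25228)).symm.trans (sb E9894 D16118))).symm
theorem F34701 : act 0 n11272 = n10150 := (sb E9895 F21921)
theorem E9907 : n16706 = n14475 := (((D14475).symm.trans (sb E9895 D16706))).symm
theorem E9909 : n16709 = n11084 := ((D16709).symm.trans (sb E9896 F24722))
theorem E9910 : n16711 = n11081 := ((D16711).symm.trans (sb E9896 (iv D14156)))
theorem F34702 : act 3 n11364 = n10150 := (sb E9897 (iv D12458))
theorem E9913 : n16714 = n14664 := (((D14664).symm.trans (sb E9897 D16714))).symm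
theorem F34703 : act 4 n12459 = n14488 := (sb E9898 F25475)
theorem E9915 : n16717 = n11327 := ((D16717).symm.trans (sb E9898 (iv D14579)))
theorem E9916 : n16718 = n10820 := ((((iv F34535)).symm.trans (sb E9899 D16718))).symm
theorem E9917 : n14575 = n10152 := ((D14575).symm.trans (sb E9899 F21926))
theorem E9918 : n16719 = n14576 := (((D14576).symm.trans (sb E9899 D16719))).symm
theorem F34704 : act 6 n11325 = n10150 := (sb E9899 (iv D12460))
theorem F34705 : act 0 n14363 = n12077 := (sb E9900 (iv D16014))
theorem F34706 : act 4 n14363 = n12404 := (sb E9900 F27689)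
theorem F34707 : act 6 n14363 = n14943 := (sb E9900 (iv F27690))
theorem F34708 : act 0 n14489 = n12103 := (sb E9901 (iv D16065))
theorem F34709 : act 2 n10149 = n11272 := (sb E9902 (iv D14474))
theorem F34710 : act 4 n10149 = n11279 := (sb E9902 F25273)
theorem E9919 : n12456 = n11326 := ((D12456).symm.trans (sb E9902 F25274))
theorem F34711 : act 0 n14490 = n12130 := (sb E9903 F27883)
theorem F34712 : act 1 n14490 = n15036 := (sb E9903 (iv F27885))
theorem F34713 : act 4 n14490 = n12455 := (sb E9903 F27884)
theorem F34714 : act 6 n14490 = n16124 := (sb E9903 (iv F27899))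
theorem F34715 : act 0 n14453 = n12131 := (sb E9904 F27886)
theorem E9920 : n14924 = n11507 := (((F25226).symm.trans (sb E9904 F27887))).symm
theorem F34716 : act 5 n14453 = n16123 := (sb E9904 (iv F27896))
theorem F34717 : act 0 n14475 = n12459 := (sb E9907 F29497)
theorem F34718 : act 2 n14475 = n12455 := (sb E9907 F29498)
theorem F34719 : act 3 n11084 = n12457 := (sb E9909 (iv D16709))
theorem E9921 : n14153 = n12466 := ((D14153).symm.trans (sb E9910 F29504))
theorem F34720 : act 6 n11081 = n12457 := (sb E9910 (iv D16711))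
theorem F34721 : act 3 n14664 = n12459 := (sb E9913 F29505)
theorem E9922 : n14578 = n12461 := (((iv F25473)).symm.trans (sb E9915 F29507))
theorem F34722 : act 6 n11327 = n12459 := (sb E9915 (iv D16717))
theorem E9923 : n12617 = n10798 := (((F19202).symm.trans (sb E9916 F29509))).symm
theorem F34723 : act 2 n10152 = n11325 := (sb E9917 (iv D14575))
theorem F34724 : act 2 n14576 = n12462 := (sb E9918 F29511)
theorem F34725 : act 0 n11326 = n10152 := (sb E9919 F21923)
theorem E9925 : n11614 = n9555 := (((F20112).symm.trans (sb E9919 F22068))).symm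
theorem E9926 : n14577 = n12383 := ((D14577).symm.trans (sb E9919 (iv F22069)))
theorem F34726 : act 6 n11326 = n10149 := (sb E9919 (iv D12456))
theorem E9927 : n14944 = n11496 := (((iv F25998)).symm.trans (sb E9920 (iv D14924)))
theorem E9928 : n14948 = n14947 := (((D14947).symm.trans (sb E9920 (iv F26007)))).symm
theorem E9929 : n14925 = n11506 := (((iv F25960)).symm.trans (sb E9920 F25958))
theorem E9930 : n14047 = n10233 := (((F21931).symm.trans (sb E9921 F24719))).symm
theorem F34727 : act 2 n12466 = n11081 := (sb E9921 (iv D14153))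
theorem F34728 : act 2 n12461 = n11327 := (sb E9922 F25473)
theorem F34729 : act 5 n12461 = n11326 := (sb E9922 (iv D14578))
theorem E9932 : n13605 = n10226 := (((iv F23862)).symm.trans (sb E9923 (iv D12617)))
theorem E9937 : n11622 = n9549 := (((iv F20606)).symm.trans (sb E9925 (iv D11614)))
theorem E9938 : n15161 = n4625 := ((((iv D9555)).symm.trans (sb E9925 D15161))).symm
theorem E9939 : n11624 = n10114 := ((D11624).symm.trans (sb E9925 F20590))
theorem E9940 : n11626 = n11625 := (((D11625).symm.trans (sb E9925 (iv F20613)))).symm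
theorem E9941 : n11615 = n9554 := (((iv F20592)).symm.trans (sb E9925 F20591))
theorem F34730 : act 3 n12383 = n11326 := (sb E9926 (iv D14577))
theorem F34731 : act 0 n11496 = n11507 := (sb E9927 F25998)
theorem F34732 : act 0 n14947 = n14926 := (sb E9928 F26005)
theorem F34733 : act 1 n14947 = n12228 := (sb E9928 (iv F26008))
theorem F34734 : act 6 n14947 = n11508 := (sb E9928 (iv D14948))
theorem F34735 : act 2 n11506 = n11496 := (sb E9929 (iv D14925))
theorem F34736 : act 6 n11506 = n11507 := (sb E9929 F25960)
theorem E9942 : n12610 = n11028 := (((iv F22148)).symm.trans (sb E9930 (iv D14047)))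
theorem E9943 : n18644 = n11704 := ((((iv F23442)).symm.trans (sb E9932 (iv F33356)))).symm
theorem F34737 : act 1 n10226 = n10798 := (sb E9932 F23862)
theorem E9944 : n12614 = n10797 := (((iv F22150)).symm.trans (sb E9932 (iv D13605)))
theorem E9945 : n18648 = n12250 := ((((iv F21599)).symm.trans (sb E9932 D18648))).symm
theorem F34738 : act 0 n9549 = n9555 := (sb E9937 F20606)
theorem E9949 : n15170 = n5501 := (((F14273).symm.trans (sb E9937 D15170))).symm
theorem E9950 : n15171 = n11616 := (((D11616).symm.trans (sb E9937 D15171))).symm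
theorem E9951 : n15176 = n9556 := (((D9556).symm.trans (sb E9938 (iv F26447)))).symm
theorem E9952 : n15172 = n12384 := (((D12384).symm.trans (sb E9939 D15172))).symm
theorem F34739 : act 3 n10114 = n9555 := (sb E9939 (iv D11624))
theorem E9954 : n15174 = n10129 := ((((iv F17988)).symm.trans (sb E9939 D15174))).symm
theorem E9956 : n15175 = n10204 := ((D15175).symm.trans (sb E9940 F22066))
theorem E9957 : n15156 = n11621 := (((D11621).symm.trans (sb E9941 (iv F26418)))).symm
theorem F34740 : act 2 n9554 = n9549 := (sb E9941 (iv D11615))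
theorem E9958 : n15163 = n11623 := (((D11623).symm.trans (sb E9941 D15163))).symm
theorem F34741 : act 6 n9554 = n9555 := (sb E9941 F20592)
theorem E9959 : n15380 = n14044 := ((((iv F24547)).symm.trans (sb E9942 (iv F26739)))).symm
theorem F34742 : act 2 n11028 = n10233 := (sb E9942 F22148)
theorem E9960 : n16958 = n8248 := ((((iv D11028)).symm.trans (sb E9942 (iv F29869)))).symm
theorem E9961 : n16352 = n14048 := (((D14048).symm.trans (sb E9942 (iv F28321)))).symm
theorem E9962 : n16962 = n14049 := (((D14049).symm.trans (sb E9942 D16962))).symm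
theorem E9963 : n14050 = n10223 := ((D14050).symm.trans (sb E9942 (iv D12610)))
theorem E9964 : n15286 = n13604 := (((iv F26610)).symm.trans (sb E9943 (iv D18644)))
theorem F34743 : act 3 n10797 = n10226 := (sb E9944 F22150)
theorem E9965 : n16964 = n10909 := ((((iv F19385)).symm.trans (sb E9944 (iv F29880)))).symm
theorem E9966 : n16968 = n13606 := (((D13606).symm.trans (sb E9944 D16968))).symm
theorem E9967 : n13607 = n10224 := ((D13607).symm.trans (sb E9944 (iv D12614)))
theorem F34744 : act 1 n12250 = n13608 := (sb E9945 F33361)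
theorem E9968 : n19003 = n16355 := ((((iv F28327)).symm.trans (sb E9945 (iv F34043)))).symm
theorem E9969 : n16644 = n10115 := (((D10115).symm.trans (sb E9949 (iv F29394)))).symm
theorem F34745 : act 0 n11616 = n11625 := (sb E9950 F26441)
theorem F34746 : act 6 n9556 = n11625 := (sb E9951 (iv D15176))
theorem E9970 : n16638 = n16604 := (((D16604).symm.trans (sb E9952 (iv F29386)))).symm
theorem F34747 : act 3 n10129 = n11625 := (sb E9954 F26444)
theorem F34748 : act 1 n10204 = n11625 := (sb E9956 (iv D15175))
theorem E9971 : n15208 = n12568 := (((D12568).symm.trans (sb E9956 (iv F26488)))).symm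
theorem E9972 : n15167 = n11610 := ((D15167).symm.trans (sb E9957 (iv D15156)))
theorem F34749 : act 2 n11623 = n11616 := (sb E9958 F26426)
theorem F34750 : act 2 n14044 = n12625 := (sb E9959 F26740)
theorem F34751 : act 5 n14044 = n16960 := (sb E9959 (iv F29872))
theorem F34752 : act 6 n14044 = n11752 := (sb E9959 (iv D15380))
theorem E9973 : n12608 = n11030 := (((D11030).symm.trans (sb E9960 (iv D16958)))).symm
theorem F34753 : act 2 n14048 = n12257 := (sb E9961 F28320)
theorem F34754 : act 6 n14048 = n12247 := (sb E9961 (iv D16352))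
theorem F34755 : act 0 n14049 = n16960 := (sb E9962 F29874)
theorem F34756 : act 2 n14049 = n12632 := (sb E9962 F29875)
theorem F34757 : act 6 n14049 = n15379 := (sb E9962 F29876)
theorem F34758 : act 6 n10223 = n11028 := (sb E9963 (iv D14050))
theorem F34759 : act 3 n13604 = n11704 := (sb E9964 F26610)
theorem E9974 : n18645 = n16966 := ((D18645).symm.trans (sb E9964 (iv F29884)))
theorem E9975 : n18646 = n11702 := ((D18646).symm.trans (sb E9964 (iv D15286)))
theorem E9976 : n13813 = n12612 := ((D13813).symm.trans (sb E9965 (iv D16964)))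
theorem F34760 : act 3 n13606 = n12618 := (sb E9966 F29888)
theorem E9977 : n18651 = n15285 := ((D18651).symm.trans (sb E9966 F29889))
theorem F34761 : act 6 n10224 = n10797 := (sb E9967 (iv D13607))
theorem F34762 : act 1 n16355 = n13814 := (sb E9968 F34042)
theorem F34763 : act 4 n16355 = n13811 := (sb E9968 (iv D19003))
theorem E9979 : n12412 = n12385 := (((D12385).symm.trans (sb E9969 (iv D16644)))).symm
theorem F34764 : act 2 n16604 = n12409 := (sb E9970 (iv D16638))
theorem E9980 : n16892 = n11644 := ((D16892).symm.trans (sb E9971 (iv D15208)))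
theorem E9981 : n16633 = n15155 := (((D15155).symm.trans (sb E9972 (iv F29382)))).symm
theorem F34765 : act 2 n11610 = n11621 := (sb E9972 (iv D15167))
theorem E9982 : n16629 = n14358 := ((((iv F25089)).symm.trans (sb E9972 (iv F29379)))).symm
theorem E9983 : n15378 = n14046 := ((((iv F24549)).symm.trans (sb E9973 (iv F26735)))).symm
theorem F34766 : act 1 n11030 = n10224 := (sb E9973 F22146)
theorem F34767 : act 3 n11030 = n10223 := (sb E9973 (iv D12608))
theorem E9985 : n16956 = n13781 := ((((iv F24201)).symm.trans (sb E9973 D16956))).symm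
theorem E9986 : n16957 = n14052 := (((D14052).symm.trans (sb E9973 D16957))).symm
theorem F34768 : act 0 n16966 = n13606 := (sb E9974 F33357)
theorem F34769 : act 4 n16966 = n19000 := (sb E9974 (iv F34037))
theorem F34770 : act 5 n16966 = n13604 := (sb E9974 (iv D18645))
theorem E9987 : n19001 = n15284 := (((D15284).symm.trans (sb E9975 (iv F34040)))).symm
theorem F34771 : act 6 n11702 = n13604 := (sb E9975 (iv D18646))
theorem E9988 : n19005 = n16353 := ((((iv F28323)).symm.trans (sb E9976 (iv F34046)))).symm
theorem E9989 : n19007 = n16963 := (((D16963).symm.trans (sb E9976 D19007))).symm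
theorem F34772 : act 6 n12612 = n10909 := (sb E9976 (iv D13813))
theorem F34773 : act 4 n15285 = n19006 := (sb E9977 (iv F34048))
theorem F34774 : act 6 n15285 = n13606 := (sb E9977 (iv D18651))
theorem E9991 : n16605 = n10127 := ((D16605).symm.trans (sb E9979 (iv D12412)))
theorem E9992 : n16645 = n16606 := (((D16606).symm.trans (sb E9979 D16645))).symm
theorem E9993 : n16646 = n16607 := (((D16607).symm.trans (sb E9979 D16646))).symm
theorem F34775 : act 1 n11644 = n12568 := (sb E9980 (iv D16892))
theorem F34776 : act 2 n15155 = n12407 := (sb E9981 F29383)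
theorem F34777 : act 5 n15155 = n16780 := (sb E9981 (iv F29597))
theorem F34778 : act 6 n15155 = n12405 := (sb E9981 (iv D16633))
theorem F34779 : act 0 n14358 = n12405 := (sb E9982 F29378)
theorem F34780 : act 2 n14358 = n12404 := (sb E9982 (iv D16629))
theorem F34781 : act 1 n14046 = n11753 := (sb E9983 F26736)
theorem F34782 : act 3 n14046 = n11752 := (sb E9983 (iv D15378))
theorem F34783 : act 1 n13781 = n12612 := (sb E9985 F29867)
theorem F34784 : act 3 n14052 = n12609 := (sb E9986 F29868)
theorem F34785 : act 5 n15284 = n19006 := (sb E9987 (iv F34049))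
theorem F34786 : act 6 n15284 = n13810 := (sb E9987 (iv D19001))
theorem F34787 : act 1 n16353 = n18954 := (sb E9988 F34045)
theorem F34788 : act 6 n16353 = n13811 := (sb E9988 (iv D19005))
theorem F34789 : act 0 n16963 = n19006 := (sb E9989 F34050)
theorem F34790 : act 6 n16963 = n19000 := (sb E9989 F34053)
theorem F34791 : act 2 n10127 = n12385 := (sb E9991 (iv D16605))
theorem F34792 : act 2 n16606 = n12413 := (sb E9992 F29395)
theorem F34793 : act 2 n16607 = n12414 := (sb E9993 F29396)
theorem F34794 : act 3 n14519 = n18951 := d25_18 (iv F551) (iv F1020) (iv F1847) (iv F3451) F3450 D4515 F6882 D4520 D9340 D11570 (iv F25363) F34693 (iv D16066) F21363 F34696 D14486 F25299 D14519 (iv D18951) F24199 (iv D10893) (iv D8029) F5884 F16781 (iv D1778) F1577 F872 F472 (iv F535) F534 D519 F993 D533 D1057 F16447 F1057 (iv D301) (iv D146) F140 D70 F149 D153 D307 D601 F1119 F16488 (iv D589) (iv D300) F288 F15710 (iv D55) F69 (iv F115) (iv F234) (iv F476) F15396 D466 F900 D480 D954 F16474 F2939 (iv D1057) (iv D533) (iv F993) F16483 F16471 F1027 D565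 D1129 F16467 F2300 (iv D1390) (iv D691) (iv F16477) (iv D545) (iv D276)
theorem E9994 : n19002 = n18771 := (c7_2 F34794 (iv F34041) F33600 (iv F34522))
theorem F34795 : act 1 n18771 = n18951 := (sb E9994 F34041)
theorem F34796 : act 2 n18771 = n13811 := (sb E9994 (iv D19002))
theorem F34797 : act 4 n18951 = n18377 := d15_2 (iv F25353) F34794 (iv D18377) F23608 F34521
theorem F34798 : act 6 n18951 = n18425 := d17_2 (iv F34523) F34794 F32343
theorem E9995 : n18944 = n16125 := (c21_8 (iv F34694) F25299 D14519 F34794 (iv D18951) (iv D13779) (iv F24192) D18944 (iv D16125))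
theorem F34799 : act 1 n16125 = n13777 := (sb E9995 F33923)
theorem F34800 : act 3 n16125 = n13776 := (sb E9995 (iv D18944))
theorem E9996 : n18943 = n16126 := (c21_1 (iv F33921) (iv D16126) (iv F34694) F25299 D14519 F34794 (iv D18951) (iv D13779) D13778)
theorem F34801 : act 0 n16126 = n13776 := (sb E9996 (iv D18943))
theorem F34802 : act 2 n16126 = n13778 := (sb E9996 F33921)
theorem F34803 : act 4 n16126 = n14039 := (sb E9996 F33922)
theorem F34804 : act 3 n14039 = n16725 := d15_1 F34803 (iv D16725) (iv D12464) (iv F21408) D16126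
theorem F34805 : act 0 n16725 = n14040 := d2_1 F34804 (iv D14040) D14039
theorem F34806 : act 4 n14040 = n16721 := d3_2 D16725 F34805 F29514
theorem F34807 : act 1 n16721 = n14043 := d8_1 F34806 (iv D14043) (iv F24538)
theorem E9997 : n18947 = n16720 := (c7_3 D16721 F34807 (iv F33932) (iv D16720))
theorem F34808 : act 2 n16720 = n18307 := (sb E9997 F33931)
theorem F34809 : act 3 n16720 = n14043 := (sb E9997 F33932)
theorem F34810 : act 4 n16720 = n13777 := (sb E9997 (iv D18947))
theorem F34811 : act 5 n16720 = n18307 := (sb E9997 F33933)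
theorem F34812 : act 6 n16720 = n16720 := (sb E9997 (tr F33934 E9997))
theorem F34813 : act 2 n15905 = n16721 := d25_19 D7862 (iv F19198) (iv F32097) F23925 F32094 F34529 F34509 F19621 D11167 F32085 F34211 (iv F34214) F34213 F20943 F14584 (iv F12754) (iv F17673) (iv F21218) (iv F27493) F34807 (iv F34809) F34808 F32062 F23579 (iv F32174) (iv D18348) (iv D13401) (iv D10697) (iv F13600) D11358 F20150 D11381 F34453 F34443 (iv D14781) F34560 F34557 F34555 (iv D10952) (iv D8198) (iv D3915) (iv F5126) (iv F10130) (iv F18886) (iv F23355) (iv F34271) F21224 F17667 F7750 F3859 F32890 (iv D2319) (iv D1129) (iv D565) (iv F1027) (iv F16483) (iv D519) F535 (iv F472) (iv F872) (iv F1565) D1761 F2865 F16785 (iv F2865) F16908 (iv D1868) F1636 D952 D1941 F16514 (iv F11723) (iv D7859) F16668 D7859 F11728 F11723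
theorem F34814 : act 0 n16724 = n15905 := d1_3 F34813 F29514 D16724
theorem F34815 : act 6 n16721 = n15902 := d14_2 D15905 F34813 (iv D15902)
theorem F34816 : act 3 n16708 = n14152 := d21_5 (iv F21218) (iv F27493) F34813 (iv D16721) (iv F29501) F24718 (iv F21234) F21233
theorem E9998 : n18468 = n16724 := ((c11_10 D16721 (iv F34813) F27493 F21218 F17673 (iv F19623) F34719 F21924 D12464 D16724 F32443 (iv F34436) F21234 (iv F24718) (iv F34816) F29501)).symm
theorem F34817 : act 1 n16724 = n13481 := (sb E9998 (iv D18468))
theorem F34818 : act 3 n16724 = n13487 := (sb E9998 F32443)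
theorem F34819 : act 6 n15899 = n16724 := d17_0 F34818 (iv F34437) D15899
theorem F34820 : act 1 n14390 = n15899 := d10_5 F34819 F34817 (iv D13481) (iv F19928) D14390
theorem F34821 : act 2 n16727 = n15899 := d14_3 F34819 (iv D16724) D16727
theorem F34822 : act 0 n15902 = n16727 := d1_3 F34821 F27484 D15902
theorem F34823 : act 2 n16723 = n14149 := d21_0 (iv D14149) F19618 (iv F17670) (iv F21214) D15899 (iv F34821) F29520 (iv F29516)
theorem F34824 : act 3 n15902 = n16723 := d11_0 F34823 (iv D14149) F19618 (iv F17670) (iv F21214) D15899 (iv F34821) F29520 F34727 (iv D11081) F12389 (iv F15787) (iv F17662) D12019 D15902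
theorem F34825 : act 6 n14149 = n16708 := d14_2 D16723 F34823 F29501
theorem F34826 : act 1 n16723 = n16723 := d7_1 F34824 (iv F34824) F27489
theorem F34828 : act 1 n16722 = n17232 := d24_5 D16728 F29521 F34826 (iv D16723) D16722 (iv D17232) (iv D12763) (iv D10297) D10299 F18164 D12661 F22223 D12664 F22225
theorem F34829 : act 1 n17234 = n17014 := d0_2 F34828 (iv F30242) F29948 F22190 (iv F29550) F30010 F30008 F22225 (iv F29515)
theorem F34830 : act 1 n14446 = n16708 := d6_3 F34808 (iv F34598) F30227 F29501 D16720
theorem E9999 : n17231 = n16630 := ((c0_9 F34830 (iv D16708) (iv D12457) (iv F34701) (iv D11272) (iv F19902) D14358 F34779 D16630 F30238)).symm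
theorem F34831 : act 0 n16630 = n14446 := (sb E9999 F30238)
theorem E10000 : n12764 = n12408 := (((F29380).symm.trans (sb E9999 F30239))).symm
theorem F34832 : act 6 n16630 = n12762 := (sb E9999 (iv D17231))
theorem E10001 : n17228 = n16634 := (((D16634).symm.trans (sb E10000 (iv F30226)))).symm
theorem E10002 : n17233 = n10125 := ((((iv D12408)).symm.trans (sb E10000 D17233))).symm
theorem E10003 : n17214 = n16635 := (((D16635).symm.trans (sb E10000 (iv F34593)))).symm
theorem E10004 : n16490 = n16018 := ((((iv F27696)).symm.trans (sb E10000 (iv F28603)))).symm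
theorem E10005 : n17234 = n16636 := (((D16636).symm.trans (sb E10000 D17234))).symm
theorem E10006 : n16637 = n10297 := ((D16637).symm.trans (sb E10000 (iv D12764)))
theorem F34833 : act 1 n16634 = n18307 := (sb E10001 F34598)
theorem F34834 : act 2 n16634 = n14446 := (sb E10001 F30227)
theorem F34835 : act 3 n16634 = n18348 := (sb E10001 (iv F34597))
theorem F34836 : act 4 n16634 = n18303 := (sb E10001 F34599)
theorem F34837 : act 5 n16634 = n17232 := (sb E10001 (iv F30240))
theorem F34838 : act 6 n16634 = n12761 := (sb E10001 (iv D17228))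
theorem E10007 : n12768 = n12384 := ((((iv F21840)).symm.trans (sb E10002 F30241))).symm
theorem F34839 : act 0 n16635 = n18348 := (sb E10003 F34592)
theorem F34840 : act 2 n16635 = n12755 := (sb E10003 (iv D17214))
theorem F34841 : act 4 n16635 = n18344 := (sb E10003 F34594)
theorem F34842 : act 6 n16635 = n12755 := (sb E10003 F34595)
theorem F34843 : act 0 n16018 = n18303 := (sb E10004 F34584)
theorem F34844 : act 3 n16018 = n18301 := (sb E10004 (iv F34583))
theorem F34845 : act 6 n16018 = n12315 := (sb E10004 (iv D16490))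
theorem F34846 : act 0 n16636 = n17232 := (sb E10005 F30242)
theorem F34847 : act 1 n16636 = n17014 := (sb E10005 F34829)
theorem F34848 : act 6 n16636 = n17227 := (sb E10005 F30243)
theorem F34849 : act 6 n10297 = n12408 := (sb E10006 (iv D16637))
theorem E10009 : n16603 = n10299 := ((D16603).symm.trans (sb E10007 (iv D12768)))
theorem E10011 : n17217 = n16604 := (((D16604).symm.trans (sb E10007 (iv F34617)))).symm
theorem E10012 : n16491 = n15966 := ((((iv F27611)).symm.trans (sb E10007 (iv F28604)))).symm
theorem E10013 : n17244 = n12416 := ((((iv F21871)).symm.trans (sb E10007 D17244))).symm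
theorem F34850 : act 1 n10299 = n12384 := (sb E10009 (iv D16603))
theorem F34851 : act 1 n16604 = n12756 := (sb E10011 (iv D17217))
theorem F34852 : act 1 n15966 = n12316 := (sb E10012 (iv D16491))
theorem E10014 : n17060 = n16652 := (((D16652).symm.trans (sb E10013 F30256))).symm
theorem E10015 : n16744 = n10128 := ((((iv D12416)).symm.trans (sb E10013 (iv F30257)))).symm
theorem F34853 : act 0 n16652 = n17066 := (sb E10014 (iv F30014))
theorem F34854 : act 5 n16652 = n12661 := (sb E10014 (iv D17060))
theorem F34855 : act 6 n16652 = n17063 := (sb E10014 (iv F30009))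
theorem E10016 : n12475 = n12415 := (((D12415).symm.trans (sb E10015 (iv D16744)))).symm
theorem E10017 : n16650 = n10158 := ((D16650).symm.trans (sb E10016 (iv D12475)))
theorem E10019 : n16741 = n16648 := ((((iv F29398)).symm.trans (sb E10016 (iv F29544)))).symm
theorem E10020 : n16137 = n16025 := ((((iv F27707)).symm.trans (sb E10016 (iv F27922)))).symm
theorem E10021 : n16746 = n16651 := (((D16651).symm.trans (sb E10016 D16746))).symm
theorem F34856 : act 0 n10158 = n12415 := (sb E10017 (iv D16650))
theorem E10022 : n16700 = n12476 := (((D12476).symm.trans (sb E10017 (iv F29491)))).symm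
theorem F34857 : act 0 n16648 = n12474 := (sb E10019 (iv D16741))
theorem F34858 : act 0 n16025 = n12137 := (sb E10020 (iv D16137))
theorem F34859 : act 0 n16651 = n12477 := (sb E10021 F29550)
theorem F34860 : act 1 n16651 = n17063 := (sb E10021 F30010)
theorem F34861 : act 5 n16651 = n12477 := (sb E10021 F29551)
theorem F34862 : act 0 n12476 = n12451 := (sb E10022 (iv D16700))
theorem E10023 : n14414 = n14149 := ((c10_3 D14446 F34830 (iv F34825) (iv D14414) F19950 D11257)).symm
theorem F34863 : act 1 n14149 = n11243 := (sb E10023 (iv D14414))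
theorem E10024 : n14384 = n11032 := (c0_6 F34863 (iv D11243) (iv D8853) (iv F13224) D11229 D14384 (iv D11032) (iv F12390) (iv F19619) (iv F24712))
theorem E10025 : n14053 = n11229 := ((D14053).symm.trans (sb E10024 (iv D14384)))
theorem F34864 : act 0 n11229 = n11032 := (sb E10025 (iv D14053))
theorem E10026 : n14380 = n14143 := (((iv F25134)).symm.trans (sb E10025 (iv F24702)))
theorem F34865 : act 1 n14143 = n11227 := (sb E10026 (iv D14380))
theorem F34866 : act 3 n14143 = n11229 := (sb E10026 F25134)
theorem E10027 : n14405 = n14148 := (c7_3 D14149 F34863 (iv F25171) (iv D14148))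
theorem F34867 : act 0 n14148 = n11238 := (sb E10027 (iv D14405))
theorem F34868 : act 3 n14148 = n11243 := (sb E10027 F25171)
theorem F34869 : act 5 n14148 = n14436 := (sb E10027 (iv F25208))
theorem F34870 : act 6 n14148 = n11251 := (sb E10027 F25172)
theorem E10028 : n14161 = n14111 := (c24_5 D14436 (iv F34869) (iv D14148) D14152 (iv F24730) (iv D14111) (iv D11058) (iv F19177) F28951 (iv F20171) (iv D11374) D11373 F20168 D11377 F20173)
theorem F34871 : act 0 n14111 = n14162 := (sb E10028 (iv F24731))
theorem F34872 : act 2 n14111 = n11171 := (sb E10028 F24729)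
theorem F34873 : act 5 n14111 = n14152 := (sb E10028 F24730)
theorem F34874 : act 6 n14111 = n11083 := (sb E10028 (iv D14161))
theorem E10029 : n14160 = n14102 := (c10_2 F34874 D14160 (iv D14102) F19559 D11058 D14111)
theorem F34875 : act 1 n14102 = n11083 := (sb E10029 (iv D14160))
theorem F34876 : act 5 n14102 = n11089 := (sb E10029 F24728)
theorem E10030 : n18696 = n18693 := ((c24_7 F34874 (iv D11083) (iv D8325) (iv F11589) D10822 D13648 D18693 (iv D18696) (iv D13649) F19213 (iv F19167) D13620 F28977 (iv D14112) D14111)).symm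
theorem F34877 : act 0 n18693 = n14689 := (sb E10030 F33455)
theorem E10031 : n18672 = n18668 := ((F33449).symm.trans (sb E10030 F33456))
theorem F34878 : act 2 n18693 = n14890 := (sb E10030 F33457)
theorem F34879 : act 3 n18693 = n14754 := (sb E10030 F33458)
theorem F34880 : act 5 n18693 = n13649 := (sb E10030 (iv D18696))
theorem F34881 : act 1 n18668 = n18693 := (sb E10031 (iv F33449))
theorem F34882 : act 2 n18668 = n14864 := (sb E10031 F33411)
theorem F34883 : act 6 n18668 = n13632 := (sb E10031 (iv D18672))
theorem F34884 : act 6 n18669 = n14712 := d5_2 F34883 D18669 (iv F33404)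
theorem F34885 : act 6 n14059 = n14803 := d17_2 F34883 (iv F24559) (iv F33405)
theorem F34886 : act 6 n18671 = n18667 := d22_3 D18668 F34883 D18671 (iv D18667)
theorem F34887 : act 5 n18669 = n18664 := d22_0 F33393 D18668 F34883 D18669
theorem F34888 : act 0 n18664 = n18671 := d22_4 (iv D18671) (iv F34883) (iv D18668) (iv F33393)
theorem E10032 : n14168 = n14105 := ((c24_8 (iv F34883) (iv D18668) (iv D13631) (iv D10811) F11555 D8282 D11054 D14105 (iv D14168) D14169 (iv F32099) (iv D13637) F19195 (iv F19182) D13632)).symm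
theorem F34889 : act 1 n14105 = n11088 := (sb E10032 (iv D14168))
theorem F34890 : act 4 n14105 = n11089 := (sb E10032 F24744)
theorem E10033 : n14675 = n14170 := ((c3_2 F34890 D14170 (iv F29187) (iv F24624))).symm
theorem F34891 : act 2 n14170 = n14239 := (sb E10033 F29036)
theorem F34892 : act 3 n14170 = n11391 := (sb E10033 F25618)
theorem F34893 : act 4 n14170 = n14103 := (sb E10033 (iv F29187))
theorem F34894 : act 6 n14170 = n11368 := (sb E10033 (iv D14675))
theorem E10034 : n14241 = n14171 := ((c12_2 F34890 D14171 F24888 (iv F24625))).symm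
theorem F34895 : act 0 n14171 = n14239 := (sb E10034 F24887)
theorem F34896 : act 3 n14171 = n18483 := (sb E10034 (iv F33070))
theorem F34897 : act 4 n14171 = n11145 := (sb E10034 F24888)
theorem F34898 : act 5 n14171 = n11142 := (sb E10034 (iv D14241))
theorem F34899 : act 6 n14171 = n14232 := (sb E10034 F24889)
theorem E10035 : n14672 = n14172 := ((c19_3 (iv F24626) F34890 D14172 F29122)).symm
theorem F34900 : act 0 n14172 = n11368 := (sb E10035 (iv D14672))
theorem F34901 : act 1 n14172 = n17149 := (sb E10035 (iv F30119))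
theorem F34902 : act 2 n14172 = n14232 := (sb E10035 F29035)
theorem F34903 : act 3 n14172 = n11388 := (sb E10035 F25616)
theorem F34904 : act 4 n14172 = n14094 := (sb E10035 F29122)
theorem F34905 : act 5 n14172 = n14093 := (sb E10035 (iv F29120))
theorem E10036 : n14720 = n14165 := (c17_3 D14172 F34903 D14720 F24739)
theorem F34906 : act 0 n14165 = n11391 := (sb E10036 F25670)
theorem F34907 : act 2 n14165 = n17152 := (sb E10036 (iv F30126))
theorem F34908 : act 5 n14165 = n14725 := (sb E10036 (iv F25674))
theorem F34909 : act 6 n14165 = n11388 := (sb E10036 (iv D14720))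
theorem E10037 : n18656 = n17150 := ((c10_3 F34909 (iv F28918) D17150 (iv D18656) F23872 D14165)).symm
theorem F34910 : act 1 n17150 = n13611 := (sb E10037 (iv D18656))
theorem F34911 : act 3 n17150 = n14173 := (sb E10037 F33381)
theorem F34912 : act 6 n14173 = n17149 := d17_2 D17150 F34911 (iv D17149)
theorem E10038 : n18659 = n16856 := (c6_5 (iv F30121) F34910 F23870 D13613 D18659 F29738)
theorem F34913 : act 2 n16856 = n13613 := (sb E10038 (iv D18659))
theorem E10039 : n18660 = n16854 := (c14_3 D16856 F34913 D18660 (iv D16854))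
theorem F34914 : act 1 n16854 = n18576 := (sb E10039 F33384)
theorem F34915 : act 3 n16854 = n13615 := (sb E10039 F33385)
theorem F34916 : act 6 n16854 = n13613 := (sb E10039 (iv D18660))
theorem F34917 : act 2 n18576 = n16857 := d6_2 D16854 F34914 (iv D16857) (iv D12547) D12546
theorem F34918 : act 6 n16857 = n18589 := d14_2 (iv F33230) F34917 (iv D18589)
theorem F34919 : act 1 n18589 = n17152 := d10_1 F34918 (iv D17152) (iv D12721) (iv F22046) D16857
theorem F34920 : act 3 n18573 = n18589 := d7_0 F34919 F30127 D18573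
theorem F34921 : act 1 n14725 = n14155 := d9_1 F34908 (iv D14155) F19619 D11086 D14165
theorem E10040 : n14246 = n14175 := (c10_4 F34899 F29113 (iv F19764) D14246 F32872 (iv F24749))
theorem F34922 : act 1 n14175 = n11145 := (sb E10040 (iv D14246))
theorem F34923 : act 3 n14175 = n15890 := (sb E10040 (iv F27466))
theorem F34924 : act 0 n15890 = n15833 := d2_1 F34923 (iv D15833) (iv F32871)
theorem F34925 : act 5 n15890 = n14310 := d16_2 (iv F24755) F34923 (iv D14310)
theorem F34926 : act 6 n15890 = n14179 := d17_2 (iv F32872) F34923 (iv D14179)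
theorem F34927 : act 1 n14179 = n18483 := d10_1 F34926 (iv D18483) F29112 (iv F21204) D15890
theorem F34928 : act 1 n14310 = n15696 := d9_1 F34925 (iv D15696) F21047 D12014 D15890
theorem F34929 : act 6 n15691 = n15663 := d24_6 (iv F34926) F34925 F34928 F27209 F27197 D15691 (iv D15663) (iv D11899) (iv D9867) (iv F12712) (iv F19757) D14238 (iv F33072) (iv F34927)
theorem E10041 : n15670 = n14251 := (c17_3 F34929 F27166 D15670 (iv F27200))
theorem F34930 : act 0 n14251 = n15644 := (sb E10041 F27178)
theorem F34931 : act 4 n14251 = n11910 := (sb E10041 F27179)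
theorem F34932 : act 5 n14251 = n15642 := (sb E10041 F27180)
theorem F34933 : act 6 n14251 = n11902 := (sb E10041 (iv D15670))
theorem E10042 : n14300 = n14245 := (c24_12 F34933 (iv D11902) (iv D9868) (iv D4868) (iv F6199) (iv F12710) D11142 (iv F34898) F24749 (iv F32872) F24755 (iv F24960) (iv F24900) (iv D14253) D14251)
theorem F34934 : act 1 n14245 = n11179 := (sb E10042 F24960)
theorem F34935 : act 2 n14245 = n11174 := (sb E10042 (iv D14300))
theorem F34936 : act 4 n14245 = n11176 := (sb E10042 F24961)
theorem F34937 : act 4 n14303 = n14256 := d3_2 F34936 (iv F24964) F24903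
theorem E10043 : n14294 = n14240 := (c18_3 D14245 F34936 (iv F24956) F24885)
theorem F34938 : act 2 n14240 = n11170 := (sb E10043 (iv D14294))
theorem F34939 : act 5 n14240 = n11176 := (sb E10043 F24956)
theorem F34940 : act 4 n14306 = n14253 := d19_3 F24900 F34936 D14306
theorem F34941 : act 0 n14250 = n14306 := d3_3 F34940 F24899 (iv F24897)
theorem F34942 : act 2 n14253 = n14301 := d12_1 F34940 F24963 (iv F24968)
theorem F34943 : act 5 n14248 = n14306 := d18_0 F34940 (iv D14253) (iv F24894)
theorem F34944 : act 2 n14307 = n14248 := d13_3 F34943 F24968 D14307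
theorem E10044 : n15690 = n14248 := ((c24_2 D14306 (iv F34943) (iv D15690) (iv D11910) (iv D9872) (iv D4869) (iv D2346) (iv F3123) D4091 D8521 D11145 (iv F34922) F32872 F19644 (iv F19802))).symm
theorem F34945 : act 1 n14248 = n11910 := (sb E10044 (iv D15690))
theorem E10045 : n14295 = n14249 := ((c1_3 F34944 (iv D14248) D14249 (iv F24969))).symm
theorem F34946 : act 0 n14249 = n14307 := (sb E10045 (iv F24969))
theorem F34947 : act 3 n14249 = n15824 := (sb E10045 (iv F27363))
theorem F34948 : act 5 n14249 = n14304 := (sb E10045 (iv F24966))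
theorem F34949 : act 6 n14249 = n11170 := (sb E10045 (iv D14295))
theorem F34950 : act 4 n14252 = n14307 := d12_0 F34944 F24894 D14252
theorem F34951 : act 5 n14301 = n14252 := d18_0 F34950 (iv D14307) (iv F24963)
theorem F34952 : act 0 n14255 = n14301 := d4_3 F34951 F24898 D14255
theorem E10046 : n14290 = n14244 := (c22_3 (iv F34951) (iv D14301) (iv F24949) F24892 (iv F24898))
theorem F34953 : act 1 n14244 = n11168 := (sb E10046 (iv D14290))
theorem F34954 : act 4 n14244 = n11170 := (sb E10046 F24948)
theorem F34955 : act 5 n14244 = n11174 := (sb E10046 F24949)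
theorem F34956 : act 6 n14255 = n14299 := d22_3 (iv F34955) F24892 D14255 (iv D14299)
theorem F34957 : act 2 n14299 = n14256 := d14_1 F34956 (iv D14256) (iv F24902)
theorem F34958 : act 4 n14304 = n14255 := d19_3 F34956 F24959 D14304
theorem F34959 : act 2 n14250 = n14304 := d12_3 F34958 F24902 (iv F24897)
theorem F34960 : act 6 n14303 = n14250 := d14_0 F34959 (iv D14304) D14303
theorem E10047 : n14291 = n14114 := (c10_3 (iv F24892) F34953 D14291 F24642 F19583 (iv F19767))
theorem F34961 : act 0 n14114 = n14292 := (sb E10047 (iv F24952))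
theorem F34962 : act 3 n14114 = n18489 := (sb E10047 (iv F33080))
theorem F34963 : act 4 n14114 = n11171 := (sb E10047 F24950)
theorem F34964 : act 5 n14114 = n14284 := (sb E10047 F24951)
theorem F34965 : act 6 n14114 = n11168 := (sb E10047 (iv D14291))
theorem E10048 : n15798 = n14302 := (c24_8 F34965 (iv D11168) F12753 F6229 D4906 D9901 D11963 D15798 (iv D14302) D14304 (iv F34948) F24895 (iv F24648) F32663 (iv F24642))
theorem F34966 : act 0 n14302 = n15771 := (sb E10048 F27333)
theorem F34967 : act 4 n14302 = n11971 := (sb E10048 F27334)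
theorem F34968 : act 5 n14302 = n11963 := (sb E10048 (iv D15798))
theorem F34969 : act 6 n14302 = n15769 := (sb E10048 F27335)
theorem F34970 : act 5 n15791 = n15819 := d16_2 F34968 (iv F27321) F27355
theorem E10049 : n15818 = n14299 := (c8_2 F34967 D15818 F24959 D14302)
theorem F34971 : act 1 n14299 = n11971 := (sb E10049 (iv D15818))
theorem E10050 : n14296 = n14118 := ((c24_8 D9905 D11971 (iv F34971) (iv F34956) (iv D14255) F19767 (iv F19583) (iv F32663) (iv D14296) (iv D11171) (iv D8547) (iv D4106) F3134 D2363 D4907)).symm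
theorem F34972 : act 1 n14118 = n11171 := (sb E10050 (iv D14296))
theorem F34973 : act 3 n14118 = n15924 := (sb E10050 (iv F27522))
theorem F34974 : act 0 n15924 = n15705 := d2_1 F34973 (iv D15705) (iv F32662)
theorem F34975 : act 2 n15924 = n15890 := d11_1 F34973 (iv F34923) (iv D14175) F32817 F12403 (iv F17564) D11919 D15705 (iv F27378) (iv D15833) (iv D11980) F17611 F15877 F32653 D14118
theorem F34976 : act 5 n15924 = n14122 := d16_2 (iv F32663) F34973 (iv D14122)
theorem F34977 : act 6 n15924 = n14259 := d17_2 (iv F24648) F34973 (iv D14259)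
theorem F34978 : act 1 n14259 = n15824 := d10_1 F34977 (iv D15824) F21129 D12031 D15924
theorem F34979 : act 1 n14122 = n18489 := d24_2 (iv F34977) F34976 F33081 (iv D14288) F19790 F12755 D9900 D11960 D15791 F34970 (iv D15819) (iv F27352) (iv F27364) (iv F34978)
theorem F34980 : act 2 n15824 = n18484 := d6_2 (iv F33030) F34978 (iv D18484) (iv F33069) (iv F34927)
theorem F34981 : act 1 n14666 = n17336 := d23_10 (iv F32578) D14118 F34972 (iv F19796) (iv D11172) (iv F19623) F34495 (iv D11364) D11366 (iv F25604) F30405 (iv D12821) (iv F22430) (iv D12812) (iv F22420) F32608 (iv D11914) (iv F32579) (iv D11063)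
theorem F34982 : act 3 n18341 = n14666 := d7_0 F34981 F30406 (iv F32409)
theorem F34983 : act 4 n17336 = n14706 := d8_2 (iv F25605) F34981 (iv D14706)
theorem F34984 : act 1 n17342 = n17418 := d10_3 (iv F34504) F34981 (iv F30418) (iv D17418) F22519
theorem F34985 : act 1 n17419 = n18491 := d0_2 F34984 (iv F30539) (iv D18491) (iv D13500) F19094 D13496 D18485 F33223 (iv F30416)
theorem F34986 : act 1 n17297 = n17206 := d7_3 (iv F30417) F34984 F30537
theorem F34987 : act 1 n17414 = n14656 := d9_3 D17342 F34984 F30538 F28958 (iv F22444)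
theorem E10051 : n17411 = n14642 := ((c24_14 D17414 (iv F30538) (iv F34984) F30418 (iv D17336) (iv F32403) F25570 (iv D14639) (iv D11353) (iv D9075) D9074 D11352 D14636 (iv F25559) (iv D17411))).symm
theorem F34988 : act 1 n14642 = n12859 := (sb E10051 (iv D17411))
theorem E10052 : n17290 = n13394 := (((F25558).symm.trans (sb E10051 F30526))).symm
theorem E10053 : n18334 = n12792 := ((D18334).symm.trans (sb E10052 (iv D17290)))
theorem F34989 : act 1 n12792 = n13394 := (sb E10053 (iv D18334))
theorem F34990 : act 1 n18296 = n17291 := d8_3 (iv D17291) F34989 (iv F32030)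
theorem F34991 : act 1 n18330 = n17293 := d10_5 (iv D17293) F34989 (iv D13394) D13392 D18330
theorem F34992 : act 1 n17427 = n18435 := d0_6 F34990 F30326 F22391 (iv F18261) (iv F22533) (iv F30546) F32361 F23658 (iv F32029)
theorem F34993 : act 1 n17412 = n14644 := d8_3 F28810 F34988 D17412
theorem F34994 : act 1 n18559 = n15843 := d6_5 (iv F32891) F34993 F25561 (iv F23801) (iv F33208)
theorem F34995 : act 3 n18338 = n17412 := d7_0 F34993 F28809 D18338
theorem F34996 : act 6 n14683 = n17412 := d10_0 F34993 (iv D14644) F20147 D11372 D14683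
theorem F34997 : act 0 n17417 = n14683 := d5_3 F34996 F30527 D17417
theorem F34998 : act 4 n17414 = n14683 := d19_3 F34996 (iv D17412) D17414
theorem F34999 : act 0 n17415 = n18338 := d2_3 F34995 F30527 D17415
theorem E10054 : n15553 = n14678 := ((c24_8 D17418 F30538 F34987 (iv D14656) F28950 F28941 D14583 (iv F25622) (iv D15553) (iv F20954) (iv D11853) (iv F20272) (iv D11462) D11461 (iv F22519))).symm
theorem F35000 : act 1 n14678 = n11843 := (sb E10054 (iv D15553))
theorem E10055 : n15757 = n14679 := (c6_5 (iv F25621) F35000 F20938 D11945 D15757 (iv D14679))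
theorem F35001 : act 2 n14679 = n11945 := (sb E10055 (iv D15757))
theorem F35002 : act 1 n15551 = n14852 := d8_3 (iv F29224) F35000 (iv F27011)
theorem F35003 : act 1 n15545 = n14583 := d9_5 (iv F25622) F35000 (iv D11843) D11840 D15545
theorem E10056 : n15571 = n15485 := (c10_4 D14678 F35000 (iv F20954) D15571 (iv D15485) F28954)
theorem F35004 : act 1 n15485 = n11853 := (sb E10056 (iv D15571))
theorem E10057 : n15783 = n15641 := (c6_5 (iv F26888) F35004 F20953 D11957 D15783 (iv D15641))
theorem F35005 : act 2 n15641 = n11957 := (sb E10057 (iv D15783))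
theorem E10058 : n15566 = n15488 := (c8_3 (iv F26889) F35004 (iv F27036) (iv D15488))
theorem F35006 : act 0 n15488 = n15565 := (sb E10058 F27034)
theorem F35007 : act 2 n15488 = n11952 := (sb E10058 F27035)
theorem F35008 : act 4 n15488 = n11853 := (sb E10058 F27036)
theorem F35009 : act 5 n15488 = n11850 := (sb E10058 (iv D15566))
theorem F35010 : act 6 n15488 = n15551 := (sb E10058 F27037)
theorem F35011 : act 1 n14880 = n15473 := d9_5 (iv F26890) F35004 (iv D11853) (iv F20272) D14880
theorem F35012 : act 4 n14701 = n14880 := d8_0 F35011 F26873 (iv F34469)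
theorem F35013 : act 4 n14870 = n14591 := d19_3 (iv F25648) F35012 F25854
theorem E10059 : n15773 = n15647 := (c6_2 F35007 D15773 (iv D15647) (iv D11892) (iv F20862) D15488)
theorem F35014 : act 1 n15647 = n11952 := (sb E10059 (iv D15773))
theorem F35015 : act 4 n15647 = n11957 := (sb E10059 F27303)
theorem F35016 : act 3 n15754 = n15647 := d7_0 F35014 (iv F34216) D15754
theorem F35017 : act 4 n15736 = n15728 := d15_4 (iv F27284) F35016 F35015 (iv F27262) F27246
theorem F35018 : act 1 n19041 = n15388 := d7_3 (iv F26997) F35003 (iv F34150)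
theorem F35019 : act 2 n15392 = n19042 := d6_4 (iv F34149) F35018 F26748 D15392 (iv D19042)
theorem F35020 : act 5 n19042 = n15401 := d13_2 (iv F26753) F35019 (iv D15401)
theorem F35021 : act 5 n15575 = n19025 := d9_2 F35020 (iv F27048) (iv D19025) (iv F24342) D19042
theorem F35022 : act 2 n19025 = n15558 := d13_1 F35021 F27020 D15575
theorem F35023 : act 0 n18567 = n15575 := d22_4 F35021 F34093 D19028 (iv F34125)
theorem F35024 : act 6 n13986 = n15575 := d24_0 F35021 (iv D19025) (iv D13842) F19438 (iv D8191) (iv F5983) (iv D3916) D3915 F5981 D3923 D8216 D10994 (iv F19496) D13986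
theorem F35025 : act 0 n13986 = n19028 := d22_4 (iv D19028) (iv F34093) (iv F35021) (iv F35024)
theorem F35026 : act 5 n19026 = n13986 := d4_0 F35025 (iv D19028) D19026
theorem E10060 : n15401 = n13982 := (c10_2 F35024 F27048 (iv D13982) (iv D10996) D10998 D13986)
theorem F35027 : act 1 n13982 = n15575 := (sb E10060 (iv F27048))
theorem F35028 : act 2 n13982 = n11764 := (sb E10060 (iv D15401))
theorem F35029 : act 5 n13982 = n19042 := (sb E10060 (iv F35020))
theorem F35030 : act 2 n15576 = n13986 := d14_3 F35024 (iv D15575) D15576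
theorem F35031 : act 0 n18561 = n15576 := d1_3 F35030 F35025 F34124
theorem F35032 : act 1 n13985 = n17438 := d6_3 F35030 (iv D13986) (iv F24476) F30562 (iv F27049)
theorem E10061 : n17283 = n13983 := (c10_5 D13985 F35032 (iv D17438) F22532 D17283 (iv D13983))
theorem F35033 : act 2 n13983 = n12789 := (sb E10061 F30316)
theorem F35034 : act 6 n13983 = n12786 := (sb E10061 (iv D17283))
theorem F35035 : act 6 n17281 = n18897 := d19_2 F35034 D17281 F33828
theorem F35036 : act 2 n18897 = n17285 := d14_1 F35035 (iv D17285) (iv F30314)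
theorem F35037 : act 1 n17285 = n18894 := d6_1 F35036 (iv D18894) (iv D13750) D13751 D18897
theorem E10062 : n15402 = n13980 := ((c8_3 (iv F30319) F35037 F33825 F26762)).symm
theorem F35038 : act 1 n13980 = n12789 := (sb E10062 F26762)
theorem F35039 : act 3 n13980 = n11766 := (sb E10062 F26763)
theorem F35040 : act 6 n13980 = n11764 := (sb E10062 (iv D15402))
theorem F35041 : act 6 n18894 = n15399 := d10_2 D17285 F35037 (iv D15399) F20793 (iv F22384)
theorem F35042 : act 2 n15399 = n18896 := d14_1 F35041 (iv D18896) D18894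
theorem F35043 : act 6 n15400 = n18661 := d5_2 F35040 D15400 (iv F34139)
theorem F35044 : act 3 n18661 = n15404 := d17_1 F35043 (iv D15404) (iv F26761)
theorem F35045 : act 1 n15404 = n18658 := d7_1 F35044 F33383 D18661
theorem F35046 : act 0 n14065 = n17279 := d0_5 F35045 (iv D18658) (iv D13613) (iv F19539) D14065 (iv D17279) F22383 (iv F20795) (iv F26764)
theorem F35047 : act 3 n17279 = n14073 := d2_2 (iv F24566) F35046 (iv D14073)
theorem F35048 : act 1 n14073 = n17277 := d7_1 F35047 F30309 D17279
theorem E10063 : n15584 = n15492 := (c2_4 (iv F33212) F35031 F27050 (iv F27059))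
theorem F35049 : act 0 n15492 = n11862 := (sb E10063 F27059)
theorem F35050 : act 5 n15492 = n15569 := (sb E10063 F27060)
theorem E10064 : n18535 = n11860 := (((iv F33161)).symm.trans (sb E10063 (iv D15584)))
theorem E10065 : n15582 = n13527 := ((D15582).symm.trans (sb E10064 (iv D18535)))
theorem E10066 : n15574 = n13552 := (((iv F27047)).symm.trans (sb E10064 F33160))
theorem F35051 : act 6 n11860 = n15492 := (sb E10064 F33161)
theorem F35052 : act 1 n13527 = n11860 := (sb E10065 (iv D15582))
theorem E10067 : n18566 = n11856 := ((D18566).symm.trans (sb E10066 (iv D15574)))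
theorem F35053 : act 3 n13552 = n11860 := (sb E10066 F27047)
theorem F35054 : act 0 n11856 = n13552 := (sb E10067 (iv D18566))
theorem F35055 : act 6 n19027 = n15558 := d22_1 F34121 F27020 D15576 (iv F35031)
theorem F35056 : act 3 n15569 = n19027 := d17_3 F35055 F27019 D15569
theorem F35057 : act 0 n15558 = n18568 := d22_4 (iv D18568) (iv F33213) F34121 F35055
theorem F35058 : act 3 n18568 = n15567 := d2_2 (iv F27019) F35057 (iv D15567)
theorem F35059 : act 1 n15491 = n15569 := d7_3 F35056 (iv F34119) (iv F34122)
theorem F35060 : act 1 n15587 = n18525 := d0_2 F35059 (iv F27064) (iv D18525) (iv D13520) (iv F19109) D13524 D18532 (iv F33204) F26923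
theorem F35061 : act 4 n18540 = n15587 := d8_0 F35060 F33131 D18540
theorem E10068 : n18574 = n15418 := (c0_7 D11856 F35054 (iv D13552) F19121 D10775 D13558 D18574 (iv D15418) (iv D11773) (iv F14587))
theorem F35062 : act 1 n15418 = n13558 := (sb E10068 (iv D18574))
theorem F35063 : act 0 n18403 = n15573 := d3_3 F27046 F35054 (iv F32302)
theorem F35064 : act 1 n18537 = n15537 := d7_3 F26983 F35062 (iv F33162)
theorem F35065 : act 1 n15579 = n18523 := d8_3 F33125 F35052 (iv F27053)
theorem E10069 : n18517 = n17298 := (c0_9 F34986 F30192 F33222 (iv D13506) (iv D10753) (iv F11508) D10757 D13514 D18517 F30333)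
theorem F35066 : act 1 n17298 = n13514 := (sb E10069 (iv D18517))
theorem F35067 : act 6 n18341 = n14874 := d10_4 D17297 F34986 F30193 (iv F32409) F25844
theorem E10070 : n18342 = n14868 := (c22_4 D14874 (iv F35067) (iv D18341) D18342 F25838)
theorem F35068 : act 1 n14868 = n13855 := (sb E10070 F34160)
theorem F35069 : act 6 n14868 = n13398 := (sb E10070 (iv D18342))
theorem E10071 : n18599 = n15210 := ((c25_41 D3765 (iv F11591) (iv F19204) (iv F34518) (iv F34540) (iv F32103) (iv F32101) F24704 F32101 (iv F34567) (iv D14619) D14620 F34454 F23501 D13855 (iv F35068) (iv D14868) (iv F34507) F20094 D11326 F20112 (iv F34739) D12384 D16604 F34764 (iv F29384) F34841 (iv D18344) (iv D13399) (iv F20149) F34484 (iv D11353) F13589 F16108 (iv F13589) F16027 D9083 (iv F19999) (iv F34709) (iv F20638) D15210 F33276 (iv D13573) (iv D10781) (iv F19117) (iv F32085) F19790 (iv D8549) F6228 F3135 (iv F15756) (iv F1931) (iv D1133) (iv D567) (iv D286) (iv F553) D545 F1028 F16504 F351 (iv F16504) (iv D324) (iv D161) F154 F83 F55 F34 F33 (iv F55) (iv F83) (iv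 F154) (iv F273) D276 F553 D286 D567 (iv F16447) (iv F2939))).symm
theorem F35070 : act 1 n15210 = n13573 := (sb E10071 F33276)
theorem F35071 : act 3 n15210 = n13572 := (sb E10071 (iv D18599))
theorem E10072 : n18340 = n15212 := (c2_2 F35071 (iv F32168) (iv D15212) (iv F26492))
theorem F35072 : act 0 n15212 = n13572 := (sb E10072 F32168)
theorem F35073 : act 2 n15212 = n13398 := (sb E10072 (iv D18340))
theorem F35074 : act 3 n18600 = n16791 := d16_3 F29615 F35071 D18600
theorem F35075 : act 3 n14872 = n16602 := d17_3 F29329 F35071 (iv F34631)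
theorem E10073 : n17241 = n16602 := ((c7_1 F35075 (iv D17241) F34609 (iv F25842))).symm
theorem F35076 : act 1 n16602 = n12767 := (sb E10073 (iv D17241))
theorem F35077 : act 4 n16986 = n16537 := d25_0 F28711 F25144 F19935 F14268 D9549 F14273 D10115 D12385 (iv F34791) F17985 (iv D10127) (iv D5507) (iv F7046) D9555 (iv F20112) (iv F34730) D16602 (iv F35075) (iv D14872) F20270 (iv D9180) (iv D4439) (iv D2130) (iv D1044) (iv D526) F538 (iv F535) F534 F535 (iv F472) D455 (iv F1582) (iv F16675) F1636 D952 F16670 D1941 F16514 (iv D3763) (iv D1813) F16672 (iv F16674) (iv D923) F900 D480 F916 D494 (iv F15743) (iv D301) (iv D146) (iv D65) (iv F138) F137 (iv F280) (iv F559) (iv F1035) D1091 F1885 D1297 D2677 D5556 F17457 D10241 F18094 (iv D9592) (iv D4641) D4640 F7067 D5549 D10224 F23446 (iv F34766) F34767 F18076 D10231 D12626 D16986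
theorem F35078 : act 0 n16563 = n16986 := d3_3 F35077 F28709 (iv F28758)
theorem F35079 : act 1 n16537 = n16988 := d8_1 F35077 (iv D16988) D16986
theorem F35080 : act 6 n16535 = n16986 := d19_0 F35077 (iv D16537) D16535
theorem F35081 : act 1 n15891 = n14392 := d7_3 (iv F28711) F35079 F29918
theorem F35082 : act 2 n14399 = n15913 := d6_4 (iv F27467) F35081 F25144 D14399 (iv D15913)
theorem F35083 : act 6 n18473 = n15891 := d10_0 F35081 (iv D14392) F19929 D13484 D18473
theorem F35084 : act 0 n15721 = n18473 := d5_3 F35083 (iv D15891) (iv F34361)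
theorem F35085 : act 2 n15720 = n18473 := d14_3 F35083 F27467 (iv F34352)
theorem E10074 : n15919 = n11238 := (c12_4 (iv F25160) F35082 F27506 D15919)
theorem E10075 : n14406 = n12028 := ((D14406).symm.trans (sb E10074 (iv D15919)))
theorem F35086 : act 2 n12028 = n11238 := (sb E10075 (iv D14406))
theorem E10076 : n15921 = n11252 := ((D15921).symm.trans (sb E10075 F25173))
theorem E10077 : n14281 = n14279 := ((((iv F32090)).symm.trans (sb E10076 F27519))).symm
theorem F35087 : act 6 n11252 = n12028 := (sb E10076 (iv D15921))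
theorem F35088 : act 6 n14279 = n11163 := (sb E10077 (iv D14281))
theorem F35089 : act 6 n15913 = n14423 := d14_2 (iv F25161) F35082 (iv D14423)
theorem E10078 : n16631 = n14422 := (c21_8 D14423 F32107 (iv F35082) F25159 F34765 F20605 D12405 D16631 (iv D14422))
theorem F35090 : act 3 n14422 = n12405 := (sb E10078 (iv D16631))
theorem E10079 : n16015 = n14362 := (c15_3 (iv F25185) F35090 (iv F27691) F25097 F19913 (iv F19957))
theorem F35091 : act 2 n14362 = n12077 := (sb E10079 (iv D16015))
theorem F35092 : act 4 n14362 = n12405 := (sb E10079 F27691)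
theorem F35093 : act 6 n15918 = n14432 := d5_2 F35087 D15918 F25200
theorem F35094 : act 2 n14148 = n15918 := d14_3 F35093 (iv D14432) (iv F34870)
theorem E10080 : n14278 = n14277 := ((c6_2 F35094 F27516 (iv D14278) (iv D11163) (iv F19618) D14148)).symm
theorem F35095 : act 2 n14277 = n11163 := (sb E10080 (iv D14278))
theorem F35096 : act 2 n14407 = n15920 := d13_3 (iv D15920) F35086 D14407
theorem F35097 : act 3 n13950 = n16546 := d25_70 F25160 F19941 F17253 (iv F19941) (iv F35086) (iv D12028) F17670 (iv F19618) D14149 (iv F34823) F34826 (iv F34824) (iv D15902) (iv D12019) F17662 (iv D5109) F15769 (iv D1966) (iv D965) (iv D487) (iv D245) F237 (iv F479) (iv F905) (iv F1640) D1883 (iv F5872) (iv F11953) D10857 F21629 (iv F23438) (iv D11566) D11567 D15069 F26252 (iv D15028) F20461 (iv D11546) (iv D9329) F6882 D4520 F6889 D4531 (iv F16766) (iv D8952) (iv D4321) (iv D2074) F1776 F986 (iv F1776) (iv F3290) D4314 F6573 (iv F6709) D9090 D11381 F34453 D19029 F34568 (iv D13879) (iv F23509) (iv F34624) F28590 F34625 (iv D12753) (iv F21714) (iv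 F28391) F28390 (iv F34641) (iv F24436) (iv D16546) (iv D12349) (iv F21796) (iv F28710) F28711 F25144 D14399
theorem F35098 : act 1 n16552 = n13950 := d7_3 F35097 F28722 D16552
theorem F35099 : act 6 n16546 = n13948 := d17_2 D13950 F35097 (iv D13948)
theorem F35100 : act 0 n16546 = n17028 := d21_8 (iv D17028) (iv D12647) F18096 (iv F17855) (iv F21631) (iv F34641) (iv F24436) F35097
theorem E10081 : n17028 = n15386 := (c0_2 (iv F28722) F35100 (iv D15386) F20780 (iv F18166) (iv F22360) (iv F35076) F29328 (iv F28730) F28729)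
theorem F35101 : act 0 n15386 = n16546 := (sb E10081 (iv F35100))
theorem F35102 : act 2 n15386 = n12647 := (sb E10081 (iv D17028))
theorem F35103 : act 2 n13948 = n14335 := d14_1 F35099 F25030 D16546
theorem F35104 : act 1 n14385 = n13948 := d6_5 F35103 (iv D14335) F19859 D11229 D14385
theorem F35105 : act 3 n14335 = n16731 := d21_3 D10981 D13948 F35103 F29526 (iv F27909) F34649 F23523 (iv D10980)
theorem F35106 : act 1 n16731 = n14333 := d7_1 F35105 F25027 D14335
theorem F35107 : act 3 n17031 = n16590 := d16_3 F29306 F35105 (iv F29977)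
theorem E10082 : n16738 = n16578 := ((c2_3 F35107 (iv D16590) (iv F28784) (iv F29974))).symm
theorem F35108 : act 0 n16578 = n17031 := (sb E10082 (iv F29974))
theorem F35109 : act 2 n16578 = n12473 := (sb E10082 F29540)
theorem F35110 : act 4 n16578 = n12472 := (sb E10082 F29541)
theorem F35111 : act 5 n16578 = n12471 := (sb E10082 (iv D16738))
theorem F35112 : act 6 n16578 = n17006 := (sb E10082 (iv F29941))
theorem F35113 : act 6 n16590 = n17029 := d17_2 D17031 F35107 F29971
theorem F35114 : act 0 n17029 = n16547 := d5_1 F35113 (iv F28725) D16590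
theorem F35115 : act 3 n16547 = n17006 := d2_2 (iv F29971) F35114 F29938
theorem F35116 : act 1 n17006 = n16814 := d7_1 F35115 F29662 (iv F28723)
theorem F35117 : act 2 n16816 = n17008 := d6_4 (iv F29939) F35116 F29661 D16816 (iv D17008)
theorem E10083 : n16734 = n16577 := (c24_7 (iv F29270) (iv F29664) (iv F35116) (iv F35112) F35111 (iv F29532) F29534 (iv D16577) (iv D12365) (iv D10105) D10104 D12363 D16573 F28778 F29269)
theorem F35118 : act 1 n16577 = n12471 := (sb E10083 F29532)
theorem F35119 : act 4 n16577 = n12469 := (sb E10083 (iv D16734))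
theorem E10084 : n16732 = n12469 := (c3_2 F35119 D16732 (iv F35119) F29296)
theorem F35120 : act 0 n12469 = n12469 := (sb E10084 (iv D16732))
theorem E10085 : n16735 = n16570 := (c18_3 D16577 F35119 D16735 F28769)
theorem F35121 : act 5 n16570 = n12469 := (sb E10085 (iv D16735))
theorem E10086 : n16739 = n16571 := (c9_4 F35121 (iv D12469) D12472 D16739 (iv D16571) D16570)
theorem F35122 : act 1 n16571 = n12472 := (sb E10086 (iv D16739))
theorem F35123 : act 5 n17034 = n16843 := d24_7 F28770 F35121 (iv D12469) F18009 D10243 D12649 D17034 (iv D16843) F22034 F21884 D12521 F28859 (iv D16571) D16570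
theorem F35124 : act 1 n16842 = n17034 := d9_5 F35123 (iv D16843) (iv D12539) D12538 D16842
theorem F35125 : act 0 n16843 = n17034 := d22_4 F35123 (iv F31763) F31762 F31763
theorem E10087 : n18167 = n17032 := (c22_4 F22204 D17034 F35123 (iv F31763) (iv D17032))
theorem F35126 : act 1 n17032 = n13297 := (sb E10087 (iv D18167))
theorem F35127 : act 3 n17032 = n13299 := (sb E10087 F31761)
theorem F35128 : act 6 n17032 = n16843 := (sb E10087 F31763)
theorem E10088 : n18171 = n17027 := (c2_2 F35127 D18171 F29969 D17032)
theorem F35129 : act 0 n17027 = n13299 := (sb E10088 (iv D18171))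
theorem E10089 : n18168 = n16836 := (c0_6 D17027 F35129 (iv D13299) F18889 D13298 D18168 (iv D16836) F22025 F34438 (iv F22198))
theorem F35130 : act 0 n16836 = n13298 := (sb E10089 (iv D18168))
theorem E10090 : n18166 = n16840 := (c2_3 (iv F29692) F35130 (iv F31759) (iv D16840))
theorem F35131 : act 1 n16840 = n13296 := (sb E10090 (iv D18166))
theorem F35132 : act 3 n16840 = n13298 := (sb E10090 F31759)
theorem F35133 : act 5 n17035 = n16840 := d9_0 F35131 F23357 F34450 (iv F22207) D17035
theorem F35134 : act 6 n16842 = n17035 := d24_0 F35133 F35131 (iv D13296) (iv D10641) F10128 F17210 F15647 (iv F10128) D10642 D13297 (iv F35126) F35128 (iv F35123) (iv F35124)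
theorem F35135 : act 0 n17035 = n16842 := d22_4 (iv D16842) F22031 D16842 F35134
theorem F35136 : act 3 n18170 = n17035 := d16_3 F35133 F35132 D18170
theorem F35137 : act 1 n15304 = n15262 := d7_3 (iv F29257) F35122 (iv F26650)
theorem F35138 : act 2 n15356 = n15310 := d6_4 (iv F26649) F35137 F26571 D15356 (iv D15310)
theorem F35139 : act 6 n15310 = n15361 := d14_2 (iv F26711) F35138 (iv D15361)
theorem E10091 : n15270 = n11715 := (c10_3 F35139 F26719 (iv F26585) (iv D11715) D11716 D15310)
theorem E10092 : n15308 = n11683 := ((D15308).symm.trans (sb E10091 (iv D15270)))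
theorem E10093 : n15309 = n11747 := ((D15309).symm.trans (sb E10091 F26585))
theorem F35140 : act 2 n11683 = n11715 := (sb E10092 (iv D15308))
theorem E10094 : n15271 = n11776 := ((D15271).symm.trans (sb E10092 F26659))
theorem E10095 : n15429 = n15367 := ((((iv F26726)).symm.trans (sb E10093 (iv F26795)))).symm
theorem E10096 : n15369 = n11718 := ((D15369).symm.trans (sb E10093 F26660))
theorem E10097 : n15426 = n15370 := (((D15370).symm.trans (sb E10093 (iv F26793)))).symm
theorem F35141 : act 6 n11747 = n11715 := (sb E10093 (iv D15309))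
theorem E10098 : n15425 = n15371 := (((iv F26790)).symm.trans (sb E10094 (iv F26731)))
theorem E10099 : n15427 = n11686 := ((D15427).symm.trans (sb E10094 F26586))
theorem F35142 : act 5 n11776 = n11683 := (sb E10094 (iv D15271))
theorem E10100 : n15428 = n14019 := ((D15428).symm.trans (sb E10094 (iv F29218)))
theorem F35143 : act 3 n15367 = n11780 := (sb E10095 F26796)
theorem F35144 : act 5 n15367 = n11777 := (sb E10095 (iv D15429))
theorem F35145 : act 6 n15367 = n15307 := (sb E10095 F26797)
theorem F35146 : act 3 n11718 = n11747 := (sb E10096 (iv D15369))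
theorem F35147 : act 0 n15370 = n11777 := (sb E10097 F26791)
theorem F35148 : act 3 n15370 = n11779 := (sb E10097 F26792)
theorem F35149 : act 6 n15370 = n11775 := (sb E10097 (iv D15426))
theorem F35150 : act 0 n15371 = n11776 := (sb E10098 F26790)
theorem F35151 : act 2 n15371 = n11775 := (sb E10098 (iv D15425))
theorem F35152 : act 3 n11686 = n11776 := (sb E10099 (iv D15427))
theorem F35153 : act 2 n14019 = n11777 := (sb E10100 F26794)
theorem F35154 : act 6 n14019 = n11776 := (sb E10100 (iv D15428))
theorem F35155 : act 3 n15361 = n15312 := d17_1 F35139 F26662 (iv F26661)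
theorem F35156 : act 6 n15422 = n18923 := d19_2 F35154 (iv F26786) F33886
theorem F35157 : act 2 n18923 = n15423 := d14_1 F35156 (iv D15423) D15422
theorem F35158 : act 5 n15267 = n15422 := d22_2 (iv D15365) (iv F26579) F35156 F33885
theorem F35159 : act 2 n15305 = n15267 := d13_3 F35158 (iv D15422) (iv F26653)
theorem F35160 : act 1 n15264 = n15302 := d6_3 F35159 (iv D15267) (iv F26572) F26646 D15305
theorem F35161 : act 6 n15364 = n15305 := d14_0 F35159 F26579 D15364
theorem F35162 : act 1 n17133 = n18924 := d6_3 F35157 F26787 (iv F30090) (iv D18924) D18923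
theorem E10101 : n17134 = n14020 := ((c8_3 (iv F30091) F35162 F33889 (iv D17134))).symm
theorem F35163 : act 1 n14020 = n12702 := (sb E10101 (iv D17134))
theorem F35164 : act 2 n15269 = n15307 := d11_13 (iv F29216) F35153 F20803 F17428 (iv F20695) F35140 F20733 F17427 (iv F20770) (iv F26730) F35148 F20805 (iv F26583) F26657 (iv F20772)
theorem F35165 : act 3 n15419 = n15274 := d7_2 F35152 (iv F26783) (iv D15274)
theorem F35166 : act 5 n15272 = n15419 := d16_0 F35165 F26588 (iv F26587)
theorem F35167 : act 2 n15413 = n15272 := d13_3 F35166 (iv D15419) (iv F26774)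
theorem F35168 : act 0 n16733 = n16733 := d2_3 (iv D16733) F35120 D16733
theorem E10102 : n17010 = n12525 := (c12_4 (iv F29666) F35117 F29943 D17010)
theorem E10103 : n16818 = n12637 := ((D16818).symm.trans (sb E10102 (iv D17010)))
theorem F35169 : act 2 n12637 = n12525 := (sb E10103 (iv D16818))
theorem F35170 : act 2 n16817 = n17009 := d1_2 F35169 D16817 (iv D17009)
theorem F35171 : act 2 n16819 = n16993 := d13_3 F29924 F35169 D16819
theorem F35172 : act 2 n16809 = n17011 := d14_3 (iv D17011) F35169 (iv F29653)
theorem F35173 : act 3 n13947 = n14385 := d7_0 F35104 (iv D13948) D13947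
theorem F35174 : act 0 n14385 = n13955 := d2_1 F35173 (iv D13955) (iv F24443)
theorem F35175 : act 2 n19045 = n16552 := d6_0 F35098 F24436 (iv F24369) (iv F34662) (iv F34155)
theorem F35176 : act 0 n16552 = n19046 := d1_1 F35175 (iv D19046) D19045
theorem F35177 : act 3 n19046 = n16551 := d2_2 D16552 F35176 F28729
theorem F35178 : act 0 n15220 = n15211 := d0_7 F35070 F23823 F19133 (iv F19149) (iv F34737) (iv F23442) (iv F26504) (iv D15211) (iv F26492)
theorem F35179 : act 1 n14769 = n15155 := d6_3 D15210 F35070 F34552 F34776 (iv F22077)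
theorem F35180 : act 0 n14374 = n14056 := d0_5 F35179 (iv D15155) (iv D11610) (iv F19921) D14374 F32103 F24709 F34529 (iv F25716)
theorem F35181 : act 2 n15217 = n15220 := d1_0 F35178 F26493 D15217
theorem F35182 : act 6 n15211 = n15217 := d5_2 D15220 F35178 (iv D15217)
theorem F35183 : act 1 n15217 = n16954 := d10_1 F35182 F29865 F28730 (iv D15214) D15211
theorem F35184 : act 0 n14706 = n17339 := d3_1 F34983 F30411 (iv F30405)
theorem F35185 : act 5 n14706 = n17335 := d18_2 D17336 F34983 (iv D17335)
theorem F35186 : act 2 n14284 = n14115 := d13_1 F34964 (iv D14115) D14114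
theorem F35187 : act 4 n14115 = n14152 := d12_2 (iv F24944) F35186 F24718
theorem F35188 : act 6 n14115 = n14150 := d14_2 D14284 F35186 F24714
theorem F35189 : act 2 n14113 = n14292 := d11_7 F34962 F33079 F23745 (iv F23759) (iv F34524) F25718 (iv F29196) (iv F34260) F34259 F23797 (iv F23831) (iv F34550) F30247 F24632 D14114
theorem F35190 : act 4 n14162 = n14113 := d12_0 F35189 F24953 (iv F24732)
theorem F35191 : act 0 n14806 = n14059 := d5_3 F34885 (iv D14803) D14806
theorem F35192 : act 6 n14754 = n18691 := d10_2 F34885 F25747 (iv D18691) F23942 D14059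
theorem F35193 : act 2 n15433 = n14059 := d14_3 F34885 F29202 D15433
theorem F35194 : act 1 n14063 = n15433 := d6_5 F35193 (iv D14059) F19535 D11036 D14063
theorem F35195 : act 6 n15434 = n14063 := d10_0 F35194 (iv D15433) (iv D11778) D11779 D15434
theorem F35196 : act 2 n14064 = n15434 := d14_3 F35195 (iv D14063) D14064
theorem F35197 : act 0 n18691 = n14757 := d5_1 F35192 (iv D14757) D14754
theorem F35198 : act 2 n18691 = n15375 := d14_1 F35192 (iv D15375) (iv F29201)
theorem F35199 : act 3 n14757 = n18692 := d2_2 (iv F33448) F35197 (iv D18692)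
theorem F35200 : act 6 n18692 = n14689 := d17_2 D14757 F35199 F25633
theorem F35201 : act 5 n18697 = n18692 := d22_2 F34880 D18697 F35200 (iv F34877)
theorem F35202 : act 6 n18686 = n18694 := d20_6 (iv F35200) (iv F35201) (iv D18697) (iv F34880) (iv D18693) (iv F33434) (iv F33452)
theorem F35203 : act 0 n18697 = n18686 := d5_3 F35202 (iv D18694) D18697
theorem F35204 : act 3 n18669 = n14806 := d2_0 F35191 F24559 D18669
theorem F35205 : act 2 n17312 = n17390 := d6_2 F34882 (iv F30363) F30488 (iv F34878) (iv F34881)
theorem F35206 : act 5 n14864 = n17333 := d13_2 D18668 F34882 F30402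
theorem F35207 : act 5 n17384 = n17312 := d9_4 F35206 (iv D17333) (iv F22488) D17384 F30363
theorem F35208 : act 4 n17649 = n14864 := d18_3 F35206 F32687 D17649
theorem F35209 : act 6 n14134 = n17649 := d19_0 F35208 (iv D14864) (iv F32939)
theorem F35210 : act 6 n17390 = n17303 := d14_2 D17312 F35205 F30351
theorem F35211 : act 6 n17409 = n14890 := d10_4 F35210 (iv D17303) F22508 D17409 (iv F30488)
theorem F35212 : act 4 n14890 = n17824 := d19_1 F35211 (iv D17824) (iv F32796)
theorem F35213 : act 5 n17824 = n14191 := d18_2 D14890 F35212 F32712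
theorem F35214 : act 0 n14054 = n14346 := d3_3 F25054 F34864 D14054
theorem F35215 : act 0 n14055 = n14386 := d4_3 (iv D14386) F34864 D14055
theorem F35216 : act 0 n16698 = n16747 := d2_3 (iv D16747) F34862 (iv F29486)
theorem F35217 : act 0 n16113 = n16138 := d3_3 F27925 F34862 (iv F27872)
theorem F35218 : act 0 n16701 = n16748 := d5_3 (iv D16748) F34862 D16701
theorem F35219 : act 5 n16701 = n16748 := d22_2 F21916 D16701 (iv D16748) F34862
theorem E10104 : n16985 = n16588 := (c24_10 D16651 F34861 (iv F22190) (iv D12640) (iv F22174) (iv D12630) D12631 F22175 D16985 F29912 (iv D16588) F21819 F17974 D10128 D12415)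
theorem F35220 : act 1 n16588 = n12625 := (sb E10104 (iv D16985))
theorem E10105 : n16999 = n12386 := (c9_4 D16588 F35220 (iv F22175) D16999 (iv D12386) (iv F21819))
theorem E10106 : n16608 = n12631 := ((D16608).symm.trans (sb E10105 (iv D16999)))
theorem F35221 : act 1 n12631 = n12386 := (sb E10106 (iv D16608))
theorem F35222 : act 0 n18591 = n17126 := d23_7 D12373 (iv F29284) F35220 F22170 D12632 (iv F34756) (iv F33259) (iv D17126) D17125 F30083 (iv F29323) (iv D16600) (iv D12381) (iv D10113) (iv F8381) (iv D5502) (iv F8377) D10108 F29286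
theorem F35223 : act 3 n17126 = n18588 := d2_2 (iv F33260) F35222 F33237
theorem E10107 : n17124 = n13565 := (c4_4 D18591 F35222 (iv D17126) D17124)
theorem E10108 : n18587 = n12698 := (((iv F33236)).symm.trans (sb E10107 (iv D17124)))
theorem F35224 : act 0 n12698 = n13565 := (sb E10108 F33236)
theorem E10109 : n17123 = n13563 := (((iv F30082)).symm.trans (sb E10108 (iv D18587)))
theorem E10110 : n18586 = n12697 := ((D18586).symm.trans (sb E10109 (iv D17123)))
theorem F35225 : act 3 n13563 = n12698 := (sb E10109 F30082)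
theorem F35226 : act 1 n12697 = n13563 := (sb E10110 (iv D18586))
theorem E10111 : n15370 = n14066 := ((c0_7 F35226 F23815 F19128 F17170 D8255 D11038 D14066 F35147 F20802 (iv F22278))).symm
theorem F35227 : act 0 n14066 = n11777 := (sb E10111 F35147)
theorem F35228 : act 2 n14066 = n11748 := (sb E10111 F26730)
theorem F35229 : act 3 n14066 = n11779 := (sb E10111 F35148)
theorem F35230 : act 5 n14066 = n11747 := (sb E10111 (iv D15370))
theorem F35231 : act 6 n14066 = n11775 := (sb E10111 F35149)
theorem F35232 : act 1 n18583 = n16881 := d6_5 F29772 F35226 (iv D13563) D13562 D18583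
theorem F35233 : act 1 n18413 = n17122 := d8_3 F30080 F35226 (iv F32320)
theorem F35234 : act 1 n18575 = n17118 := d10_3 D12697 F35226 (iv F33229) (iv D17118) F22276
theorem F35235 : act 3 n17120 = n18575 := d7_0 F35234 F30074 D17120
theorem F35236 : act 0 n18576 = n17120 := d2_3 F35235 F33228 D18576
theorem F35237 : act 0 n15423 = n18963 := d0_3 F35233 F30079 (iv F26787) (iv D18963) (iv D13786) (iv D10896) (iv F19054) (iv F23637) (iv F32319)
theorem F35238 : act 2 n18963 = n15365 := d1_2 F35157 F35237 (iv F33885)
theorem F35239 : act 6 n18963 = n15421 := d5_2 D15423 F35237 (iv D15421)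
theorem F35240 : act 5 n18963 = n15364 := d22_0 F35161 F26653 D15423 F35237
theorem F35241 : act 1 n16942 = n18964 := d6_3 F35238 F26723 (iv F29844) (iv D18964) D18963
theorem E10112 : n16943 = n14067 := ((c8_3 (iv F29845) F35241 F33961 (iv D16943))).symm
theorem F35242 : act 1 n14067 = n12594 := (sb E10112 (iv D16943))
theorem F35243 : act 3 n16880 = n18583 := d7_0 F35232 (iv D16881) D16880
theorem E10113 : n15434 = n14062 := (c7_2 F35229 D15434 F24564 D14066)
theorem F35244 : act 1 n14062 = n11779 := (sb E10113 (iv D15434))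
theorem F35245 : act 2 n14062 = n14064 := (sb E10113 (iv F35196))
theorem F35246 : act 6 n14062 = n14063 := (sb E10113 F35195)
theorem F35247 : act 0 n14063 = n14064 := d5_1 F35246 (iv D14064) D14062
theorem F35248 : act 3 n14063 = n14068 := d17_1 F35246 (iv D14068) (iv F24564)
theorem F35249 : act 0 n18589 = n17125 := d1_3 (iv D17125) F35224 D18589
theorem F35250 : act 0 n18590 = n16439 := d3_3 F28491 F35224 D18590
theorem F35251 : act 1 n16609 = n16960 := d6_5 F29871 F35221 F21842 D12387 D16609
theorem F35252 : act 1 n16607 = n16994 := d7_3 F29925 F35221 (iv F29334)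
theorem F35253 : act 1 n15968 = n16370 := d8_3 F28359 F35221 (iv F27615)
theorem E10114 : n16998 = n16641 := ((c10_4 D12631 F35221 (iv F21865) D16641 (iv D16998) (iv D12630))).symm
theorem F35254 : act 0 n16641 = n17017 := (sb E10114 (iv F29952))
theorem F35255 : act 5 n16641 = n17014 := (sb E10114 (iv F29949))
theorem F35256 : act 6 n16641 = n12630 := (sb E10114 (iv D16998))
theorem F35257 : act 1 n18301 = n16019 := d7_1 F34844 (iv D16019) D16018
theorem F35258 : act 4 n16019 = n18343 := d8_2 (iv F32044) F35257 (iv D18343)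
theorem F35259 : act 0 n18343 = n16023 := d3_1 F35258 (iv D16023) (iv F27697)
theorem F35260 : act 3 n18343 = n16639 := d15_1 F35258 (iv D16639) (iv D12409) (iv F21323) D16019
theorem F35261 : act 1 n16639 = n18344 := d7_1 F35260 (iv D18344) D18343
theorem F35262 : act 2 n18425 = n18954 := d14_1 F34798 (iv D18954) D18951
theorem F35263 : act 4 n18954 = n16350 := d12_2 D18425 F35262 F28314
theorem F35264 : act 6 n16350 = n18952 := d19_2 D18954 F35263 (iv D18952)
theorem F35265 : act 2 n18952 = n18377 := d14_1 F35264 F32237 (iv F28314)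
theorem F35266 : act 2 n16640 = n16649 := d1_2 F34793 (iv F29388) F29400
theorem F35267 : act 3 n15379 = n14051 := d2_2 F34784 (iv F26737) (iv F24554)
theorem F35268 : act 3 n16960 = n14045 := d17_3 (iv F24555) F34784 D16960
theorem F35269 : act 1 n15382 = n18950 := d0_8 F34783 (iv F26602) F26603 F20721 F14327 (iv F14386) (iv F20782) (iv F26742) F33938
theorem F35270 : act 6 n16632 = n15157 := d22_1 D16632 (iv D15157) (iv F25089) F34779
theorem F35271 : act 2 n15157 = n15168 := d14_1 F35270 F26439 (iv F29381)
theorem F35272 : act 0 n15157 = n16780 := d22_4 (iv F34777) F34778 D16632 F35270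
theorem F35273 : act 0 n16790 = n16876 := d23_7 F34777 (iv D16780) (iv D12495) F18025 D10177 (iv F21985) D16790 (iv D16876) (iv F29759) (iv D16870) (iv F29757) F29758 (iv D15160) (iv D11613) (iv F14275) (iv D9550) (iv F14268) D11610 D15155
theorem F35274 : act 5 n16874 = n16790 := d4_0 F35273 (iv D16876) D16874
theorem F35275 : act 1 n16789 = n16874 := d9_5 F35274 (iv D16790) (iv D12505) D12504 D16789
theorem F35276 : act 1 n16893 = n15207 := d7_3 F26487 F34775 D16893
theorem F35277 : act 1 n16315 = n14989 := d8_3 F26090 F34775 (iv F28245)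
theorem F35278 : act 1 n16889 = n14613 := d9_3 D11644 F34775 (iv F29781) (iv D14613) F20130
theorem F35279 : act 6 n18643 = n15218 := d10_2 F34771 D18643 F26503 F20643 (iv F20719)
theorem F35280 : act 3 n15220 = n18643 := d17_3 F35279 (iv D15218) D15220
theorem F35281 : act 2 n14943 = n14349 := d12_3 F25063 F34765 (iv F25997)
theorem F35282 : act 3 n16975 = n14074 := d7_2 F34760 D16975 F24577
theorem F35283 : act 5 n14065 = n16975 := d16_0 F35282 (iv D14074) (iv F24566)
theorem F35284 : act 2 n16128 = n14154 := d6_2 F34753 (iv F27903) F24720 F19625 (iv F24550)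
theorem F35285 : act 6 n14154 = n14486 := d14_2 D16128 F35284 F34694
theorem F35286 : act 2 n14926 = n14945 := d12_3 F26001 F34749 (iv F25961)
theorem F35287 : act 4 n14946 = n15953 := d15_4 F21288 F34739 (iv F20377) D14946 F27584
theorem F35288 : act 0 n14920 = n14946 := d3_3 F35287 (iv D15953) (iv F25948)
theorem F35289 : act 6 n14936 = n14946 := d19_0 F35287 F27585 (iv F25979)
theorem F35290 : act 2 n14454 = n16123 := d12_3 F27895 F34728 (iv F25230)
theorem F35291 : act 2 n16124 = n14492 := d1_2 F35290 (iv F27897) F25307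
theorem F35292 : act 2 n14155 = n16729 := d13_3 (iv D16729) F34727 D14155
theorem F35293 : act 3 n16710 = n14162 := d16_3 (iv D14162) F34719 D16710
theorem E10115 : n16682 = n14476 := ((c23_7 (iv D12455) F34709 (iv D11272) (iv F19902) (iv F19998) (iv F20003) D14476 F29467 (iv F26640) F26639 F20726 (iv F20659) (iv D11664) (iv F20658) (iv F22243) F22242 D12681 F22248 F18114 (iv F21922))).symm
theorem F35294 : act 0 n14476 = n12443 := (sb E10115 F29467)
theorem F35295 : act 2 n14476 = n12442 := (sb E10115 (iv D16682))
theorem F35296 : act 6 n14476 = n15283 := (sb E10115 F29468)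
theorem F35297 : act 3 n15283 = n14671 := d17_1 F35296 (iv D14671) (iv F25277)
theorem F35298 : act 4 n15283 = n14495 := d19_1 F35296 (iv D14495) (iv F25278)
theorem F35299 : act 2 n14495 = n15063 := d12_1 F35298 F26233 D15283
theorem F35300 : act 5 n14495 = n15074 := d18_2 (iv F26601) F35298 F26260
theorem F35301 : act 3 n15074 = n14539 := d16_1 F35300 (iv D14539) (iv F25313)
theorem F35302 : act 4 n14717 = n15295 := d15_4 (iv F26260) F35301 F25388 (iv F25666) (iv D15295)
theorem F35303 : act 5 n15295 = n14671 := d18_2 D14717 F35302 F25615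
theorem E10116 : n16104 = n14494 := (c14_3 D14495 F35299 F27857 (iv D14494))
theorem F35304 : act 0 n14494 = n12122 := (sb E10116 (iv D16104))
theorem E10117 : n16144 = n14484 := (((F25311).symm.trans (sb E10116 (iv F27935)))).symm
theorem F35305 : act 4 n14494 = n12442 := (sb E10116 F27856)
theorem F35306 : act 6 n14494 = n15063 := (sb E10116 (iv F27857))
theorem F35307 : act 0 n14484 = n12141 := (sb E10117 (iv D16144))
theorem F35308 : act 4 n14484 = n12482 := (sb E10117 F27936)
theorem F35309 : act 5 n14484 = n15037 := (sb E10117 F27937)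
theorem F35310 : act 2 n15037 = n14485 := d13_1 F35309 (iv D14485) D14484
theorem F35311 : act 4 n14485 = n15243 := d12_2 (iv F26179) F35310 (iv D15243)
theorem F35312 : act 6 n14485 = n15047 := d14_2 (iv F26180) F35310 (iv D15047)
theorem F35313 : act 3 n15047 = n14517 := d17_1 F35312 (iv D14517) (iv F25298)
theorem F35314 : act 4 n14694 = n15257 := d15_4 (iv F26203) F35313 F25350 (iv F25640) (iv D15257)
theorem F35315 : act 6 n15257 = n14661 := d19_2 D14694 F35314 F25596
theorem F35316 : act 3 n14661 = n15243 := d17_1 F35315 F26535 D15257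
theorem E10118 : n16757 = n14472 := (c16_3 D14661 F35316 (iv F29565) F25268)
theorem F35317 : act 0 n14472 = n12483 := (sb E10118 F29564)
theorem F35318 : act 2 n14472 = n12482 := (sb E10118 (iv D16757))
theorem F35319 : act 5 n14472 = n15243 := (sb E10118 F29565)
theorem E10119 : n16759 = n14659 := (c2_3 (iv F25268) F35317 D16759 (iv D14659))
theorem F35320 : act 3 n14659 = n12483 := (sb E10119 (iv D16759))
theorem E10120 : n16145 = n14483 := (c3_3 (iv F25269) F35317 (iv F27938) (iv D14483))
theorem F35321 : act 2 n14483 = n12141 := (sb E10120 (iv D16145))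
theorem F35322 : act 4 n14483 = n12483 := (sb E10120 F27938)
theorem E10121 : n16105 = n14493 := (c1_3 D14494 F35304 D16105 (iv D14493))
theorem F35323 : act 2 n14493 = n12122 := (sb E10121 (iv D16105))
theorem F35324 : act 4 n14493 = n12443 := (sb E10121 F27858)
theorem E10122 : n16684 = n14669 := (c15_2 F35324 D16684 F25612 F20186 (iv F20046) (iv F25310))
theorem F35325 : act 3 n14669 = n12443 := (sb E10122 (iv D16684))
theorem F35326 : act 6 n16044 = n16044 := d14_2 F34691 (iv F27746) F27746
theorem F35328 : act 6 n14954 = n14954 := d19_2 F34691 (iv F26026) F26026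
theorem E10123 : n16048 = n15990 := ((c24_12 F34691 (iv D12093) (iv D9973) (iv D5152) D5151 D9971 D12089 F23999 D16036 F27737 D16039 F27739 (iv D16048) (iv F27747) (iv D16045))).symm
theorem E10124 : n16039 = n15987 := (((iv F27739)).symm.trans (sb E10123 F27749))
theorem F35329 : act 6 n15990 = n12094 := (sb E10123 (iv D16048))
theorem F35330 : act 1 n15987 = n15990 := (sb E10124 F27739)
theorem F35331 : act 5 n15987 = n12090 := (sb E10124 (iv D16039))
theorem F35332 : act 0 n16036 = n15979 := d22_4 F27636 D15987 F35331 (iv F27737)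
theorem F35333 : act 6 n15979 = n16037 := d22_3 (iv F35331) (iv D15987) (iv F27636) (iv D16037)
theorem F35334 : act 5 n15985 = n16036 := d22_0 F27737 (iv F35331) (iv D15987) D15985
theorem F35335 : act 1 n15976 = n15976 := d24_8 F27638 D15990 (iv F35330) (iv D15987) (iv F27636) (iv D15979) D15980 F27637 (iv D15976) D15975 F33536 (iv F27640) (iv D15982) D15981
theorem F35336 : act 6 n15973 = n15973 := d10_4 D15976 F35335 (iv D15976) D15973 (iv D15973)
theorem F35337 : act 6 n16045 = n15988 := d22_3 D15990 F35329 (iv F27747) (iv D15988)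
theorem F35338 : act 5 n16046 = n15981 := d22_0 F27638 D15990 F35329 D16046
theorem F35339 : act 0 n15981 = n16045 := d22_4 F27747 (iv F35329) (iv D15990) (iv F27638)
theorem F35340 : act 1 n15988 = n15988 := d10_1 F35337 (iv F35337) (iv D16045) F34691 D16045
theorem F35341 : act 0 n14954 = n14954 := d22_4 (iv D14954) F20388 D14954 F35328
theorem F35343 : act 0 n16044 = n16044 := d22_4 (iv D16044) F21352 D16044 F35326
theorem F35344 : act 0 n14953 = n14953 := d1_3 (iv D14953) F34689 D14953
theorem F35345 : act 0 n16031 = n16031 := d1_3 (iv D16031) F34688 D16031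
theorem F35346 : act 0 n16043 = n16043 := d2_3 (iv D16043) F34686 D16043
theorem F35347 : act 4 n18274 = n16394 := d3_2 F34656 (iv F31979) F28401
theorem F35348 : act 4 n18280 = n16374 := d19_3 F28370 F34656 D18280
theorem F35349 : act 2 n16375 = n18280 := d12_3 F35348 F28368 (iv F28373)
theorem F35350 : act 2 n16396 = n18274 := d12_3 F35347 F28402 (iv F28409)
theorem F35351 : act 1 n18797 = n16071 := d0_8 F34654 (iv D13324) (iv D10657) F10234 D8008 D10856 D13704 D18797 (iv F27912)
theorem F35352 : act 6 n17239 = n17246 := d19_2 F34608 D17239 (iv D17246)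
theorem F35353 : act 0 n17246 = n17248 := d5_1 F35352 (iv D17248) (iv F30252)
theorem F35354 : act 2 n17248 = n17239 := d14_3 F35352 F30260 D17248
theorem F35355 : act 2 n18375 = n15391 := d6_4 F35354 (iv F34562) (iv D18376) D18375 (iv F30262)
theorem F35356 : act 6 n15387 = n18375 := d14_0 F35355 (iv D15391) (iv F26747)
theorem F35357 : act 6 n15138 = n18603 := d19_2 F34553 (iv F26386) (iv D18603)
theorem F35358 : act 2 n14775 = n18604 := d13_3 (iv D18604) F34552 (iv F25721)
theorem F35359 : act 3 n18615 = n18629 := d7_2 F34550 D18615 F33323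
theorem F35360 : act 3 n17820 = n14802 := d7_2 F34547 D17820 F25746
theorem F35361 : act 5 n14711 = n17820 := d16_0 F35360 (iv D14802) (iv F25658)
theorem F35362 : act 2 n17823 = n14711 := d13_3 F35361 F31108 D17823
theorem F35363 : act 4 n18686 = n14711 := d18_3 F35361 (iv F33017) (iv F33434)
theorem F35364 : act 3 n14704 = n18300 := d15_5 F32042 F34519 F20158 D11381 D14704
theorem F35365 : act 1 n18291 = n14704 := d7_3 F35364 (iv D18300) (iv F32014)
theorem F35366 : act 2 n14704 = n18711 := d6_2 F34581 F35365 F34574 F28388 D16482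
theorem F35367 : act 0 n18712 = n14704 := d1_3 F35366 (iv D18711) D18712
theorem F35368 : act 6 n18727 = n14704 := d14_0 F35366 F33495 D18727
theorem F35369 : act 1 n14591 = n15467 := d24_5 (iv F34491) (iv D14650) F20150 (iv F20120) D14591 (iv D15467) D15466 F29182 (iv F23783) (iv D13531) D13530 F23780 D13534 F23786
theorem F35370 : act 3 n19051 = n14591 := d7_0 F35369 F26857 (iv F34164)
theorem F35371 : act 3 n14707 = n13858 := d2_2 F35370 (iv F25651) (iv F34157)
theorem F35372 : act 2 n14793 = n18236 := d11_13 F35370 F25491 F20121 (iv F20136) (iv F25528) F34456 F23502 (iv F24349) (iv F35371) F25652 F20184 (iv F20215) (iv F25739) F31911 (iv F34158)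
theorem F35373 : act 6 n13858 = n14705 := d17_2 D14707 F35371 F25650
theorem F35374 : act 0 n14705 = n19032 := d5_1 F35373 (iv F34159) F34157
theorem F35375 : act 2 n14705 = n13859 := d14_1 F35373 (iv D13859) (iv F24349)
theorem F35376 : act 2 n18239 = n14783 := d11_3 (iv F25650) F35375 (iv F31915) F25729 F20210 (iv F20178) (iv F25647) F34470 F34098 (iv F34383) F25736 F20213 F13628 (iv F13612) (iv F20180)
theorem F35377 : act 2 n14648 = n14639 := d12_1 F34490 F25554 (iv F25572)
theorem F35378 : act 1 n15715 = n18543 := d6_3 (iv F25572) F34488 F32509 F33172 F23786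
theorem F35379 : act 1 n17563 = n17653 := d0_4 F35378 F33171 F30419 (iv F30788) (iv D17653) (iv D12990) F18450 D11925 D15715
theorem E10125 : n15632 = n14702 := (c6_5 (iv F25647) F34469 F20853 D11885 D15632 (iv D14702))
theorem F35380 : act 2 n14702 = n11885 := (sb E10125 (iv D15632))
theorem E10126 : n17548 = n17533 := ((c24_3 (iv F18510) D13053 (iv F34459) (iv D17548) F22702 (iv D10410) F9102 (iv D2906) D2904 D6003 F34296 (iv D6025) D6027 F9155 D6038)).symm
theorem F35383 : act 0 n17533 = n17560 := (sb E10126 (iv F30785))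
theorem E10127 : n13053 = n13038 := ((F34459).symm.trans (sb E10126 F34458))
theorem E10128 : n12967 = n12952 := (((F30741).symm.trans (sb E10126 F30767))).symm
theorem E10129 : n17557 = n12932 := ((((iv D17533)).symm.trans (sb E10126 (iv F30782)))).symm
theorem F35384 : act 6 n17533 = n12939 := (sb E10126 (iv D17548))
theorem E10130 : n17742 = n13066 := (((iv F31026)).symm.trans (sb E10127 (iv F22879)))
theorem F35385 : act 1 n13038 = n17533 := (sb E10127 (iv F34459))
theorem E10131 : n17783 = n17746 := ((((iv F31029)).symm.trans (sb E10127 (iv F31069)))).symm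
theorem E10132 : n17605 = n17574 := (((iv F34405)).symm.trans (sb E10127 (iv F34423)))
theorem E10133 : n17753 = n10468 := ((D17753).symm.trans (sb E10127 (iv D13053)))
theorem E10134 : n13063 = n10460 := ((((iv D13038)).symm.trans (sb E10127 (iv F22876)))).symm
theorem E10135 : n17565 = n12981 := (((iv F30790)).symm.trans (sb E10128 (iv F22750)))
theorem E10136 : n17604 = n17569 := ((((iv F30793)).symm.trans (sb E10128 (iv F30831)))).symm
theorem E10137 : n12978 = n10413 := ((((iv D12952)).symm.trans (sb E10128 (iv F22747)))).symm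
theorem E10138 : n17575 = n10420 := ((D17575).symm.trans (sb E10128 (iv D12967)))
theorem E10139 : n17530 = n12946 := ((D17530).symm.trans (sb E10129 F30780))
theorem E10140 : n17534 = n12944 := ((D17534).symm.trans (sb E10129 (iv D17557)))
theorem F35386 : act 0 n13066 = n13038 := (sb E10130 F31026)
theorem E10142 : n13034 = n10475 := ((((iv D13066)).symm.trans (sb E10130 (iv D17742)))).symm
theorem F35387 : act 0 n17746 = n17813 := (sb E10131 (iv F31098))
theorem F35388 : act 5 n17746 = n13052 := (sb E10131 (iv D17783))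
theorem E10143 : n17807 = n13035 := ((((iv D17746)).symm.trans (sb E10131 (iv F31094)))).symm
theorem F35389 : act 3 n17574 = n13038 := (sb E10132 F34405)
theorem F35390 : act 4 n17574 = n13038 := (sb E10132 F34406)
theorem E10144 : n17733 = n12968 := ((F34425).symm.trans (sb E10132 F30832))
theorem F35391 : act 5 n10468 = n13038 := (sb E10133 (iv D17753))
theorem E10147 : n13037 = n10473 := ((D13037).symm.trans (sb E10134 (iv D13063)))
theorem F35392 : act 0 n12981 = n12952 := (sb E10135 F30790)
theorem E10148 : n12949 = n10428 := ((((iv D12981)).symm.trans (sb E10135 (iv D17565)))).symm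
theorem F35393 : act 0 n17569 = n17637 := (sb E10136 (iv F30863))
theorem E10150 : n17631 = n12950 := ((((iv D17569)).symm.trans (sb E10136 (iv F30859)))).symm
theorem F35394 : act 6 n17569 = n12966 := (sb E10136 (iv D17604))
theorem E10152 : n12953 = n10426 := ((D12953).symm.trans (sb E10137 (iv D12978)))
theorem F35395 : act 6 n10420 = n12952 := (sb E10138 (iv D17575))
theorem F35396 : act 0 n12946 = n12932 := (sb E10139 (iv D17530))
theorem E10154 : n17761 = n17555 := (((D17555).symm.trans (sb E10140 F34460))).symm
theorem F35397 : act 6 n12944 = n12932 := (sb E10140 (iv D17534))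
theorem F35398 : act 0 n10475 = n10460 := (sb E10142 (iv D13034))
theorem E10155 : n17606 = n13031 := ((((iv F22844)).symm.trans (sb E10142 (iv F34397)))).symm
theorem E10156 : n17739 = n13065 := ((((iv F22878)).symm.trans (sb E10142 D17739))).symm
theorem E10157 : n17745 = n13062 := ((D17745).symm.trans (sb E10143 (iv D17807)))
theorem E10158 : n17608 = n13029 := ((D17608).symm.trans (sb E10144 (iv D17733)))
theorem F35399 : act 6 n12968 = n17574 := (sb E10144 (iv F34425))
theorem E10159 : n17750 = n13061 := (((D13061).symm.trans (sb E10147 D17750))).symm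
theorem F35400 : act 5 n10473 = n10460 := (sb E10147 (iv D13037))
theorem F35401 : act 0 n10428 = n10413 := (sb E10148 (iv D12949))
theorem E10160 : n17563 = n12980 := ((((iv F22749)).symm.trans (sb E10148 D17563))).symm
theorem E10161 : n17570 = n12977 := ((D17570).symm.trans (sb E10150 (iv D17631)))
theorem E10162 : n17576 = n12976 := (((D12976).symm.trans (sb E10152 D17576))).symm
theorem F35402 : act 6 n10426 = n10413 := (sb E10152 (iv D12953))
theorem F35403 : act 6 n17555 = n13042 := (sb E10154 (iv D17761))
theorem F35404 : act 0 n13031 = n12968 := (sb E10155 (iv D17606))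
theorem F35405 : act 0 n13065 = n13035 := (sb E10156 F31023)
theorem F35406 : act 5 n13062 = n13035 := (sb E10157 (iv D17745))
theorem E10163 : n17731 = n17588 := ((D17731).symm.trans (sb E10158 F30833))
theorem F35407 : act 5 n13029 = n12968 := (sb E10158 (iv D17608))
theorem E10164 : n17803 = n13042 := ((D17803).symm.trans (sb E10159 F31033))
theorem F35408 : act 0 n12980 = n12950 := (sb E10160 F30788)
theorem E10165 : n17653 = n17636 := (((D17636).symm.trans (sb E10160 F35379))).symm
theorem F35409 : act 6 n12977 = n12950 := (sb E10161 (iv D17570))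
theorem E10166 : n17628 = n12958 := ((D17628).symm.trans (sb E10162 F30800))
theorem F35410 : act 1 n17588 = n13029 := (sb E10163 (iv D17731))
theorem F35411 : act 3 n17588 = n13061 := (sb E10163 F31013)
theorem F35412 : act 4 n17588 = n13061 := (sb E10163 F32932)
theorem F35413 : act 5 n13042 = n13061 := (sb E10164 (iv D17803))
theorem F35414 : act 0 n17636 = n12990 := (sb E10165 (iv D17653))
theorem F35415 : act 6 n12958 = n12976 := (sb E10166 (iv D17628))
theorem F35416 : act 6 n17625 = n17586 := d5_2 F35415 D17625 (iv D17586)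
theorem F35417 : act 6 n17626 = n17587 := d14_2 F35415 D17626 (iv D17587)
theorem F35418 : act 6 n17654 = n17654 := d22_1 D17654 (iv D17654) (iv F30862) F35414
theorem F35419 : act 5 n17801 = n17759 := d4_2 F35413 D17801 (iv D17759)
theorem F35420 : act 5 n17802 = n17760 := d13_2 F35413 D17802 (iv D17760)
theorem F35421 : act 6 n17567 = n17630 := d17_2 F35409 D17567 (iv D17630)
theorem F35422 : act 6 n17531 = n17556 := d19_2 F35409 (iv F32634) F32691
theorem F35423 : act 0 n17559 = n17531 := d5_3 F35422 F30779 D17559
theorem F35424 : act 0 n17635 = n17567 := d5_3 F35421 F30856 D17635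
theorem F35425 : act 5 n17607 = n17732 := d13_2 F35407 D17607 (iv D17732)
theorem F35426 : act 0 n17735 = n17607 := d4_3 F35425 F31014 D17735
theorem F35427 : act 5 n17743 = n17806 := d16_2 F35406 D17743 (iv D17806)
theorem F35428 : act 0 n17811 = n17743 := d4_3 F35427 F31091 D17811
theorem F35429 : act 0 n17421 = n18559 := d0_3 (iv D17812) F35405 (iv F30542) F34994 (iv D15843) (iv D11986) (iv F18529) D13075 (iv F33013)
theorem F35430 : act 6 n18556 = n17421 := d5_0 F35429 (iv D18559) (iv F33196)
theorem F35431 : act 4 n17586 = n17759 := d3_2 F34446 D17586 (iv D17759)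
theorem F35432 : act 4 n17587 = n17760 := d12_2 F34446 D17587 (iv D17760)
theorem F35433 : act 3 n17586 = n17759 := d2_2 F34445 D17586 (iv D17759)
theorem F35434 : act 0 n15544 = n15546 := d0_9 F34429 (iv D13497) (iv D10748) (iv F19079) F34185 F14559 (iv F14581) (iv F20935) (iv F26996)
theorem F35435 : act 2 n15544 = n15546 := d6_0 F34429 F34257 F21088 (iv F20936) (iv F26996)
theorem F35436 : act 4 n15543 = n15546 := d8_0 F34429 (iv F34310) F26993
theorem F35437 : act 6 n15544 = n15543 := d19_0 F35436 (iv D15546) D15544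
theorem F35438 : act 3 n15544 = n18504 := d21_7 (iv F34428) F20784 F17507 (iv F20784) F34428 (iv F34430) (iv F35435) (iv D18504)
theorem F35439 : act 1 n18504 = n15550 := d7_1 F35438 (iv D15550) (iv F26996)
theorem F35440 : act 6 n18504 = n15381 := d17_2 (iv F35437) F35438 (iv F26991)
theorem F35441 : act 2 n18504 = n15384 := d21_4 F34428 (iv F34430) (iv F35435) F35438 F26746 F20781 (iv F26746) F26745
theorem F35442 : act 2 n18506 = n15394 := d13_3 (iv D15394) F34428 D18506
theorem F35443 : act 5 n17438 = n17358 := d13_2 F34426 (iv F30562) (iv F32525)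
theorem F35444 : act 3 n17360 = n17438 := d16_3 F35443 (iv D17358) D17360
theorem F35445 : act 6 n17437 = n17367 := d22_3 (iv F35443) (iv D17438) D17437 F32526
theorem F35446 : act 3 n13985 = n13937 := d7_2 F35444 (iv F35032) (iv F33240)
theorem F35447 : act 6 n17435 = n17360 := d17_0 F35444 (iv D17438) D17435
theorem F35448 : act 5 n17444 = n17361 := d22_0 (iv D17361) D17360 (iv F35447) (iv F32973)
theorem E10167 : n13941 = n11000 := (c2_3 F35446 F24421 (iv F24426) (iv F24475))
theorem E10168 : n13989 = n10978 := (((iv F24481)).symm.trans (sb E10167 F24426))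
theorem E10169 : n13990 = n10977 := ((D13990).symm.trans (sb E10167 (iv D13941)))
theorem F35449 : act 3 n10978 = n11000 := (sb E10168 F24481)
theorem E10170 : n13942 = n10999 := ((D13942).symm.trans (sb E10168 (iv D13989)))
theorem E10171 : n13974 = n13936 := ((((iv F24420)).symm.trans (sb E10169 F24482))).symm
theorem E10172 : n13939 = n11001 := ((D13939).symm.trans (sb E10169 F24483))
theorem E10173 : n18904 = n13940 := (((D13940).symm.trans (sb E10169 (iv F33841)))).symm
theorem F35450 : act 5 n10977 = n11000 := (sb E10169 (iv D13990))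
theorem E10174 : n13972 = n13925 := ((((iv F24416)).symm.trans (sb E10169 F24484))).symm
theorem E10175 : n13984 = n13926 := (((iv F24474)).symm.trans (sb E10170 F24427))
theorem E10176 : n13987 = n10979 := ((D13987).symm.trans (sb E10170 F24428))
theorem E10177 : n18857 = n13988 := (((D13988).symm.trans (sb E10170 (iv F33758)))).symm
theorem E10178 : n13973 = n13924 := (((iv F24465)).symm.trans (sb E10170 F24429))
theorem F35451 : act 6 n10999 = n10978 := (sb E10170 (iv D13942))
theorem F35452 : act 2 n13936 = n10994 := (sb E10171 F24466)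
theorem F35453 : act 4 n13936 = n18888 := (sb E10171 (iv F33816))
theorem F35454 : act 5 n13936 = n13985 := (sb E10171 (iv F24477))
theorem F35455 : act 6 n13936 = n10993 := (sb E10171 (iv D13974))
theorem F35456 : act 2 n11001 = n10977 := (sb E10172 (iv D13939))
theorem F35457 : act 0 n13940 = n18888 := (sb E10173 F33839)
theorem F35458 : act 2 n13940 = n13755 := (sb E10173 F33840)
theorem F35459 : act 5 n13940 = n13754 := (sb E10173 (iv D18904))
theorem F35460 : act 6 n13940 = n18886 := (sb E10173 F33842)
theorem F35461 : act 0 n13925 = n10993 := (sb E10174 F24463)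
theorem F35462 : act 2 n13925 = n10992 := (sb E10174 (iv D13972))
theorem F35463 : act 4 n13925 = n18886 := (sb E10174 (iv F33812))
theorem F35464 : act 5 n13925 = n10997 := (sb E10174 F24464)
theorem F35465 : act 0 n13926 = n10999 := (sb E10175 F24474)
theorem F35466 : act 3 n13926 = n10997 := (sb E10175 (iv D13984))
theorem F35467 : act 2 n10979 = n10999 := (sb E10176 (iv D13987))
theorem F35468 : act 0 n13988 = n18841 := (sb E10177 F33756)
theorem F35469 : act 2 n13988 = n13733 := (sb E10177 F33757)
theorem F35470 : act 5 n13988 = n18839 := (sb E10177 F33759)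
theorem F35471 : act 6 n13988 = n13732 := (sb E10177 (iv D18857))
theorem F35472 : act 3 n13924 = n10993 := (sb E10178 (iv D13973))
theorem F35473 : act 5 n13924 = n10999 := (sb E10178 F24465)
theorem F35474 : act 6 n18856 = n18902 := d17_2 F35471 (iv F33755) F33836
theorem F35475 : act 4 n18903 = n18856 := d19_3 F35474 (iv D18902) D18903
theorem F35476 : act 5 n18855 = n18903 := d18_0 F35475 (iv D18856) D18855
theorem F35477 : act 2 n14084 = n13943 := d6_4 F35467 F19497 D11046 D14084 (iv D13943)
theorem F35478 : act 6 n18286 = n14084 := d14_0 F35477 F24430 D18286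
theorem F35479 : act 2 n14037 = n13991 := d6_4 F35456 F19472 D11023 D14037 (iv D13991)
theorem F35480 : act 5 n18271 = n14037 := d13_0 F35479 F24486 D18271
theorem F35481 : act 6 n17440 = n17362 := d19_2 F34386 (iv F30565) F30441
theorem F35482 : act 1 n18352 = n17440 := d10_5 F35481 F30440 (iv F25767) (iv F29032) D18352
theorem F35483 : act 3 n17364 = n17440 := d17_3 F35481 (iv D17362) D17364
theorem F35484 : act 5 n17439 = n17364 := d16_0 F35483 (iv D17440) D17439
theorem F35485 : act 4 n18489 = n15738 := d19_3 (iv F27278) F34369 (iv F33081)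
theorem F35486 : act 2 n15738 = n18482 := d12_1 F35485 F33067 (iv F33079)
theorem F35487 : act 3 n15738 = n15916 := d15_1 F35485 F27511 F21235 (iv F34963) F34962
theorem F35488 : act 6 n15740 = n18312 := d17_2 F34359 D15740 F32078
theorem F35489 : act 6 n15763 = n15550 := d10_2 F35488 (iv F32115) (iv F35439) F35440 (iv F27267)
theorem F35490 : act 4 n18363 = n15740 := d19_3 F35488 F32079 (iv F32205)
theorem F35491 : act 4 n17357 = n17433 := d8_2 F34334 D17357 (iv D17433)
theorem F35492 : act 6 n15556 = n18419 := d22_1 D15556 (iv D18419) (iv F34306) F26999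
theorem F35493 : act 6 n18584 = n15578 := d17_2 D15581 F34302 F27052
theorem F35494 : act 2 n18485 = n15821 := d1_2 F34281 D18485 F27357
theorem F35495 : act 5 n15820 = n18485 := d13_0 F35494 (iv D15821) D15820
theorem F35496 : act 3 n18500 = n15820 := d16_3 F35495 F33075 D18500
theorem F35497 : act 4 n18362 = n15413 := d15_4 F34279 F23741 (iv F23604) (iv F32203) (iv F26976)
theorem F35498 : act 5 n15417 = n18362 := d18_0 F35497 F26774 (iv F26782)
theorem F35499 : act 3 n18374 = n15417 := d16_3 F35498 F32203 D18374
theorem F35500 : act 1 n18165 = n15904 := d7_3 F27491 F34276 (iv F31757)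
theorem F35501 : act 6 n15516 = n18453 := d17_2 F34275 D15516 (iv D18453)
theorem F35502 : act 0 n18470 = n15516 := d5_3 F35501 F32417 D18470
theorem F35503 : act 1 n14338 = n15909 := d8_3 F27502 F34271 (iv F25035)
theorem F35504 : act 3 n18503 = n15816 := d17_3 F27353 F34200 D18503
theorem E10179 : n18729 = n14873 := (c15_4 D11460 F34190 (iv F23988) D18729 (iv D14873) (iv D11459))
theorem F35505 : act 3 n14873 = n13668 := (sb E10179 (iv D18729))
def n19052 : Q := act 1 n13856
theorem D19052 : act 1 n13856 = n19052 := rfl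
theorem F35506 : act 2 n19052 = n15335 := d6_2 F34158 D19052 (iv D15335) (iv F26685) (iv F34164)
theorem F35507 : act 6 n19052 = n13933 := d10_2 (iv F24348) D19052 F33247 (iv F34100) (iv D19033)
def n19053 : Q := act 1 n13858
theorem D19053 : act 1 n13858 = n19053 := rfl
theorem F35508 : act 3 n19053 = n17416 := d7_2 F35371 D19053 (iv F34480)
theorem F35509 : act 5 n19053 = n17415 := d9_2 D13858 D19053 F30532 F22524 (iv F34183)
theorem F35510 : act 0 n18633 = n19053 := d4_3 F35509 F34999 (iv F33333)
def n19054 : Q := act 1 n13859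
theorem D19054 : act 1 n13859 = n19054 := rfl
def n19055 : Q := act 6 n13860
theorem D19055 : act 6 n13860 = n19055 := rfl
theorem F35511 : act 0 n19055 = n13863 := d5_1 D19055 (iv D13863) D13860
theorem F35512 : act 1 n16392 = n19055 := d24_14 (iv D19055) F24352 F29188 (iv F31907) (iv D18233) (iv F23513) (iv D13357) (iv F23511) (iv D13354) (iv F18962) (iv D10678) D10677 F34645 D16392
theorem F35513 : act 4 n19055 = n16393 := d8_2 (iv F28400) F35512 (iv D16393)
theorem F35514 : act 0 n16393 = n18751 := d3_1 F35513 F33568 (iv F35511)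
theorem F35515 : act 6 n16393 = n18748 := d19_2 D19055 F35513 F33561
def n19056 : Q := act 6 n13861
theorem D19056 : act 6 n13861 = n19056 := rfl
theorem F35516 : act 2 n19056 = n13863 := d14_1 D19056 (iv D13863) D13861
theorem F35517 : act 5 n19056 = n13863 := d22_2 F24352 D19056 (iv D13863) D13860
def n19057 : Q := act 6 n13862
theorem D19057 : act 6 n13862 = n19057 := rfl
theorem F35518 : act 0 n19057 = n19056 := d5_1 D19057 (iv D19056) (iv F24353)
theorem F35519 : act 2 n19057 = n19055 := d14_1 D19057 (iv D19055) (iv F24355)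
theorem F35520 : act 5 n19057 = n19055 := d20_1 D19057 (iv D19055) F24352 D19056 F35517 (iv D13863) D13862
def n19058 : Q := act 6 n13866
theorem D19058 : act 6 n13866 = n19058 := rfl
theorem F35521 : act 4 n19058 = n13867 := d19_1 D19058 (iv D13867) D13866
def n19059 : Q := act 1 n13867
theorem D19059 : act 1 n13867 = n19059 := rfl
theorem F35522 : act 3 n19059 = n13868 := d7_2 (iv F24360) D19059 (iv D13868)
def n19060 : Q := act 0 n13868
theorem D19060 : act 0 n13868 = n19060 := rfl
def n19061 : Q := act 2 n13868
theorem D19061 : act 2 n13868 = n19061 := rfl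
theorem F35523 : act 1 n19061 = n13870 := d6_1 D19061 (iv D13870) (iv D10946) (iv F19447) D13868
def n19062 : Q := act 5 n13868
theorem D19062 : act 5 n13868 = n19062 := rfl
def n19063 : Q := act 1 n13869
theorem D19063 : act 1 n13869 = n19063 := rfl
def n19064 : Q := act 2 n13869
theorem D19064 : act 2 n13869 = n19064 := rfl
theorem F35524 : act 0 n19064 = n13870 := d1_1 D19064 (iv D13870) D13869
theorem F35525 : act 6 n19064 = n13873 := d14_2 (iv F24361) D19064 (iv D13873)
def n19065 : Q := act 3 n13870
theorem D19065 : act 3 n13870 = n19065 := rfl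
theorem F35526 : act 6 n19065 = n13875 := d17_2 (iv F24362) D19065 (iv D13875)
def n19066 : Q := act 5 n13870
theorem D19066 : act 5 n13870 = n19066 := rfl
theorem F35527 : act 2 n19066 = n13871 := d13_1 D19066 (iv D13871) D13870
def n19067 : Q := act 0 n13872
theorem D19067 : act 0 n13872 = n19067 := rfl
theorem F35528 : act 6 n18279 = n19067 := d22_3 F31997 (iv D18284) (iv F31987) (iv D19067)
def n19068 : Q := act 2 n13872
theorem D19068 : act 2 n13872 = n19068 := rfl
def n19069 : Q := act 6 n13872
theorem D19069 : act 6 n13872 = n19069 := rfl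
theorem F35529 : act 0 n19069 = n18279 := d5_1 D19069 F35528 (iv D19067)
theorem F35530 : act 5 n18282 = n19069 := d22_0 (iv D19069) F31997 (iv D18284) D18282
def n19070 : Q := act 1 n13873
theorem D19070 : act 1 n13873 = n19070 := rfl
def n19071 : Q := act 3 n13873
theorem D19071 : act 3 n13873 = n19071 := rfl
theorem F35531 : act 0 n19071 = n13875 := d2_1 D19071 (iv D13875) (iv F24363)
def n19072 : Q := act 5 n13873
theorem D19072 : act 5 n13873 = n19072 := rfl
theorem F35532 : act 0 n19072 = n13876 := d4_1 D19072 (iv D13876) (iv F24363)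
theorem F35533 : act 2 n19072 = n13874 := d13_1 D19072 (iv D13874) D13873
theorem F35534 : act 6 n19072 = n19066 := d22_1 D19072 (iv D19066) F24362 (iv F24363)
def n19073 : Q := act 2 n13875
theorem D19073 : act 2 n13875 = n19073 := rfl
def n19074 : Q := act 4 n13875
theorem D19074 : act 4 n13875 = n19074 := rfl
def n19075 : Q := act 5 n13875
theorem D19075 : act 5 n13875 = n19075 := rfl
theorem F35535 : act 3 n19075 = n13876 := d16_1 D19075 (iv D13876) D13875
def n19076 : Q := act 1 n13876
theorem D19076 : act 1 n13876 = n19076 := rfl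
theorem F35536 : act 2 n19076 = n19053 := d6_2 (iv F24366) D19076 (iv D19053) F24349 (iv F19449)
def n19077 : Q := act 6 n13876
theorem D19077 : act 6 n13876 = n19077 := rfl
theorem F35537 : act 0 n19077 = n19066 := d5_1 D19077 (iv F35534) F35532
theorem F35538 : act 2 n19077 = n13877 := d14_1 D19077 (iv D13877) (iv F24366)
theorem F35539 : act 5 n19077 = n19064 := d20_1 D19077 F35525 D19072 F35534 (iv D19066) F24362 D13876
def n19078 : Q := act 1 n13877
theorem D19078 : act 1 n13877 = n19078 := rfl
theorem F35540 : act 6 n19078 = n19054 := d10_2 D13877 D19078 (iv D19054) (iv D13859) (iv F19449)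
def n19079 : Q := act 5 n13878
theorem D19079 : act 5 n13878 = n19079 := rfl
theorem F35541 : act 0 n19079 = n13880 := d4_1 D19079 (iv D13880) D13878
theorem F35542 : act 1 n19079 = n16289 := d24_2 F34665 D19079 (iv D16289) F27835 (iv D10674) D10675 F18953 D13349 F23505 D13352 F23507 D18239 (iv F34377) (iv F34563)
theorem F35543 : act 4 n16290 = n19079 := d8_0 F35542 F28198 D16290
theorem F35544 : act 0 n18767 = n16290 := d3_3 F35543 F35541 (iv F33594)
theorem F35545 : act 5 n18765 = n16290 := d18_0 F35543 (iv D19079) (iv F33592)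
def n19080 : Q := act 5 n13879
theorem D19080 : act 5 n13879 = n19080 := rfl
theorem F35546 : act 2 n19080 = n13880 := d13_1 D19080 (iv D13880) D13879
theorem F35547 : act 6 n19080 = n13880 := d22_1 D19080 (iv D13880) D13881 F34663
def n19081 : Q := act 5 n13881
theorem D19081 : act 5 n13881 = n19081 := rfl
theorem F35548 : act 0 n19081 = n19080 := d4_1 D19081 (iv D19080) (iv F34663)
theorem F35549 : act 2 n19081 = n19079 := d13_1 D19081 (iv D19079) F34662
theorem F35550 : act 6 n19081 = n19079 := d20_2 D13881 D19081 (iv D19079) (iv F34665) D19080 F35547 (iv D13880)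
def n19082 : Q := act 5 n13884
theorem D19082 : act 5 n13884 = n19082 := rfl
theorem F35551 : act 4 n19082 = n13885 := d18_1 D19082 (iv D13885) D13884
def n19083 : Q := act 1 n13885
theorem D19083 : act 1 n13885 = n19083 := rfl
theorem F35552 : act 3 n19083 = n13886 := d7_2 (iv F24374) D19083 (iv D13886)
def n19084 : Q := act 0 n13886
theorem D19084 : act 0 n13886 = n19084 := rfl
def n19085 : Q := act 2 n13886
theorem D19085 : act 2 n13886 = n19085 := rfl
theorem F35553 : act 1 n19085 = n13888 := d6_1 D19085 (iv D13888) (iv D10954) (iv F19453) D13886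
def n19086 : Q := act 6 n13886
theorem D19086 : act 6 n13886 = n19086 := rfl
def n19087 : Q := act 1 n13887
theorem D19087 : act 1 n13887 = n19087 := rfl
def n19088 : Q := act 2 n13887
theorem D19088 : act 2 n13887 = n19088 := rfl
theorem F35554 : act 0 n19088 = n13888 := d1_1 D19088 (iv D13888) D13887
theorem F35555 : act 5 n19088 = n13891 := d13_2 (iv F24375) D19088 (iv D13891)
def n19089 : Q := act 3 n13888
theorem D19089 : act 3 n13888 = n19089 := rfl
theorem F35556 : act 5 n19089 = n13893 := d16_2 (iv F24376) D19089 (iv D13893)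
def n19090 : Q := act 6 n13888
theorem D19090 : act 6 n13888 = n19090 := rfl
theorem F35557 : act 2 n19090 = n13889 := d14_1 D19090 (iv D13889) D13888
def n19091 : Q := act 0 n13890
theorem D19091 : act 0 n13890 = n19091 := rfl
theorem F35558 : act 1 n19091 = n19067 := d0_2 D13890 D19091 (iv D19067) (iv D13872) (iv D10947) (iv D8196) (iv F5982) D8200 D10955
theorem F35559 : act 5 n19091 = n18265 := d22_0 F31962 D18269 (iv F31972) D19091
def n19092 : Q := act 2 n13890
theorem D19092 : act 2 n13890 = n19092 := rfl
def n19093 : Q := act 5 n13890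
theorem D19093 : act 5 n13890 = n19093 := rfl
theorem F35560 : act 0 n19093 = n18265 := d4_1 D19093 (iv F35559) (iv D19091)
theorem F35561 : act 6 n19093 = n18267 := d22_3 D18269 (iv F31972) D19093 (iv D18267)
def n19094 : Q := act 1 n13891
theorem D19094 : act 1 n13891 = n19094 := rfl
def n19095 : Q := act 3 n13891
theorem D19095 : act 3 n13891 = n19095 := rfl
theorem F35562 : act 0 n19095 = n13893 := d2_1 D19095 (iv D13893) (iv F24377)
def n19096 : Q := act 6 n13891
theorem D19096 : act 6 n13891 = n19096 := rfl
theorem F35563 : act 0 n19096 = n13894 := d5_1 D19096 (iv D13894) (iv F24377)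
theorem F35564 : act 2 n19096 = n13892 := d14_1 D19096 (iv D13892) D13891
theorem F35565 : act 5 n19096 = n19090 := d22_2 F35555 D19096 (iv D19090) (iv F35554)
def n19097 : Q := act 2 n13893
theorem D19097 : act 2 n13893 = n19097 := rfl
def n19098 : Q := act 4 n13893
theorem D19098 : act 4 n13893 = n19098 := rfl
def n19099 : Q := act 6 n13893
theorem D19099 : act 6 n13893 = n19099 := rfl
theorem F35566 : act 3 n19099 = n13894 := d17_1 D19099 (iv D13894) D13893
def n19100 : Q := act 1 n13894
theorem D19100 : act 1 n13894 = n19100 := rfl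
theorem F35567 : act 2 n19100 = n19043 := d6_2 (iv F24380) D19100 (iv D19043) F24343 (iv F19455)
def n19101 : Q := act 5 n13894
theorem D19101 : act 5 n13894 = n19101 := rfl
theorem F35568 : act 0 n19101 = n19090 := d4_1 D19101 (iv F35565) F35563
theorem F35569 : act 2 n19101 = n13895 := d13_1 D19101 (iv D13895) (iv F24380)
theorem F35570 : act 6 n19101 = n19088 := d20_2 D13894 D19101 F35555 D19096 F35565 (iv D19090) F24376
def n19102 : Q := act 1 n13895
theorem D19102 : act 1 n13895 = n19102 := rfl
theorem F35571 : act 5 n19102 = n19044 := d9_2 D13895 D19102 (iv D19044) (iv D13853) (iv F19455)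
def n19103 : Q := act 3 n13896
theorem D19103 : act 3 n13896 = n19103 := rfl
theorem F35572 : act 0 n19103 = n13900 := d2_1 D19103 (iv D13900) (iv F24383)
theorem F35573 : act 1 n19103 = n13997 := d7_1 D19103 (iv D13997) F24396
theorem F35574 : act 2 n19103 = n16581 := d11_1 D19103 (iv F29268) F21893 (iv F21381) F27827 F18949 D10959 D13900 (iv F29145) (iv F29444) F29442 (iv F27814) F27826 F23516 D13896
theorem F35575 : act 5 n15327 = n19103 := d13_0 F35574 (iv F29266) F29152
theorem F35576 : act 6 n16583 = n19103 := d14_0 F35574 F29265 D16583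
theorem F35577 : act 6 n17187 = n16600 := d24_12 F35576 (iv F35575) (iv D15327) (iv F20757) (iv D11733) D11732 F20754 D11737 F20762 D12745 F22339 D17187 (iv D16600) (iv F29277)
theorem F35578 : act 0 n17110 = n17187 := d5_3 F35577 F29323 (iv F30067)
theorem F35579 : act 1 n16600 = n17181 := d10_1 F35577 (iv D17181) (iv D12737) D12740 D17187
theorem F35580 : act 2 n16601 = n17187 := d14_3 F35577 F29324 D16601
theorem F35581 : act 1 n17169 = n16792 := d6_3 F35580 (iv D17187) (iv F30154) (iv D16792) (iv F29326)
theorem F35582 : act 6 n16827 = n17099 := d10_4 D17169 F35581 F29618 D16827 F30289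
theorem F35583 : act 0 n17102 = n16827 := d5_3 F35582 (iv D17099) D17102
theorem F35584 : act 2 n17114 = n16827 := d14_3 F35582 F30057 D17114
theorem F35585 : act 1 n16826 = n17114 := d6_5 F35584 (iv D16827) (iv D12530) D12529 D16826
def n19104 : Q := act 5 n13896
theorem D19104 : act 5 n13896 = n19104 := rfl
theorem F35586 : act 0 n19104 = n13901 := d4_1 D19104 (iv D13901) (iv F24383)
theorem F35587 : act 1 n19104 = n15325 := d9_1 D19104 (iv D15325) (iv F28994) (iv D13998) F24396
theorem F35588 : act 2 n19104 = n13897 := d13_1 D19104 (iv D13897) D13896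
theorem F35589 : act 3 n19104 = n15327 := d16_1 D19104 F35575 (iv D19103)
def n19105 : Q := act 6 n13896
theorem D19105 : act 6 n13896 = n19105 := rfl
theorem F35590 : act 0 n19105 = n13902 := d5_1 D19105 (iv D13902) (iv F24383)
theorem F35591 : act 2 n19105 = n13898 := d14_1 D19105 (iv D13898) D13896
theorem F35592 : act 3 n19105 = n16583 := d17_1 D19105 F35576 (iv D19103)
theorem F35593 : act 1 n16599 = n19105 := d7_3 F35592 F29277 D16599
def n19106 : Q := act 1 n13897
theorem D19106 : act 1 n13897 = n19106 := rfl
theorem F35594 : act 0 n19106 = n15482 := d0_1 D19106 F29230 F23476 F28821 (iv F25679) (iv F29188) (iv F24353) F24354 (iv F24384)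
theorem F35595 : act 2 n19106 = n15471 := d6_2 F35588 D19106 (iv F33088) F33089 (iv F35587)
theorem F35596 : act 3 n19106 = n19018 := d7_2 (iv F28154) D19106 (iv F34082)
theorem F35597 : act 5 n19106 = n19018 := d9_2 D13897 D19106 (iv F34082) F28153 F23515
def n19107 : Q := act 1 n13898
theorem D19107 : act 1 n13898 = n19107 := rfl
def n19108 : Q := act 5 n13899
theorem D19108 : act 5 n13899 = n19108 := rfl
theorem F35598 : act 0 n19108 = n13908 := d4_1 D19108 (iv D13908) (iv F24395)
theorem F35599 : act 2 n19108 = n13908 := d13_1 D19108 (iv D13908) (iv F24386)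
def n19109 : Q := act 6 n13899
theorem D19109 : act 6 n13899 = n19109 := rfl
theorem F35600 : act 0 n19109 = n13909 := d5_1 D19109 (iv D13909) (iv F24395)
theorem F35601 : act 2 n19109 = n13909 := d14_1 D19109 (iv D13909) (iv F24386)
def n19110 : Q := act 4 n13900
theorem D19110 : act 4 n13900 = n19110 := rfl
def n19111 : Q := act 6 n13900
theorem D19111 : act 6 n13900 = n19111 := rfl
theorem F35602 : act 0 n19111 = n16583 := d5_1 D19111 F35576 F35572
theorem F35603 : act 2 n19111 = n16582 := d14_1 D19111 F29276 F29145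
theorem F35604 : act 3 n19111 = n13902 := d17_1 D19111 (iv D13902) D13900
def n19112 : Q := act 6 n13901
theorem D19112 : act 6 n13901 = n19112 := rfl
theorem F35605 : act 2 n19112 = n13903 := d14_1 D19112 (iv D13903) (iv F24387)
theorem F35606 : act 5 n19112 = n19105 := d22_2 D13901 D19112 (iv D19105) F24383
def n19113 : Q := act 1 n13902
theorem D19113 : act 1 n13902 = n19113 := rfl
def n19114 : Q := act 5 n13902
theorem D19114 : act 5 n13902 = n19114 := rfl
theorem F35607 : act 0 n19114 = n19112 := d4_1 D19114 F35606 F35590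
theorem F35608 : act 2 n19114 = n13905 := d13_1 D19114 (iv D13905) (iv F24388)
theorem F35609 : act 6 n19114 = n19104 := d20_2 D13902 D19114 (iv D19104) D19105 (iv F35606) (iv D19112) (iv D13901)
def n19115 : Q := act 1 n13903
theorem D19115 : act 1 n13903 = n19115 := rfl
theorem F35610 : act 3 n19115 = n19079 := d7_2 F28197 D19115 F35542
theorem F35611 : act 5 n18251 = n19115 := d24_1 (iv F34667) (iv D19115) (iv D13903) (iv D10960) (iv D8201) D8203 F12205 D10946 F19448 D10949 F19449 D13859 F24351 D19029
theorem F35612 : act 0 n19115 = n18253 := d4_1 F35611 (iv D18253) D18251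
theorem F35613 : act 5 n19107 = n19048 := d9_4 F35611 (iv D19115) F24389 D19107 F34670
def n19116 : Q := act 0 n13904
theorem D19116 : act 0 n13904 = n19116 := rfl
theorem F35614 : act 3 n19116 = n19093 := d2_2 F31961 D19116 F35560
theorem F35615 : act 6 n19116 = n13913 := d5_2 (iv F24390) D19116 (iv D13913)
theorem F35616 : act 5 n19116 = n18258 := d22_0 (iv F31951) (iv D13915) (iv F24390) D19116
theorem F35617 : act 1 n19116 = n18567 := d24_2 F31951 (iv F35616) F34125 (iv D19028) (iv D13843) (iv D10933) (iv D8189) (iv D3910) D3912 (iv F5980) D8196 (iv F19448) D13871 (iv F24403)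
theorem F35618 : act 2 n18565 = n19116 := d6_0 F35617 (iv D18567) (iv D13552) (iv F23805) D18565
def n19117 : Q := act 2 n13904
theorem D19117 : act 2 n13904 = n19117 := rfl
theorem F35619 : act 0 n19117 = n18565 := d1_1 D19117 F35618 (iv D19116)
theorem F35620 : act 6 n19117 = n13914 := d14_2 (iv F24390) D19117 (iv D13914)
def n19118 : Q := act 5 n13904
theorem D19118 : act 5 n13904 = n19118 := rfl
theorem F35621 : act 0 n19118 = n18258 := d4_1 D19118 (iv F35616) (iv D19116)
theorem F35622 : act 3 n19118 = n19091 := d16_1 D19118 F35559 F31961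
def n19119 : Q := act 1 n13905
theorem D19119 : act 1 n13905 = n19119 := rfl
def n19120 : Q := act 4 n13907
theorem D19120 : act 4 n13907 = n19120 := rfl
theorem F35623 : act 1 n19120 = n13910 := d8_1 D19120 (iv D13910) (iv F24393)
theorem F35624 : act 2 n19120 = n14007 := d12_1 D19120 (iv D14007) F24394
def n19121 : Q := act 6 n13907
theorem D19121 : act 6 n13907 = n19121 := rfl
theorem F35625 : act 2 n19121 = n14009 := d14_1 D19121 (iv D14009) F24394
theorem F35626 : act 3 n19121 = n13909 := d17_1 D19121 (iv D13909) D13907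
def n19122 : Q := act 6 n13908
theorem D19122 : act 6 n13908 = n19122 := rfl
theorem F35627 : act 5 n19122 = n19109 := d22_2 D13908 D19122 (iv D19109) F24395
def n19123 : Q := act 1 n13909
theorem D19123 : act 1 n13909 = n19123 := rfl
theorem F35628 : act 6 n19123 = n13912 := d10_2 D13909 D19123 (iv D13912) (iv D10964) D10962
def n19124 : Q := act 5 n13909
theorem D19124 : act 5 n13909 = n19124 := rfl
theorem F35629 : act 0 n19124 = n19122 := d4_1 D19124 F35627 F35600
theorem F35630 : act 2 n19124 = n19122 := d13_1 D19124 F35627 F35601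
theorem F35631 : act 6 n19124 = n19108 := d20_2 D13909 D19124 (iv D19108) D19109 (iv F35627) (iv D19122) (iv D13908)
def n19125 : Q := act 6 n13910
theorem D19125 : act 6 n13910 = n19125 := rfl
theorem F35632 : act 0 n19125 = n13916 := d5_1 D19125 (iv D13916) (iv F24397)
theorem F35633 : act 2 n19125 = n13916 := d14_1 D19125 (iv D13916) (iv F24398)
theorem F35634 : act 4 n19125 = n13911 := d19_1 D19125 (iv D13911) D13910
theorem F35635 : act 5 n19125 = n19058 := d22_2 (iv F28911) D19125 (iv D19058) (iv F28912)
def n19126 : Q := act 1 n13911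
theorem D19126 : act 1 n13911 = n19126 := rfl
theorem F35636 : act 3 n19126 = n13912 := d7_2 (iv F24401) D19126 (iv D13912)
def n19127 : Q := act 0 n13912
theorem D19127 : act 0 n13912 = n19127 := rfl
def n19128 : Q := act 2 n13912
theorem D19128 : act 2 n13912 = n19128 := rfl
theorem F35637 : act 1 n19128 = n13914 := d6_1 D19128 (iv D13914) (iv D10965) (iv F19459) D13912
def n19129 : Q := act 5 n13912
theorem D19129 : act 5 n13912 = n19129 := rfl
theorem F35638 : act 1 n19129 = n19062 := d9_1 D19129 (iv D19062) (iv D13868) (iv F19460) D13912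
def n19130 : Q := act 1 n13913
theorem D19130 : act 1 n13913 = n19130 := rfl
theorem F35639 : act 6 n19130 = n19022 := d10_2 F35615 D19130 (iv F34094) (iv F34125) (iv F35617)
def n19131 : Q := act 2 n13913
theorem D19131 : act 2 n13913 = n19131 := rfl
theorem F35640 : act 0 n19131 = n13914 := d1_1 D19131 (iv D13914) D13913
theorem F35641 : act 6 n19131 = n18565 := d14_2 F35615 D19131 F35618
theorem F35642 : act 1 n18562 = n19131 := d10_5 F35641 (iv D18565) (iv D13551) D13549 D18562
def n19132 : Q := act 5 n13913
theorem D19132 : act 5 n13913 = n19132 := rfl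
theorem F35643 : act 0 n19132 = n13915 := d4_1 D19132 (iv D13915) D13913
theorem F35644 : act 6 n19132 = n19118 := d20_2 F35615 D19132 (iv D19118) F24390 D13915 F31951 (iv F35616)
theorem F35645 : act 1 n13952 = n19132 := d24_14 F35644 (iv D19118) (iv D13904) (iv D10961) D10960 (iv F24354) D19057 F35520 (iv F35512) F34644 (iv D18274) F23522 D13946 (iv F24438)
def n19133 : Q := act 3 n13914
theorem D19133 : act 3 n13914 = n19133 := rfl
def n19134 : Q := act 5 n13914
theorem D19134 : act 5 n13914 = n19134 := rfl
theorem F35646 : act 2 n19134 = n13915 := d13_1 D19134 (iv D13915) D13914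
def n19135 : Q := act 1 n13916
theorem D19135 : act 1 n13916 = n19135 := rfl
theorem F35647 : act 4 n19135 = n13917 := d8_2 (iv F24404) D19135 (iv D13917)
theorem F35648 : act 6 n19135 = n14013 := d10_2 D13916 D19135 (iv D14013) (iv D11012) (iv F19461)
def n19136 : Q := act 5 n13916
theorem D19136 : act 5 n13916 = n19136 := rfl
theorem F35649 : act 0 n19136 = n19058 := d4_1 D19136 (iv F35635) F35632
theorem F35650 : act 2 n19136 = n19058 := d13_1 D19136 (iv F35635) F35633
theorem F35651 : act 4 n19136 = n13918 := d18_1 D19136 (iv D13918) (iv F24404)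
theorem F35652 : act 6 n19136 = n14500 := d20_2 D13916 D19136 (iv F28911) D19125 F35635 (iv D19058) F24359
def n19137 : Q := act 0 n13917
theorem D19137 : act 0 n13917 = n19137 := rfl
theorem F35653 : act 3 n19137 = n13919 := d2_2 (iv F24405) D19137 (iv D13919)
theorem F35654 : act 6 n19137 = n14015 := d5_2 (iv F24406) D19137 (iv D14015)
def n19138 : Q := act 2 n13917
theorem D19138 : act 2 n13917 = n19138 := rfl
theorem F35655 : act 6 n19138 = n14016 := d14_2 (iv F24406) D19138 (iv D14016)
theorem F35656 : act 3 n13921 = n19138 := d17_3 F35655 F29213 F24519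
theorem F35657 : act 5 n13917 = n19138 := d22_0 F35655 (iv F29211) (iv F35654) (iv D19137)
def n19139 : Q := act 1 n13918
theorem D19139 : act 1 n13918 = n19139 := rfl
theorem F35658 : act 3 n19139 = n13922 := d7_2 (iv F24409) D19139 (iv D13922)
theorem F35659 : act 6 n19139 = n14735 := d10_2 (iv F28896) D19139 (iv D14735) (iv D11394) D11392
def n19140 : Q := act 1 n13919
theorem D19140 : act 1 n13919 = n19140 := rfl
theorem F35660 : act 6 n19140 = n15419 := d10_2 (iv F24411) D19140 F26783 (iv F35154) (iv D14019)
theorem F35661 : act 2 n15420 = n19140 := d14_3 F35660 (iv D15419) D15420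
def n19141 : Q := act 2 n13919
theorem D19141 : act 2 n13919 = n19141 := rfl
theorem F35662 : act 0 n19141 = n13920 := d1_1 D19141 (iv D13920) D13919
theorem F35663 : act 1 n19141 = n17131 := d6_1 D19141 F30089 (iv F26784) F35661 (iv D19140)
theorem F35664 : act 6 n19141 = n14020 := d14_2 (iv F24411) D19141 (iv D14020)
def n19142 : Q := act 3 n13920
theorem D19142 : act 3 n13920 = n19142 := rfl
theorem F35665 : act 1 n19142 = n13925 := d7_1 D19142 (iv D13925) (iv F24412)
theorem F35666 : act 6 n19142 = n14022 := d17_2 (iv F24413) D19142 (iv D14022)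
def n19143 : Q := act 5 n13920
theorem D19143 : act 5 n13920 = n19143 := rfl
theorem F35667 : act 2 n19143 = n13921 := d13_1 D19143 (iv D13921) D13920
def n19144 : Q := act 1 n13921
theorem D19144 : act 1 n13921 = n19144 := rfl
theorem F35668 : act 5 n19144 = n13922 := d9_2 D13921 D19144 (iv D13922) (iv D10969) D10968
def n19145 : Q := act 0 n13922
theorem D19145 : act 0 n13922 = n19145 := rfl
def n19146 : Q := act 2 n13922
theorem D19146 : act 2 n13922 = n19146 := rfl
theorem F35669 : act 1 n19146 = n13929 := d6_1 D19146 (iv D13929) (iv D10973) (iv F19465) D13922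
def n19147 : Q := act 6 n13922
theorem D19147 : act 6 n13922 = n19147 := rfl
theorem F35670 : act 1 n19147 = n14734 := d10_1 D19147 (iv D14734) F28898 (iv F19466) D13922
theorem F35671 : act 3 n19147 = n14735 := d17_1 D19147 (iv F35659) F35658
def n19148 : Q := act 0 n13923
theorem D19148 : act 0 n13923 = n19148 := rfl
theorem F35672 : act 3 n19148 = n19028 := d2_2 F24478 D19148 (iv F35025)
theorem F35673 : act 5 n18226 = n19148 := d16_0 F35672 (iv D19028) (iv F31893)
def n19149 : Q := act 2 n13923
theorem D19149 : act 2 n13923 = n19149 := rfl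
def n19150 : Q := act 5 n13923
theorem D19150 : act 5 n13923 = n19150 := rfl
theorem F35674 : act 0 n19150 = n18226 := d4_1 D19150 F35673 (iv D19148)
theorem F35675 : act 3 n19150 = n19026 := d16_1 D19150 F35026 F24478
def n19151 : Q := act 6 n13923
theorem D19151 : act 6 n13923 = n19151 := rfl
theorem F35676 : act 1 n19151 = n13934 := d10_1 D19151 (iv D13934) (iv D10974) (iv F19467) D13923
theorem F35677 : act 3 n19151 = n15575 := d17_1 D19151 (iv F35024) F24478
def n19152 : Q := act 1 n13924
theorem D19152 : act 1 n13924 = n19152 := rfl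
theorem F35678 : act 3 n19152 = n13968 := d7_2 (iv F35472) D19152 F24460
theorem F35679 : act 5 n19152 = n14069 := d9_2 (iv F35473) D19152 F24570 F19547 (iv F19497)
def n19153 : Q := act 1 n13926
theorem D19153 : act 1 n13926 = n19153 := rfl
theorem F35680 : act 3 n19153 = n13983 := d7_2 (iv F35466) D19153 (iv D13983)
theorem F35681 : act 6 n19153 = n17280 := d10_2 F24423 D19153 (iv F30558) F35447 F33240
def n19154 : Q := act 0 n13927
theorem D19154 : act 0 n13927 = n19154 := rfl
theorem F35682 : act 5 n19154 = n13928 := d4_2 (iv F24418) D19154 (iv D13928)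
def n19155 : Q := act 2 n13927
theorem D19155 : act 2 n13927 = n19155 := rfl
theorem F35683 : act 5 n19155 = n13929 := d13_2 (iv F24418) D19155 (iv D13929)
def n19156 : Q := act 6 n13927
theorem D19156 : act 6 n13927 = n19156 := rfl
theorem F35684 : act 1 n19156 = n19034 := d10_1 D19156 (iv F34118) (iv D13938) F19471 D13927
def n19157 : Q := act 1 n13928
theorem D19157 : act 1 n13928 = n19157 := rfl
def n19158 : Q := act 2 n13928
theorem D19158 : act 2 n13928 = n19158 := rfl
theorem F35685 : act 0 n19158 = n13929 := d1_1 D19158 (iv D13929) D13928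
def n19159 : Q := act 6 n13928
theorem D19159 : act 6 n13928 = n19159 := rfl
theorem F35686 : act 0 n19159 = n13930 := d5_1 D19159 (iv D13930) D13928
theorem F35687 : act 5 n19159 = n19156 := d22_2 F35682 D19159 (iv D19156) D19154
theorem F35688 : act 1 n19159 = n18250 := d24_2 D19156 (iv F35687) (iv D18250) (iv D13352) (iv D10670) (iv D6861) (iv D3305) (iv D1603) D1605 (iv F3033) D3920 (iv F12208) D10972 D13927
theorem F35689 : act 3 n19078 = n19159 := d7_0 F35688 F31933 D19078
theorem E10180 : n19157 = n18239 := ((c10_5 D19159 F35688 (iv D18250) F23507 D18239 (iv D19157))).symm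
theorem F35690 : act 1 n18239 = n13928 := (sb E10180 (iv D19157))
theorem F35691 : act 1 n19154 = n19080 := d24_5 (iv F31920) (iv F31934) (iv F35688) (iv D19159) (iv F35682) F35547 (iv D13880) (iv D10950) F12201 D8213 D10987 D13963 (iv F31930) (iv D18245)
theorem E10181 : n19054 = n18270 := ((c7_3 (iv F31915) F35690 (iv F31973) (iv D19054))).symm
theorem F35692 : act 1 n18270 = n13859 := (sb E10181 (iv D19054))
theorem F35693 : act 6 n18270 = n19078 := (sb E10181 (iv F35540))
theorem F35694 : act 0 n19078 = n18272 := d5_1 F35693 (iv D18272) D18270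
def n19160 : Q := act 3 n13929
theorem D19160 : act 3 n13929 = n19160 := rfl
def n19161 : Q := act 6 n13929
theorem D19161 : act 6 n13929 = n19161 := rfl
theorem F35695 : act 2 n19161 = n13930 := d14_1 D19161 (iv D13930) D13929
def n19162 : Q := act 5 n13930
theorem D19162 : act 5 n13930 = n19162 := rfl
theorem F35696 : act 0 n19162 = n19156 := d4_1 D19162 (iv F35687) F35686
theorem F35697 : act 6 n19162 = n19154 := d20_2 D13930 D19162 F35682 D19159 F35687 (iv D19156) F24418
def n19163 : Q := act 5 n13931
theorem D19163 : act 5 n13931 = n19163 := rfl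
theorem F35698 : act 0 n19163 = n13933 := d4_1 D19163 (iv D13933) D13931
theorem F35699 : act 2 n19163 = n15342 := d13_1 D19163 F34134 (iv F34132)
def n19164 : Q := act 6 n13931
theorem D19164 : act 6 n13931 = n19164 := rfl
theorem F35700 : act 0 n19164 = n13934 := d5_1 D19164 (iv D13934) D13931
theorem F35701 : act 5 n19164 = n19052 := d22_2 (iv D19163) D19164 F35507 (iv F35698)
theorem F35702 : act 1 n19047 = n19164 := d9_5 F35701 (iv D19052) (iv D13856) D13854 D19047
def n19165 : Q := act 6 n13932
theorem D19165 : act 6 n13932 = n19165 := rfl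
theorem F35703 : act 2 n19165 = n13934 := d14_1 D19165 (iv D13934) D13932
theorem F35704 : act 3 n19165 = n15347 := d17_1 D19165 (iv D15347) (iv F33245)
theorem F35705 : act 2 n15339 = n14822 := d21_0 (iv D14822) F20231 (iv F20794) (iv F35028) F24473 (iv F35703) F35704 F26702
theorem F35706 : act 5 n14822 = n14836 := d13_2 D15339 F35705 F25792
theorem F35707 : act 3 n14836 = n14823 := d16_1 F35706 (iv D14823) D14822
theorem F35708 : act 6 n14823 = n14834 := d17_2 D14836 F35707 (iv D14834)
theorem F35709 : act 2 n14834 = n15396 := d14_1 F35708 (iv D15396) (iv F25772)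
def n19166 : Q := act 5 n13934
theorem D19166 : act 5 n13934 = n19166 := rfl
theorem F35710 : act 0 n19166 = n19052 := d4_1 D19166 (iv F35701) F35700
theorem F35711 : act 3 n19166 = n19042 := d16_1 D19166 (iv F35029) F24473
theorem F35712 : act 6 n19166 = n19163 := d20_2 D13934 D19166 (iv D19163) D19164 F35701 F35507 (iv D13933)
theorem F35713 : act 1 n19166 = n18232 := d24_2 D13934 D19166 (iv D18232) (iv F29237) (iv F29188) D19056 F35517 (iv F24419) (iv D13930) (iv F24418) (iv D13927) (iv F19471) (iv D10976) D10974
def n19167 : Q := act 0 n13935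
theorem D19167 : act 0 n13935 = n19167 := rfl
theorem F35714 : act 2 n19167 = n17184 := d1_2 (iv F33242) D19167 F30169
theorem F35715 : act 5 n19167 = n17182 := d4_2 (iv F33243) D19167 F30167
def n19168 : Q := act 3 n13935
theorem D19168 : act 3 n13935 = n19168 := rfl
theorem F35716 : act 1 n19168 = n13936 := d7_1 D19168 (iv D13936) D13935
theorem F35717 : act 5 n19168 = n17188 := d16_2 (iv F33243) D19168 (iv D17188)
def n19169 : Q := act 6 n13935
theorem D19169 : act 6 n13935 = n19169 := rfl
theorem F35718 : act 2 n19169 = n17194 := d14_1 D19169 (iv D17194) (iv F33242)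
def n19170 : Q := act 0 n13943
theorem D19170 : act 0 n13943 = n19170 := rfl
theorem F35719 : act 6 n19170 = n18285 := d5_2 (iv F24430) D19170 (iv D18285)
def n19171 : Q := act 5 n13943
theorem D19171 : act 5 n13943 = n19171 := rfl
theorem F35720 : act 1 n19171 = n19150 := d9_1 D19171 (iv D19150) (iv D13923) (iv F19476) D13943
theorem F35721 : act 6 n19102 = n19171 := d24_0 (iv D19171) (iv D13943) (iv D10979) (iv D8210) (iv D3920) (iv D1882) (iv D927) D926 D1880 D3916 D8200 D10957 D13895 D19102
theorem F35722 : act 6 n19150 = n19087 := d10_2 F35721 F35720 (iv D19087) (iv F24382) D19102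
theorem E10182 : n19044 = n18285 := ((c22_5 (iv F35571) F35721 (iv D19171) F24430 D18285)).symm
theorem F35723 : act 1 n18285 = n13853 := (sb E10182 (iv D19044))
theorem F35724 : act 5 n18285 = n19102 := (sb E10182 (iv F35571))
theorem F35725 : act 0 n19102 = n18287 := d22_4 (iv D18287) (iv F24430) D19171 (iv F35721)
theorem F35726 : act 0 n19119 = n13963 := d0_7 D19102 F35725 F32000 (iv F35612) (iv D19115) (iv F24391) D19119 F24451 (iv F24381)
theorem F35727 : act 6 n13961 = n19119 := d5_0 F35726 (iv D13963) D13961
theorem F35728 : act 1 n18233 = n13976 := d7_3 (iv F31998) F35723 (iv F31906)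
def n19172 : Q := act 3 n13944
theorem D19172 : act 3 n13944 = n19172 := rfl
theorem F35729 : act 0 n19172 = n13948 := d2_1 D19172 (iv D13948) (iv F24431)
theorem F35730 : act 1 n19172 = n14044 := d7_1 D19172 (iv D14044) F24444
theorem F35731 : act 2 n19172 = n16589 := d11_1 D19172 F34472 F21942 (iv F21413) F34646 F18958 D10981 D13948 F35103 F35105 F29526 (iv F27909) F34649 F23523 D13944
theorem F35732 : act 5 n16591 = n19172 := d13_0 F35731 F29285 D16591
theorem F35733 : act 6 n15386 = n19172 := d14_0 F35731 F34473 (iv F35102)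
def n19173 : Q := act 5 n13944
theorem D19173 : act 5 n13944 = n19173 := rfl
theorem F35734 : act 0 n19173 = n13949 := d4_1 D19173 (iv D13949) (iv F24431)
theorem F35735 : act 2 n19173 = n13945 := d13_1 D19173 (iv D13945) D13944
theorem F35736 : act 3 n19173 = n16591 := d16_1 D19173 F35732 (iv D19172)
theorem F35737 : act 1 n16611 = n19173 := d7_3 F35736 F29307 D16611
def n19174 : Q := act 6 n13944
theorem D19174 : act 6 n13944 = n19174 := rfl
theorem F35738 : act 0 n19174 = n13950 := d5_1 D19174 (iv D13950) (iv F24431)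
theorem F35739 : act 1 n19174 = n15384 := d10_1 D19174 (iv D15384) (iv F34781) (iv D14046) F24444
theorem F35740 : act 2 n19174 = n13946 := d14_1 D19174 (iv D13946) D13944
theorem F35741 : act 3 n19174 = n15386 := d17_1 D19174 F35733 (iv D19172)
def n19175 : Q := act 1 n13945
theorem D19175 : act 1 n13945 = n19175 := rfl
def n19176 : Q := act 1 n13946
theorem D19176 : act 1 n13946 = n19176 := rfl
theorem F35742 : act 0 n19176 = n15561 := d0_1 D19176 F34168 F23479 (iv F34332) (iv F25725) (iv F34563) (iv F34663) F24369 (iv F24433)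
theorem F35743 : act 2 n19176 = n15550 := d6_2 F35740 D19176 (iv F35439) F35441 (iv F35739)
theorem F35744 : act 3 n19176 = n19020 := d7_2 F34638 D19176 (iv F34572)
theorem F35745 : act 5 n19176 = n19130 := d9_2 F24438 D19176 (iv D19130) D19132 (iv F35645)
theorem F35746 : act 6 n19176 = n19020 := d10_2 D13946 D19176 (iv F34572) F34640 F23522
theorem F35747 : act 6 n19175 = n19039 := d24_6 (iv F35639) (iv F35745) (iv D19176) (iv D13946) D13945 D19175 (iv D19039) (iv D13848) D13850 F24342 D19025 F34093 D19028 F34094
def n19177 : Q := act 5 n13947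
theorem D19177 : act 5 n13947 = n19177 := rfl
theorem F35748 : act 0 n19177 = n13956 := d4_1 D19177 (iv D13956) (iv F24443)
theorem F35749 : act 2 n19177 = n13956 := d13_1 D19177 (iv D13956) (iv F24434)
def n19178 : Q := act 6 n13947
theorem D19178 : act 6 n13947 = n19178 := rfl
theorem F35750 : act 0 n19178 = n13957 := d5_1 D19178 (iv D13957) (iv F24443)
theorem F35751 : act 2 n19178 = n13957 := d14_1 D19178 (iv D13957) (iv F24434)
def n19179 : Q := act 4 n13948
theorem D19179 : act 4 n13948 = n19179 := rfl
def n19180 : Q := act 5 n13948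
theorem D19180 : act 5 n13948 = n19180 := rfl
theorem F35752 : act 0 n19180 = n16591 := d4_1 D19180 F35732 F35729
theorem F35753 : act 2 n19180 = n16590 := d13_1 D19180 F29306 (iv F35103)
theorem F35754 : act 3 n19180 = n13949 := d16_1 D19180 (iv D13949) D13948
def n19181 : Q := act 1 n13949
theorem D19181 : act 1 n13949 = n19181 := rfl
def n19182 : Q := act 6 n13949
theorem D19182 : act 6 n13949 = n19182 := rfl
theorem F35755 : act 2 n19182 = n13952 := d14_1 D19182 (iv D13952) (iv F24435)
theorem F35756 : act 5 n19182 = n19174 := d22_2 D13949 D19182 (iv D19174) F24431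
def n19183 : Q := act 5 n13950
theorem D19183 : act 5 n13950 = n19183 := rfl
theorem F35757 : act 0 n19183 = n19182 := d4_1 D19183 F35756 F35738
theorem F35758 : act 2 n19183 = n13953 := d13_1 D19183 (iv D13953) (iv F24436)
theorem F35759 : act 6 n19183 = n19173 := d20_2 D13950 D19183 (iv D19173) D19174 (iv F35756) (iv D19182) (iv D13949)
def n19184 : Q := act 0 n13951
theorem D19184 : act 0 n13951 = n19184 := rfl
theorem F35760 : act 3 n19184 = n19069 := d2_2 F31986 D19184 F35529
theorem F35761 : act 5 n19184 = n13961 := d4_2 (iv F24437) D19184 (iv D13961)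
theorem F35762 : act 6 n18245 = n19184 := d22_3 F24437 D13963 (iv F31930) (iv D19184)
theorem F35763 : act 1 n18606 = n19184 := d24_14 (iv F35762) F31930 F24451 (iv D13889) F19454 (iv D8200) F5983 (iv D3911) D3910 D8190 D10935 D13847 D19036 (iv F34129)
theorem F35764 : act 2 n19184 = n18605 := d6_2 D18606 F35763 (iv D18605) F23825 D13575
def n19185 : Q := act 2 n13951
theorem D19185 : act 2 n13951 = n19185 := rfl
theorem F35765 : act 0 n19185 = n18605 := d1_1 D19185 (iv F35764) (iv D19184)
theorem F35766 : act 5 n19185 = n13962 := d13_2 (iv F24437) D19185 (iv D13962)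
def n19186 : Q := act 6 n13951
theorem D19186 : act 6 n13951 = n19186 := rfl
theorem F35767 : act 0 n19186 = n18245 := d5_1 D19186 F35762 (iv D19184)
theorem F35768 : act 1 n19186 = n19118 := d10_1 D19186 (iv F35644) (iv F35645) (iv D13952) D13951
theorem F35769 : act 3 n19186 = n19067 := d17_1 D19186 (iv F35528) F31986
theorem F35770 : act 5 n19186 = n19119 := d20_1 D19186 (iv F35727) (iv F35761) (iv F35762) F31930 (iv D13963) (iv F24437)
def n19187 : Q := act 1 n13953
theorem D19187 : act 1 n13953 = n19187 := rfl
theorem F35771 : act 0 n19187 = n18241 := d0_1 D19187 (iv F31975) (iv F35694) (iv D19078) F24367 (iv F24403) (iv F35643) (iv F35645) (iv F24439)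
theorem F35772 : act 3 n19187 = n19055 := d7_2 F34643 D19187 (iv F35512)
theorem F35773 : act 6 n19187 = n18240 := d10_2 (iv F24440) D19187 (iv F34146) (iv F35747) (iv D19175)
def n19188 : Q := act 4 n13955
theorem D19188 : act 4 n13955 = n19188 := rfl
theorem F35774 : act 1 n19188 = n13958 := d8_1 D19188 (iv D13958) (iv F24441)
theorem F35775 : act 2 n19188 = n14054 := d12_1 D19188 (iv D14054) F24442
def n19189 : Q := act 5 n13955
theorem D19189 : act 5 n13955 = n19189 := rfl
theorem F35776 : act 2 n19189 = n14055 := d13_1 D19189 (iv D14055) F24442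
theorem F35777 : act 3 n19189 = n13956 := d16_1 D19189 (iv D13956) D13955
def n19190 : Q := act 1 n13956
theorem D19190 : act 1 n13956 = n19190 := rfl
theorem F35778 : act 5 n19190 = n13960 := d9_2 D13956 D19190 (iv D13960) (iv D10986) D10984
def n19191 : Q := act 6 n13956
theorem D19191 : act 6 n13956 = n19191 := rfl
theorem F35779 : act 5 n19191 = n19178 := d22_2 D13956 D19191 (iv D19178) F24443
def n19192 : Q := act 5 n13957
theorem D19192 : act 5 n13957 = n19192 := rfl
theorem F35780 : act 0 n19192 = n19191 := d4_1 D19192 F35779 F35750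
theorem F35781 : act 2 n19192 = n19191 := d13_1 D19192 F35779 F35751
theorem F35782 : act 6 n19192 = n19177 := d20_2 D13957 D19192 (iv D19177) D19178 (iv F35779) (iv D19191) (iv D13956)
def n19193 : Q := act 5 n13958
theorem D19193 : act 5 n13958 = n19193 := rfl
theorem F35783 : act 0 n19193 = n13964 := d4_1 D19193 (iv D13964) (iv F24445)
theorem F35784 : act 2 n19193 = n13964 := d13_1 D19193 (iv D13964) (iv F24446)
theorem F35785 : act 4 n19193 = n13959 := d18_1 D19193 (iv D13959) D13958
theorem F35786 : act 6 n19193 = n19082 := d22_1 D19193 (iv D19082) F24373 (iv F24445)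
def n19194 : Q := act 1 n13959
theorem D19194 : act 1 n13959 = n19194 := rfl
theorem F35787 : act 3 n19194 = n13960 := d7_2 (iv F24449) D19194 (iv D13960)
def n19195 : Q := act 0 n13960
theorem D19195 : act 0 n13960 = n19195 := rfl
def n19196 : Q := act 2 n13960
theorem D19196 : act 2 n13960 = n19196 := rfl
theorem F35788 : act 1 n19196 = n13962 := d6_1 D19196 (iv D13962) (iv D10987) (iv F19480) D13960
def n19197 : Q := act 6 n13960
theorem D19197 : act 6 n13960 = n19197 := rfl
theorem F35789 : act 1 n19197 = n19086 := d10_1 D19197 (iv D19086) (iv D13886) (iv F19481) D13960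
def n19198 : Q := act 1 n13961
theorem D19198 : act 1 n13961 = n19198 := rfl
theorem F35790 : act 5 n19198 = n19019 := d9_2 F35761 D19198 (iv F34127) (iv F34129) F35763
theorem F35791 : act 6 n19198 = n19106 := d10_2 (iv F35727) D19198 (iv D19106) (iv F24392) D19119
def n19199 : Q := act 2 n13961
theorem D19199 : act 2 n13961 = n19199 := rfl
theorem F35792 : act 0 n19199 = n13962 := d1_1 D19199 (iv D13962) D13961
theorem F35793 : act 5 n19199 = n18605 := d13_2 F35761 D19199 (iv F35764)
theorem F35794 : act 1 n18600 = n19199 := d9_5 F35793 (iv D18605) (iv D13574) D13572 D18600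
def n19200 : Q := act 3 n13962
theorem D19200 : act 3 n13962 = n19200 := rfl
def n19201 : Q := act 6 n13962
theorem D19201 : act 6 n13962 = n19201 := rfl
theorem F35795 : act 2 n19201 = n13963 := d14_1 D19201 (iv D13963) D13962
def n19202 : Q := act 1 n13964
theorem D19202 : act 1 n13964 = n19202 := rfl
theorem F35796 : act 4 n19202 = n13965 := d8_2 (iv F24452) D19202 (iv D13965)
theorem F35797 : act 5 n19202 = n14060 := d9_2 D13964 D19202 (iv D14060) (iv D11035) (iv F19482)
def n19203 : Q := act 6 n13964
theorem D19203 : act 6 n13964 = n19203 := rfl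
theorem F35798 : act 0 n19203 = n19082 := d5_1 D19203 (iv F35786) F35783
theorem F35799 : act 2 n19203 = n19082 := d14_1 D19203 (iv F35786) F35784
theorem F35800 : act 4 n19203 = n13966 := d19_1 D19203 (iv D13966) (iv F24452)
theorem F35801 : act 5 n19203 = n14522 := d20_1 D19203 F34603 D19193 F35786 (iv D19082) F24373 D13964
def n19204 : Q := act 0 n13965
theorem D19204 : act 0 n13965 = n19204 := rfl
theorem F35802 : act 3 n19204 = n13967 := d2_2 (iv F24453) D19204 (iv D13967)
theorem F35803 : act 5 n19204 = n14062 := d4_2 (iv F24454) D19204 (iv D14062)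
def n19205 : Q := act 2 n13965
theorem D19205 : act 2 n13965 = n19205 := rfl
theorem F35804 : act 5 n19205 = n14063 := d13_2 (iv F24454) D19205 (iv D14063)
theorem F35805 : act 3 n13969 = n19205 := d16_3 F35804 F35248 F24569
theorem F35806 : act 6 n13965 = n19205 := d22_1 (iv F24454) F35804 (iv F35246) (iv D14062)
def n19206 : Q := act 1 n13966
theorem D19206 : act 1 n13966 = n19206 := rfl
theorem F35807 : act 3 n19206 = n13970 := d7_2 (iv F24457) D19206 (iv D13970)
theorem F35808 : act 5 n19206 = n14784 := d9_2 (iv F34558) D19206 (iv D14784) (iv D11416) D11414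
def n19207 : Q := act 1 n13967
theorem D19207 : act 1 n13967 = n19207 := rfl
theorem F35809 : act 5 n19207 = n15361 := d9_2 (iv F24459) D19207 F26719 (iv F35230) (iv D14066)
theorem F35810 : act 2 n15362 = n19207 := d23_1 D15362 (iv D19207) (iv D13967) F19484 D11039 F19542 (iv F19544) F19545 (iv D8262) F17207 F5995 F17065 D7773 (iv F19138) (iv F23835) (iv F33300) (iv D18616) F33256 (iv D15360)
def n19208 : Q := act 2 n13967
theorem D19208 : act 2 n13967 = n19208 := rfl
theorem F35811 : act 0 n19208 = n13968 := d1_1 D19208 (iv D13968) D13967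
theorem F35812 : act 1 n19208 = n16937 := d6_1 D19208 F29837 (iv F26720) F35810 (iv D19207)
theorem F35813 : act 5 n19208 = n14067 := d13_2 (iv F24459) D19208 (iv D14067)
def n19209 : Q := act 6 n13968
theorem D19209 : act 6 n13968 = n19209 := rfl
theorem F35814 : act 2 n19209 = n13969 := d14_1 D19209 (iv D13969) D13968
def n19210 : Q := act 1 n13969
theorem D19210 : act 1 n13969 = n19210 := rfl
theorem F35815 : act 6 n19210 = n13970 := d10_2 D13969 D19210 (iv D13970) (iv D10991) D10990
def n19211 : Q := act 0 n13970
theorem D19211 : act 0 n13970 = n19211 := rfl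
def n19212 : Q := act 2 n13970
theorem D19212 : act 2 n13970 = n19212 := rfl
theorem F35816 : act 1 n19212 = n13977 := d6_1 D19212 (iv D13977) (iv D10995) (iv F19486) D13970
def n19213 : Q := act 5 n13970
theorem D19213 : act 5 n13970 = n19213 := rfl
theorem F35817 : act 1 n19213 = n14783 := d9_1 D19213 (iv D14783) F34560 (iv F19487) D13970
theorem F35818 : act 3 n19213 = n14784 := d16_1 D19213 (iv F35808) F35807
def n19214 : Q := act 0 n13971
theorem D19214 : act 0 n13971 = n19214 := rfl
theorem F35819 : act 3 n19214 = n19036 := d2_2 (iv F24462) D19214 F34126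
theorem F35820 : act 6 n18230 = n19214 := d17_0 F35819 (iv D19036) (iv F31898)
def n19215 : Q := act 2 n13971
theorem D19215 : act 2 n13971 = n19215 := rfl
def n19216 : Q := act 5 n13971
theorem D19216 : act 5 n13971 = n19216 := rfl
theorem F35821 : act 1 n19216 = n13981 := d9_1 D19216 (iv D13981) (iv D10996) (iv F19489) D13971
theorem F35822 : act 3 n19216 = n15496 := d16_1 D19216 F33249 (iv F24462)
def n19217 : Q := act 6 n13971
theorem D19217 : act 6 n13971 = n19217 := rfl
theorem F35823 : act 0 n19217 = n18230 := d5_1 D19217 F35820 (iv D19214)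
theorem F35824 : act 3 n19217 = n19034 := d17_1 D19217 (iv F34118) (iv F24462)
def n19218 : Q := act 0 n13975
theorem D19218 : act 0 n13975 = n19218 := rfl
theorem F35825 : act 3 n19218 = n19170 := d2_2 (iv F24467) D19218 (iv D19170)
theorem F35826 : act 6 n19218 = n13976 := d5_2 (iv F24468) D19218 (iv D13976)
theorem F35827 : act 1 n19056 = n19218 := d10_5 F35826 (iv F35728) F31907 (iv F29188) D19056
def n19219 : Q := act 2 n13975
theorem D19219 : act 2 n13975 = n19219 := rfl
theorem F35828 : act 6 n19219 = n13977 := d14_2 (iv F24468) D19219 (iv D13977)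
def n19220 : Q := act 5 n13975
theorem D19220 : act 5 n13975 = n19220 := rfl
theorem F35829 : act 1 n19220 = n19026 := d9_1 D19220 F35026 (iv D13986) F19496 D13975
theorem F35830 : act 3 n19220 = n19171 := d16_1 D19220 (iv D19171) (iv F24467)
def n19221 : Q := act 2 n13976
theorem D19221 : act 2 n13976 = n19221 := rfl
theorem F35831 : act 0 n19221 = n13977 := d1_1 D19221 (iv D13977) D13976
def n19222 : Q := act 5 n13976
theorem D19222 : act 5 n13976 = n19222 := rfl
theorem F35832 : act 0 n19222 = n13978 := d4_1 D19222 (iv D13978) D13976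
theorem F35833 : act 1 n19222 = n18263 := d9_1 D19222 (iv D18263) F23513 D18233 F35728
theorem F35834 : act 3 n19222 = n19102 := d16_1 D19222 (iv F35724) F31998
theorem F35835 : act 6 n19222 = n19220 := d22_1 D19222 (iv D19220) F24468 D13976
def n19223 : Q := act 3 n13977
theorem D19223 : act 3 n13977 = n19223 := rfl
def n19224 : Q := act 5 n13977
theorem D19224 : act 5 n13977 = n19224 := rfl
theorem F35836 : act 2 n19224 = n13978 := d13_1 D19224 (iv D13978) D13977
def n19225 : Q := act 6 n13978
theorem D19225 : act 6 n13978 = n19225 := rfl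
theorem F35837 : act 0 n19225 = n19220 := d5_1 D19225 (iv F35835) F35832
theorem F35838 : act 1 n19225 = n19162 := d10_1 D19225 F35697 F35691 F35547 (iv F24469)
theorem F35839 : act 5 n19225 = n19218 := d20_1 D19225 F35826 D19222 F35835 (iv D19220) F24468 D13978
def n19226 : Q := act 5 n13979
theorem D19226 : act 5 n13979 = n19226 := rfl
theorem F35840 : act 0 n19226 = n13981 := d4_1 D19226 (iv D13981) D13979
theorem F35841 : act 3 n19226 = n19163 := d16_1 D19226 (iv D19163) (iv F24471)
theorem F35842 : act 6 n19226 = n19042 := d22_1 D19226 (iv F35029) (iv D13982) D13979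
theorem F35843 : act 1 n19040 = n19226 := d10_5 F35842 (iv D19042) (iv D13850) D13848 D19040
def n19227 : Q := act 6 n13979
theorem D19227 : act 6 n13979 = n19227 := rfl
theorem F35844 : act 0 n19227 = n13982 := d5_1 D19227 (iv D13982) D13979
theorem F35845 : act 2 n19227 = n15400 := d14_1 D19227 F35043 F34138
theorem F35846 : act 3 n19227 = n19164 := d17_1 D19227 (iv D19164) (iv F24471)
def n19228 : Q := act 5 n13980
theorem D19228 : act 5 n13980 = n19228 := rfl
theorem F35847 : act 2 n19228 = n13981 := d13_1 D19228 (iv D13981) D13980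
theorem F35848 : act 3 n19228 = n15405 := d16_1 D19228 (iv D15405) (iv F35039)
def n19229 : Q := act 6 n13981
theorem D19229 : act 6 n13981 = n19229 := rfl
theorem F35849 : act 0 n19229 = n19042 := d5_1 D19229 (iv F35842) F35840
theorem F35850 : act 3 n19229 = n19052 := d17_1 D19229 F35507 (iv F24472)
theorem F35851 : act 5 n19229 = n19227 := d20_1 D19229 (iv D19227) D19226 F35842 (iv F35029) (iv D13982) D13981
theorem F35852 : act 1 n18236 = n19229 := d24_14 (iv D19229) (iv D13981) (iv D10996) D10998 F19496 D13975 F24468 D13978 F24469 (iv F35547) (iv D19080) F34563 F34378 D18236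
def n19230 : Q := act 0 n13983
theorem D19230 : act 0 n13983 = n19230 := rfl
theorem F35853 : act 2 n19230 = n17277 := d1_2 (iv F35033) D19230 F30308
theorem F35854 : act 6 n19230 = n17274 := d5_2 (iv F35034) D19230 F30304
def n19231 : Q := act 5 n13983
theorem D19231 : act 5 n13983 = n19231 := rfl
theorem F35855 : act 2 n19231 = n17287 := d13_1 D19231 (iv D17287) (iv F35033)
def n19232 : Q := act 0 n13991
theorem D19232 : act 0 n13991 = n19232 := rfl
theorem F35856 : act 3 n19232 = n19154 := d2_2 (iv F24485) D19232 (iv D19154)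
theorem F35857 : act 5 n19232 = n18270 := d4_2 (iv F24486) D19232 (iv D18270)
def n19233 : Q := act 6 n13991
theorem D19233 : act 6 n13991 = n19233 := rfl
theorem F35858 : act 1 n19233 = n19217 := d10_1 D19233 (iv D19217) (iv D13971) (iv F19502) D13991
theorem F35859 : act 3 n19233 = n19156 := d17_1 D19233 (iv D19156) (iv F24485)
theorem F35860 : act 5 n19233 = n19078 := d22_2 (iv F24486) D19233 (iv F35693) (iv D18270)
theorem F35861 : act 5 n19063 = n19217 := d9_4 F35860 (iv D19078) F24368 D19063 (iv F35858)
def n19234 : Q := act 5 n13992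
theorem D19234 : act 5 n13992 = n19234 := rfl
theorem F35862 : act 0 n19234 = n13994 := d4_1 D19234 (iv D13994) D13992
theorem F35863 : act 2 n19234 = n13998 := d13_1 D19234 (iv D13998) (iv F24487)
def n19235 : Q := act 6 n13992
theorem D19235 : act 6 n13992 = n19235 := rfl
theorem F35864 : act 0 n19235 = n13995 := d5_1 D19235 (iv D13995) D13992
theorem F35865 : act 2 n19235 = n13999 := d14_1 D19235 (iv D13999) (iv F24487)
def n19236 : Q := act 2 n13993
theorem D19236 : act 2 n13993 = n19236 := rfl
theorem F35866 : act 1 n19236 = n19236 := d6_1 D19236 (iv D19236) F24488 F19507 (iv F24488)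
theorem F35867 : act 4 n19236 = n15869 := d12_2 F29416 D19236 (iv F29417)
theorem F35868 : act 5 n15868 = n19236 := d18_0 F35867 (iv D15869) D15868
def n19237 : Q := act 5 n13993
theorem D19237 : act 5 n13993 = n19237 := rfl
theorem F35869 : act 1 n19237 = n19237 := d9_1 D19237 (iv D19237) F24488 F19505 (iv F24488)
theorem F35870 : act 2 n19237 = n15868 := d13_1 D19237 F35868 (iv D19236)
theorem F35871 : act 3 n19237 = n13994 := d16_1 D19237 (iv D13994) D13993
theorem F35872 : act 4 n19237 = n15867 := d18_1 D19237 F29418 F29416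
def n19238 : Q := act 6 n13993
theorem D19238 : act 6 n13993 = n19238 := rfl
theorem F35873 : act 1 n19238 = n18336 := d10_1 D19238 (iv D18336) F23564 (iv F19506) (iv F24488)
theorem F35874 : act 3 n19238 = n13995 := d17_1 D19238 (iv D13995) D13993
def n19239 : Q := act 6 n13994
theorem D19239 : act 6 n13994 = n19239 := rfl
theorem F35875 : act 2 n19239 = n14004 := d14_1 D19239 (iv D14004) (iv F24490)
theorem F35876 : act 5 n19239 = n19235 := d22_2 D13994 D19239 (iv D19235) (iv D13992)
def n19240 : Q := act 5 n13995
theorem D19240 : act 5 n13995 = n19240 := rfl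
theorem F35877 : act 0 n19240 = n19239 := d4_1 D19240 F35876 F35864
theorem F35878 : act 2 n19240 = n14005 := d13_1 D19240 (iv D14005) (iv F24492)
theorem F35879 : act 6 n19240 = n19234 := d20_2 D13995 D19240 (iv D19234) D19235 (iv F35876) (iv D19239) (iv D13994)
def n19241 : Q := act 4 n13997
theorem D19241 : act 4 n13997 = n19241 := rfl
theorem F35880 : act 0 n19241 = n14001 := d3_1 D19241 (iv D14001) (iv F24497)
theorem F35881 : act 2 n19241 = n16261 := d12_1 D19241 F28136 (iv F28998)
theorem F35882 : act 5 n19241 = n15088 := d18_2 (iv F28999) D19241 F26285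
def n19242 : Q := act 1 n13999
theorem D19242 : act 1 n13999 = n19242 := rfl
theorem F35883 : act 3 n19242 = n16597 := d7_2 F29601 D19242 F29603
theorem F35884 : act 6 n19242 = n16599 := d10_2 D13999 D19242 F35593 (iv D19105) (iv F24396)
def n19243 : Q := act 6 n14001
theorem D19243 : act 6 n14001 = n19243 := rfl
theorem F35885 : act 2 n19243 = n16266 := d14_1 D19243 (iv D16266) (iv F29001)
theorem F35886 : act 4 n19243 = n14003 := d19_1 D19243 (iv D14003) D14001
def n19244 : Q := act 1 n14004
theorem D19244 : act 1 n14004 = n19244 := rfl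
theorem F35887 : act 3 n19244 = n16781 := d7_2 F29015 D19244 (iv D16781)
theorem F35888 : act 6 n19244 = n16784 := d10_2 D14004 D19244 (iv D16784) (iv D12501) (iv F28991)
def n19245 : Q := act 1 n14005
theorem D19245 : act 1 n14005 = n19245 := rfl
def n19246 : Q := act 3 n14007
theorem D19246 : act 3 n14007 = n19246 := rfl
theorem F35889 : act 1 n19246 = n14010 := d7_1 D19246 (iv D14010) (iv F24506)
theorem F35890 : act 4 n19246 = n14008 := d15_2 D14007 D19246 (iv F29157) (iv D14087) F19554
theorem F35891 : act 5 n14007 = n19246 := d18_0 F35890 (iv D14008) D14007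
def n19247 : Q := act 6 n14007
theorem D19247 : act 6 n14007 = n19247 := rfl
theorem F35892 : act 4 n19247 = n14009 := d19_1 D19247 (iv D14009) D14007
def n19248 : Q := act 6 n14008
theorem D19248 : act 6 n14008 = n19248 := rfl
theorem F35893 : act 5 n19248 = n14383 := d22_2 D14008 D19248 (iv D14383) F29139
def n19249 : Q := act 1 n14009
theorem D19249 : act 1 n14009 = n19249 := rfl
theorem F35894 : act 3 n19249 = n18697 := d7_2 F24601 D19249 F33459
theorem F35895 : act 6 n19249 = n14012 := d10_2 D14009 D19249 (iv D14012) (iv D11011) D11009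
theorem F35896 : act 5 n14757 = n19249 := d24_1 D14757 (iv D19249) (iv D14009) D14008 F29159 (iv F33464) F33463 (iv F25700) (iv D14753) (iv F25699) (iv D14750) (iv F20202) (iv D11406) D11404
def n19250 : Q := act 5 n14009
theorem D19250 : act 5 n14009 = n19250 := rfl
theorem F35897 : act 0 n19250 = n19248 := d4_1 D19250 F35893 (iv F29166)
theorem F35898 : act 6 n19250 = n14373 := d20_2 D14009 D19250 F25124 D14383 (iv F35893) (iv D19248) (iv D14008)
def n19251 : Q := act 6 n14010
theorem D19251 : act 6 n14010 = n19251 := rfl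
theorem F35899 : act 3 n19251 = n14011 := d17_1 D19251 (iv D14011) D14010
theorem F35900 : act 4 n19251 = n18698 := d19_1 D19251 F33464 F24603
def n19252 : Q := act 1 n14011
theorem D19252 : act 1 n14011 = n19252 := rfl
theorem F35901 : act 4 n19252 = n14012 := d8_2 (iv F24508) D19252 (iv D14012)
def n19253 : Q := act 0 n14013
theorem D19253 : act 0 n14013 = n19253 := rfl
theorem F35902 : act 1 n19253 = n15106 := d0_2 D14013 D19253 F26316 F20529 (iv F21574) D16336 (iv F33325) F33326 F23879
theorem F35903 : act 4 n19253 = n14015 := d3_2 (iv F24510) D19253 (iv D14015)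
def n19254 : Q := act 2 n14013
theorem D19254 : act 2 n14013 = n19254 := rfl
theorem F35904 : act 4 n19254 = n14016 := d12_2 (iv F24510) D19254 (iv D14016)
theorem F35905 : act 5 n19253 = n19254 := d18_0 F35904 (iv F29211) (iv F35903)
def n19255 : Q := act 5 n14013
theorem D19255 : act 5 n14013 = n19255 := rfl
theorem F35906 : act 0 n19255 = n19254 := d4_1 D19255 (iv F35905) (iv D19253)
theorem F35907 : act 2 n19255 = n19253 := d13_1 D19255 F35905 (iv D19254)
theorem F35908 : act 4 n19255 = n14017 := d18_1 D19255 (iv D14017) (iv F24510)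
def n19256 : Q := act 1 n14014
theorem D19256 : act 1 n14014 = n19256 := rfl
theorem F35909 : act 4 n19256 = n14018 := d8_2 (iv F24512) D19256 (iv D14018)
def n19257 : Q := act 1 n14017
theorem D19257 : act 1 n14017 = n19257 := rfl
theorem F35910 : act 2 n19257 = n15311 := d6_2 F29210 D19257 (iv D15311) (iv F20772) (iv F29209)
theorem F35911 : act 3 n19257 = n14024 := d7_2 (iv F24515) D19257 (iv D14024)
theorem F35912 : act 5 n19257 = n14018 := d9_2 D14017 D19257 (iv D14018) (iv D11014) D11013
def n19258 : Q := act 6 n14017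
theorem D19258 : act 6 n14017 = n19258 := rfl
theorem F35913 : act 0 n19258 = n19138 := d5_1 D19258 F35655 (iv F29212)
theorem F35914 : act 2 n19258 = n19137 := d14_1 D19258 F35654 F29210
theorem F35915 : act 3 n19258 = n14025 := d17_1 D19258 (iv D14025) (iv F24515)
theorem F35916 : act 5 n19258 = n19137 := d20_1 D19258 F35654 F29211 (iv F35655) (iv F35657) F24406 D14017
def n19259 : Q := act 2 n14018
theorem D19259 : act 2 n14018 = n19259 := rfl
theorem F35917 : act 1 n19259 = n15432 := d6_1 D19259 F33401 (iv D18666) F23906 D14018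
theorem F35918 : act 5 n19259 = n15311 := d13_2 F35912 D19259 (iv F35910)
def n19260 : Q := act 3 n14020
theorem D19260 : act 3 n14020 = n19260 := rfl
theorem F35919 : act 0 n19260 = n14022 := d2_1 D19260 (iv D14022) (iv F24517)
theorem F35920 : act 1 n19260 = n16878 := d7_1 D19260 F29768 (iv F35163)
def n19261 : Q := act 5 n14020
theorem D19261 : act 5 n14020 = n19261 := rfl
theorem F35921 : act 0 n19261 = n14023 := d4_1 D19261 (iv D14023) (iv F24517)
theorem F35922 : act 2 n19261 = n14021 := d13_1 D19261 (iv D14021) D14020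
theorem F35923 : act 6 n19261 = n19143 := d22_1 D19261 (iv D19143) F24413 (iv F24517)
def n19262 : Q := act 1 n14021
theorem D19262 : act 1 n14021 = n19262 := rfl
theorem F35924 : act 3 n19262 = n15374 := d7_2 F29213 D19262 (iv F29206)
theorem F35925 : act 5 n19262 = n15366 := d9_2 D14021 D19262 (iv D15366) (iv F29217) (iv D14019)
def n19263 : Q := act 2 n14022
theorem D19263 : act 2 n14022 = n19263 := rfl
theorem F35926 : act 3 n19263 = n14023 := d21_1 D19263 F24521 (iv F24515) (iv F29210) F24514 D14020 D19260 F35919
theorem F35927 : act 5 n14022 = n19263 := d16_0 F35926 (iv D14023) D14022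
def n19264 : Q := act 4 n14022
theorem D19264 : act 4 n14022 = n19264 := rfl
theorem F35928 : act 1 n19264 = n14031 := d8_1 D19264 (iv D14031) (iv F24520)
def n19265 : Q := act 1 n14023
theorem D19265 : act 1 n14023 = n19265 := rfl
theorem F35929 : act 5 n19265 = n14028 := d9_2 D14023 D19265 (iv D14028) F19520 (iv F19518)
def n19266 : Q := act 6 n14023
theorem D19266 : act 6 n14023 = n19266 := rfl
theorem F35930 : act 0 n19266 = n19143 := d5_1 D19266 (iv F35923) F35921
theorem F35931 : act 2 n19266 = n14025 := d14_1 D19266 (iv D14025) (iv F24521)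
theorem F35932 : act 5 n19266 = n19141 := d20_1 D19266 F35664 D19261 F35923 (iv D19143) F24413 D14023
def n19267 : Q := act 0 n14024
theorem D19267 : act 0 n14024 = n19267 := rfl
theorem F35933 : act 5 n19267 = n14026 := d4_2 (iv F24522) D19267 (iv D14026)
def n19268 : Q := act 6 n14024
theorem D19268 : act 6 n14024 = n19268 := rfl
def n19269 : Q := act 1 n14025
theorem D19269 : act 1 n14025 = n19269 := rfl
def n19270 : Q := act 6 n14026
theorem D19270 : act 6 n14026 = n19270 := rfl
theorem F35934 : act 0 n19270 = n14027 := d5_1 D19270 (iv D14027) D14026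
theorem F35935 : act 5 n19270 = n19268 := d22_2 F35933 D19270 (iv D19268) D19267
def n19271 : Q := act 5 n14027
theorem D19271 : act 5 n14027 = n19271 := rfl
theorem F35936 : act 0 n19271 = n19268 := d4_1 D19271 (iv F35935) F35934
theorem F35937 : act 6 n19271 = n19267 := d20_2 D14027 D19271 F35933 D19270 F35935 (iv D19268) F24522
def n19272 : Q := act 0 n14028
theorem D19272 : act 0 n14028 = n19272 := rfl
def n19273 : Q := act 3 n14028
theorem D19273 : act 3 n14028 = n19273 := rfl
theorem F35938 : act 1 n19273 = n14029 := d7_1 D19273 (iv D14029) D14028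
def n19274 : Q := act 6 n14028
theorem D19274 : act 6 n14028 = n19274 := rfl
theorem F35939 : act 1 n19274 = n14035 := d10_1 D19274 (iv D14035) (iv D11021) (iv F19521) D14028
def n19275 : Q := act 4 n14029
theorem D19275 : act 4 n14029 = n19275 := rfl
theorem F35940 : act 0 n19275 = n14031 := d3_1 D19275 (iv D14031) (iv F24526)
theorem F35941 : act 5 n19275 = n14031 := d18_2 (iv F24527) D19275 (iv D14031)
theorem F35942 : act 6 n19275 = n14036 := d19_2 (iv F24528) D19275 (iv D14036)
def n19276 : Q := act 1 n14030
theorem D19276 : act 1 n14030 = n19276 := rfl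
theorem F35943 : act 3 n19276 = n17310 := d7_2 (iv F32898) D19276 F30362
def n19277 : Q := act 4 n14030
theorem D19277 : act 4 n14030 = n19277 := rfl
theorem F35944 : act 2 n19277 = n14031 := d12_1 D19277 (iv D14031) D14030
theorem F35945 : act 3 n19277 = n17313 := d15_1 D19277 (iv D17313) (iv D12807) D12808 (iv F32898)
theorem F35946 : act 6 n19277 = n14038 := d19_2 (iv F24529) D19277 (iv D14038)
def n19278 : Q := act 1 n14032
theorem D19278 : act 1 n14032 = n19278 := rfl
def n19279 : Q := act 3 n14032
theorem D19279 : act 3 n14032 = n19279 := rfl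
theorem F35947 : act 0 n19279 = n14033 := d2_1 D19279 (iv D14033) D14032
def n19280 : Q := act 5 n14032
theorem D19280 : act 5 n14032 = n19280 := rfl
theorem F35948 : act 0 n19280 = n14034 := d4_1 D19280 (iv D14034) D14032
def n19281 : Q := act 6 n14032
theorem D19281 : act 6 n14032 = n19281 := rfl
theorem F35949 : act 0 n19281 = n14035 := d5_1 D19281 (iv D14035) D14032
def n19282 : Q := act 2 n14033
theorem D19282 : act 2 n14033 = n19282 := rfl
def n19283 : Q := act 4 n14033
theorem D19283 : act 4 n14033 = n19283 := rfl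
theorem F35950 : act 1 n19283 = n14036 := d8_1 D19283 (iv D14036) (iv F24531)
def n19284 : Q := act 5 n14033
theorem D19284 : act 5 n14033 = n19284 := rfl
theorem F35952 : act 3 n19284 = n14034 := d16_1 D19284 (iv D14034) D14033
def n19285 : Q := act 6 n14033
theorem D19285 : act 6 n14033 = n19285 := rfl
theorem F35953 : act 3 n19285 = n14035 := d17_1 D19285 (iv D14035) D14033
def n19286 : Q := act 6 n14034
theorem D19286 : act 6 n14034 = n19286 := rfl
theorem F35954 : act 5 n19286 = n19281 := d22_2 D14034 D19286 (iv D19281) (iv D14032)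
def n19287 : Q := act 5 n14035
theorem D19287 : act 5 n14035 = n19287 := rfl
theorem F35955 : act 0 n19287 = n19286 := d4_1 D19287 F35954 F35949
theorem F35956 : act 6 n19287 = n19280 := d20_2 D14035 D19287 (iv D19280) D19281 (iv F35954) (iv D19286) (iv D14034)
def n19288 : Q := act 0 n14037
theorem D19288 : act 0 n14037 = n19288 := rfl
theorem F35957 : act 2 n19288 = n19232 := d1_2 (iv F35479) D19288 (iv D19232)
def n19289 : Q := act 4 n14037
theorem D19289 : act 4 n14037 = n19289 := rfl
theorem F35958 : act 1 n19289 = n14038 := d8_1 D19289 (iv D14038) D14037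
theorem F35959 : act 2 n19289 = n18905 := d12_1 D19289 F33843 (iv F35479)
def n19290 : Q := act 6 n14037
theorem D19290 : act 6 n14037 = n19290 := rfl
theorem F35960 : act 2 n19290 = n19233 := d14_1 D19290 (iv D19233) (iv F35479)
theorem F35961 : act 3 n19290 = n17649 := d17_1 D19290 (iv F35209) F24686
theorem F35962 : act 5 n15839 = n19290 := d16_0 F35961 (iv D17649) (iv F27382)
theorem F35963 : act 2 n19078 = n15839 := d13_3 F35962 F35960 F35860
theorem E10183 : n15810 = n13877 := (c6_5 F35963 (iv D15839) (iv D11983) (iv F21121) D15810 D19078)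
theorem E10184 : n19077 = n11968 := (((iv F35538)).symm.trans (sb E10183 (iv D15810)))
theorem E10185 : n19066 = n15807 := ((((iv F27341)).symm.trans (sb E10184 F35537))).symm
theorem F35964 : act 2 n11968 = n13877 := (sb E10184 F35538)
theorem E10186 : n19064 = n15776 := ((((iv F27306)).symm.trans (sb E10184 F35539))).symm
theorem E10187 : n15812 = n13876 := ((D15812).symm.trans (sb E10184 (iv D19077)))
theorem F35965 : act 2 n15807 = n13871 := (sb E10185 F35527)
theorem F35966 : act 5 n15807 = n13870 := (sb E10185 (iv D19066))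
theorem F35967 : act 6 n15807 = n19072 := (sb E10185 (iv F35534))
theorem F35968 : act 0 n15776 = n13870 := (sb E10186 F35524)
theorem F35969 : act 2 n15776 = n13869 := (sb E10186 (iv D19064))
theorem F35970 : act 6 n15776 = n13873 := (sb E10186 F35525)
theorem E10188 : n19075 = n11969 := (((iv F35535)).symm.trans (sb E10187 F27346))
theorem F35971 : act 6 n13876 = n11968 := (sb E10187 (iv D15812))
theorem F35972 : act 3 n11969 = n13876 := (sb E10188 F35535)
theorem E10189 : n15814 = n13875 := ((D15814).symm.trans (sb E10188 (iv D19075)))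
theorem E10190 : n19071 = n15777 := (((iv F35531)).symm.trans (sb E10189 F27348))
theorem E10191 : n19073 = n11971 := ((D19073).symm.trans (sb E10189 F27349))
theorem F35973 : act 5 n13875 = n11969 := (sb E10189 (iv D15814))
theorem E10192 : n19065 = n15775 := (((iv F35526)).symm.trans (sb E10189 F27350))
theorem F35974 : act 0 n15777 = n13875 := (sb E10190 F35531)
theorem F35975 : act 3 n15777 = n13873 := (sb E10190 (iv D19071))
theorem F35976 : act 2 n11971 = n13875 := (sb E10191 (iv D19073))
theorem F35977 : act 3 n15775 = n13870 := (sb E10192 (iv D19065))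
theorem F35978 : act 6 n15775 = n13875 := (sb E10192 F35526)
theorem F35979 : act 3 n18243 = n14139 := d21_5 D15775 F35977 (iv D13870) (iv F23504) D18243 F24695 F19782 D11953
theorem F35980 : act 5 n14137 = n18243 := d16_0 F35979 (iv D14139) D14137
theorem F35981 : act 6 n14139 = n18248 := d17_2 (iv F31922) F35979 (iv D18248)
theorem F35982 : act 2 n18248 = n14275 := d14_1 F35981 (iv D14275) (iv F24695)
theorem F35983 : act 2 n18244 = n14137 := d13_3 F35980 (iv D18243) D18244
theorem E10193 : n19282 = n18269 := (c6_5 F35983 F24691 F19610 (iv F24531) D19282 F31970)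
theorem F35984 : act 2 n18269 = n14033 := (sb E10193 (iv D19282))
theorem E10194 : n19284 = n18268 := (c13_3 D18269 F35984 D19284 (iv D18268))
theorem F35985 : act 3 n18268 = n14034 := (sb E10194 F35952)
theorem F35986 : act 5 n18268 = n14033 := (sb E10194 (iv D19284))
theorem E10195 : n19285 = n19092 := (c14_3 F31972 F35984 D19285 (iv D19092))
theorem F35987 : act 3 n19092 = n14035 := (sb E10195 F35953)
theorem F35988 : act 6 n19092 = n14033 := (sb E10195 (iv D19285))
theorem F35989 : act 2 n19074 = n14302 := d12_3 F34967 F35976 D19074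
theorem F35990 : act 5 n15796 = n19074 := d13_0 F35989 F34968 (iv F27329)
theorem F35991 : act 3 n19072 = n15808 := d16_3 F27344 F35975 D19072
theorem F35992 : act 3 n19076 = n15813 := d7_2 F35972 D19076 (iv D15813)
theorem F35993 : act 6 n15842 = n19076 := d17_0 F35992 F27347 (iv F27389)
theorem F35994 : act 6 n15811 = n18763 := d19_2 F35971 D15811 F33588
theorem F35995 : act 2 n18764 = n15811 := d14_3 F35994 F33587 D18764
def n19291 : Q := act 5 n14039
theorem D19291 : act 5 n14039 = n19291 := rfl
theorem F35996 : act 0 n19291 = n14041 := d4_1 D19291 (iv D14041) D14039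
theorem F35997 : act 2 n19291 = n14045 := d13_1 D19291 (iv D14045) (iv F24537)
def n19292 : Q := act 6 n14039
theorem D19292 : act 6 n14039 = n19292 := rfl
theorem F35998 : act 0 n19292 = n14042 := d5_1 D19292 (iv D14042) D14039
theorem F35999 : act 2 n19292 = n14046 := d14_1 D19292 (iv D14046) (iv F24537)
def n19293 : Q := act 2 n14040
theorem D19293 : act 2 n14040 = n19293 := rfl
theorem F36000 : act 1 n19293 = n19293 := d6_1 D19293 (iv D19293) F24538 F19531 (iv F24538)
theorem F36001 : act 4 n19293 = n15905 := d12_2 (iv F34806) D19293 F34813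
theorem F36002 : act 6 n15903 = n19293 := d19_0 F36001 (iv D15905) D15903
def n19294 : Q := act 5 n14040
theorem D19294 : act 5 n14040 = n19294 := rfl
theorem F36003 : act 1 n19294 = n18349 := d9_1 D19294 (iv D18349) F23571 (iv F19529) (iv F24538)
theorem F36004 : act 3 n19294 = n14041 := d16_1 D19294 (iv D14041) D14040
def n19295 : Q := act 6 n14040
theorem D19295 : act 6 n14040 = n19295 := rfl
theorem F36005 : act 1 n19295 = n19295 := d10_1 D19295 (iv D19295) F24538 F19530 (iv F24538)
theorem F36006 : act 2 n19295 = n15903 := d14_1 D19295 F36002 (iv D19293)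
theorem F36007 : act 3 n19295 = n14042 := d17_1 D19295 (iv D14042) D14040
theorem F36008 : act 4 n19295 = n15902 := d19_1 D19295 (iv F34815) (iv F34806)
def n19296 : Q := act 6 n14041
theorem D19296 : act 6 n14041 = n19296 := rfl
theorem F36009 : act 2 n19296 = n14051 := d14_1 D19296 (iv D14051) (iv F24540)
theorem F36010 : act 5 n19296 = n19292 := d22_2 D14041 D19296 (iv D19292) (iv D14039)
def n19297 : Q := act 5 n14042
theorem D19297 : act 5 n14042 = n19297 := rfl
theorem F36011 : act 0 n19297 = n19296 := d4_1 D19297 F36010 F35998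
theorem F36012 : act 2 n19297 = n14052 := d13_1 D19297 (iv D14052) (iv F24542)
theorem F36013 : act 6 n19297 = n19291 := d20_2 D14042 D19297 (iv D19291) D19292 (iv F36010) (iv D19296) (iv D14041)
def n19298 : Q := act 4 n14044
theorem D19298 : act 4 n14044 = n19298 := rfl
theorem F36014 : act 0 n19298 = n14048 := d3_1 D19298 (iv D14048) (iv F24547)
theorem F36015 : act 2 n19298 = n16365 := d12_1 D19298 F28352 (iv F34750)
theorem F36016 : act 6 n19298 = n15108 := d19_2 (iv F34752) D19298 F26325
def n19299 : Q := act 1 n14045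
theorem D19299 : act 1 n14045 = n19299 := rfl
theorem F36017 : act 3 n19299 = n16609 := d7_2 F35268 D19299 F35251
theorem F36018 : act 5 n19299 = n16611 := d9_2 D14045 D19299 F35737 (iv D19173) (iv F24444)
def n19300 : Q := act 5 n14048
theorem D19300 : act 5 n14048 = n19300 := rfl
theorem F36019 : act 2 n19300 = n16371 := d13_1 D19300 (iv D16371) (iv F34753)
theorem F36020 : act 4 n19300 = n14049 := d18_1 D19300 (iv D14049) D14048
def n19301 : Q := act 1 n14051
theorem D19301 : act 1 n14051 = n19301 := rfl
def n19302 : Q := act 1 n14052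
theorem D19302 : act 1 n14052 = n19302 := rfl
theorem F36021 : act 3 n19302 = n16959 := d7_2 (iv F34784) D19302 (iv D16959)
theorem F36022 : act 5 n19302 = n16965 := d9_2 D14052 D19302 (iv D16965) (iv D12613) (iv F34766)
def n19303 : Q := act 3 n14054
theorem D19303 : act 3 n14054 = n19303 := rfl
theorem F36023 : act 1 n19303 = n14057 := d7_1 D19303 (iv D14057) (iv F24556)
theorem F36024 : act 4 n19303 = n14056 := d15_2 D14054 D19303 (iv F32101) (iv D14144) F19615
theorem F36025 : act 6 n14054 = n19303 := d19_0 F36024 (iv D14056) D14054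
def n19304 : Q := act 5 n14054
theorem D19304 : act 5 n14054 = n19304 := rfl
theorem F36026 : act 4 n19304 = n14055 := d18_1 D19304 (iv D14055) D14054
def n19305 : Q := act 1 n14055
theorem D19305 : act 1 n14055 = n19305 := rfl
theorem F36027 : act 3 n19305 = n18671 := d7_2 F24706 D19305 F33409
theorem F36028 : act 5 n19305 = n14059 := d9_2 D14055 D19305 (iv D14059) (iv D11034) D11032
theorem F36029 : act 6 n19305 = n14805 := d24_3 (iv D14056) D14055 D19305 (iv D14805) (iv D11426) D11428 F20221 D14799 F25745 D14802 F25746 F34548 F33414 (iv F32103)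
def n19306 : Q := act 6 n14055
theorem D19306 : act 6 n14055 = n19306 := rfl
theorem F36030 : act 5 n19306 = n14374 := d22_2 D14055 D19306 F25125 F34864
def n19307 : Q := act 5 n14056
theorem D19307 : act 5 n14056 = n19307 := rfl
theorem F36031 : act 0 n19307 = n19306 := d4_1 D19307 F36030 F35180
theorem F36032 : act 6 n19307 = n14386 := d20_2 D14056 D19307 (iv D14386) (iv F25125) (iv F36030) (iv D19306) (iv D14055)
def n19308 : Q := act 5 n14057
theorem D19308 : act 5 n14057 = n19308 := rfl
theorem F36033 : act 3 n19308 = n14058 := d16_1 D19308 (iv D14058) D14057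
theorem F36034 : act 4 n19308 = n18673 := d18_1 D19308 F33414 F24710
def n19309 : Q := act 1 n14058
theorem D19309 : act 1 n14058 = n19309 := rfl
theorem F36035 : act 4 n19309 = n14059 := d8_2 (iv F24558) D19309 (iv D14059)
def n19310 : Q := act 0 n14060
theorem D19310 : act 0 n14060 = n19310 := rfl
theorem F36036 : act 1 n19310 = n15126 := d0_2 D14060 D19310 F26356 F20548 (iv F21664) D16439 (iv F35250) F33258 F23859
theorem F36037 : act 4 n19310 = n14062 := d3_2 (iv F24560) D19310 (iv D14062)
def n19311 : Q := act 2 n14060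
theorem D19311 : act 2 n14060 = n19311 := rfl
theorem F36038 : act 4 n19311 = n14063 := d12_2 (iv F24560) D19311 (iv D14063)
theorem F36039 : act 6 n19310 = n19311 := d19_0 F36038 (iv F35246) (iv F36037)
def n19312 : Q := act 6 n14060
theorem D19312 : act 6 n14060 = n19312 := rfl
theorem F36040 : act 0 n19312 = n19311 := d5_1 D19312 (iv F36039) (iv D19310)
theorem F36041 : act 2 n19312 = n19310 := d14_1 D19312 F36039 (iv D19311)
theorem F36042 : act 4 n19312 = n14064 := d19_1 D19312 (iv D14064) (iv F24560)
def n19313 : Q := act 1 n14061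
theorem D19313 : act 1 n14061 = n19313 := rfl
theorem F36043 : act 4 n19313 = n14065 := d8_2 (iv F24562) D19313 (iv D14065)
def n19314 : Q := act 1 n14064
theorem D19314 : act 1 n14064 = n19314 := rfl
theorem F36044 : act 2 n19314 = n15273 := d6_2 F35245 D19314 (iv D15273) (iv F20805) (iv F35244)
theorem F36045 : act 3 n19314 = n14071 := d7_2 (iv F24565) D19314 (iv D14071)
theorem F36046 : act 6 n19314 = n14065 := d10_2 D14064 D19314 (iv D14065) (iv D11037) D11036
def n19315 : Q := act 5 n14064
theorem D19315 : act 5 n14064 = n19315 := rfl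
theorem F36047 : act 0 n19315 = n19205 := d4_1 D19315 F35804 F35247
theorem F36048 : act 2 n19315 = n19204 := d13_1 D19315 F35803 F35245
theorem F36049 : act 3 n19315 = n14072 := d16_1 D19315 (iv D14072) (iv F24565)
theorem F36050 : act 6 n19315 = n19204 := d20_2 D14064 D19315 F35803 F35246 (iv F35804) (iv F35806) F24454
def n19316 : Q := act 2 n14065
theorem D19316 : act 2 n14065 = n19316 := rfl
theorem F36051 : act 1 n19316 = n15375 := d6_1 D19316 (iv F35198) (iv D18691) F23940 D14065
theorem F36052 : act 6 n19316 = n15273 := d14_2 F36046 D19316 (iv F36044)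
def n19317 : Q := act 3 n14067
theorem D19317 : act 3 n14067 = n19317 := rfl
theorem F36053 : act 0 n19317 = n14069 := d2_1 D19317 (iv D14069) (iv F24567)
theorem F36054 : act 1 n19317 = n16940 := d7_1 D19317 F29843 (iv F35242)
def n19318 : Q := act 6 n14067
theorem D19318 : act 6 n14067 = n19318 := rfl
theorem F36055 : act 0 n19318 = n14070 := d5_1 D19318 (iv D14070) (iv F24567)
theorem F36056 : act 2 n19318 = n14068 := d14_1 D19318 (iv D14068) D14067
theorem F36057 : act 5 n19318 = n19209 := d22_2 F35813 D19318 (iv D19209) (iv F35811)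
def n19319 : Q := act 1 n14068
theorem D19319 : act 1 n14068 = n19319 := rfl
theorem F36058 : act 3 n19319 = n15433 := d7_2 F35248 D19319 (iv F35194)
theorem F36059 : act 6 n19319 = n15424 := d10_2 D14068 D19319 (iv D15424) (iv F35231) (iv D14066)
def n19320 : Q := act 2 n14069
theorem D19320 : act 2 n14069 = n19320 := rfl
theorem F36060 : act 3 n19320 = n14070 := d21_1 D19320 F24571 (iv F24565) (iv F35245) F24564 D14067 D19317 F36053
theorem F36061 : act 6 n14069 = n19320 := d17_0 F36060 (iv D14070) D14069
def n19321 : Q := act 4 n14069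
theorem D19321 : act 4 n14069 = n19321 := rfl
theorem F36062 : act 1 n19321 = n14078 := d8_1 D19321 (iv D14078) (iv F24570)
def n19322 : Q := act 1 n14070
theorem D19322 : act 1 n14070 = n19322 := rfl
theorem F36063 : act 2 n19322 = n19274 := d6_2 (iv F24571) D19322 F35939 F24573 (iv D14071)
theorem F36064 : act 6 n19322 = n14075 := d10_2 D14070 D19322 (iv D14075) F19546 (iv F19542)
def n19323 : Q := act 5 n14070
theorem D19323 : act 5 n14070 = n19323 := rfl
theorem F36065 : act 0 n19323 = n19209 := d4_1 D19323 (iv F36057) F36055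
theorem F36066 : act 2 n19323 = n14072 := d13_1 D19323 (iv D14072) (iv F24571)
theorem F36067 : act 6 n19323 = n19208 := d20_2 D14070 D19323 F35813 D19318 F36057 (iv D19209) F24461
def n19324 : Q := act 0 n14071
theorem D19324 : act 0 n14071 = n19324 := rfl
theorem F36068 : act 2 n19324 = n19281 := d1_2 F24573 D19324 F35949
theorem F36069 : act 6 n19324 = n14073 := d5_2 (iv F24572) D19324 (iv D14073)
def n19325 : Q := act 5 n14071
theorem D19325 : act 5 n14071 = n19325 := rfl
theorem F36070 : act 2 n19325 = n19287 := d13_1 D19325 (iv D19287) F24573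
def n19326 : Q := act 1 n14072
theorem D19326 : act 1 n14072 = n19326 := rfl
def n19327 : Q := act 5 n14073
theorem D19327 : act 5 n14073 = n19327 := rfl
theorem F36071 : act 0 n19327 = n14074 := d4_1 D19327 (iv D14074) D14073
theorem F36072 : act 2 n19327 = n19280 := d13_1 D19327 (iv D19280) (iv F24576)
theorem F36073 : act 6 n19327 = n19325 := d22_1 D19327 (iv D19325) F24572 D14073
def n19328 : Q := act 6 n14074
theorem D19328 : act 6 n14074 = n19328 := rfl
theorem F36074 : act 0 n19328 = n19325 := d5_1 D19328 (iv F36073) F36071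
theorem F36075 : act 2 n19328 = n19286 := d14_1 D19328 (iv D19286) (iv F24578)
theorem F36076 : act 5 n19328 = n19324 := d20_1 D19328 F36069 D19327 F36073 (iv D19325) F24572 D14074
def n19329 : Q := act 0 n14075
theorem D19329 : act 0 n14075 = n19329 := rfl
theorem F36077 : act 2 n19329 = n19272 := d1_2 (iv F24579) D19329 (iv D19272)
def n19330 : Q := act 3 n14075
theorem D19330 : act 3 n14075 = n19330 := rfl
theorem F36078 : act 1 n19330 = n14076 := d7_1 D19330 (iv D14076) D14075
def n19331 : Q := act 5 n14075
theorem D19331 : act 5 n14075 = n19331 := rfl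
theorem F36079 : act 1 n19331 = n14081 := d9_1 D19331 (iv D14081) (iv D11044) (iv F19545) D14075
theorem F36080 : act 2 n19331 = n19265 := d13_1 D19331 F35929 (iv F24579)
def n19332 : Q := act 4 n14076
theorem D19332 : act 4 n14076 = n19332 := rfl
theorem F36081 : act 0 n19332 = n14078 := d3_1 D19332 (iv D14078) (iv F24580)
theorem F36082 : act 5 n19332 = n14083 := d18_2 (iv F24581) D19332 (iv D14083)
theorem F36083 : act 6 n19332 = n14078 := d19_2 (iv F24582) D19332 (iv D14078)
def n19333 : Q := act 1 n14077
theorem D19333 : act 1 n14077 = n19333 := rfl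
theorem F36084 : act 3 n19333 = n17389 := d7_2 (iv F32747) D19333 F30487
def n19334 : Q := act 4 n14077
theorem D19334 : act 4 n14077 = n19334 := rfl
theorem F36085 : act 2 n19334 = n14078 := d12_1 D19334 (iv D14078) D14077
theorem F36086 : act 3 n19334 = n17392 := d15_1 D19334 (iv D17392) (iv D12848) D12849 (iv F32747)
theorem F36087 : act 5 n19334 = n14085 := d18_2 (iv F24583) D19334 (iv D14085)
def n19335 : Q := act 1 n14079
theorem D19335 : act 1 n14079 = n19335 := rfl
def n19336 : Q := act 3 n14079
theorem D19336 : act 3 n14079 = n19336 := rfl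
theorem F36088 : act 0 n19336 = n14080 := d2_1 D19336 (iv D14080) D14079
def n19337 : Q := act 5 n14079
theorem D19337 : act 5 n14079 = n19337 := rfl
theorem F36089 : act 0 n19337 = n14081 := d4_1 D19337 (iv D14081) D14079
theorem F36090 : act 2 n19337 = n19267 := d13_1 D19337 F35933 (iv F24585)
def n19338 : Q := act 6 n14079
theorem D19338 : act 6 n14079 = n19338 := rfl
theorem F36091 : act 0 n19338 = n14082 := d5_1 D19338 (iv D14082) D14079
theorem F36092 : act 2 n19338 = n19270 := d14_1 D19338 (iv D19270) (iv F24585)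
def n19339 : Q := act 2 n14080
theorem D19339 : act 2 n14080 = n19339 := rfl
def n19340 : Q := act 4 n14080
theorem D19340 : act 4 n14080 = n19340 := rfl
theorem F36093 : act 1 n19340 = n14083 := d8_1 D19340 (iv D14083) (iv F24586)
def n19341 : Q := act 5 n14080
theorem D19341 : act 5 n14080 = n19341 := rfl
theorem F36094 : act 3 n19341 = n14081 := d16_1 D19341 (iv D14081) D14080
def n19342 : Q := act 6 n14080
theorem D19342 : act 6 n14080 = n19342 := rfl
theorem F36096 : act 3 n19342 = n14082 := d17_1 D19342 (iv D14082) D14080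
def n19343 : Q := act 6 n14081
theorem D19343 : act 6 n14081 = n19343 := rfl
theorem F36097 : act 2 n19343 = n19268 := d14_1 D19343 (iv D19268) (iv F24587)
theorem F36098 : act 5 n19343 = n19338 := d22_2 D14081 D19343 (iv D19338) (iv D14079)
def n19344 : Q := act 5 n14082
theorem D19344 : act 5 n14082 = n19344 := rfl
theorem F36099 : act 0 n19344 = n19343 := d4_1 D19344 F36098 F36091
theorem F36100 : act 2 n19344 = n19271 := d13_1 D19344 (iv D19271) (iv F24589)
theorem F36101 : act 6 n19344 = n19337 := d20_2 D14082 D19344 (iv D19337) D19338 (iv F36098) (iv D19343) (iv D14081)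
def n19345 : Q := act 0 n14084
theorem D19345 : act 0 n14084 = n19345 := rfl
theorem F36102 : act 2 n19345 = n19170 := d1_2 (iv F35477) D19345 (iv D19170)
def n19346 : Q := act 4 n14084
theorem D19346 : act 4 n14084 = n19346 := rfl
theorem F36103 : act 1 n19346 = n14085 := d8_1 D19346 (iv D14085) D14084
theorem F36104 : act 2 n19346 = n18858 := d12_1 D19346 F33760 (iv F35477)
def n19347 : Q := act 5 n14084
theorem D19347 : act 5 n14084 = n19347 := rfl
theorem F36105 : act 2 n19347 = n19171 := d13_1 D19347 (iv D19171) (iv F35477)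
theorem F36106 : act 3 n19347 = n17824 := d16_1 D19347 F35213 F24795
theorem F36107 : act 6 n15711 = n19347 := d17_0 F36106 (iv D17824) (iv F27224)
theorem F36108 : act 2 n19102 = n15711 := d14_3 F36107 F36105 (iv F35721)
theorem E10196 : n15682 = n13895 := (c6_5 F36108 (iv D15711) (iv D11922) (iv F21039) D15682 D19102)
theorem E10197 : n19101 = n11907 := (((iv F35569)).symm.trans (sb E10196 (iv D15682)))
theorem E10198 : n19090 = n15679 := ((((iv F27186)).symm.trans (sb E10197 F35568))).symm
theorem F36109 : act 2 n11907 = n13895 := (sb E10197 F35569)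
theorem E10199 : n15684 = n13894 := ((D15684).symm.trans (sb E10197 (iv D19101)))
theorem E10200 : n19088 = n15651 := ((((iv F27152)).symm.trans (sb E10197 F35570))).symm
theorem F36110 : act 2 n15679 = n13889 := (sb E10198 F35557)
theorem F36111 : act 5 n15679 = n19096 := (sb E10198 (iv F35565))
theorem F36112 : act 6 n15679 = n13888 := (sb E10198 (iv D19090))
theorem E10201 : n19099 = n11908 := (((iv F35566)).symm.trans (sb E10199 F27191))
theorem F36113 : act 5 n13894 = n11907 := (sb E10199 (iv D15684))
theorem F36114 : act 0 n15651 = n13888 := (sb E10200 F35554)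
theorem F36115 : act 2 n15651 = n13887 := (sb E10200 (iv D19088))
theorem F36116 : act 5 n15651 = n13891 := (sb E10200 F35555)
theorem F36117 : act 3 n11908 = n13894 := (sb E10201 F35566)
theorem E10202 : n15686 = n13893 := ((D15686).symm.trans (sb E10201 (iv D19099)))
theorem E10203 : n19095 = n15652 := (((iv F35562)).symm.trans (sb E10202 F27193))
theorem E10204 : n19097 = n11910 := ((D19097).symm.trans (sb E10202 F27194))
theorem E10205 : n19089 = n15650 := (((iv F35556)).symm.trans (sb E10202 F27195))
theorem F36118 : act 6 n13893 = n11908 := (sb E10202 (iv D15686))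
theorem F36119 : act 0 n15652 = n13893 := (sb E10203 F35562)
theorem F36120 : act 3 n15652 = n13891 := (sb E10203 (iv D19095))
theorem F36121 : act 2 n11910 = n13893 := (sb E10204 (iv D19097))
theorem F36122 : act 3 n15650 = n13888 := (sb E10205 (iv D19089))
theorem F36123 : act 5 n15650 = n13893 := (sb E10205 F35556)
theorem F36124 : act 3 n18256 = n14197 := d21_5 D15650 F36122 (iv D13888) (iv F23510) D18256 F24805 F19820 D11893
theorem F36125 : act 5 n14197 = n18261 := d16_2 (iv F31943) F36124 (iv D18261)
theorem F36126 : act 6 n14194 = n18256 := d17_0 F36124 (iv D14197) D14194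
theorem F36127 : act 2 n18257 = n14194 := d14_3 F36126 (iv D18256) D18257
theorem E10206 : n19339 = n18284 := (c6_5 F36127 F24800 F19675 (iv F24586) D19339 F31995)
theorem F36128 : act 2 n18284 = n14080 := (sb E10206 (iv D19339))
theorem E10207 : n19341 = n19068 := (c13_3 F31997 F36128 D19341 (iv D19068))
theorem F36129 : act 3 n19068 = n14081 := (sb E10207 F36094)
theorem F36130 : act 5 n19068 = n14080 := (sb E10207 (iv D19341))
theorem E10208 : n19342 = n18283 := (c14_3 D18284 F36128 D19342 (iv D18283))
theorem F36131 : act 3 n18283 = n14082 := (sb E10208 F36096)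
theorem F36132 : act 6 n18283 = n14080 := (sb E10208 (iv D19342))
theorem F36133 : act 2 n18261 = n14325 := d13_1 F36125 (iv D14325) (iv F24805)
theorem F36134 : act 2 n19098 = n14251 := d12_3 F34931 F36121 D19098
theorem F36135 : act 6 n15668 = n19098 := d14_0 F36134 F34933 (iv F27174)
theorem F36136 : act 3 n19096 = n15680 := d17_3 F27189 F36120 D19096
theorem F36137 : act 3 n19100 = n15685 := d7_2 F36117 D19100 (iv D15685)
theorem F36138 : act 5 n15714 = n19100 := d16_0 F36137 F27192 (iv F27228)
theorem F36139 : act 5 n15683 = n18781 := d18_2 F36113 D15683 F33616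
theorem F36140 : act 2 n18782 = n15683 := d13_3 F36139 F33615 D18782
def n19348 : Q := act 4 n14086
theorem D19348 : act 4 n14086 = n19348 := rfl
theorem F36141 : act 0 n19348 = n14087 := d3_1 D19348 (iv D14087) D14086
theorem F36142 : act 1 n19348 = n14371 := d8_1 D19348 F25120 (iv F29140)
theorem F36143 : act 2 n19348 = n19348 := d12_1 D19348 (iv D19348) F24594
theorem F36144 : act 5 n14086 = n19348 := d23_0 F36143 F36142 F25118 (iv D11234) (iv F19930) F19929 (iv F23690) F28845 F20810 (iv D9680) F7133 (iv F6745) (iv D4422) (iv F5716) (iv F11553) F11554 D8275 D11048 D14086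
theorem F36145 : act 3 n19348 = n14373 := d16_1 F36144 F25124 (iv F29141)
def n19349 : Q := act 6 n14086
theorem D19349 : act 6 n14086 = n19349 := rfl
theorem F36146 : act 0 n19349 = n14089 := d5_1 D19349 (iv D14089) D14086
theorem F36147 : act 2 n19349 = n19349 := d14_1 D19349 (iv D19349) F24594
theorem F36148 : act 3 n19349 = n14383 := d17_1 D19349 (iv D14383) (iv F29141)
def n19350 : Q := act 6 n14087
theorem D19350 : act 6 n14087 = n19350 := rfl
theorem F36149 : act 2 n19350 = n19350 := d14_1 D19350 (iv D19350) F24597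
theorem F36150 : act 3 n19350 = n19248 := d17_1 D19350 (iv D19248) (iv F29157)
theorem F36151 : act 4 n19350 = n14089 := d19_1 D19350 (iv D14089) D14087
theorem F36152 : act 5 n19350 = n19349 := d22_2 (iv F29158) D19350 (iv D19349) (iv D14086)
def n19351 : Q := act 5 n14089
theorem D19351 : act 5 n14089 = n19351 := rfl
theorem F36153 : act 0 n19351 = n19350 := d4_1 D19351 F36152 F36146
theorem F36154 : act 2 n19351 = n19351 := d13_1 D19351 (iv D19351) F24600
theorem F36155 : act 3 n19351 = n19250 := d16_1 D19351 (iv D19250) (iv F24601)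
theorem F36156 : act 4 n19351 = n19349 := d18_1 D19351 (iv F36152) F36151
theorem F36157 : act 6 n19351 = n19348 := d20_2 D14089 D19351 (iv F36144) D19349 (iv F36152) (iv D19350) F29158
def n19352 : Q := act 4 n14091
theorem D19352 : act 4 n14091 = n19352 := rfl
theorem F36158 : act 0 n19352 = n14397 := d3_1 D19352 F25154 (iv F29132)
theorem F36159 : act 1 n19352 = n14093 := d8_1 D19352 (iv D14093) D14091
theorem F36160 : act 5 n19352 = n14419 := d18_2 (iv F29135) D19352 F25181
theorem F36161 : act 3 n15152 = n19352 := d16_3 F36160 F25180 (iv F26417)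
def n19353 : Q := act 4 n14092
theorem D19353 : act 4 n14092 = n19353 := rfl
theorem F36162 : act 0 n19353 = n14097 := d3_1 D19353 (iv D14097) (iv F24605)
theorem F36163 : act 1 n19353 = n14351 := d8_1 D19353 F25071 (iv F29138)
def n19354 : Q := act 6 n14092
theorem D19354 : act 6 n14092 = n19354 := rfl
theorem F36164 : act 0 n19354 = n14099 := d5_1 D19354 (iv D14099) (iv F24605)
theorem F36165 : act 2 n19354 = n16665 := d14_1 D19354 F29439 F29421
theorem F36166 : act 3 n19354 = n14095 := d17_1 D19354 (iv D14095) D14092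
theorem F36167 : act 5 n19354 = n16654 := d22_2 F29407 D19354 (iv D16654) D16653
def n19355 : Q := act 6 n14093
theorem D19355 : act 6 n14093 = n19355 := rfl
theorem F36168 : act 0 n19355 = n14102 := d5_1 D19355 (iv D14102) (iv F24606)
theorem F36169 : act 2 n19355 = n14233 := d14_1 D19355 (iv D14233) (iv F24607)
theorem F36170 : act 3 n19355 = n14727 := d17_1 D19355 F25677 F29121
theorem F36171 : act 4 n19355 = n14095 := d19_1 D19355 (iv D14095) D14093
theorem F36172 : act 5 n19355 = n14170 := d20_1 D19355 F34894 (iv F28983) D14102 F34876 D14172 F34905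
def n19356 : Q := act 1 n14094
theorem D19356 : act 1 n14094 = n19356 := rfl
theorem F36173 : act 2 n19356 = n17149 := d6_2 (iv F24609) D19356 (iv F34901) F34902 F29113
theorem F36174 : act 3 n19356 = n14439 := d7_2 F29406 D19356 (iv F29404)
theorem F36175 : act 4 n19356 = n17149 := d8_2 F34904 D19356 (iv F34901)
theorem F36176 : act 5 n19356 = n14425 := d9_2 D14094 D19356 (iv D14425) (iv F29135) (iv D14091)
def n19357 : Q := act 1 n14095
theorem D19357 : act 1 n14095 = n19357 := rfl
def n19358 : Q := act 6 n14097
theorem D19358 : act 6 n14097 = n19358 := rfl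
theorem F36177 : act 4 n19358 = n14099 := d19_1 D19358 (iv D14099) D14097
def n19359 : Q := act 5 n14099
theorem D19359 : act 5 n14099 = n19359 := rfl
theorem F36178 : act 0 n19359 = n16654 := d4_1 D19359 (iv F36167) F36164
theorem F36179 : act 1 n19359 = n14167 := d9_1 D19359 (iv D14167) F34529 D14776 F29189
theorem F36180 : act 2 n19359 = n16659 := d13_1 D19359 (iv F29437) F29436
theorem F36181 : act 3 n19359 = n14105 := d16_1 D19359 (iv D14105) (iv F24615)
theorem F36182 : act 6 n19359 = n16653 := d20_2 D14099 D19359 F29407 D19354 F36167 (iv D16654) F28980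
def n19360 : Q := act 1 n14103
theorem D19360 : act 1 n14103 = n19360 := rfl
def n19361 : Q := act 0 n14104
theorem D19361 : act 0 n14104 = n19361 := rfl
theorem F36183 : act 2 n19361 = n14283 := d1_2 (iv F34510) D19361 F24941
theorem F36184 : act 3 n19361 = n14775 := d2_2 (iv F29190) D19361 (iv F25722)
theorem F36185 : act 4 n19361 = n14151 := d3_2 (iv F34511) D19361 F24715
theorem F36186 : act 5 n19361 = n14150 := d4_2 (iv F34512) D19361 F24713
theorem F36187 : act 6 n19361 = n14113 := d5_2 (iv F24623) D19361 (iv D14113)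
def n19362 : Q := act 6 n14106
theorem D19362 : act 6 n14106 = n19362 := rfl
theorem F36188 : act 0 n19362 = n19251 := d5_1 D19362 (iv D19251) (iv F24627)
theorem F36189 : act 3 n19362 = n14107 := d17_1 D19362 (iv D14107) D14106
theorem F36190 : act 4 n19362 = n14110 := d19_1 D19362 (iv D14110) (iv F24628)
def n19363 : Q := act 1 n14107
theorem D19363 : act 1 n14107 = n19363 := rfl
theorem F36191 : act 4 n19363 = n14108 := d8_2 (iv F24631) D19363 (iv D14108)
theorem F36192 : act 0 n14520 = n19363 := d3_3 F36191 F29191 (iv F25354)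
theorem F36193 : act 5 n14518 = n19363 := d18_0 F36191 F29192 (iv F25352)
def n19364 : Q := act 1 n14110
theorem D19364 : act 1 n14110 = n19364 := rfl
theorem F36194 : act 3 n19364 = n14111 := d7_2 (iv F24636) D19364 (iv D14111)
theorem F36195 : act 6 n19364 = n14155 := d10_2 D14110 D19364 (iv F34921) (iv D14725) F28978
theorem F36196 : act 5 n16708 = n19364 := d24_1 F34825 (iv D19364) (iv D14110) F28970 (iv D11336) (iv F13621) (iv D9099) D9098 F13619 D9102 F13623 D11259 F19971 (iv F34863)
theorem F36197 : act 0 n19364 = n16710 := d4_1 F36196 (iv D16710) D16708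
theorem F36198 : act 2 n19364 = n16722 := d13_1 F36196 (iv D16722) (iv F29501)
def n19365 : Q := act 1 n14112
theorem D19365 : act 1 n14112 = n19365 := rfl
theorem F36199 : act 2 n19365 = n14116 := d6_2 (iv F24639) D19365 (iv D14116) F19571 F32593
theorem F36200 : act 4 n19365 = n14116 := d8_2 (iv F24640) D19365 (iv D14116)
theorem F36201 : act 6 n19365 = n14116 := d10_2 F28977 D19365 (iv D14116) F19572 D13620
def n19366 : Q := act 1 n14113
theorem D19366 : act 1 n14113 = n19366 := rfl
theorem F36202 : act 3 n19366 = n14774 := d7_2 (iv F29196) D19366 (iv D14774)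
theorem F36203 : act 5 n19366 = n14702 := d9_2 (iv F29197) D19366 (iv D14702) (iv D11380) D11378
theorem F36204 : act 2 n15633 = n19366 := d13_3 F36203 F35380 D15633
def n19367 : Q := act 0 n14116
theorem D19367 : act 0 n14116 = n19367 := rfl
theorem F36205 : act 3 n19367 = n14445 := d2_2 F30234 D19367 (iv F30231)
theorem F36206 : act 5 n19367 = n14431 := d4_2 (iv F30230) D19367 (iv F30228)
def n19368 : Q := act 1 n14121
theorem D19368 : act 1 n14121 = n19368 := rfl
theorem F36207 : act 2 n19368 = n15697 := d6_2 D14121 D19368 (iv D15697) (iv D11914) (iv F32579)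
theorem F36208 : act 4 n19368 = n15704 := d8_2 (iv F32664) D19368 (iv D15704)
def n19369 : Q := act 3 n14121
theorem D19369 : act 3 n14121 = n19369 := rfl
theorem F36209 : act 0 n19369 = n14122 := d2_1 D19369 (iv D14122) (iv F24655)
theorem F36210 : act 2 n19369 = n14315 := d11_1 D19369 F24983 F19814 F12763 F6239 (iv F12315) D11064 D14122 F33021 (iv D14310) (iv D11179) F12759 F32727 (iv F19580) D14121
theorem F36211 : act 5 n19369 = n15705 := d16_2 (iv F24656) D19369 (iv D15705)
theorem F36212 : act 6 n19369 = n14262 := d17_2 (iv F24657) D19369 (iv D14262)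
def n19370 : Q := act 4 n14122
theorem D19370 : act 4 n14122 = n19370 := rfl
theorem F36213 : act 1 n19370 = n15738 := d8_1 D19370 (iv F35485) (iv F34979)
theorem F36214 : act 6 n19370 = n14265 := d19_2 (iv F24658) D19370 (iv D14265)
def n19371 : Q := act 0 n14128
theorem D19371 : act 0 n14128 = n19371 := rfl
def n19372 : Q := act 3 n14128
theorem D19372 : act 3 n14128 = n19372 := rfl
theorem F36215 : act 1 n19372 = n14129 := d7_1 D19372 (iv D14129) D14128
def n19373 : Q := act 5 n14128
theorem D19373 : act 5 n14128 = n19373 := rfl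
def n19374 : Q := act 6 n14128
theorem D19374 : act 6 n14128 = n19374 := rfl
theorem F36216 : act 1 n19374 = n14140 := d10_1 D19374 (iv D14140) (iv D11075) (iv F19595) D14128
def n19375 : Q := act 4 n14129
theorem D19375 : act 4 n14129 = n19375 := rfl
theorem F36217 : act 0 n19375 = n19277 := d3_1 D19375 (iv D19277) (iv F24674)
theorem F36218 : act 2 n19375 = n19275 := d12_1 D19375 (iv D19275) (iv F24675)
theorem F36219 : act 3 n19375 = n17177 := d15_1 D19375 (iv D17177) (iv F22402) (iv F32874) D14129
theorem F36220 : act 5 n19375 = n19277 := d18_2 (iv F24676) D19375 (iv D19277)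
theorem F36221 : act 6 n19375 = n14141 := d19_2 (iv F24677) D19375 (iv D14141)
def n19376 : Q := act 0 n14134
theorem D19376 : act 0 n14134 = n19376 := rfl
theorem F36222 : act 3 n19376 = n19288 := d2_2 (iv F24686) D19376 (iv D19288)
theorem F36223 : act 4 n19376 = n14860 := d3_2 (iv F32939) D19376 (iv D14860)
theorem F36224 : act 5 n19376 = n17650 := d22_0 (iv D17650) D17649 (iv F35209) D19376
def n19377 : Q := act 5 n14134
theorem D19377 : act 5 n14134 = n19377 := rfl
theorem F36225 : act 0 n19377 = n17650 := d4_1 D19377 (iv F36224) (iv D19376)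
theorem F36226 : act 1 n19377 = n19377 := d9_1 D19377 (iv D19377) (iv D14134) F19603 D14134
theorem F36227 : act 3 n19377 = n18271 := d16_1 D19377 F35480 (iv F24686)
theorem F36228 : act 4 n19377 = n14863 := d18_1 D19377 (iv D14863) (iv F32939)
theorem F36229 : act 6 n19377 = n17648 := d22_3 D17649 (iv F35209) D19377 (iv D17648)
theorem E10209 : n19160 = n14752 := ((c21_3 F33041 F25632 D14752 (iv D19160) (iv D13929) (iv F23521) D18271 (iv F36227) F36225)).symm
theorem F36230 : act 3 n14752 = n13929 := (sb E10209 (iv D19160))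
theorem F36231 : act 3 n19155 = n16688 := d16_3 (iv F29473) F36230 (iv F35683)
theorem F36232 : act 6 n16686 = n19155 := d17_0 F36231 (iv D16688) D16686
theorem F36233 : act 2 n19156 = n16686 := d14_3 F36232 (iv D19155) D19156
def n19378 : Q := act 1 n14136
theorem D19378 : act 1 n14136 = n19378 := rfl
def n19379 : Q := act 3 n14136
theorem D19379 : act 3 n14136 = n19379 := rfl
theorem F36234 : act 0 n19379 = n14137 := d2_1 D19379 (iv D14137) D14136
theorem F36235 : act 2 n19379 = n18250 := d11_1 D19379 F31933 (iv F35964) (iv D11968) (iv D9904) (iv F12725) (iv F19608) D14137 (iv F35983) F31923 (iv F35965) (iv D15807) (iv D11966) (iv F19779) (iv F24690)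
theorem F36236 : act 6 n18249 = n19379 := d14_0 F36235 (iv D18250) (iv F31931)
def n19380 : Q := act 4 n14136
theorem D19380 : act 4 n14136 = n19380 := rfl
theorem F36237 : act 0 n19380 = n14138 := d3_1 D19380 (iv D14138) D14136
theorem F36238 : act 2 n19380 = n14269 := d12_1 D19380 (iv D14269) (iv F24690)
def n19381 : Q := act 5 n14136
theorem D19381 : act 5 n14136 = n19381 := rfl
theorem F36239 : act 0 n19381 = n14139 := d4_1 D19381 (iv D14139) D14136
theorem F36240 : act 2 n19381 = n14270 := d13_1 D19381 (iv D14270) (iv F24690)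
def n19382 : Q := act 6 n14136
theorem D19382 : act 6 n14136 = n19382 := rfl
theorem F36241 : act 0 n19382 = n14140 := d5_1 D19382 (iv D14140) D14136
theorem F36242 : act 2 n19382 = n14271 := d14_1 D19382 (iv D14271) (iv F24690)
theorem F36243 : act 3 n19382 = n18249 := d17_1 D19382 F36236 (iv D19379)
theorem F36244 : act 5 n19382 = n18248 := d22_2 (iv D19381) D19382 (iv F35981) (iv F36239)
def n19383 : Q := act 4 n14137
theorem D19383 : act 4 n14137 = n19383 := rfl
theorem F36245 : act 1 n19383 = n14141 := d8_1 D19383 (iv D14141) (iv F24691)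
def n19384 : Q := act 6 n14137
theorem D19384 : act 6 n14137 = n19384 := rfl
theorem F36246 : act 0 n19384 = n18249 := d5_1 D19384 F36236 F36234
theorem F36247 : act 2 n19384 = n18247 := d14_1 D19384 F31928 F35983
theorem F36248 : act 3 n19384 = n14140 := d17_1 D19384 (iv D14140) D14137
theorem F36249 : act 5 n18246 = n19384 := d22_0 (iv D19384) F35980 F31922 (iv F31925)
def n19385 : Q := act 5 n14138
theorem D19385 : act 5 n14138 = n19385 := rfl
theorem F36250 : act 1 n19385 = n19385 := d9_1 D19385 (iv D19385) F24692 F19613 (iv F24692)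
theorem F36251 : act 2 n19385 = n14273 := d13_1 D19385 (iv D14273) (iv F24693)
theorem F36252 : act 4 n19385 = n14139 := d18_1 D19385 (iv D14139) D14138
def n19386 : Q := act 6 n14138
theorem D19386 : act 6 n14138 = n19386 := rfl
theorem F36253 : act 2 n19386 = n14274 := d14_1 D19386 (iv D14274) (iv F24693)
theorem F36254 : act 4 n19386 = n14140 := d19_1 D19386 (iv D14140) D14138
def n19387 : Q := act 5 n14140
theorem D19387 : act 5 n14140 = n19387 := rfl
theorem F36255 : act 0 n19387 = n18248 := d4_1 D19387 (iv F36244) F36241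
theorem F36256 : act 2 n19387 = n14276 := d13_1 D19387 (iv D14276) (iv F24696)
theorem F36257 : act 3 n19387 = n18246 := d16_1 D19387 F36249 F36248
theorem F36258 : act 6 n19387 = n19381 := d20_2 D14140 D19387 (iv D19381) D19382 F36244 (iv F35981) (iv D14139)
def n19388 : Q := act 4 n14143
theorem D19388 : act 4 n14143 = n19388 := rfl
theorem F36259 : act 0 n19388 = n14144 := d3_1 D19388 (iv D14144) D14143
theorem F36260 : act 1 n19388 = n14372 := d8_1 D19388 F25123 (iv F34865)
theorem F36261 : act 2 n19388 = n19388 := d12_1 D19388 (iv D19388) F24701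
theorem F36262 : act 3 n14374 = n19388 := d7_0 F36260 F25122 D14374
theorem F36263 : act 6 n14143 = n19388 := d10_0 F36260 (iv D14372) F19917 D11227 (iv F34865)
def n19389 : Q := act 5 n14143
theorem D19389 : act 5 n14143 = n19389 := rfl
theorem F36264 : act 0 n19389 = n14145 := d4_1 D19389 (iv D14145) D14143
theorem F36265 : act 2 n19389 = n19389 := d13_1 D19389 (iv D19389) F24701
theorem F36266 : act 3 n19389 = n14386 := d16_1 D19389 (iv D14386) (iv F34866)
def n19390 : Q := act 5 n14144
theorem D19390 : act 5 n14144 = n19390 := rfl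
theorem F36267 : act 2 n19390 = n19390 := d13_1 D19390 (iv D19390) F24704
theorem F36268 : act 3 n19390 = n19307 := d16_1 D19390 (iv D19307) (iv F32101)
theorem F36269 : act 4 n19390 = n14145 := d18_1 D19390 (iv D14145) D14144
theorem F36270 : act 6 n19390 = n19389 := d22_1 D19390 (iv D19389) F36263 F36259
def n19391 : Q := act 6 n14145
theorem D19391 : act 6 n14145 = n19391 := rfl
theorem F36271 : act 0 n19391 = n19390 := d5_1 D19391 F36270 F36264
theorem F36272 : act 2 n19391 = n19391 := d14_1 D19391 (iv D19391) F24705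
theorem F36273 : act 3 n19391 = n19306 := d17_1 D19391 (iv D19306) (iv F24706)
theorem F36274 : act 4 n19391 = n19389 := d19_1 D19391 (iv F36270) F36269
theorem F36275 : act 5 n19391 = n19388 := d20_1 D19391 (iv F36263) D19389 (iv F36270) (iv D19390) F32102 D14145
def n19392 : Q := act 4 n14148
theorem D19392 : act 4 n14148 = n19392 := rfl
theorem F36276 : act 0 n19392 = n14399 := d3_1 D19392 F25160 (iv F34867)
theorem F36277 : act 1 n19392 = n14150 := d8_1 D19392 (iv D14150) D14148
theorem F36278 : act 6 n19392 = n14422 := d19_2 (iv F34870) D19392 F25185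
theorem F36279 : act 3 n15155 = n19392 := d17_3 F36278 F35090 (iv F34778)
def n19393 : Q := act 4 n14149
theorem D19393 : act 4 n14149 = n19393 := rfl
theorem F36280 : act 0 n19393 = n14154 := d3_1 D19393 (iv D14154) (iv F24712)
theorem F36281 : act 1 n19393 = n14354 := d8_1 D19393 F25077 (iv F34863)
def n19394 : Q := act 5 n14149
theorem D19394 : act 5 n14149 = n19394 := rfl
theorem F36282 : act 0 n19394 = n14155 := d4_1 D19394 (iv D14155) (iv F24712)
theorem F36283 : act 2 n19394 = n16728 := d13_1 D19394 F29521 F34823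
theorem F36284 : act 3 n19394 = n14151 := d16_1 D19394 (iv D14151) D14149
theorem F36285 : act 6 n19394 = n16710 := d20_2 (iv F34825) D19394 (iv D16710) (iv F34720) D14155 (iv F36195) (iv F36196)
def n19395 : Q := act 1 n14151
theorem D19395 : act 1 n14151 = n19395 := rfl
def n19396 : Q := act 1 n14152
theorem D19396 : act 1 n14152 = n19396 := rfl
theorem F36286 : act 2 n19396 = n17229 := d6_2 (iv F24718) D19396 F30229 (iv F35186) F34461
theorem F36287 : act 3 n19396 = n14446 := d7_2 F34816 D19396 F34830
theorem F36288 : act 4 n19396 = n17229 := d8_2 F35187 D19396 F30229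
theorem F36289 : act 5 n19396 = n19365 := d9_2 F34873 D19396 (iv D19365) (iv D14112) D14111
theorem F36290 : act 6 n19396 = n14431 := d10_2 D14152 D19396 (iv D14431) (iv F34870) (iv D14148)
def n19397 : Q := act 5 n14154
theorem D19397 : act 5 n14154 = n19397 := rfl
theorem F36291 : act 4 n19397 = n14155 := d18_1 D19397 (iv D14155) D14154
def n19398 : Q := act 1 n14162
theorem D19398 : act 1 n14162 = n19398 := rfl
theorem F36292 : act 4 n19398 = n19366 := d8_2 (iv F35190) D19398 (iv D19366)
def n19399 : Q := act 5 n14163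
theorem D19399 : act 5 n14163 = n19399 := rfl
theorem F36293 : act 0 n19399 = n19308 := d4_1 D19399 (iv D19308) (iv F24734)
theorem F36294 : act 3 n19399 = n14164 := d16_1 D19399 (iv D14164) D14163
theorem F36295 : act 4 n19399 = n14167 := d18_1 D19399 (iv D14167) (iv F24735)
def n19400 : Q := act 1 n14164
theorem D19400 : act 1 n14164 = n19400 := rfl
theorem F36296 : act 4 n19400 = n14165 := d8_2 (iv F24738) D19400 (iv D14165)
theorem F36297 : act 0 n14499 = n19400 := d3_3 F36296 F34906 (iv F25317)
theorem F36298 : act 6 n14496 = n19400 := d19_0 F36296 F34909 (iv F25314)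
def n19401 : Q := act 1 n14169
theorem D19401 : act 1 n14169 = n19401 := rfl
theorem F36299 : act 2 n19401 = n14173 := d6_2 (iv F24746) D19401 (iv D14173) F19632 (iv F32879)
theorem F36300 : act 4 n19401 = n14173 := d8_2 (iv F24747) D19401 (iv D14173)
theorem F36301 : act 5 n19401 = n14173 := d9_2 F32099 D19401 (iv D14173) F19633 D13637
theorem F36302 : act 6 n19401 = n19356 := d10_2 D14169 D19401 (iv D19356) (iv F24626) F34889
def n19402 : Q := act 1 n14170
theorem D19402 : act 1 n14170 = n19402 := rfl
theorem F36303 : act 3 n19402 = n14726 := d7_2 (iv F34892) D19402 (iv D14726)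
theorem F36304 : act 4 n19402 = n19360 := d8_2 (iv F34893) D19402 (iv D19360)
theorem F36305 : act 6 n19402 = n14679 := d10_2 (iv F34894) D19402 (iv D14679) (iv D11370) D11368
theorem F36306 : act 2 n15758 = n19402 := d14_3 F36305 F35001 D15758
def n19403 : Q := act 0 n14173
theorem D19403 : act 0 n14173 = n19403 := rfl
theorem F36307 : act 3 n19403 = n14440 := d2_2 F34911 D19403 (iv F30120)
theorem F36308 : act 6 n19403 = n14425 := d5_2 (iv F34912) D19403 (iv F30118)
def n19404 : Q := act 1 n14178
theorem D19404 : act 1 n14178 = n19404 := rfl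
theorem F36309 : act 2 n19404 = n15825 := d6_2 D14178 D19404 (iv D15825) (iv D11975) (iv F32723)
theorem F36310 : act 4 n19404 = n15832 := d8_2 (iv F32785) D19404 (iv D15832)
def n19405 : Q := act 3 n14178
theorem D19405 : act 3 n14178 = n19405 := rfl
theorem F36311 : act 0 n19405 = n14179 := d2_1 D19405 (iv D14179) (iv F24762)
theorem F36312 : act 2 n19405 = n14266 := d11_1 D19405 F24921 F19778 F12719 F6206 (iv F12396) D11094 D14179 (iv F33030) (iv D14259) (iv D11152) F12715 (iv F32656) (iv F19641) D14178
theorem F36313 : act 5 n19405 = n14264 := d16_2 (iv F24763) D19405 F24920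
theorem F36314 : act 6 n19405 = n15833 := d17_2 (iv F24764) D19405 (iv D15833)
def n19406 : Q := act 4 n14179
theorem D19406 : act 4 n14179 = n19406 := rfl
theorem F36315 : act 1 n19406 = n15611 := d8_1 D19406 (iv F33071) (iv F34927)
theorem F36316 : act 5 n19406 = n14314 := d18_2 (iv F24765) D19406 (iv D14314)
def n19407 : Q := act 0 n14185
theorem D19407 : act 0 n14185 = n19407 := rfl
def n19408 : Q := act 3 n14185
theorem D19408 : act 3 n14185 = n19408 := rfl
theorem F36317 : act 1 n19408 = n14186 := d7_1 D19408 (iv D14186) D14185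
def n19409 : Q := act 5 n14185
theorem D19409 : act 5 n14185 = n19409 := rfl
theorem F36318 : act 1 n19409 = n14196 := d9_1 D19409 (iv D14196) (iv D11105) (iv F19658) D14185
def n19410 : Q := act 6 n14185
theorem D19410 : act 6 n14185 = n19410 := rfl
def n19411 : Q := act 4 n14186
theorem D19411 : act 4 n14186 = n19411 := rfl
theorem F36319 : act 0 n19411 = n19334 := d3_1 D19411 (iv D19334) (iv F24782)
theorem F36320 : act 2 n19411 = n19332 := d12_1 D19411 (iv D19332) (iv F24783)
theorem F36321 : act 3 n19411 = n17270 := d15_1 D19411 (iv D17270) (iv F22482) F32649 D14186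
theorem F36322 : act 5 n19411 = n14198 := d18_2 (iv F24784) D19411 (iv D14198)
theorem F36323 : act 6 n19411 = n19334 := d19_2 (iv F24785) D19411 (iv D19334)
def n19412 : Q := act 0 n14191
theorem D19412 : act 0 n14191 = n19412 := rfl
theorem F36324 : act 3 n19412 = n19345 := d2_2 (iv F24795) D19412 (iv D19345)
theorem F36325 : act 4 n19412 = n14887 := d3_2 (iv F32712) D19412 (iv D14887)
theorem F36326 : act 6 n17823 = n19412 := d22_3 (iv F35213) (iv D17824) D17823 (iv D19412)
def n19413 : Q := act 6 n14191
theorem D19413 : act 6 n14191 = n19413 := rfl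
theorem F36327 : act 0 n19413 = n17823 := d5_1 D19413 F36326 (iv D19412)
theorem F36328 : act 1 n19413 = n19413 := d10_1 D19413 (iv D19413) (iv D14191) F19668 D14191
theorem F36329 : act 3 n19413 = n18286 := d17_1 D19413 F35478 (iv F24795)
theorem F36330 : act 4 n19413 = n14891 := d19_1 D19413 (iv D14891) (iv F32712)
theorem F36331 : act 5 n17822 = n19413 := d22_0 (iv D19413) (iv F35213) (iv D17824) D17822
theorem E10210 : n19223 = n14801 := ((c21_3 F35362 F25658 D14801 (iv D19223) (iv D13977) (iv F23528) D18286 (iv F36329) F36327)).symm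
theorem F36332 : act 3 n14801 = n13977 := (sb E10210 (iv D19223))
def n19414 : Q := act 1 n14193
theorem D19414 : act 1 n14193 = n19414 := rfl
def n19415 : Q := act 3 n14193
theorem D19415 : act 3 n14193 = n19415 := rfl
theorem F36333 : act 0 n19415 = n14194 := d2_1 D19415 (iv D14194) D14193
theorem F36334 : act 2 n19415 = n18263 := d11_1 D19415 F31954 (iv F36109) (iv D11907) (iv D9871) (iv F12773) (iv F19673) D14194 (iv F36127) F31944 (iv F36110) (iv D15679) (iv D11905) (iv F19815) (iv F24799)
theorem F36335 : act 5 n18262 = n19415 := d13_0 F36334 (iv D18263) (iv F31952)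
def n19416 : Q := act 4 n14193
theorem D19416 : act 4 n14193 = n19416 := rfl
theorem F36336 : act 0 n19416 = n14195 := d3_1 D19416 (iv D14195) D14193
theorem F36337 : act 2 n19416 = n14318 := d12_1 D19416 (iv D14318) (iv F24799)
def n19417 : Q := act 5 n14193
theorem D19417 : act 5 n14193 = n19417 := rfl
theorem F36338 : act 0 n19417 = n14196 := d4_1 D19417 (iv D14196) D14193
theorem F36339 : act 2 n19417 = n14319 := d13_1 D19417 (iv D14319) (iv F24799)
theorem F36340 : act 3 n19417 = n18262 := d16_1 D19417 F36335 (iv D19415)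
theorem F36341 : act 6 n19417 = n18261 := d22_1 D19417 (iv F36125) (iv D14197) D14193
theorem F36342 : act 1 n19417 = n17813 := d23_2 D14319 (iv F36339) (iv F35387) F35388 (iv D13052) (iv D10468) (iv F34407) (iv D10406) F32506 F18221 (iv F18216) F32478 (iv D9882) (iv D4876) F3706 (iv F3142) D4113 D8559 D11185
def n19418 : Q := act 6 n14193
theorem D19418 : act 6 n14193 = n19418 := rfl
theorem F36343 : act 0 n19418 = n14197 := d5_1 D19418 (iv D14197) D14193
theorem F36344 : act 2 n19418 = n14320 := d14_1 D19418 (iv D14320) (iv F24799)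
def n19419 : Q := act 4 n14194
theorem D19419 : act 4 n14194 = n19419 := rfl
theorem F36345 : act 1 n19419 = n14198 := d8_1 D19419 (iv D14198) (iv F24800)
def n19420 : Q := act 5 n14194
theorem D19420 : act 5 n14194 = n19420 := rfl
theorem F36346 : act 0 n19420 = n18262 := d4_1 D19420 F36335 F36333
theorem F36347 : act 2 n19420 = n18260 := d13_1 D19420 F31949 F36127
theorem F36348 : act 3 n19420 = n14196 := d16_1 D19420 (iv D14196) D14194
theorem F36349 : act 6 n19420 = n18259 := d22_3 (iv F31943) (iv F36126) D19420 F31946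
def n19421 : Q := act 5 n14195
theorem D19421 : act 5 n14195 = n19421 := rfl
theorem F36350 : act 2 n19421 = n14322 := d13_1 D19421 (iv D14322) (iv F24802)
theorem F36351 : act 4 n19421 = n14196 := d18_1 D19421 (iv D14196) D14195
def n19422 : Q := act 6 n14195
theorem D19422 : act 6 n14195 = n19422 := rfl
theorem F36352 : act 1 n19422 = n19422 := d10_1 D19422 (iv D19422) F24801 F19678 (iv F24801)
theorem F36353 : act 2 n19422 = n14323 := d14_1 D19422 (iv D14323) (iv F24802)
theorem F36354 : act 4 n19422 = n14197 := d19_1 D19422 (iv D14197) D14195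
def n19423 : Q := act 6 n14196
theorem D19423 : act 6 n14196 = n19423 := rfl
theorem F36355 : act 0 n19423 = n18261 := d5_1 D19423 (iv F36341) F36338
theorem F36356 : act 2 n19423 = n14324 := d14_1 D19423 (iv D14324) (iv F24803)
theorem F36357 : act 3 n19423 = n18259 := d17_1 D19423 (iv F36349) F36348
theorem F36358 : act 5 n19423 = n19418 := d20_1 D19423 (iv D19418) D19417 F36341 (iv F36125) (iv D14197) D14196
def n19424 : Q := act 4 n14226
theorem D19424 : act 4 n14226 = n19424 := rfl
theorem F36359 : act 0 n19424 = n14228 := d3_1 D19424 (iv D14228) D14226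
theorem F36360 : act 2 n19424 = n14228 := d12_1 D19424 (iv D14228) (iv F29131)
theorem F36361 : act 5 n14226 = n19424 := d13_0 F36360 F29114 (iv F29131)
theorem F36362 : act 3 n14426 = n19424 := d21_1 D14426 F36360 F29047 (iv D11249) F13240 F15249 (iv F13240) D11248
def n19425 : Q := act 6 n14226
theorem D19425 : act 6 n14226 = n19425 := rfl
theorem F36363 : act 0 n19425 = n14230 := d5_1 D19425 (iv D14230) D14226
theorem F36364 : act 2 n19425 = n14230 := d14_1 D19425 (iv D14230) (iv F29131)
def n19426 : Q := act 6 n14228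
theorem D19426 : act 6 n14228 = n19426 := rfl
theorem F36365 : act 3 n19426 = n14429 := d17_1 D19426 (iv D14429) (iv F29047)
theorem F36366 : act 4 n19426 = n14230 := d19_1 D19426 (iv D14230) D14228
theorem F36367 : act 5 n19426 = n19425 := d22_2 (iv F29114) D19426 (iv D19425) (iv D14226)
def n19427 : Q := act 1 n14230
theorem D19427 : act 1 n14230 = n19427 := rfl
theorem F36368 : act 6 n19427 = n14235 := d10_2 D14230 D19427 (iv D14235) (iv D11139) D11136
def n19428 : Q := act 5 n14230
theorem D19428 : act 5 n14230 = n19428 := rfl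
theorem F36369 : act 0 n19428 = n19426 := d4_1 D19428 F36367 F36363
theorem F36370 : act 2 n19428 = n19426 := d13_1 D19428 F36367 F36364
theorem F36371 : act 4 n19428 = n19425 := d18_1 D19428 (iv F36367) F36366
theorem F36372 : act 6 n19428 = n19424 := d20_2 D14230 D19428 (iv F36361) D19425 (iv F36367) (iv D19426) F29114
def n19429 : Q := act 1 n14233
theorem D19429 : act 1 n14233 = n19429 := rfl
theorem F36373 : act 3 n19429 = n18536 := d7_2 F29107 D19429 (iv D18536)
theorem F36374 : act 4 n19429 = n14235 := d8_2 (iv F24879) D19429 (iv D14235)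
def n19430 : Q := act 0 n14235
theorem D19430 : act 0 n14235 = n19430 := rfl
def n19431 : Q := act 2 n14235
theorem D19431 : act 2 n14235 = n19431 := rfl
theorem F36375 : act 5 n19430 = n19431 := d23_0 (iv D19431) (iv D14235) F19756 D11145 (iv F24625) F34889 (iv F23913) F23915 F19617 F17454 F12381 D8329 (iv F19629) (iv F34889) F24624 F24622 F24611 D14235 D19430
def n19432 : Q := act 5 n14235
theorem D19432 : act 5 n14235 = n19432 := rfl
theorem F36376 : act 0 n19432 = n19431 := d4_1 D19432 (iv F36375) (iv D19430)
theorem F36377 : act 2 n19432 = n19430 := d13_1 D19432 F36375 (iv D19431)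
def n19433 : Q := act 1 n14238
theorem D19433 : act 1 n14238 = n19433 := rfl
theorem F36378 : act 3 n19433 = n14240 := d7_2 (iv F24882) D19433 (iv D14240)
theorem F36379 : act 5 n19433 = n14305 := d9_2 F33072 D19433 F24967 (iv F24765) F34927
theorem F36380 : act 6 n19433 = n14247 := d10_2 D14238 D19433 (iv D14247) (iv D11146) (iv F19757)
def n19434 : Q := act 1 n14239
theorem D19434 : act 1 n14239 = n19434 := rfl
theorem F36381 : act 2 n19434 = n15784 := d6_2 F34891 D19434 F27310 F36306 (iv D19402)
theorem F36382 : act 4 n19434 = n14242 := d8_2 (iv F24883) D19434 (iv D14242)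
theorem F36383 : act 6 n19434 = n15641 := d10_2 D14239 D19434 (iv D15641) (iv D11889) (iv F19758)
def n19435 : Q := act 0 n14240
theorem D19435 : act 0 n14240 = n19435 := rfl
theorem F36384 : act 2 n19435 = n14293 := d1_2 (iv F34938) D19435 (iv D14293)
theorem F36385 : act 4 n19435 = n14243 := d3_2 (iv F24885) D19435 (iv D14243)
theorem F36386 : act 5 n19435 = n14303 := d4_2 (iv F34939) D19435 F24964
theorem F36387 : act 6 n19435 = n14248 := d5_2 (iv F24886) D19435 (iv D14248)
theorem F36388 : act 1 n15689 = n19435 := d10_5 F36387 F34945 (iv D11910) D11909 D15689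
def n19436 : Q := act 0 n14242
theorem D19436 : act 0 n14242 = n19436 := rfl
theorem F36389 : act 6 n19436 = n15646 := d5_2 (iv F24890) D19436 (iv D15646)
def n19437 : Q := act 2 n14242
theorem D19437 : act 2 n14242 = n19437 := rfl
theorem F36390 : act 4 n19437 = n15784 := d12_2 F36382 D19437 (iv F36381)
theorem F36391 : act 6 n19437 = n15647 := d14_2 (iv F24890) D19437 (iv D15647)
def n19438 : Q := act 5 n14242
theorem D19438 : act 5 n14242 = n19438 := rfl
theorem F36392 : act 1 n19438 = n19432 := d9_1 D19438 (iv D19432) (iv D14235) (iv F19761) D14242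
def n19439 : Q := act 1 n14243
theorem D19439 : act 1 n14243 = n19439 := rfl
theorem F36393 : act 4 n19439 = n15689 := d8_2 F36385 D19439 F36388
theorem F36394 : act 6 n19439 = n15669 := d10_2 (iv F24891) D19439 (iv D15669) (iv F34933) (iv D14251)
def n19440 : Q := act 2 n14243
theorem D19440 : act 2 n14243 = n19440 := rfl
theorem F36395 : act 0 n19440 = n14244 := d1_1 D19440 (iv D14244) D14243
theorem F36396 : act 4 n19440 = n14293 := d12_2 F36385 D19440 (iv F36384)
theorem F36397 : act 5 n19440 = n14299 := d13_2 F24904 D19440 F34957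
theorem F36398 : act 6 n19440 = n14252 := d14_2 (iv F24891) D19440 (iv D14252)
theorem F36399 : act 1 n15817 = n19440 := d24_14 F36398 (iv F34951) F24962 (iv D14274) D14273 F24931 (iv F34315) (iv D9886) (iv D4899) (iv F15770) (iv F15774) D9906 (iv F21124) D15817
def n19441 : Q := act 3 n14244
theorem D19441 : act 3 n14244 = n19441 := rfl
theorem F36400 : act 1 n19441 = n14288 := d7_1 D19441 F24945 (iv F34953)
theorem F36401 : act 5 n19441 = n14298 := d16_2 (iv F34955) D19441 F24958
theorem F36402 : act 6 n19441 = n14254 := d17_2 (iv F24892) D19441 (iv D14254)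
def n19442 : Q := act 0 n14247
theorem D19442 : act 0 n14247 = n19442 := rfl
theorem F36403 : act 3 n19442 = n14248 := d2_2 (iv F24893) D19442 (iv D14248)
theorem F36404 : act 1 n14324 = n19442 := d7_3 F36403 F34945 (iv F24997)
def n19443 : Q := act 2 n14247
theorem D19443 : act 2 n14247 = n19443 := rfl
def n19444 : Q := act 5 n14247
theorem D19444 : act 5 n14247 = n19444 := rfl
theorem F36405 : act 3 n19444 = n14250 := d16_1 D19444 (iv D14250) (iv F24893)
def n19445 : Q := act 1 n14252
theorem D19445 : act 1 n14252 = n19445 := rfl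
def n19446 : Q := act 3 n14252
theorem D19446 : act 3 n14252 = n19446 := rfl
theorem F36406 : act 0 n19446 = n14254 := d2_1 D19446 (iv D14254) (iv F24898)
def n19447 : Q := act 1 n14253
theorem D19447 : act 1 n14253 = n19447 := rfl
theorem F36407 : act 6 n19447 = n14312 := d10_2 (iv F24900) D19447 (iv D14312) (iv F32815) (iv F34934)
def n19448 : Q := act 2 n14254
theorem D19448 : act 2 n14254 = n19448 := rfl
def n19449 : Q := act 4 n14254
theorem D19449 : act 4 n14254 = n19449 := rfl
theorem F36408 : act 1 n19449 = n14265 := d8_1 D19449 (iv D14265) (iv F24901)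
def n19450 : Q := act 5 n14254
theorem D19450 : act 5 n14254 = n19450 := rfl
theorem F36409 : act 3 n19450 = n14255 := d16_1 D19450 (iv D14255) D14254
def n19451 : Q := act 1 n14255
theorem D19451 : act 1 n14255 = n19451 := rfl
theorem F36410 : act 2 n19451 = n19409 := d6_2 (iv F24902) D19451 F36318 F24803 F19817
theorem F36411 : act 5 n19451 = n14267 := d9_2 D14255 D19451 (iv D14267) (iv D11157) (iv F19767)
theorem F36412 : act 6 n19451 = n15774 := d10_2 (iv F34956) D19451 (iv D15774) (iv F21126) (iv F34971)
def n19452 : Q := act 1 n14256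
theorem D19452 : act 1 n14256 = n19452 := rfl
theorem F36413 : act 2 n19452 = n18501 := d6_2 F34957 D19452 F33099 (iv F35976) (iv F34971)
theorem F36414 : act 3 n19452 = n19435 := d7_2 F27199 D19452 (iv F36388)
theorem F36415 : act 6 n19452 = n19442 := d10_2 D14256 D19452 (iv F36404) (iv D14324) F19817
theorem F36416 : act 0 n19433 = n19452 := d5_3 F36415 (iv D19442) (iv F36380)
theorem F36417 : act 0 n14316 = n18536 := d0_7 D19433 F36416 (iv D19452) F24903 F34934 (iv F32822) D14316 (iv D18536) (iv F29104)
theorem F36418 : act 2 n18536 = n19371 := d1_2 (iv F24984) F36417 (iv D19371)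
theorem F36419 : act 1 n19371 = n18538 := d6_1 F36418 (iv D18538) (iv D13530) (iv F23778) D18536
def n19453 : Q := act 4 n14259
theorem D19453 : act 4 n14259 = n19453 := rfl
theorem F36420 : act 2 n19453 = n19406 := d12_1 D19453 (iv D19406) (iv F33030)
theorem F36421 : act 3 n19453 = n14265 := d15_1 D19453 (iv D14265) (iv D11156) (iv F19770) D14259
def n19454 : Q := act 0 n14261
theorem D19454 : act 0 n14261 = n19454 := rfl
def n19455 : Q := act 3 n14261
theorem D19455 : act 3 n14261 = n19455 := rfl
theorem F36422 : act 1 n19455 = n14262 := d7_1 D19455 (iv D14262) D14261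
def n19456 : Q := act 5 n14261
theorem D19456 : act 5 n14261 = n19456 := rfl
theorem F36423 : act 1 n19456 = n14304 := d9_1 D19456 (iv F34948) F24895 (iv F32619) D14261
theorem F36424 : act 4 n19456 = n19451 := d18_1 D19456 F36411 (iv F33034)
def n19457 : Q := act 6 n14261
theorem D19457 : act 6 n14261 = n19457 := rfl
def n19458 : Q := act 4 n14262
theorem D19458 : act 4 n14262 = n19458 := rfl
theorem F36425 : act 0 n19458 = n14265 := d3_1 D19458 (iv D14265) (iv F24914)
theorem F36426 : act 2 n19458 = n14314 := d12_1 D19458 (iv D14314) (iv F24915)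
theorem F36427 : act 5 n19458 = n19453 := d18_2 (iv F33031) D19458 (iv D19453)
def n19459 : Q := act 1 n14264
theorem D19459 : act 1 n14264 = n19459 := rfl
theorem F36428 : act 3 n19459 = n14312 := d7_2 (iv F24920) D19459 (iv D14312)
def n19460 : Q := act 4 n14264
theorem D19460 : act 4 n14264 = n19460 := rfl
theorem F36429 : act 0 n19460 = n14314 := d3_1 D19460 (iv D14314) (iv F24919)
theorem F36430 : act 2 n19460 = n14265 := d12_1 D19460 (iv D14265) D14264
def n19461 : Q := act 5 n14265
theorem D19461 : act 5 n14265 = n19461 := rfl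
theorem F36431 : act 0 n19461 = n19453 := d4_1 D19461 (iv F36427) F36425
theorem F36432 : act 3 n19461 = n19458 := d16_1 D19461 F36427 F36421
theorem F36433 : act 4 n19461 = n14266 := d18_1 D19461 (iv D14266) D14265
def n19462 : Q := act 1 n14266
theorem D19462 : act 1 n14266 = n19462 := rfl
theorem F36434 : act 3 n19462 = n14267 := d7_2 (iv F24921) D19462 (iv D14267)
def n19463 : Q := act 0 n14267
theorem D19463 : act 0 n14267 = n19463 := rfl
theorem F36435 : act 2 n19463 = n19407 := d1_2 (iv F24922) D19463 (iv D19407)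
theorem F36436 : act 4 n19463 = n19454 := d3_2 F33034 D19463 (iv D19454)
def n19464 : Q := act 6 n14267
theorem D19464 : act 6 n14267 = n19464 := rfl
theorem F36437 : act 2 n19464 = n19410 := d14_1 D19464 (iv D19410) (iv F24922)
theorem F36438 : act 4 n19464 = n19457 := d19_1 D19464 (iv D19457) F33034
def n19465 : Q := act 0 n14268
theorem D19465 : act 0 n14268 = n19465 := rfl
theorem F36439 : act 1 n19465 = n15802 := d0_2 D14268 D19465 (iv D15802) (iv D11965) (iv D9903) (iv D4907) (iv F6208) D8531 D11158
theorem F36440 : act 3 n19465 = n15802 := d2_2 (iv F24923) D19465 (iv D15802)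
def n19466 : Q := act 2 n14268
theorem D19466 : act 2 n14268 = n19466 := rfl
def n19467 : Q := act 4 n14268
theorem D19467 : act 4 n14268 = n19467 := rfl
theorem F36441 : act 1 n19467 = n14269 := d8_1 D19467 (iv D14269) D14268
def n19468 : Q := act 5 n14268
theorem D19468 : act 5 n14268 = n19468 := rfl
theorem F36442 : act 3 n19468 = n15804 := d16_1 D19468 (iv D15804) (iv F24923)
def n19469 : Q := act 6 n14268
theorem D19469 : act 6 n14268 = n19469 := rfl
theorem F36443 : act 3 n19469 = n15805 := d17_1 D19469 (iv D15805) (iv F24923)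
def n19470 : Q := act 3 n14269
theorem D19470 : act 3 n14269 = n19470 := rfl
theorem F36444 : act 0 n19470 = n14272 := d2_1 D19470 (iv D14272) (iv F24924)
theorem F36445 : act 4 n19470 = n15789 := d15_2 D14269 D19470 F27320 F21113 (iv F19779)
theorem F36446 : act 5 n15779 = n19470 := d4_0 F36444 F34347 D15779
def n19471 : Q := act 5 n14269
theorem D19471 : act 5 n14269 = n19471 := rfl
theorem F36447 : act 0 n19471 = n14273 := d4_1 D19471 (iv D14273) (iv F24924)
theorem F36448 : act 3 n19471 = n15779 := d16_1 D19471 F36446 (iv D19470)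
theorem F36449 : act 4 n19471 = n14270 := d18_1 D19471 (iv D14270) D14269
def n19472 : Q := act 6 n14269
theorem D19472 : act 6 n14269 = n19472 := rfl
theorem F36450 : act 0 n19472 = n14274 := d5_1 D19472 (iv D14274) (iv F24924)
theorem F36451 : act 4 n19472 = n14271 := d19_1 D19472 (iv D14271) D14269
def n19473 : Q := act 1 n14270
theorem D19473 : act 1 n14270 = n19473 := rfl
theorem F36452 : act 3 n19473 = n15774 := d7_2 (iv F24926) D19473 (iv D15774)
def n19474 : Q := act 1 n14271
theorem D19474 : act 1 n14271 = n19474 := rfl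
theorem F36453 : act 3 n19474 = n15809 := d7_2 (iv F24928) D19474 (iv D15809)
def n19475 : Q := act 2 n14272
theorem D19475 : act 2 n14272 = n19475 := rfl
theorem F36454 : act 4 n19475 = n15790 := d12_2 (iv F24930) D19475 (iv D15790)
theorem F36455 : act 5 n19475 = n15780 := d13_2 (iv F34347) D19475 (iv D15780)
def n19476 : Q := act 6 n14272
theorem D19476 : act 6 n14272 = n19476 := rfl
theorem F36456 : act 3 n19476 = n14274 := d17_1 D19476 (iv D14274) D14272
theorem F36457 : act 4 n19476 = n15791 := d19_1 D19476 (iv D15791) (iv F24930)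
def n19477 : Q := act 6 n14273
theorem D19477 : act 6 n14273 = n19477 := rfl
theorem F36458 : act 1 n19477 = n14275 := d10_1 D19477 (iv D14275) F19781 F34315 (iv F24931)
theorem F36459 : act 3 n19477 = n15778 := d17_1 D19477 F27308 (iv F34348)
theorem F36460 : act 4 n19477 = n14275 := d19_1 D19477 (iv D14275) (iv F24932)
theorem F36461 : act 5 n19477 = n19472 := d22_2 D14273 D19477 (iv D19472) F24924
def n19478 : Q := act 5 n14274
theorem D19478 : act 5 n14274 = n19478 := rfl
theorem F36462 : act 0 n19478 = n19477 := d4_1 D19478 F36461 F36450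
theorem F36463 : act 4 n19478 = n14276 := d18_1 D19478 (iv D14276) (iv F24933)
theorem F36464 : act 6 n19478 = n19471 := d20_2 D14274 D19478 (iv D19471) D19472 (iv F36461) (iv D19477) (iv D14273)
def n19479 : Q := act 1 n14276
theorem D19479 : act 1 n14276 = n19479 := rfl
theorem F36465 : act 3 n19479 = n14299 := d7_2 (iv F24937) D19479 F34971
theorem F36466 : act 6 n19479 = n19450 := d24_3 D11161 D14276 D19479 (iv D19450) F24901 (iv F24658) (iv F34976) (iv D15924) (iv D12031) (iv D9941) (iv D5109) F15770 (iv F6209) D8531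
theorem F36467 : act 0 n19479 = n14298 := d22_4 (iv F36401) F36402 D19450 (iv F36466)
def n19480 : Q := act 4 n14277
theorem D19480 : act 4 n14277 = n19480 := rfl
theorem F36468 : act 0 n19480 = n14279 := d3_1 D19480 (iv D14279) D14277
theorem F36469 : act 2 n19480 = n14279 := d12_1 D19480 (iv D14279) (iv F35095)
theorem F36470 : act 6 n14277 = n19480 := d14_0 F36469 F35088 (iv F35095)
theorem F36471 : act 3 n14432 = n19480 := d21_1 D14432 F36469 F32090 (iv D11252) F13241 F17045 (iv F13241) D11251
def n19481 : Q := act 5 n14277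
theorem D19481 : act 5 n14277 = n19481 := rfl
theorem F36472 : act 0 n19481 = n14280 := d4_1 D19481 (iv D14280) D14277
theorem F36473 : act 2 n19481 = n14280 := d13_1 D19481 (iv D14280) (iv F35095)
def n19482 : Q := act 5 n14279
theorem D19482 : act 5 n14279 = n19482 := rfl
theorem F36474 : act 3 n19482 = n14435 := d16_1 D19482 (iv D14435) (iv F32090)
theorem F36475 : act 4 n19482 = n14280 := d18_1 D19482 (iv D14280) D14279
theorem F36476 : act 6 n19482 = n19481 := d22_1 D19482 (iv D19481) F36470 F36468
def n19483 : Q := act 1 n14280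
theorem D19483 : act 1 n14280 = n19483 := rfl
theorem F36477 : act 5 n19483 = n14285 := d9_2 D14280 D19483 (iv D14285) (iv D11165) D11163
def n19484 : Q := act 6 n14280
theorem D19484 : act 6 n14280 = n19484 := rfl
theorem F36478 : act 0 n19484 = n19482 := d5_1 D19484 F36476 F36472
theorem F36479 : act 2 n19484 = n19482 := d14_1 D19484 F36476 F36473
theorem F36480 : act 4 n19484 = n19481 := d19_1 D19484 (iv F36476) F36475
theorem F36481 : act 5 n19484 = n19480 := d20_1 D19484 (iv F36470) D19481 (iv F36476) (iv D19482) F35088 D14280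
def n19485 : Q := act 1 n14283
theorem D19485 : act 1 n14283 = n19485 := rfl
theorem F36482 : act 0 n19485 = n19462 := d0_1 D19485 (iv D19462) F33032 F34978 F27362 F36399 F36395 F34953 (iv F24941)
theorem F36483 : act 3 n19485 = n18549 := d7_2 F32108 D19485 (iv D18549)
theorem F36484 : act 4 n19485 = n14285 := d8_2 (iv F24942) D19485 (iv D14285)
theorem E10211 : n19463 = n18549 := ((c2_1 F36483 (iv D19463) (iv F36434) (iv F36482))).symm
theorem F36485 : act 0 n18549 = n14267 := (sb E10211 (iv D19463))
theorem F36486 : act 2 n18549 = n19407 := (sb E10211 F36435)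
theorem F36487 : act 4 n18549 = n19454 := (sb E10211 F36436)
theorem F36488 : act 1 n19454 = n15748 := d8_1 F36487 F34433 D18549
theorem F36489 : act 1 n19407 = n18552 := d6_1 F36486 (iv D18552) (iv D13540) (iv F23793) D18549
def n19486 : Q := act 0 n14285
theorem D19486 : act 0 n14285 = n19486 := rfl
theorem F36490 : act 4 n19486 = n19462 := d3_2 F36484 D19486 (iv F36482)
theorem F36491 : act 1 n19461 = n19486 := d8_3 F36490 (iv D19462) (iv F36433)
def n19487 : Q := act 2 n14285
theorem D19487 : act 2 n14285 = n19487 := rfl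
def n19488 : Q := act 6 n14285
theorem D19488 : act 6 n14285 = n19488 := rfl
def n19489 : Q := act 1 n14292
theorem D19489 : act 1 n14292 = n19489 := rfl
theorem F36492 : act 2 n19489 = n15648 := d6_2 F35189 D19489 F27149 F36204 (iv D19366)
theorem F36493 : act 4 n19489 = n14297 := d8_2 (iv F24953) D19489 (iv D14297)
theorem F36494 : act 5 n19489 = n15647 := d9_2 D14292 D19489 F35014 (iv D11952) (iv F19792)
theorem F36495 : act 6 n19489 = n19468 := d24_3 D11169 D14292 D19489 (iv D19468) (iv D14268) D14271 (iv F24935) (iv F36458) (iv D19477) (iv D14273) F19780 (iv F12758) (iv D8550) (iv F12753)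
theorem F36496 : act 0 n19469 = n15647 := d22_4 (iv F36494) F36495 (iv D19468) D19469
theorem E10212 : n19465 = n19437 := ((c22_4 D19468 (iv F36495) F36494 (iv F36391) (iv D19465))).symm
theorem F36497 : act 0 n19437 = n14268 := (sb E10212 (iv D19465))
theorem F36498 : act 1 n19437 = n15802 := (sb E10212 F36439)
theorem F36499 : act 3 n19437 = n15802 := (sb E10212 F36440)
theorem F36500 : act 6 n15802 = n15754 := d17_2 (iv F36391) F36499 F35016
theorem F36501 : act 0 n15754 = n15805 := d5_1 F36500 (iv D15805) D15802
theorem F36502 : act 4 n15758 = n15802 := d19_3 F36500 F27284 D15758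
theorem F36503 : act 0 n15792 = n15758 := d3_3 F36502 (iv D15802) (iv F27322)
theorem F36504 : act 2 n15802 = n19360 := d12_1 F36502 (iv F36304) (iv F36306)
theorem F36505 : act 0 n19360 = n15803 := d1_1 F36504 (iv D15803) D15802
theorem F36506 : act 0 n15784 = n19467 := d0_3 D15792 F36503 (iv F27310) F36441 F24924 F19780 F12726 D9901 D11961
theorem F36507 : act 6 n15756 = n15792 := d5_0 F36503 (iv D15758) D15756
theorem F36508 : act 4 n15805 = n15756 := d19_3 F36507 F27322 D15805
theorem F36509 : act 6 n19467 = n15782 := d5_2 D15784 F36506 (iv D15782)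
theorem F36510 : act 4 n15782 = n19469 := d19_1 F36509 (iv D19469) D19467
theorem E10213 : n19466 = n19436 := (c1_3 D19437 F36497 D19466 (iv D19436))
theorem F36511 : act 2 n19436 = n14268 := (sb E10213 (iv D19466))
theorem F36512 : act 2 n19469 = n15646 := d14_3 (iv F36389) F36511 D19469
def n19490 : Q := act 1 n14293
theorem D19490 : act 1 n14293 = n19490 := rfl
theorem F36513 : act 4 n19490 = n15817 := d8_2 F36396 D19490 F36399
theorem F36514 : act 5 n19490 = n15797 := d9_2 (iv F24955) D19490 (iv D15797) (iv F34968) (iv D14302)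
def n19491 : Q := act 0 n14297
theorem D19491 : act 0 n14297 = n19491 := rfl
theorem F36515 : act 5 n19491 = n15782 := d4_2 (iv F24957) D19491 (iv D15782)
def n19492 : Q := act 2 n14297
theorem D19492 : act 2 n14297 = n19492 := rfl
theorem F36516 : act 4 n19492 = n15648 := d12_2 F36493 D19492 (iv F36492)
theorem F36517 : act 5 n19492 = n15641 := d13_2 (iv F24957) D19492 F35005
theorem F36518 : act 0 n14317 = n19492 := d23_19 F36517 F35005 (iv D11957) F17590 F17589 (iv F20940) (iv F34211) (iv D10766) D10768 (iv F23793) D18549 F36485 (iv F36411) F36410 F36318 (iv F36338) (iv D19417) F24799 D14317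
theorem F36519 : act 1 n19492 = n15674 := d0_2 D14317 F36518 (iv D15674) (iv D11904) (iv D9870) (iv D4869) (iv F6241) D8559 D11185
theorem F36520 : act 2 n19491 = n14317 := d1_0 F36518 (iv D19492) D19491
theorem F36521 : act 3 n19492 = n15674 := d2_2 (iv F24985) F36518 (iv D15674)
theorem F36522 : act 5 n15674 = n15627 := d16_2 (iv F36517) F36521 (iv F29183)
theorem F36523 : act 0 n15627 = n15676 := d4_1 F36522 (iv D15676) D15674
theorem F36524 : act 4 n15633 = n15674 := d18_3 F36522 F27127 D15633
theorem F36525 : act 0 n15664 = n15633 := d3_3 F36524 (iv D15674) (iv F27167)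
theorem F36526 : act 2 n15674 = n19398 := d12_1 F36524 F36292 (iv F36204)
theorem F36527 : act 0 n19398 = n15675 := d1_1 F36526 (iv D15675) D15674
theorem F36528 : act 5 n15631 = n15664 := d4_0 F36525 (iv D15633) D15631
theorem F36529 : act 4 n15676 = n15631 := d18_3 F36528 F27167 D15676
def n19493 : Q := act 6 n14297
theorem D19493 : act 6 n14297 = n19493 := rfl
theorem F36530 : act 1 n19493 = n19488 := d10_1 D19493 (iv D19488) (iv D14285) (iv F19797) D14297
theorem F36531 : act 4 n19493 = n19468 := d19_1 D19493 (iv F36495) F36493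
theorem F36532 : act 5 n19493 = n19467 := d22_2 (iv F24957) D19493 F36509 (iv D15782)
def n19494 : Q := act 2 n14298
theorem D19494 : act 2 n14298 = n19494 := rfl
theorem F36533 : act 1 n19494 = n19475 := d6_1 D19494 (iv D19475) F24929 (iv F19798) D14298
def n19495 : Q := act 6 n14298
theorem D19495 : act 6 n14298 = n19495 := rfl
theorem F36534 : act 0 n19495 = n19450 := d5_1 D19495 (iv F36466) F36467
theorem F36535 : act 1 n19495 = n19476 := d10_1 D19495 (iv D19476) F24929 (iv F19800) D14298
theorem F36536 : act 3 n19495 = n14301 := d17_1 D19495 (iv D14301) (iv F24958)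
theorem F36537 : act 5 n19446 = n19495 := d22_0 (iv D19495) (iv F36401) F36402 (iv F36406)
def n19496 : Q := act 1 n14303
theorem D19496 : act 1 n14303 = n19496 := rfl
theorem F36538 : act 4 n19496 = n19452 := d8_2 (iv F34937) D19496 (iv D19452)
def n19497 : Q := act 3 n14303
theorem D19497 : act 3 n14303 = n19497 := rfl
theorem F36539 : act 0 n19497 = n14305 := d2_1 D19497 (iv D14305) (iv F24964)
theorem F36540 : act 5 n19497 = n19452 := d16_2 F36386 D19497 F36414
theorem F36541 : act 6 n19497 = n19444 := d17_2 (iv F34960) D19497 F36405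
def n19498 : Q := act 2 n14305
theorem D19498 : act 2 n14305 = n19498 := rfl
def n19499 : Q := act 4 n14305
theorem D19499 : act 4 n14305 = n19499 := rfl
theorem F36542 : act 1 n19499 = n14314 := d8_1 D19499 (iv D14314) (iv F24967)
def n19500 : Q := act 6 n14305
theorem D19500 : act 6 n14305 = n19500 := rfl
theorem F36543 : act 0 n19500 = n19444 := d5_1 D19500 (iv F36541) F36539
theorem F36544 : act 3 n19500 = n14306 := d17_1 D19500 (iv D14306) D14305
theorem F36545 : act 5 n19500 = n19442 := d20_1 D19500 (iv F36415) (iv F36540) F36541 (iv D19444) (iv F36380) F36379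
def n19501 : Q := act 1 n14306
theorem D19501 : act 1 n14306 = n19501 := rfl
theorem F36546 : act 2 n19501 = n19374 := d6_2 (iv F24968) D19501 F36216 F24696 (iv F19803)
theorem F36547 : act 4 n19501 = n19447 := d8_2 (iv F34940) D19501 (iv D19447)
theorem F36548 : act 5 n19501 = n15649 := d9_2 F34943 D19501 (iv D15649) (iv F21044) (iv F34945)
theorem F36549 : act 6 n19501 = n14316 := d10_2 D14306 D19501 (iv D14316) (iv D11184) (iv F19802)
def n19502 : Q := act 1 n14307
theorem D19502 : act 1 n14307 = n19502 := rfl
theorem F36550 : act 0 n19502 = n19441 := d0_1 D19502 F36400 F32112 D18549 F36485 (iv D14267) F32620 (iv F24895) F34946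
theorem F36551 : act 2 n19502 = n18520 := d6_2 (iv F34944) D19502 F33118 (iv F36121) (iv F34945)
theorem F36552 : act 3 n19502 = n19440 := d7_2 F27354 D19502 (iv F36399)
theorem F36553 : act 4 n19502 = n19445 := d8_2 F34950 D19502 (iv D19445)
theorem F36554 : act 5 n19502 = n19479 := d9_2 D14307 D19502 (iv D19479) (iv D14276) (iv F19803)
theorem F36555 : act 6 n19502 = n19446 := d24_3 D11177 D14307 D19502 F36537 F36535 (iv D19476) F34347 (iv D11956) (iv D9897) (iv D4903) (iv D2361) (iv F3134) D4108 D8551
def n19503 : Q := act 4 n14310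
theorem D19503 : act 4 n14310 = n19503 := rfl
theorem F36556 : act 2 n19503 = n19370 := d12_1 D19503 (iv D19370) F33021
theorem F36557 : act 3 n19503 = n14314 := d15_1 D19503 (iv D14314) (iv D11183) (iv F19806) D14310
theorem F36558 : act 6 n19503 = n19460 := d19_2 (iv F33022) D19503 (iv D19460)
def n19504 : Q := act 0 n14312
theorem D19504 : act 0 n14312 = n19504 := rfl
theorem F36559 : act 4 n19504 = n18536 := d3_2 F33019 D19504 (iv F36417)
theorem F36560 : act 1 n15622 = n19504 := d8_3 F36559 (iv D18536) F29103
def n19505 : Q := act 5 n14312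
theorem D19505 : act 5 n14312 = n19505 := rfl
def n19506 : Q := act 6 n14314
theorem D19506 : act 6 n14314 = n19506 := rfl
theorem F36561 : act 0 n19506 = n19503 := d5_1 D19506 F36558 F36429
theorem F36562 : act 3 n19506 = n19460 := d17_1 D19506 (iv F36558) F36557
theorem F36563 : act 4 n19506 = n14315 := d19_1 D19506 (iv D14315) D14314
def n19507 : Q := act 1 n14315
theorem D19507 : act 1 n14315 = n19507 := rfl
theorem F36564 : act 0 n19507 = n19429 := d0_1 D19507 (iv D19429) F24878 D14240 D19435 (iv F36388) (iv F27207) (iv F34928) F33020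
theorem F36565 : act 3 n19507 = n14316 := d7_2 (iv F24983) D19507 (iv D14316)
theorem F36566 : act 4 n19430 = n19507 := d3_0 F36564 F36374 D19430
theorem F36567 : act 1 n19506 = n19430 := d8_3 F36566 (iv D19507) (iv F36563)
def n19508 : Q := act 5 n14316
theorem D19508 : act 5 n14316 = n19508 := rfl
theorem F36568 : act 2 n19508 = n19373 := d13_1 D19508 (iv D19373) (iv F24984)
theorem F36569 : act 4 n19508 = n19505 := d18_1 D19508 (iv D19505) (iv F33019)
def n19509 : Q := act 4 n14317
theorem D19509 : act 4 n14317 = n19509 := rfl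
theorem F36570 : act 0 n19509 = n15648 := d3_1 D19509 (iv F36516) (iv F36518)
theorem F36571 : act 1 n19509 = n14318 := d8_1 D19509 (iv D14318) D14317
theorem F36572 : act 5 n15646 = n19509 := d4_0 F36570 (iv D15648) D15646
theorem F36573 : act 6 n19438 = n19509 := d22_3 (iv D15648) (iv F24890) D19438 F36570
def n19510 : Q := act 5 n14317
theorem D19510 : act 5 n14317 = n19510 := rfl
theorem F36574 : act 0 n19510 = n15641 := d4_1 D19510 (iv F36517) (iv F36518)
theorem F36575 : act 2 n19510 = n15782 := d13_1 D19510 (iv F36515) F36520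
theorem F36576 : act 3 n19510 = n15676 := d16_1 D19510 (iv D15676) (iv F24985)
theorem F36577 : act 4 n19510 = n15646 := d18_1 D19510 F36572 (iv D19509)
def n19511 : Q := act 6 n14317
theorem D19511 : act 6 n14317 = n19511 := rfl
theorem F36578 : act 3 n19511 = n15677 := d17_1 D19511 (iv D15677) (iv F24985)
theorem F36579 : act 4 n19511 = n19438 := d19_1 D19511 F36573 (iv D19509)
theorem F36580 : act 5 n19511 = n19434 := d22_2 (iv D19510) D19511 F36383 (iv F36574)
def n19512 : Q := act 3 n14318
theorem D19512 : act 3 n14318 = n19512 := rfl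
theorem F36581 : act 0 n19512 = n14321 := d2_1 D19512 (iv D14321) (iv F24986)
theorem F36582 : act 4 n19512 = n15661 := d15_2 D14318 D19512 F27165 F21031 (iv F19815)
theorem F36583 : act 6 n15654 = n19512 := d5_0 F36581 F29067 D15654
def n19513 : Q := act 5 n14318
theorem D19513 : act 5 n14318 = n19513 := rfl
theorem F36584 : act 0 n19513 = n14322 := d4_1 D19513 (iv D14322) (iv F24986)
theorem F36585 : act 4 n19513 = n14319 := d18_1 D19513 (iv D14319) D14318
def n19514 : Q := act 6 n14318
theorem D19514 : act 6 n14318 = n19514 := rfl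
theorem F36586 : act 0 n19514 = n14323 := d5_1 D19514 (iv D14323) (iv F24986)
theorem F36587 : act 3 n19514 = n15654 := d17_1 D19514 F36583 (iv D19512)
theorem F36588 : act 4 n19514 = n14320 := d19_1 D19514 (iv D14320) D14318
def n19515 : Q := act 1 n14319
theorem D19515 : act 1 n14319 = n19515 := rfl
theorem F36589 : act 2 n19515 = n17814 := d6_2 F36339 D19515 (iv D17814) (iv F31099) (iv F36342)
theorem F36590 : act 3 n19515 = n15681 := d7_2 (iv F24988) D19515 (iv D15681)
def n19516 : Q := act 1 n14320
theorem D19516 : act 1 n14320 = n19516 := rfl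
theorem F36591 : act 3 n19516 = n15649 := d7_2 (iv F24990) D19516 (iv D15649)
def n19517 : Q := act 2 n14321
theorem D19517 : act 2 n14321 = n19517 := rfl
theorem F36592 : act 1 n19517 = n19443 := d6_1 D19517 (iv D19443) (iv D14247) (iv F19825) (iv F24991)
theorem F36593 : act 4 n19517 = n15662 := d12_2 (iv F24992) D19517 (iv D15662)
theorem F36594 : act 6 n19517 = n15655 := d14_2 (iv F29067) D19517 (iv D15655)
def n19518 : Q := act 5 n14321
theorem D19518 : act 5 n14321 = n19518 := rfl
theorem F36595 : act 1 n19518 = n19444 := d9_1 D19518 (iv D19444) (iv D14247) (iv F19823) (iv F24991)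
theorem F36596 : act 3 n19518 = n14322 := d16_1 D19518 (iv D14322) D14321
theorem F36597 : act 4 n19518 = n15663 := d18_1 D19518 (iv D15663) (iv F24992)
def n19519 : Q := act 6 n14322
theorem D19519 : act 6 n14322 = n19519 := rfl
theorem F36598 : act 4 n19519 = n14324 := d19_1 D19519 (iv D14324) (iv F24994)
theorem F36599 : act 5 n19519 = n19514 := d22_2 D14322 D19519 (iv D19514) F24986
def n19520 : Q := act 5 n14323
theorem D19520 : act 5 n14323 = n19520 := rfl
theorem F36600 : act 0 n19520 = n19519 := d4_1 D19520 F36599 F36586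
theorem F36601 : act 1 n19520 = n14325 := d9_1 D19520 (iv D14325) F19819 F29068 (iv F24995)
theorem F36602 : act 3 n19520 = n15653 := d16_1 D19520 F27154 (iv F29071)
theorem F36603 : act 4 n19520 = n14325 := d18_1 D19520 (iv D14325) (iv F24996)
theorem F36604 : act 6 n19520 = n19513 := d20_2 D14323 D19520 (iv D19513) D19514 (iv F36599) (iv D19519) (iv D14322)
def n19521 : Q := act 1 n14328
theorem D19521 : act 1 n14328 = n19521 := rfl
theorem F36605 : act 3 n19521 = n15190 := d7_2 (iv F25008) D19521 F29020
theorem F36606 : act 4 n19521 = n14334 := d8_2 (iv F25009) D19521 (iv D14334)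
theorem F36607 : act 5 n19521 = n15263 := d9_2 D14328 D19521 F29155 (iv D12034) F19844
theorem F36608 : act 2 n19110 = n19521 := d12_3 F36606 F29145 D19110
def n19522 : Q := act 1 n14329
theorem D19522 : act 1 n14329 = n19522 := rfl
theorem F36609 : act 3 n19522 = n15223 := d7_2 (iv F25012) D19522 F34440
theorem F36610 : act 4 n19522 = n14335 := d8_2 (iv F25013) D19522 (iv D14335)
theorem F36611 : act 6 n19522 = n15301 := d10_2 D14329 D19522 F34463 (iv D12035) F19844
theorem F36612 : act 2 n19179 = n19522 := d12_3 F36610 (iv F35103) D19179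
def n19523 : Q := act 1 n14330
theorem D19523 : act 1 n14330 = n19523 := rfl
theorem F36613 : act 3 n19523 = n18155 := d7_2 (iv F25015) D19523 (iv D18155)
theorem F36614 : act 4 n19523 = n14341 := d8_2 (iv F25016) D19523 (iv D14341)
theorem F36615 : act 6 n19523 = n19523 := d10_2 D14330 D19523 (iv D19523) (iv D14330) F19845
def n19524 : Q := act 1 n14331
theorem D19524 : act 1 n14331 = n19524 := rfl
theorem F36616 : act 3 n19524 = n18156 := d7_2 (iv F25020) D19524 (iv D18156)
theorem F36617 : act 4 n19524 = n14342 := d8_2 (iv F25021) D19524 (iv D14342)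
theorem F36618 : act 5 n19524 = n19524 := d9_2 D14331 D19524 (iv D19524) (iv D14331) F19849
def n19525 : Q := act 5 n14336
theorem D19525 : act 5 n14336 = n19525 := rfl
theorem F36619 : act 3 n19525 = n14337 := d16_1 D19525 (iv D14337) D14336
theorem F36620 : act 4 n19525 = n15437 := d18_1 D19525 (iv F32421) F32420
theorem F36621 : act 1 n15441 = n19525 := d8_3 F36620 F26801 D15441
def n19526 : Q := act 6 n14336
theorem D19526 : act 6 n14336 = n19526 := rfl
theorem F36622 : act 3 n19526 = n14338 := d17_1 D19526 (iv D14338) D14336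
theorem F36623 : act 4 n19526 = n15516 := d19_1 D19526 F35501 F32420
theorem F36624 : act 1 n15520 = n19526 := d8_3 F36623 F26942 D15520
def n19527 : Q := act 6 n14337
theorem D19527 : act 6 n14337 = n19527 := rfl
theorem F36625 : act 2 n19527 = n14339 := d14_1 D19527 (iv D14339) (iv F25032)
theorem F36626 : act 4 n19527 = n18163 := d19_1 D19527 (iv D18163) (iv F25033)
theorem F36627 : act 5 n19527 = n18467 := d22_2 D14337 D19527 (iv D18467) F23710
def n19528 : Q := act 5 n14338
theorem D19528 : act 5 n14338 = n19528 := rfl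
theorem F36628 : act 0 n19528 = n19527 := d4_1 D19528 F36627 F32440
theorem F36629 : act 2 n19528 = n14340 := d13_1 D19528 (iv D14340) (iv F25034)
theorem F36630 : act 4 n19528 = n18165 := d18_1 D19528 (iv D18165) (iv F25035)
theorem F36631 : act 6 n19528 = n18466 := d20_2 D14338 D19528 (iv D18466) D18467 (iv F36627) (iv D19527) (iv D14337)
def n19529 : Q := act 1 n14339
theorem D19529 : act 1 n14339 = n19529 := rfl
theorem F36632 : act 3 n19529 = n14341 := d7_2 (iv F25036) D19529 (iv D14341)
theorem F36633 : act 4 n19529 = n16840 := d8_2 (iv F25037) D19529 F35131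
theorem F36634 : act 6 n19529 = n19529 := d10_2 D14339 D19529 (iv D19529) (iv D14339) F19862
theorem F36635 : act 0 n16838 = n19529 := d3_3 F36633 (iv D16840) (iv F29697)
def n19530 : Q := act 1 n14340
theorem D19530 : act 1 n14340 = n19530 := rfl
theorem F36636 : act 0 n19530 = n17030 := d0_1 D19530 (iv D17030) (iv F29938) F35116 F29660 D16838 F36635 (iv D19529) (iv F25039)
theorem F36637 : act 3 n19530 = n14342 := d7_2 (iv F25040) D19530 (iv D14342)
theorem F36638 : act 4 n19530 = n17032 := d8_2 (iv F25041) D19530 F35126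
theorem F36639 : act 5 n19530 = n19530 := d9_2 D14340 D19530 (iv D19530) (iv D14340) F19865
def n19531 : Q := act 0 n14341
theorem D19531 : act 0 n14341 = n19531 := rfl
theorem F36640 : act 3 n19531 = n16838 := d2_2 F36632 D19531 F36635
theorem F36641 : act 6 n19531 = n19531 := d5_2 F25043 D19531 (iv D19531)
theorem F36642 : act 1 n16837 = n19531 := d7_3 F36640 (iv D16838) (iv F29695)
def n19532 : Q := act 2 n14341
theorem D19532 : act 2 n14341 = n19532 := rfl
theorem F36643 : act 1 n19532 = n14412 := d6_1 D19532 (iv D14412) (iv D11242) (iv F19868) D14341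
theorem F36644 : act 6 n19532 = n19532 := d14_2 F25043 D19532 (iv D19532)
def n19533 : Q := act 5 n14341
theorem D19533 : act 5 n14341 = n19533 := rfl
theorem F36645 : act 1 n19533 = n16590 := d9_1 D19533 F29306 (iv D14335) (iv F19869) D14341
def n19534 : Q := act 0 n14342
theorem D19534 : act 0 n14342 = n19534 := rfl
theorem F36646 : act 1 n19534 = n17029 := d0_2 D14342 D19534 F35114 F28723 (iv F29694) F36642 (iv D19531) (iv D14341) (iv F19870)
theorem F36647 : act 3 n19534 = n17030 := d2_2 F36637 D19534 (iv F36636)
theorem F36648 : act 5 n19534 = n19534 := d4_2 F25044 D19534 (iv D19534)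
def n19535 : Q := act 2 n14342
theorem D19535 : act 2 n14342 = n19535 := rfl
theorem F36649 : act 1 n19535 = n14417 := d6_1 D19535 (iv D14417) (iv D11245) (iv F19871) D14342
theorem F36650 : act 5 n19535 = n19535 := d13_2 F25044 D19535 (iv D19535)
def n19536 : Q := act 6 n14342
theorem D19536 : act 6 n14342 = n19536 := rfl
theorem F36651 : act 1 n19536 = n16582 := d10_1 D19536 F29276 (iv D14334) (iv F19872) D14342
def n19537 : Q := act 1 n14343
theorem D19537 : act 1 n14343 = n19537 := rfl
theorem F36652 : act 3 n19537 = n14345 := d7_2 (iv F25047) D19537 (iv D14345)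
theorem F36653 : act 4 n19537 = n14373 := d8_2 (iv F25048) D19537 (iv D14373)
theorem F36654 : act 5 n19537 = n14345 := d9_2 D14343 D19537 (iv D14345) (iv D11206) D11205
theorem F36655 : act 0 n19537 = n19246 := d23_3 D11490 (iv F25046) D19537 (iv F35891) (iv F35624) F35623 F24397 (iv F24359) (iv F28910) (iv D14500) F20014 (iv F19982) (iv D11263) (iv D8924) (iv F13343) (iv D8918) F6559 D4503 D9300
def n19538 : Q := act 1 n14344
theorem D19538 : act 1 n14344 = n19538 := rfl
theorem F36656 : act 3 n19538 = n14346 := d7_2 (iv F25051) D19538 (iv D14346)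
theorem F36657 : act 4 n19538 = n14374 := d8_2 (iv F25052) D19538 (iv D14374)
theorem F36658 : act 6 n19538 = n14346 := d10_2 D14344 D19538 (iv D14346) (iv D11207) D11205
theorem F36659 : act 0 n19303 = n19538 := d5_3 F36658 (iv F35214) F36025
def n19539 : Q := act 2 n14345
theorem D19539 : act 2 n14345 = n19539 := rfl
theorem F36660 : act 0 n19539 = n19120 := d1_1 D19539 F35624 F29164
theorem F36661 : act 1 n19539 = n19110 := d6_1 D19539 F36608 (iv D19521) F25007 D14345
theorem F36662 : act 4 n19539 = n14382 := d12_2 (iv F25053) D19539 (iv D14382)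
def n19540 : Q := act 6 n14345
theorem D19540 : act 6 n14345 = n19540 := rfl
theorem F36663 : act 0 n19540 = n19247 := d5_1 D19540 (iv D19247) F29164
theorem F36664 : act 4 n19540 = n14383 := d19_1 D19540 (iv D14383) (iv F25053)
def n19541 : Q := act 2 n14346
theorem D19541 : act 2 n14346 = n19541 := rfl
theorem F36665 : act 0 n19541 = n19188 := d1_1 D19541 F35775 F35214
theorem F36666 : act 1 n19541 = n19179 := d6_1 D19541 F36612 (iv D19522) F25011 D14346
theorem F36667 : act 4 n19541 = n14385 := d12_2 (iv F25054) D19541 (iv D14385)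
def n19542 : Q := act 5 n14346
theorem D19542 : act 5 n14346 = n19542 := rfl
theorem F36668 : act 0 n19542 = n19304 := d4_1 D19542 (iv D19304) F35214
theorem F36669 : act 4 n19542 = n14386 := d18_1 D19542 (iv D14386) (iv F25054)
def n19543 : Q := act 0 n14347
theorem D19543 : act 0 n14347 = n19543 := rfl
theorem F36670 : act 2 n19543 = n16003 := d1_2 F25983 D19543 F27666
theorem F36671 : act 3 n19543 = n14351 := d2_2 (iv F25055) D19543 (iv D14351)
theorem F36672 : act 4 n19543 = n15152 := d3_2 (iv F25056) D19543 (iv D15152)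
theorem F36673 : act 5 n19543 = n14359 := d4_2 (iv F25057) D19543 (iv D14359)
def n19544 : Q := act 6 n14347
theorem D19544 : act 6 n14347 = n19544 := rfl
theorem F36674 : act 3 n19544 = n14352 := d17_1 D19544 (iv D14352) (iv F25055)
theorem F36675 : act 4 n19544 = n15153 := d19_1 D19544 (iv D15153) (iv F25056)
def n19545 : Q := act 1 n14348
theorem D19545 : act 1 n14348 = n19545 := rfl
theorem F36676 : act 3 n19545 = n14353 := d7_2 (iv F25059) D19545 (iv D14353)
theorem F36677 : act 4 n19545 = n15154 := d8_2 (iv F25060) D19545 (iv D15154)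
def n19546 : Q := act 0 n14349
theorem D19546 : act 0 n14349 = n19546 := rfl
theorem F36678 : act 2 n19546 = n16017 := d1_2 F35281 D19546 F27693
theorem F36679 : act 3 n19546 = n14354 := d2_2 (iv F25062) D19546 (iv D14354)
theorem F36680 : act 4 n19546 = n15155 := d3_2 (iv F25063) D19546 (iv D15155)
theorem F36681 : act 6 n19546 = n14362 := d5_2 (iv F25064) D19546 (iv D14362)
def n19547 : Q := act 5 n14349
theorem D19547 : act 5 n14349 = n19547 := rfl
theorem F36682 : act 3 n19547 = n14355 := d16_1 D19547 (iv D14355) (iv F25062)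
theorem F36683 : act 4 n19547 = n15157 := d18_1 D19547 (iv D15157) (iv F25063)
def n19548 : Q := act 1 n14350
theorem D19548 : act 1 n14350 = n19548 := rfl
theorem F36684 : act 3 n19548 = n14356 := d7_2 (iv F25067) D19548 (iv D14356)
theorem F36685 : act 4 n19548 = n15158 := d8_2 (iv F25068) D19548 (iv D15158)
def n19549 : Q := act 1 n14352
theorem D19549 : act 1 n14352 = n19549 := rfl
theorem F36686 : act 4 n19549 = n14410 := d8_2 (iv F25074) D19549 (iv D14410)
theorem F36687 : act 6 n19549 = n14353 := d10_2 D14352 D19549 (iv D14353) (iv D11211) D11210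
def n19550 : Q := act 0 n14353
theorem D19550 : act 0 n14353 = n19550 := rfl
theorem F36688 : act 4 n19550 = n14411 := d3_2 (iv F25075) D19550 (iv D14411)
def n19551 : Q := act 2 n14353
theorem D19551 : act 2 n14353 = n19551 := rfl
theorem F36689 : act 4 n19551 = n14412 := d12_2 (iv F25075) D19551 (iv D14412)
def n19552 : Q := act 5 n14353
theorem D19552 : act 5 n14353 = n19552 := rfl
theorem F36690 : act 1 n19552 = n19542 := d9_1 D19552 (iv D19542) (iv D14346) (iv F19891) D14353
theorem F36691 : act 4 n19552 = n14413 := d18_1 D19552 (iv D14413) (iv F25075)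
def n19553 : Q := act 1 n14355
theorem D19553 : act 1 n14355 = n19553 := rfl
theorem F36692 : act 4 n19553 = n14415 := d8_2 (iv F25080) D19553 (iv D14415)
theorem F36693 : act 5 n19553 = n14356 := d9_2 D14355 D19553 (iv D14356) (iv D11213) D11212
def n19554 : Q := act 0 n14356
theorem D19554 : act 0 n14356 = n19554 := rfl
theorem F36694 : act 4 n19554 = n14416 := d3_2 (iv F25081) D19554 (iv D14416)
def n19555 : Q := act 2 n14356
theorem D19555 : act 2 n14356 = n19555 := rfl
theorem F36695 : act 4 n19555 = n14417 := d12_2 (iv F25081) D19555 (iv D14417)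
def n19556 : Q := act 6 n14356
theorem D19556 : act 6 n14356 = n19556 := rfl
theorem F36696 : act 1 n19556 = n19540 := d10_1 D19556 (iv D19540) (iv D14345) (iv F19897) D14356
theorem F36697 : act 4 n19556 = n14418 := d19_1 D19556 (iv D14418) (iv F25081)
def n19557 : Q := act 6 n14357
theorem D19557 : act 6 n14357 = n19557 := rfl
theorem F36698 : act 0 n19557 = n16615 := d5_1 D19557 (iv D16615) F25086
theorem F36699 : act 1 n19557 = n15283 := d10_1 D19557 (iv F35296) (iv D14476) F20006 D14357
theorem F36700 : act 2 n19557 = n15282 := d14_1 D19557 F26598 (iv F25082)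
theorem F36701 : act 3 n19557 = n14421 := d17_1 D19557 (iv D14421) (iv F25083)
theorem F36702 : act 4 n19557 = n14361 := d19_1 D19557 (iv D14361) (iv F25084)
theorem F36703 : act 5 n19557 = n16953 := d20_1 D19557 F29862 F26417 D16615 F29347 (iv D15153) (iv F25085)
def n19558 : Q := act 5 n14358
theorem D19558 : act 5 n14358 = n19558 := rfl
theorem F36704 : act 0 n19558 = n16632 := d4_1 D19558 (iv D16632) (iv F34779)
theorem F36705 : act 1 n19558 = n15243 := d9_1 D19558 (iv F35319) (iv D14472) F19998 D14358
theorem F36706 : act 2 n19558 = n15242 := d13_1 D19558 F26532 (iv F34780)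
theorem F36707 : act 3 n19558 = n14424 := d16_1 D19558 (iv D14424) (iv F25087)
theorem F36708 : act 4 n19558 = n14364 := d18_1 D19558 (iv D14364) (iv F25088)
theorem F36709 : act 6 n19558 = n16780 := d20_2 (iv F25089) D19558 (iv F34777) F34778 D16632 F35270 (iv D15157)
def n19559 : Q := act 1 n14359
theorem D19559 : act 1 n14359 = n19559 := rfl
theorem F36710 : act 2 n19559 = n16005 := d6_2 F25092 D19559 (iv D16005) (iv D12072) D12071
theorem F36711 : act 3 n19559 = n14365 := d7_2 (iv F25090) D19559 (iv D14365)
theorem F36712 : act 4 n19559 = n16614 := d8_2 (iv F25091) D19559 (iv D16614)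
theorem F36713 : act 5 n16457 = n19559 := d18_0 F36712 F29344 (iv F28541)
def n19560 : Q := act 6 n14359
theorem D19560 : act 6 n14359 = n19560 := rfl
theorem F36714 : act 0 n19560 = n14361 := d5_1 D19560 (iv D14361) D14359
theorem F36715 : act 2 n19560 = n16004 := d14_1 D19560 (iv D16004) F25092
theorem F36716 : act 3 n19560 = n14366 := d17_1 D19560 (iv D14366) (iv F25090)
theorem F36717 : act 4 n19560 = n16615 := d19_1 D19560 (iv D16615) (iv F25091)
theorem F36718 : act 5 n19560 = n19544 := d22_2 F36673 D19560 (iv D19544) D19543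
def n19561 : Q := act 3 n14360
theorem D19561 : act 3 n14360 = n19561 := rfl
theorem F36719 : act 0 n19561 = n15991 := d2_1 D19561 F27648 (iv F25093)
theorem F36720 : act 1 n19561 = n14479 := d7_1 D19561 (iv D14479) (iv F25094)
theorem F36721 : act 2 n19561 = n15991 := d21_2 D14360 D19561 F27648 F25092 F25090 F19908 (iv F25090) (iv D14359)
def n19562 : Q := act 6 n14360
theorem D19562 : act 6 n14360 = n19562 := rfl
theorem F36722 : act 0 n19562 = n16004 := d5_1 D19562 (iv D16004) (iv F25093)
theorem F36723 : act 1 n19562 = n15061 := d10_1 D19562 (iv F26240) F26241 (iv D14480) (iv F25094)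
theorem F36724 : act 2 n19562 = n14361 := d14_1 D19562 (iv D14361) D14360
theorem F36725 : act 4 n19562 = n15282 := d19_1 D19562 F26598 (iv F25095)
theorem F36726 : act 5 n19562 = n16348 := d22_2 F25985 D19562 (iv F28308) F27666
def n19563 : Q := act 5 n14361
theorem D19563 : act 5 n14361 = n19563 := rfl
theorem F36727 : act 0 n19563 = n19544 := d4_1 D19563 (iv F36718) F36714
theorem F36728 : act 2 n19563 = n16348 := d13_1 D19563 (iv F36726) F36724
theorem F36729 : act 3 n19563 = n14367 := d16_1 D19563 (iv D14367) (iv F25096)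
theorem F36730 : act 4 n19563 = n16953 := d18_1 D19563 (iv F36703) F36702
theorem F36731 : act 6 n19563 = n19543 := d20_2 D14361 D19563 F36673 D19560 F36718 (iv D19544) F25057
def n19564 : Q := act 1 n14362
theorem D19564 : act 1 n14362 = n19564 := rfl
theorem F36732 : act 2 n19564 = n16018 := d6_2 (iv F35091) D19564 (iv D16018) (iv D12078) D12077
theorem F36733 : act 3 n19564 = n14368 := d7_2 (iv F25097) D19564 (iv D14368)
theorem F36734 : act 4 n19564 = n16630 := d8_2 (iv F35092) D19564 (iv D16630)
theorem F36735 : act 6 n16488 = n19564 := d19_0 F36734 F34832 (iv F28601)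
def n19565 : Q := act 5 n14362
theorem D19565 : act 5 n14362 = n19565 := rfl
theorem F36736 : act 0 n19565 = n14364 := d4_1 D19565 (iv D14364) D14362
theorem F36737 : act 2 n19565 = n16016 := d13_1 D19565 (iv D16016) (iv F35091)
theorem F36738 : act 3 n19565 = n14369 := d16_1 D19565 (iv D14369) (iv F25097)
theorem F36739 : act 4 n19565 = n16632 := d18_1 D19565 (iv D16632) (iv F35092)
theorem F36740 : act 6 n19565 = n19547 := d22_1 D19565 (iv D19547) F25064 D14362
def n19566 : Q := act 3 n14363
theorem D19566 : act 3 n14363 = n19566 := rfl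
theorem F36741 : act 0 n19566 = n15997 := d2_1 D19566 F27657 (iv F34705)
theorem F36742 : act 1 n19566 = n14489 := d7_1 D19566 (iv D14489) (iv F25098)
theorem F36743 : act 2 n19566 = n15997 := d21_2 D14363 D19566 F27657 (iv F35091) F25097 F19912 (iv F25097) (iv D14362)
def n19567 : Q := act 5 n14363
theorem D19567 : act 5 n14363 = n19567 := rfl
theorem F36744 : act 0 n19567 = n16016 := d4_1 D19567 (iv D16016) (iv F34705)
theorem F36745 : act 1 n19567 = n15035 := d9_1 D19567 (iv F26178) (iv F34712) (iv D14490) (iv F25098)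
theorem F36746 : act 2 n19567 = n14364 := d13_1 D19567 (iv D14364) D14363
theorem F36747 : act 4 n19567 = n15242 := d18_1 D19567 F26532 (iv F34706)
theorem F36748 : act 6 n19567 = n16245 := d22_1 D19567 (iv F28097) (iv D16017) (iv F34705)
def n19568 : Q := act 6 n14364
theorem D19568 : act 6 n14364 = n19568 := rfl
theorem F36749 : act 0 n19568 = n19547 := d5_1 D19568 (iv F36740) F36736
theorem F36750 : act 2 n19568 = n16245 := d14_1 D19568 (iv F36748) F36746
theorem F36751 : act 3 n19568 = n14370 := d17_1 D19568 (iv D14370) (iv F25099)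
theorem F36752 : act 4 n19568 = n16780 := d19_1 D19568 (iv F36709) F36708
theorem F36753 : act 5 n19568 = n19546 := d20_1 D19568 F36681 D19565 F36740 (iv D19547) F25064 D14364
def n19569 : Q := act 5 n14365
theorem D19569 : act 5 n14365 = n19569 := rfl
theorem F36754 : act 0 n19569 = n19559 := d4_1 D19569 (iv F36713) F29242
theorem F36755 : act 2 n19569 = n18297 := d13_1 D19569 F32034 (iv F29243)
theorem F36756 : act 3 n19569 = n16457 := d16_1 D19569 F36713 F36711
theorem F36757 : act 4 n19569 = n14439 := d18_1 D19569 (iv D14439) (iv F25100)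
def n19570 : Q := act 6 n14365
theorem D19570 : act 6 n14365 = n19570 := rfl
theorem F36758 : act 4 n19570 = n14440 := d19_1 D19570 (iv D14440) (iv F25100)
def n19571 : Q := act 1 n14366
theorem D19571 : act 1 n14366 = n19571 := rfl
theorem F36759 : act 4 n19571 = n14441 := d8_2 (iv F25103) D19571 (iv D14441)
def n19572 : Q := act 1 n14367
theorem D19572 : act 1 n14367 = n19572 := rfl
theorem F36760 : act 4 n19572 = n14442 := d8_2 (iv F25107) D19572 (iv D14442)
def n19573 : Q := act 5 n14368
theorem D19573 : act 5 n14368 = n19573 := rfl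
theorem F36761 : act 4 n19573 = n14445 := d18_1 D19573 (iv D14445) (iv F25109)
def n19574 : Q := act 6 n14368
theorem D19574 : act 6 n14368 = n19574 := rfl
theorem F36762 : act 0 n19574 = n19564 := d5_1 D19574 (iv F36735) F28599
theorem F36763 : act 2 n19574 = n18303 := d14_1 D19574 F34600 (iv F28598)
theorem F36764 : act 3 n19574 = n16488 := d17_1 D19574 F36735 F36733
theorem F36765 : act 4 n19574 = n14446 := d19_1 D19574 (iv D14446) (iv F25109)
def n19575 : Q := act 1 n14369
theorem D19575 : act 1 n14369 = n19575 := rfl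
theorem F36766 : act 4 n19575 = n14447 := d8_2 (iv F25112) D19575 (iv D14447)
def n19576 : Q := act 1 n14370
theorem D19576 : act 1 n14370 = n19576 := rfl
theorem F36767 : act 4 n19576 = n14448 := d8_2 (iv F25116) D19576 (iv D14448)
def n19577 : Q := act 2 n14373
theorem D19577 : act 2 n14373 = n19577 := rfl
theorem F36768 : act 0 n19577 = n14600 := d1_1 D19577 F29160 F29165
theorem F36769 : act 1 n19577 = n15148 := d6_1 D19577 (iv D15148) (iv D11606) (iv F19920) D14373
theorem F36770 : act 5 n19577 = n14382 := d13_2 (iv F25124) D19577 (iv D14382)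
theorem F36771 : act 3 n19577 = n19108 := d21_1 D19577 F35599 (iv F29162) F29160 (iv F29157) F24597 F29157 F29165
def n19578 : Q := act 2 n14374
theorem D19578 : act 2 n14374 = n19578 := rfl
theorem F36772 : act 0 n19578 = n14619 := d1_1 D19578 F34567 (iv F35180)
theorem F36773 : act 1 n19578 = n15150 := d6_1 D19578 (iv D15150) (iv D11607) (iv F19922) D14374
theorem F36774 : act 6 n19578 = n14385 := d14_2 (iv F25125) D19578 (iv D14385)
theorem F36775 : act 3 n19578 = n19178 := d21_1 D19578 F35751 (iv F34565) F34567 (iv F32101) F24704 F32101 (iv F35180)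
def n19579 : Q := act 3 n14375
theorem D19579 : act 3 n14375 = n19579 := rfl
theorem F36776 : act 0 n19579 = n19579 := d2_1 D19579 (iv D19579) F25126
theorem F36777 : act 1 n19579 = n14376 := d7_1 D19579 (iv D14376) D14375
theorem F36778 : act 5 n19579 = n19579 := d16_2 F28799 D19579 (iv D19579)
theorem F36779 : act 6 n19579 = n19579 := d17_2 F29720 D19579 (iv D19579)
theorem F36780 : act 2 n19579 = n19579 := d21_2 (iv F28735) D19579 (iv D19579) F28735 (iv D16555) F21797 D16555 F28734
def n19580 : Q := act 5 n14376
theorem D19580 : act 5 n14376 = n19580 := rfl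
theorem F36781 : act 0 n19580 = n14389 := d4_1 D19580 (iv D14389) (iv F25127)
theorem F36782 : act 1 n19580 = n19580 := d9_1 D19580 (iv D19580) (iv F36777) F36778 F36777
theorem F36783 : act 2 n19580 = n19525 := d13_1 D19580 (iv D19525) (iv F25128)
theorem F36784 : act 3 n19580 = n14377 := d16_1 D19580 (iv D14377) D14376
def n19581 : Q := act 6 n14376
theorem D19581 : act 6 n14376 = n19581 := rfl
theorem F36785 : act 0 n19581 = n14390 := d5_1 D19581 (iv D14390) (iv F25127)
theorem F36786 : act 1 n19581 = n19581 := d10_1 D19581 (iv D19581) (iv F36777) F36779 F36777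
theorem F36787 : act 2 n19581 = n19526 := d14_1 D19581 (iv D19526) (iv F25128)
theorem F36788 : act 3 n19581 = n14378 := d17_1 D19581 (iv D14378) D14376
def n19582 : Q := act 6 n14382
theorem D19582 : act 6 n14382 = n19582 := rfl
theorem F36789 : act 0 n19582 = n19121 := d5_1 D19582 (iv D19121) F29143
theorem F36790 : act 2 n19582 = n14383 := d14_1 D19582 (iv D14383) D14382
theorem F36791 : act 3 n19582 = n19109 := d17_1 D19582 (iv D19109) (iv F29142)
def n19583 : Q := act 5 n14385
theorem D19583 : act 5 n14385 = n19583 := rfl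
theorem F36792 : act 0 n19583 = n19189 := d4_1 D19583 (iv D19189) (iv F35174)
theorem F36793 : act 2 n19583 = n14386 := d13_1 D19583 (iv D14386) D14385
theorem F36794 : act 3 n19583 = n19177 := d16_1 D19583 (iv D19177) F35173
def n19584 : Q := act 5 n14387
theorem D19584 : act 5 n14387 = n19584 := rfl
theorem F36795 : act 0 n19584 = n19525 := d4_1 D19584 (iv D19525) (iv F25135)
theorem F36796 : act 1 n19584 = n16804 := d9_1 D19584 (iv D16804) D16801 (iv F29639) F28703
theorem F36797 : act 2 n19584 = n14389 := d13_1 D19584 (iv D14389) D14387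
theorem F36798 : act 3 n19584 = n18466 := d16_1 D19584 (iv D18466) (iv F25136)
theorem F36799 : act 4 n19584 = n18469 := d18_1 D19584 (iv D18469) F25137
def n19585 : Q := act 6 n14387
theorem D19585 : act 6 n14387 = n19585 := rfl
theorem F36800 : act 0 n19585 = n19526 := d5_1 D19585 (iv D19526) (iv F25135)
theorem F36801 : act 1 n19585 = n16990 := d10_1 D19585 (iv D16990) D16986 (iv F35080) F28703
theorem F36802 : act 2 n19585 = n14390 := d14_1 D19585 (iv D14390) D14387
theorem F36803 : act 3 n19585 = n18467 := d17_1 D19585 (iv D18467) (iv F25136)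
theorem F36804 : act 4 n19585 = n18470 := d19_1 D19585 (iv D18470) F25137
def n19586 : Q := act 5 n14388
theorem D19586 : act 5 n14388 = n19586 := rfl
theorem F36805 : act 2 n19586 = n18469 := d13_1 D19586 (iv D18469) (iv F25139)
theorem F36806 : act 3 n19586 = n16801 := d16_1 D19586 (iv F29639) F28705
theorem F36807 : act 4 n19586 = n14389 := d18_1 D19586 (iv D14389) D14388
theorem F36808 : act 1 n16802 = n19586 := d8_3 F36807 F29176 F29641
def n19587 : Q := act 6 n14388
theorem D19587 : act 6 n14388 = n19587 := rfl
theorem F36809 : act 2 n19587 = n18470 := d14_1 D19587 (iv D18470) (iv F25139)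
theorem F36810 : act 3 n19587 = n16986 := d17_1 D19587 (iv F35080) F28705
theorem F36811 : act 4 n19587 = n14390 := d19_1 D19587 (iv D14390) D14388
theorem F36812 : act 1 n16987 = n19587 := d8_3 F36811 F34820 F29915
def n19588 : Q := act 6 n14389
theorem D19588 : act 6 n14389 = n19588 := rfl
theorem F36813 : act 3 n19588 = n14394 := d17_1 D19588 (iv D14394) (iv F25140)
theorem F36814 : act 5 n19588 = n19581 := d22_2 D14389 D19588 (iv D19581) F25127
def n19589 : Q := act 5 n14390
theorem D19589 : act 5 n14390 = n19589 := rfl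
theorem F36815 : act 0 n19589 = n19588 := d4_1 D19589 F36814 F36785
theorem F36816 : act 3 n19589 = n14396 := d16_1 D19589 (iv D14396) (iv F25141)
theorem F36817 : act 6 n19589 = n19580 := d20_2 D14390 D19589 (iv D19580) D19581 (iv F36814) (iv D19588) (iv D14389)
def n19590 : Q := act 6 n14391
theorem D19590 : act 6 n14391 = n19590 := rfl
theorem F36818 : act 2 n19590 = n14398 := d14_1 D19590 (iv D14398) (iv F25142)
theorem F36819 : act 3 n19590 = n16567 := d17_1 D19590 F28763 F28708
theorem F36820 : act 4 n19590 = n14394 := d19_1 D19590 (iv D14394) (iv F25143)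
theorem F36821 : act 5 n19590 = n16560 := d22_2 D14391 D19590 (iv D16560) F21798
def n19591 : Q := act 5 n14392
theorem D19591 : act 5 n14392 = n19591 := rfl
theorem F36822 : act 0 n19591 = n19590 := d4_1 D19591 F36821 F28749
theorem F36823 : act 2 n19591 = n14400 := d13_1 D19591 (iv D14400) (iv F25144)
theorem F36824 : act 3 n19591 = n16565 := d16_1 D19591 F28760 F28711
theorem F36825 : act 4 n19591 = n14396 := d18_1 D19591 (iv D14396) (iv F25145)
theorem F36826 : act 6 n19591 = n16559 := d20_2 D14392 D19591 (iv D16559) D16560 (iv F36821) (iv D19590) (iv D14391)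
def n19592 : Q := act 1 n14394
theorem D19592 : act 1 n14394 = n19592 := rfl
theorem F36827 : act 5 n19592 = n19592 := d9_2 (iv F25148) D19592 (iv D19592) F25148 F29721
def n19593 : Q := act 1 n14396
theorem D19593 : act 1 n14396 = n19593 := rfl
theorem F36828 : act 6 n19593 = n19593 := d10_2 (iv F25152) D19593 (iv D19593) F25152 F28800
def n19594 : Q := act 6 n14397
theorem D19594 : act 6 n14397 = n19594 := rfl
theorem F36829 : act 3 n19594 = n15153 := d17_1 D19594 (iv D15153) (iv F25153)
theorem F36830 : act 4 n19594 = n14403 := d19_1 D19594 (iv D14403) (iv F25154)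
def n19595 : Q := act 1 n14398
theorem D19595 : act 1 n14398 = n19595 := rfl
theorem F36831 : act 3 n19595 = n15154 := d7_2 (iv F25156) D19595 (iv D15154)
theorem F36832 : act 4 n19595 = n14404 := d8_2 (iv F25157) D19595 (iv D14404)
def n19596 : Q := act 5 n14399
theorem D19596 : act 5 n14399 = n19596 := rfl
theorem F36833 : act 3 n19596 = n15157 := d16_1 D19596 (iv D15157) (iv F25159)
theorem F36834 : act 4 n19596 = n14407 := d18_1 D19596 (iv D14407) (iv F25160)
def n19597 : Q := act 1 n14400
theorem D19597 : act 1 n14400 = n19597 := rfl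
theorem F36835 : act 3 n19597 = n15158 := d7_2 (iv F25163) D19597 (iv D15158)
theorem F36836 : act 4 n19597 = n14408 := d8_2 (iv F25164) D19597 (iv D14408)
def n19598 : Q := act 1 n14403
theorem D19598 : act 1 n14403 = n19598 := rfl
theorem F36837 : act 3 n19598 = n14410 := d7_2 (iv F25169) D19598 (iv D14410)
theorem F36838 : act 6 n19598 = n14404 := d10_2 D14403 D19598 (iv D14404) (iv D11237) D11236
def n19599 : Q := act 0 n14404
theorem D19599 : act 0 n14404 = n19599 := rfl
theorem F36839 : act 3 n19599 = n14411 := d2_2 (iv F25170) D19599 (iv D14411)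
def n19600 : Q := act 2 n14404
theorem D19600 : act 2 n14404 = n19600 := rfl
def n19601 : Q := act 5 n14404
theorem D19601 : act 5 n14404 = n19601 := rfl
theorem F36840 : act 1 n19601 = n19389 := d9_1 D19601 (iv D19389) F34865 (iv F19940) D14404
theorem F36841 : act 3 n19601 = n14413 := d16_1 D19601 (iv D14413) (iv F25170)
def n19602 : Q := act 1 n14407
theorem D19602 : act 1 n14407 = n19602 := rfl
theorem F36842 : act 3 n19602 = n14415 := d7_2 (iv F25174) D19602 (iv D14415)
theorem F36843 : act 5 n19602 = n14408 := d9_2 D14407 D19602 (iv D14408) (iv D11239) D11238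
def n19603 : Q := act 0 n14408
theorem D19603 : act 0 n14408 = n19603 := rfl
theorem F36844 : act 3 n19603 = n14416 := d2_2 (iv F25175) D19603 (iv D14416)
def n19604 : Q := act 2 n14408
theorem D19604 : act 2 n14408 = n19604 := rfl
def n19605 : Q := act 6 n14408
theorem D19605 : act 6 n14408 = n19605 := rfl
theorem F36845 : act 1 n19605 = n19349 := d10_1 D19605 (iv D19349) F29140 (iv F19945) D14408
theorem F36846 : act 3 n19605 = n14418 := d17_1 D19605 (iv D14418) (iv F25175)
def n19606 : Q := act 0 n14410
theorem D19606 : act 0 n14410 = n19606 := rfl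
theorem F36847 : act 6 n19606 = n14411 := d5_2 (iv F25176) D19606 (iv D14411)
def n19607 : Q := act 2 n14410
theorem D19607 : act 2 n14410 = n19607 := rfl
theorem F36848 : act 1 n19607 = n19607 := d6_1 D19607 (iv D19607) (iv D14410) F19948 D14410
theorem F36849 : act 6 n19607 = n14412 := d14_2 (iv F25176) D19607 (iv D14412)
def n19608 : Q := act 5 n14410
theorem D19608 : act 5 n14410 = n19608 := rfl
def n19609 : Q := act 1 n14411
theorem D19609 : act 1 n14411 = n19609 := rfl
def n19610 : Q := act 2 n14411
theorem D19610 : act 2 n14411 = n19610 := rfl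
theorem F36850 : act 0 n19610 = n14412 := d1_1 D19610 (iv D14412) D14411
def n19611 : Q := act 5 n14411
theorem D19611 : act 5 n14411 = n19611 := rfl
theorem F36851 : act 0 n19611 = n14413 := d4_1 D19611 (iv D14413) D14411
theorem F36852 : act 6 n19611 = n19608 := d22_1 D19611 (iv D19608) F25176 D14411
theorem F36853 : act 1 n14630 = n19611 := d24_14 F36852 (iv D19608) (iv D14410) (iv D11241) F13229 (iv D4268) (iv F3355) (iv D2111) D2110 (iv F6691) D9070 D11348 D14627 (iv F25534)
theorem F36854 : act 5 n19609 = n14787 := d9_4 (iv F25534) F36853 (iv D19611) D19609 F25731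
theorem F36855 : act 6 n15291 = n19609 := d22_1 (iv F26630) F36854 (iv D14787) D14785
theorem F36856 : act 1 n19606 = n15296 := d10_3 F36855 (iv D19609) (iv F36847) (iv D15296) (iv F26629)
theorem F36857 : act 2 n19609 = n15292 := d14_1 F36855 (iv D15292) D15291
def n19612 : Q := act 3 n14412
theorem D19612 : act 3 n14412 = n19612 := rfl
def n19613 : Q := act 5 n14412
theorem D19613 : act 5 n14412 = n19613 := rfl
theorem F36858 : act 2 n19613 = n14413 := d13_1 D19613 (iv D14413) D14412
def n19614 : Q := act 6 n14413
theorem D19614 : act 6 n14413 = n19614 := rfl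
theorem F36859 : act 0 n19614 = n19608 := d5_1 D19614 (iv F36852) F36851
theorem F36860 : act 5 n19614 = n19606 := d20_1 D19614 F36847 D19611 F36852 (iv D19608) F25176 D14413
def n19615 : Q := act 0 n14415
theorem D19615 : act 0 n14415 = n19615 := rfl
theorem F36861 : act 5 n19615 = n14416 := d4_2 (iv F25178) D19615 (iv D14416)
def n19616 : Q := act 2 n14415
theorem D19616 : act 2 n14415 = n19616 := rfl
theorem F36862 : act 1 n19616 = n19616 := d6_1 D19616 (iv D19616) (iv D14415) F19951 D14415
theorem F36863 : act 5 n19616 = n14417 := d13_2 (iv F25178) D19616 (iv D14417)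
def n19617 : Q := act 6 n14415
theorem D19617 : act 6 n14415 = n19617 := rfl
def n19618 : Q := act 1 n14416
theorem D19618 : act 1 n14416 = n19618 := rfl
def n19619 : Q := act 2 n14416
theorem D19619 : act 2 n14416 = n19619 := rfl
theorem F36864 : act 0 n19619 = n14417 := d1_1 D19619 (iv D14417) D14416
def n19620 : Q := act 6 n14416
theorem D19620 : act 6 n14416 = n19620 := rfl
theorem F36865 : act 0 n19620 = n14418 := d5_1 D19620 (iv D14418) D14416
theorem F36866 : act 5 n19620 = n19617 := d22_2 F36861 D19620 (iv D19617) D19615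
theorem F36867 : act 1 n19620 = n14611 := d24_2 D19617 (iv F36866) F25517 (iv D14608) (iv D11340) (iv D9066) F6688 (iv D2108) D2109 F3352 D4269 (iv F13231) D11244 D14415
theorem F36868 : act 6 n14738 = n19618 := d10_4 D19620 F36867 F25517 (iv F25685) (iv D19618)
theorem F36869 : act 5 n19618 = n15252 := d24_1 F36868 F26554 (iv F26535) (iv F35319) (iv D14472) (iv D11271) (iv D8928) (iv F16031) D4377 (iv F6690) D9067 (iv F20129) D14608 (iv F25685)
theorem F36870 : act 0 n14726 = n15252 := d22_4 (iv F36869) (iv F36868) (iv D14738) (iv F25675)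
theorem F36871 : act 1 n15255 = n14806 := d0_4 D14726 F36870 F26554 (iv F26560) F35191 (iv D14059) (iv F19626) D14165 F34906
theorem F36872 : act 2 n15251 = n14726 := d1_0 F36870 (iv D15252) D15251
theorem F36873 : act 6 n15252 = n14736 := d5_2 (iv F25675) F36870 (iv D14736)
theorem F36874 : act 1 n14736 = n16780 := d10_1 F36873 (iv F36709) F36705 F26535 (iv F26554)
theorem F36875 : act 2 n14736 = n15248 := d14_1 F36873 F26549 D15252
theorem F36876 : act 0 n15248 = n14737 := d1_1 F36875 (iv D14737) D14736
theorem F36877 : act 6 n14737 = n15251 := d5_2 (iv F26549) F36876 (iv D15251)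
theorem E10214 : n16760 = n14810 := ((c10_6 F29569 F36871 (iv D14806) (iv D11426) D11428 D14810)).symm
theorem F36878 : act 0 n14810 = n15243 := (sb E10214 F29567)
theorem F36879 : act 2 n14810 = n12484 := (sb E10214 F29568)
theorem F36880 : act 5 n14810 = n12483 := (sb E10214 (iv D16760))
theorem F36881 : act 6 n14810 = n15255 := (sb E10214 F29569)
theorem F36882 : act 5 n16758 = n14799 := d9_2 F36880 D16758 (iv D14799) (iv F20221) D14810
theorem F36883 : act 2 n14799 = n16763 := d13_1 F36882 (iv D16763) (iv F29566)
theorem F36884 : act 6 n16763 = n14801 := d14_2 (iv F25745) F36883 (iv D14801)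
theorem F36885 : act 3 n19219 = n16763 := d17_3 F36884 F36332 (iv F35828)
theorem F36886 : act 5 n16762 = n19219 := d16_0 F36885 (iv D16763) D16762
theorem F36887 : act 2 n19220 = n16762 := d13_3 F36886 (iv D19219) D19220
theorem F36888 : act 1 n15258 = n19615 := d9_3 F36869 F26554 D15258 F36861 D19618
theorem F36889 : act 2 n15253 = n19618 := d13_3 F36869 (iv D15252) D15253
def n19621 : Q := act 3 n14417
theorem D19621 : act 3 n14417 = n19621 := rfl
def n19622 : Q := act 6 n14417
theorem D19622 : act 6 n14417 = n19622 := rfl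
theorem F36890 : act 2 n19622 = n14418 := d14_1 D19622 (iv D14418) D14417
def n19623 : Q := act 5 n14418
theorem D19623 : act 5 n14418 = n19623 := rfl
theorem F36891 : act 0 n19623 = n19617 := d4_1 D19623 (iv F36866) F36865
theorem F36892 : act 6 n19623 = n19615 := d20_2 D14418 D19623 F36861 D19620 F36866 (iv D19617) F25178
def n19624 : Q := act 1 n14419
theorem D19624 : act 1 n14419 = n19624 := rfl
theorem F36893 : act 0 n19624 = n19356 := d0_1 D19624 (iv D19356) F24608 F28972 (iv D11360) (iv D9081) (iv F13234) D11246 D14419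
theorem F36894 : act 3 n19624 = n16614 := d7_2 (iv F25180) D19624 (iv D16614)
theorem F36895 : act 4 n19624 = n14425 := d8_2 (iv F25181) D19624 (iv D14425)
theorem F36896 : act 5 n19624 = n17149 := d9_2 F36160 D19624 (iv F34901) F34905 (iv F36159)
theorem F36897 : act 2 n14425 = n19624 := d13_3 F36896 (iv F36173) F36176
def n19625 : Q := act 2 n14419
theorem D19625 : act 2 n14419 = n19625 := rfl
theorem F36898 : act 0 n19625 = n14420 := d1_1 D19625 (iv D14420) D14419
theorem F36899 : act 1 n19625 = n14426 := d6_1 D19625 (iv D14426) D14425 F36897 (iv D19624)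
theorem F36900 : act 4 n19625 = n14426 := d12_2 (iv F25181) D19625 (iv D14426)
def n19626 : Q := act 6 n14419
theorem D19626 : act 6 n14419 = n19626 := rfl
theorem F36901 : act 0 n19626 = n14421 := d5_1 D19626 (iv D14421) D14419
theorem F36902 : act 3 n19626 = n16615 := d17_1 D19626 (iv D16615) (iv F25180)
theorem F36903 : act 4 n19626 = n14427 := d19_1 D19626 (iv D14427) (iv F25181)
theorem F36904 : act 5 n19626 = n19594 := d22_2 F36160 D19626 (iv D19594) (iv F36158)
def n19627 : Q := act 6 n14420
theorem D19627 : act 6 n14420 = n19627 := rfl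
theorem F36905 : act 2 n19627 = n14421 := d14_1 D19627 (iv D14421) D14420
theorem F36906 : act 4 n19627 = n14429 := d19_1 D19627 (iv D14429) (iv F25183)
def n19628 : Q := act 5 n14421
theorem D19628 : act 5 n14421 = n19628 := rfl
theorem F36907 : act 0 n19628 = n19594 := d4_1 D19628 (iv F36904) F36901
theorem F36908 : act 3 n19628 = n16953 := d16_1 D19628 (iv F36703) F36701
theorem F36909 : act 4 n19628 = n14430 := d18_1 D19628 (iv D14430) (iv F25184)
theorem F36910 : act 6 n19628 = n19352 := d20_2 D14421 D19628 F36160 D19626 F36904 (iv D19594) F25155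
def n19629 : Q := act 1 n14422
theorem D19629 : act 1 n14422 = n19629 := rfl
theorem F36911 : act 0 n19629 = n19396 := d0_1 D19629 (iv D19396) F24717 F34495 (iv D11364) (iv D9083) (iv F13237) D11247 D14422
theorem F36912 : act 3 n19629 = n16630 := d7_2 (iv F35090) D19629 (iv D16630)
theorem F36913 : act 4 n19629 = n14431 := d8_2 (iv F25185) D19629 (iv D14431)
theorem F36914 : act 6 n19629 = n17229 := d10_2 F36278 D19629 F30229 F35188 (iv F36277)
theorem F36915 : act 2 n14431 = n19629 := d14_3 F36914 (iv F36286) F36290
def n19630 : Q := act 2 n14422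
theorem D19630 : act 2 n14422 = n19630 := rfl
theorem F36916 : act 0 n19630 = n14423 := d1_1 D19630 (iv D14423) D14422
theorem F36917 : act 1 n19630 = n14432 := d6_1 D19630 (iv D14432) D14431 F36915 (iv D19629)
theorem F36918 : act 4 n19630 = n14432 := d12_2 (iv F25185) D19630 (iv D14432)
def n19631 : Q := act 5 n14422
theorem D19631 : act 5 n14422 = n19631 := rfl
theorem F36919 : act 0 n19631 = n14424 := d4_1 D19631 (iv D14424) D14422
theorem F36920 : act 3 n19631 = n16632 := d16_1 D19631 (iv D16632) (iv F35090)
theorem F36921 : act 4 n19631 = n14433 := d18_1 D19631 (iv D14433) (iv F25185)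
theorem F36922 : act 6 n19631 = n19596 := d22_1 D19631 (iv D19596) F25161 D14422
def n19632 : Q := act 5 n14423
theorem D19632 : act 5 n14423 = n19632 := rfl
theorem F36923 : act 2 n19632 = n14424 := d13_1 D19632 (iv D14424) D14423
theorem F36924 : act 4 n19632 = n14435 := d18_1 D19632 (iv D14435) (iv F25187)
def n19633 : Q := act 6 n14424
theorem D19633 : act 6 n14424 = n19633 := rfl
theorem F36925 : act 0 n19633 = n19596 := d5_1 D19633 (iv F36922) F36919
theorem F36926 : act 3 n19633 = n16780 := d17_1 D19633 (iv F36709) F36707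
theorem F36927 : act 4 n19633 = n14436 := d19_1 D19633 (iv D14436) (iv F25188)
theorem F36928 : act 5 n19633 = n19392 := d20_1 D19633 F36278 D19631 F36922 (iv D19596) F25161 D14424
def n19634 : Q := act 6 n14426
theorem D19634 : act 6 n14426 = n19634 := rfl
theorem F36929 : act 0 n19634 = n14429 := d5_1 D19634 (iv D14429) (iv F25190)
theorem F36930 : act 2 n19634 = n14427 := d14_1 D19634 (iv D14427) D14426
theorem F36931 : act 3 n19634 = n19428 := d17_1 D19634 F36372 (iv F36362)
theorem F36932 : act 5 n19634 = n15886 := d22_2 (iv F29137) D19634 (iv D15886) D15883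
def n19635 : Q := act 1 n14427
theorem D19635 : act 1 n14427 = n19635 := rfl
theorem F36933 : act 3 n19635 = n14441 := d7_2 (iv F25192) D19635 (iv D14441)
def n19636 : Q := act 1 n14429
theorem D19636 : act 1 n14429 = n19636 := rfl
theorem F36934 : act 6 n19636 = n18536 := d10_2 D14429 D19636 (iv D18536) (iv D13529) (iv F19955)
theorem F36935 : act 0 n19501 = n19636 := d5_3 F36934 (iv F36417) (iv F36549)
def n19637 : Q := act 5 n14429
theorem D19637 : act 5 n14429 = n19637 := rfl
theorem F36936 : act 0 n19637 = n15886 := d4_1 D19637 (iv F36932) F36929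
theorem F36937 : act 2 n19637 = n14430 := d13_1 D19637 (iv D14430) (iv F25195)
theorem F36938 : act 3 n19637 = n19425 := d16_1 D19637 (iv F36367) F36365
theorem F36939 : act 6 n19637 = n15883 := d20_2 D14429 D19637 (iv F29137) D19634 F36932 (iv D15886) F29115
def n19638 : Q := act 1 n14430
theorem D19638 : act 1 n14430 = n19638 := rfl
theorem F36940 : act 3 n19638 = n14442 := d7_2 (iv F25197) D19638 (iv D14442)
theorem F36941 : act 6 n19638 = n19357 := d10_2 F29136 D19638 (iv D19357) (iv D14095) D14091
def n19639 : Q := act 5 n14432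
theorem D19639 : act 5 n14432 = n19639 := rfl
theorem F36942 : act 0 n19639 = n14435 := d4_1 D19639 (iv D14435) (iv F25200)
theorem F36943 : act 2 n19639 = n14433 := d13_1 D19639 (iv D14433) D14432
theorem F36944 : act 3 n19639 = n19484 := d16_1 D19639 F36481 (iv F36471)
theorem F36945 : act 6 n19639 = n15920 := d22_1 D19639 (iv D15920) (iv F35087) (iv F25200)
def n19640 : Q := act 1 n14433
theorem D19640 : act 1 n14433 = n19640 := rfl
theorem F36946 : act 3 n19640 = n14447 := d7_2 (iv F25202) D19640 (iv D14447)
def n19641 : Q := act 1 n14435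
theorem D19641 : act 1 n14435 = n19641 := rfl
theorem F36947 : act 5 n19641 = n18549 := d9_2 D14435 D19641 (iv D18549) (iv D13539) (iv F19958)
theorem F36948 : act 0 n19451 = n19641 := d4_3 F36947 F36485 (iv F36411)
def n19642 : Q := act 6 n14435
theorem D19642 : act 6 n14435 = n19642 := rfl
theorem F36949 : act 0 n19642 = n15920 := d5_1 D19642 (iv F36945) F36942
theorem F36950 : act 2 n19642 = n14436 := d14_1 D19642 (iv D14436) (iv F25205)
theorem F36951 : act 3 n19642 = n19481 := d17_1 D19642 (iv F36476) F36474
theorem F36952 : act 5 n19642 = n15918 := d20_1 D19642 F35093 D19639 F36945 (iv D15920) (iv F35087) D14435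
def n19643 : Q := act 1 n14436
theorem D19643 : act 1 n14436 = n19643 := rfl
theorem F36953 : act 3 n19643 = n14448 := d7_2 (iv F25207) D19643 (iv D14448)
theorem F36954 : act 5 n19643 = n19395 := d9_2 F34869 D19643 (iv D19395) (iv D14151) D14148
def n19644 : Q := act 6 n14439
theorem D19644 : act 6 n14439 = n19644 := rfl
theorem F36955 : act 1 n19644 = n18654 := d10_1 D19644 F33377 (iv F36179) F36182 F29404
theorem F36956 : act 2 n19644 = n17151 := d14_1 D19644 F30123 F29348
theorem F36957 : act 3 n19644 = n19401 := d17_1 D19644 F36302 F36174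
theorem F36958 : act 5 n19644 = n17150 := d22_2 D14439 D19644 (iv D17150) F28917
def n19645 : Q := act 1 n14440
theorem D19645 : act 1 n14440 = n19645 := rfl
theorem F36959 : act 6 n19645 = n14441 := d10_2 D14440 D19645 (iv D14441) (iv D11255) D11254
def n19646 : Q := act 5 n14440
theorem D19646 : act 5 n14440 = n19646 := rfl
theorem F36960 : act 0 n19646 = n19644 := d4_1 D19646 F36958 F30120
theorem F36961 : act 2 n19646 = n16618 := d13_1 D19646 (iv F30117) F30116
theorem F36962 : act 6 n19646 = n16614 := d20_2 D14440 D19646 F29344 D17150 (iv F36958) (iv D19644) (iv D14439)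
def n19647 : Q := act 0 n14441
theorem D19647 : act 0 n14441 = n19647 := rfl
theorem F36963 : act 1 n19647 = n16632 := d0_2 D14441 D19647 (iv F36704) F36705 (iv F36878) (iv D14810) F20220 F13633 (iv F19960)
def n19648 : Q := act 2 n14441
theorem D19648 : act 2 n14441 = n19648 := rfl
theorem F36964 : act 1 n19648 = n19648 := d6_1 D19648 (iv D19648) (iv D14441) F19961 D14441
def n19649 : Q := act 5 n14441
theorem D19649 : act 5 n14441 = n19649 := rfl
theorem F36965 : act 1 n19649 = n19608 := d9_1 D19649 (iv D19608) (iv D14410) (iv F19962) D14441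
theorem F36966 : act 6 n14628 = n19649 := d10_0 F36965 (iv F36852) (iv F36853) (iv D14630) D14628
def n19650 : Q := act 0 n14442
theorem D19650 : act 0 n14442 = n19650 := rfl
def n19651 : Q := act 2 n14442
theorem D19651 : act 2 n14442 = n19651 := rfl
theorem F36967 : act 1 n19651 = n19651 := d6_1 D19651 (iv D19651) (iv D14442) F19964 D14442
def n19652 : Q := act 6 n14442
theorem D19652 : act 6 n14442 = n19652 := rfl
theorem F36968 : act 1 n19652 = n19354 := d10_1 D19652 (iv D19354) F29138 (iv F19965) D14442
theorem F36969 : act 3 n19652 = n19357 := d17_1 D19652 (iv F36941) F36940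
def n19653 : Q := act 1 n14445
theorem D19653 : act 1 n14445 = n19653 := rfl
theorem F36970 : act 5 n19653 = n14447 := d9_2 D14445 D19653 (iv D14447) (iv D11258) D11257
def n19654 : Q := act 6 n14445
theorem D19654 : act 6 n14445 = n19654 := rfl
theorem F36971 : act 2 n19654 = n16636 := d14_1 D19654 F34848 F30225
theorem F36972 : act 5 n19654 = n16630 := d22_2 D14445 D19654 F34832 F26622
def n19655 : Q := act 5 n14446
theorem D19655 : act 5 n14446 = n19655 := rfl
theorem F36973 : act 0 n19655 = n19654 := d4_1 D19655 F36972 F34831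
theorem F36974 : act 1 n19655 = n18636 := d9_1 D19655 F33344 D19364 (iv F36196) (iv F34830)
theorem F36975 : act 2 n19655 = n17232 := d13_1 D19655 (iv F34837) F34834
theorem F36976 : act 3 n19655 = n19365 := d16_1 D19655 (iv F36289) F36287
theorem F36977 : act 6 n19655 = n17230 := d20_2 D14446 D19655 (iv D17230) (iv F34832) (iv F36972) (iv D19654) (iv D14445)
def n19656 : Q := act 0 n14447
theorem D19656 : act 0 n14447 = n19656 := rfl
theorem F36978 : act 1 n19656 = n16615 := d0_2 D14447 D19656 (iv F36698) F36699 F26600 (iv D14761) F20201 F13623 (iv F19966)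
def n19657 : Q := act 2 n14447
theorem D19657 : act 2 n14447 = n19657 := rfl
theorem F36979 : act 1 n19657 = n19657 := d6_1 D19657 (iv D19657) (iv D14447) F19967 D14447
def n19658 : Q := act 6 n14447
theorem D19658 : act 6 n14447 = n19658 := rfl
theorem F36980 : act 1 n19658 = n19617 := d10_1 D19658 (iv D19617) (iv D14415) (iv F19968) D14447
theorem F36981 : act 5 n14609 = n19658 := d9_0 F36980 (iv F36866) F36867 (iv D14611) D14609
def n19659 : Q := act 0 n14448
theorem D19659 : act 0 n14448 = n19659 := rfl
def n19660 : Q := act 2 n14448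
theorem D19660 : act 2 n14448 = n19660 := rfl
theorem F36982 : act 1 n19660 = n19660 := d6_1 D19660 (iv D19660) (iv D14448) F19970 D14448
def n19661 : Q := act 5 n14448
theorem D19661 : act 5 n14448 = n19661 := rfl
theorem F36983 : act 1 n19661 = n19394 := d9_1 D19661 (iv D19394) F34863 (iv F19971) D14448
theorem F36984 : act 3 n19661 = n19395 := d16_1 D19661 (iv F36954) F36953
def n19662 : Q := act 3 n14450
theorem D19662 : act 3 n14450 = n19662 := rfl
theorem F36985 : act 0 n19662 = n16050 := d2_1 D19662 F27757 (iv F25217)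
theorem F36986 : act 1 n19662 = n14941 := d7_1 D19662 (iv D14941) (iv F25218)
theorem F36987 : act 5 n19662 = n14479 := d16_2 (iv F25220) D19662 (iv D14479)
def n19663 : Q := act 3 n14453
theorem D19663 : act 3 n14453 = n19663 := rfl
theorem F36988 : act 0 n19663 = n16068 := d2_1 D19663 F27779 (iv F34715)
theorem F36989 : act 1 n19663 = n14946 := d7_1 D19663 (iv D14946) (iv F25226)
theorem F36990 : act 6 n19663 = n14489 := d17_2 (iv F25228) D19663 (iv D14489)
def n19664 : Q := act 6 n14455
theorem D19664 : act 6 n14455 = n19664 := rfl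
theorem F36991 : act 2 n19664 = n19251 := d14_1 D19664 (iv D19251) F29011
theorem F36992 : act 3 n19664 = n18665 := d17_1 D19664 (iv D18665) (iv F29010)
theorem F36993 : act 4 n19664 = n14599 := d19_1 D19664 (iv D14599) (iv F25231)
theorem F36994 : act 5 n19664 = n19251 := d22_2 F29009 D19664 (iv D19251) (iv F24627)
def n19665 : Q := act 1 n14456
theorem D19665 : act 1 n14456 = n19665 := rfl
theorem F36995 : act 2 n19665 = n19246 := d6_2 D14456 D19665 F35889 F29011 (iv D14455)
theorem F36996 : act 4 n19665 = n14600 := d8_2 (iv F25233) D19665 (iv D14600)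
theorem F36997 : act 5 n19665 = n19120 := d9_2 (iv F25234) D19665 F35623 F28911 (iv D14500)
def n19666 : Q := act 3 n14456
theorem D19666 : act 3 n14456 = n19666 := rfl
theorem F36998 : act 0 n19666 = n14457 := d2_1 D19666 (iv D14457) (iv F25232)
theorem F36999 : act 5 n19666 = n14501 := d16_2 (iv F25234) D19666 (iv D14501)
def n19667 : Q := act 2 n14457
theorem D19667 : act 2 n14457 = n19667 := rfl
theorem F37000 : act 5 n19667 = n14504 := d13_2 (iv F25236) D19667 (iv D14504)
def n19668 : Q := act 4 n14457
theorem D19668 : act 4 n14457 = n19668 := rfl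
theorem F37001 : act 1 n19668 = n14979 := d8_1 D19668 (iv D14979) (iv F25235)
theorem F37002 : act 3 n19668 = n14603 := d15_1 D19668 (iv D14603) (iv D11338) (iv F19981) D14457
theorem F37003 : act 5 n19668 = n14505 := d18_2 (iv F25236) D19668 (iv D14505)
def n19669 : Q := act 6 n14457
theorem D19669 : act 6 n14457 = n19669 := rfl
theorem F37004 : act 3 n19669 = n14458 := d17_1 D19669 (iv D14458) D14457
def n19670 : Q := act 1 n14458
theorem D19670 : act 1 n14458 = n19670 := rfl
theorem F37005 : act 4 n19670 = n14605 := d8_2 (iv F25238) D19670 (iv D14605)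
theorem F37006 : act 6 n19670 = n14981 := d10_2 D14458 D19670 (iv D14981) (iv D11524) (iv F19980)
def n19671 : Q := act 0 n14459
theorem D19671 : act 0 n14459 = n19671 := rfl
theorem F37007 : act 4 n19671 = n14606 := d3_2 (iv F25239) D19671 (iv D14606)
theorem F37008 : act 6 n19671 = n14460 := d5_2 (iv F25240) D19671 (iv D14460)
def n19672 : Q := act 2 n14459
theorem D19672 : act 2 n14459 = n19672 := rfl
theorem F37009 : act 4 n19672 = n14607 := d12_2 (iv F25239) D19672 (iv D14607)
theorem F37010 : act 6 n19672 = n14461 := d14_2 (iv F25240) D19672 (iv D14461)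
def n19673 : Q := act 5 n14459
theorem D19673 : act 5 n14459 = n19673 := rfl
theorem F37011 : act 4 n19673 = n14608 := d18_1 D19673 (iv D14608) (iv F25239)
def n19674 : Q := act 1 n14460
theorem D19674 : act 1 n14460 = n19674 := rfl
theorem F37012 : act 4 n19674 = n14609 := d8_2 (iv F25241) D19674 (iv D14609)
def n19675 : Q := act 2 n14460
theorem D19675 : act 2 n14460 = n19675 := rfl
theorem F37013 : act 0 n19675 = n14461 := d1_1 D19675 (iv D14461) D14460
theorem F37014 : act 4 n19675 = n14610 := d12_2 (iv F25241) D19675 (iv D14610)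
def n19676 : Q := act 5 n14460
theorem D19676 : act 5 n14460 = n19676 := rfl
theorem F37015 : act 0 n19676 = n14462 := d4_1 D19676 (iv D14462) D14460
theorem F37016 : act 4 n19676 = n14611 := d18_1 D19676 (iv D14611) (iv F25241)
theorem F37017 : act 6 n19676 = n19673 := d22_1 D19676 (iv D19673) F25240 D14460
def n19677 : Q := act 3 n14461
theorem D19677 : act 3 n14461 = n19677 := rfl
theorem F37018 : act 1 n19677 = n14988 := d7_1 D19677 (iv D14988) (iv F25242)
def n19678 : Q := act 5 n14461
theorem D19678 : act 5 n14461 = n19678 := rfl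
theorem F37019 : act 2 n19678 = n14462 := d13_1 D19678 (iv D14462) D14461
theorem F37020 : act 4 n19678 = n14613 := d18_1 D19678 (iv D14613) (iv F25243)
def n19679 : Q := act 6 n14462
theorem D19679 : act 6 n14462 = n19679 := rfl
theorem F37021 : act 0 n19679 = n19673 := d5_1 D19679 (iv F37017) F37015
theorem F37022 : act 4 n19679 = n14614 := d19_1 D19679 (iv D14614) (iv F25245)
theorem F37023 : act 5 n19679 = n19671 := d20_1 D19679 F37008 D19676 F37017 (iv D19673) F25240 D14462
def n19680 : Q := act 5 n14463
theorem D19680 : act 5 n14463 = n19680 := rfl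
theorem F37024 : act 2 n19680 = n19308 := d13_1 D19680 (iv D19308) (iv F34542)
theorem F37025 : act 3 n19680 = n18690 := d16_1 D19680 (iv D18690) (iv F34543)
theorem F37026 : act 4 n19680 = n14617 := d18_1 D19680 (iv D14617) (iv F25246)
theorem F37027 : act 6 n19680 = n19308 := d22_1 D19680 (iv D19308) (iv F33373) (iv F34541)
def n19681 : Q := act 1 n14464
theorem D19681 : act 1 n14464 = n19681 := rfl
theorem F37028 : act 2 n19681 = n19303 := d6_2 D14464 D19681 F36023 (iv F34542) (iv D14463)
theorem F37029 : act 4 n19681 = n14619 := d8_2 (iv F25248) D19681 (iv D14619)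
theorem F37030 : act 6 n19681 = n19188 := d10_2 (iv F25249) D19681 F35774 (iv F34603) (iv D14522)
def n19682 : Q := act 3 n14464
theorem D19682 : act 3 n14464 = n19682 := rfl
theorem F37031 : act 0 n19682 = n14465 := d2_1 D19682 (iv D14465) (iv F25247)
theorem F37032 : act 6 n19682 = n14523 := d17_2 (iv F25249) D19682 (iv D14523)
def n19683 : Q := act 2 n14465
theorem D19683 : act 2 n14465 = n19683 := rfl
theorem F37033 : act 6 n19683 = n14526 := d14_2 (iv F25251) D19683 (iv D14526)
def n19684 : Q := act 4 n14465
theorem D19684 : act 4 n14465 = n19684 := rfl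
theorem F37034 : act 1 n19684 = n14998 := d8_1 D19684 (iv D14998) (iv F25250)
theorem F37035 : act 3 n19684 = n14622 := d15_1 D19684 (iv D14622) (iv D11346) (iv F19988) D14465
theorem F37036 : act 6 n19684 = n14527 := d19_2 (iv F25251) D19684 (iv D14527)
def n19685 : Q := act 5 n14465
theorem D19685 : act 5 n14465 = n19685 := rfl
theorem F37037 : act 3 n19685 = n14466 := d16_1 D19685 (iv D14466) D14465
def n19686 : Q := act 1 n14466
theorem D19686 : act 1 n14466 = n19686 := rfl
theorem F37038 : act 4 n19686 = n14624 := d8_2 (iv F25253) D19686 (iv D14624)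
theorem F37039 : act 5 n19686 = n15000 := d9_2 D14466 D19686 (iv D15000) (iv D11532) (iv F19987)
def n19687 : Q := act 0 n14467
theorem D19687 : act 0 n14467 = n19687 := rfl
theorem F37040 : act 3 n19687 = n19676 := d2_2 (iv F25254) D19687 F37015
theorem F37041 : act 4 n19687 = n14625 := d3_2 (iv F25255) D19687 (iv D14625)
theorem F37042 : act 5 n19687 = n14468 := d4_2 (iv F25256) D19687 (iv D14468)
def n19688 : Q := act 2 n14467
theorem D19688 : act 2 n14467 = n19688 := rfl
theorem F37043 : act 4 n19688 = n14626 := d12_2 (iv F25255) D19688 (iv D14626)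
theorem F37044 : act 5 n19688 = n14469 := d13_2 (iv F25256) D19688 (iv D14469)
def n19689 : Q := act 6 n14467
theorem D19689 : act 6 n14467 = n19689 := rfl
theorem F37045 : act 3 n19689 = n19679 := d17_1 D19689 (iv D19679) (iv F25254)
theorem F37046 : act 4 n19689 = n14627 := d19_1 D19689 (iv D14627) (iv F25255)
def n19690 : Q := act 1 n14468
theorem D19690 : act 1 n14468 = n19690 := rfl
theorem F37047 : act 3 n19690 = n19674 := d7_2 (iv F25257) D19690 (iv D19674)
theorem F37048 : act 4 n19690 = n14628 := d8_2 (iv F25258) D19690 (iv D14628)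
def n19691 : Q := act 2 n14468
theorem D19691 : act 2 n14468 = n19691 := rfl
theorem F37049 : act 0 n19691 = n14469 := d1_1 D19691 (iv D14469) D14468
theorem F37050 : act 4 n19691 = n14629 := d12_2 (iv F25258) D19691 (iv D14629)
def n19692 : Q := act 6 n14468
theorem D19692 : act 6 n14468 = n19692 := rfl
theorem F37051 : act 0 n19692 = n14470 := d5_1 D19692 (iv D14470) D14468
theorem F37052 : act 3 n19692 = n19671 := d17_1 D19692 F37008 (iv F25257)
theorem F37053 : act 4 n19692 = n14630 := d19_1 D19692 (iv D14630) (iv F25258)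
theorem F37054 : act 5 n19692 = n19689 := d22_2 F37042 D19692 (iv D19689) D19687
def n19693 : Q := act 3 n14469
theorem D19693 : act 3 n14469 = n19693 := rfl
theorem F37055 : act 1 n19693 = n15007 := d7_1 D19693 (iv D15007) (iv F25259)
def n19694 : Q := act 6 n14469
theorem D19694 : act 6 n14469 = n19694 := rfl
theorem F37056 : act 2 n19694 = n14470 := d14_1 D19694 (iv D14470) D14469
theorem F37057 : act 4 n19694 = n14632 := d19_1 D19694 (iv D14632) (iv F25260)
def n19695 : Q := act 5 n14470
theorem D19695 : act 5 n14470 = n19695 := rfl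
theorem F37058 : act 0 n19695 = n19689 := d4_1 D19695 (iv F37054) F37051
theorem F37059 : act 3 n19695 = n19673 := d16_1 D19695 (iv D19673) (iv F25262)
theorem F37060 : act 4 n19695 = n14633 := d18_1 D19695 (iv D14633) (iv F25263)
theorem F37061 : act 6 n19695 = n19687 := d20_2 D14470 D19695 F37042 D19692 F37054 (iv D19689) F25256
def n19696 : Q := act 1 n14471
theorem D19696 : act 1 n14471 = n19696 := rfl
theorem F37062 : act 2 n19696 = n15256 := d6_2 (iv F25265) D19696 F26562 (iv F23451) F21873
theorem F37063 : act 3 n19696 = n14657 := d7_2 (iv F25266) D19696 (iv D14657)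
theorem F37064 : act 4 n19696 = n14481 := d8_2 (iv F25267) D19696 (iv D14481)
theorem F37065 : act 6 n19696 = n14472 := d10_2 D14471 D19696 (iv D14472) (iv D11271) D11270
theorem F37066 : act 5 n15255 = n19696 := d24_1 F36881 (iv D19696) (iv D14471) F19995 (iv D9056) (iv F6694) (iv D4384) D4383 F6691 D4401 D9108 D11424 (iv F20221) D14810
theorem F37067 : act 0 n19696 = n15258 := d4_1 F37066 (iv D15258) (iv F26560)
theorem E10215 : n19659 = n16655 := (c0_8 D19696 F37067 F36888 (iv D19615) (iv D14415) (iv F19969) D14448 D19659 (iv D16655) (iv F25264))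
theorem F37068 : act 0 n16655 = n14448 := (sb E10215 (iv D19659))
theorem F37069 : act 0 n19660 = n16898 := d1_3 F29789 F37068 D19660
def n19697 : Q := act 1 n14475
theorem D19697 : act 1 n14475 = n19697 := rfl
theorem F37070 : act 2 n19697 = n15244 := d6_2 (iv F34718) D19697 (iv D15244) F20673 (iv F22071)
theorem F37071 : act 3 n19697 = n14667 := d7_2 (iv F25275) D19697 (iv D14667)
theorem F37072 : act 4 n19697 = n14491 := d8_2 (iv F25276) D19697 (iv D14491)
theorem F37073 : act 5 n19697 = n14476 := d9_2 D14475 D19697 (iv D14476) (iv D11273) D11272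
theorem F37074 : act 0 n19697 = n15296 := d23_3 D12455 (iv F34718) D19697 F26640 (iv D12443) (iv D10143) (iv D5514) D5516 (iv F18003) D12451 (iv F34862) F21950 (iv D12476) (iv D10158) (iv F8427) F8429 (iv D5518) D5517 D10149
theorem F37075 : act 6 n19697 = n15294 := d24_3 (iv F20001) D14475 D19697 F26637 (iv D14761) F20202 (iv D11402) (iv D9098) (iv D4397) (iv F6688) (iv D4381) D4382 F6690 D9057
theorem E10216 : n19650 = n16716 := ((c0_3 (iv D19697) F34717 D16716 (iv D19650) (iv D14442) F19963 D14410 D19606 F36856 (iv F37074))).symm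
theorem F37076 : act 0 n16716 = n14442 := (sb E10216 (iv D19650))
theorem F37077 : act 0 n19651 = n17093 := d1_3 F30046 F37076 D19651
def n19698 : Q := act 0 n14477
theorem D19698 : act 0 n14477 = n19698 := rfl
theorem F37078 : act 1 n19698 = n19569 := d0_2 D14477 D19698 F36754 (iv D19559) (iv D14359) (iv D11216) F13150 D8930 D11274
theorem F37079 : act 2 n19698 = n16086 := d1_2 (iv F25279) D19698 (iv D16086)
theorem F37080 : act 3 n19698 = n14496 := d2_2 (iv F25280) D19698 (iv D14496)
theorem F37081 : act 4 n19698 = n16653 := d3_2 (iv F25281) D19698 (iv D16653)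
theorem F37082 : act 5 n19698 = n19353 := d4_2 (iv F29005) D19698 F36162
def n19699 : Q := act 6 n14477
theorem D19699 : act 6 n14477 = n19699 := rfl
theorem F37083 : act 2 n19699 = n16089 := d14_1 D19699 (iv D16089) (iv F25279)
theorem F37084 : act 3 n19699 = n14499 := d17_1 D19699 (iv D14499) (iv F25280)
theorem F37085 : act 4 n19699 = n16654 := d19_1 D19699 (iv D16654) (iv F25281)
def n19700 : Q := act 1 n14478
theorem D19700 : act 1 n14478 = n19700 := rfl
theorem F37086 : act 3 n19700 = n14503 := d7_2 (iv F25284) D19700 (iv D14503)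
theorem F37087 : act 4 n19700 = n16655 := d8_2 (iv F25285) D19700 (iv D16655)
theorem F37088 : act 0 n19576 = n19700 := d3_3 F37087 F37068 (iv F36767)
def n19701 : Q := act 2 n14479
theorem D19701 : act 2 n14479 = n19701 := rfl
theorem F37089 : act 0 n19701 = n16049 := d1_1 D19701 (iv D16049) (iv F25287)
theorem F37090 : act 1 n19701 = n15992 := d6_1 D19701 (iv D15992) D15991 (iv F36721) F36720
def n19702 : Q := act 4 n14479
theorem D19702 : act 4 n14479 = n19702 := rfl
theorem F37091 : act 0 n19702 = n14956 := d3_1 D19702 F26030 (iv F25287)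
theorem F37092 : act 3 n19702 = n14972 := d15_1 D19702 F26063 F20614 (iv F20103) D14479
def n19703 : Q := act 6 n14479
theorem D19703 : act 6 n14479 = n19703 := rfl
theorem F37093 : act 0 n19703 = n16051 := d5_1 D19703 (iv D16051) (iv F25287)
theorem F37094 : act 3 n19703 = n14480 := d17_1 D19703 (iv D14480) D14479
def n19704 : Q := act 0 n14481
theorem D19704 : act 0 n14481 = n19704 := rfl
theorem F37095 : act 3 n19704 = n14508 := d2_2 (iv F25291) D19704 (iv D14508)
theorem F37096 : act 4 n19704 = n15258 := d3_2 F37064 D19704 (iv F37067)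
theorem F37097 : act 6 n19704 = n14483 := d5_2 (iv F25292) D19704 (iv D14483)
theorem F37098 : act 5 n19704 = n15047 := d22_0 (iv F35312) (iv D14485) (iv F25292) D19704
theorem F37099 : act 2 n15048 = n19704 := d13_3 F37098 (iv D15047) D15048
def n19705 : Q := act 2 n14481
theorem D19705 : act 2 n14481 = n19705 := rfl
theorem F37100 : act 0 n19705 = n15048 := d1_1 D19705 F37099 (iv D19704)
theorem F37101 : act 1 n19705 = n15064 := d6_1 D19705 (iv F26238) F26241 F25289 D14481
theorem F37102 : act 4 n19705 = n15256 := d12_2 F37064 D19705 (iv F37062)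
theorem F37103 : act 6 n19705 = n14484 := d14_2 (iv F25292) D19705 (iv D14484)
theorem F37104 : act 5 n15046 = n19705 := d20_7 F37103 F35309 F26180 D15048 (iv F26206) D16146 F27941
def n19706 : Q := act 5 n14481
theorem D19706 : act 5 n14481 = n19706 := rfl
theorem F37105 : act 0 n19706 = n15047 := d4_1 D19706 (iv F37098) (iv D19704)
theorem F37106 : act 2 n19706 = n15046 := d13_1 D19706 F37104 (iv D19705)
theorem F37107 : act 3 n19706 = n14510 := d16_1 D19706 (iv D14510) (iv F25291)
theorem F37108 : act 4 n19706 = n15255 := d18_1 D19706 F37066 F37064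
def n19707 : Q := act 1 n14482
theorem D19707 : act 1 n14482 = n19707 := rfl
theorem F37109 : act 3 n19707 = n14511 := d7_2 (iv F25294) D19707 (iv D14511)
def n19708 : Q := act 1 n14483
theorem D19708 : act 1 n14483 = n19708 := rfl
theorem F37110 : act 2 n19708 = n16147 := d6_2 (iv F35321) D19708 (iv D16147) (iv D12142) D12141
theorem F37111 : act 3 n19708 = n14512 := d7_2 (iv F25296) D19708 (iv D14512)
theorem F37112 : act 4 n19708 = n16758 := d8_2 (iv F35322) D19708 (iv D16758)
def n19709 : Q := act 5 n14483
theorem D19709 : act 5 n14483 = n19709 := rfl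
theorem F37113 : act 0 n19709 = n14485 := d4_1 D19709 (iv D14485) D14483
theorem F37114 : act 2 n19709 = n16146 := d13_1 D19709 (iv D16146) (iv F35321)
theorem F37115 : act 3 n19709 = n14514 := d16_1 D19709 (iv D14514) (iv F25296)
theorem F37116 : act 4 n19709 = n14810 := d18_1 D19709 F36880 (iv F35322)
theorem F37117 : act 6 n19709 = n19706 := d20_2 F37097 D19709 (iv D19706) F25292 D14485 F35312 (iv F37098)
theorem F37118 : act 1 n14536 = n19709 := d24_14 F37117 (iv D19706) (iv D14481) (iv D11276) (iv F19974) (iv D11260) (iv F13363) (iv D8927) D8926 F13359 D8940 D11297 D14532 (iv F25382)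
def n19710 : Q := act 3 n14484
theorem D19710 : act 3 n14484 = n19710 := rfl
theorem F37119 : act 0 n19710 = n16078 := d2_1 D19710 F27789 (iv F35307)
def n19711 : Q := act 0 n14486
theorem D19711 : act 0 n14486 = n19711 := rfl
theorem F37120 : act 1 n19711 = n19574 := d0_2 D14486 D19711 F36762 (iv D19564) (iv D14362) (iv D11217) F13153 D8932 D11278
theorem F37121 : act 2 n19711 = n16125 := d1_2 (iv F34694) D19711 (iv D16125)
theorem F37122 : act 3 n19711 = n14518 := d2_2 (iv F25299) D19711 (iv D14518)
theorem F37123 : act 4 n19711 = n16708 := d3_2 (iv F34695) D19711 (iv D16708)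
theorem F37124 : act 6 n19711 = n19393 := d5_2 F35285 D19711 F36280
def n19712 : Q := act 5 n14486
theorem D19712 : act 5 n14486 = n19712 := rfl
theorem F37125 : act 2 n19712 = n16127 := d13_1 D19712 (iv D16127) (iv F34694)
theorem F37126 : act 3 n19712 = n14520 := d16_1 D19712 (iv D14520) (iv F25299)
theorem F37127 : act 4 n19712 = n16710 := d18_1 D19712 (iv D16710) (iv F34695)
def n19713 : Q := act 1 n14488
theorem D19713 : act 1 n14488 = n19713 := rfl
theorem F37128 : act 3 n19713 = n14525 := d7_2 (iv F25302) D19713 (iv D14525)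
theorem F37129 : act 4 n19713 = n16716 := d8_2 F34703 D19713 (iv D16716)
theorem F37130 : act 0 n19572 = n19713 := d3_3 F37129 F37076 (iv F36760)
def n19714 : Q := act 2 n14489
theorem D19714 : act 2 n14489 = n19714 := rfl
theorem F37131 : act 0 n19714 = n16066 := d1_1 D19714 (iv D16066) (iv F34708)
theorem F37132 : act 1 n19714 = n15998 := d6_1 D19714 (iv D15998) D15997 (iv F36743) F36742
def n19715 : Q := act 4 n14489
theorem D19715 : act 4 n14489 = n19715 := rfl
theorem F37133 : act 0 n19715 = n14964 := d3_1 D19715 F26047 (iv F34708)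
theorem F37134 : act 3 n19715 = n14991 := d15_1 D19715 F26094 F20638 F34710 D14489
def n19716 : Q := act 5 n14489
theorem D19716 : act 5 n14489 = n19716 := rfl
theorem F37135 : act 0 n19716 = n16067 := d4_1 D19716 (iv D16067) (iv F34708)
theorem F37136 : act 3 n19716 = n14490 := d16_1 D19716 (iv D14490) D14489
def n19717 : Q := act 0 n14491
theorem D19717 : act 0 n14491 = n19717 := rfl
theorem F37137 : act 3 n19717 = n14530 := d2_2 (iv F25305) D19717 (iv D14530)
theorem F37138 : act 4 n19717 = n15296 := d3_2 F37072 D19717 (iv F37074)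
theorem F37139 : act 5 n19717 = n14493 := d4_2 (iv F25306) D19717 (iv D14493)
theorem F37140 : act 6 n15074 = n19717 := d22_3 F25306 D14495 F35300 (iv D19717)
theorem F37141 : act 2 n19717 = n15075 := d14_1 F37140 (iv D15075) D15074
def n19718 : Q := act 2 n14491
theorem D19718 : act 2 n14491 = n19718 := rfl
theorem F37142 : act 0 n19718 = n15075 := d1_1 D19718 (iv F37141) (iv D19717)
theorem F37143 : act 1 n19718 = n15038 := d6_1 D19718 F26182 (iv F34712) F25304 D14491
theorem F37144 : act 4 n19718 = n15244 := d12_2 F37072 D19718 (iv F37070)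
theorem F37145 : act 5 n19718 = n14494 := d13_2 (iv F25306) D19718 (iv D14494)
theorem F37146 : act 6 n15073 = n19718 := d20_0 F37145 F35306 F26234 D15075 (iv F26263) D16106 (iv F27861)
def n19719 : Q := act 6 n14491
theorem D19719 : act 6 n14491 = n19719 := rfl
theorem F37147 : act 0 n19719 = n15074 := d5_1 D19719 F37140 (iv D19717)
theorem F37148 : act 2 n19719 = n15073 := d14_1 D19719 F37146 (iv D19718)
theorem F37149 : act 3 n19719 = n14532 := d17_1 D19719 (iv D14532) (iv F25305)
theorem F37150 : act 4 n19719 = n15294 := d19_1 D19719 (iv F37075) F37072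
def n19720 : Q := act 1 n14492
theorem D19720 : act 1 n14492 = n19720 := rfl
theorem F37151 : act 3 n19720 = n14533 := d7_2 (iv F25308) D19720 (iv D14533)
def n19721 : Q := act 1 n14493
theorem D19721 : act 1 n14493 = n19721 := rfl
theorem F37152 : act 2 n19721 = n16107 := d6_2 (iv F35323) D19721 (iv D16107) (iv D12123) D12122
theorem F37153 : act 3 n19721 = n14534 := d7_2 (iv F25310) D19721 (iv D14534)
theorem F37154 : act 4 n19721 = n16683 := d8_2 (iv F35324) D19721 (iv D16683)
def n19722 : Q := act 6 n14493
theorem D19722 : act 6 n14493 = n19722 := rfl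
theorem F37155 : act 0 n19722 = n14495 := d5_1 D19722 (iv D14495) D14493
theorem F37156 : act 2 n19722 = n16106 := d14_1 D19722 (iv D16106) (iv F35323)
theorem F37157 : act 3 n19722 = n14536 := d17_1 D19722 (iv D14536) (iv F25310)
theorem F37158 : act 4 n19722 = n14761 := d19_1 D19722 F25706 (iv F35324)
theorem F37159 : act 5 n19722 = n19719 := d20_1 D19722 (iv D19719) F25306 D14495 F35300 F37140 F37139
theorem F37160 : act 1 n19722 = n14514 := d24_2 D19719 (iv F37159) F25344 (iv D14510) (iv D11287) (iv D8936) (iv F13354) (iv D8924) D8925 F13357 D11261 F19977 D11280 D14491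
def n19723 : Q := act 3 n14494
theorem D19723 : act 3 n14494 = n19723 := rfl
theorem F37161 : act 0 n19723 = n16059 := d2_1 D19723 F27767 (iv F35304)
theorem F37162 : act 1 n19723 = n19710 := d7_1 D19723 (iv D19710) (iv F25311)
def n19724 : Q := act 5 n14496
theorem D19724 : act 5 n14496 = n19724 := rfl
theorem F37163 : act 0 n19724 = n14498 := d4_1 D19724 (iv D14498) D14496
theorem F37164 : act 1 n19724 = n19543 := d9_1 D19724 F36673 D19559 (iv F36713) (iv F29241)
theorem F37165 : act 2 n19724 = n18563 := d13_1 D19724 F33216 F28914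
theorem F37166 : act 3 n19724 = n19353 := d16_1 D19724 (iv F37082) F37080
theorem F37167 : act 4 n19724 = n14719 := d18_1 D19724 (iv D14719) (iv F25314)
def n19725 : Q := act 6 n14497
theorem D19725 : act 6 n14497 = n19725 := rfl
theorem F37168 : act 2 n19725 = n14499 := d14_1 D19725 (iv D14499) D14497
theorem F37169 : act 4 n19725 = n14724 := d19_1 D19725 (iv D14724) (iv F25315)
def n19726 : Q := act 6 n14498
theorem D19726 : act 6 n14498 = n19726 := rfl
theorem F37170 : act 2 n19726 = n18569 := d14_1 D19726 (iv D18569) F28906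
theorem F37171 : act 3 n19726 = n19358 := d17_1 D19726 (iv D19358) F29007
theorem F37172 : act 4 n19726 = n14725 := d19_1 D19726 (iv D14725) (iv F25316)
theorem F37173 : act 5 n19726 = n19400 := d22_2 D14498 D19726 (iv F36298) (iv D14496)
theorem F37174 : act 1 n19397 = n19726 := d24_14 (iv D19726) (iv D14498) (iv D11282) D11284 F20018 D14459 F25240 D14462 F25244 (iv F25303) (iv D14488) D14486 (iv F35285) D19397
def n19727 : Q := act 1 n14499
theorem D19727 : act 1 n14499 = n19727 := rfl
theorem F37175 : act 4 n19727 = n14726 := d8_2 (iv F25317) D19727 (iv D14726)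
theorem F37176 : act 6 n19727 = n14503 := d10_2 D14499 D19727 (iv D14503) (iv D11284) D11282
def n19728 : Q := act 5 n14499
theorem D19728 : act 5 n14499 = n19728 := rfl
theorem F37177 : act 0 n19728 = n19726 := d4_1 D19728 F37173 (iv F36297)
theorem F37178 : act 4 n19728 = n14727 := d18_1 D19728 (iv D14727) (iv F25317)
theorem F37179 : act 6 n19728 = n19724 := d20_2 D14499 D19728 (iv D19724) F36298 (iv F37173) (iv D19726) (iv D14498)
def n19729 : Q := act 3 n14500
theorem D19729 : act 3 n14500 = n19729 := rfl
theorem F37180 : act 0 n19729 = n18753 := d2_1 D19729 F33572 (iv F28912)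
theorem F37181 : act 1 n19729 = n14501 := d7_1 D19729 (iv D14501) D14500
theorem F37182 : act 4 n19729 = n18752 := d15_2 (iv F25318) D19729 (iv D18752) F24016 F28894
theorem F37183 : act 5 n19729 = n18825 := d16_2 F28911 D19729 F33700
theorem F37184 : act 2 n19729 = n18984 := d21_4 (iv F33571) F33572 (iv F28910) D19729 (iv D18984) F24229 D18984 F34001
def n19730 : Q := act 2 n14501
theorem D19730 : act 2 n14501 = n19730 := rfl
theorem F37185 : act 0 n19730 = n14504 := d1_1 D19730 (iv D14504) (iv F25319)
theorem F37186 : act 3 n19730 = n19701 := d11_2 D14501 D19730 (iv D19701) (iv D14479) (iv D11275) F13368 D8935 D11285 D14504 (iv F27750) (iv D16049) F21353 (iv F20101) F20007 D11283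
def n19731 : Q := act 4 n14501
theorem D19731 : act 4 n14501 = n19731 := rfl
theorem F37187 : act 0 n19731 = n14505 := d3_1 D19731 (iv D14505) (iv F25319)
theorem F37188 : act 1 n19731 = n18752 := d8_1 D19731 (iv F37182) F37181
theorem F37189 : act 3 n19731 = n14733 := d15_1 D19731 (iv D14733) (iv D11393) (iv F20015) D14501
def n19732 : Q := act 6 n14501
theorem D19732 : act 6 n14501 = n19732 := rfl
theorem F37190 : act 0 n19732 = n14506 := d5_1 D19732 (iv D14506) (iv F25319)
theorem F37191 : act 3 n19732 = n14502 := d17_1 D19732 (iv D14502) D14501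
theorem F37192 : act 5 n19732 = n19669 := d22_2 F36999 D19732 (iv D19669) (iv F36998)
def n19733 : Q := act 1 n14502
theorem D19733 : act 1 n14502 = n19733 := rfl
theorem F37193 : act 4 n19733 = n14735 := d8_2 (iv F25322) D19733 (iv D14735)
def n19734 : Q := act 0 n14503
theorem D19734 : act 0 n14503 = n19734 := rfl
theorem F37194 : act 3 n19734 = n19576 := d2_2 F37086 D19734 F37088
theorem F37195 : act 4 n19734 = n14736 := d3_2 (iv F25324) D19734 (iv D14736)
theorem F37196 : act 1 n19568 = n19734 := d8_3 F37195 F36874 (iv F36752)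
def n19735 : Q := act 2 n14503
theorem D19735 : act 2 n14503 = n19735 := rfl
theorem F37197 : act 4 n19735 = n14737 := d12_2 (iv F25324) D19735 (iv D14737)
def n19736 : Q := act 5 n14503
theorem D19736 : act 5 n14503 = n19736 := rfl
theorem F37198 : act 1 n19736 = n19673 := d9_1 D19736 (iv D19673) (iv D14459) (iv F20018) D14503
theorem F37199 : act 4 n19736 = n14738 := d18_1 D19736 (iv D14738) (iv F25324)
def n19737 : Q := act 4 n14504
theorem D19737 : act 4 n14504 = n19737 := rfl
theorem F37200 : act 1 n19737 = n15050 := d8_1 D19737 (iv D15050) (iv F25325)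
theorem F37201 : act 2 n19737 = n14505 := d12_1 D19737 (iv D14505) D14504
def n19738 : Q := act 6 n14504
theorem D19738 : act 6 n14504 = n19738 := rfl
theorem F37202 : act 2 n19738 = n14506 := d14_1 D19738 (iv D14506) D14504
def n19739 : Q := act 6 n14505
theorem D19739 : act 6 n14505 = n19739 := rfl
theorem F37203 : act 3 n19739 = n14743 := d17_1 D19739 (iv D14743) (iv F25327)
theorem F37204 : act 4 n19739 = n14506 := d19_1 D19739 (iv D14506) D14505
def n19740 : Q := act 5 n14506
theorem D19740 : act 5 n14506 = n19740 := rfl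
theorem F37205 : act 0 n19740 = n19669 := d4_1 D19740 (iv F37192) F37190
theorem F37206 : act 3 n19740 = n14507 := d16_1 D19740 (iv D14507) (iv F25328)
theorem F37207 : act 6 n19740 = n19666 := d20_2 D14506 D19740 F36999 D19732 F37192 (iv D19669) F25236
def n19741 : Q := act 1 n14507
theorem D19741 : act 1 n14507 = n19741 := rfl
theorem F37208 : act 4 n19741 = n14745 := d8_2 (iv F25331) D19741 (iv D14745)
def n19742 : Q := act 1 n14508
theorem D19742 : act 1 n14508 = n19742 := rfl
theorem F37209 : act 4 n19742 = n14746 := d8_2 (iv F25333) D19742 (iv D14746)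
def n19743 : Q := act 2 n14508
theorem D19743 : act 2 n14508 = n19743 := rfl
theorem F37210 : act 0 n19743 = n14509 := d1_1 D19743 (iv D14509) D14508
theorem F37211 : act 4 n19743 = n14747 := d12_2 (iv F25333) D19743 (iv D14747)
theorem F37212 : act 6 n19743 = n14513 := d14_2 (iv F25334) D19743 (iv D14513)
def n19744 : Q := act 3 n14509
theorem D19744 : act 3 n14509 = n19744 := rfl
theorem F37213 : act 6 n19744 = n14515 := d17_2 (iv F25336) D19744 (iv D14515)
def n19745 : Q := act 5 n14509
theorem D19745 : act 5 n14509 = n19745 := rfl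
theorem F37214 : act 2 n19745 = n14510 := d13_1 D19745 (iv D14510) D14509
theorem F37215 : act 4 n19745 = n14749 := d18_1 D19745 (iv D14749) (iv F25335)
def n19746 : Q := act 1 n14510
theorem D19746 : act 1 n14510 = n19746 := rfl
theorem F37216 : act 4 n19746 = n14750 := d8_2 (iv F25337) D19746 (iv D14750)
theorem F37217 : act 5 n19746 = n14511 := d9_2 D14510 D19746 (iv D14511) (iv D11288) D11287
theorem F37218 : act 6 n19746 = n19721 := d10_2 F25344 D19746 (iv D19721) D19722 F37160
def n19747 : Q := act 0 n14511
theorem D19747 : act 0 n14511 = n19747 := rfl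
theorem F37219 : act 4 n19747 = n14751 := d3_2 (iv F25338) D19747 (iv D14751)
def n19748 : Q := act 2 n14511
theorem D19748 : act 2 n14511 = n19748 := rfl
theorem F37220 : act 4 n19748 = n14752 := d12_2 (iv F25338) D19748 (iv D14752)
def n19749 : Q := act 6 n14511
theorem D19749 : act 6 n14511 = n19749 := rfl
theorem F37221 : act 1 n19749 = n19664 := d10_1 D19749 (iv D19664) (iv D14455) (iv F20026) D14511
theorem F37222 : act 4 n19749 = n14753 := d19_1 D19749 (iv D14753) (iv F25338)
def n19750 : Q := act 0 n14512
theorem D19750 : act 0 n14512 = n19750 := rfl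
theorem F37223 : act 4 n19750 = n14754 := d3_2 (iv F25339) D19750 (iv D14754)
theorem F37224 : act 2 n15105 = n19750 := d12_3 F37223 F29201 (iv F26315)
theorem F37225 : act 5 n19252 = n19750 := d18_0 F37223 (iv F29200) (iv F35901)
def n19751 : Q := act 2 n14512
theorem D19751 : act 2 n14512 = n19751 := rfl
theorem F37226 : act 0 n19751 = n15105 := d1_1 D19751 F37224 (iv D19750)
theorem F37227 : act 4 n19751 = n14755 := d12_2 (iv F25339) D19751 (iv D14755)
def n19752 : Q := act 5 n14512
theorem D19752 : act 5 n14512 = n19752 := rfl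
theorem F37228 : act 0 n19752 = n19252 := d4_1 D19752 F37225 (iv D19750)
theorem F37229 : act 1 n19752 = n19719 := d9_1 D19752 (iv F37159) F37160 (iv D14514) D14512
theorem F37230 : act 4 n19752 = n14756 := d18_1 D19752 (iv D14756) (iv F25339)
theorem F37231 : act 6 n19720 = n19752 := d10_0 F37229 (iv D19719) (iv D14491) D14492 D19720
def n19753 : Q := act 6 n14512
theorem D19753 : act 6 n14512 = n19753 := rfl
theorem F37232 : act 4 n19753 = n14757 := d19_1 D19753 (iv D14757) (iv F25339)
def n19754 : Q := act 1 n14513
theorem D19754 : act 1 n14513 = n19754 := rfl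
theorem F37233 : act 4 n19754 = n14758 := d8_2 (iv F25341) D19754 (iv D14758)
def n19755 : Q := act 3 n14513
theorem D19755 : act 3 n14513 = n19755 := rfl
theorem F37234 : act 0 n19755 = n14515 := d2_1 D19755 (iv D14515) (iv F25340)
def n19756 : Q := act 5 n14513
theorem D19756 : act 5 n14513 = n19756 := rfl
theorem F37235 : act 0 n19756 = n14516 := d4_1 D19756 (iv D14516) (iv F25340)
theorem F37236 : act 2 n19756 = n14514 := d13_1 D19756 (iv D14514) D14513
theorem F37237 : act 4 n19756 = n14760 := d18_1 D19756 (iv D14760) (iv F25341)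
theorem F37238 : act 6 n19756 = n19745 := d22_1 D19756 (iv D19745) F25336 (iv F25340)
def n19757 : Q := act 2 n14515
theorem D19757 : act 2 n14515 = n19757 := rfl
def n19758 : Q := act 4 n14515
theorem D19758 : act 4 n14515 = n19758 := rfl
theorem F37239 : act 1 n19758 = n14543 := d8_1 D19758 (iv D14543) (iv F25345)
theorem F37240 : act 3 n19758 = n14763 := d15_1 D19758 (iv D14763) (iv D11407) (iv F20029) D14515
def n19759 : Q := act 5 n14515
theorem D19759 : act 5 n14515 = n19759 := rfl
theorem F37241 : act 1 n19759 = n19759 := d9_1 D19759 (iv D19759) F25345 F20057 (iv F25345)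
theorem F37242 : act 3 n19759 = n14516 := d16_1 D19759 (iv D14516) D14515
def n19760 : Q := act 6 n14516
theorem D19760 : act 6 n14516 = n19760 := rfl
theorem F37243 : act 0 n19760 = n19745 := d5_1 D19760 (iv F37238) F37235
theorem F37244 : act 2 n19760 = n14517 := d14_1 D19760 (iv D14517) (iv F25347)
theorem F37245 : act 4 n19760 = n14765 := d19_1 D19760 (iv D14765) (iv F25348)
theorem F37246 : act 5 n19760 = n19743 := d20_1 D19760 F37212 D19756 F37238 (iv D19745) F25336 D14516
def n19761 : Q := act 1 n14517
theorem D19761 : act 1 n14517 = n19761 := rfl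
theorem F37247 : act 4 n19761 = n14766 := d8_2 (iv F25350) D19761 (iv D14766)
theorem F37248 : act 6 n19761 = n19576 := d10_2 D14517 D19761 (iv D19576) (iv D14370) (iv F20030)
def n19762 : Q := act 6 n14518
theorem D19762 : act 6 n14518 = n19762 := rfl
theorem F37249 : act 0 n19762 = n14521 := d5_1 D19762 (iv D14521) D14518
theorem F37250 : act 1 n19762 = n19546 := d10_1 D19762 F36681 D19564 (iv F36735) F28600
theorem F37251 : act 2 n19762 = n18603 := d14_1 D19762 (iv F35357) (iv F26624)
theorem F37252 : act 3 n19762 = n19393 := d17_1 D19762 (iv F37124) F37122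
theorem F37253 : act 4 n19762 = n14769 := d19_1 D19762 (iv D14769) (iv F25352)
def n19763 : Q := act 5 n14519
theorem D19763 : act 5 n14519 = n19763 := rfl
theorem F37254 : act 2 n19763 = n14520 := d13_1 D19763 (iv D14520) D14519
theorem F37255 : act 4 n19763 = n14772 := d18_1 D19763 (iv D14772) (iv F25353)
def n19764 : Q := act 1 n14520
theorem D19764 : act 1 n14520 = n19764 := rfl
theorem F37256 : act 4 n19764 = n14774 := d8_2 (iv F25354) D19764 (iv D14774)
theorem F37257 : act 5 n19764 = n14525 := d9_2 D14520 D19764 (iv D14525) (iv D11294) D11292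
def n19765 : Q := act 6 n14520
theorem D19765 : act 6 n14520 = n19765 := rfl
theorem F37258 : act 4 n19765 = n14775 := d19_1 D19765 (iv D14775) (iv F25354)
theorem F37259 : act 5 n19765 = n19762 := d22_2 D14520 D19765 (iv D19762) (iv D14518)
def n19766 : Q := act 5 n14521
theorem D19766 : act 5 n14521 = n19766 := rfl
theorem F37260 : act 0 n19766 = n19765 := d4_1 D19766 F37259 F37249
theorem F37261 : act 2 n19766 = n18610 := d13_1 D19766 (iv D18610) (iv F34532)
theorem F37262 : act 3 n19766 = n19397 := d16_1 D19766 (iv D19397) (iv F34533)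
theorem F37263 : act 4 n19766 = n14776 := d18_1 D19766 (iv D14776) (iv F25355)
theorem F37264 : act 6 n19766 = n19363 := d20_2 D14521 D19766 (iv F36193) D19762 (iv F37259) (iv D19765) (iv D14520)
theorem F37265 : act 1 n19766 = n19358 := d24_2 D14521 D19766 (iv D19358) (iv F29005) (iv D14477) D14478 F25286 (iv F25261) (iv D14470) (iv F25256) (iv D14467) (iv F20037) (iv D11294) D11292
def n19767 : Q := act 3 n14522
theorem D19767 : act 3 n14522 = n19767 := rfl
theorem F37266 : act 0 n19767 = n18771 := d2_1 D19767 F33600 F34604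
theorem F37267 : act 1 n19767 = n14523 := d7_1 D19767 (iv D14523) D14522
theorem F37268 : act 4 n19767 = n18770 := d15_2 (iv F25356) D19767 (iv D18770) F24029 F34557
theorem F37269 : act 6 n19767 = n18872 := d17_2 (iv F34603) D19767 F33787
theorem F37270 : act 2 n19767 = n18999 := d21_4 (iv F34796) F33600 F34605 D19767 (iv D18999) F24261 D18999 F34034
def n19768 : Q := act 2 n14523
theorem D19768 : act 2 n14523 = n19768 := rfl
theorem F37271 : act 0 n19768 = n14526 := d1_1 D19768 (iv D14526) (iv F25357)
theorem F37272 : act 3 n19768 = n19714 := d11_2 D14523 D19768 (iv D19714) (iv D14489) (iv D11279) F13371 D8939 D11295 D14526 F34693 (iv D16066) F21363 F34696 F20010 D11293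
def n19769 : Q := act 4 n14523
theorem D19769 : act 4 n14523 = n19769 := rfl
theorem F37273 : act 0 n19769 = n14527 := d3_1 D19769 (iv D14527) (iv F25357)
theorem F37274 : act 1 n19769 = n18770 := d8_1 D19769 (iv F37268) F37267
theorem F37275 : act 3 n19769 = n14782 := d15_1 D19769 (iv D14782) (iv D11415) (iv F20034) D14523
def n19770 : Q := act 5 n14523
theorem D19770 : act 5 n14523 = n19770 := rfl
theorem F37276 : act 0 n19770 = n14528 := d4_1 D19770 (iv D14528) (iv F25357)
theorem F37277 : act 3 n19770 = n14524 := d16_1 D19770 (iv D14524) D14523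
theorem F37278 : act 6 n19770 = n19685 := d22_1 D19770 (iv D19685) F25251 (iv F25357)
def n19771 : Q := act 1 n14524
theorem D19771 : act 1 n14524 = n19771 := rfl
theorem F37279 : act 4 n19771 = n14784 := d8_2 (iv F25360) D19771 (iv D14784)
def n19772 : Q := act 0 n14525
theorem D19772 : act 0 n14525 = n19772 := rfl
theorem F37280 : act 3 n19772 = n19572 := d2_2 F37128 D19772 F37130
theorem F37281 : act 4 n19772 = n14785 := d3_2 (iv F25362) D19772 (iv D14785)
theorem F37282 : act 1 n19563 = n19772 := d8_3 F37281 (iv F29861) (iv F36730)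
def n19773 : Q := act 2 n14525
theorem D19773 : act 2 n14525 = n19773 := rfl
theorem F37283 : act 4 n19773 = n14786 := d12_2 (iv F25362) D19773 (iv D14786)
def n19774 : Q := act 6 n14525
theorem D19774 : act 6 n14525 = n19774 := rfl
theorem F37284 : act 1 n19774 = n19689 := d10_1 D19774 (iv D19689) (iv D14467) (iv F20037) D14525
theorem F37285 : act 4 n19774 = n14787 := d19_1 D19774 (iv D14787) (iv F25362)
def n19775 : Q := act 4 n14526
theorem D19775 : act 4 n14526 = n19775 := rfl
theorem F37286 : act 1 n19775 = n15077 := d8_1 D19775 (iv D15077) (iv F25363)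
theorem F37287 : act 2 n19775 = n14527 := d12_1 D19775 (iv D14527) D14526
def n19776 : Q := act 5 n14526
theorem D19776 : act 5 n14526 = n19776 := rfl
theorem F37288 : act 2 n19776 = n14528 := d13_1 D19776 (iv D14528) D14526
def n19777 : Q := act 5 n14527
theorem D19777 : act 5 n14527 = n19777 := rfl
theorem F37289 : act 3 n19777 = n14792 := d16_1 D19777 (iv D14792) (iv F25365)
theorem F37290 : act 4 n19777 = n14528 := d18_1 D19777 (iv D14528) D14527
def n19778 : Q := act 6 n14528
theorem D19778 : act 6 n14528 = n19778 := rfl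
theorem F37291 : act 0 n19778 = n19685 := d5_1 D19778 (iv F37278) F37276
theorem F37292 : act 3 n19778 = n14529 := d17_1 D19778 (iv D14529) (iv F25366)
theorem F37293 : act 5 n19778 = n19682 := d20_1 D19778 F37032 D19770 F37278 (iv D19685) F25251 D14528
def n19779 : Q := act 1 n14529
theorem D19779 : act 1 n14529 = n19779 := rfl
theorem F37294 : act 4 n19779 = n14794 := d8_2 (iv F25369) D19779 (iv D14794)
def n19780 : Q := act 1 n14530
theorem D19780 : act 1 n14530 = n19780 := rfl
theorem F37295 : act 4 n19780 = n14795 := d8_2 (iv F25371) D19780 (iv D14795)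
def n19781 : Q := act 2 n14530
theorem D19781 : act 2 n14530 = n19781 := rfl
theorem F37296 : act 0 n19781 = n14531 := d1_1 D19781 (iv D14531) D14530
theorem F37297 : act 4 n19781 = n14796 := d12_2 (iv F25371) D19781 (iv D14796)
theorem F37298 : act 5 n19781 = n14535 := d13_2 (iv F25372) D19781 (iv D14535)
def n19782 : Q := act 3 n14531
theorem D19782 : act 3 n14531 = n19782 := rfl
theorem F37299 : act 5 n19782 = n14537 := d16_2 (iv F25374) D19782 (iv D14537)
def n19783 : Q := act 6 n14531
theorem D19783 : act 6 n14531 = n19783 := rfl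
theorem F37300 : act 2 n19783 = n14532 := d14_1 D19783 (iv D14532) D14531
theorem F37301 : act 4 n19783 = n14798 := d19_1 D19783 (iv D14798) (iv F25373)
def n19784 : Q := act 1 n14532
theorem D19784 : act 1 n14532 = n19784 := rfl
theorem F37302 : act 3 n19784 = n19752 := d7_2 F37149 D19784 F37229
theorem F37303 : act 4 n19784 = n14799 := d8_2 (iv F25375) D19784 (iv D14799)
theorem F37304 : act 5 n19784 = n19708 := d9_2 F25382 D19784 (iv D19708) D19709 (iv F37118)
theorem F37305 : act 6 n19784 = n14533 := d10_2 D14532 D19784 (iv D14533) (iv D11298) D11297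
def n19785 : Q := act 0 n14533
theorem D19785 : act 0 n14533 = n19785 := rfl
theorem F37306 : act 4 n19785 = n14800 := d3_2 (iv F25376) D19785 (iv D14800)
def n19786 : Q := act 2 n14533
theorem D19786 : act 2 n14533 = n19786 := rfl
theorem F37307 : act 4 n19786 = n14801 := d12_2 (iv F25376) D19786 (iv D14801)
def n19787 : Q := act 5 n14533
theorem D19787 : act 5 n14533 = n19787 := rfl
theorem F37308 : act 1 n19787 = n19680 := d9_1 D19787 (iv D19680) (iv D14463) (iv F20045) D14533
theorem F37309 : act 4 n19787 = n14802 := d18_1 D19787 (iv D14802) (iv F25376)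
def n19788 : Q := act 0 n14534
theorem D19788 : act 0 n14534 = n19788 := rfl
theorem F37310 : act 1 n19788 = n19750 := d0_2 D14534 D19788 (iv D19750) (iv D14512) (iv D11289) (iv D8937) (iv F6574) D8941 D11299
theorem F37311 : act 4 n19788 = n14803 := d3_2 (iv F25377) D19788 (iv D14803)
theorem F37312 : act 2 n15125 = n19788 := d12_3 F37311 F29202 (iv F26355)
theorem F37313 : act 6 n19309 = n19788 := d19_0 F37311 (iv F34885) (iv F36035)
def n19789 : Q := act 2 n14534
theorem D19789 : act 2 n14534 = n19789 := rfl
theorem F37314 : act 0 n19789 = n15125 := d1_1 D19789 F37312 (iv D19788)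
theorem F37315 : act 4 n19789 = n14804 := d12_2 (iv F25377) D19789 (iv D14804)
def n19790 : Q := act 5 n14534
theorem D19790 : act 5 n14534 = n19790 := rfl
theorem F37316 : act 4 n19790 = n14805 := d18_1 D19790 (iv D14805) (iv F25377)
def n19791 : Q := act 6 n14534
theorem D19791 : act 6 n14534 = n19791 := rfl
theorem F37317 : act 0 n19791 = n19309 := d5_1 D19791 F37313 (iv D19788)
theorem F37318 : act 1 n19791 = n19706 := d10_1 D19791 (iv F37117) (iv F37118) (iv D14536) D14534
theorem F37319 : act 3 n19791 = n19746 := d17_1 D19791 F37218 F37153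
theorem F37320 : act 4 n19791 = n14806 := d19_1 D19791 (iv D14806) (iv F25377)
theorem F37321 : act 5 n19707 = n19791 := d16_0 F37319 F37217 (iv F37109)
def n19792 : Q := act 1 n14535
theorem D19792 : act 1 n14535 = n19792 := rfl
theorem F37322 : act 4 n19792 = n14807 := d8_2 (iv F25379) D19792 (iv D14807)
def n19793 : Q := act 3 n14535
theorem D19793 : act 3 n14535 = n19793 := rfl
theorem F37323 : act 0 n19793 = n14537 := d2_1 D19793 (iv D14537) (iv F25378)
def n19794 : Q := act 6 n14535
theorem D19794 : act 6 n14535 = n19794 := rfl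
theorem F37324 : act 0 n19794 = n14538 := d5_1 D19794 (iv D14538) (iv F25378)
theorem F37325 : act 2 n19794 = n14536 := d14_1 D19794 (iv D14536) D14535
theorem F37326 : act 4 n19794 = n14809 := d19_1 D19794 (iv D14809) (iv F25379)
theorem F37327 : act 5 n19794 = n19783 := d22_2 F37298 D19794 (iv D19783) (iv F37296)
def n19795 : Q := act 2 n14537
theorem D19795 : act 2 n14537 = n19795 := rfl
def n19796 : Q := act 4 n14537
theorem D19796 : act 4 n14537 = n19796 := rfl
theorem F37328 : act 1 n19796 = n14547 := d8_1 D19796 (iv D14547) (iv F25383)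
theorem F37329 : act 3 n19796 = n14812 := d15_1 D19796 (iv D14812) (iv D11429) (iv F20048) D14537
def n19797 : Q := act 6 n14537
theorem D19797 : act 6 n14537 = n19797 := rfl
theorem F37330 : act 1 n19797 = n19797 := d10_1 D19797 (iv D19797) F25383 F20064 (iv F25383)
theorem F37331 : act 3 n19797 = n14538 := d17_1 D19797 (iv D14538) D14537
def n19798 : Q := act 5 n14538
theorem D19798 : act 5 n14538 = n19798 := rfl
theorem F37332 : act 0 n19798 = n19783 := d4_1 D19798 (iv F37327) F37324
theorem F37333 : act 2 n19798 = n14539 := d13_1 D19798 (iv D14539) (iv F25385)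
theorem F37334 : act 4 n19798 = n14814 := d18_1 D19798 (iv D14814) (iv F25386)
theorem F37335 : act 6 n19798 = n19781 := d20_2 D14538 D19798 F37298 D19794 F37327 (iv D19783) F25374
def n19799 : Q := act 1 n14539
theorem D19799 : act 1 n14539 = n19799 := rfl
theorem F37336 : act 4 n19799 = n14815 := d8_2 (iv F25388) D19799 (iv D14815)
theorem F37337 : act 5 n19799 = n19572 := d9_2 D14539 D19799 (iv D19572) (iv D14367) (iv F20049)
def n19800 : Q := act 0 n14540
theorem D19800 : act 0 n14540 = n19800 := rfl
theorem F37338 : act 2 n19800 = n15119 := d1_2 (iv F25390) D19800 (iv D15119)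
theorem F37339 : act 4 n19800 = n14821 := d3_2 (iv F25391) D19800 (iv D14821)
def n19801 : Q := act 3 n14540
theorem D19801 : act 3 n14540 = n19801 := rfl
theorem F37340 : act 1 n19801 = n14541 := d7_1 D19801 (iv D14541) D14540
theorem E10217 : n18854 = n16427 := ((c25_19 (iv F6608) D8972 D11309 D14551 F25413 (iv F37340) (iv D19801) F25390 (iv F21740) (iv F28493) (iv D16441) D16442 F28495 (iv D16235) (iv D12188) D12187 F21486 D12284 D16427 (iv D18854) F24111 (iv D10890) (iv D8026) F5882 D3852 F15629 F5905 F32903 (iv D2090) F1794 D1053 (iv F2935) D3755 (iv F16727) F6172 F3111 F15436 (iv F3015) D3882 F32928 (iv D4353) (iv F15126) F1874 (iv F1929) (iv F32813) F32812 F32810 (iv F32808) (iv D182) F178 D90 F189 F190 F32859 (iv D90) (iv F178) D182 (iv F670) D696 (iv F32812) F32813 F1929 F15024 (iv F3327) D4353 (iv F32928) (iv D3882) F16906 F16779 (iv F3111) (iv F6172) F16727 F32868 F32848 (iv D1053) (iv F1794) D2090 F3328)).symm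
theorem F37341 : act 2 n16427 = n13731 := (sb E10217 (iv D18854))
theorem E10218 : n18794 = n12283 := (c21_8 D12284 D16427 F37341 (iv D13731) (iv D10868) (iv F19278) D13702 D18794 (iv D12283))
theorem E10219 : n18809 = n12231 := (((F21657).symm.trans (sb E10218 (iv F33667)))).symm
theorem E10220 : n16230 = n13702 := (((iv F28065)).symm.trans (sb E10218 (iv D18794)))
theorem E10221 : n16185 = n13710 := (((iv F28003)).symm.trans (sb E10219 (iv D18809)))
theorem E10222 : n18792 = n12187 := (((iv F33635)).symm.trans (sb E10220 (iv D16230)))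
theorem F37342 : act 3 n13702 = n12283 := (sb E10220 F28065)
theorem E10223 : n18807 = n12164 := (((iv F33661)).symm.trans (sb E10221 (iv D16185)))
theorem F37343 : act 3 n13710 = n12231 := (sb E10221 F28003)
theorem F37344 : act 0 n12187 = n13702 := (sb E10222 F33635)
theorem E10224 : n16231 = n13701 := ((D16231).symm.trans (sb E10222 (iv D18792)))
theorem F37345 : act 0 n12164 = n13710 := (sb E10223 F33661)
theorem E10225 : n16186 = n13709 := ((D16186).symm.trans (sb E10223 (iv D18807)))
theorem F37346 : act 2 n13701 = n12187 := (sb E10224 (iv D16231))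
theorem F37347 : act 2 n13709 = n12164 := (sb E10225 (iv D16186))
theorem F37348 : act 2 n16189 = n18806 := d6_4 F37347 (iv D12164) D12165 D16189 (iv D18806)
theorem F37349 : act 2 n16187 = n18802 := d13_3 F33653 F37347 D16187
theorem F37350 : act 2 n16188 = n18808 := d14_3 (iv D18808) F37347 D16188
theorem E10226 : n18901 = n16324 := ((c21_4 F37347 F21454 D12232 D16324 (iv D18901) (iv D13753) (iv D10878) (iv F19281) D13709)).symm
theorem F37351 : act 2 n16324 = n13753 := (sb E10226 (iv D18901))
theorem F37352 : act 0 n16196 = n16219 := d23_7 F33653 F37347 (iv D12164) (iv D10006) D10008 (iv F21460) D16196 F28049 (iv D16219) (iv D12181) (iv F21468) (iv D12176) (iv D10010) D10009 (iv F21628) D13706 F24064 D13707 D18802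
theorem E10227 : n16218 = n15031 := (c1_4 (iv F28013) F37352 (iv D16219) D16218)
theorem F37353 : act 0 n15031 = n12181 := (sb E10227 (iv D16218))
theorem F37354 : act 0 n18810 = n16188 := d1_3 F37350 F33663 (iv F33668)
theorem F37355 : act 2 n18787 = n16233 := d12_3 F28071 F37350 F33665
theorem F37356 : act 0 n16233 = n18788 := d1_1 F37355 (iv D18788) D18787
theorem F37357 : act 3 n18788 = n16425 := d2_2 (iv F28070) F37356 F28465
theorem F37358 : act 3 n16322 = n18810 := d15_5 F33669 F37357 F28466 F22265 (iv F28260)
theorem F37359 : act 0 n18803 = n16187 := d1_3 F37349 (iv D18802) D18803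
theorem F37360 : act 2 n18793 = n16232 := d12_3 F28069 F37349 F33652
theorem F37361 : act 0 n16232 = n18795 := d1_1 F37360 F33639 (iv F33636)
theorem F37362 : act 3 n18795 = n16424 := d2_2 (iv F28068) F37361 F28461
theorem F37363 : act 3 n16321 = n18803 := d15_5 F33654 F37362 F28462 F22261 (iv F28258)
theorem F37364 : act 2 n18791 = n16234 := d12_3 F28072 F37348 F33660
def n19802 : Q := act 5 n14540
theorem D19802 : act 5 n14540 = n19802 := rfl
theorem F37365 : act 1 n19802 = n19802 := d9_1 D19802 (iv D19802) (iv D14540) F20056 D14540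
theorem F37366 : act 2 n19802 = n15116 := d13_1 D19802 F26339 (iv F25390)
theorem F37367 : act 4 n19802 = n14823 := d18_1 D19802 (iv D14823) (iv F25391)
def n19803 : Q := act 6 n14540
theorem D19803 : act 6 n14540 = n19803 := rfl
theorem F37368 : act 2 n19803 = n15120 := d14_1 D19803 (iv D15120) (iv F25390)
theorem F37369 : act 4 n19803 = n14824 := d19_1 D19803 (iv D14824) (iv F25391)
def n19804 : Q := act 4 n14541
theorem D19804 : act 4 n14541 = n19804 := rfl
theorem F37370 : act 0 n19804 = n14543 := d3_1 D19804 (iv D14543) (iv F25392)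
theorem F37371 : act 3 n19804 = n14825 := d15_1 D19804 (iv D14825) (iv D11435) (iv F20055) D14541
theorem F37372 : act 5 n19804 = n19804 := d18_2 F25393 D19804 (iv D19804)
def n19805 : Q := act 1 n14542
theorem D19805 : act 1 n14542 = n19805 := rfl
def n19806 : Q := act 4 n14542
theorem D19806 : act 4 n14542 = n19806 := rfl
theorem F37373 : act 2 n19806 = n14543 := d12_1 D19806 (iv D14543) D14542
theorem F37374 : act 3 n19806 = n18942 := d15_1 D19806 (iv D18942) (iv F24251) (iv F32992) F25406
theorem F37375 : act 5 n19806 = n19806 := d18_2 F25394 D19806 (iv D19806)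
def n19807 : Q := act 0 n14544
theorem D19807 : act 0 n14544 = n19807 := rfl
theorem F37376 : act 2 n19807 = n15099 := d1_2 (iv F25397) D19807 (iv D15099)
theorem F37377 : act 4 n19807 = n14833 := d3_2 (iv F25398) D19807 (iv D14833)
def n19808 : Q := act 3 n14544
theorem D19808 : act 3 n14544 = n19808 := rfl
theorem F37378 : act 1 n19808 = n14545 := d7_1 D19808 (iv D14545) D14544
def n19809 : Q := act 5 n14544
theorem D19809 : act 5 n14544 = n19809 := rfl
theorem F37379 : act 2 n19809 = n15100 := d13_1 D19809 (iv D15100) (iv F25397)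
theorem F37380 : act 4 n19809 = n14835 := d18_1 D19809 (iv D14835) (iv F25398)
def n19810 : Q := act 6 n14544
theorem D19810 : act 6 n14544 = n19810 := rfl
theorem F37381 : act 1 n19810 = n19810 := d10_1 D19810 (iv D19810) (iv D14544) F20063 D14544
theorem F37382 : act 2 n19810 = n15097 := d14_1 D19810 F26302 (iv F25397)
theorem F37383 : act 4 n19810 = n14836 := d19_1 D19810 (iv D14836) (iv F25398)
def n19811 : Q := act 4 n14545
theorem D19811 : act 4 n14545 = n19811 := rfl
theorem F37384 : act 0 n19811 = n14547 := d3_1 D19811 (iv D14547) (iv F25399)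
theorem F37385 : act 3 n19811 = n14837 := d15_1 D19811 (iv D14837) (iv D11441) (iv F20062) D14545
theorem F37386 : act 6 n19811 = n19811 := d19_2 F25400 D19811 (iv D19811)
def n19812 : Q := act 1 n14546
theorem D19812 : act 1 n14546 = n19812 := rfl
def n19813 : Q := act 4 n14546
theorem D19813 : act 4 n14546 = n19813 := rfl
theorem F37387 : act 2 n19813 = n14547 := d12_1 D19813 (iv D14547) D14546
theorem F37388 : act 3 n19813 = n18982 := d15_1 D19813 (iv D18982) (iv F24287) (iv F33004) F25419
theorem F37389 : act 6 n19813 = n19813 := d19_2 F25401 D19813 (iv D19813)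
def n19814 : Q := act 1 n14548
theorem D19814 : act 1 n14548 = n19814 := rfl
theorem F37390 : act 2 n19814 = n16524 := d6_2 D14548 D19814 (iv D16524) (iv D12334) (iv F20066)
theorem F37391 : act 3 n19814 = n19805 := d7_2 (iv F25406) D19814 (iv D19805)
theorem F37392 : act 4 n19814 = n18992 := d8_2 (iv F32992) D19814 (iv D18992)
def n19815 : Q := act 0 n14550
theorem D19815 : act 0 n14550 = n19815 := rfl
theorem F37393 : act 2 n19815 = n19815 := d1_2 F25411 D19815 (iv D19815)
theorem F37394 : act 4 n19815 = n18993 := d3_2 (iv F32993) D19815 (iv D18993)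
def n19816 : Q := act 3 n14550
theorem D19816 : act 3 n14550 = n19816 := rfl
theorem F37395 : act 1 n19816 = n14551 := d7_1 D19816 (iv D14551) D14550
def n19817 : Q := act 5 n14550
theorem D19817 : act 5 n14550 = n19817 := rfl
theorem F37396 : act 1 n19817 = n19817 := d9_1 D19817 (iv D19817) (iv D14550) F20068 D14550
theorem F37397 : act 2 n19817 = n19817 := d13_1 D19817 (iv D19817) F25411
theorem F37398 : act 4 n19817 = n18995 := d18_1 D19817 (iv D18995) (iv F32993)
def n19818 : Q := act 6 n14550
theorem D19818 : act 6 n14550 = n19818 := rfl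
theorem F37399 : act 2 n19818 = n19818 := d14_1 D19818 (iv D19818) F25411
theorem F37400 : act 4 n19818 = n18996 := d19_1 D19818 (iv D18996) (iv F32993)
def n19819 : Q := act 4 n14551
theorem D19819 : act 4 n14551 = n19819 := rfl
theorem F37401 : act 0 n19819 = n19806 := d3_1 D19819 (iv D19806) (iv F25412)
theorem F37402 : act 2 n19819 = n19804 := d12_1 D19819 (iv D19804) (iv F25413)
theorem F37403 : act 3 n19819 = n18997 := d15_1 D19819 (iv D18997) (iv D13808) F32990 D14551
theorem F37404 : act 5 n19819 = n19819 := d18_2 F25414 D19819 (iv D19819)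
def n19820 : Q := act 1 n14553
theorem D19820 : act 1 n14553 = n19820 := rfl
theorem F37405 : act 2 n19820 = n16518 := d6_2 D14553 D19820 (iv D16518) (iv D12330) (iv F20073)
theorem F37406 : act 3 n19820 = n19812 := d7_2 (iv F25419) D19820 (iv D19812)
theorem F37407 : act 4 n19820 = n19012 := d8_2 (iv F33004) D19820 (iv D19012)
def n19821 : Q := act 0 n14555
theorem D19821 : act 0 n14555 = n19821 := rfl
theorem F37408 : act 2 n19821 = n19821 := d1_2 F25424 D19821 (iv D19821)
theorem F37409 : act 4 n19821 = n19013 := d3_2 (iv F33005) D19821 (iv D19013)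
def n19822 : Q := act 3 n14555
theorem D19822 : act 3 n14555 = n19822 := rfl
theorem F37410 : act 1 n19822 = n14556 := d7_1 D19822 (iv D14556) D14555
def n19823 : Q := act 5 n14555
theorem D19823 : act 5 n14555 = n19823 := rfl
theorem F37411 : act 2 n19823 = n19823 := d13_1 D19823 (iv D19823) F25424
theorem F37412 : act 4 n19823 = n19015 := d18_1 D19823 (iv D19015) (iv F33005)
def n19824 : Q := act 6 n14555
theorem D19824 : act 6 n14555 = n19824 := rfl
theorem F37415 : act 4 n19824 = n19016 := d19_1 D19824 (iv D19016) (iv F33005)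
def n19825 : Q := act 4 n14556
theorem D19825 : act 4 n14556 = n19825 := rfl
theorem F37416 : act 0 n19825 = n19813 := d3_1 D19825 (iv D19813) (iv F25425)
theorem F37417 : act 2 n19825 = n19811 := d12_1 D19825 (iv D19811) (iv F25426)
theorem F37418 : act 3 n19825 = n19017 := d15_1 D19825 (iv D19017) (iv D13822) F32959 D14556
theorem F37419 : act 6 n19825 = n19825 := d19_2 F25427 D19825 (iv D19825)
def n19826 : Q := act 1 n14573
theorem D19826 : act 1 n14573 = n19826 := rfl
theorem F37420 : act 0 n19826 = n19305 := d0_1 D19826 (iv D19305) F35215 (iv F25177) (iv F36851) (iv F36853) F25533 F20139 (iv F25464)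
theorem F37421 : act 3 n19826 = n18664 := d7_2 F28964 D19826 (iv D18664)
theorem F37422 : act 4 n19826 = n19707 := d8_2 (iv F25466) D19826 (iv D19707)
theorem F37423 : act 5 n19826 = n14806 := d9_2 (iv F25467) D19826 (iv F36871) F37066 (iv D19696)
theorem F37424 : act 6 n19826 = n18666 := d10_2 D14573 D19826 (iv D18666) (iv D13628) F28971
def n19827 : Q := act 1 n14576
theorem D19827 : act 1 n14576 = n19827 := rfl
theorem F37425 : act 0 n19827 = n19249 := d0_1 D19827 (iv D19249) F29166 (iv F25179) (iv F36865) F36867 F25516 F20131 (iv F25469)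
theorem F37426 : act 3 n19827 = n18686 := d7_2 (iv F34538) D19827 (iv D18686)
theorem F37427 : act 4 n19827 = n19720 := d8_2 (iv F25470) D19827 (iv D19720)
theorem F37428 : act 5 n19827 = n18691 := d9_2 D14576 D19827 (iv D18691) (iv D13645) F34535
theorem F37429 : act 6 n19827 = n14756 := d10_2 (iv F25471) D19827 F26638 (iv F37075) (iv D19697)
def n19828 : Q := act 0 n14584
theorem D19828 : act 0 n14584 = n19828 := rfl
theorem F37430 : act 3 n19828 = n14606 := d2_2 (iv F25482) D19828 (iv D14606)
theorem F37431 : act 6 n19828 = n14585 := d5_2 (iv F25483) D19828 (iv D14585)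
def n19829 : Q := act 2 n14584
theorem D19829 : act 2 n14584 = n19829 := rfl
theorem F37432 : act 6 n19829 = n14586 := d14_2 (iv F25483) D19829 (iv D14586)
def n19830 : Q := act 5 n14584
theorem D19830 : act 5 n14584 = n19830 := rfl
theorem F37433 : act 3 n19830 = n14608 := d16_1 D19830 (iv D14608) (iv F25482)
def n19831 : Q := act 1 n14585
theorem D19831 : act 1 n14585 = n19831 := rfl
theorem F37434 : act 3 n19831 = n14609 := d7_2 (iv F25484) D19831 (iv D14609)
def n19832 : Q := act 2 n14585
theorem D19832 : act 2 n14585 = n19832 := rfl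
theorem F37435 : act 0 n19832 = n14586 := d1_1 D19832 (iv D14586) D14585
def n19833 : Q := act 5 n14585
theorem D19833 : act 5 n14585 = n19833 := rfl
theorem F37436 : act 0 n19833 = n14587 := d4_1 D19833 (iv D14587) D14585
theorem F37437 : act 3 n19833 = n14611 := d16_1 D19833 (iv D14611) (iv F25484)
theorem F37438 : act 6 n19833 = n19830 := d22_1 D19833 (iv D19830) F25483 D14585
theorem E10228 : n19832 = n17357 := (c23_2 (iv D19833) D19832 (iv D17357) F22454 F34240 F32917 (iv D6025) F4553 F2336 (iv D1416) (iv F2251) (iv F4342) (iv F16582) D4439 D9179 D11458 D14870 (iv F34514) (iv F25485) (iv F37436))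
theorem F37439 : act 0 n17357 = n14586 := (sb E10228 F37435)
theorem F37440 : act 2 n17357 = n14585 := (sb E10228 (iv D19832))
theorem E10229 : n19831 = n17587 := (c6_2 F37440 D19831 (iv D17587) (iv D12958) (iv F22455) D17357)
theorem F37441 : act 1 n17587 = n14585 := (sb E10229 (iv D19831))
theorem F37442 : act 3 n17587 = n14609 := (sb E10229 F37434)
theorem F37443 : act 2 n14593 = n17433 := d12_3 (iv F35491) F37440 (iv F25496)
theorem F37444 : act 0 n17433 = n14594 := d1_1 F37443 (iv D14594) D14593
theorem F37445 : act 1 n17760 = n14593 := d6_5 F37443 (iv D17433) F22529 D13042 D17760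
theorem F37446 : act 3 n14628 = n17760 := d7_0 F37445 F25495 D14628
def n19834 : Q := act 3 n14586
theorem D19834 : act 3 n14586 = n19834 := rfl
def n19835 : Q := act 5 n14586
theorem D19835 : act 5 n14586 = n19835 := rfl
theorem F37447 : act 2 n19835 = n14587 := d13_1 D19835 (iv D14587) D14586
def n19836 : Q := act 6 n14587
theorem D19836 : act 6 n14587 = n19836 := rfl
theorem F37448 : act 0 n19836 = n19830 := d5_1 D19836 (iv F37438) F37436
theorem F37449 : act 3 n19836 = n14614 := d17_1 D19836 (iv D14614) (iv F25486)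
theorem F37450 : act 5 n19836 = n19828 := d20_1 D19836 F37431 D19833 F37438 (iv D19830) F25483 D14587
def n19837 : Q := act 0 n14592
theorem D19837 : act 0 n14592 = n19837 := rfl
theorem F37451 : act 3 n19837 = n14625 := d2_2 (iv F25492) D19837 (iv D14625)
theorem F37452 : act 4 n19837 = n19833 := d3_2 (iv F25493) D19837 F37436
theorem F37453 : act 5 n19837 = n14593 := d4_2 (iv F25494) D19837 (iv D14593)
def n19838 : Q := act 2 n14592
theorem D19838 : act 2 n14592 = n19838 := rfl
theorem F37454 : act 4 n19838 = n19835 := d12_2 (iv F25493) D19838 F37447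
theorem F37455 : act 5 n19838 = n14594 := d13_2 (iv F25494) D19838 (iv D14594)
def n19839 : Q := act 6 n14592
theorem D19839 : act 6 n14592 = n19839 := rfl
theorem F37456 : act 3 n19839 = n14627 := d17_1 D19839 (iv D14627) (iv F25492)
theorem F37457 : act 4 n19839 = n19836 := d19_1 D19839 (iv D19836) (iv F25493)
def n19840 : Q := act 6 n14593
theorem D19840 : act 6 n14593 = n19840 := rfl
theorem F37458 : act 0 n19840 = n14595 := d5_1 D19840 (iv D14595) D14593
theorem F37459 : act 3 n19840 = n14630 := d17_1 D19840 (iv D14630) (iv F25495)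
theorem F37460 : act 4 n19840 = n19828 := d19_1 D19840 F37431 (iv F25496)
theorem F37461 : act 5 n19840 = n19839 := d22_2 F37453 D19840 (iv D19839) D19837
def n19841 : Q := act 3 n14594
theorem D19841 : act 3 n14594 = n19841 := rfl
theorem F37462 : act 1 n19841 = n19834 := d7_1 D19841 (iv D19834) (iv F25497)
def n19842 : Q := act 6 n14594
theorem D19842 : act 6 n14594 = n19842 := rfl
theorem F37463 : act 2 n19842 = n14595 := d14_1 D19842 (iv D14595) D14594
theorem F37464 : act 4 n19842 = n19829 := d19_1 D19842 F37432 (iv F25498)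
def n19843 : Q := act 5 n14595
theorem D19843 : act 5 n14595 = n19843 := rfl
theorem F37465 : act 0 n19843 = n19839 := d4_1 D19843 (iv F37461) F37458
theorem F37466 : act 3 n19843 = n14633 := d16_1 D19843 (iv D14633) (iv F25500)
theorem F37467 : act 4 n19843 = n19830 := d18_1 D19843 (iv D19830) (iv F25501)
theorem F37468 : act 6 n19843 = n19837 := d20_2 D14595 D19843 F37453 D19840 F37461 (iv D19839) F25494
def n19844 : Q := act 6 n14600
theorem D19844 : act 6 n14600 = n19844 := rfl
theorem F37469 : act 2 n19844 = n19248 := d14_1 D19844 (iv D19248) (iv F29160)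
theorem F37470 : act 3 n19844 = n19122 := d17_1 D19844 (iv D19122) (iv F29162)
theorem F37471 : act 5 n19844 = n19582 := d22_2 F29161 D19844 (iv D19582) (iv F29143)
def n19845 : Q := act 4 n14601
theorem D19845 : act 4 n14601 = n19845 := rfl
theorem F37472 : act 0 n19845 = n14603 := d3_1 D19845 (iv D14603) (iv F25506)
theorem F37473 : act 1 n19845 = n18823 := d8_1 D19845 F33697 F29163
theorem F37474 : act 2 n19845 = n18185 := d12_1 D19845 F31804 F29236
theorem F37475 : act 5 n19845 = n14733 := d18_2 (iv F25507) D19845 (iv D14733)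
def n19846 : Q := act 6 n14603
theorem D19846 : act 6 n14603 = n19846 := rfl
theorem F37476 : act 2 n19846 = n18186 := d14_1 D19846 (iv D18186) F29021
theorem F37477 : act 4 n19846 = n14604 := d19_1 D19846 (iv D14604) D14603
def n19847 : Q := act 1 n14604
theorem D19847 : act 1 n14604 = n19847 := rfl
theorem F37478 : act 3 n19847 = n14605 := d7_2 (iv F25511) D19847 (iv D14605)
theorem F37479 : act 6 n19847 = n15193 := d10_2 D14604 D19847 (iv D15193) (iv D11635) (iv F20126)
def n19848 : Q := act 0 n14605
theorem D19848 : act 0 n14605 = n19848 := rfl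
theorem F37480 : act 6 n19848 = n15194 := d5_2 (iv F25512) D19848 (iv D15194)
def n19849 : Q := act 2 n14605
theorem D19849 : act 2 n14605 = n19849 := rfl
theorem F37481 : act 1 n19849 = n14607 := d6_1 D19849 (iv D14607) (iv D11340) (iv F20128) D14605
theorem F37482 : act 6 n19849 = n15195 := d14_2 (iv F25512) D19849 (iv D15195)
def n19850 : Q := act 5 n14605
theorem D19850 : act 5 n14605 = n19850 := rfl
def n19851 : Q := act 1 n14606
theorem D19851 : act 1 n14606 = n19851 := rfl
def n19852 : Q := act 2 n14606
theorem D19852 : act 2 n14606 = n19852 := rfl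
theorem F37483 : act 0 n19852 = n14607 := d1_1 D19852 (iv D14607) D14606
theorem F37484 : act 6 n19852 = n14610 := d14_2 (iv F25513) D19852 (iv D14610)
def n19853 : Q := act 3 n14607
theorem D19853 : act 3 n14607 = n19853 := rfl
theorem F37485 : act 6 n19853 = n14612 := d17_2 (iv F25514) D19853 (iv D14612)
def n19854 : Q := act 5 n14607
theorem D19854 : act 5 n14607 = n19854 := rfl
theorem F37486 : act 2 n19854 = n14608 := d13_1 D19854 (iv D14608) D14607
def n19855 : Q := act 0 n14609
theorem D19855 : act 0 n14609 = n19855 := rfl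
theorem F37487 : act 6 n19653 = n19855 := d22_3 F36981 (iv D19658) (iv F36970) (iv D19855)
def n19856 : Q := act 2 n14609
theorem D19856 : act 2 n14609 = n19856 := rfl
def n19857 : Q := act 6 n14609
theorem D19857 : act 6 n14609 = n19857 := rfl
theorem F37488 : act 0 n19857 = n19653 := d5_1 D19857 F37487 (iv D19855)
theorem F37489 : act 3 n19857 = n17626 := d17_1 D19857 F35417 F37442
theorem F37490 : act 5 n19857 = n19656 := d24_1 D19857 F36978 (iv D16615) (iv F26417) F29167 (iv F25677) (iv D14727) D14726 F25675 D14738 F25685 (iv F25517) (iv D14611) D14609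
def n19858 : Q := act 1 n14610
theorem D19858 : act 1 n14610 = n19858 := rfl
def n19859 : Q := act 3 n14610
theorem D19859 : act 3 n14610 = n19859 := rfl
theorem F37491 : act 0 n19859 = n14612 := d2_1 D19859 (iv D14612) (iv F25515)
def n19860 : Q := act 5 n14610
theorem D19860 : act 5 n14610 = n19860 := rfl
theorem F37492 : act 0 n19860 = n14613 := d4_1 D19860 (iv D14613) (iv F25515)
theorem F37493 : act 2 n19860 = n14611 := d13_1 D19860 (iv D14611) D14610
theorem F37494 : act 6 n19860 = n19854 := d22_1 D19860 (iv D19854) F25514 (iv F25515)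
def n19861 : Q := act 2 n14612
theorem D19861 : act 2 n14612 = n19861 := rfl
def n19862 : Q := act 4 n14612
theorem D19862 : act 4 n14612 = n19862 := rfl
theorem F37495 : act 1 n19862 = n15206 := d8_1 D19862 (iv D15206) (iv F25518)
def n19863 : Q := act 5 n14612
theorem D19863 : act 5 n14612 = n19863 := rfl
theorem F37496 : act 3 n19863 = n14613 := d16_1 D19863 (iv D14613) D14612
def n19864 : Q := act 6 n14613
theorem D19864 : act 6 n14613 = n19864 := rfl
theorem F37497 : act 0 n19864 = n19854 := d5_1 D19864 (iv F37494) F37492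
theorem F37498 : act 2 n19864 = n14614 := d14_1 D19864 (iv D14614) (iv F25519)
theorem F37499 : act 5 n19864 = n19852 := d20_1 D19864 F37484 D19860 F37494 (iv D19854) F25514 D14613
def n19865 : Q := act 1 n14614
theorem D19865 : act 1 n14614 = n19865 := rfl
theorem F37500 : act 6 n19865 = n16716 := d10_2 D14614 D19865 (iv D16716) (iv F34722) (iv F20131)
theorem F37501 : act 0 n19652 = n19865 := d5_3 F37500 F37076 D19652
def n19866 : Q := act 5 n14619
theorem D19866 : act 5 n14619 = n19866 := rfl
theorem F37502 : act 2 n19866 = n19307 := d13_1 D19866 (iv D19307) (iv F34567)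
theorem F37503 : act 3 n19866 = n19192 := d16_1 D19866 (iv D19192) (iv F34565)
theorem F37504 : act 6 n19866 = n19583 := d22_1 D19866 (iv D19583) (iv F36774) F36772
def n19867 : Q := act 4 n14620
theorem D19867 : act 4 n14620 = n19867 := rfl
theorem F37505 : act 0 n19867 = n14622 := d3_1 D19867 (iv D14622) (iv F25523)
theorem F37506 : act 1 n19867 = n18871 := d8_1 D19867 F33785 F34564
theorem F37507 : act 2 n19867 = n18187 := d12_1 D19867 F31806 (iv F34454)
theorem F37508 : act 6 n19867 = n14782 := d19_2 (iv F25524) D19867 (iv D14782)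
def n19868 : Q := act 5 n14622
theorem D19868 : act 5 n14622 = n19868 := rfl
theorem F37509 : act 2 n19868 = n18189 := d13_1 D19868 (iv D18189) (iv F34455)
theorem F37510 : act 4 n19868 = n14623 := d18_1 D19868 (iv D14623) D14622
def n19869 : Q := act 1 n14623
theorem D19869 : act 1 n14623 = n19869 := rfl
theorem F37511 : act 3 n19869 = n14624 := d7_2 (iv F25528) D19869 (iv D14624)
theorem F37512 : act 5 n19869 = n15226 := d9_2 D14623 D19869 (iv D15226) (iv D11654) (iv F20134)
def n19870 : Q := act 0 n14624
theorem D19870 : act 0 n14624 = n19870 := rfl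
theorem F37513 : act 5 n19870 = n15227 := d4_2 (iv F25529) D19870 (iv D15227)
def n19871 : Q := act 2 n14624
theorem D19871 : act 2 n14624 = n19871 := rfl
theorem F37514 : act 1 n19871 = n14626 := d6_1 D19871 (iv D14626) (iv D11348) (iv F20136) D14624
theorem F37515 : act 5 n19871 = n15228 := d13_2 (iv F25529) D19871 (iv D15228)
def n19872 : Q := act 6 n14624
theorem D19872 : act 6 n14624 = n19872 := rfl
def n19873 : Q := act 1 n14625
theorem D19873 : act 1 n14625 = n19873 := rfl
def n19874 : Q := act 2 n14625
theorem D19874 : act 2 n14625 = n19874 := rfl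
theorem F37516 : act 0 n19874 = n14626 := d1_1 D19874 (iv D14626) D14625
theorem F37517 : act 5 n19874 = n14629 := d13_2 (iv F25530) D19874 (iv D14629)
def n19875 : Q := act 3 n14626
theorem D19875 : act 3 n14626 = n19875 := rfl
theorem F37518 : act 5 n19875 = n14631 := d16_2 (iv F25531) D19875 (iv D14631)
def n19876 : Q := act 6 n14626
theorem D19876 : act 6 n14626 = n19876 := rfl
theorem F37519 : act 2 n19876 = n14627 := d14_1 D19876 (iv D14627) D14626
def n19877 : Q := act 0 n14628
theorem D19877 : act 0 n14628 = n19877 := rfl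
theorem F37520 : act 1 n19877 = n19855 := d0_2 D14628 D19877 (iv D19855) (iv D14609) (iv D11341) (iv D9067) (iv F6692) D9071 D11349
theorem F37521 : act 5 n19877 = n19645 := d22_0 F36959 D19649 (iv F36966) D19877
def n19878 : Q := act 2 n14628
theorem D19878 : act 2 n14628 = n19878 := rfl
def n19879 : Q := act 5 n14628
theorem D19879 : act 5 n14628 = n19879 := rfl
theorem F37522 : act 0 n19879 = n19645 := d4_1 D19879 (iv F37521) (iv D19877)
theorem F37523 : act 3 n19879 = n17802 := d16_1 D19879 F35420 (iv F37446)
theorem F37524 : act 6 n19879 = n19647 := d22_3 D19649 (iv F36966) D19879 (iv D19647)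
def n19880 : Q := act 1 n14629
theorem D19880 : act 1 n14629 = n19880 := rfl
def n19881 : Q := act 3 n14629
theorem D19881 : act 3 n14629 = n19881 := rfl
theorem F37525 : act 0 n19881 = n14631 := d2_1 D19881 (iv D14631) (iv F25532)
def n19882 : Q := act 6 n14629
theorem D19882 : act 6 n14629 = n19882 := rfl
theorem F37526 : act 0 n19882 = n14632 := d5_1 D19882 (iv D14632) (iv F25532)
theorem F37527 : act 2 n19882 = n14630 := d14_1 D19882 (iv D14630) D14629
theorem F37528 : act 5 n19882 = n19876 := d22_2 F37517 D19882 (iv D19876) (iv F37516)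
def n19883 : Q := act 2 n14631
theorem D19883 : act 2 n14631 = n19883 := rfl
def n19884 : Q := act 4 n14631
theorem D19884 : act 4 n14631 = n19884 := rfl
theorem F37529 : act 1 n19884 = n15239 := d8_1 D19884 (iv D15239) (iv F25535)
def n19885 : Q := act 6 n14631
theorem D19885 : act 6 n14631 = n19885 := rfl
theorem F37530 : act 3 n19885 = n14632 := d17_1 D19885 (iv D14632) D14631
def n19886 : Q := act 5 n14632
theorem D19886 : act 5 n14632 = n19886 := rfl
theorem F37531 : act 0 n19886 = n19876 := d4_1 D19886 (iv F37528) F37526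
theorem F37532 : act 2 n19886 = n14633 := d13_1 D19886 (iv D14633) (iv F25536)
theorem F37533 : act 6 n19886 = n19874 := d20_2 D14632 D19886 F37517 D19882 F37528 (iv D19876) F25531
def n19887 : Q := act 1 n14633
theorem D19887 : act 1 n14633 = n19887 := rfl
theorem F37534 : act 5 n19887 = n16655 := d9_2 D14633 D19887 (iv D16655) F21876 (iv F20139)
theorem F37535 : act 0 n19661 = n19887 := d4_3 F37534 F37068 D19661
def n19888 : Q := act 1 n14654
theorem D19888 : act 1 n14654 = n19888 := rfl
theorem F37536 : act 2 n19888 = n15754 := d6_2 F29223 D19888 (iv D15754) (iv F27010) F35002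
theorem F37537 : act 3 n19888 = n16655 := d7_2 (iv F25582) D19888 (iv D16655)
theorem F37538 : act 4 n19888 = n14679 := d8_2 (iv F25583) D19888 (iv D14679)
theorem F37539 : act 6 n19888 = n19360 := d10_2 D14654 D19888 (iv D19360) (iv D14103) F28972
theorem F37540 : act 0 n19643 = n19888 := d2_3 F37537 F37068 (iv F36953)
theorem F37541 : act 2 n15805 = n19643 := d1_0 F37540 F37536 F36501
theorem F37542 : act 6 n15803 = n19643 := d5_0 F37540 F37539 F36505
theorem F37543 : act 1 n14694 = n15803 := d10_5 F37542 (iv D19643) (iv D14436) (iv F20173) D14694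
theorem F37544 : act 3 n14766 = n15803 := d17_3 F37542 F36953 (iv F25713)
theorem F37545 : act 2 n15806 = n14694 := d6_0 F37543 (iv D15803) (iv D11965) D11966 D15806
theorem F37546 : act 6 n14693 = n15806 := d14_0 F37545 (iv D14694) (iv F25638)
def n19889 : Q := act 0 n14657
theorem D19889 : act 0 n14657 = n19889 := rfl
theorem F37547 : act 3 n19889 = n15258 := d2_2 F37063 D19889 (iv F37067)
theorem F37548 : act 4 n19889 = n14685 := d3_2 (iv F25587) D19889 (iv D14685)
theorem F37549 : act 6 n19889 = n14659 := d5_2 (iv F25588) D19889 (iv D14659)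
theorem F37550 : act 5 n19889 = n15257 := d22_0 F35315 (iv D14661) (iv F25588) D19889
def n19890 : Q := act 2 n14657
theorem D19890 : act 2 n14657 = n19890 := rfl
theorem F37551 : act 4 n19890 = n14686 := d12_2 (iv F25587) D19890 (iv D14686)
theorem F37552 : act 6 n19890 = n14660 := d14_2 (iv F25588) D19890 (iv D14660)
def n19891 : Q := act 5 n14657
theorem D19891 : act 5 n14657 = n19891 := rfl
theorem F37553 : act 0 n19891 = n15257 := d4_1 D19891 (iv F37550) (iv D19889)
theorem F37554 : act 1 n19891 = n18669 := d9_1 D19891 F34887 (iv D18664) F28966 D14657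
theorem F37555 : act 3 n19891 = n15255 := d16_1 D19891 F37066 F37063
theorem F37556 : act 4 n19891 = n14687 := d18_1 D19891 (iv D14687) (iv F25587)
def n19892 : Q := act 1 n14659
theorem D19892 : act 1 n14659 = n19892 := rfl
theorem F37557 : act 3 n19892 = n16758 := d7_2 (iv F35320) D19892 (iv D16758)
theorem F37558 : act 4 n19892 = n14689 := d8_2 (iv F25593) D19892 (iv D14689)
def n19893 : Q := act 2 n14659
theorem D19893 : act 2 n14659 = n19893 := rfl
theorem F37559 : act 0 n19893 = n14660 := d1_1 D19893 (iv D14660) D14659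
theorem F37560 : act 4 n19893 = n14690 := d12_2 (iv F25593) D19893 (iv D14690)
def n19894 : Q := act 5 n14659
theorem D19894 : act 5 n14659 = n19894 := rfl
theorem F37561 : act 0 n19894 = n14661 := d4_1 D19894 (iv D14661) D14659
theorem F37562 : act 3 n19894 = n14810 := d16_1 D19894 F36880 (iv F35320)
theorem F37563 : act 4 n19894 = n14691 := d18_1 D19894 (iv D14691) (iv F25593)
theorem F37564 : act 6 n19894 = n19891 := d20_2 F37549 D19894 (iv D19891) F25588 D14661 (iv F35315) (iv F37550)
theorem F37565 : act 1 n14714 = n19894 := d10_5 F37564 F37554 F34884 (iv D14712) D14714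
def n19895 : Q := act 3 n14660
theorem D19895 : act 3 n14660 = n19895 := rfl
def n19896 : Q := act 5 n14660
theorem D19896 : act 5 n14660 = n19896 := rfl
theorem F37566 : act 2 n19896 = n14661 := d13_1 D19896 (iv D14661) D14660
theorem F37567 : act 4 n19896 = n14693 := d18_1 D19896 (iv D14693) (iv F25594)
def n19897 : Q := act 1 n14664
theorem D19897 : act 1 n14664 = n19897 := rfl
theorem F37568 : act 2 n19897 = n15627 := d6_2 (iv F34499) D19897 (iv D15627) (iv F26872) (iv F35011)
theorem F37569 : act 3 n19897 = n16716 := d7_2 (iv F34721) D19897 (iv D16716)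
theorem F37570 : act 4 n19897 = n14702 := d8_2 (iv F25602) D19897 (iv D14702)
theorem F37571 : act 5 n19897 = n19398 := d9_2 D14664 D19897 (iv D19398) (iv D14162) F34495
theorem F37572 : act 0 n19638 = n19897 := d2_3 F37569 F37076 (iv F36940)
theorem F37573 : act 2 n15676 = n19638 := d1_0 F37572 F37568 F36523
theorem F37574 : act 5 n15675 = n19638 := d4_0 F37572 F37571 F36527
theorem F37575 : act 1 n14717 = n15675 := d9_5 F37574 (iv D19638) (iv D14430) (iv F20187) D14717
theorem F37576 : act 3 n14815 = n15675 := d16_3 F37574 F36940 (iv F25758)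
theorem F37577 : act 2 n15678 = n14717 := d6_0 F37575 (iv D15675) (iv D11904) D11905 D15678
theorem F37578 : act 5 n14716 = n15678 := d13_0 F37577 (iv D14717) (iv F25664)
def n19898 : Q := act 0 n14667
theorem D19898 : act 0 n14667 = n19898 := rfl
theorem F37579 : act 3 n19898 = n15296 := d2_2 F37071 D19898 (iv F37074)
theorem F37580 : act 4 n19898 = n14708 := d3_2 (iv F25606) D19898 (iv D14708)
theorem F37581 : act 5 n19898 = n14669 := d4_2 (iv F25607) D19898 (iv D14669)
theorem F37582 : act 6 n15295 = n19898 := d22_3 F25607 D14671 (iv F35303) (iv D19898)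
def n19899 : Q := act 2 n14667
theorem D19899 : act 2 n14667 = n19899 := rfl
theorem F37583 : act 4 n19899 = n14709 := d12_2 (iv F25606) D19899 (iv D14709)
theorem F37584 : act 5 n19899 = n14670 := d13_2 (iv F25607) D19899 (iv D14670)
def n19900 : Q := act 6 n14667
theorem D19900 : act 6 n14667 = n19900 := rfl
theorem F37585 : act 0 n19900 = n15295 := d5_1 D19900 F37582 (iv D19898)
theorem F37586 : act 1 n19900 = n18694 := d10_1 D19900 (iv F35202) (iv D18686) F34517 D14667
theorem F37587 : act 3 n19900 = n15294 := d17_1 D19900 (iv F37075) F37071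
theorem F37588 : act 4 n19900 = n14710 := d19_1 D19900 (iv D14710) (iv F25606)
def n19901 : Q := act 1 n14669
theorem D19901 : act 1 n14669 = n19901 := rfl
theorem F37589 : act 3 n19901 = n16683 := d7_2 (iv F35325) D19901 (iv D16683)
theorem F37590 : act 4 n19901 = n14712 := d8_2 (iv F25612) D19901 (iv D14712)
def n19902 : Q := act 2 n14669
theorem D19902 : act 2 n14669 = n19902 := rfl
theorem F37591 : act 0 n19902 = n14670 := d1_1 D19902 (iv D14670) D14669
theorem F37592 : act 4 n19902 = n14713 := d12_2 (iv F25612) D19902 (iv D14713)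
def n19903 : Q := act 6 n14669
theorem D19903 : act 6 n14669 = n19903 := rfl
theorem F37593 : act 0 n19903 = n14671 := d5_1 D19903 (iv D14671) D14669
theorem F37594 : act 3 n19903 = n14761 := d17_1 D19903 F25706 (iv F35325)
theorem F37595 : act 4 n19903 = n14714 := d19_1 D19903 (iv D14714) (iv F25612)
theorem F37596 : act 5 n19903 = n19900 := d20_1 D19903 (iv D19900) F25607 D14671 (iv F35303) F37582 F37581
theorem F37597 : act 1 n14691 = n19903 := d9_5 F37596 F37586 (iv F33452) (iv D14689) D14691
def n19904 : Q := act 3 n14670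
theorem D19904 : act 3 n14670 = n19904 := rfl
def n19905 : Q := act 6 n14670
theorem D19905 : act 6 n14670 = n19905 := rfl
theorem F37598 : act 2 n19905 = n14671 := d14_1 D19905 (iv D14671) D14670
theorem F37599 : act 4 n19905 = n14716 := d19_1 D19905 (iv D14716) (iv F25613)
def n19906 : Q := act 0 n14679
theorem D19906 : act 0 n14679 = n19906 := rfl
theorem F37600 : act 2 n19906 = n15756 := d1_2 (iv F35001) D19906 (iv D15756)
theorem F37601 : act 3 n19906 = n14736 := d2_2 (iv F25623) D19906 (iv D14736)
theorem F37602 : act 4 n19906 = n19643 := d3_2 F37538 D19906 F37540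
theorem F37603 : act 1 n19633 = n19906 := d8_3 F37602 (iv D19643) (iv F36927)
def n19907 : Q := act 5 n14679
theorem D19907 : act 5 n14679 = n19907 := rfl
theorem F37604 : act 1 n19907 = n19830 := d9_1 D19907 (iv D19830) (iv D14584) (iv F20165) D14679
theorem F37605 : act 2 n19907 = n15747 := d13_1 D19907 F27274 (iv F35001)
theorem F37606 : act 3 n19907 = n14738 := d16_1 D19907 (iv D14738) (iv F25623)
def n19908 : Q := act 6 n14681
theorem D19908 : act 6 n14681 = n19908 := rfl
theorem F37607 : act 2 n19908 = n18725 := d14_1 D19908 F33517 F33486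
theorem F37608 : act 4 n19908 = n14682 := d19_1 D19908 (iv D14682) D14681
theorem F37609 : act 5 n19908 = n18724 := d22_2 F33509 D19908 (iv D18724) (iv F33507)
def n19909 : Q := act 1 n14682
theorem D19909 : act 1 n14682 = n19909 := rfl
theorem F37610 : act 3 n19909 = n14683 := d7_2 (iv F25624) D19909 (iv D14683)
theorem F37611 : act 6 n19909 = n18338 := d10_2 D14682 D19909 (iv D18338) F23567 F28803
def n19910 : Q := act 2 n14683
theorem D19910 : act 2 n14683 = n19910 := rfl
theorem F37612 : act 0 n19910 = n15813 := d1_1 D19910 (iv F32893) F34997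
theorem F37613 : act 1 n19910 = n14686 := d6_1 D19910 (iv D14686) (iv D11373) (iv F20166) D14683
theorem F37614 : act 6 n19910 = n15843 := d14_2 (iv F34996) D19910 (iv F32891)
def n19911 : Q := act 5 n14683
theorem D19911 : act 5 n14683 = n19911 := rfl
theorem F37615 : act 4 n19911 = n17418 := d18_1 D19911 F30538 F34998
theorem F37616 : act 6 n19911 = n17416 := d22_1 D19911 (iv D17416) D17417 F34997
def n19912 : Q := act 1 n14685
theorem D19912 : act 1 n14685 = n19912 := rfl
theorem F37617 : act 3 n19912 = n14746 := d7_2 (iv F25628) D19912 (iv D14746)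
def n19913 : Q := act 2 n14685
theorem D19913 : act 2 n14685 = n19913 := rfl
theorem F37618 : act 0 n19913 = n14686 := d1_1 D19913 (iv D14686) D14685
theorem F37619 : act 5 n19913 = n15806 := d13_2 F25641 D19913 F37545
theorem F37620 : act 6 n19913 = n14690 := d14_2 (iv F25629) D19913 (iv D14690)
def n19914 : Q := act 3 n14686
theorem D19914 : act 3 n14686 = n19914 := rfl
theorem F37621 : act 6 n19914 = n14692 := d17_2 (iv F25630) D19914 (iv D14692)
def n19915 : Q := act 5 n14686
theorem D19915 : act 5 n14686 = n19915 := rfl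
theorem F37622 : act 0 n19915 = n15806 := d4_1 D19915 (iv F37619) F37618
theorem F37623 : act 2 n19915 = n14687 := d13_1 D19915 (iv D14687) D14686
def n19916 : Q := act 1 n14687
theorem D19916 : act 1 n14687 = n19916 := rfl
theorem F37624 : act 0 n19916 = n18670 := d0_1 D19916 F33407 F23913 (iv F34889) F24624 D19360 F36505 (iv F37543) F25639
theorem F37625 : act 3 n19916 = n14750 := d7_2 (iv F25631) D19916 (iv D14750)
theorem F37626 : act 4 n19916 = n18669 := d8_2 F37556 D19916 (iv F37554)
theorem F37627 : act 5 n19916 = n14688 := d9_2 D14687 D19916 (iv D14688) (iv D11374) D11373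
theorem F37628 : act 6 n19916 = n19901 := d10_2 F25637 D19916 (iv D19901) D19903 (iv F37597)
theorem F37629 : act 2 n19376 = n19916 := d13_3 F37627 (iv F33041) (iv F36224)
def n19917 : Q := act 0 n14688
theorem D19917 : act 0 n14688 = n19917 := rfl
theorem F37630 : act 2 n19917 = n19377 := d1_2 F33041 D19917 F36225
theorem F37631 : act 3 n19917 = n14751 := d2_2 (iv F25632) D19917 (iv D14751)
theorem F37632 : act 4 n19917 = n18671 := d3_2 F33392 D19917 (iv F34888)
theorem F37633 : act 5 n19917 = n18670 := d4_2 F37627 D19917 (iv F37624)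
theorem F37634 : act 1 n19390 = n19917 := d9_5 F37633 F33407 F23915 (iv F24703) D19390
theorem F37635 : act 1 n14751 = n19307 := d7_3 (iv F36268) F37634 F37631
def n19918 : Q := act 2 n14689
theorem D19918 : act 2 n14689 = n19918 := rfl
theorem F37636 : act 0 n19918 = n14890 := d1_1 D19918 (iv F34878) F34877
theorem F37637 : act 5 n19918 = n14887 := d13_2 (iv F33452) D19918 (iv F33450)
def n19919 : Q := act 1 n14690
theorem D19919 : act 1 n14690 = n19919 := rfl
def n19920 : Q := act 3 n14690
theorem D19920 : act 3 n14690 = n19920 := rfl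
theorem F37638 : act 0 n19920 = n14692 := d2_1 D19920 (iv D14692) (iv F25634)
def n19921 : Q := act 5 n14690
theorem D19921 : act 5 n14690 = n19921 := rfl
theorem F37639 : act 0 n19921 = n14693 := d4_1 D19921 (iv D14693) (iv F25634)
theorem F37640 : act 2 n19921 = n14691 := d13_1 D19921 (iv D14691) D14690
theorem F37641 : act 6 n19921 = n19915 := d20_2 F37620 D19921 (iv D19915) F25630 D14693 F37546 (iv F37619)
def n19922 : Q := act 2 n14692
theorem D19922 : act 2 n14692 = n19922 := rfl
def n19923 : Q := act 4 n14692
theorem D19923 : act 4 n14692 = n19923 := rfl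
def n19924 : Q := act 5 n14692
theorem D19924 : act 5 n14692 = n19924 := rfl
theorem F37642 : act 3 n19924 = n14693 := d16_1 D19924 (iv D14693) D14692
def n19925 : Q := act 1 n14693
theorem D19925 : act 1 n14693 = n19925 := rfl
theorem F37643 : act 2 n19925 = n19641 := d6_2 (iv F25638) D19925 (iv D19641) F25205 (iv F20173)
theorem F37644 : act 5 n19925 = n19407 := d9_2 D14693 D19925 F36489 F33192 F23800
theorem F37645 : act 0 n19925 = n19409 := d23_3 D11377 (iv F25638) D19925 (iv D19409) (iv F24922) (iv D14267) F32620 (iv F32619) (iv D11154) (iv F18233) F18232 F16836 D9194 D11469 D14887 (iv F37637) (iv D19918) (iv D14689) (iv D11375)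
def n19926 : Q := act 0 n14702
theorem D19926 : act 0 n14702 = n19926 := rfl
theorem F37646 : act 2 n19926 = n15631 := d1_2 (iv F35380) D19926 (iv D15631)
theorem F37647 : act 3 n19926 = n14785 := d2_2 (iv F25649) D19926 (iv D14785)
theorem F37648 : act 4 n19926 = n19638 := d3_2 F37570 D19926 F37572
theorem F37649 : act 1 n19628 = n19926 := d8_3 F37648 (iv D19638) (iv F36909)
def n19927 : Q := act 6 n14702
theorem D19927 : act 6 n14702 = n19927 := rfl
theorem F37650 : act 1 n19927 = n19839 := d10_1 D19927 (iv D19839) (iv D14592) (iv F20179) D14702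
theorem F37651 : act 2 n19927 = n15621 := d14_1 D19927 F27118 (iv F35380)
theorem F37652 : act 3 n19927 = n14787 := d17_1 D19927 (iv D14787) (iv F25649)
def n19928 : Q := act 5 n14704
theorem D19928 : act 5 n14704 = n19928 := rfl
theorem F37653 : act 2 n19928 = n18731 := d13_1 D19928 F33528 (iv F35366)
theorem F37654 : act 4 n19928 = n14705 := d18_1 D19928 (iv D14705) D14704
theorem F37655 : act 6 n19928 = n18730 := d22_1 D19928 (iv D18730) (iv F33497) F35367
def n19929 : Q := act 1 n14705
theorem D19929 : act 1 n14705 = n19929 := rfl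
theorem F37656 : act 3 n19929 = n14706 := d7_2 (iv F25650) D19929 (iv D14706)
theorem F37657 : act 5 n19929 = n18351 := d9_2 D14705 D19929 (iv D18351) F23574 F34465
def n19930 : Q := act 2 n14706
theorem D19930 : act 2 n14706 = n19930 := rfl
theorem F37658 : act 0 n19930 = n15685 := d1_1 D19930 (iv F32508) (iv F35184)
theorem F37659 : act 1 n19930 = n14709 := d6_1 D19930 (iv D14709) (iv D11383) (iv F20180) D14706
theorem F37660 : act 5 n19930 = n15715 := d13_2 (iv F35185) D19930 (iv F32509)
def n19931 : Q := act 6 n14706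
theorem D19931 : act 6 n14706 = n19931 := rfl
theorem F37661 : act 1 n19931 = n19911 := d10_1 D19931 F37616 (iv F34480) (iv D14707) D14706
theorem F37662 : act 4 n19931 = n17342 := d19_1 D19931 F30418 F34983
theorem F37663 : act 5 n19931 = n17340 := d22_2 (iv F35185) D19931 (iv D17340) (iv F30404)
def n19932 : Q := act 1 n14708
theorem D19932 : act 1 n14708 = n19932 := rfl
theorem F37664 : act 3 n19932 = n14795 := d7_2 (iv F25654) D19932 (iv D14795)
def n19933 : Q := act 2 n14708
theorem D19933 : act 2 n14708 = n19933 := rfl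
theorem F37665 : act 0 n19933 = n14709 := d1_1 D19933 (iv D14709) D14708
theorem F37666 : act 5 n19933 = n14713 := d13_2 (iv F25655) D19933 (iv D14713)
theorem F37667 : act 6 n19933 = n15678 := d14_2 F25667 D19933 F37577
def n19934 : Q := act 3 n14709
theorem D19934 : act 3 n14709 = n19934 := rfl
theorem F37668 : act 5 n19934 = n14715 := d16_2 (iv F25656) D19934 (iv D14715)
def n19935 : Q := act 6 n14709
theorem D19935 : act 6 n14709 = n19935 := rfl
theorem F37669 : act 0 n19935 = n15678 := d5_1 D19935 (iv F37667) F37665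
theorem F37670 : act 2 n19935 = n14710 := d14_1 D19935 (iv D14710) D14709
def n19936 : Q := act 1 n14710
theorem D19936 : act 1 n14710 = n19936 := rfl
theorem F37671 : act 0 n19936 = n18695 := d0_1 D19936 F33453 F23948 D14111 F34871 D19398 F36527 (iv F37575) F25665
theorem F37672 : act 3 n19936 = n14799 := d7_2 (iv F25657) D19936 (iv D14799)
theorem F37673 : act 4 n19936 = n18694 := d8_2 F37588 D19936 (iv F37586)
theorem F37674 : act 5 n19936 = n19892 := d9_2 F25663 D19936 (iv D19892) D19894 (iv F37565)
theorem F37675 : act 6 n19936 = n14711 := d10_2 D14710 D19936 (iv D14711) (iv D11384) D11383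
theorem F37676 : act 2 n19412 = n19936 := d14_3 F37675 (iv F35362) F36326
def n19937 : Q := act 0 n14711
theorem D19937 : act 0 n14711 = n19937 := rfl
theorem F37677 : act 2 n19937 = n19413 := d1_2 F35362 D19937 F36327
theorem F37678 : act 3 n19937 = n14800 := d2_2 (iv F25658) D19937 (iv D14800)
theorem F37679 : act 4 n19937 = n18697 := d3_2 F35363 D19937 F35203
theorem F37680 : act 6 n19937 = n18695 := d5_2 F37675 D19937 (iv F37671)
theorem F37681 : act 1 n19350 = n19937 := d10_5 F37680 F33453 F23951 (iv F24596) D19350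
theorem F37682 : act 1 n14800 = n19248 := d7_3 (iv F36150) F37681 F37678
def n19938 : Q := act 2 n14712
theorem D19938 : act 2 n14712 = n19938 := rfl
theorem F37683 : act 0 n19938 = n14864 := d1_1 D19938 (iv F34882) F33404
theorem F37684 : act 6 n19938 = n14860 := d14_2 F34884 D19938 (iv F33406)
def n19939 : Q := act 1 n14713
theorem D19939 : act 1 n14713 = n19939 := rfl
def n19940 : Q := act 3 n14713
theorem D19940 : act 3 n14713 = n19940 := rfl
theorem F37685 : act 0 n19940 = n14715 := d2_1 D19940 (iv D14715) (iv F25660)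
def n19941 : Q := act 6 n14713
theorem D19941 : act 6 n14713 = n19941 := rfl
theorem F37686 : act 0 n19941 = n14716 := d5_1 D19941 (iv D14716) (iv F25660)
theorem F37687 : act 2 n19941 = n14714 := d14_1 D19941 (iv D14714) D14713
theorem F37688 : act 5 n19941 = n19935 := d20_1 D19941 (iv D19935) F25656 D14716 F37578 (iv F37667) F37666
def n19942 : Q := act 2 n14715
theorem D19942 : act 2 n14715 = n19942 := rfl
def n19943 : Q := act 4 n14715
theorem D19943 : act 4 n14715 = n19943 := rfl
def n19944 : Q := act 6 n14715
theorem D19944 : act 6 n14715 = n19944 := rfl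
theorem F37689 : act 3 n19944 = n14716 := d17_1 D19944 (iv D14716) D14715
def n19945 : Q := act 1 n14716
theorem D19945 : act 1 n14716 = n19945 := rfl
theorem F37690 : act 2 n19945 = n19636 := d6_2 (iv F25664) D19945 (iv D19636) F25195 (iv F20187)
theorem F37691 : act 6 n19945 = n19371 := d10_2 D14716 D19945 F36419 F33164 F23785
theorem F37692 : act 0 n19374 = n19945 := d5_3 F37691 (iv D19371) D19374
def n19946 : Q := act 1 n14724
theorem D19946 : act 1 n14724 = n19946 := rfl
theorem F37693 : act 3 n19946 = n18494 := d7_2 F29111 D19946 (iv D18494)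
theorem F37694 : act 6 n19946 = n19059 := d10_2 D14724 D19946 (iv D19059) (iv D13867) (iv F28897)
def n19947 : Q := act 5 n14726
theorem D19947 : act 5 n14726 = n19947 := rfl
theorem F37695 : act 0 n19947 = n19618 := d4_1 D19947 F36869 (iv F36870)
def n19948 : Q := act 1 n14727
theorem D19948 : act 1 n14727 = n19948 := rfl
theorem F37696 : act 0 n19948 = n14787 := d0_1 D19948 F25731 (iv F25537) D19887 (iv F37535) F36983 F36282 (iv F34921) (iv F25676)
theorem F37697 : act 6 n19948 = n14785 := d10_2 (iv F25677) D19948 (iv F29861) F29862 F29167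
def n19949 : Q := act 4 n14732
theorem D19949 : act 4 n14732 = n19949 := rfl
theorem F37698 : act 0 n19949 = n14741 := d3_1 D19949 (iv D14741) (iv F25679)
theorem F37699 : act 1 n19949 = n18749 := d8_1 D19949 F33562 F29188
theorem F37700 : act 2 n19949 = n14733 := d12_1 D19949 (iv D14733) D14732
theorem F37701 : act 5 n19949 = n18185 := d18_2 (iv F29237) D19949 F31804
def n19950 : Q := act 6 n14733
theorem D19950 : act 6 n14733 = n19950 := rfl
theorem F37702 : act 0 n19950 = n14743 := d5_1 D19950 (iv D14743) (iv F25681)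
theorem F37703 : act 4 n19950 = n14734 := d19_1 D19950 (iv D14734) D14733
theorem F37704 : act 5 n19950 = n19846 := d22_2 F37475 D19950 (iv D19846) (iv F37472)
def n19951 : Q := act 0 n14735
theorem D19951 : act 0 n14735 = n19951 := rfl
def n19952 : Q := act 2 n14735
theorem D19952 : act 2 n14735 = n19952 := rfl
theorem F37705 : act 1 n19952 = n14737 := d6_1 D19952 (iv D14737) (iv D11395) (iv F20191) D14735
def n19953 : Q := act 5 n14735
theorem D19953 : act 5 n14735 = n19953 := rfl
theorem F37706 : act 1 n19953 = n19850 := d9_1 D19953 (iv D19850) (iv D14605) (iv F20192) D14735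
def n19954 : Q := act 5 n14736
theorem D19954 : act 5 n14736 = n19954 := rfl
theorem F37707 : act 0 n19954 = n14738 := d4_1 D19954 (iv D14738) D14736
theorem F37708 : act 1 n19954 = n14775 := d9_1 D19954 F25721 F35179 F34777 (iv F36874)
theorem F37709 : act 6 n19954 = n19947 := d20_2 F36873 D19954 (iv D19947) F25675 D14738 F36868 F36869
def n19955 : Q := act 3 n14737
theorem D19955 : act 3 n14737 = n19955 := rfl
def n19956 : Q := act 5 n14737
theorem D19956 : act 5 n14737 = n19956 := rfl
theorem F37710 : act 2 n19956 = n14738 := d13_1 D19956 (iv D14738) D14737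
theorem F37711 : act 6 n19956 = n15253 := d22_1 D19956 (iv D15253) (iv F26549) F36876
def n19957 : Q := act 3 n14741
theorem D19957 : act 3 n14741 = n19957 := rfl
theorem F37712 : act 1 n19957 = n18178 := d7_1 D19957 F31788 F29027
theorem F37713 : act 4 n19957 = n18703 := d15_2 D14741 D19957 F33473 F23972 (iv F28820)
theorem F37714 : act 5 n19957 = n18183 := d16_2 (iv F29025) D19957 F31800
def n19958 : Q := act 6 n14741
theorem D19958 : act 6 n14741 = n19958 := rfl
theorem F37715 : act 2 n19958 = n14743 := d14_1 D19958 (iv D14743) (iv F25689)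
theorem F37716 : act 4 n19958 = n14742 := d19_1 D19958 (iv D14742) D14741
def n19959 : Q := act 1 n14742
theorem D19959 : act 1 n14742 = n19959 := rfl
theorem F37717 : act 0 n19959 = n19087 := d0_1 D19959 (iv D19087) (iv D13887) (iv D10954) (iv F12220) D10995 D13976 (iv F35728) F31904
theorem F37718 : act 3 n19959 = n19025 := d7_2 (iv F29235) D19959 (iv D19025)
theorem F37719 : act 5 n19959 = n19151 := d9_2 F31903 D19959 F35676 D19166 F35713
theorem F37720 : act 6 n19959 = n18226 := d10_2 D14742 D19959 (iv D18226) (iv D13339) F28821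
def n19960 : Q := act 5 n14743
theorem D19960 : act 5 n14743 = n19960 := rfl
theorem F37721 : act 0 n19960 = n19846 := d4_1 D19960 (iv F37704) F37702
theorem F37722 : act 4 n19960 = n14744 := d18_1 D19960 (iv D14744) (iv F25691)
theorem F37723 : act 6 n19960 = n19845 := d20_2 D14743 D19960 F37475 D19950 F37704 (iv D19846) F25510
def n19961 : Q := act 1 n14744
theorem D19961 : act 1 n14744 = n19961 := rfl
theorem F37724 : act 3 n19961 = n14745 := d7_2 (iv F25693) D19961 (iv D14745)
def n19962 : Q := act 0 n14745
theorem D19962 : act 0 n14745 = n19962 := rfl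
def n19963 : Q := act 2 n14745
theorem D19963 : act 2 n14745 = n19963 := rfl
theorem F37725 : act 1 n19963 = n14752 := d6_1 D19963 (iv D14752) (iv D11403) (iv F20196) D14745
theorem F37726 : act 3 n19146 = n19963 := d7_0 F37725 F36230 (iv F35669)
def n19964 : Q := act 6 n14745
theorem D19964 : act 6 n14745 = n19964 := rfl
theorem F37727 : act 1 n19964 = n19844 := d10_1 D19964 (iv D19844) (iv D14600) (iv F20197) D14745
def n19965 : Q := act 0 n14746
theorem D19965 : act 0 n14746 = n19965 := rfl
theorem F37728 : act 1 n19965 = n15157 := d0_2 D14746 D19965 F35272 (iv F36874) (iv D14736) (iv D11395) F13615 D9098 D11400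
theorem F37729 : act 5 n15158 = n19965 := d9_0 F37728 (iv D15157) (iv D11610) D11611 D15158
def n19966 : Q := act 2 n14746
theorem D19966 : act 2 n14746 = n19966 := rfl
def n19967 : Q := act 5 n14746
theorem D19967 : act 5 n14746 = n19967 := rfl
theorem F37730 : act 0 n19967 = n15158 := d4_1 D19967 F37729 (iv D19965)
theorem F37731 : act 6 n19873 = n19967 := d24_0 (iv D19967) (iv D14746) F20198 D11406 D14761 F25706 (iv F26640) (iv F36856) F36847 D19611 (iv F36853) (iv D14630) (iv F25530) D19873
def n19968 : Q := act 6 n14746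
theorem D19968 : act 6 n14746 = n19968 := rfl
theorem F37732 : act 1 n19968 = n14757 := d10_1 D19968 (iv D14757) (iv D11404) (iv F20198) D14746
def n19969 : Q := act 1 n14747
theorem D19969 : act 1 n14747 = n19969 := rfl
def n19970 : Q := act 3 n14747
theorem D19970 : act 3 n14747 = n19970 := rfl
theorem F37733 : act 0 n19970 = n14748 := d2_1 D19970 (iv D14748) (iv F25695)
theorem F37734 : act 6 n19970 = n14759 := d17_2 (iv F25696) D19970 (iv D14759)
def n19971 : Q := act 2 n14748
theorem D19971 : act 2 n14748 = n19971 := rfl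
theorem F37735 : act 6 n19971 = n14762 := d14_2 (iv F25697) D19971 (iv D14762)
def n19972 : Q := act 4 n14748
theorem D19972 : act 4 n14748 = n19972 := rfl
theorem F37736 : act 6 n19972 = n14763 := d19_2 (iv F25697) D19972 (iv D14763)
def n19973 : Q := act 5 n14748
theorem D19973 : act 5 n14748 = n19973 := rfl
theorem F37737 : act 3 n19973 = n14749 := d16_1 D19973 (iv D14749) D14748
def n19974 : Q := act 1 n14749
theorem D19974 : act 1 n14749 = n19974 := rfl
def n19975 : Q := act 0 n14750
theorem D19975 : act 0 n14750 = n19975 := rfl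
theorem F37738 : act 3 n19975 = n18670 := d2_2 F37625 D19975 (iv F37624)
theorem F37739 : act 5 n19975 = n14751 := d4_2 (iv F25699) D19975 (iv D14751)
theorem F37740 : act 1 n18673 = n19975 := d9_5 F37739 F37635 (iv D19307) F32103 (iv F33414)
def n19976 : Q := act 2 n14751
theorem D19976 : act 2 n14751 = n19976 := rfl
theorem F37741 : act 0 n19976 = n14752 := d1_1 D19976 (iv D14752) D14751
theorem F37742 : act 3 n19976 = n19158 := d21_5 D18271 (iv F36227) (iv F37630) F37631 D19976 (iv D19158) (iv F31973) (iv D18270)
theorem F37743 : act 6 n16687 = n19976 := d22_3 F29473 (iv D16688) D16687 F37741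
def n19977 : Q := act 6 n14751
theorem D19977 : act 6 n14751 = n19977 := rfl
theorem F37744 : act 0 n19977 = n14753 := d5_1 D19977 (iv D14753) D14751
theorem F37745 : act 1 n19977 = n19614 := d10_1 D19977 (iv D19614) F25177 (iv F36032) (iv F37635)
theorem F37746 : act 2 n19977 = n16687 := d14_1 D19977 F37743 (iv D19976)
theorem F37747 : act 5 n19977 = n16683 := d22_2 F37739 D19977 F29470 D19975
def n19978 : Q := act 6 n14752
theorem D19978 : act 6 n14752 = n19978 := rfl
theorem F37748 : act 0 n19978 = n16687 := d5_1 D19978 F37743 F37741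
theorem F37749 : act 2 n19978 = n14753 := d14_1 D19978 (iv D14753) D14752
theorem F37750 : act 3 n19978 = n19161 := d17_1 D19978 (iv D19161) (iv F36230)
theorem F37751 : act 5 n16685 = n19978 := d22_0 (iv D19978) F29473 (iv D16688) D16685
def n19979 : Q := act 5 n14753
theorem D19979 : act 5 n14753 = n19979 := rfl
theorem F37752 : act 0 n19979 = n16683 := d4_1 D19979 (iv F37747) F37744
theorem F37753 : act 2 n19979 = n16685 := d13_1 D19979 F37751 F37749
theorem F37754 : act 6 n19979 = n19975 := d20_2 D14753 D19979 F37739 D19977 F37747 F29470 F25699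
def n19980 : Q := act 1 n14755
theorem D19980 : act 1 n14755 = n19980 := rfl
theorem F37755 : act 0 n19980 = n15345 := d0_1 D19980 (iv D15345) (iv D11736) (iv D9616) F7082 D4657 D9625 D11749 (iv F29204)
theorem F37756 : act 2 n19980 = n14758 := d6_2 D14755 D19980 (iv D14758) (iv D11405) D11404
def n19981 : Q := act 3 n14755
theorem D19981 : act 3 n14755 = n19981 := rfl
theorem F37757 : act 0 n19981 = n15366 := d2_1 D19981 F26725 (iv F29204)
def n19982 : Q := act 5 n14755
theorem D19982 : act 5 n14755 = n19982 := rfl
theorem F37758 : act 0 n19982 = n15374 := d4_1 D19982 (iv D15374) (iv F29204)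
theorem F37759 : act 2 n19982 = n14756 := d13_1 D19982 (iv D14756) D14755
def n19983 : Q := act 6 n14755
theorem D19983 : act 6 n14755 = n19983 := rfl
theorem F37760 : act 0 n19983 = n15375 := d5_1 D19983 (iv D15375) (iv F29204)
theorem F37761 : act 2 n19983 = n14757 := d14_1 D19983 (iv D14757) D14755
def n19984 : Q := act 0 n14758
theorem D19984 : act 0 n14758 = n19984 := rfl
theorem F37762 : act 2 n19984 = n15345 := d1_2 F37756 D19984 (iv F37755)
def n19985 : Q := act 3 n14758
theorem D19985 : act 3 n14758 = n19985 := rfl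
theorem F37763 : act 1 n19985 = n14759 := d7_1 D19985 (iv D14759) D14758
def n19986 : Q := act 5 n14758
theorem D19986 : act 5 n14758 = n19986 := rfl
def n19987 : Q := act 6 n14758
theorem D19987 : act 6 n14758 = n19987 := rfl
def n19988 : Q := act 2 n14759
theorem D19988 : act 2 n14759 = n19988 := rfl
theorem F37764 : act 0 n19988 = n14762 := d1_1 D19988 (iv D14762) (iv F25701)
theorem F37765 : act 3 n19988 = n19922 := d21_1 D19988 (iv D19922) (iv D14692) (iv D11376) F13610 D9101 D11407 (iv F25701)
def n19989 : Q := act 4 n14759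
theorem D19989 : act 4 n14759 = n19989 := rfl
theorem F37766 : act 0 n19989 = n14763 := d3_1 D19989 (iv D14763) (iv F25701)
def n19990 : Q := act 5 n14759
theorem D19990 : act 5 n14759 = n19990 := rfl
theorem F37767 : act 0 n19990 = n14764 := d4_1 D19990 (iv D14764) (iv F25701)
theorem F37768 : act 3 n19990 = n14760 := d16_1 D19990 (iv D14760) D14759
theorem F37769 : act 6 n19990 = n19973 := d22_1 D19990 (iv D19973) F25697 (iv F25701)
def n19991 : Q := act 1 n14760
theorem D19991 : act 1 n14760 = n19991 := rfl
theorem F37770 : act 2 n19991 = n16675 := d6_2 (iv F25703) D19991 F29459 F25705 (iv D14761)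
theorem F37771 : act 0 n19991 = n17070 := d23_3 D11406 (iv F25703) D19991 (iv D17070) (iv D12666) (iv D10251) (iv D5561) F4188 D2682 F4192 (iv F4239) F16711 (iv D2117) (iv D1037) (iv F1769) (iv F1807) (iv F3351) D4398 D9100
theorem F37772 : act 5 n17067 = n19991 := d4_0 F37771 (iv D17070) (iv F30016)
theorem F37773 : act 6 n16674 = n19991 := d22_3 (iv D17070) D17071 (iv F30022) F37771
theorem F37774 : act 1 n19986 = n17067 := d9_5 F37772 (iv D19991) (iv D14760) D14758 D19986
def n19992 : Q := act 1 n14762
theorem D19992 : act 1 n14762 = n19992 := rfl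
theorem F37775 : act 2 n19992 = n14826 := d6_2 D14762 D19992 (iv D14826) (iv D11436) (iv F20203)
def n19993 : Q := act 3 n14762
theorem D19993 : act 3 n14762 = n19993 := rfl
theorem F37776 : act 0 n19993 = n19922 := d2_1 D19993 (iv F37765) F37764
theorem F37777 : act 2 n19993 = n19920 := d11_1 D19993 (iv D19920) (iv D14690) F20172 D11405 D14759 D19988 F37765 (iv D19922) (iv D14692) (iv D11376) F13610 D9101 D11407 D14762
def n19994 : Q := act 4 n14762
theorem D19994 : act 4 n14762 = n19994 := rfl
theorem F37778 : act 2 n19994 = n14763 := d12_1 D19994 (iv D14763) D14762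
def n19995 : Q := act 5 n14762
theorem D19995 : act 5 n14762 = n19995 := rfl
theorem F37779 : act 2 n19995 = n14764 := d13_1 D19995 (iv D14764) D14762
def n19996 : Q := act 5 n14763
theorem D19996 : act 5 n14763 = n19996 := rfl
theorem F37780 : act 1 n19996 = n19996 := d9_1 D19996 (iv D19996) F25707 F20235 (iv F25707)
theorem F37781 : act 4 n19996 = n14764 := d18_1 D19996 (iv D14764) D14763
def n19997 : Q := act 6 n14764
theorem D19997 : act 6 n14764 = n19997 := rfl
theorem F37782 : act 0 n19997 = n19973 := d5_1 D19997 (iv F37769) F37767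
theorem F37783 : act 3 n19997 = n14765 := d17_1 D19997 (iv D14765) (iv F25709)
theorem F37784 : act 5 n19997 = n19970 := d20_1 D19997 F37734 D19990 F37769 (iv D19973) F25697 D14764
def n19998 : Q := act 1 n14765
theorem D19998 : act 1 n14765 = n19998 := rfl
theorem F37785 : act 6 n19998 = n19998 := d10_2 D14765 D19998 (iv D19998) (iv D14765) F20204
def n19999 : Q := act 0 n14766
theorem D19999 : act 0 n14766 = n19999 := rfl
theorem F37786 : act 1 n19999 = n16654 := d0_2 D14766 D19999 (iv F36178) F36179 (iv F33412) F37740 (iv D19975) (iv D14750) (iv F20206)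
theorem F37787 : act 3 n19999 = n19360 := d2_2 (iv F37544) D19999 F36505
theorem F37788 : act 6 n19999 = n16655 := d5_2 (iv F25713) D19999 F37068
def n20000 : Q := act 2 n14766
theorem D20000 : act 2 n14766 = n20000 := rfl
theorem F37789 : act 6 n20000 = n19660 := d14_2 (iv F25713) D20000 (iv D19660)
def n20001 : Q := act 5 n14766
theorem D20001 : act 5 n14766 = n20001 := rfl
theorem F37790 : act 1 n20001 = n19967 := d9_1 D20001 (iv D19967) (iv D14746) (iv F20207) D14766
theorem F37791 : act 6 n20001 = n19887 := d22_1 D20001 F37534 (iv F37788) (iv D19999)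
def n20002 : Q := act 1 n14772
theorem D20002 : act 1 n14772 = n20002 := rfl
theorem F37792 : act 3 n20002 = n18513 := d7_2 (iv F34524) D20002 (iv D18513)
theorem F37793 : act 5 n20002 = n19083 := d9_2 D14772 D20002 (iv D19083) (iv D13885) F34520
def n20003 : Q := act 6 n14774
theorem D20003 : act 6 n14774 = n20003 := rfl
theorem F37794 : act 0 n20003 = n19609 := d5_1 D20003 (iv F36855) F26628
theorem F37795 : act 1 n20003 = n19947 := d10_1 D20003 (iv F37709) F37708 (iv D14775) D14774
theorem F37796 : act 5 n20003 = n19948 := d20_1 D20003 F37697 (iv F26630) F36855 F36854 (iv D14787) (iv F25720)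
def n20004 : Q := act 4 n14781
theorem D20004 : act 4 n14781 = n20004 := rfl
theorem F37797 : act 0 n20004 = n14790 := d3_1 D20004 (iv D14790) (iv F25725)
theorem F37798 : act 1 n20004 = n18766 := d8_1 D20004 F33593 F34563
theorem F37799 : act 2 n20004 = n14782 := d12_1 D20004 (iv D14782) D14781
theorem F37800 : act 6 n20004 = n18187 := d19_2 (iv F34378) D20004 F31806
def n20005 : Q := act 5 n14782
theorem D20005 : act 5 n14782 = n20005 := rfl
theorem F37801 : act 0 n20005 = n14792 := d4_1 D20005 (iv D14792) (iv F25727)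
theorem F37802 : act 4 n20005 = n14783 := d18_1 D20005 (iv D14783) D14782
theorem F37803 : act 6 n20005 = n19868 := d22_1 D20005 (iv D19868) F25527 (iv F25727)
def n20006 : Q := act 0 n14784
theorem D20006 : act 0 n14784 = n20006 := rfl
def n20007 : Q := act 2 n14784
theorem D20007 : act 2 n14784 = n20007 := rfl
theorem F37804 : act 1 n20007 = n14786 := d6_1 D20007 (iv D14786) (iv D11417) (iv F20210) D14784
def n20008 : Q := act 6 n14784
theorem D20008 : act 6 n14784 = n20008 := rfl
theorem F37805 : act 1 n20008 = n19872 := d10_1 D20008 (iv D19872) (iv D14624) (iv F20211) D14784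
def n20009 : Q := act 3 n14786
theorem D20009 : act 3 n14786 = n20009 := rfl
def n20010 : Q := act 6 n14786
theorem D20010 : act 6 n14786 = n20010 := rfl
theorem F37806 : act 2 n20010 = n14787 := d14_1 D20010 (iv D14787) D14786
theorem F37807 : act 5 n20010 = n15292 := d22_2 F26616 D20010 (iv D15292) D15290
def n20011 : Q := act 3 n14790
theorem D20011 : act 3 n14790 = n20011 := rfl
theorem F37808 : act 1 n20011 = n18179 := d7_1 D20011 F31791 (iv F34380)
theorem F37809 : act 4 n20011 = n18705 := d15_2 D14790 D20011 F33478 F23976 F34379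
theorem F37810 : act 6 n20011 = n18184 := d17_2 (iv F34381) D20011 F31802
def n20012 : Q := act 5 n14790
theorem D20012 : act 5 n14790 = n20012 := rfl
theorem F37811 : act 2 n20012 = n14792 := d13_1 D20012 (iv D14792) (iv F25735)
theorem F37812 : act 4 n20012 = n14791 := d18_1 D20012 (iv D14791) D14790
def n20013 : Q := act 1 n14791
theorem D20013 : act 1 n14791 = n20013 := rfl
theorem F37813 : act 0 n20013 = n19063 := d0_1 D20013 (iv D19063) (iv D13869) (iv D10946) (iv F12209) D10973 D13928 (iv F35690) (iv F34382)
theorem F37814 : act 3 n20013 = n19033 := d7_2 (iv F34383) D20013 (iv D19033)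
theorem F37815 : act 5 n20013 = n18230 := d9_2 D14791 D20013 (iv D18230) (iv D13341) (iv F34332)
theorem F37816 : act 6 n20013 = n19216 := d10_2 (iv F34384) D20013 F35821 D19229 (iv F35852)
def n20014 : Q := act 6 n14792
theorem D20014 : act 6 n14792 = n20014 := rfl
theorem F37817 : act 0 n20014 = n19868 := d5_1 D20014 (iv F37803) F37801
theorem F37818 : act 4 n20014 = n14793 := d19_1 D20014 (iv D14793) (iv F25737)
theorem F37819 : act 5 n20014 = n19867 := d20_1 D20014 F37508 D20005 F37803 (iv D19868) F25527 D14792
def n20015 : Q := act 1 n14793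
theorem D20015 : act 1 n14793 = n20015 := rfl
theorem F37820 : act 3 n20015 = n14794 := d7_2 (iv F25739) D20015 (iv D14794)
def n20016 : Q := act 0 n14794
theorem D20016 : act 0 n14794 = n20016 := rfl
def n20017 : Q := act 2 n14794
theorem D20017 : act 2 n14794 = n20017 := rfl
theorem F37821 : act 1 n20017 = n14801 := d6_1 D20017 (iv D14801) (iv D11425) (iv F20215) D14794
theorem F37822 : act 3 n19212 = n20017 := d7_0 F37821 F36332 (iv F35816)
def n20018 : Q := act 5 n14794
theorem D20018 : act 5 n14794 = n20018 := rfl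
theorem F37823 : act 1 n20018 = n19866 := d9_1 D20018 (iv D19866) (iv D14619) (iv F20216) D14794
def n20019 : Q := act 0 n14795
theorem D20019 : act 0 n14795 = n20019 := rfl
theorem F37824 : act 1 n20019 = n15153 := d0_2 D14795 D20019 (iv F29860) F29861 (iv D14785) (iv D11417) F13625 D9108 D11422
theorem F37825 : act 6 n15154 = n20019 := d10_0 F37824 (iv D15153) (iv D11608) D11609 D15154
def n20020 : Q := act 2 n14795
theorem D20020 : act 2 n14795 = n20020 := rfl
def n20021 : Q := act 5 n14795
theorem D20021 : act 5 n14795 = n20021 := rfl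
theorem F37826 : act 1 n20021 = n14805 := d9_1 D20021 (iv D14805) (iv D11426) (iv F20217) D14795
def n20022 : Q := act 6 n14795
theorem D20022 : act 6 n14795 = n20022 := rfl
theorem F37827 : act 0 n20022 = n15154 := d5_1 D20022 F37825 (iv D20019)
theorem F37828 : act 5 n20022 = n19851 := d24_1 D20022 (iv D19851) F25513 D14611 (iv F36867) (iv D19620) (iv F36861) (iv F36888) (iv F26566) (iv F36880) (iv D14810) (iv D11428) (iv F20217) D14795
def n20023 : Q := act 1 n14796
theorem D20023 : act 1 n14796 = n20023 := rfl
def n20024 : Q := act 3 n14796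
theorem D20024 : act 3 n14796 = n20024 := rfl
theorem F37829 : act 0 n20024 = n14797 := d2_1 D20024 (iv D14797) (iv F25741)
theorem F37830 : act 5 n20024 = n14808 := d16_2 (iv F25742) D20024 (iv D14808)
def n20025 : Q := act 2 n14797
theorem D20025 : act 2 n14797 = n20025 := rfl
theorem F37831 : act 5 n20025 = n14811 := d13_2 (iv F25743) D20025 (iv D14811)
def n20026 : Q := act 4 n14797
theorem D20026 : act 4 n14797 = n20026 := rfl
theorem F37832 : act 5 n20026 = n14812 := d18_2 (iv F25743) D20026 (iv D14812)
def n20027 : Q := act 6 n14797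
theorem D20027 : act 6 n14797 = n20027 := rfl
theorem F37833 : act 3 n20027 = n14798 := d17_1 D20027 (iv D14798) D14797
def n20028 : Q := act 1 n14798
theorem D20028 : act 1 n14798 = n20028 := rfl
def n20029 : Q := act 0 n14799
theorem D20029 : act 0 n14799 = n20029 := rfl
theorem F37834 : act 3 n20029 = n18695 := d2_2 F37672 D20029 (iv F37671)
theorem F37835 : act 6 n20029 = n14800 := d5_2 (iv F25745) D20029 (iv D14800)
theorem F37836 : act 1 n18698 = n20029 := d23_2 F33463 (iv F33462) (iv D20029) (iv F36882) F29566 (iv D12485) F18016 (iv F18015) (iv D10160) (iv D5521) (iv F4189) F4190 D5518 D10153 D12463 D16722 (iv F36198) (iv D19364) (iv F33461)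
def n20030 : Q := act 2 n14800
theorem D20030 : act 2 n14800 = n20030 := rfl
theorem F37837 : act 0 n20030 = n14801 := d1_1 D20030 (iv D14801) D14800
theorem F37838 : act 3 n20030 = n19221 := d21_5 D18286 (iv F36329) (iv F37677) F37678 D20030 (iv D19221) (iv F31998) (iv D18285)
theorem F37839 : act 5 n20030 = n16764 := d22_0 (iv D16764) D16763 F36884 (iv F37837)
def n20031 : Q := act 5 n14800
theorem D20031 : act 5 n14800 = n20031 := rfl
theorem F37840 : act 0 n20031 = n14802 := d4_1 D20031 (iv D14802) D14800
theorem F37841 : act 1 n20031 = n19623 := d9_1 D20031 (iv D19623) F25179 (iv F35893) (iv F37682)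
theorem F37842 : act 2 n20031 = n16764 := d13_1 D20031 (iv F37839) (iv D20030)
theorem F37843 : act 6 n20031 = n16758 := d22_1 D20031 F36882 F25745 D14800
def n20032 : Q := act 5 n14801
theorem D20032 : act 5 n14801 = n20032 := rfl
theorem F37844 : act 0 n20032 = n16764 := d4_1 D20032 (iv F37839) F37837
theorem F37845 : act 2 n20032 = n14802 := d13_1 D20032 (iv D14802) D14801
theorem F37846 : act 3 n20032 = n19224 := d16_1 D20032 (iv D19224) (iv F36332)
theorem F37847 : act 6 n20032 = n16761 := d22_3 D16763 F36884 D20032 (iv D16761)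
def n20033 : Q := act 6 n14802
theorem D20033 : act 6 n14802 = n20033 := rfl
theorem F37848 : act 0 n20033 = n16758 := d5_1 D20033 (iv F37843) F37840
theorem F37849 : act 1 n20033 = n19979 := d10_1 D20033 F37754 (iv F37740) (iv F34548) (iv F25746)
theorem F37850 : act 2 n20033 = n16761 := d14_1 D20033 (iv F37847) F37845
theorem F37851 : act 5 n20033 = n20029 := d20_1 D20033 F37835 D20031 F37843 F36882 F25745 D14802
def n20034 : Q := act 1 n14804
theorem D20034 : act 1 n14804 = n20034 := rfl
theorem F37852 : act 0 n20034 = n15403 := d0_1 D20034 (iv D15403) (iv D11765) (iv D9645) F7096 D4671 D9654 D11778 (iv F29203)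
theorem F37853 : act 2 n20034 = n14807 := d6_2 D14804 D20034 (iv D14807) (iv D11427) D11426
def n20035 : Q := act 3 n14804
theorem D20035 : act 3 n14804 = n20035 := rfl
theorem F37854 : act 0 n20035 = n15424 := d2_1 D20035 F26789 (iv F29203)
def n20036 : Q := act 5 n14804
theorem D20036 : act 5 n14804 = n20036 := rfl
theorem F37855 : act 0 n20036 = n15432 := d4_1 D20036 (iv D15432) (iv F29203)
theorem F37856 : act 2 n20036 = n14805 := d13_1 D20036 (iv D14805) D14804
def n20037 : Q := act 6 n14804
theorem D20037 : act 6 n14804 = n20037 := rfl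
theorem F37857 : act 0 n20037 = n15433 := d5_1 D20037 (iv D15433) (iv F29203)
theorem F37858 : act 2 n20037 = n14806 := d14_1 D20037 (iv D14806) D14804
def n20038 : Q := act 0 n14807
theorem D20038 : act 0 n14807 = n20038 := rfl
theorem F37859 : act 2 n20038 = n15403 := d1_2 F37853 D20038 (iv F37852)
def n20039 : Q := act 3 n14807
theorem D20039 : act 3 n14807 = n20039 := rfl
theorem F37860 : act 1 n20039 = n14808 := d7_1 D20039 (iv D14808) D14807
def n20040 : Q := act 5 n14807
theorem D20040 : act 5 n14807 = n20040 := rfl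
def n20041 : Q := act 6 n14807
theorem D20041 : act 6 n14807 = n20041 := rfl
def n20042 : Q := act 2 n14808
theorem D20042 : act 2 n14808 = n20042 := rfl
theorem F37861 : act 0 n20042 = n14811 := d1_1 D20042 (iv D14811) (iv F25748)
theorem F37862 : act 3 n20042 = n19942 := d21_1 D20042 (iv D19942) (iv D14715) (iv D11386) F13613 D9111 D11429 (iv F25748)
def n20043 : Q := act 4 n14808
theorem D20043 : act 4 n14808 = n20043 := rfl
theorem F37863 : act 0 n20043 = n14812 := d3_1 D20043 (iv D14812) (iv F25748)
def n20044 : Q := act 6 n14808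
theorem D20044 : act 6 n14808 = n20044 := rfl
theorem F37864 : act 0 n20044 = n14813 := d5_1 D20044 (iv D14813) (iv F25748)
theorem F37865 : act 3 n20044 = n14809 := d17_1 D20044 (iv D14809) D14808
theorem F37866 : act 5 n20044 = n20027 := d22_2 F37830 D20044 (iv D20027) (iv F37829)
def n20045 : Q := act 1 n14809
theorem D20045 : act 1 n14809 = n20045 := rfl
theorem F37867 : act 2 n20045 = n16750 := d6_2 (iv F25750) D20045 F29556 (iv F36879) (iv D14810)
theorem F37868 : act 0 n16873 = n20045 := d1_3 F37867 F29555 (iv F29763)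
theorem F37869 : act 5 n16749 = n20045 := d13_0 F37867 (iv D16750) D16749
theorem F37870 : act 6 n16869 = n20045 := d14_0 F37867 F29558 D16869
theorem F37871 : act 1 n20041 = n16869 := d10_5 F37870 (iv D20045) (iv D14809) D14807 D20041
def n20046 : Q := act 1 n14811
theorem D20046 : act 1 n14811 = n20046 := rfl
theorem F37872 : act 2 n20046 = n14838 := d6_2 D14811 D20046 (iv D14838) (iv D11442) (iv F20222)
def n20047 : Q := act 3 n14811
theorem D20047 : act 3 n14811 = n20047 := rfl
theorem F37873 : act 0 n20047 = n19942 := d2_1 D20047 (iv F37862) F37861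
theorem F37874 : act 2 n20047 = n19940 := d11_1 D20047 (iv D19940) (iv D14713) F20186 D11427 D14808 D20042 F37862 (iv D19942) (iv D14715) (iv D11386) F13613 D9111 D11429 D14811
def n20048 : Q := act 4 n14811
theorem D20048 : act 4 n14811 = n20048 := rfl
theorem F37875 : act 2 n20048 = n14812 := d12_1 D20048 (iv D14812) D14811
def n20049 : Q := act 6 n14811
theorem D20049 : act 6 n14811 = n20049 := rfl
theorem F37876 : act 2 n20049 = n14813 := d14_1 D20049 (iv D14813) D14811
def n20050 : Q := act 6 n14812
theorem D20050 : act 6 n14812 = n20050 := rfl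
theorem F37877 : act 1 n20050 = n20050 := d10_1 D20050 (iv D20050) F25752 F20244 (iv F25752)
theorem F37878 : act 4 n20050 = n14813 := d19_1 D20050 (iv D14813) D14812
def n20051 : Q := act 5 n14813
theorem D20051 : act 5 n14813 = n20051 := rfl
theorem F37879 : act 0 n20051 = n20027 := d4_1 D20051 (iv F37866) F37864
theorem F37880 : act 3 n20051 = n14814 := d16_1 D20051 (iv D14814) (iv F25754)
theorem F37881 : act 6 n20051 = n20024 := d20_2 D14813 D20051 F37830 D20044 F37866 (iv D20027) F25743
def n20052 : Q := act 1 n14814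
theorem D20052 : act 1 n14814 = n20052 := rfl
theorem F37882 : act 5 n20052 = n20052 := d9_2 D14814 D20052 (iv D20052) (iv D14814) F20223
def n20053 : Q := act 0 n14815
theorem D20053 : act 0 n14815 = n20053 := rfl
theorem F37883 : act 1 n20053 = n16710 := d0_2 D14815 D20053 (iv F36197) (iv D19364) (iv F33461) F37836 (iv D20029) (iv D14799) (iv F20225)
theorem F37884 : act 3 n20053 = n19398 := d2_2 (iv F37576) D20053 F36527
theorem F37885 : act 5 n20053 = n16716 := d4_2 (iv F25758) D20053 F37076
def n20054 : Q := act 2 n14815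
theorem D20054 : act 2 n14815 = n20054 := rfl
theorem F37886 : act 5 n20054 = n19651 := d13_2 (iv F25758) D20054 (iv D19651)
def n20055 : Q := act 6 n14815
theorem D20055 : act 6 n14815 = n20055 := rfl
theorem F37887 : act 1 n20055 = n20022 := d10_1 D20055 (iv D20022) (iv D14795) (iv F20226) D14815
theorem F37888 : act 5 n20055 = n19865 := d22_2 (iv F25758) D20055 F37500 F37076
def n20056 : Q := act 1 n14821
theorem D20056 : act 1 n14821 = n20056 := rfl
def n20057 : Q := act 3 n14821
theorem D20057 : act 3 n14821 = n20057 := rfl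
theorem F37889 : act 0 n20057 = n14822 := d2_1 D20057 (iv D14822) D14821
theorem F37890 : act 2 n20057 = n15347 := d21_2 (iv F25769) D20057 (iv F35704) F35703 (iv F24473) F35028 F20794 D11765
theorem F37891 : act 6 n14835 = n20057 := d14_0 F37890 (iv D15347) (iv F25790)
def n20058 : Q := act 5 n14821
theorem D20058 : act 5 n14821 = n20058 := rfl
theorem F37892 : act 0 n20058 = n14823 := d4_1 D20058 (iv D14823) D14821
theorem F37893 : act 2 n20058 = n15395 := d13_1 D20058 F26759 (iv F25769)
def n20059 : Q := act 6 n14821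
theorem D20059 : act 6 n14821 = n20059 := rfl
theorem F37894 : act 0 n20059 = n14824 := d5_1 D20059 (iv D14824) D14821
theorem F37895 : act 2 n20059 = n15404 := d14_1 D20059 (iv D15404) (iv F25769)
theorem F37896 : act 3 n20059 = n14835 := d17_1 D20059 F37891 (iv D20057)
theorem F37897 : act 5 n20059 = n14834 := d22_2 (iv D20058) D20059 (iv F35708) (iv F37892)
def n20060 : Q := act 4 n14822
theorem D20060 : act 4 n14822 = n20060 := rfl
theorem F37898 : act 1 n20060 = n14825 := d8_1 D20060 (iv D14825) (iv F25770)
theorem F37899 : act 5 n20060 = n19810 := d18_2 (iv F35706) D20060 F37383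
def n20061 : Q := act 6 n14822
theorem D20061 : act 6 n14822 = n20061 := rfl
theorem F37900 : act 0 n20061 = n14835 := d5_1 D20061 F37891 F37889
theorem F37901 : act 2 n20061 = n15346 := d14_1 D20061 F26701 F35705
theorem F37902 : act 3 n20061 = n14824 := d17_1 D20061 (iv D14824) D14822
theorem F37903 : act 5 n14833 = n20061 := d22_0 (iv D20061) F35706 (iv D14836) D14833
def n20062 : Q := act 5 n14824
theorem D20062 : act 5 n14824 = n20062 := rfl
theorem F37904 : act 0 n20062 = n14834 := d4_1 D20062 (iv F37897) F37894
theorem F37905 : act 2 n20062 = n15405 := d13_1 D20062 (iv D15405) (iv F25773)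
theorem F37906 : act 3 n20062 = n14833 := d16_1 D20062 F37903 F37902
theorem F37907 : act 6 n20062 = n20058 := d20_2 D14824 D20062 (iv D20058) D20059 F37897 (iv F35708) (iv D14823)
def n20063 : Q := act 0 n14826
theorem D20063 : act 0 n14826 = n20063 := rfl
theorem F37908 : act 3 n20063 = n19380 := d2_2 F32937 D20063 F36237
def n20064 : Q := act 4 n14826
theorem D20064 : act 4 n14826 = n20064 := rfl
theorem F37909 : act 1 n20064 = n14827 := d8_1 D20064 (iv D14827) D14826
theorem F37910 : act 3 n20064 = n19383 := d15_1 D20064 (iv D19383) (iv D14137) D14138 F32937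
def n20065 : Q := act 5 n14826
theorem D20065 : act 5 n14826 = n20065 := rfl
theorem F37911 : act 1 n20065 = n20065 := d9_1 D20065 (iv D20065) (iv D14826) F20234 D14826
theorem F37912 : act 3 n20065 = n19385 := d16_1 D20065 (iv D19385) F32937
def n20066 : Q := act 6 n14826
theorem D20066 : act 6 n14826 = n20066 := rfl
theorem F37913 : act 3 n20066 = n19386 := d17_1 D20066 (iv D19386) F32937
def n20067 : Q := act 1 n14833
theorem D20067 : act 1 n14833 = n20067 := rfl
def n20068 : Q := act 6 n14833
theorem D20068 : act 6 n14833 = n20068 := rfl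
theorem F37914 : act 0 n20068 = n14836 := d5_1 D20068 (iv D14836) D14833
theorem F37915 : act 2 n20068 = n15338 := d14_1 D20068 F26695 (iv F25788)
theorem F37916 : act 3 n20068 = n20058 := d17_1 D20068 (iv F37907) F37906
theorem F37917 : act 5 n20068 = n20057 := d20_1 D20068 (iv F37891) (iv D14835) D14836 (iv F35706) D20061 (iv F37903)
def n20069 : Q := act 4 n14834
theorem D20069 : act 4 n14834 = n20069 := rfl
theorem F37918 : act 1 n20069 = n14837 := d8_1 D20069 (iv D14837) (iv F25789)
theorem F37919 : act 6 n20069 = n19802 := d19_2 F35708 D20069 F37367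
def n20070 : Q := act 0 n14838
theorem D20070 : act 0 n14838 = n20070 := rfl
theorem F37920 : act 3 n20070 = n19416 := d2_2 F32647 D20070 F36336
def n20071 : Q := act 4 n14838
theorem D20071 : act 4 n14838 = n20071 := rfl
theorem F37921 : act 1 n20071 = n14839 := d8_1 D20071 (iv D14839) D14838
theorem F37922 : act 3 n20071 = n19419 := d15_1 D20071 (iv D19419) (iv D14194) D14195 F32647
def n20072 : Q := act 5 n14838
theorem D20072 : act 5 n14838 = n20072 := rfl
theorem F37923 : act 3 n20072 = n19421 := d16_1 D20072 (iv D19421) F32647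
def n20073 : Q := act 6 n14838
theorem D20073 : act 6 n14838 = n20073 := rfl
theorem F37924 : act 1 n20073 = n20073 := d10_1 D20073 (iv D20073) (iv D14838) F20243 D14838
theorem F37925 : act 3 n20073 = n19422 := d17_1 D20073 (iv D19422) F32647
def n20074 : Q := act 2 n14841
theorem D20074 : act 2 n14841 = n20074 := rfl
theorem F37926 : act 0 n20074 = n14845 := d1_1 D20074 (iv D14845) (iv F25797)
theorem F37927 : act 1 n20074 = n19038 := d6_1 D20074 (iv D19038) (iv D13848) D13849 F28936
theorem F37928 : act 3 n20074 = n15180 := d11_2 D14841 D20074 F26451 F20616 F20104 F28960 F19172 D11445 D14845 (iv F29311) (iv D16592) F21821 (iv D11323) (iv F20091) F28949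
theorem F37929 : act 5 n20074 = n15179 := d13_2 (iv F29172) D20074 (iv F28813)
def n20075 : Q := act 4 n14841
theorem D20075 : act 4 n14841 = n20075 := rfl
theorem F37930 : act 0 n20075 = n14846 := d3_1 D20075 (iv D14846) (iv F25797)
theorem F37931 : act 1 n20075 = n18722 := d8_1 D20075 F33508 F28936
theorem F37932 : act 3 n20075 = n18722 := d15_1 D20075 F33508 F28943 (iv F28942) D14841
theorem F37933 : act 5 n20075 = n18294 := d18_2 (iv F29172) D20075 F32023
def n20076 : Q := act 6 n14841
theorem D20076 : act 6 n14841 = n20076 := rfl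
theorem F37934 : act 0 n20076 = n14848 := d5_1 D20076 (iv D14848) (iv F25797)
theorem F37935 : act 3 n20076 = n14844 := d17_1 D20076 (iv D14844) D14841
def n20077 : Q := act 1 n14844
theorem D20077 : act 1 n14844 = n20077 := rfl
theorem F37936 : act 4 n20077 = n15545 := d8_2 (iv F29222) D20077 F35003
theorem F37937 : act 5 n20077 = n15544 := d9_2 F25811 D20077 F26996 D15551 F35002
theorem F37938 : act 6 n20077 = n15545 := d10_2 D14844 D20077 F35003 (iv D14583) (iv F28941)
def n20078 : Q := act 4 n14845
theorem D20078 : act 4 n14845 = n20078 := rfl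
theorem F37939 : act 1 n20078 = n17154 := d8_1 D20078 (iv D17154) (iv F25801)
theorem F37940 : act 2 n20078 = n14846 := d12_1 D20078 (iv D14846) D14845
theorem F37941 : act 5 n20078 = n18400 := d18_2 (iv F28925) D20078 F32296
def n20079 : Q := act 6 n14845
theorem D20079 : act 6 n14845 = n20079 := rfl
theorem F37942 : act 2 n20079 = n14848 := d14_1 D20079 (iv D14848) D14845
def n20080 : Q := act 5 n14846
theorem D20080 : act 5 n14846 = n20080 := rfl
theorem F37943 : act 0 n20080 = n18294 := d4_1 D20080 (iv F37933) F37930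
theorem F37944 : act 1 n20080 = n15477 := d9_1 D20080 (iv D15477) F20854 (iv F20250) (iv F25802)
theorem F37945 : act 2 n20080 = n18400 := d13_1 D20080 (iv F37941) F37940
theorem F37946 : act 3 n20080 = n18708 := d16_1 D20080 F33491 F29245
theorem F37947 : act 4 n20080 = n14847 := d18_1 D20080 (iv D14847) D14846
def n20081 : Q := act 6 n14846
theorem D20081 : act 6 n14846 = n20081 := rfl
theorem F37948 : act 1 n20081 = n17204 := d10_1 D20081 (iv D17204) F22342 (iv F20251) (iv F25802)
theorem F37949 : act 3 n20081 = n18724 := d17_1 D20081 (iv D18724) F29245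
theorem F37950 : act 4 n20081 = n14848 := d19_1 D20081 (iv D14848) D14846
def n20082 : Q := act 6 n14847
theorem D20082 : act 6 n14847 = n20082 := rfl
theorem F37951 : act 0 n20082 = n18330 := d5_1 D20082 (iv D18330) F29171
theorem F37952 : act 2 n20082 = n18562 := d14_1 D20082 (iv D18562) F28926
theorem F37953 : act 3 n20082 = n14852 := d17_1 D20082 (iv D14852) (iv F25804)
theorem F37954 : act 5 n20082 = n20076 := d20_1 D20082 (iv D20076) F29172 D18330 F32145 (iv D14848) D14847
def n20083 : Q := act 1 n14860
theorem D20083 : act 1 n14860 = n20083 := rfl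
def n20084 : Q := act 3 n14860
theorem D20084 : act 3 n14860 = n20084 := rfl
theorem F37955 : act 0 n20084 = n14861 := d2_1 D20084 (iv D14861) D14860
def n20085 : Q := act 5 n14860
theorem D20085 : act 5 n14860 = n20085 := rfl
theorem F37956 : act 0 n20085 = n14863 := d4_1 D20085 (iv D14863) D14860
theorem F37957 : act 2 n20085 = n18664 := d13_1 D20085 (iv F34887) F33406
theorem F37958 : act 4 n20085 = n17650 := d18_1 D20085 (iv F36224) F36223
theorem F37959 : act 6 n20085 = n17333 := d22_1 D20085 (iv F35206) (iv D14864) D14860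
theorem F37960 : act 1 n17324 = n20085 := d10_5 F37959 (iv D17333) (iv D12816) D12812 D17324
def n20086 : Q := act 2 n14861
theorem D20086 : act 2 n14861 = n20086 := rfl
theorem F37961 : act 1 n20086 = n15339 := d6_1 D20086 F35705 F25770 (iv F20266) (iv F25831)
theorem F37962 : act 5 n15340 = n20086 := d9_0 F37961 (iv D15339) (iv D11732) D11733 D15340
def n20087 : Q := act 4 n14861
theorem D20087 : act 4 n14861 = n20087 := rfl
theorem F37963 : act 1 n20087 = n14865 := d8_1 D20087 (iv D14865) (iv F25831)
theorem F37964 : act 3 n20087 = n19289 := d15_1 D20087 (iv D19289) (iv F24686) F32939 D14861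
def n20088 : Q := act 5 n14861
theorem D20088 : act 5 n14861 = n20088 := rfl
theorem F37965 : act 1 n20088 = n20088 := d9_1 D20088 (iv D20088) F25831 F20267 (iv F25831)
theorem F37966 : act 2 n20088 = n15340 := d13_1 D20088 F37962 (iv D20086)
theorem F37967 : act 3 n20088 = n14863 := d16_1 D20088 (iv D14863) D14861
def n20089 : Q := act 6 n14861
theorem D20089 : act 6 n14861 = n20089 := rfl
theorem F37968 : act 3 n20089 = n14864 := d17_1 D20089 (iv D14864) D14861
def n20090 : Q := act 6 n14863
theorem D20090 : act 6 n14863 = n20090 := rfl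
theorem F37969 : act 0 n20090 = n17333 := d5_1 D20090 (iv F37959) F37956
theorem F37970 : act 2 n20090 = n18667 := d14_1 D20090 (iv F34886) F33410
theorem F37971 : act 4 n20090 = n17648 := d19_1 D20090 (iv F36229) F36228
theorem F37972 : act 5 n20090 = n19938 := d20_1 D20090 F37684 D20085 F37959 (iv F35206) (iv D14864) D14863
def n20091 : Q := act 2 n14868
theorem D20091 : act 2 n14868 = n20091 := rfl
theorem F37973 : act 0 n20091 = n14872 := d1_1 D20091 (iv D14872) (iv F25838)
theorem F37974 : act 1 n20091 = n19046 := d6_1 D20091 (iv D19046) (iv D13854) D13855 (iv F35068)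
theorem F37975 : act 3 n20091 = n15214 := d11_2 D14868 D20091 F26495 F20641 F34723 F34513 F19200 D11459 D14872 F35075 (iv D16602) F34730 (iv D11326) (iv F20094) F34507
theorem F37976 : act 6 n20091 = n15212 := d14_2 (iv F35069) D20091 F35073
def n20092 : Q := act 4 n14868
theorem D20092 : act 4 n14868 = n20092 := rfl
theorem F37977 : act 0 n20092 = n14873 := d3_1 D20092 (iv D14873) (iv F25838)
theorem F37978 : act 1 n20092 = n18727 := d8_1 D20092 F33520 (iv F35068)
theorem F37979 : act 3 n20092 = n18727 := d15_1 D20092 F33520 (iv F34476) (iv F34492) D14868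
theorem F37980 : act 6 n20092 = n18300 := d19_2 (iv F35069) D20092 F32042
def n20093 : Q := act 5 n14868
theorem D20093 : act 5 n14868 = n20093 := rfl
theorem F37981 : act 0 n20093 = n14874 := d4_1 D20093 (iv D14874) (iv F25838)
theorem F37982 : act 3 n20093 = n14870 := d16_1 D20093 (iv D14870) D14868
def n20094 : Q := act 1 n14870
theorem D20094 : act 1 n14870 = n20094 := rfl
theorem F37983 : act 4 n20094 = n15467 := d8_2 (iv F35013) D20094 (iv F35369)
theorem F37984 : act 5 n20094 = n15467 := d9_2 D14870 D20094 (iv F35369) (iv D14591) F34508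
theorem F37985 : act 6 n20094 = n15465 := d10_2 F25854 D20094 F26855 D15473 (iv F35011)
def n20095 : Q := act 4 n14872
theorem D20095 : act 4 n14872 = n20095 := rfl
theorem F37986 : act 1 n20095 = n17246 := d8_1 D20095 (iv D17246) (iv F25842)
theorem F37987 : act 2 n20095 = n14873 := d12_1 D20095 (iv D14873) D14872
theorem F37988 : act 6 n20095 = n18421 := d19_2 (iv F34631) D20095 F32335
def n20096 : Q := act 5 n14872
theorem D20096 : act 5 n14872 = n20096 := rfl
theorem F37989 : act 2 n20096 = n14874 := d13_1 D20096 (iv D14874) D14872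
def n20097 : Q := act 5 n14873
theorem D20097 : act 5 n14873 = n20097 := rfl
theorem F37990 : act 1 n20097 = n17295 := d9_1 D20097 (iv D17295) F22391 (iv F20275) (iv F25843)
theorem F37991 : act 3 n20097 = n18730 := d16_1 D20097 (iv D18730) (iv F35505)
theorem F37992 : act 4 n20097 = n14874 := d18_1 D20097 (iv D14874) D14873
def n20098 : Q := act 6 n14873
theorem D20098 : act 6 n14873 = n20098 := rfl
theorem F37993 : act 0 n20098 = n18300 := d5_1 D20098 (iv F37980) F37977
theorem F37994 : act 1 n20098 = n15557 := d10_1 D20098 (iv D15557) F20941 (iv F20276) (iv F25843)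
theorem F37995 : act 2 n20098 = n18421 := d14_1 D20098 (iv F37988) F37987
theorem F37996 : act 3 n20098 = n18712 := d17_1 D20098 F33497 (iv F35505)
theorem F37997 : act 4 n20098 = n14875 := d19_1 D20098 (iv D14875) D14873
def n20099 : Q := act 5 n14875
theorem D20099 : act 5 n14875 = n20099 := rfl
theorem F37998 : act 0 n20099 = n18341 := d4_1 D20099 (iv D18341) (iv F34218)
theorem F37999 : act 2 n20099 = n18600 := d13_1 D20099 (iv D18600) (iv F34219)
theorem F38000 : act 3 n20099 = n14880 := d16_1 D20099 (iv D14880) (iv F25847)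
theorem F38001 : act 6 n20099 = n20093 := d20_2 D14875 D20099 (iv D20093) F35069 D18341 F35067 (iv D14874)
def n20100 : Q := act 1 n14887
theorem D20100 : act 1 n14887 = n20100 := rfl
def n20101 : Q := act 3 n14887
theorem D20101 : act 3 n14887 = n20101 := rfl
theorem F38002 : act 0 n20101 = n14888 := d2_1 D20101 (iv D14888) D14887
def n20102 : Q := act 6 n14887
theorem D20102 : act 6 n14887 = n20102 := rfl
theorem F38003 : act 0 n20102 = n14891 := d5_1 D20102 (iv D14891) D14887
theorem F38004 : act 2 n20102 = n18686 := d14_1 D20102 F35202 F33450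
theorem F38005 : act 4 n20102 = n17823 := d19_1 D20102 F36326 F36325
theorem F38006 : act 5 n20102 = n17409 := d22_2 F37637 D20102 F35211 (iv F37636)
theorem F38007 : act 1 n17400 = n20102 := d9_5 F38006 (iv D17409) (iv D12855) D12852 D17400
def n20103 : Q := act 2 n14888
theorem D20103 : act 2 n14888 = n20103 := rfl
theorem F38008 : act 1 n20103 = n15396 := d6_1 D20103 (iv F35709) F25789 (iv F20291) (iv F25872)
theorem F38009 : act 6 n15397 = n20103 := d10_0 F38008 (iv D15396) (iv D11760) D11761 D15397
def n20104 : Q := act 4 n14888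
theorem D20104 : act 4 n14888 = n20104 := rfl
theorem F38010 : act 1 n20104 = n14892 := d8_1 D20104 (iv D14892) (iv F25872)
theorem F38011 : act 3 n20104 = n19346 := d15_1 D20104 (iv D19346) (iv F24795) F32712 D14888
def n20105 : Q := act 5 n14888
theorem D20105 : act 5 n14888 = n20105 := rfl
theorem F38012 : act 3 n20105 = n14890 := d16_1 D20105 (iv D14890) D14888
def n20106 : Q := act 6 n14888
theorem D20106 : act 6 n14888 = n20106 := rfl
theorem F38013 : act 1 n20106 = n20106 := d10_1 D20106 (iv D20106) F25872 F20292 (iv F25872)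
theorem F38014 : act 2 n20106 = n15397 := d14_1 D20106 F38009 (iv D20103)
theorem F38015 : act 3 n20106 = n14891 := d17_1 D20106 (iv D14891) D14888
def n20107 : Q := act 5 n14891
theorem D20107 : act 5 n14891 = n20107 := rfl
theorem F38016 : act 0 n20107 = n17409 := d4_1 D20107 (iv F38006) F38003
theorem F38017 : act 2 n20107 = n18692 := d13_1 D20107 (iv F35201) F33460
theorem F38018 : act 4 n20107 = n17822 := d18_1 D20107 F36331 F36330
theorem F38019 : act 6 n20107 = n19918 := d20_2 D14891 D20107 F37637 D20102 F38006 F35211 (iv D14890)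
def n20108 : Q := act 2 n14916
theorem D20108 : act 2 n14916 = n20108 := rfl
theorem F38020 : act 4 n20108 = n15148 := d12_2 (iv F25936) D20108 (iv D15148)
theorem F38021 : act 5 n20108 = n15931 := d13_2 (iv F25937) D20108 (iv D15931)
def n20109 : Q := act 6 n14916
theorem D20109 : act 6 n14916 = n20109 := rfl
theorem F38022 : act 0 n20109 = n16380 := d5_1 D20109 F28382 F28093
theorem F38023 : act 1 n20109 = n16405 := d10_1 D20109 (iv F28424) (iv D14927) F20355 D14916
theorem F38024 : act 4 n20109 = n15149 := d19_1 D20109 (iv D15149) (iv F25936)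
def n20110 : Q := act 2 n14917
theorem D20110 : act 2 n14917 = n20110 := rfl
theorem F38025 : act 4 n20110 = n15150 := d12_2 (iv F25938) D20110 (iv D15150)
theorem F38026 : act 6 n20110 = n15934 := d14_2 (iv F25939) D20110 (iv D15934)
def n20111 : Q := act 5 n14917
theorem D20111 : act 5 n14917 = n20111 := rfl
theorem F38027 : act 0 n20111 = n16277 := d4_1 D20111 (iv F28311) F28309
theorem F38028 : act 1 n20111 = n16302 := d9_1 D20111 (iv F28222) (iv D14923) F20350 D14917
theorem F38029 : act 4 n20111 = n15151 := d18_1 D20111 (iv D15151) (iv F25938)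
def n20112 : Q := act 2 n14918
theorem D20112 : act 2 n14918 = n20112 := rfl
theorem F38030 : act 4 n20112 = n15950 := d12_2 (iv F25941) D20112 (iv D15950)
theorem F38031 : act 5 n20112 = n14934 := d13_2 (iv F25942) D20112 (iv D14934)
def n20113 : Q := act 6 n14918
theorem D20113 : act 6 n14918 = n20113 := rfl
theorem F38032 : act 3 n20113 = n14922 := d17_1 D20113 (iv D14922) (iv F25940)
theorem F38033 : act 4 n20113 = n15951 := d19_1 D20113 (iv D15951) (iv F25941)
def n20114 : Q := act 1 n14919
theorem D20114 : act 1 n14919 = n20114 := rfl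
theorem F38034 : act 3 n20114 = n14923 := d7_2 (iv F25944) D20114 (iv D14923)
theorem F38035 : act 4 n20114 = n15952 := d8_2 (iv F25945) D20114 (iv D15952)
def n20115 : Q := act 2 n14920
theorem D20115 : act 2 n14920 = n20115 := rfl
theorem F38036 : act 4 n20115 = n15954 := d12_2 (iv F25948) D20115 (iv D15954)
theorem F38037 : act 6 n20115 = n14937 := d14_2 (iv F25949) D20115 (iv D14937)
def n20116 : Q := act 5 n14920
theorem D20116 : act 5 n14920 = n20116 := rfl
theorem F38038 : act 3 n20116 = n14926 := d16_1 D20116 (iv D14926) (iv F25947)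
theorem F38039 : act 4 n20116 = n15955 := d18_1 D20116 (iv D15955) (iv F25948)
def n20117 : Q := act 1 n14921
theorem D20117 : act 1 n14921 = n20117 := rfl
theorem F38040 : act 3 n20117 = n14927 := d7_2 (iv F25952) D20117 (iv D14927)
theorem F38041 : act 4 n20117 = n15956 := d8_2 (iv F25953) D20117 (iv D15956)
def n20118 : Q := act 1 n14922
theorem D20118 : act 1 n14922 = n20118 := rfl
theorem F38042 : act 0 n20118 = n16140 := d0_1 D20118 (iv D16140) (iv D12138) (iv D9995) (iv F7893) D10058 D12280 F25996 F25992
theorem F38043 : act 4 n20118 = n15159 := d8_2 (iv F25955) D20118 (iv D15159)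
theorem F38044 : act 5 n20118 = n16305 := d9_2 F25989 D20118 F28227 D16328 F28275
theorem F38045 : act 6 n20118 = n14923 := d10_2 D14922 D20118 (iv D14923) (iv D11495) D11494
def n20119 : Q := act 2 n14923
theorem D20119 : act 2 n14923 = n20119 := rfl
theorem F38046 : act 4 n20119 = n15160 := d12_2 (iv F25956) D20119 (iv D15160)
def n20120 : Q := act 1 n14926
theorem D20120 : act 1 n14926 = n20120 := rfl
theorem F38047 : act 0 n20120 = n16100 := d0_1 D20120 (iv D16100) (iv D12119) (iv D9987) (iv F7874) D10035 D12228 (iv F34733) F34732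
theorem F38048 : act 4 n20120 = n15164 := d8_2 (iv F25961) D20120 (iv D15164)
theorem F38049 : act 5 n20120 = n14927 := d9_2 D14926 D20120 (iv D14927) (iv D11497) D11496
theorem F38050 : act 6 n20120 = n16407 := d10_2 F26002 D20120 F28426 D16430 (iv F28476)
def n20121 : Q := act 2 n14927
theorem D20121 : act 2 n14927 = n20121 := rfl
theorem F38051 : act 4 n20121 = n15165 := d12_2 (iv F25962) D20121 (iv D15165)
def n20122 : Q := act 1 n14928
theorem D20122 : act 1 n14928 = n20122 := rfl
theorem F38052 : act 0 n20122 = n20122 := d0_1 D20122 (iv D20122) (iv D14928) (iv D11498) F13893 F6865 (iv F13893) D11498 D14928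
theorem F38053 : act 2 n20122 = n15973 := d6_2 F31776 D20122 (iv D15973) F23961 (iv F31774)
theorem F38054 : act 3 n20122 = n20122 := d7_2 F25963 D20122 (iv D20122)
theorem F38055 : act 4 n20122 = n15973 := d8_2 (iv F25964) D20122 (iv D15973)
theorem F38056 : act 5 n20122 = n20122 := d18_0 F38055 F33537 (iv F38055)
theorem F38057 : act 6 n20122 = n20122 := d19_0 F38055 F35336 (iv F38055)
def n20123 : Q := act 5 n14928
theorem D20123 : act 5 n14928 = n20123 := rfl
theorem F38058 : act 0 n20123 = n14929 := d4_1 D20123 (iv D14929) D14928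
theorem F38059 : act 1 n20123 = n20123 := d9_1 D20123 (iv D20123) D20122 F38056 (iv D20122)
theorem F38060 : act 3 n20123 = n20123 := d16_1 D20123 (iv D20123) F25963
theorem F38061 : act 4 n20123 = n15975 := d18_1 D20123 (iv D15975) (iv F25964)
def n20124 : Q := act 6 n14928
theorem D20124 : act 6 n14928 = n20124 := rfl
theorem F38062 : act 0 n20124 = n14930 := d5_1 D20124 (iv D14930) D14928
theorem F38063 : act 1 n20124 = n20124 := d10_1 D20124 (iv D20124) D20122 F38057 (iv D20122)
theorem F38064 : act 3 n20124 = n20124 := d17_1 D20124 (iv D20124) F25963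
theorem F38065 : act 4 n20124 = n15976 := d19_1 D20124 (iv D15976) (iv F25964)
def n20125 : Q := act 1 n14929
theorem D20125 : act 1 n14929 = n20125 := rfl
theorem F38066 : act 3 n20125 = n20125 := d7_2 F25965 D20125 (iv D20125)
theorem F38067 : act 4 n20125 = n15979 := d8_2 (iv F25966) D20125 (iv D15979)
theorem F38068 : act 5 n20125 = n14931 := d9_2 D14929 D20125 (iv D14931) (iv D11499) D11498
def n20126 : Q := act 6 n14929
theorem D20126 : act 6 n14929 = n20126 := rfl
theorem F38069 : act 3 n20126 = n20126 := d17_1 D20126 (iv D20126) F25965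
theorem F38070 : act 4 n20126 = n15980 := d19_1 D20126 (iv D15980) (iv F25966)
theorem F38071 : act 5 n20126 = n20124 := d22_2 D14929 D20126 (iv D20124) (iv D14928)
def n20127 : Q := act 1 n14930
theorem D20127 : act 1 n14930 = n20127 := rfl
theorem F38072 : act 3 n20127 = n20127 := d7_2 F25967 D20127 (iv D20127)
theorem F38073 : act 4 n20127 = n15981 := d8_2 (iv F25968) D20127 (iv D15981)
theorem F38074 : act 6 n20127 = n14932 := d10_2 D14930 D20127 (iv D14932) (iv D11500) D11498
def n20128 : Q := act 5 n14930
theorem D20128 : act 5 n14930 = n20128 := rfl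
theorem F38075 : act 0 n20128 = n20126 := d4_1 D20128 F38071 F38062
theorem F38076 : act 3 n20128 = n20128 := d16_1 D20128 (iv D20128) F25967
theorem F38077 : act 4 n20128 = n15982 := d18_1 D20128 (iv D15982) (iv F25968)
theorem F38078 : act 6 n20128 = n20123 := d20_2 D14930 D20128 (iv D20123) D20124 (iv F38071) (iv D20126) (iv D14929)
def n20129 : Q := act 0 n14931
theorem D20129 : act 0 n14931 = n20129 := rfl
theorem F38079 : act 1 n20129 = n20129 := d0_2 D14931 D20129 (iv D20129) (iv D14931) F20358 D11509 F23997 (iv D11509) (iv F20358)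
theorem F38080 : act 3 n20129 = n20129 := d2_2 F25969 D20129 (iv D20129)
theorem F38081 : act 4 n20129 = n15985 := d3_2 (iv F25970) D20129 (iv D15985)
def n20130 : Q := act 2 n14931
theorem D20130 : act 2 n14931 = n20130 := rfl
theorem F38082 : act 1 n20130 = n14934 := d6_1 D20130 (iv D14934) (iv D11501) (iv F20359) D14931
theorem F38083 : act 4 n20130 = n15986 := d12_2 (iv F25970) D20130 (iv D15986)
def n20131 : Q := act 6 n14931
theorem D20131 : act 6 n14931 = n20131 := rfl
theorem F38084 : act 3 n20131 = n20131 := d17_1 D20131 (iv D20131) F25969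
theorem F38085 : act 4 n20131 = n15987 := d19_1 D20131 (iv D15987) (iv F25970)
theorem F38086 : act 5 n14951 = n20131 := d18_0 F38085 F35331 (iv F26018)
def n20132 : Q := act 0 n14932
theorem D20132 : act 0 n14932 = n20132 := rfl
theorem F38087 : act 1 n20132 = n20132 := d0_2 D14932 D20132 (iv D20132) (iv D14932) F20362 D11511 F34689 (iv D11511) (iv F20362)
theorem F38088 : act 3 n20132 = n20132 := d2_2 F25971 D20132 (iv D20132)
theorem F38089 : act 4 n20132 = n15988 := d3_2 (iv F25972) D20132 (iv D15988)
def n20133 : Q := act 2 n14932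
theorem D20133 : act 2 n14932 = n20133 := rfl
theorem F38090 : act 1 n20133 = n14937 := d6_1 D20133 (iv D14937) (iv D11502) (iv F20363) D14932
theorem F38091 : act 4 n20133 = n15989 := d12_2 (iv F25972) D20133 (iv D15989)
def n20134 : Q := act 5 n14932
theorem D20134 : act 5 n14932 = n20134 := rfl
theorem F38092 : act 1 n20134 = n20131 := d9_1 D20134 (iv F38086) (iv D14951) F20385 D14932
theorem F38093 : act 3 n20134 = n20134 := d16_1 D20134 (iv D20134) F25971
theorem F38094 : act 4 n20134 = n15990 := d18_1 D20134 (iv D15990) (iv F25972)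
theorem F38095 : act 6 n14955 = n20134 := d24_0 (iv D20134) (iv D14932) (iv D11500) D11499 D14931 D20131 (iv F38086) (iv D14951) (iv D11510) (iv D9311) F6865 D9312 D11512 D14955
def n20135 : Q := act 1 n14933
theorem D20135 : act 1 n14933 = n20135 := rfl
theorem F38096 : act 3 n20135 = n14939 := d7_2 (iv F25973) D20135 (iv D14939)
theorem F38097 : act 4 n20135 = n15991 := d8_2 (iv F25974) D20135 (iv D15991)
theorem F38098 : act 5 n20135 = n19561 := d9_2 F25991 D20135 F36720 (iv F36987) F36986
def n20136 : Q := act 2 n14933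
theorem D20136 : act 2 n14933 = n20136 := rfl
theorem F38099 : act 0 n20136 = n14934 := d1_1 D20136 (iv D14934) D14933
theorem F38100 : act 4 n20136 = n15992 := d12_2 (iv F25974) D20136 (iv D15992)
def n20137 : Q := act 6 n14933
theorem D20137 : act 6 n14933 = n20137 := rfl
theorem F38101 : act 0 n20137 = n14935 := d5_1 D20137 (iv D14935) D14933
theorem F38102 : act 3 n20137 = n14940 := d17_1 D20137 (iv D14940) (iv F25973)
theorem F38103 : act 4 n20137 = n15993 := d19_1 D20137 (iv D15993) (iv F25974)
theorem F38104 : act 5 n20137 = n20113 := d22_2 F25991 D20137 (iv D20113) (iv F25990)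
def n20138 : Q := act 3 n14934
theorem D20138 : act 3 n14934 = n20138 := rfl
def n20139 : Q := act 6 n14934
theorem D20139 : act 6 n14934 = n20139 := rfl
theorem F38105 : act 2 n20139 = n14935 := d14_1 D20139 (iv D14935) D14934
theorem F38106 : act 4 n20139 = n15995 := d19_1 D20139 (iv D15995) (iv F25975)
def n20140 : Q := act 5 n14935
theorem D20140 : act 5 n14935 = n20140 := rfl
theorem F38107 : act 0 n20140 = n20113 := d4_1 D20140 (iv F38104) F38101
theorem F38108 : act 3 n20140 = n14942 := d16_1 D20140 F25995 (iv F25976)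
theorem F38109 : act 4 n20140 = n15996 := d18_1 D20140 (iv D15996) (iv F25977)
theorem F38110 : act 6 n20140 = n14941 := d20_2 D14935 D20140 F25991 D20137 F38104 (iv D20113) F25942
theorem F38111 : act 1 n16227 = n20140 := d7_3 F38108 (iv F25996) (iv F28061)
def n20141 : Q := act 1 n14936
theorem D20141 : act 1 n14936 = n20141 := rfl
theorem F38112 : act 3 n20141 = n14943 := d7_2 (iv F25978) D20141 (iv D14943)
theorem F38113 : act 4 n20141 = n15997 := d8_2 (iv F25979) D20141 (iv D15997)
theorem F38114 : act 6 n20141 = n19566 := d10_2 (iv F35289) D20141 F36742 (iv F36990) F36989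
def n20142 : Q := act 2 n14936
theorem D20142 : act 2 n14936 = n20142 := rfl
theorem F38115 : act 0 n20142 = n14937 := d1_1 D20142 (iv D14937) D14936
theorem F38116 : act 4 n20142 = n15998 := d12_2 (iv F25979) D20142 (iv D15998)
def n20143 : Q := act 5 n14936
theorem D20143 : act 5 n14936 = n20143 := rfl
theorem F38117 : act 0 n20143 = n14938 := d4_1 D20143 (iv D14938) D14936
theorem F38118 : act 3 n20143 = n14945 := d16_1 D20143 (iv D14945) (iv F25978)
theorem F38119 : act 4 n20143 = n15999 := d18_1 D20143 (iv D15999) (iv F25979)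
theorem F38120 : act 6 n20143 = n20116 := d22_1 D20143 (iv D20116) F25949 D14936
def n20144 : Q := act 3 n14937
theorem D20144 : act 3 n14937 = n20144 := rfl
def n20145 : Q := act 5 n14937
theorem D20145 : act 5 n14937 = n20145 := rfl
theorem F38121 : act 2 n20145 = n14938 := d13_1 D20145 (iv D14938) D14937
theorem F38122 : act 4 n20145 = n16001 := d18_1 D20145 (iv D16001) (iv F25980)
def n20146 : Q := act 6 n14938
theorem D20146 : act 6 n14938 = n20146 := rfl
theorem F38123 : act 0 n20146 = n20116 := d5_1 D20146 (iv F38120) F38117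
theorem F38124 : act 3 n20146 = n14947 := d17_1 D20146 F34734 (iv F25981)
theorem F38125 : act 4 n20146 = n16002 := d19_1 D20146 (iv D16002) (iv F25982)
theorem F38126 : act 5 n20146 = n14946 := d20_1 D20146 (iv F35289) D20143 F38120 (iv D20116) F25949 D14938
theorem F38127 : act 1 n16182 = n20146 := d7_3 F38124 F34733 (iv F28000)
def n20147 : Q := act 6 n14939
theorem D20147 : act 6 n14939 = n20147 := rfl
theorem F38128 : act 0 n20147 = n16348 := d5_1 D20147 (iv F28308) F27666
theorem F38129 : act 1 n20147 = n16321 := d10_1 D20147 (iv F28274) F28275 (iv D14940) D14939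
theorem F38130 : act 2 n20147 = n19544 := d14_1 D20147 (iv D19544) (iv F25983)
theorem F38131 : act 4 n20147 = n15166 := d19_1 D20147 (iv D15166) (iv F25984)
theorem F38132 : act 5 n20147 = n16004 := d20_1 D20147 (iv D16004) D16003 F28308 (iv F36726) (iv D19562) (iv F25985)
def n20148 : Q := act 2 n14941
theorem D20148 : act 2 n14941 = n20148 := rfl
theorem F38133 : act 0 n20148 = n20112 := d1_1 D20148 (iv D20112) (iv F25990)
theorem F38134 : act 5 n20148 = n20136 := d13_2 (iv F25991) D20148 (iv D20136)
def n20149 : Q := act 5 n14943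
theorem D20149 : act 5 n14943 = n20149 := rfl
theorem F38135 : act 0 n20149 = n16245 := d4_1 D20149 (iv F28097) F27693
theorem F38136 : act 1 n20149 = n16425 := d9_1 D20149 (iv F28475) (iv F28476) (iv D14945) D14943
theorem F38137 : act 2 n20149 = n19547 := d13_1 D20149 (iv D19547) (iv F35281)
theorem F38138 : act 4 n20149 = n15168 := d18_1 D20149 (iv D15168) (iv F25997)
theorem F38139 : act 6 n20149 = n16016 := d20_2 F34707 D20149 (iv D16016) D16017 F28097 (iv F36748) (iv D19567)
def n20150 : Q := act 2 n14946
theorem D20150 : act 2 n14946 = n20150 := rfl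
theorem F38140 : act 0 n20150 = n20115 := d1_1 D20150 (iv D20115) F35288
theorem F38141 : act 6 n20150 = n20142 := d14_2 F35289 D20150 (iv D20142)
def n20151 : Q := act 3 n14949
theorem D20151 : act 3 n14949 = n20151 := rfl
theorem F38142 : act 0 n20151 = n20151 := d2_1 D20151 (iv D20151) F26009
theorem F38143 : act 1 n20151 = n14958 := d7_1 D20151 (iv D14958) (iv F26010)
theorem F38144 : act 5 n20151 = n20151 := d16_2 F26012 D20151 (iv D20151)
def n20152 : Q := act 6 n14949
theorem D20152 : act 6 n14949 = n20152 := rfl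
theorem F38146 : act 2 n20152 = n14950 := d14_1 D20152 (iv D14950) D14949
theorem F38147 : act 4 n20152 = n16035 := d19_1 D20152 (iv D16035) (iv F26011)
def n20153 : Q := act 1 n14950
theorem D20153 : act 1 n14950 = n20153 := rfl
theorem F38149 : act 3 n20153 = n20153 := d7_2 F26014 D20153 (iv D20153)
theorem F38150 : act 4 n20153 = n16036 := d8_2 (iv F26015) D20153 (iv D16036)
theorem F38151 : act 6 n20153 = n14951 := d10_2 D14950 D20153 (iv D14951) (iv D11510) D11509
theorem F38152 : act 5 n20129 = n20153 := d22_0 F38151 F38086 (iv D20131) D20129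
theorem F38153 : act 0 n20153 = n20125 := d22_4 F38068 D20131 (iv F38086) (iv F38151)
def n20154 : Q := act 0 n14951
theorem D20154 : act 0 n14951 = n20154 := rfl
theorem F38154 : act 3 n20154 = n20154 := d2_2 F26017 D20154 (iv D20154)
theorem F38155 : act 4 n20154 = n16037 := d3_2 (iv F26018) D20154 (iv D16037)
theorem F38156 : act 6 n20154 = n20125 := d5_2 F38151 D20154 (iv F38153)
def n20155 : Q := act 2 n14951
theorem D20155 : act 2 n14951 = n20155 := rfl
theorem F38157 : act 1 n20155 = n14962 := d6_1 D20155 (iv D14962) (iv D11516) (iv F20382) D14951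
theorem F38158 : act 4 n20155 = n16038 := d12_2 (iv F26018) D20155 (iv D16038)
def n20156 : Q := act 3 n14953
theorem D20156 : act 3 n14953 = n20156 := rfl
theorem F38159 : act 0 n20156 = n20156 := d2_1 D20156 (iv D20156) F35344
theorem F38160 : act 1 n20156 = n14966 := d7_1 D20156 (iv D14966) (iv F26022)
theorem F38161 : act 6 n20156 = n20156 := d17_2 F26024 D20156 (iv D20156)
def n20157 : Q := act 5 n14953
theorem D20157 : act 5 n14953 = n20157 := rfl
theorem F38163 : act 2 n20157 = n14954 := d13_1 D20157 (iv D14954) D14953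
theorem F38164 : act 4 n20157 = n16044 := d18_1 D20157 (iv D16044) (iv F26023)
def n20158 : Q := act 1 n14954
theorem D20158 : act 1 n14954 = n20158 := rfl
theorem F38166 : act 3 n20158 = n20158 := d7_2 F26025 D20158 (iv D20158)
theorem F38167 : act 4 n20158 = n16045 := d8_2 (iv F26026) D20158 (iv D16045)
theorem F38168 : act 5 n20158 = n14955 := d9_2 D14954 D20158 (iv D14955) (iv D11512) D11511
theorem F38169 : act 0 n20127 = n20158 := d22_4 F38168 F38095 (iv D20134) (iv F38074)
theorem F38170 : act 6 n20158 = n20132 := d22_3 D20134 (iv F38095) (iv F38168) (iv D20132)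
def n20159 : Q := act 0 n14955
theorem D20159 : act 0 n14955 = n20159 := rfl
theorem F38171 : act 3 n20159 = n20159 := d2_2 F26027 D20159 (iv D20159)
theorem F38172 : act 4 n20159 = n16046 := d3_2 (iv F26028) D20159 (iv D16046)
theorem F38173 : act 5 n20159 = n20127 := d4_2 F38168 D20159 F38169
def n20160 : Q := act 2 n14955
theorem D20160 : act 2 n14955 = n20160 := rfl
theorem F38174 : act 1 n20160 = n14970 := d6_1 D20160 (iv D14970) (iv D11520) (iv F20390) D14955
theorem F38175 : act 4 n20160 = n16047 := d12_2 (iv F26028) D20160 (iv D16047)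
def n20161 : Q := act 2 n14956
theorem D20161 : act 2 n14956 = n20161 := rfl
theorem F38176 : act 4 n20161 = n16049 := d12_2 (iv F26030) D20161 (iv D16049)
def n20162 : Q := act 5 n14956
theorem D20162 : act 5 n14956 = n20162 := rfl
theorem F38177 : act 1 n20162 = n15010 := d9_1 D20162 (iv D15010) (iv D11537) (iv F20396) D14956
theorem F38178 : act 3 n20162 = n14974 := d16_1 D20162 (iv D14974) (iv F26029)
theorem F38179 : act 4 n20162 = n16050 := d18_1 D20162 (iv D16050) (iv F26030)
def n20163 : Q := act 6 n14956
theorem D20163 : act 6 n14956 = n20163 := rfl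
theorem F38180 : act 3 n20163 = n14975 := d17_1 D20163 (iv D14975) (iv F26029)
theorem F38181 : act 4 n20163 = n16051 := d19_1 D20163 (iv D16051) (iv F26030)
def n20164 : Q := act 1 n14957
theorem D20164 : act 1 n14957 = n20164 := rfl
theorem F38182 : act 4 n20164 = n15013 := d8_2 (iv F26032) D20164 (iv F27752)
theorem F38183 : act 5 n20164 = n16159 := d9_2 (iv F26033) D20164 F27970 F27755 (iv D15012)
theorem F38184 : act 3 n16160 = n20164 := d16_3 F38183 (iv D16159) D16160
theorem F38185 : act 0 n20164 = n15017 := d2_1 F38184 F26138 (iv F27971)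
def n20165 : Q := act 3 n14957
theorem D20165 : act 3 n14957 = n20165 := rfl
theorem F38186 : act 0 n20165 = n14958 := d2_1 D20165 (iv D14958) (iv F26031)
theorem F38187 : act 1 n20165 = n16160 := d7_1 D20165 F38184 (iv D20164)
theorem F38188 : act 4 n20165 = n16159 := d15_2 (iv F26032) D20165 (iv D16159) (iv F26129) F27753
theorem F38189 : act 5 n20165 = n15013 := d16_2 (iv F26033) D20165 (iv D15013)
def n20166 : Q := act 2 n14958
theorem D20166 : act 2 n14958 = n20166 := rfl
theorem F38190 : act 5 n20166 = n15016 := d13_2 (iv F26034) D20166 (iv D15016)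
theorem E10230 : n20152 = n20151 := ((c23_5 (iv F38190) (iv D20166) (iv F38143) F38142 F38144 F38146 D20153 F38153 F38068 D20130 F38082 (iv F38099) (iv F38134) (iv D20148) (iv F36986) F36985 (iv D16050) D16049 (iv F27751) F26207)).symm
theorem F38191 : act 2 n20151 = n14950 := (sb E10230 F38146)
theorem F38192 : act 4 n20151 = n16035 := (sb E10230 F38147)
theorem F38193 : act 6 n20151 = n14949 := (sb E10230 (iv D20152))
def n20167 : Q := act 4 n14958
theorem D20167 : act 4 n14958 = n20167 := rfl
theorem F38194 : act 0 n20167 = n16159 := d3_1 D20167 (iv F38188) F38186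
theorem F38195 : act 1 n20167 = n16035 := d8_1 D20167 (iv F38192) F38143
theorem F38196 : act 3 n20167 = n16053 := d15_1 D20167 (iv D16053) (iv D12097) (iv F20397) D14958
theorem F38197 : act 5 n20167 = n15017 := d18_2 (iv F26034) D20167 (iv D15017)
theorem F38198 : act 6 n16055 = n20167 := d10_0 F38195 (iv D16035) F21348 D12098 D16055
def n20168 : Q := act 6 n14958
theorem D20168 : act 6 n14958 = n20168 := rfl
theorem F38199 : act 1 n20168 = n14959 := d10_1 D20168 (iv D14959) (iv F26010) (iv F38193) F38143
theorem F38200 : act 3 n20168 = n14959 := d17_1 D20168 (iv D14959) D14958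
theorem F38201 : act 4 n20168 = n16055 := d19_1 D20168 F38198 (iv D20167)
def n20169 : Q := act 0 n14960
theorem D20169 : act 0 n14960 = n20169 := rfl
theorem F38202 : act 3 n20169 = n14982 := d2_2 (iv F26037) D20169 (iv D14982)
theorem F38203 : act 4 n20169 = n16056 := d3_2 (iv F26038) D20169 (iv D16056)
theorem F38204 : act 6 n20169 = n14961 := d5_2 (iv F26039) D20169 (iv D14961)
def n20170 : Q := act 2 n14960
theorem D20170 : act 2 n14960 = n20170 := rfl
theorem F38205 : act 4 n20170 = n16057 := d12_2 (iv F26038) D20170 (iv D16057)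
theorem F38206 : act 6 n20170 = n14962 := d14_2 (iv F26039) D20170 (iv D14962)
def n20171 : Q := act 5 n14960
theorem D20171 : act 5 n14960 = n20171 := rfl
theorem F38207 : act 3 n20171 = n14984 := d16_1 D20171 (iv D14984) (iv F26037)
theorem F38208 : act 4 n20171 = n16058 := d18_1 D20171 (iv D16058) (iv F26038)
def n20172 : Q := act 1 n14961
theorem D20172 : act 1 n14961 = n20172 := rfl
theorem F38209 : act 3 n20172 = n14985 := d7_2 (iv F26040) D20172 (iv D14985)
theorem F38210 : act 4 n20172 = n16059 := d8_2 (iv F26041) D20172 (iv D16059)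
theorem F38211 : act 5 n16211 = n20172 := d16_0 F38209 (iv F26082) (iv F28036)
def n20173 : Q := act 2 n14961
theorem D20173 : act 2 n14961 = n20173 := rfl
theorem F38212 : act 0 n20173 = n14962 := d1_1 D20173 (iv D14962) D14961
theorem F38213 : act 4 n20173 = n16060 := d12_2 (iv F26041) D20173 (iv D16060)
def n20174 : Q := act 5 n14961
theorem D20174 : act 5 n14961 = n20174 := rfl
theorem F38214 : act 0 n20174 = n14963 := d4_1 D20174 (iv D14963) D14961
theorem F38215 : act 1 n20174 = n16080 := d9_1 D20174 F27793 (iv F28035) F38211 (iv D20172)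
theorem F38216 : act 3 n20174 = n14987 := d16_1 D20174 (iv D14987) (iv F26040)
theorem F38217 : act 4 n20174 = n16061 := d18_1 D20174 (iv D16061) (iv F26041)
theorem F38218 : act 6 n20174 = n20171 := d22_1 D20174 (iv D20171) F26039 D14961
def n20175 : Q := act 3 n14962
theorem D20175 : act 3 n14962 = n20175 := rfl
def n20176 : Q := act 5 n14962
theorem D20176 : act 5 n14962 = n20176 := rfl
theorem F38219 : act 2 n20176 = n14963 := d13_1 D20176 (iv D14963) D14962
theorem F38220 : act 4 n20176 = n16063 := d18_1 D20176 (iv D16063) (iv F26042)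
def n20177 : Q := act 6 n14963
theorem D20177 : act 6 n14963 = n20177 := rfl
theorem F38221 : act 0 n20177 = n20171 := d5_1 D20177 (iv F38218) F38214
theorem F38222 : act 3 n20177 = n14990 := d17_1 D20177 (iv D14990) (iv F26044)
theorem F38223 : act 4 n20177 = n16064 := d19_1 D20177 (iv D16064) (iv F26045)
theorem F38224 : act 5 n20177 = n20169 := d20_1 D20177 F38204 D20174 F38218 (iv D20171) F26039 D14963
def n20178 : Q := act 2 n14964
theorem D20178 : act 2 n14964 = n20178 := rfl
theorem F38225 : act 4 n20178 = n16066 := d12_2 (iv F26047) D20178 (iv D16066)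
def n20179 : Q := act 5 n14964
theorem D20179 : act 5 n14964 = n20179 := rfl
theorem F38226 : act 3 n20179 = n14993 := d16_1 D20179 (iv D14993) (iv F26046)
theorem F38227 : act 4 n20179 = n16067 := d18_1 D20179 (iv D16067) (iv F26047)
def n20180 : Q := act 6 n14964
theorem D20180 : act 6 n14964 = n20180 := rfl
theorem F38228 : act 1 n20180 = n15023 := d10_1 D20180 (iv D15023) (iv D11543) (iv F20405) D14964
theorem F38229 : act 3 n20180 = n14994 := d17_1 D20180 (iv D14994) (iv F26046)
theorem F38230 : act 4 n20180 = n16068 := d19_1 D20180 (iv D16068) (iv F26047)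
def n20181 : Q := act 1 n14965
theorem D20181 : act 1 n14965 = n20181 := rfl
theorem F38231 : act 4 n20181 = n15025 := d8_2 (iv F26049) D20181 F34685
theorem F38232 : act 6 n20181 = n16203 := d10_2 (iv F26050) D20181 F28029 (iv F34661) (iv D15024)
theorem F38233 : act 3 n16205 = n20181 := d17_3 F38232 (iv D16203) D16205
theorem F38234 : act 0 n20181 = n15029 := d2_1 F38233 F26161 (iv F34673)
def n20182 : Q := act 3 n14965
theorem D20182 : act 3 n14965 = n20182 := rfl
theorem F38235 : act 0 n20182 = n14966 := d2_1 D20182 (iv D14966) (iv F26048)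
theorem F38236 : act 1 n20182 = n16205 := d7_1 D20182 F38233 (iv D20181)
theorem F38237 : act 4 n20182 = n16203 := d15_2 (iv F26049) D20182 (iv D16203) (iv F26152) F34659
theorem F38238 : act 6 n20182 = n15025 := d17_2 (iv F26050) D20182 (iv D15025)
def n20183 : Q := act 2 n14966
theorem D20183 : act 2 n14966 = n20183 := rfl
theorem F38239 : act 6 n20183 = n15028 := d14_2 (iv F26051) D20183 (iv D15028)
def n20184 : Q := act 4 n14966
theorem D20184 : act 4 n14966 = n20184 := rfl
theorem F38240 : act 0 n20184 = n16203 := d3_1 D20184 (iv F38237) F38235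
theorem F38241 : act 3 n20184 = n16072 := d15_1 D20184 (iv D16072) (iv D12105) (iv F20406) D14966
theorem F38242 : act 6 n20184 = n15029 := d19_2 (iv F26051) D20184 (iv D15029)
def n20185 : Q := act 5 n14966
theorem D20185 : act 5 n14966 = n20185 := rfl
theorem F38243 : act 3 n20185 = n14967 := d16_1 D20185 (iv D14967) D14966
def n20186 : Q := act 1 n14967
theorem D20186 : act 1 n14967 = n20186 := rfl
theorem F38244 : act 4 n20186 = n16074 := d8_2 (iv F26053) D20186 (iv D16074)
def n20187 : Q := act 0 n14968
theorem D20187 : act 0 n14968 = n20187 := rfl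
theorem F38245 : act 3 n20187 = n15001 := d2_2 (iv F26054) D20187 (iv D15001)
theorem F38246 : act 4 n20187 = n16075 := d3_2 (iv F26055) D20187 (iv D16075)
theorem F38247 : act 5 n20187 = n14969 := d4_2 (iv F26056) D20187 (iv D14969)
def n20188 : Q := act 2 n14968
theorem D20188 : act 2 n14968 = n20188 := rfl
theorem F38248 : act 4 n20188 = n16076 := d12_2 (iv F26055) D20188 (iv D16076)
theorem F38249 : act 5 n20188 = n14970 := d13_2 (iv F26056) D20188 (iv D14970)
def n20189 : Q := act 6 n14968
theorem D20189 : act 6 n14968 = n20189 := rfl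
theorem F38250 : act 3 n20189 = n15003 := d17_1 D20189 (iv D15003) (iv F26054)
theorem F38251 : act 4 n20189 = n16077 := d19_1 D20189 (iv D16077) (iv F26055)
def n20190 : Q := act 1 n14969
theorem D20190 : act 1 n14969 = n20190 := rfl
theorem F38252 : act 3 n20190 = n15004 := d7_2 (iv F26057) D20190 (iv D15004)
theorem F38253 : act 4 n20190 = n16078 := d8_2 (iv F26058) D20190 (iv D16078)
theorem F38254 : act 6 n16166 = n20190 := d17_0 F38252 (iv F26113) (iv F27978)
def n20191 : Q := act 2 n14969
theorem D20191 : act 2 n14969 = n20191 := rfl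
theorem F38255 : act 0 n20191 = n14970 := d1_1 D20191 (iv D14970) D14969
theorem F38256 : act 4 n20191 = n16079 := d12_2 (iv F26058) D20191 (iv D16079)
def n20192 : Q := act 6 n14969
theorem D20192 : act 6 n14969 = n20192 := rfl
theorem F38257 : act 0 n20192 = n14971 := d5_1 D20192 (iv D14971) D14969
theorem F38258 : act 1 n20192 = n16061 := d10_1 D20192 F27771 (iv F27977) F38254 (iv D20190)
theorem F38259 : act 3 n20192 = n15006 := d17_1 D20192 (iv D15006) (iv F26057)
theorem F38260 : act 4 n20192 = n16080 := d19_1 D20192 (iv D16080) (iv F26058)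
theorem F38261 : act 5 n20192 = n20189 := d22_2 F38247 D20192 (iv D20189) D20187
def n20193 : Q := act 3 n14970
theorem D20193 : act 3 n14970 = n20193 := rfl
def n20194 : Q := act 6 n14970
theorem D20194 : act 6 n14970 = n20194 := rfl
theorem F38262 : act 2 n20194 = n14971 := d14_1 D20194 (iv D14971) D14970
theorem F38263 : act 4 n20194 = n16082 := d19_1 D20194 (iv D16082) (iv F26059)
def n20195 : Q := act 5 n14971
theorem D20195 : act 5 n14971 = n20195 := rfl
theorem F38264 : act 0 n20195 = n20189 := d4_1 D20195 (iv F38261) F38257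
theorem F38265 : act 3 n20195 = n15009 := d16_1 D20195 (iv D15009) (iv F26061)
theorem F38266 : act 4 n20195 = n16083 := d18_1 D20195 (iv D16083) (iv F26062)
theorem F38267 : act 6 n20195 = n20187 := d20_2 D14971 D20195 F38247 D20192 F38261 (iv D20189) F26056
def n20196 : Q := act 2 n14972
theorem D20196 : act 2 n14972 = n20196 := rfl
theorem F38268 : act 0 n20196 = n14973 := d1_1 D20196 (iv D14973) D14972
theorem F38269 : act 1 n20196 = n18563 := d6_1 D20196 (iv F37165) F37164 F36670 F27667
theorem F38270 : act 4 n20196 = n15177 := d12_2 (iv F26063) D20196 (iv D15177)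
def n20197 : Q := act 1 n14973
theorem D20197 : act 1 n14973 = n20197 := rfl
theorem F38271 : act 2 n20197 = n14976 := d6_2 D14973 D20197 (iv D14976) (iv D11522) D11521
theorem F38272 : act 4 n20197 = n15178 := d8_2 (iv F26064) D20197 (iv D15178)
def n20198 : Q := act 3 n14973
theorem D20198 : act 3 n14973 = n20198 := rfl
def n20199 : Q := act 5 n14973
theorem D20199 : act 5 n14973 = n20199 := rfl
theorem F38273 : act 2 n20199 = n14974 := d13_1 D20199 (iv D14974) D14973
theorem F38274 : act 4 n20199 = n15180 := d18_1 D20199 (iv D15180) (iv F26064)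
def n20200 : Q := act 6 n14973
theorem D20200 : act 6 n14973 = n20200 := rfl
theorem F38275 : act 2 n20200 = n14975 := d14_1 D20200 (iv D14975) D14973
theorem F38276 : act 4 n20200 = n15181 := d19_1 D20200 (iv D15181) (iv F26064)
def n20201 : Q := act 6 n14974
theorem D20201 : act 6 n14974 = n20201 := rfl
theorem F38277 : act 1 n20201 = n16124 := d10_1 D20201 (iv F34714) F34712 (iv D15036) (iv F26065)
theorem F38278 : act 4 n20201 = n15182 := d19_1 D20201 (iv D15182) (iv F26066)
theorem F38279 : act 5 n20201 = n16363 := d22_2 D14974 D20201 F28348 (iv D14972)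
def n20202 : Q := act 5 n14975
theorem D20202 : act 5 n14975 = n20202 := rfl
theorem F38280 : act 0 n20202 = n20201 := d4_1 D20202 F38279 F28346
theorem F38281 : act 4 n20202 = n15183 := d18_1 D20202 (iv D15183) (iv F26067)
theorem F38282 : act 6 n20202 = n15957 := d20_2 D14975 D20202 (iv F27591) (iv F28348) (iv F38279) (iv D20201) (iv D14974)
theorem F38283 : act 1 n20202 = n16345 := d24_2 D14975 D20202 F28301 (iv F27959) (iv D16155) F21434 F21419 D12141 F26206 (iv D15048) (iv D11555) (iv D9333) (iv F13922) D11521
def n20203 : Q := act 0 n14976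
theorem D20203 : act 0 n14976 = n20203 := rfl
theorem F38284 : act 4 n20203 = n15184 := d3_2 (iv F26068) D20203 (iv D15184)
theorem F38285 : act 5 n20203 = n20197 := d23_4 (iv F13922) D11522 D14976 D20203 F38271 (iv D14976) F20413 F13924 (iv D4517) (iv D2175) F1843 (iv D612) (iv D312) F317 (iv F544) D537 (iv F1844) D2175 D4516
def n20204 : Q := act 3 n14976
theorem D20204 : act 3 n14976 = n20204 := rfl
theorem F38286 : act 1 n20204 = n14977 := d7_1 D20204 (iv D14977) D14976
def n20205 : Q := act 5 n14976
theorem D20205 : act 5 n14976 = n20205 := rfl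
theorem F38287 : act 0 n20205 = n20197 := d4_1 D20205 (iv F38285) (iv D20203)
theorem F38288 : act 1 n20205 = n15040 := d9_1 D20205 (iv D15040) (iv D11552) (iv F20415) D14976
theorem F38289 : act 2 n20205 = n20203 := d13_1 D20205 F38285 F38271
theorem F38290 : act 4 n20205 = n15186 := d18_1 D20205 (iv D15186) (iv F26068)
def n20206 : Q := act 6 n14976
theorem D20206 : act 6 n14976 = n20206 := rfl
theorem F38291 : act 4 n20206 = n15187 := d19_1 D20206 (iv D15187) (iv F26068)
def n20207 : Q := act 2 n14977
theorem D20207 : act 2 n14977 = n20207 := rfl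
theorem F38292 : act 0 n20207 = n14978 := d1_1 D20207 (iv D14978) (iv F26069)
theorem F38293 : act 5 n20207 = n15042 := d13_2 (iv F26070) D20207 (iv D15042)
theorem F38294 : act 3 n20207 = n20166 := d21_1 D20207 (iv D20166) (iv D14958) (iv D11514) F13908 D9318 D11523 (iv F26069)
def n20208 : Q := act 4 n14977
theorem D20208 : act 4 n14977 = n20208 := rfl
theorem F38295 : act 0 n20208 = n14979 := d3_1 D20208 (iv D14979) (iv F26069)
theorem F38296 : act 3 n20208 = n15188 := d15_1 D20208 (iv D15188) (iv D11632) (iv F20414) D14977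
theorem F38297 : act 5 n20208 = n15043 := d18_2 (iv F26070) D20208 (iv D15043)
def n20209 : Q := act 1 n14978
theorem D20209 : act 1 n14978 = n20209 := rfl
def n20210 : Q := act 3 n14978
theorem D20210 : act 3 n14978 = n20210 := rfl
theorem F38298 : act 0 n20210 = n20166 := d2_1 D20210 (iv F38294) F38292
theorem F38299 : act 2 n20210 = n20165 := d11_1 D20210 (iv D20165) (iv D14957) F20394 D11522 D14977 D20207 F38294 (iv D20166) (iv D14958) (iv D11514) F13908 D9318 D11523 D14978
theorem F38300 : act 5 n20210 = n15049 := d16_2 (iv F26071) D20210 (iv D15049)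
def n20211 : Q := act 4 n14978
theorem D20211 : act 4 n14978 = n20211 := rfl
theorem F38301 : act 2 n20211 = n14979 := d12_1 D20211 (iv D14979) D14978
theorem F38302 : act 5 n20211 = n15050 := d18_2 (iv F26071) D20211 (iv D15050)
def n20212 : Q := act 6 n14978
theorem D20212 : act 6 n14978 = n20212 := rfl
theorem F38303 : act 2 n20212 = n14980 := d14_1 D20212 (iv D14980) D14978
def n20213 : Q := act 6 n14979
theorem D20213 : act 6 n14979 = n20213 := rfl
theorem F38304 : act 3 n20213 = n15192 := d17_1 D20213 (iv D15192) (iv F26072)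
theorem F38305 : act 4 n20213 = n14980 := d19_1 D20213 (iv D14980) D14979
def n20214 : Q := act 1 n14980
theorem D20214 : act 1 n14980 = n20214 := rfl
theorem F38306 : act 3 n20214 = n14981 := d7_2 (iv F26074) D20214 (iv D14981)
def n20215 : Q := act 0 n14981
theorem D20215 : act 0 n14981 = n20215 := rfl
theorem F38307 : act 4 n20215 = n15194 := d3_2 (iv F26075) D20215 (iv D15194)
def n20216 : Q := act 2 n14981
theorem D20216 : act 2 n14981 = n20216 := rfl
theorem F38308 : act 1 n20216 = n14983 := d6_1 D20216 (iv D14983) (iv D11525) (iv F20417) D14981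
theorem F38309 : act 4 n20216 = n15195 := d12_2 (iv F26075) D20216 (iv D15195)
def n20217 : Q := act 5 n14981
theorem D20217 : act 5 n14981 = n20217 := rfl
theorem F38310 : act 4 n20217 = n15196 := d18_1 D20217 (iv D15196) (iv F26075)
def n20218 : Q := act 1 n14982
theorem D20218 : act 1 n14982 = n20218 := rfl
theorem F38311 : act 0 n20218 = n15969 := d0_1 D20218 (iv D15969) (iv F21330) F26223 (iv D15058) (iv D11561) F13954 D11525 D14982
theorem F38312 : act 4 n20218 = n15197 := d8_2 (iv F26076) D20218 (iv D15197)
theorem F38313 : act 5 n20218 = n15970 := d9_2 F26093 D20218 (iv F28242) (iv F28249) F28247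
def n20219 : Q := act 2 n14982
theorem D20219 : act 2 n14982 = n20219 := rfl
theorem F38314 : act 0 n20219 = n14983 := d1_1 D20219 (iv D14983) D14982
theorem F38315 : act 4 n20219 = n15198 := d12_2 (iv F26076) D20219 (iv D15198)
theorem F38316 : act 6 n20219 = n14986 := d14_2 (iv F26077) D20219 (iv D14986)
def n20220 : Q := act 3 n14983
theorem D20220 : act 3 n14983 = n20220 := rfl
theorem F38317 : act 6 n20220 = n14988 := d17_2 (iv F26079) D20220 (iv D14988)
def n20221 : Q := act 5 n14983
theorem D20221 : act 5 n14983 = n20221 := rfl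
theorem F38318 : act 2 n20221 = n14984 := d13_1 D20221 (iv D14984) D14983
theorem F38319 : act 4 n20221 = n15200 := d18_1 D20221 (iv D15200) (iv F26078)
def n20222 : Q := act 2 n14985
theorem D20222 : act 2 n14985 = n20222 := rfl
theorem F38320 : act 4 n20222 = n15201 := d12_2 (iv F26081) D20222 (iv D15201)
theorem F38321 : act 5 n20222 = n16383 := d13_2 F26082 D20222 F28386
def n20223 : Q := act 1 n14986
theorem D20223 : act 1 n14986 = n20223 := rfl
theorem F38322 : act 4 n20223 = n15202 := d8_2 (iv F26084) D20223 (iv D15202)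
def n20224 : Q := act 3 n14986
theorem D20224 : act 3 n14986 = n20224 := rfl
theorem F38323 : act 0 n20224 = n14988 := d2_1 D20224 (iv D14988) (iv F26083)
def n20225 : Q := act 5 n14986
theorem D20225 : act 5 n14986 = n20225 := rfl
theorem F38324 : act 0 n20225 = n14989 := d4_1 D20225 (iv D14989) (iv F26083)
theorem F38325 : act 2 n20225 = n14987 := d13_1 D20225 (iv D14987) D14986
theorem F38326 : act 4 n20225 = n15204 := d18_1 D20225 (iv D15204) (iv F26084)
theorem F38327 : act 6 n20225 = n20221 := d22_1 D20225 (iv D20221) F26079 (iv F26083)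
def n20226 : Q := act 2 n14988
theorem D20226 : act 2 n14988 = n20226 := rfl
def n20227 : Q := act 4 n14988
theorem D20227 : act 4 n14988 = n20227 := rfl
theorem F38328 : act 3 n20227 = n15206 := d15_1 D20227 (iv D15206) (iv D11643) (iv F20422) D14988
def n20228 : Q := act 5 n14988
theorem D20228 : act 5 n14988 = n20228 := rfl
theorem F38329 : act 3 n20228 = n14989 := d16_1 D20228 (iv D14989) D14988
def n20229 : Q := act 6 n14989
theorem D20229 : act 6 n14989 = n20229 := rfl
theorem F38330 : act 0 n20229 = n20221 := d5_1 D20229 (iv F38327) F38324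
theorem F38331 : act 2 n20229 = n14990 := d14_1 D20229 (iv D14990) (iv F26089)
theorem F38332 : act 4 n20229 = n15209 := d19_1 D20229 (iv D15209) (iv F26090)
theorem F38333 : act 5 n20229 = n20219 := d20_1 D20229 F38316 D20225 F38327 (iv D20221) F26079 D14989
def n20230 : Q := act 2 n14991
theorem D20230 : act 2 n14991 = n20230 := rfl
theorem F38334 : act 0 n20230 = n14992 := d1_1 D20230 (iv D14992) D14991
theorem F38335 : act 1 n20230 = n18603 := d6_1 D20230 (iv F37251) F37250 F36678 F27694
theorem F38336 : act 4 n20230 = n15210 := d12_2 (iv F26094) D20230 (iv D15210)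
def n20231 : Q := act 1 n14992
theorem D20231 : act 1 n14992 = n20231 := rfl
theorem F38337 : act 2 n20231 = n14995 := d6_2 D14992 D20231 (iv D14995) (iv D11530) D11529
theorem F38338 : act 4 n20231 = n15211 := d8_2 (iv F26095) D20231 (iv D15211)
def n20232 : Q := act 3 n14992
theorem D20232 : act 3 n14992 = n20232 := rfl
def n20233 : Q := act 5 n14992
theorem D20233 : act 5 n14992 = n20233 := rfl
theorem F38339 : act 2 n20233 = n14993 := d13_1 D20233 (iv D14993) D14992
theorem F38340 : act 4 n20233 = n15213 := d18_1 D20233 (iv D15213) (iv F26095)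
def n20234 : Q := act 6 n14992
theorem D20234 : act 6 n14992 = n20234 := rfl
theorem F38341 : act 2 n20234 = n14994 := d14_1 D20234 (iv D14994) D14992
theorem F38342 : act 4 n20234 = n15214 := d19_1 D20234 (iv D15214) (iv F26095)
def n20235 : Q := act 6 n14993
theorem D20235 : act 6 n14993 = n20235 := rfl
theorem F38343 : act 4 n20235 = n15215 := d19_1 D20235 (iv D15215) (iv F26096)
theorem F38344 : act 5 n20235 = n15965 := d22_2 D14993 D20235 (iv F27609) (iv D14991)
theorem F38345 : act 1 n16448 = n20235 := d24_14 (iv D20235) (iv D14993) (iv D11529) F13928 D9339 D11569 D15075 (iv F26263) (iv D12122) (iv F21387) (iv F21402) D16115 F27879 (iv F28505)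
def n20236 : Q := act 5 n14994
theorem D20236 : act 5 n14994 = n20236 := rfl
theorem F38346 : act 0 n20236 = n20235 := d4_1 D20236 F38344 F27607
theorem F38347 : act 1 n20236 = n16084 := d9_1 D20236 F27800 (iv F26241) (iv D15065) (iv F26097)
theorem F38348 : act 4 n20236 = n15216 := d18_1 D20236 (iv D15216) (iv F26098)
theorem F38349 : act 6 n20236 = n16256 := d20_2 D14994 D20236 F28123 F27609 (iv F38344) (iv D20235) (iv D14993)
def n20237 : Q := act 0 n14995
theorem D20237 : act 0 n14995 = n20237 := rfl
theorem F38350 : act 4 n20237 = n15217 := d3_2 (iv F26099) D20237 (iv D15217)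
theorem F38351 : act 6 n20231 = n20237 := d19_0 F38350 (iv F35182) (iv F38338)
def n20238 : Q := act 3 n14995
theorem D20238 : act 3 n14995 = n20238 := rfl
theorem F38352 : act 1 n20238 = n14996 := d7_1 D20238 (iv D14996) D14995
def n20239 : Q := act 5 n14995
theorem D20239 : act 5 n14995 = n20239 := rfl
theorem F38353 : act 4 n20239 = n15219 := d18_1 D20239 (iv D15219) (iv F26099)
def n20240 : Q := act 6 n14995
theorem D20240 : act 6 n14995 = n20240 := rfl
theorem F38354 : act 0 n20240 = n20231 := d5_1 D20240 F38351 (iv D20237)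
theorem F38355 : act 1 n20240 = n15068 := d10_1 D20240 (iv D15068) (iv D11566) (iv F20428) D14995
theorem F38356 : act 2 n20240 = n20237 := d14_1 D20240 (iv F38351) F38337
theorem F38357 : act 4 n20240 = n15220 := d19_1 D20240 (iv D15220) (iv F26099)
def n20241 : Q := act 2 n14996
theorem D20241 : act 2 n14996 = n20241 := rfl
theorem F38358 : act 0 n20241 = n14997 := d1_1 D20241 (iv D14997) (iv F26100)
theorem F38359 : act 6 n20241 = n15069 := d14_2 (iv F26101) D20241 (iv D15069)
theorem F38360 : act 3 n20241 = n20183 := d21_1 D20241 (iv D20183) (iv D14966) (iv D11518) F13914 D9322 D11531 (iv F26100)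
def n20242 : Q := act 4 n14996
theorem D20242 : act 4 n14996 = n20242 := rfl
theorem F38361 : act 0 n20242 = n14998 := d3_1 D20242 (iv D14998) (iv F26100)
theorem F38362 : act 3 n20242 = n15221 := d15_1 D20242 (iv D15221) (iv D11651) (iv F20427) D14996
theorem F38363 : act 6 n20242 = n15070 := d19_2 (iv F26101) D20242 (iv D15070)
def n20243 : Q := act 1 n14997
theorem D20243 : act 1 n14997 = n20243 := rfl
def n20244 : Q := act 3 n14997
theorem D20244 : act 3 n14997 = n20244 := rfl
theorem F38364 : act 0 n20244 = n20183 := d2_1 D20244 (iv F38360) F38358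
theorem F38365 : act 2 n20244 = n20182 := d11_1 D20244 (iv D20182) (iv D14965) F20403 D11530 D14996 D20241 F38360 (iv D20183) (iv D14966) (iv D11518) F13914 D9322 D11531 D14997
theorem F38366 : act 6 n20244 = n15076 := d17_2 (iv F26102) D20244 (iv D15076)
def n20245 : Q := act 4 n14997
theorem D20245 : act 4 n14997 = n20245 := rfl
theorem F38367 : act 2 n20245 = n14998 := d12_1 D20245 (iv D14998) D14997
theorem F38368 : act 6 n20245 = n15077 := d19_2 (iv F26102) D20245 (iv D15077)
def n20246 : Q := act 5 n14997
theorem D20246 : act 5 n14997 = n20246 := rfl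
theorem F38369 : act 2 n20246 = n14999 := d13_1 D20246 (iv D14999) D14997
def n20247 : Q := act 5 n14998
theorem D20247 : act 5 n14998 = n20247 := rfl
theorem F38370 : act 3 n20247 = n15225 := d16_1 D20247 (iv D15225) (iv F26103)
theorem F38371 : act 4 n20247 = n14999 := d18_1 D20247 (iv D14999) D14998
def n20248 : Q := act 1 n14999
theorem D20248 : act 1 n14999 = n20248 := rfl
theorem F38372 : act 3 n20248 = n15000 := d7_2 (iv F26105) D20248 (iv D15000)
def n20249 : Q := act 0 n15000
theorem D20249 : act 0 n15000 = n20249 := rfl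
theorem F38373 : act 4 n20249 = n15227 := d3_2 (iv F26106) D20249 (iv D15227)
def n20250 : Q := act 2 n15000
theorem D20250 : act 2 n15000 = n20250 := rfl
theorem F38374 : act 1 n20250 = n15002 := d6_1 D20250 (iv D15002) (iv D11533) (iv F20430) D15000
theorem F38375 : act 4 n20250 = n15228 := d12_2 (iv F26106) D20250 (iv D15228)
def n20251 : Q := act 6 n15000
theorem D20251 : act 6 n15000 = n20251 := rfl
theorem F38376 : act 4 n20251 = n15229 := d19_1 D20251 (iv D15229) (iv F26106)
def n20252 : Q := act 1 n15001
theorem D20252 : act 1 n15001 = n20252 := rfl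
theorem F38377 : act 0 n20252 = n15961 := d0_1 D20252 (iv D15961) (iv F21318) F26280 (iv D15085) (iv D11575) F13966 D11533 D15001
theorem F38378 : act 4 n20252 = n15230 := d8_2 (iv F26107) D20252 (iv D15230)
theorem F38379 : act 6 n20252 = n15962 := d10_2 F26124 D20252 (iv F28444) (iv F28452) F28450
def n20253 : Q := act 2 n15001
theorem D20253 : act 2 n15001 = n20253 := rfl
theorem F38380 : act 0 n20253 = n15002 := d1_1 D20253 (iv D15002) D15001
theorem F38381 : act 4 n20253 = n15231 := d12_2 (iv F26107) D20253 (iv D15231)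
theorem F38382 : act 5 n20253 = n15005 := d13_2 (iv F26108) D20253 (iv D15005)
def n20254 : Q := act 3 n15002
theorem D20254 : act 3 n15002 = n20254 := rfl
theorem F38383 : act 5 n20254 = n15007 := d16_2 (iv F26110) D20254 (iv D15007)
def n20255 : Q := act 6 n15002
theorem D20255 : act 6 n15002 = n20255 := rfl
theorem F38384 : act 2 n20255 = n15003 := d14_1 D20255 (iv D15003) D15002
theorem F38385 : act 4 n20255 = n15233 := d19_1 D20255 (iv D15233) (iv F26109)
def n20256 : Q := act 2 n15004
theorem D20256 : act 2 n15004 = n20256 := rfl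
theorem F38386 : act 4 n20256 = n15234 := d12_2 (iv F26112) D20256 (iv D15234)
theorem F38387 : act 6 n20256 = n16281 := d14_2 F26113 D20256 F28177
def n20257 : Q := act 1 n15005
theorem D20257 : act 1 n15005 = n20257 := rfl
theorem F38388 : act 4 n20257 = n15235 := d8_2 (iv F26115) D20257 (iv D15235)
def n20258 : Q := act 3 n15005
theorem D20258 : act 3 n15005 = n20258 := rfl
theorem F38389 : act 0 n20258 = n15007 := d2_1 D20258 (iv D15007) (iv F26114)
def n20259 : Q := act 6 n15005
theorem D20259 : act 6 n15005 = n20259 := rfl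
theorem F38390 : act 0 n20259 = n15008 := d5_1 D20259 (iv D15008) (iv F26114)
theorem F38391 : act 2 n20259 = n15006 := d14_1 D20259 (iv D15006) D15005
theorem F38392 : act 4 n20259 = n15237 := d19_1 D20259 (iv D15237) (iv F26115)
theorem F38393 : act 5 n20259 = n20255 := d22_2 F38382 D20259 (iv D20255) (iv F38380)
def n20260 : Q := act 2 n15007
theorem D20260 : act 2 n15007 = n20260 := rfl
def n20261 : Q := act 4 n15007
theorem D20261 : act 4 n15007 = n20261 := rfl
theorem F38394 : act 3 n20261 = n15239 := d15_1 D20261 (iv D15239) (iv D11662) (iv F20435) D15007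
def n20262 : Q := act 6 n15007
theorem D20262 : act 6 n15007 = n20262 := rfl
theorem F38395 : act 3 n20262 = n15008 := d17_1 D20262 (iv D15008) D15007
def n20263 : Q := act 5 n15008
theorem D20263 : act 5 n15008 = n20263 := rfl
theorem F38396 : act 0 n20263 = n20255 := d4_1 D20263 (iv F38393) F38390
theorem F38397 : act 2 n20263 = n15009 := d13_1 D20263 (iv D15009) (iv F26120)
theorem F38398 : act 4 n20263 = n15241 := d18_1 D20263 (iv D15241) (iv F26121)
theorem F38399 : act 6 n20263 = n20253 := d20_2 D15008 D20263 F38382 D20259 F38393 (iv D20255) F26110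
def n20264 : Q := act 6 n15010
theorem D20264 : act 6 n15010 = n20264 := rfl
theorem F38400 : act 2 n20264 = n18211 := d14_1 D20264 F31864 (iv F31818)
theorem F38401 : act 3 n20264 = n15036 := d17_1 D20264 (iv D15036) (iv F26125)
theorem F38402 : act 4 n20264 = n16156 := d19_1 D20264 (iv D16156) (iv F26126)
theorem F38403 : act 5 n20264 = n18210 := d22_2 D15010 D20264 (iv D18210) F23421
theorem F38404 : act 1 n19716 = n20264 := d24_14 (iv D20264) (iv D15010) (iv D11537) D11539 F20445 D14960 F26039 D14963 F26043 D20146 F38126 (iv F36989) F36990 D19716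
def n20265 : Q := act 1 n15011
theorem D20265 : act 1 n15011 = n20265 := rfl
theorem F38405 : act 3 n20265 = n15037 := d7_2 (iv F26127) D20265 (iv D15037)
theorem F38406 : act 4 n20265 = n16157 := d8_2 (iv F26128) D20265 (iv D16157)
theorem F38407 : act 6 n20265 = n15015 := d10_2 D15011 D20265 (iv D15015) (iv D11539) D11537
theorem F38408 : act 5 n19710 = n20265 := d16_0 F38405 (iv F35309) D19710
def n20266 : Q := act 5 n15011
theorem D20266 : act 5 n15011 = n20266 := rfl
theorem F38409 : act 0 n20266 = n20264 := d4_1 D20266 F38403 F31857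
theorem F38410 : act 2 n20266 = n18194 := d13_1 D20266 (iv F31856) F31853
theorem F38411 : act 3 n20266 = n15038 := d16_1 D20266 (iv D15038) (iv F26127)
theorem F38412 : act 4 n20266 = n16158 := d18_1 D20266 (iv D16158) (iv F26128)
theorem F38413 : act 6 n20266 = n18193 := d20_2 D15011 D20266 F31821 D18210 (iv F38403) (iv D20264) (iv D15010)
def n20267 : Q := act 6 n15013
theorem D20267 : act 6 n15013 = n20267 := rfl
theorem F38414 : act 0 n20267 = n15018 := d5_1 D20267 (iv D15018) (iv F26130)
theorem F38415 : act 3 n20267 = n15014 := d17_1 D20267 (iv D15014) D15013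
theorem F38416 : act 5 n20267 = n20168 := d22_2 F38189 D20267 (iv D20168) (iv F38186)
def n20268 : Q := act 1 n15014
theorem D20268 : act 1 n15014 = n20268 := rfl
theorem F38417 : act 4 n20268 = n16163 := d8_2 (iv F26133) D20268 (iv D16163)
def n20269 : Q := act 0 n15015
theorem D20269 : act 0 n15015 = n20269 := rfl
theorem F38418 : act 3 n20269 = n15046 := d2_2 (iv F26135) D20269 (iv D15046)
theorem F38419 : act 4 n20269 = n16164 := d3_2 (iv F26136) D20269 (iv D16164)
def n20270 : Q := act 2 n15015
theorem D20270 : act 2 n15015 = n20270 := rfl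
theorem F38420 : act 4 n20270 = n16165 := d12_2 (iv F26136) D20270 (iv D16165)
def n20271 : Q := act 5 n15015
theorem D20271 : act 5 n15015 = n20271 := rfl
theorem F38421 : act 1 n20271 = n20171 := d9_1 D20271 (iv D20171) (iv D14960) (iv F20445) D15015
theorem F38422 : act 3 n20271 = n15048 := d16_1 D20271 (iv D15048) (iv F26135)
theorem F38423 : act 4 n20271 = n16166 := d18_1 D20271 (iv D16166) (iv F26136)
theorem F38424 : act 6 n20271 = n16078 := d22_3 F38408 F38407 D20271 (iv F37119)
def n20272 : Q := act 1 n15016
theorem D20272 : act 1 n15016 = n20272 := rfl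
theorem F38425 : act 2 n20272 = n20272 := d6_2 D15016 D20272 (iv D20272) (iv D15016) F20446
def n20273 : Q := act 4 n15016
theorem D20273 : act 4 n15016 = n20273 := rfl
theorem F38426 : act 2 n20273 = n15017 := d12_1 D20273 (iv D15017) D15016
def n20274 : Q := act 6 n15016
theorem D20274 : act 6 n15016 = n20274 := rfl
theorem F38427 : act 2 n20274 = n15018 := d14_1 D20274 (iv D15018) D15016
def n20275 : Q := act 6 n15017
theorem D20275 : act 6 n15017 = n20275 := rfl
theorem F38428 : act 3 n20275 = n16170 := d17_1 D20275 (iv D16170) (iv F26138)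
theorem F38429 : act 4 n20275 = n15018 := d19_1 D20275 (iv D15018) D15017
def n20276 : Q := act 1 n15018
theorem D20276 : act 1 n15018 = n20276 := rfl
theorem F38430 : act 3 n20276 = n15019 := d7_2 (iv F26139) D20276 (iv D15019)
theorem F38431 : act 6 n20276 = n20276 := d10_2 D15018 D20276 (iv D20276) (iv D15018) F20446
def n20277 : Q := act 5 n15018
theorem D20277 : act 5 n15018 = n20277 := rfl
theorem F38432 : act 0 n20277 = n20168 := d4_1 D20277 (iv F38416) F38414
theorem F38433 : act 3 n20277 = n15020 := d16_1 D20277 (iv D15020) (iv F26139)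
theorem F38434 : act 6 n20277 = n20165 := d20_2 D15018 D20277 F38189 D20267 F38416 (iv D20168) F26034
def n20278 : Q := act 0 n15019
theorem D20278 : act 0 n15019 = n20278 := rfl
def n20279 : Q := act 5 n15019
theorem D20279 : act 5 n15019 = n20279 := rfl
theorem F38437 : act 4 n20279 = n16175 := d18_1 D20279 (iv D16175) (iv F26140)
def n20280 : Q := act 1 n15020
theorem D20280 : act 1 n15020 = n20280 := rfl
theorem F38438 : act 4 n20280 = n16176 := d8_2 (iv F26144) D20280 (iv D16176)
def n20281 : Q := act 0 n15021
theorem D20281 : act 0 n15021 = n20281 := rfl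
theorem F38439 : act 3 n20281 = n15058 := d2_2 (iv F26146) D20281 (iv D15058)
theorem F38440 : act 4 n20281 = n16182 := d3_2 (iv F26147) D20281 (iv D16182)
theorem F38441 : act 1 n16002 = n20281 := d8_3 F38440 F38127 F38125
def n20282 : Q := act 2 n15021
theorem D20282 : act 2 n15021 = n20282 := rfl
theorem F38442 : act 4 n20282 = n16183 := d12_2 (iv F26147) D20282 (iv D16183)
def n20283 : Q := act 6 n15021
theorem D20283 : act 6 n15021 = n20283 := rfl
theorem F38443 : act 1 n20283 = n20163 := d10_1 D20283 (iv D20163) (iv D14956) (iv F20452) D15021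
theorem F38444 : act 3 n20283 = n15060 := d17_1 D20283 (iv D15060) (iv F26146)
theorem F38445 : act 4 n20283 = n16184 := d19_1 D20283 (iv D16184) (iv F26147)
def n20284 : Q := act 1 n15022
theorem D20284 : act 1 n15022 = n20284 := rfl
theorem F38446 : act 3 n20284 = n15063 := d7_2 (iv F26148) D20284 (iv D15063)
theorem F38447 : act 4 n20284 = n16199 := d8_2 (iv F26149) D20284 (iv D16199)
theorem F38448 : act 5 n20284 = n15027 := d9_2 D15022 D20284 (iv D15027) (iv D11545) D11543
theorem F38449 : act 6 n19723 = n20284 := d24_0 F38448 (iv D15027) F20460 (iv D11519) (iv D9315) (iv D4509) D4508 D9313 D11515 (iv F20445) D15015 (iv F38407) (iv F38408) (iv F37162)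
def n20285 : Q := act 6 n15022
theorem D20285 : act 6 n15022 = n20285 := rfl
theorem F38450 : act 2 n20285 = n18198 := d14_1 D20285 (iv F31872) F31869
theorem F38451 : act 3 n20285 = n15064 := d17_1 D20285 (iv D15064) (iv F26148)
theorem F38452 : act 4 n20285 = n16200 := d19_1 D20285 (iv D16200) (iv F26149)
theorem F38453 : act 5 n20285 = n18197 := d22_2 D15022 D20285 F31833 F23452
def n20286 : Q := act 5 n15023
theorem D20286 : act 5 n15023 = n20286 := rfl
theorem F38454 : act 0 n20286 = n20285 := d4_1 D20286 F38453 F31831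
theorem F38455 : act 2 n20286 = n18215 := d13_1 D20286 F31880 (iv F31830)
theorem F38456 : act 3 n20286 = n15065 := d16_1 D20286 (iv D15065) (iv F26150)
theorem F38457 : act 4 n20286 = n16201 := d18_1 D20286 (iv D16201) (iv F26151)
theorem F38458 : act 6 n20286 = n18214 := d20_2 D15023 D20286 (iv D18214) (iv F31833) (iv F38453) (iv D20285) (iv D15022)
theorem F38459 : act 1 n20286 = n19703 := d24_2 D15023 D20286 (iv D19703) (iv F36987) F36986 (iv F38110) (iv D20140) (iv F26060) (iv D14971) (iv F26056) (iv D14968) (iv F20460) (iv D11545) D11543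
def n20287 : Q := act 5 n15025
theorem D20287 : act 5 n15025 = n20287 := rfl
theorem F38460 : act 0 n20287 = n15030 := d4_1 D20287 (iv D15030) (iv F26153)
theorem F38461 : act 3 n20287 = n15026 := d16_1 D20287 (iv D15026) D15025
theorem F38462 : act 6 n20287 = n20185 := d22_1 D20287 (iv D20185) F26051 (iv F26153)
def n20288 : Q := act 1 n15026
theorem D20288 : act 1 n15026 = n20288 := rfl
theorem F38463 : act 4 n20288 = n16208 := d8_2 (iv F26156) D20288 (iv D16208)
def n20289 : Q := act 0 n15027
theorem D20289 : act 0 n15027 = n20289 := rfl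
theorem F38464 : act 3 n20289 = n15073 := d2_2 (iv F26158) D20289 (iv D15073)
theorem F38465 : act 4 n20289 = n16209 := d3_2 (iv F26159) D20289 (iv D16209)
def n20290 : Q := act 2 n15027
theorem D20290 : act 2 n15027 = n20290 := rfl
theorem F38466 : act 4 n20290 = n16210 := d12_2 (iv F26159) D20290 (iv D16210)
def n20291 : Q := act 6 n15027
theorem D20291 : act 6 n15027 = n20291 := rfl
theorem F38467 : act 1 n20291 = n20189 := d10_1 D20291 (iv D20189) (iv D14968) (iv F20460) D15027
theorem F38468 : act 3 n20291 = n15075 := d17_1 D20291 (iv D15075) (iv F26158)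
theorem F38469 : act 4 n20291 = n16211 := d19_1 D20291 (iv D16211) (iv F26159)
theorem F38470 : act 5 n16059 = n20291 := d22_0 (iv D20291) (iv F38448) (iv F38449) F37161
def n20292 : Q := act 1 n15028
theorem D20292 : act 1 n15028 = n20292 := rfl
theorem F38471 : act 2 n20292 = n20292 := d6_2 D15028 D20292 (iv D20292) (iv D15028) F20461
def n20293 : Q := act 4 n15028
theorem D20293 : act 4 n15028 = n20293 := rfl
theorem F38472 : act 2 n20293 = n15029 := d12_1 D20293 (iv D15029) D15028
def n20294 : Q := act 5 n15028
theorem D20294 : act 5 n15028 = n20294 := rfl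
theorem F38473 : act 2 n20294 = n15030 := d13_1 D20294 (iv D15030) D15028
def n20295 : Q := act 5 n15029
theorem D20295 : act 5 n15029 = n20295 := rfl
theorem F38474 : act 3 n20295 = n16215 := d16_1 D20295 (iv D16215) (iv F26161)
theorem F38475 : act 4 n20295 = n15030 := d18_1 D20295 (iv D15030) D15029
def n20296 : Q := act 1 n15030
theorem D20296 : act 1 n15030 = n20296 := rfl
theorem F38476 : act 3 n20296 = n15031 := d7_2 (iv F26162) D20296 (iv D15031)
theorem F38477 : act 5 n20296 = n20296 := d9_2 D15030 D20296 (iv D20296) (iv D15030) F20461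
theorem F38478 : act 0 n16216 = n20296 := d2_3 F38476 F37353 (iv F28041)
def n20297 : Q := act 6 n15030
theorem D20297 : act 6 n15030 = n20297 := rfl
theorem F38479 : act 0 n20297 = n20185 := d5_1 D20297 (iv F38462) F38460
theorem F38480 : act 3 n20297 = n15032 := d17_1 D20297 (iv D15032) (iv F26162)
theorem F38481 : act 5 n20297 = n20182 := d20_1 D20297 F38238 D20287 F38462 (iv D20185) F26051 D15030
def n20298 : Q := act 6 n15031
theorem D20298 : act 6 n15031 = n20298 := rfl
theorem F38482 : act 0 n20298 = n16220 := d5_1 D20298 (iv D16220) (iv F37353)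
theorem F38483 : act 4 n20298 = n16220 := d19_1 D20298 (iv D16220) (iv F26163)
theorem F38484 : act 5 n20298 = n16220 := d22_2 F26164 D20298 (iv D16220) (iv F37353)
def n20299 : Q := act 1 n15032
theorem D20299 : act 1 n15032 = n20299 := rfl
theorem F38485 : act 4 n20299 = n16221 := d8_2 (iv F26167) D20299 (iv D16221)
def n20300 : Q := act 0 n15033
theorem D20300 : act 0 n15033 = n20300 := rfl
theorem F38486 : act 3 n20300 = n15085 := d2_2 (iv F26169) D20300 (iv D15085)
theorem F38487 : act 4 n20300 = n16227 := d3_2 (iv F26170) D20300 (iv D16227)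
theorem F38488 : act 1 n15996 = n20300 := d8_3 F38487 F38111 F38109
def n20301 : Q := act 2 n15033
theorem D20301 : act 2 n15033 = n20301 := rfl
theorem F38489 : act 4 n20301 = n16228 := d12_2 (iv F26170) D20301 (iv D16228)
def n20302 : Q := act 5 n15033
theorem D20302 : act 5 n15033 = n20302 := rfl
theorem F38490 : act 1 n20302 = n20179 := d9_1 D20302 (iv D20179) (iv D14964) (iv F20467) D15033
theorem F38491 : act 3 n20302 = n15087 := d16_1 D20302 (iv D15087) (iv F26169)
theorem F38492 : act 4 n20302 = n16229 := d18_1 D20302 (iv D16229) (iv F26170)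
def n20303 : Q := act 4 n15039
theorem D20303 : act 4 n15039 = n20303 := rfl
theorem F38493 : act 0 n20303 = n16249 := d3_1 D20303 (iv D16249) (iv F26185)
theorem F38494 : act 1 n20303 = n15043 := d8_1 D20303 (iv D15043) (iv F26186)
theorem F38495 : act 2 n20303 = n18825 := d12_1 D20303 (iv D18825) (iv F26187)
theorem F38496 : act 3 n20303 = n15245 := d15_1 D20303 (iv D15245) (iv D11670) (iv F20474) D15039
theorem F38497 : act 5 n18984 = n20303 := d16_0 F38496 (iv F29016) D18984
def n20304 : Q := act 5 n15039
theorem D20304 : act 5 n15039 = n20304 := rfl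
theorem F38498 : act 0 n20304 = n16250 := d4_1 D20304 (iv D16250) (iv F26185)
theorem F38499 : act 2 n20304 = n18752 := d13_1 D20304 F33570 (iv F26187)
theorem F38500 : act 3 n20304 = n15040 := d16_1 D20304 (iv D15040) D15039
theorem F38501 : act 4 n20304 = n18984 := d18_1 D20304 F38497 (iv D20303)
def n20305 : Q := act 6 n15039
theorem D20305 : act 6 n15039 = n20305 := rfl
theorem F38502 : act 0 n20305 = n16251 := d5_1 D20305 (iv D16251) (iv F26185)
theorem F38503 : act 2 n20305 = n18826 := d14_1 D20305 (iv D18826) (iv F26187)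
theorem F38504 : act 3 n20305 = n15041 := d17_1 D20305 (iv D15041) D15039
def n20306 : Q := act 1 n15041
theorem D20306 : act 1 n15041 = n20306 := rfl
theorem F38505 : act 2 n20306 = n19734 := d6_2 (iv F26192) D20306 (iv F37196) F36750 (iv D16245)
theorem F38506 : act 4 n20306 = n15248 := d8_2 (iv F26193) D20306 (iv D15248)
theorem F38507 : act 6 n20306 = n15045 := d10_2 D15041 D20306 (iv D15045) (iv D11554) D11552
theorem F38508 : act 0 n19735 = n20306 := d3_3 F38506 F36876 (iv F37197)
def n20307 : Q := act 1 n15042
theorem D20307 : act 1 n15042 = n20307 := rfl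
theorem F38509 : act 2 n20307 = n18822 := d6_2 D15042 D20307 F33696 (iv F26187) F26186
theorem F38510 : act 3 n20307 = n20272 := d7_2 (iv F26195) D20307 (iv D20272)
def n20308 : Q := act 4 n15042
theorem D20308 : act 4 n15042 = n20308 := rfl
theorem F38511 : act 0 n20308 = n15050 := d3_1 D20308 (iv D15050) (iv F26194)
theorem F38512 : act 2 n20308 = n15043 := d12_1 D20308 (iv D15043) D15042
def n20309 : Q := act 6 n15042
theorem D20309 : act 6 n15042 = n20309 := rfl
theorem F38513 : act 0 n20309 = n15051 := d5_1 D20309 (iv D15051) (iv F26194)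
theorem F38514 : act 2 n20309 = n15044 := d14_1 D20309 (iv D15044) D15042
theorem F38515 : act 3 n20309 = n20274 := d17_1 D20309 (iv D20274) (iv F26195)
theorem F38516 : act 5 n20309 = n20212 := d22_2 F38293 D20309 (iv D20212) (iv F38292)
def n20310 : Q := act 6 n15043
theorem D20310 : act 6 n15043 = n20310 := rfl
theorem F38517 : act 0 n20310 = n15052 := d5_1 D20310 (iv D15052) (iv F26196)
theorem F38518 : act 3 n20310 = n15249 := d17_1 D20310 (iv D15249) (iv F26197)
theorem F38519 : act 4 n20310 = n15044 := d19_1 D20310 (iv D15044) D15043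
theorem F38520 : act 5 n20310 = n20213 := d22_2 F38297 D20310 (iv D20213) (iv F38295)
def n20311 : Q := act 1 n15044
theorem D20311 : act 1 n15044 = n20311 := rfl
theorem F38521 : act 3 n20311 = n15045 := d7_2 (iv F26199) D20311 (iv D15045)
def n20312 : Q := act 0 n15045
theorem D20312 : act 0 n15045 = n20312 := rfl
theorem F38522 : act 4 n20312 = n15251 := d3_2 (iv F26201) D20312 (iv D15251)
theorem F38523 : act 6 n20312 = n19735 := d5_2 F38507 D20312 F38508
theorem F38524 : act 2 n19727 = n20312 := d14_3 F38523 (iv D19735) (iv F37176)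
def n20313 : Q := act 2 n15045
theorem D20313 : act 2 n15045 = n20313 := rfl
theorem F38525 : act 0 n20313 = n19727 := d1_1 D20313 F38524 (iv D20312)
theorem F38526 : act 1 n20313 = n15047 := d6_1 D20313 (iv D15047) (iv D11555) (iv F20478) D15045
theorem F38527 : act 4 n20313 = n15252 := d12_2 (iv F26201) D20313 (iv D15252)
theorem F38528 : act 6 n20313 = n19734 := d14_2 F38507 D20313 (iv F38505)
theorem F38529 : act 3 n19761 = n20313 := d17_3 F38528 F37194 (iv F37248)
def n20314 : Q := act 5 n15045
theorem D20314 : act 5 n15045 = n20314 := rfl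
theorem F38530 : act 1 n20314 = n20217 := d9_1 D20314 (iv D20217) (iv D14981) (iv F20480) D15045
theorem F38531 : act 4 n20314 = n15253 := d18_1 D20314 (iv D15253) (iv F26201)
def n20315 : Q := act 1 n15046
theorem D20315 : act 1 n15046 = n20315 := rfl
theorem F38532 : act 0 n20315 = n15935 := d0_1 D20315 (iv F27605) F27604 (iv D12290) F17872 F7899 (iv F13948) D11555 D15046
theorem F38533 : act 4 n20315 = n15254 := d8_2 (iv F26202) D20315 (iv D15254)
theorem F38534 : act 5 n20315 = n15933 := d9_2 (iv F37104) D20315 (iv F27540) (iv F26236) (iv F37101)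
theorem F38535 : act 6 n20111 = n20315 := d20_0 F38534 (iv F28312) F28311 (iv F28170) (iv D15935) (iv F25939) D20111
def n20316 : Q := act 4 n15049
theorem D20316 : act 4 n15049 = n20316 := rfl
theorem F38536 : act 0 n20316 = n20273 := d3_1 D20316 (iv D20273) (iv F26207)
theorem F38537 : act 1 n20316 = n20161 := d8_1 D20316 F38176 (iv F27751)
theorem F38538 : act 2 n20316 = n20164 := d12_1 D20316 F38182 (iv F26208)
def n20317 : Q := act 6 n15049
theorem D20317 : act 6 n15049 = n20317 := rfl
theorem F38539 : act 0 n20317 = n20274 := d5_1 D20317 (iv D20274) (iv F26207)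
theorem F38540 : act 2 n20317 = n20267 := d14_1 D20317 (iv D20267) (iv F26208)
theorem F38541 : act 3 n20317 = n15051 := d17_1 D20317 (iv D15051) D15049
def n20318 : Q := act 3 n15050
theorem D20318 : act 3 n15050 = n20318 := rfl
def n20319 : Q := act 6 n15050
theorem D20319 : act 6 n15050 = n20319 := rfl
theorem F38542 : act 2 n20319 = n15052 := d14_1 D20319 (iv D15052) (iv F26209)
theorem F38543 : act 4 n20319 = n15051 := d19_1 D20319 (iv D15051) D15050
def n20320 : Q := act 1 n15051
theorem D20320 : act 1 n15051 = n20320 := rfl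
def n20321 : Q := act 5 n15051
theorem D20321 : act 5 n15051 = n20321 := rfl
theorem F38544 : act 0 n20321 = n20212 := d4_1 D20321 (iv F38516) F38513
theorem F38545 : act 2 n20321 = n15054 := d13_1 D20321 (iv D15054) (iv F26210)
theorem F38546 : act 6 n20321 = n20207 := d20_2 D15051 D20321 F38293 D20309 F38516 (iv D20212) F26071
def n20322 : Q := act 1 n15052
theorem D20322 : act 1 n15052 = n20322 := rfl
theorem F38547 : act 3 n20322 = n15267 := d7_2 (iv F26211) D20322 (iv D15267)
theorem F38548 : act 4 n20322 = n15053 := d8_2 (iv F26212) D20322 (iv D15053)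
theorem F38549 : act 6 n20322 = n15101 := d10_2 D15052 D20322 (iv D15101) (iv D11582) (iv F20482)
def n20323 : Q := act 5 n15052
theorem D20323 : act 5 n15052 = n20323 := rfl
theorem F38550 : act 0 n20323 = n20213 := d4_1 D20323 (iv F38520) F38517
theorem F38551 : act 3 n20323 = n15268 := d16_1 D20323 (iv D15268) (iv F26211)
theorem F38552 : act 4 n20323 = n15054 := d18_1 D20323 (iv D15054) (iv F26212)
theorem F38553 : act 6 n20323 = n20208 := d20_2 D15052 D20323 F38297 D20310 F38520 (iv D20213) F26073
def n20324 : Q := act 0 n15053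
theorem D20324 : act 0 n15053 = n20324 := rfl
theorem F38554 : act 3 n20324 = n15055 := d2_2 (iv F26213) D20324 (iv D15055)
theorem F38555 : act 6 n20324 = n15102 := d5_2 (iv F26214) D20324 (iv D15102)
def n20325 : Q := act 2 n15053
theorem D20325 : act 2 n15053 = n20325 := rfl
theorem F38556 : act 6 n20325 = n15103 := d14_2 (iv F26214) D20325 (iv D15103)
def n20326 : Q := act 5 n15053
theorem D20326 : act 5 n15053 = n20326 := rfl
theorem F38557 : act 3 n20326 = n15056 := d16_1 D20326 (iv D15056) (iv F26213)
def n20327 : Q := act 1 n15054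
theorem D20327 : act 1 n15054 = n20327 := rfl
theorem F38558 : act 3 n20327 = n15057 := d7_2 (iv F26216) D20327 (iv D15057)
def n20328 : Q := act 1 n15055
theorem D20328 : act 1 n15055 = n20328 := rfl
theorem F38559 : act 4 n20328 = n15273 := d8_2 (iv F26218) D20328 (iv D15273)
def n20329 : Q := act 1 n15056
theorem D20329 : act 1 n15056 = n20329 := rfl
theorem F38560 : act 4 n20329 = n15274 := d8_2 (iv F26220) D20329 (iv D15274)
theorem F38561 : act 5 n20329 = n15057 := d9_2 D15056 D20329 (iv D15057) (iv D11560) D11559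
def n20330 : Q := act 0 n15057
theorem D20330 : act 0 n15057 = n20330 := rfl
theorem F38562 : act 4 n20330 = n15275 := d3_2 (iv F26221) D20330 (iv D15275)
def n20331 : Q := act 2 n15057
theorem D20331 : act 2 n15057 = n20331 := rfl
theorem F38563 : act 1 n20331 = n15059 := d6_1 D20331 (iv D15059) (iv D11561) (iv F20488) D15057
theorem F38564 : act 4 n20331 = n15276 := d12_2 (iv F26221) D20331 (iv D15276)
def n20332 : Q := act 6 n15057
theorem D20332 : act 6 n15057 = n20332 := rfl
theorem F38565 : act 1 n20332 = n20206 := d10_1 D20332 (iv D20206) (iv D14976) (iv F20490) D15057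
theorem F38566 : act 4 n20332 = n15277 := d19_1 D20332 (iv D15277) (iv F26221)
def n20333 : Q := act 2 n15058
theorem D20333 : act 2 n15058 = n20333 := rfl
theorem F38567 : act 0 n20333 = n15059 := d1_1 D20333 (iv D15059) D15058
theorem F38568 : act 4 n20333 = n15278 := d12_2 (iv F26222) D20333 (iv D15278)
def n20334 : Q := act 3 n15059
theorem D20334 : act 3 n15059 = n20334 := rfl
def n20335 : Q := act 6 n15059
theorem D20335 : act 6 n15059 = n20335 := rfl
theorem F38569 : act 2 n20335 = n15060 := d14_1 D20335 (iv D15060) D15059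
theorem F38570 : act 4 n20335 = n15280 := d19_1 D20335 (iv D15280) (iv F26224)
def n20336 : Q := act 5 n15060
theorem D20336 : act 5 n15060 = n20336 := rfl
theorem F38571 : act 0 n20336 = n16450 := d4_1 D20336 F28510 (iv F27880)
theorem F38572 : act 4 n20336 = n15281 := d18_1 D20336 (iv D15281) (iv F26226)
theorem F38573 : act 6 n20336 = n16448 := d20_2 D15060 D20336 F28505 (iv F27879) (iv F28510) (iv D16450) F21677
def n20337 : Q := act 4 n15066
theorem D20337 : act 4 n15066 = n20337 := rfl
theorem F38574 : act 0 n20337 = n16353 := d3_1 D20337 (iv D16353) (iv F26242)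
theorem F38575 : act 1 n20337 = n15070 := d8_1 D20337 (iv D15070) (iv F26243)
theorem F38576 : act 2 n20337 = n18872 := d12_1 D20337 (iv D18872) (iv F26244)
theorem F38577 : act 3 n20337 = n15284 := d15_1 D20337 (iv D15284) (iv D11702) (iv F20497) D15066
theorem F38578 : act 6 n18999 = n20337 := d17_0 F38577 F34786 D18999
def n20338 : Q := act 5 n15066
theorem D20338 : act 5 n15066 = n20338 := rfl
theorem F38579 : act 0 n20338 = n16354 := d4_1 D20338 (iv D16354) (iv F26242)
theorem F38580 : act 2 n20338 = n18873 := d13_1 D20338 (iv D18873) (iv F26244)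
theorem F38581 : act 3 n20338 = n15067 := d16_1 D20338 (iv D15067) D15066
def n20339 : Q := act 6 n15066
theorem D20339 : act 6 n15066 = n20339 := rfl
theorem F38582 : act 0 n20339 = n16355 := d5_1 D20339 (iv D16355) (iv F26242)
theorem F38583 : act 2 n20339 = n18770 := d14_1 D20339 F33599 (iv F26244)
theorem F38584 : act 3 n20339 = n15068 := d17_1 D20339 (iv D15068) D15066
theorem F38585 : act 4 n20339 = n18999 := d19_1 D20339 F38578 (iv D20337)
def n20340 : Q := act 1 n15067
theorem D20340 : act 1 n15067 = n20340 := rfl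
theorem F38586 : act 2 n20340 = n19772 := d6_2 (iv F26246) D20340 (iv F37282) F36728 (iv D16348)
theorem F38587 : act 4 n20340 = n15287 := d8_2 (iv F26247) D20340 (iv D15287)
theorem F38588 : act 5 n20340 = n15072 := d9_2 D15067 D20340 (iv D15072) (iv D11568) D11566
theorem F38589 : act 0 n19773 = n20340 := d3_3 F38587 F26617 (iv F37283)
def n20341 : Q := act 1 n15069
theorem D20341 : act 1 n15069 = n20341 := rfl
theorem F38590 : act 2 n20341 = n18869 := d6_2 D15069 D20341 F33783 (iv F26244) F26243
theorem F38591 : act 3 n20341 = n20292 := d7_2 (iv F26252) D20341 (iv D20292)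
def n20342 : Q := act 4 n15069
theorem D20342 : act 4 n15069 = n20342 := rfl
theorem F38592 : act 0 n20342 = n15077 := d3_1 D20342 (iv D15077) (iv F26251)
theorem F38593 : act 2 n20342 = n15070 := d12_1 D20342 (iv D15070) D15069
def n20343 : Q := act 5 n15069
theorem D20343 : act 5 n15069 = n20343 := rfl
theorem F38594 : act 0 n20343 = n15078 := d4_1 D20343 (iv D15078) (iv F26251)
theorem F38595 : act 2 n20343 = n15071 := d13_1 D20343 (iv D15071) D15069
theorem F38596 : act 3 n20343 = n20294 := d16_1 D20343 (iv D20294) (iv F26252)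
theorem F38597 : act 6 n20343 = n20246 := d22_1 D20343 (iv D20246) F26102 (iv F26251)
def n20344 : Q := act 5 n15070
theorem D20344 : act 5 n15070 = n20344 := rfl
theorem F38598 : act 0 n20344 = n15079 := d4_1 D20344 (iv D15079) (iv F26253)
theorem F38599 : act 3 n20344 = n15288 := d16_1 D20344 (iv D15288) (iv F26254)
theorem F38600 : act 4 n20344 = n15071 := d18_1 D20344 (iv D15071) D15070
theorem F38601 : act 6 n20344 = n20247 := d22_1 D20344 (iv D20247) F26104 (iv F26253)
def n20345 : Q := act 1 n15071
theorem D20345 : act 1 n15071 = n20345 := rfl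
theorem F38602 : act 3 n20345 = n15072 := d7_2 (iv F26256) D20345 (iv D15072)
def n20346 : Q := act 0 n15072
theorem D20346 : act 0 n15072 = n20346 := rfl
theorem F38603 : act 4 n20346 = n15290 := d3_2 (iv F26258) D20346 (iv D15290)
theorem F38604 : act 5 n20346 = n19773 := d4_2 F38588 D20346 F38589
theorem F38605 : act 2 n19764 = n20346 := d13_3 F38604 (iv D19773) (iv F37257)
def n20347 : Q := act 2 n15072
theorem D20347 : act 2 n15072 = n20347 := rfl
theorem F38606 : act 0 n20347 = n19764 := d1_1 D20347 F38605 (iv D20346)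
theorem F38607 : act 1 n20347 = n15074 := d6_1 D20347 (iv D15074) (iv D11569) (iv F20500) D15072
theorem F38608 : act 4 n20347 = n15291 := d12_2 (iv F26258) D20347 (iv D15291)
theorem F38609 : act 5 n20347 = n19772 := d13_2 F38588 D20347 (iv F38586)
theorem F38610 : act 3 n19799 = n20347 := d16_3 F38609 F37280 (iv F37337)
def n20348 : Q := act 6 n15072
theorem D20348 : act 6 n15072 = n20348 := rfl
theorem F38611 : act 1 n20348 = n20251 := d10_1 D20348 (iv D20251) (iv D15000) (iv F20502) D15072
theorem F38612 : act 4 n20348 = n15292 := d19_1 D20348 (iv D15292) (iv F26258)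
def n20349 : Q := act 1 n15073
theorem D20349 : act 1 n15073 = n20349 := rfl
theorem F38613 : act 0 n20349 = n15932 := d0_1 D20349 (iv F27622) F27621 (iv D12238) F17834 F7880 (iv F13960) D11569 D15073
theorem F38614 : act 4 n20349 = n15293 := d8_2 (iv F26259) D20349 (iv D15293)
theorem F38615 : act 6 n20349 = n15930 := d10_2 (iv F37146) D20349 (iv F27536) (iv F26184) (iv F37143)
theorem F38616 : act 5 n20109 = n20349 := d24_1 D20109 (iv D20349) F37146 F37145 F25311 (iv F37103) (iv F37104) D20315 (iv F38535) (iv D20111) (iv D14917) (iv D11491) D11490 D14916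
def n20350 : Q := act 4 n15076
theorem D20350 : act 4 n15076 = n20350 := rfl
theorem F38617 : act 0 n20350 = n20293 := d3_1 D20350 (iv D20293) (iv F26264)
theorem F38618 : act 1 n20350 = n20178 := d8_1 D20350 F38225 F34692
theorem F38619 : act 2 n20350 = n20181 := d12_1 D20350 F38231 (iv F26265)
def n20351 : Q := act 5 n15076
theorem D20351 : act 5 n15076 = n20351 := rfl
theorem F38620 : act 0 n20351 = n20294 := d4_1 D20351 (iv D20294) (iv F26264)
theorem F38621 : act 2 n20351 = n20287 := d13_1 D20351 (iv D20287) (iv F26265)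
theorem F38622 : act 3 n20351 = n15078 := d16_1 D20351 (iv D15078) D15076
def n20352 : Q := act 3 n15077
theorem D20352 : act 3 n15077 = n20352 := rfl
def n20353 : Q := act 5 n15077
theorem D20353 : act 5 n15077 = n20353 := rfl
theorem F38623 : act 2 n20353 = n15079 := d13_1 D20353 (iv D15079) (iv F26266)
theorem F38624 : act 4 n20353 = n15078 := d18_1 D20353 (iv D15078) D15077
def n20354 : Q := act 1 n15078
theorem D20354 : act 1 n15078 = n20354 := rfl
def n20355 : Q := act 6 n15078
theorem D20355 : act 6 n15078 = n20355 := rfl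
theorem F38625 : act 0 n20355 = n20246 := d5_1 D20355 (iv F38597) F38594
theorem F38626 : act 2 n20355 = n15081 := d14_1 D20355 (iv D15081) (iv F26267)
theorem F38627 : act 5 n20355 = n20241 := d20_1 D20355 F38359 D20343 F38597 (iv D20246) F26102 D15078
def n20356 : Q := act 1 n15079
theorem D20356 : act 1 n15079 = n20356 := rfl
theorem F38628 : act 3 n20356 = n15305 := d7_2 (iv F26268) D20356 (iv D15305)
theorem F38629 : act 4 n20356 = n15080 := d8_2 (iv F26269) D20356 (iv D15080)
theorem F38630 : act 5 n20356 = n15121 := d9_2 D15079 D20356 (iv D15121) (iv D11592) (iv F20504)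
def n20357 : Q := act 6 n15079
theorem D20357 : act 6 n15079 = n20357 := rfl
theorem F38631 : act 0 n20357 = n20247 := d5_1 D20357 (iv F38601) F38598
theorem F38632 : act 3 n20357 = n15306 := d17_1 D20357 (iv D15306) (iv F26268)
theorem F38633 : act 4 n20357 = n15081 := d19_1 D20357 (iv D15081) (iv F26269)
theorem F38634 : act 5 n20357 = n20242 := d20_1 D20357 F38363 D20344 F38601 (iv D20247) F26104 D15079
def n20358 : Q := act 0 n15080
theorem D20358 : act 0 n15080 = n20358 := rfl
theorem F38635 : act 3 n20358 = n15082 := d2_2 (iv F26270) D20358 (iv D15082)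
theorem F38636 : act 5 n20358 = n15122 := d4_2 (iv F26271) D20358 (iv D15122)
def n20359 : Q := act 2 n15080
theorem D20359 : act 2 n15080 = n20359 := rfl
theorem F38637 : act 5 n20359 = n15123 := d13_2 (iv F26271) D20359 (iv D15123)
def n20360 : Q := act 6 n15080
theorem D20360 : act 6 n15080 = n20360 := rfl
theorem F38638 : act 3 n20360 = n15083 := d17_1 D20360 (iv D15083) (iv F26270)
def n20361 : Q := act 1 n15081
theorem D20361 : act 1 n15081 = n20361 := rfl
theorem F38639 : act 3 n20361 = n15084 := d7_2 (iv F26273) D20361 (iv D15084)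
def n20362 : Q := act 1 n15082
theorem D20362 : act 1 n15082 = n20362 := rfl
theorem F38640 : act 4 n20362 = n15311 := d8_2 (iv F26275) D20362 (iv D15311)
def n20363 : Q := act 1 n15083
theorem D20363 : act 1 n15083 = n20363 := rfl
theorem F38641 : act 4 n20363 = n15312 := d8_2 (iv F26277) D20363 (iv D15312)
theorem F38642 : act 6 n20363 = n15084 := d10_2 D15083 D20363 (iv D15084) (iv D11574) D11573
def n20364 : Q := act 0 n15084
theorem D20364 : act 0 n15084 = n20364 := rfl
theorem F38643 : act 4 n20364 = n15313 := d3_2 (iv F26278) D20364 (iv D15313)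
def n20365 : Q := act 2 n15084
theorem D20365 : act 2 n15084 = n20365 := rfl
theorem F38644 : act 1 n20365 = n15086 := d6_1 D20365 (iv D15086) (iv D11575) (iv F20510) D15084
theorem F38645 : act 4 n20365 = n15314 := d12_2 (iv F26278) D20365 (iv D15314)
def n20366 : Q := act 5 n15084
theorem D20366 : act 5 n15084 = n20366 := rfl
theorem F38646 : act 1 n20366 = n20239 := d9_1 D20366 (iv D20239) (iv D14995) (iv F20512) D15084
theorem F38647 : act 4 n20366 = n15315 := d18_1 D20366 (iv D15315) (iv F26278)
def n20367 : Q := act 2 n15085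
theorem D20367 : act 2 n15085 = n20367 := rfl
theorem F38648 : act 0 n20367 = n15086 := d1_1 D20367 (iv D15086) D15085
theorem F38649 : act 4 n20367 = n15316 := d12_2 (iv F26279) D20367 (iv D15316)
def n20368 : Q := act 3 n15086
theorem D20368 : act 3 n15086 = n20368 := rfl
def n20369 : Q := act 5 n15086
theorem D20369 : act 5 n15086 = n20369 := rfl
theorem F38650 : act 2 n20369 = n15087 := d13_1 D20369 (iv D15087) D15086
theorem F38651 : act 4 n20369 = n15318 := d18_1 D20369 (iv D15318) (iv F26281)
def n20370 : Q := act 6 n15087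
theorem D20370 : act 6 n15087 = n20370 := rfl
theorem F38652 : act 0 n20370 = n16347 := d5_1 D20370 F28306 (iv F27960)
theorem F38653 : act 1 n20370 = n20336 := d10_1 D20370 F38573 F38345 (iv D20235) (iv F26282)
theorem F38654 : act 4 n20370 = n15319 := d19_1 D20370 (iv D15319) (iv F26283)
theorem F38655 : act 5 n20370 = n16345 := d20_1 D20370 F28301 (iv F27959) (iv F28306) (iv D16347) F21587 D15087
def n20371 : Q := act 3 n15088
theorem D20371 : act 3 n15088 = n20371 := rfl
theorem F38656 : act 0 n20371 = n16246 := d2_1 D20371 (iv D16246) (iv F26284)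
theorem F38657 : act 1 n20371 = n15089 := d7_1 D20371 (iv D15089) D15088
theorem F38658 : act 2 n20371 = n18401 := d11_1 D20371 (iv D18401) (iv D13433) (iv F23612) (iv F28100) (iv D12203) (iv F21505) D16246 F28099 (iv D13435) (iv D10716) (iv F19029) D13425 (iv F28102) F26286
def n20372 : Q := act 6 n15088
theorem D20372 : act 6 n15088 = n20372 := rfl
theorem F38659 : act 0 n20372 = n16248 := d5_1 D20372 (iv D16248) (iv F26284)
theorem F38660 : act 2 n20372 = n16262 := d14_1 D20372 (iv D16262) F26286
theorem F38661 : act 4 n20372 = n15322 := d19_1 D20372 (iv D15322) (iv F26285)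
theorem F38662 : act 5 n20372 = n19243 := d22_2 F35882 D20372 (iv D19243) (iv F35880)
def n20373 : Q := act 2 n15089
theorem D20373 : act 2 n15089 = n20373 := rfl
theorem F38663 : act 0 n20373 = n15092 := d1_1 D20373 (iv D15092) (iv F26287)
def n20374 : Q := act 4 n15089
theorem D20374 : act 4 n15089 = n20374 := rfl
theorem F38664 : act 0 n20374 = n15093 := d3_1 D20374 (iv D15093) (iv F26287)
theorem F38665 : act 3 n20374 = n15324 := d15_1 D20374 (iv D15324) (iv D11724) (iv F20515) D15089
def n20375 : Q := act 5 n15089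
theorem D20375 : act 5 n15089 = n20375 := rfl
theorem F38666 : act 0 n20375 = n15094 := d4_1 D20375 (iv D15094) (iv F26287)
theorem F38667 : act 3 n20375 = n15090 := d16_1 D20375 (iv D15090) D15089
def n20376 : Q := act 6 n15089
theorem D20376 : act 6 n15089 = n20376 := rfl
theorem F38668 : act 0 n20376 = n15095 := d5_1 D20376 (iv D15095) (iv F26287)
theorem F38669 : act 3 n20376 = n15091 := d17_1 D20376 (iv D15091) D15089
def n20377 : Q := act 1 n15090
theorem D20377 : act 1 n15090 = n20377 := rfl
theorem F38670 : act 4 n20377 = n15327 := d8_2 (iv F26290) D20377 (iv D15327)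
theorem F38671 : act 2 n16834 = n20377 := d25_24 D15245 (iv F38496) F38495 F33700 F24398 F19461 (iv F19327) (iv F23660) F23661 (iv F23850) (iv F33337) F33339 F23850 (iv F23661) F23660 (iv F24090) F24091 (iv F24398) (iv F33700) (iv F38495) F38494 F26197 (iv F22024) D16834 (iv D20377) F26290 (iv F26680) (iv F33089) F33090 F29180 F29182 F23737 D13502 (iv F28920) F28916 (iv F28918) D17149 (iv F36173) F36174 (iv F29348) (iv F32056) F32058 F23576 (iv F32058) F32057 (iv D16656) D16657 F29417 F27434 F21182 F17652 (iv F29057) F17525 (iv F14467) D11798 F20845 F14468 (iv D4693) (iv D2256) (iv D1101) (iv D553) (iv D280) (iv F557) (iv F1032) F1033 F637 D330 F639 F333 (iv F639) D652 (iv F2178) D2667 D5533 D10189 F18044 (iv F20677)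
def n20378 : Q := act 1 n15091
theorem D20378 : act 1 n15091 = n20378 := rfl
theorem F38672 : act 4 n20378 = n15328 := d8_2 (iv F26293) D20378 (iv D15328)
def n20379 : Q := act 3 n15092
theorem D20379 : act 3 n15092 = n20379 := rfl
def n20380 : Q := act 4 n15092
theorem D20380 : act 4 n15092 = n20380 := rfl
theorem F38673 : act 2 n20380 = n15093 := d12_1 D20380 (iv D15093) D15092
def n20381 : Q := act 5 n15092
theorem D20381 : act 5 n15092 = n20381 := rfl
theorem F38674 : act 2 n20381 = n15094 := d13_1 D20381 (iv D15094) D15092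
def n20382 : Q := act 6 n15092
theorem D20382 : act 6 n15092 = n20382 := rfl
theorem F38675 : act 2 n20382 = n15095 := d14_1 D20382 (iv D15095) D15092
def n20383 : Q := act 5 n15093
theorem D20383 : act 5 n15093 = n20383 := rfl
theorem F38676 : act 3 n20383 = n15332 := d16_1 D20383 (iv D15332) (iv F26295)
theorem F38677 : act 4 n20383 = n15094 := d18_1 D20383 (iv D15094) D15093
def n20384 : Q := act 6 n15093
theorem D20384 : act 6 n15093 = n20384 := rfl
theorem F38678 : act 3 n20384 = n15333 := d17_1 D20384 (iv D15333) (iv F26295)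
theorem F38679 : act 4 n20384 = n15095 := d19_1 D20384 (iv D15095) D15093
def n20385 : Q := act 6 n15094
theorem D20385 : act 6 n15094 = n20385 := rfl
theorem F38680 : act 3 n20385 = n15096 := d17_1 D20385 (iv D15096) (iv F26296)
theorem F38681 : act 5 n20385 = n20376 := d22_2 D15094 D20385 (iv D20376) F26287
def n20386 : Q := act 5 n15095
theorem D20386 : act 5 n15095 = n20386 := rfl
theorem F38682 : act 0 n20386 = n20385 := d4_1 D20386 F38681 F38668
theorem F38683 : act 3 n20386 = n15098 := d16_1 D20386 (iv D15098) (iv F26297)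
theorem F38684 : act 6 n20386 = n20375 := d20_2 D15095 D20386 (iv D20375) D20376 (iv F38681) (iv D20385) (iv D15094)
def n20387 : Q := act 1 n15096
theorem D20387 : act 1 n15096 = n20387 := rfl
theorem F38685 : act 4 n20387 = n15337 := d8_2 (iv F26299) D20387 (iv D15337)
def n20388 : Q := act 0 n15097
theorem D20388 : act 0 n15097 = n20388 := rfl
theorem F38686 : act 4 n20388 = n15338 := d3_2 (iv F26301) D20388 (iv D15338)
theorem F38687 : act 6 n20388 = n15099 := d5_2 (iv F26302) D20388 (iv D15099)
def n20389 : Q := act 5 n15097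
theorem D20389 : act 5 n15097 = n20389 := rfl
theorem F38688 : act 2 n20389 = n20060 := d13_1 D20389 F37899 F37382
theorem F38689 : act 4 n20389 = n15339 := d18_1 D20389 (iv D15339) (iv F26301)
def n20390 : Q := act 1 n15098
theorem D20390 : act 1 n15098 = n20390 := rfl
theorem F38690 : act 4 n20390 = n15340 := d8_2 (iv F26305) D20390 (iv D15340)
def n20391 : Q := act 1 n15099
theorem D20391 : act 1 n15099 = n20391 := rfl
theorem F38691 : act 4 n20391 = n15345 := d8_2 (iv F26307) D20391 (iv D15345)
def n20392 : Q := act 5 n15099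
theorem D20392 : act 5 n15099 = n20392 := rfl
theorem F38692 : act 0 n20392 = n15100 := d4_1 D20392 (iv D15100) D15099
theorem F38693 : act 4 n20392 = n15346 := d18_1 D20392 (iv D15346) (iv F26307)
theorem F38694 : act 6 n20392 = n20389 := d22_1 D20392 (iv D20389) F26302 D15099
def n20393 : Q := act 6 n15100
theorem D20393 : act 6 n15100 = n20393 := rfl
theorem F38695 : act 0 n20393 = n20389 := d5_1 D20393 (iv F38694) F38692
theorem F38696 : act 4 n20393 = n15347 := d19_1 D20393 (iv D15347) (iv F26309)
theorem F38697 : act 5 n20393 = n20388 := d20_1 D20393 F38687 D20392 F38694 (iv D20389) F26302 D15100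
def n20394 : Q := act 0 n15101
theorem D20394 : act 0 n15101 = n20394 := rfl
theorem F38698 : act 3 n20394 = n15363 := d2_2 (iv F26310) D20394 (iv D15363)
theorem F38699 : act 4 n20394 = n15102 := d3_2 (iv F26311) D20394 (iv D15102)
def n20395 : Q := act 2 n15101
theorem D20395 : act 2 n15101 = n20395 := rfl
theorem F38700 : act 4 n20395 = n15103 := d12_2 (iv F26311) D20395 (iv D15103)
def n20396 : Q := act 5 n15101
theorem D20396 : act 5 n15101 = n20396 := rfl
theorem F38701 : act 1 n20396 = n16342 := d9_1 D20396 (iv D16342) F21579 F20526 D15101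
theorem F38702 : act 3 n20396 = n15365 := d16_1 D20396 (iv D15365) (iv F26310)
theorem F38703 : act 4 n20396 = n15104 := d18_1 D20396 (iv D15104) (iv F26311)
def n20397 : Q := act 1 n15102
theorem D20397 : act 1 n15102 = n20397 := rfl
theorem F38704 : act 3 n20397 = n15105 := d7_2 (iv F26312) D20397 (iv D15105)
def n20398 : Q := act 2 n15102
theorem D20398 : act 2 n15102 = n20398 := rfl
theorem F38705 : act 0 n20398 = n15103 := d1_1 D20398 (iv D15103) D15102
def n20399 : Q := act 5 n15102
theorem D20399 : act 5 n15102 = n20399 := rfl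
theorem F38706 : act 0 n20399 = n15104 := d4_1 D20399 (iv D15104) D15102
theorem F38707 : act 3 n20399 = n15106 := d16_1 D20399 (iv D15106) (iv F26312)
theorem F38708 : act 6 n20399 = n20326 := d22_1 D20399 (iv D20326) F26214 D15102
def n20400 : Q := act 3 n15103
theorem D20400 : act 3 n15103 = n20400 := rfl
def n20401 : Q := act 5 n15103
theorem D20401 : act 5 n15103 = n20401 := rfl
theorem F38709 : act 2 n20401 = n15104 := d13_1 D20401 (iv D15104) D15103
def n20402 : Q := act 6 n15104
theorem D20402 : act 6 n15104 = n20402 := rfl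
theorem F38710 : act 0 n20402 = n20326 := d5_1 D20402 (iv F38708) F38706
theorem F38711 : act 3 n20402 = n15107 := d17_1 D20402 (iv D15107) (iv F26314)
theorem F38712 : act 5 n20402 = n20324 := d20_1 D20402 F38555 D20399 F38708 (iv D20326) F26214 D15104
def n20403 : Q := act 5 n15105
theorem D20403 : act 5 n15105 = n20403 := rfl
theorem F38713 : act 1 n20403 = n19254 := d9_1 D20403 (iv F35905) F35902 (iv D15106) D15105
theorem F38714 : act 2 n20403 = n19252 := d13_1 D20403 F37225 (iv F37224)
theorem F38715 : act 4 n20403 = n15374 := d18_1 D20403 (iv D15374) (iv F26315)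
def n20404 : Q := act 6 n15105
theorem D20404 : act 6 n15105 = n20404 := rfl
theorem F38716 : act 4 n20404 = n15375 := d19_1 D20404 (iv D15375) (iv F26315)
def n20405 : Q := act 1 n15107
theorem D20405 : act 1 n15107 = n20405 := rfl
theorem F38717 : act 4 n20405 = n15377 := d8_2 (iv F26322) D20405 (iv D15377)
theorem F38718 : act 6 n20405 = n16344 := d10_2 D15107 D20405 (iv D16344) (iv D12242) (iv F20529)
def n20406 : Q := act 3 n15108
theorem D20406 : act 3 n15108 = n20406 := rfl
theorem F38719 : act 0 n20406 = n16350 := d2_1 D20406 (iv D16350) (iv F26324)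
theorem F38720 : act 1 n20406 = n15109 := d7_1 D20406 (iv D15109) D15108
theorem F38721 : act 2 n20406 = n18422 := d11_1 D20406 (iv D18422) (iv D13443) (iv F23617) (iv F28315) (iv D12255) (iv F21594) D16350 F28314 (iv D13445) (iv D10720) (iv F19034) D13429 (iv F28317) F26326
def n20407 : Q := act 5 n15108
theorem D20407 : act 5 n15108 = n20407 := rfl
theorem F38722 : act 0 n20407 = n16351 := d4_1 D20407 (iv D16351) (iv F26324)
theorem F38723 : act 2 n20407 = n16364 := d13_1 D20407 (iv D16364) F26326
theorem F38724 : act 4 n20407 = n15379 := d18_1 D20407 (iv D15379) (iv F26325)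
theorem F38725 : act 6 n20407 = n19300 := d22_1 D20407 (iv D19300) F34754 (iv F26324)
def n20408 : Q := act 2 n15109
theorem D20408 : act 2 n15109 = n20408 := rfl
theorem F38726 : act 0 n20408 = n15112 := d1_1 D20408 (iv D15112) (iv F26327)
def n20409 : Q := act 4 n15109
theorem D20409 : act 4 n15109 = n20409 := rfl
theorem F38727 : act 0 n20409 = n15113 := d3_1 D20409 (iv D15113) (iv F26327)
theorem F38728 : act 3 n20409 = n15382 := d15_1 D20409 (iv D15382) (iv D11753) (iv F20533) D15109
def n20410 : Q := act 5 n15109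
theorem D20410 : act 5 n15109 = n20410 := rfl
theorem F38729 : act 0 n20410 = n15114 := d4_1 D20410 (iv D15114) (iv F26327)
theorem F38730 : act 3 n20410 = n15110 := d16_1 D20410 (iv D15110) D15109
def n20411 : Q := act 6 n15109
theorem D20411 : act 6 n15109 = n20411 := rfl
theorem F38731 : act 0 n20411 = n15115 := d5_1 D20411 (iv D15115) (iv F26327)
theorem F38732 : act 3 n20411 = n15111 := d17_1 D20411 (iv D15111) D15109
def n20412 : Q := act 1 n15110
theorem D20412 : act 1 n15110 = n20412 := rfl
theorem F38733 : act 4 n20412 = n15385 := d8_2 (iv F26330) D20412 (iv D15385)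
def n20413 : Q := act 1 n15111
theorem D20413 : act 1 n15111 = n20413 := rfl
theorem F38734 : act 4 n20413 = n15386 := d8_2 (iv F26333) D20413 (iv D15386)
theorem F38735 : act 2 n17025 = n20413 := d25_24 D15284 (iv F38577) F38576 F33787 F24446 F19482 (iv F19350) (iv F23668) F23669 (iv F23868) (iv F33370) F33372 F23868 (iv F23669) F23668 (iv F24129) F24130 (iv F24446) (iv F33787) (iv F38576) F38575 F26254 (iv F22197) D17025 (iv D20413) F26333 (iv F26746) (iv F35441) (iv F35438) F35435 F34429 F23742 D13510 F34549 F26621 (iv F26623) D17229 (iv F36286) F36287 (iv F34834) F34833 F32062 F23579 (iv F32062) (iv F34808) (iv D16720) D16721 (iv F34813) F27493 F21218 F17672 (iv F34263) F17572 (iv F14579) D11841 F20932 F14580 (iv D4724) (iv D2270) (iv D1107) (iv D556) (iv D281) (iv F559) (iv F1035) F1036 F638 D332 F643 F339 (iv F643) D656 (iv F2179) D2677 D5556 D10241 F18094 (iv F20719)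
def n20414 : Q := act 3 n15112
theorem D20414 : act 3 n15112 = n20414 := rfl
def n20415 : Q := act 4 n15112
theorem D20415 : act 4 n15112 = n20415 := rfl
theorem F38736 : act 2 n20415 = n15113 := d12_1 D20415 (iv D15113) D15112
def n20416 : Q := act 5 n15112
theorem D20416 : act 5 n15112 = n20416 := rfl
theorem F38737 : act 2 n20416 = n15114 := d13_1 D20416 (iv D15114) D15112
def n20417 : Q := act 6 n15112
theorem D20417 : act 6 n15112 = n20417 := rfl
theorem F38738 : act 2 n20417 = n15115 := d14_1 D20417 (iv D15115) D15112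
def n20418 : Q := act 5 n15113
theorem D20418 : act 5 n15113 = n20418 := rfl
theorem F38739 : act 3 n20418 = n15390 := d16_1 D20418 (iv D15390) (iv F26335)
theorem F38740 : act 4 n20418 = n15114 := d18_1 D20418 (iv D15114) D15113
def n20419 : Q := act 6 n15113
theorem D20419 : act 6 n15113 = n20419 := rfl
theorem F38741 : act 3 n20419 = n15391 := d17_1 D20419 (iv D15391) (iv F26335)
theorem F38742 : act 4 n20419 = n15115 := d19_1 D20419 (iv D15115) D15113
def n20420 : Q := act 6 n15114
theorem D20420 : act 6 n15114 = n20420 := rfl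
theorem F38743 : act 3 n20420 = n15117 := d17_1 D20420 (iv D15117) (iv F26336)
theorem F38744 : act 5 n20420 = n20411 := d22_2 D15114 D20420 (iv D20411) F26327
def n20421 : Q := act 5 n15115
theorem D20421 : act 5 n15115 = n20421 := rfl
theorem F38745 : act 0 n20421 = n20420 := d4_1 D20421 F38744 F38731
theorem F38746 : act 3 n20421 = n15118 := d16_1 D20421 (iv D15118) (iv F26337)
theorem F38747 : act 6 n20421 = n20410 := d20_2 D15115 D20421 (iv D20410) D20411 (iv F38744) (iv D20420) (iv D15114)
def n20422 : Q := act 0 n15116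
theorem D20422 : act 0 n15116 = n20422 := rfl
theorem F38748 : act 4 n20422 = n15395 := d3_2 (iv F26338) D20422 (iv D15395)
theorem F38749 : act 5 n20422 = n15119 := d4_2 (iv F26339) D20422 (iv D15119)
def n20423 : Q := act 6 n15116
theorem D20423 : act 6 n15116 = n20423 := rfl
theorem F38750 : act 2 n20423 = n20069 := d14_1 D20423 F37919 F37366
theorem F38751 : act 4 n20423 = n15396 := d19_1 D20423 (iv D15396) (iv F26338)
def n20424 : Q := act 1 n15117
theorem D20424 : act 1 n15117 = n20424 := rfl
theorem F38752 : act 4 n20424 = n15397 := d8_2 (iv F26341) D20424 (iv D15397)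
def n20425 : Q := act 1 n15118
theorem D20425 : act 1 n15118 = n20425 := rfl
theorem F38753 : act 4 n20425 = n15398 := d8_2 (iv F26345) D20425 (iv D15398)
def n20426 : Q := act 1 n15119
theorem D20426 : act 1 n15119 = n20426 := rfl
theorem F38754 : act 4 n20426 = n15403 := d8_2 (iv F26347) D20426 (iv D15403)
def n20427 : Q := act 6 n15119
theorem D20427 : act 6 n15119 = n20427 := rfl
theorem F38755 : act 0 n20427 = n15120 := d5_1 D20427 (iv D15120) D15119
theorem F38756 : act 4 n20427 = n15404 := d19_1 D20427 (iv D15404) (iv F26347)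
theorem F38757 : act 5 n20427 = n20423 := d22_2 F38749 D20427 (iv D20423) D20422
def n20428 : Q := act 5 n15120
theorem D20428 : act 5 n15120 = n20428 := rfl
theorem F38758 : act 0 n20428 = n20423 := d4_1 D20428 (iv F38757) F38755
theorem F38759 : act 4 n20428 = n15405 := d18_1 D20428 (iv D15405) (iv F26349)
theorem F38760 : act 6 n20428 = n20422 := d20_2 D15120 D20428 F38749 D20427 F38757 (iv D20423) F26339
def n20429 : Q := act 0 n15121
theorem D20429 : act 0 n15121 = n20429 := rfl
theorem F38761 : act 3 n20429 = n15421 := d2_2 (iv F26350) D20429 (iv D15421)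
theorem F38762 : act 4 n20429 = n15122 := d3_2 (iv F26351) D20429 (iv D15122)
def n20430 : Q := act 2 n15121
theorem D20430 : act 2 n15121 = n20430 := rfl
theorem F38763 : act 4 n20430 = n15123 := d12_2 (iv F26351) D20430 (iv D15123)
def n20431 : Q := act 6 n15121
theorem D20431 : act 6 n15121 = n20431 := rfl
theorem F38764 : act 1 n20431 = n16445 := d10_1 D20431 (iv D16445) F21669 F20544 D15121
theorem F38765 : act 3 n20431 = n15423 := d17_1 D20431 (iv D15423) (iv F26350)
theorem F38766 : act 4 n20431 = n15124 := d19_1 D20431 (iv D15124) (iv F26351)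
def n20432 : Q := act 1 n15122
theorem D20432 : act 1 n15122 = n20432 := rfl
theorem F38767 : act 3 n20432 = n15125 := d7_2 (iv F26352) D20432 (iv D15125)
def n20433 : Q := act 2 n15122
theorem D20433 : act 2 n15122 = n20433 := rfl
theorem F38768 : act 0 n20433 = n15123 := d1_1 D20433 (iv D15123) D15122
def n20434 : Q := act 6 n15122
theorem D20434 : act 6 n15122 = n20434 := rfl
theorem F38769 : act 0 n20434 = n15124 := d5_1 D20434 (iv D15124) D15122
theorem F38770 : act 3 n20434 = n15126 := d17_1 D20434 (iv D15126) (iv F26352)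
theorem F38771 : act 5 n20434 = n20360 := d22_2 F38636 D20434 (iv D20360) D20358
def n20435 : Q := act 3 n15123
theorem D20435 : act 3 n15123 = n20435 := rfl
def n20436 : Q := act 6 n15123
theorem D20436 : act 6 n15123 = n20436 := rfl
theorem F38772 : act 2 n20436 = n15124 := d14_1 D20436 (iv D15124) D15123
def n20437 : Q := act 5 n15124
theorem D20437 : act 5 n15124 = n20437 := rfl
theorem F38773 : act 0 n20437 = n20360 := d4_1 D20437 (iv F38771) F38769
theorem F38774 : act 3 n20437 = n15127 := d16_1 D20437 (iv D15127) (iv F26354)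
theorem F38775 : act 6 n20437 = n20358 := d20_2 D15124 D20437 F38636 D20434 F38771 (iv D20360) F26271
def n20438 : Q := act 5 n15125
theorem D20438 : act 5 n15125 = n20438 := rfl
theorem F38776 : act 4 n20438 = n15432 := d18_1 D20438 (iv D15432) (iv F26355)
def n20439 : Q := act 6 n15125
theorem D20439 : act 6 n15125 = n20439 := rfl
theorem F38777 : act 1 n20439 = n19311 := d10_1 D20439 (iv F36039) F36036 (iv D15126) D15125
theorem F38778 : act 2 n20439 = n19309 := d14_1 D20439 F37313 (iv F37312)
theorem F38779 : act 4 n20439 = n15433 := d19_1 D20439 (iv D15433) (iv F26355)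
def n20440 : Q := act 1 n15127
theorem D20440 : act 1 n15127 = n20440 := rfl
theorem F38780 : act 4 n20440 = n15435 := d8_2 (iv F26362) D20440 (iv D15435)
theorem F38781 : act 5 n20440 = n16447 := d9_2 D15127 D20440 (iv D16447) (iv D12294) (iv F20548)
def n20441 : Q := act 3 n15128
theorem D20441 : act 3 n15128 = n20441 := rfl
theorem F38782 : act 0 n20441 = n18911 := d2_1 D20441 F33858 F28913
theorem F38783 : act 1 n20441 = n15129 := d7_1 D20441 (iv D15129) D15128
theorem F38784 : act 2 n20441 = n18908 := d11_1 D20441 (iv D18908) F27831 (iv D16087) (iv F25279) F25280 D14497 (iv F33858) (iv D18911) (iv D13759) (iv F24157) (iv F27832) (iv F37079) F37080 (iv F28914)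
def n20442 : Q := act 6 n15128
theorem D20442 : act 6 n15128 = n20442 := rfl
theorem F38785 : act 0 n20442 = n19725 := d5_1 D20442 (iv D19725) F28913
theorem F38786 : act 2 n20442 = n19400 := d14_1 D20442 (iv F36298) (iv F28914)
theorem F38787 : act 4 n20442 = n17152 := d19_1 D20442 (iv D17152) (iv F26364)
theorem F38788 : act 5 n20442 = n18569 := d22_2 F33216 D20442 (iv D18569) (iv F33215)
def n20443 : Q := act 2 n15129
theorem D20443 : act 2 n15129 = n20443 := rfl
theorem F38789 : act 0 n20443 = n15132 := d1_1 D20443 (iv D15132) (iv F26365)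
def n20444 : Q := act 4 n15129
theorem D20444 : act 4 n15129 = n20444 := rfl
theorem F38790 : act 0 n20444 = n15133 := d3_1 D20444 (iv D15133) (iv F26365)
theorem F38791 : act 3 n20444 = n17153 := d15_1 D20444 (iv D17153) (iv D12722) (iv F20552) D15129
def n20445 : Q := act 5 n15129
theorem D20445 : act 5 n15129 = n20445 := rfl
theorem F38792 : act 0 n20445 = n15134 := d4_1 D20445 (iv D15134) (iv F26365)
theorem F38793 : act 3 n20445 = n15130 := d16_1 D20445 (iv D15130) D15129
def n20446 : Q := act 6 n15129
theorem D20446 : act 6 n15129 = n20446 := rfl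
theorem F38794 : act 0 n20446 = n15135 := d5_1 D20446 (iv D15135) (iv F26365)
theorem F38795 : act 3 n20446 = n15131 := d17_1 D20446 (iv D15131) D15129
def n20447 : Q := act 1 n15130
theorem D20447 : act 1 n15130 = n20447 := rfl
theorem F38796 : act 2 n20447 = n15957 := d6_2 (iv F26367) D20447 (iv D15957) D15958 F27595
theorem F38797 : act 4 n20447 = n16592 := d8_2 (iv F26368) D20447 F29309
theorem F38798 : act 5 n20447 = n20196 := d9_2 D15130 D20447 F38269 F33216 (iv D15128)
theorem F38799 : act 0 n20447 = n20199 := d23_3 D12300 (iv F26367) D20447 (iv D20199) (iv D14973) (iv D11521) (iv D9317) F6872 D4517 F6885 (iv F6894) (iv F14812) (iv D4542) (iv F17182) F14953 F14954 (iv F3951) D5204 D10067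
def n20448 : Q := act 1 n15131
theorem D20448 : act 1 n15131 = n20448 := rfl
theorem F38800 : act 4 n20448 = n16857 := d8_2 (iv F26371) D20448 (iv D16857)
def n20449 : Q := act 3 n15132
theorem D20449 : act 3 n15132 = n20449 := rfl
theorem F38801 : act 1 n20449 = n20379 := d7_1 D20449 (iv D20379) (iv F26372)
def n20450 : Q := act 4 n15132
theorem D20450 : act 4 n15132 = n20450 := rfl
theorem F38802 : act 1 n20450 = n20380 := d8_1 D20450 (iv D20380) (iv F26372)
theorem F38803 : act 2 n20450 = n15133 := d12_1 D20450 (iv D15133) D15132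
def n20451 : Q := act 5 n15132
theorem D20451 : act 5 n15132 = n20451 := rfl
theorem F38804 : act 2 n20451 = n15134 := d13_1 D20451 (iv D15134) D15132
def n20452 : Q := act 6 n15132
theorem D20452 : act 6 n15132 = n20452 := rfl
theorem F38805 : act 2 n20452 = n15135 := d14_1 D20452 (iv D15135) D15132
def n20453 : Q := act 5 n15133
theorem D20453 : act 5 n15133 = n20453 := rfl
theorem F38806 : act 1 n20453 = n20383 := d9_1 D20453 (iv D20383) F26294 (iv F20563) (iv F26373)
theorem F38807 : act 3 n20453 = n17155 := d16_1 D20453 (iv D17155) (iv F26374)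
theorem F38808 : act 4 n20453 = n15134 := d18_1 D20453 (iv D15134) D15133
def n20454 : Q := act 6 n15133
theorem D20454 : act 6 n15133 = n20454 := rfl
theorem F38809 : act 1 n20454 = n16309 := d10_1 D20454 F28234 F21579 (iv F20564) (iv F26373)
theorem F38810 : act 3 n20454 = n16860 := d17_1 D20454 F29745 (iv F26374)
theorem F38811 : act 4 n20454 = n15135 := d19_1 D20454 (iv D15135) D15133
def n20455 : Q := act 6 n15134
theorem D20455 : act 6 n15134 = n20455 := rfl
theorem F38812 : act 3 n20455 = n15136 := d17_1 D20455 (iv D15136) (iv F26376)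
theorem F38813 : act 5 n20455 = n20446 := d22_2 D15134 D20455 (iv D20446) F26365
def n20456 : Q := act 5 n15135
theorem D20456 : act 5 n15135 = n20456 := rfl
theorem F38814 : act 0 n20456 = n20455 := d4_1 D20456 F38813 F38794
theorem F38815 : act 3 n20456 = n15137 := d16_1 D20456 (iv D15137) (iv F26378)
theorem F38816 : act 6 n20456 = n20445 := d20_2 D15135 D20456 (iv D20445) D20446 (iv F38813) (iv D20455) (iv D15134)
def n20457 : Q := act 1 n15136
theorem D20457 : act 1 n15136 = n20457 := rfl
theorem F38817 : act 4 n20457 = n17157 := d8_2 (iv F26380) D20457 (iv D17157)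
theorem F38818 : act 6 n20457 = n20387 := d10_2 D15136 D20457 (iv D20387) (iv D15096) (iv F20554)
def n20458 : Q := act 1 n15137
theorem D20458 : act 1 n15137 = n20458 := rfl
theorem F38819 : act 4 n20458 = n16861 := d8_2 (iv F26384) D20458 (iv D16861)
theorem F38820 : act 5 n20458 = n16311 := d9_2 D15137 D20458 (iv D16311) (iv D12226) (iv F20557)
def n20459 : Q := act 3 n15138
theorem D20459 : act 3 n15138 = n20459 := rfl
theorem F38821 : act 0 n20459 = n18951 := d2_1 D20459 (iv F34794) (iv F26625)
theorem F38822 : act 1 n20459 = n15139 := d7_1 D20459 (iv D15139) D15138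
theorem F38823 : act 2 n20459 = n18948 := d11_1 D20459 (iv D18948) (iv F34802) (iv D16126) (iv F34694) F25299 D14519 F34794 (iv D18951) (iv D13779) (iv F24192) (iv F34800) (iv F37121) F37122 F26624
def n20460 : Q := act 5 n15138
theorem D20460 : act 5 n15138 = n20460 := rfl
theorem F38824 : act 0 n20460 = n19763 := d4_1 D20460 (iv D19763) (iv F26625)
theorem F38825 : act 2 n20460 = n19363 := d13_1 D20460 (iv F36193) F26624
theorem F38826 : act 4 n20460 = n17236 := d18_1 D20460 (iv D17236) (iv F26386)
theorem F38827 : act 6 n20460 = n18610 := d22_1 D20460 (iv D18610) (iv F34523) (iv F26625)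
def n20461 : Q := act 2 n15139
theorem D20461 : act 2 n15139 = n20461 := rfl
theorem F38828 : act 0 n20461 = n15142 := d1_1 D20461 (iv D15142) (iv F26387)
def n20462 : Q := act 4 n15139
theorem D20462 : act 4 n15139 = n20462 := rfl
theorem F38829 : act 0 n20462 = n15143 := d3_1 D20462 (iv D15143) (iv F26387)
theorem F38830 : act 3 n20462 = n17239 := d15_1 D20462 (iv D17239) (iv D12766) (iv F20566) D15139
def n20463 : Q := act 5 n15139
theorem D20463 : act 5 n15139 = n20463 := rfl
theorem F38831 : act 0 n20463 = n15144 := d4_1 D20463 (iv D15144) (iv F26387)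
theorem F38832 : act 3 n20463 = n15140 := d16_1 D20463 (iv D15140) D15139
def n20464 : Q := act 6 n15139
theorem D20464 : act 6 n15139 = n20464 := rfl
theorem F38833 : act 0 n20464 = n15145 := d5_1 D20464 (iv D15145) (iv F26387)
theorem F38834 : act 3 n20464 = n15141 := d17_1 D20464 (iv D15141) D15139
def n20465 : Q := act 1 n15140
theorem D20465 : act 1 n15140 = n20465 := rfl
theorem F38835 : act 4 n20465 = n17052 := d8_2 (iv F26390) D20465 (iv D17052)
def n20466 : Q := act 1 n15141
theorem D20466 : act 1 n15141 = n20466 := rfl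
theorem F38836 : act 2 n20466 = n15965 := d6_2 (iv F26392) D20466 (iv D15965) D15966 F34852
theorem F38837 : act 4 n20466 = n16602 := d8_2 (iv F26393) D20466 F35076
theorem F38838 : act 6 n20466 = n20230 := d10_2 D15141 D20466 F38335 (iv F35357) (iv D15138)
theorem F38839 : act 0 n20234 = n20466 := d5_3 F38838 F38334 D20234
def n20467 : Q := act 3 n15142
theorem D20467 : act 3 n15142 = n20467 := rfl
theorem F38840 : act 1 n20467 = n20414 := d7_1 D20467 (iv D20414) (iv F26394)
def n20468 : Q := act 4 n15142
theorem D20468 : act 4 n15142 = n20468 := rfl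
theorem F38841 : act 1 n20468 = n20415 := d8_1 D20468 (iv D20415) (iv F26394)
theorem F38842 : act 2 n20468 = n15143 := d12_1 D20468 (iv D15143) D15142
def n20469 : Q := act 5 n15142
theorem D20469 : act 5 n15142 = n20469 := rfl
theorem F38843 : act 2 n20469 = n15144 := d13_1 D20469 (iv D15144) D15142
def n20470 : Q := act 6 n15142
theorem D20470 : act 6 n15142 = n20470 := rfl
theorem F38844 : act 2 n20470 = n15145 := d14_1 D20470 (iv D15145) D15142
def n20471 : Q := act 5 n15143
theorem D20471 : act 5 n15143 = n20471 := rfl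
theorem F38845 : act 1 n20471 = n16412 := d9_1 D20471 F28436 F21669 (iv F20577) (iv F26395)
theorem F38846 : act 3 n20471 = n17055 := d16_1 D20471 F30002 (iv F26396)
theorem F38847 : act 4 n20471 = n15144 := d18_1 D20471 (iv D15144) D15143
def n20472 : Q := act 6 n15143
theorem D20472 : act 6 n15143 = n20472 := rfl
theorem F38848 : act 1 n20472 = n20419 := d10_1 D20472 (iv D20419) F26334 (iv F20578) (iv F26395)
theorem F38849 : act 3 n20472 = n17248 := d17_1 D20472 (iv D17248) (iv F26396)
theorem F38850 : act 4 n20472 = n15145 := d19_1 D20472 (iv D15145) D15143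
def n20473 : Q := act 6 n15144
theorem D20473 : act 6 n15144 = n20473 := rfl
theorem F38851 : act 3 n20473 = n15146 := d17_1 D20473 (iv D15146) (iv F26398)
theorem F38852 : act 5 n20473 = n20464 := d22_2 D15144 D20473 (iv D20464) F26387
def n20474 : Q := act 5 n15145
theorem D20474 : act 5 n15145 = n20474 := rfl
theorem F38853 : act 0 n20474 = n20473 := d4_1 D20474 F38852 F38833
theorem F38854 : act 3 n20474 = n15147 := d16_1 D20474 (iv D15147) (iv F26400)
theorem F38855 : act 6 n20474 = n20463 := d20_2 D15145 D20474 (iv D20463) D20464 (iv F38852) (iv D20473) (iv D15144)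
def n20475 : Q := act 1 n15146
theorem D20475 : act 1 n15146 = n20475 := rfl
theorem F38856 : act 4 n20475 = n17057 := d8_2 (iv F26402) D20475 (iv D17057)
theorem F38857 : act 6 n20475 = n16414 := d10_2 D15146 D20475 (iv D16414) (iv D12278) (iv F20568)
def n20476 : Q := act 1 n15147
theorem D20476 : act 1 n15147 = n20476 := rfl
theorem F38858 : act 4 n20476 = n17250 := d8_2 (iv F26406) D20476 (iv D17250)
theorem F38859 : act 5 n20476 = n20425 := d9_2 D15147 D20476 (iv D20425) (iv D15118) (iv F20571)
def n20477 : Q := act 3 n15148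
theorem D20477 : act 3 n15148 = n20477 := rfl
theorem F38860 : act 1 n20477 = n19108 := d7_1 D20477 (iv F36771) F36769
theorem F38861 : act 5 n20477 = n16549 := d16_2 (iv F26408) D20477 (iv D16549)
theorem F38862 : act 2 n20477 = n18231 := d21_2 D15148 D20477 F31899 D19038 (iv F34144) (iv D16548) (iv F21972) F21971
def n20478 : Q := act 6 n15148
theorem D20478 : act 6 n15148 = n20478 := rfl
theorem F38863 : act 0 n20478 = n17018 := d5_1 D20478 F29955 F29594
theorem F38864 : act 2 n20478 = n15149 := d14_1 D20478 (iv D15149) D15148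
def n20479 : Q := act 3 n15150
theorem D20479 : act 3 n15150 = n20479 := rfl
theorem F38865 : act 1 n20479 = n19178 := d7_1 D20479 (iv F36775) F36773
theorem F38866 : act 6 n20479 = n16552 := d17_2 (iv F26412) D20479 (iv D16552)
theorem F38867 : act 2 n20479 = n18234 := d21_2 D15150 D20479 F31908 D19046 F35177 (iv D16551) (iv F22140) F22139
def n20480 : Q := act 5 n15150
theorem D20480 : act 5 n15150 = n20480 := rfl
theorem F38868 : act 0 n20480 = n16826 := d4_1 D20480 (iv F29864) F29863
theorem F38869 : act 2 n20480 = n15151 := d13_1 D20480 (iv D15151) D15150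
def n20481 : Q := act 2 n15154
theorem D20481 : act 2 n15154 = n20481 := rfl
theorem F38870 : act 1 n20481 = n15160 := d6_1 D20481 (iv D15160) (iv D11613) (iv F20583) D15154
def n20482 : Q := act 5 n15154
theorem D20482 : act 5 n15154 = n20482 := rfl
theorem F38871 : act 0 n20482 = n19851 := d4_1 D20482 (iv F37828) F37827
theorem F38872 : act 1 n20482 = n19306 := d9_1 D20482 F36030 (iv D14374) (iv F20584) D15154
theorem F38873 : act 6 n20482 = n20021 := d22_1 D20482 (iv D20021) D20022 F37827
def n20483 : Q := act 2 n15158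
theorem D20483 : act 2 n15158 = n20483 := rfl
theorem F38874 : act 1 n20483 = n15165 := d6_1 D20483 (iv D15165) (iv D11617) (iv F20586) D15158
def n20484 : Q := act 6 n15158
theorem D20484 : act 6 n15158 = n20484 := rfl
theorem F38875 : act 0 n20484 = n19873 := d5_1 D20484 F37731 F37730
theorem F38876 : act 1 n20484 = n19250 := d10_1 D20484 F35898 (iv D14373) (iv F20587) D15158
theorem F38877 : act 5 n20484 = n19968 := d22_2 (iv F37729) D20484 (iv D19968) D19965
def n20485 : Q := act 2 n15159
theorem D20485 : act 2 n15159 = n20485 := rfl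
theorem F38878 : act 0 n20485 = n16749 := d1_1 D20485 (iv D16749) (iv F26419)
theorem F38879 : act 1 n20485 = n16914 := d6_1 D20485 F29806 F22104 F20598 D15159
theorem F38880 : act 5 n20485 = n16873 := d13_2 (iv F26421) D20485 F29763
theorem F38881 : act 6 n20485 = n15160 := d14_2 (iv F26422) D20485 (iv D15160)
def n20486 : Q := act 3 n15160
theorem D20486 : act 3 n15160 = n20486 := rfl
def n20487 : Q := act 2 n15164
theorem D20487 : act 2 n15164 = n20487 := rfl
theorem F38882 : act 0 n20487 = n16674 := d1_1 D20487 (iv D16674) (iv F26427)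
theorem F38883 : act 1 n20487 = n17108 := d6_1 D20487 F30064 (iv F22272) F34749 D15164
theorem F38884 : act 5 n20487 = n15165 := d13_2 (iv F26429) D20487 (iv D15165)
theorem F38885 : act 6 n20487 = n17070 := d14_2 (iv F26430) D20487 F30019
def n20488 : Q := act 3 n15165
theorem D20488 : act 3 n15165 = n20488 := rfl
def n20489 : Q := act 3 n15178
theorem D20489 : act 3 n15178 = n20489 := rfl
theorem F38886 : act 0 n20489 = n18634 := d2_1 D20489 F33334 F26462
theorem F38887 : act 1 n20489 = n15179 := d7_1 D20489 (iv D15179) D15178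
theorem F38888 : act 2 n20489 = n18331 := d25_24 D2257 F3574 (iv F14694) (iv F6746) (iv F13691) (iv F20246) F28889 (iv D10937) (iv F18935) (iv F28824) F20126 (iv D9559) (iv D4627) F3527 D2657 F4167 D5511 D10136 D12430 F21891 (iv F26461) (iv D15185) (iv F26449) D20489 (iv D18331) (iv F32025) (iv F32027) (iv F36710) F36711 F29243 F28539 F32011 (iv D18289) F23529 D13373 F23536 D13378 (iv F24162) (iv D13757) (iv D10880) (iv D8018) F5877 F14922 (iv F5645) D7672 (iv F19041) D13435 (iv F28099) (iv D16246) F21505 (iv D10023) F7865 D5530 D10182 F18036 (iv D9581) F7062 (iv D2239) (iv D1093) F1037 D553 F1040 D572 D1141 (iv F3698) (iv D2342) F14822 (iv D1140) (iv D571) F564 D571 F14762 D1140 D2342 F3698 (iv D1141) (iv F1896)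
theorem F38889 : act 2 n16010 = n18634 := d1_2 F38888 (iv F32147) (iv F38886)
theorem E10231 : n18983 = n16009 := (c12_3 D16010 F38889 (iv F34000) (iv D16009))
theorem F38890 : act 1 n16009 = n13796 := (sb E10231 (iv D18983))
theorem F38891 : act 4 n16009 = n18634 := (sb E10231 F34000)
def n20490 : Q := act 6 n15178
theorem D20490 : act 6 n15178 = n20490 := rfl
theorem F38892 : act 2 n20490 = n15187 := d14_1 D20490 (iv D15187) (iv F26449)
theorem F38893 : act 5 n20490 = n15187 := d22_2 F26460 D20490 (iv D15187) D15184
def n20491 : Q := act 4 n15179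
theorem D20491 : act 4 n15179 = n20491 := rfl
theorem F38894 : act 0 n20491 = n18400 := d3_1 D20491 F32296 F29170
theorem F38895 : act 2 n20491 = n18294 := d12_1 D20491 F32023 F28813
def n20492 : Q := act 6 n15179
theorem D20492 : act 6 n15179 = n20492 := rfl
theorem F38896 : act 0 n20492 = n18562 := d5_1 D20492 (iv D18562) F29170
theorem F38897 : act 2 n20492 = n18330 := d14_1 D20492 (iv D18330) F28813
theorem F38898 : act 3 n20492 = n15181 := d17_1 D20492 (iv D15181) D15179
theorem F38899 : act 5 n20492 = n20079 := d22_2 F37929 D20492 (iv D20079) (iv F37926)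
def n20493 : Q := act 6 n15180
theorem D20493 : act 6 n15180 = n20493 := rfl
theorem F38900 : act 2 n20493 = n15182 := d14_1 D20493 (iv D15182) (iv F26451)
theorem F38901 : act 5 n20493 = n16979 := d22_2 D15180 D20493 F29899 F26448
def n20494 : Q := act 1 n15181
theorem D20494 : act 1 n15181 = n20494 := rfl
def n20495 : Q := act 5 n15181
theorem D20495 : act 5 n15181 = n20495 := rfl
theorem F38902 : act 0 n20495 = n20493 := d4_1 D20495 F38901 F29898
theorem F38903 : act 2 n20495 = n15183 := d13_1 D20495 (iv D15183) (iv F26452)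
theorem F38904 : act 3 n20495 = n20079 := d16_1 D20495 (iv F38899) F38898
theorem F38905 : act 6 n20495 = n16592 := d20_2 D15181 D20495 F29310 (iv F29899) (iv F38901) (iv D20493) (iv D15180)
def n20496 : Q := act 3 n15184
theorem D20496 : act 3 n15184 = n20496 := rfl
theorem F38906 : act 0 n20496 = n15185 := d2_1 D20496 (iv D15185) D15184
theorem F38907 : act 5 n20496 = n20489 := d16_2 (iv F26460) D20496 (iv D20489)
def n20497 : Q := act 6 n15184
theorem D20497 : act 6 n15184 = n20497 := rfl
theorem F38908 : act 0 n20497 = n15187 := d5_1 D20497 (iv D15187) D15184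
theorem F38909 : act 1 n20497 = n16926 := d10_1 D20497 F29820 (iv F29958) F29955 F29595
def n20498 : Q := act 2 n15185
theorem D20498 : act 2 n15185 = n20498 := rfl
theorem F38910 : act 5 n20498 = n16010 := d13_2 F33335 D20498 F38889
theorem F38911 : act 3 n20498 = n16594 := d21_1 D20498 F29316 (iv F27680) F38889 F33334 F26464 D20496 F38906
theorem F38912 : act 4 n15959 = n20498 := d15_0 F38911 (iv D16594) (iv D12377) (iv F21284) D15959
def n20499 : Q := act 4 n15185
theorem D20499 : act 4 n15185 = n20499 := rfl
theorem F38913 : act 1 n20499 = n15188 := d8_1 D20499 (iv D15188) (iv F26461)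
theorem F38914 : act 2 n20499 = n15959 := d12_1 D20499 F38912 (iv D20498)
theorem F38915 : act 5 n20499 = n16009 := d18_2 F33335 D20499 F38891
def n20500 : Q := act 6 n15185
theorem D20500 : act 6 n15185 = n20500 := rfl
theorem F38916 : act 3 n20500 = n15187 := d17_1 D20500 (iv D15187) D15185
def n20501 : Q := act 6 n15186
theorem D20501 : act 6 n15186 = n20501 := rfl
theorem F38917 : act 0 n20501 = n20490 := d5_1 D20501 (iv D20490) (iv F26462)
theorem F38918 : act 2 n20501 = n20497 := d14_1 D20501 (iv D20497) (iv F26464)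
theorem F38919 : act 5 n20501 = n20497 := d20_1 D20501 (iv D20497) F26460 D20490 F38893 (iv D15187) D15186
def n20502 : Q := act 6 n15190
theorem D20502 : act 6 n15190 = n20502 := rfl
theorem F38920 : act 2 n20502 = n15192 := d14_1 D20502 (iv D15192) (iv F26467)
theorem F38921 : act 4 n20502 = n15191 := d19_1 D20502 (iv D15191) D15190
theorem F38922 : act 5 n20502 = n16835 := d22_2 (iv F26468) D20502 (iv D16835) F22022
def n20503 : Q := act 1 n15192
theorem D20503 : act 1 n15192 = n20503 := rfl
theorem F38923 : act 4 n20503 = n15193 := d8_2 (iv F26472) D20503 (iv D15193)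
def n20504 : Q := act 0 n15193
theorem D20504 : act 0 n15193 = n20504 := rfl
theorem F38924 : act 3 n20504 = n15194 := d2_2 (iv F26473) D20504 (iv D15194)
def n20505 : Q := act 2 n15193
theorem D20505 : act 2 n15193 = n20505 := rfl
def n20506 : Q := act 5 n15193
theorem D20506 : act 5 n15193 = n20506 := rfl
theorem F38925 : act 3 n20506 = n15196 := d16_1 D20506 (iv D15196) (iv F26473)
def n20507 : Q := act 1 n15194
theorem D20507 : act 1 n15194 = n20507 := rfl
def n20508 : Q := act 2 n15194
theorem D20508 : act 2 n15194 = n20508 := rfl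
theorem F38926 : act 0 n20508 = n15195 := d1_1 D20508 (iv D15195) D15194
def n20509 : Q := act 5 n15194
theorem D20509 : act 5 n15194 = n20509 := rfl
theorem F38927 : act 0 n20509 = n15196 := d4_1 D20509 (iv D15196) D15194
theorem F38928 : act 6 n20509 = n19850 := d22_1 D20509 (iv D19850) F25512 D15194
theorem F38929 : act 6 n20507 = n17049 := d24_3 (iv F38928) (iv D20509) D20507 (iv F30236) (iv D13600) (iv D10794) F11527 (iv F12206) D10967 D13918 D19139 F35659 D19953 F37706
theorem F38930 : act 2 n17051 = n20507 := d14_3 F38929 (iv D17049) D17051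
theorem F38931 : act 3 n18642 = n20507 := d17_3 F38929 F30237 D18642
theorem F38932 : act 1 n20504 = n18642 := d7_3 F38931 (iv D20507) (iv F38924)
def n20510 : Q := act 3 n15195
theorem D20510 : act 3 n15195 = n20510 := rfl
theorem F38933 : act 1 n20510 = n15199 := d7_1 D20510 (iv D15199) (iv F26474)
def n20511 : Q := act 5 n15195
theorem D20511 : act 5 n15195 = n20511 := rfl
theorem F38934 : act 2 n20511 = n15196 := d13_1 D20511 (iv D15196) D15195
theorem F38935 : act 1 n19619 = n20511 := d6_5 F38934 (iv F26555) F36889 (iv D19618) D19619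
def n20512 : Q := act 6 n15196
theorem D20512 : act 6 n15196 = n20512 := rfl
theorem F38936 : act 0 n20512 = n19850 := d5_1 D20512 (iv F38928) F38927
theorem F38937 : act 5 n20512 = n19848 := d20_1 D20512 F37480 D20509 F38928 (iv D19850) F25512 D15196
def n20513 : Q := act 2 n15197
theorem D20513 : act 2 n15197 = n20513 := rfl
theorem F38938 : act 0 n20513 = n16609 := d1_1 D20513 (iv D16609) (iv F26475)
theorem F38939 : act 5 n20513 = n16610 := d13_2 (iv F26477) D20513 (iv D16610)
theorem F38940 : act 6 n20513 = n17278 := d14_2 F29342 D20513 F30310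
def n20514 : Q := act 1 n15198
theorem D20514 : act 1 n15198 = n20514 := rfl
def n20515 : Q := act 3 n15198
theorem D20515 : act 3 n15198 = n20515 := rfl
theorem F38941 : act 0 n20515 = n15199 := d2_1 D20515 (iv D15199) (iv F26478)
theorem F38942 : act 6 n20515 = n15203 := d17_2 (iv F26479) D20515 (iv D15203)
def n20516 : Q := act 2 n15199
theorem D20516 : act 2 n15199 = n20516 := rfl
theorem F38943 : act 6 n20516 = n15205 := d14_2 (iv F26480) D20516 (iv D15205)
def n20517 : Q := act 4 n15199
theorem D20517 : act 4 n15199 = n20517 := rfl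
theorem F38944 : act 6 n20517 = n15206 := d19_2 (iv F26480) D20517 (iv D15206)
def n20518 : Q := act 5 n15199
theorem D20518 : act 5 n15199 = n20518 := rfl
theorem F38945 : act 3 n20518 = n15200 := d16_1 D20518 (iv D15200) D15199
def n20519 : Q := act 1 n15200
theorem D20519 : act 1 n15200 = n20519 := rfl
theorem F38946 : act 2 n20519 = n19615 := d6_2 (iv F26481) D20519 (iv F36888) F26565 F20688
theorem F38947 : act 5 n20519 = n19619 := d9_2 D15200 D20519 F38935 (iv D20511) F26474
theorem F38948 : act 0 n20519 = n19616 := d23_3 D11639 (iv F26481) D20519 F36863 (iv D14417) (iv D11245) F13232 F13230 (iv F19859) D14335 F29304 F29285 D16591 F29307 (iv F29336) (iv F38939) (iv D20513) (iv D15197) (iv D11637)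
def n20520 : Q := act 1 n15201
theorem D20520 : act 1 n15201 = n20520 := rfl
theorem F38949 : act 2 n20520 = n15202 := d6_2 D15201 D20520 (iv D15202) (iv D11641) D11640
def n20521 : Q := act 3 n15201
theorem D20521 : act 3 n15201 = n20521 := rfl
theorem F38950 : act 5 n20521 = n17023 := d16_2 (iv F26482) D20521 F29961
theorem F38951 : act 2 n20521 = n19904 := d21_2 D15201 D20521 (iv D19904) (iv D14670) (iv F25277) F35295 (iv F22162) F22160
def n20522 : Q := act 0 n15202
theorem D20522 : act 0 n15202 = n20522 := rfl
def n20523 : Q := act 3 n15202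
theorem D20523 : act 3 n15202 = n20523 := rfl
theorem F38952 : act 1 n20523 = n15203 := d7_1 D20523 (iv D15203) D15202
def n20524 : Q := act 5 n15202
theorem D20524 : act 5 n15202 = n20524 := rfl
def n20525 : Q := act 6 n15202
theorem D20525 : act 6 n15202 = n20525 := rfl
def n20526 : Q := act 4 n15203
theorem D20526 : act 4 n15203 = n20526 := rfl
theorem F38953 : act 0 n20526 = n15206 := d3_1 D20526 (iv D15206) (iv F26483)
def n20527 : Q := act 5 n15203
theorem D20527 : act 5 n15203 = n20527 := rfl
theorem F38954 : act 0 n20527 = n15207 := d4_1 D20527 (iv D15207) (iv F26483)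
theorem F38955 : act 3 n20527 = n15204 := d16_1 D20527 (iv D15204) D15203
theorem F38956 : act 6 n20527 = n20518 := d22_1 D20527 (iv D20518) F26480 (iv F26483)
def n20528 : Q := act 1 n15204
theorem D20528 : act 1 n15204 = n20528 := rfl
theorem F38957 : act 2 n20528 = n16768 := d6_2 (iv F26485) D20528 (iv D16768) F21961 F20632
def n20529 : Q := act 1 n15205
theorem D20529 : act 1 n15205 = n20529 := rfl
def n20530 : Q := act 4 n15205
theorem D20530 : act 4 n15205 = n20530 := rfl
theorem F38958 : act 2 n20530 = n15206 := d12_1 D20530 (iv D15206) D15205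
def n20531 : Q := act 5 n15205
theorem D20531 : act 5 n15205 = n20531 := rfl
theorem F38959 : act 2 n20531 = n15207 := d13_1 D20531 (iv D15207) D15205
def n20532 : Q := act 5 n15206
theorem D20532 : act 5 n15206 = n20532 := rfl
theorem F38960 : act 4 n20532 = n15207 := d18_1 D20532 (iv D15207) D15206
def n20533 : Q := act 6 n15207
theorem D20533 : act 6 n15207 = n20533 := rfl
theorem F38961 : act 0 n20533 = n20518 := d5_1 D20533 (iv F38956) F38954
theorem F38962 : act 3 n20533 = n15209 := d17_1 D20533 (iv D15209) (iv F26487)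
theorem F38963 : act 5 n20533 = n20515 := d20_1 D20533 F38942 D20527 F38956 (iv D20518) F26480 D15207
def n20534 : Q := act 1 n15209
theorem D20534 : act 1 n15209 = n20534 := rfl
theorem F38964 : act 0 n20534 = n20534 := d0_1 D20534 (iv D20534) F26489 D20519 F38948 F36862 (iv F38948) (iv D20519) (iv F26489)
def n20535 : Q := act 3 n15211
theorem D20535 : act 3 n15211 = n20535 := rfl
theorem F38965 : act 0 n20535 = n18643 := d2_1 D20535 (iv F35280) F35178
theorem F38966 : act 1 n20535 = n15212 := d7_1 D20535 (iv D15212) D15211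
theorem F38967 : act 2 n20535 = n18343 := d25_24 D2271 F3596 (iv F16457) (iv F6776) (iv F13742) (iv F20271) F34190 (iv D10940) (iv F18936) (iv F34444) F20134 (iv D9567) (iv D4631) F3531 D2661 F4170 D5519 D10155 D12470 F21940 (iv F26503) (iv D15218) (iv F26493) D20535 (iv D18343) (iv F32044) (iv F34844) (iv F36732) F36733 F28598 F28596 F34601 (iv D18292) F23532 D13376 F23540 D13379 (iv F24197) (iv D13777) (iv D10891) (iv D8028) F5884 F16781 (iv F5651) D7676 (iv F19046) D13445 (iv F28314) (iv D16350) F21594 (iv D10046) F7884 D5553 D10234 F18086 (iv D9595) F7072 (iv D2245) (iv D1096) F1038 D556 F1044 D577 D1149 (iv F3723) (iv D2359) F16688 (iv D1148) (iv D576) F569 D576 F16580 D1148 D2359 F3723 (iv D1149) (iv F1908)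
theorem F38968 : act 2 n16023 = n18643 := d1_2 F38967 F35259 (iv F38965)
theorem E10232 : n18998 = n16022 := (c12_3 D16023 F38968 (iv F34033) (iv D16022))
theorem F38969 : act 1 n16022 = n13810 := (sb E10232 (iv D18998))
theorem F38970 : act 4 n16022 = n18643 := (sb E10232 F34033)
def n20536 : Q := act 5 n15211
theorem D20536 : act 5 n15211 = n20536 := rfl
theorem F38971 : act 2 n20536 = n15219 := d13_1 D20536 (iv D15219) (iv F26493)
theorem F38972 : act 6 n20536 = n15219 := d22_1 D20536 (iv D15219) D15220 F35178
def n20537 : Q := act 4 n15212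
theorem D20537 : act 4 n15212 = n20537 := rfl
theorem F38973 : act 0 n20537 = n18421 := d3_1 D20537 F32335 (iv F35072)
theorem F38974 : act 2 n20537 = n18300 := d12_1 D20537 F32042 (iv F35073)
def n20538 : Q := act 5 n15212
theorem D20538 : act 5 n15212 = n20538 := rfl
theorem F38975 : act 0 n20538 = n18600 := d4_1 D20538 (iv D18600) (iv F35072)
theorem F38976 : act 2 n20538 = n18341 := d13_1 D20538 (iv D18341) (iv F35073)
theorem F38977 : act 3 n20538 = n15213 := d16_1 D20538 (iv D15213) D15212
theorem F38978 : act 6 n20538 = n20096 := d22_1 D20538 (iv D20096) F34631 (iv F35072)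
def n20539 : Q := act 1 n15213
theorem D20539 : act 1 n15213 = n20539 := rfl
def n20540 : Q := act 6 n15213
theorem D20540 : act 6 n15213 = n20540 := rfl
theorem F38979 : act 2 n20540 = n15215 := d14_1 D20540 (iv D15215) (iv F26494)
theorem F38980 : act 3 n20540 = n20096 := d17_1 D20540 (iv F38978) F38977
theorem F38981 : act 5 n20540 = n16602 := d22_2 D15213 D20540 F29329 F26492
def n20541 : Q := act 5 n15214
theorem D20541 : act 5 n15214 = n20541 := rfl
theorem F38982 : act 0 n20541 = n20540 := d4_1 D20541 F38981 F29328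
theorem F38983 : act 2 n20541 = n15216 := d13_1 D20541 (iv D15216) (iv F26495)
theorem F38984 : act 6 n20541 = n16791 := d20_2 D15214 D20541 F29615 (iv F29329) (iv F38981) (iv D20540) (iv D15213)
def n20542 : Q := act 3 n15217
theorem D20542 : act 3 n15217 = n20542 := rfl
theorem F38985 : act 0 n20542 = n15218 := d2_1 D20542 (iv D15218) D15217
theorem F38986 : act 6 n20542 = n20535 := d17_2 F35182 D20542 (iv D20535)
def n20543 : Q := act 5 n15217
theorem D20543 : act 5 n15217 = n20543 := rfl
theorem F38987 : act 0 n20543 = n15219 := d4_1 D20543 (iv D15219) D15217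
theorem F38988 : act 1 n20543 = n17119 := d9_1 D20543 F30075 (iv F35585) (iv F29864) (iv F35183)
def n20544 : Q := act 2 n15218
theorem D20544 : act 2 n15218 = n20544 := rfl
theorem F38989 : act 6 n20544 = n16023 := d14_2 F35279 D20544 F38968
theorem F38990 : act 3 n20544 = n16606 := d21_1 D20544 F34792 (iv F27705) F38968 (iv F35280) (iv F35181) D20542 F38985
theorem F38991 : act 4 n15967 = n20544 := d15_0 F38990 (iv D16606) (iv D12385) (iv F21290) D15967
def n20545 : Q := act 4 n15218
theorem D20545 : act 4 n15218 = n20545 := rfl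
theorem F38992 : act 1 n20545 = n15221 := d8_1 D20545 (iv D15221) (iv F26503)
theorem F38993 : act 2 n20545 = n15967 := d12_1 D20545 F38991 (iv D20544)
theorem F38994 : act 6 n20545 = n16022 := d19_2 F35279 D20545 F38970
def n20546 : Q := act 5 n15218
theorem D20546 : act 5 n15218 = n20546 := rfl
theorem F38995 : act 3 n20546 = n15219 := d16_1 D20546 (iv D15219) D15218
def n20547 : Q := act 5 n15220
theorem D20547 : act 5 n15220 = n20547 := rfl
theorem F38996 : act 0 n20547 = n20536 := d4_1 D20547 (iv D20536) (iv F35178)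
theorem F38997 : act 2 n20547 = n20543 := d13_1 D20547 (iv D20543) F35181
theorem F38998 : act 6 n20547 = n20543 := d20_2 D15220 D20547 (iv D20543) (iv F35182) D20536 F38972 (iv D15219)
def n20548 : Q := act 5 n15223
theorem D20548 : act 5 n15223 = n20548 := rfl
theorem F38999 : act 2 n20548 = n15225 := d13_1 D20548 (iv D15225) (iv F26507)
theorem F39000 : act 4 n20548 = n15224 := d18_1 D20548 (iv D15224) D15223
theorem F39001 : act 6 n20548 = n17026 := d22_1 D20548 (iv D17026) (iv F29538) F29536
def n20549 : Q := act 1 n15225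
theorem D20549 : act 1 n15225 = n20549 := rfl
theorem F39002 : act 4 n20549 = n15226 := d8_2 (iv F26512) D20549 (iv D15226)
def n20550 : Q := act 0 n15226
theorem D20550 : act 0 n15226 = n20550 := rfl
theorem F39003 : act 3 n20550 = n15227 := d2_2 (iv F26513) D20550 (iv D15227)
def n20551 : Q := act 2 n15226
theorem D20551 : act 2 n15226 = n20551 := rfl
def n20552 : Q := act 6 n15226
theorem D20552 : act 6 n15226 = n20552 := rfl
theorem F39004 : act 3 n20552 = n15229 := d17_1 D20552 (iv D15229) (iv F26513)
def n20553 : Q := act 1 n15227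
theorem D20553 : act 1 n15227 = n20553 := rfl
def n20554 : Q := act 2 n15227
theorem D20554 : act 2 n15227 = n20554 := rfl
theorem F39005 : act 0 n20554 = n15228 := d1_1 D20554 (iv D15228) D15227
def n20555 : Q := act 6 n15227
theorem D20555 : act 6 n15227 = n20555 := rfl
theorem F39006 : act 0 n20555 = n15229 := d5_1 D20555 (iv D15229) D15227
theorem F39007 : act 5 n20555 = n19872 := d22_2 F37513 D20555 (iv D19872) D19870
theorem F39008 : act 5 n16854 = n20553 := d24_13 D20555 F39007 (iv F37805) (iv D20008) (iv F35808) (iv D19206) (iv D13966) (iv D10989) F12216 (iv F11537) D10801 D13613 (iv F34916) (iv D20553)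
theorem F39009 : act 2 n20553 = n16855 := d13_1 F39008 (iv D16855) D16854
theorem F39010 : act 3 n20553 = n18663 := d16_1 F39008 (iv D18663) (iv F34915)
theorem F39011 : act 1 n18663 = n20550 := d7_1 F39010 F39003 D20553
def n20556 : Q := act 3 n15228
theorem D20556 : act 3 n15228 = n20556 := rfl
theorem F39012 : act 1 n20556 = n15232 := d7_1 D20556 (iv D15232) (iv F26514)
def n20557 : Q := act 6 n15228
theorem D20557 : act 6 n15228 = n20557 := rfl
theorem F39013 : act 2 n20557 = n15229 := d14_1 D20557 (iv D15229) D15228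
theorem F39014 : act 1 n19610 = n20557 := d6_5 F39013 (iv F26631) (iv F36857) (iv D19609) D19610
def n20558 : Q := act 5 n15229
theorem D20558 : act 5 n15229 = n20558 := rfl
theorem F39015 : act 0 n20558 = n19872 := d4_1 D20558 (iv F39007) F39006
theorem F39016 : act 6 n20558 = n19870 := d20_2 D15229 D20558 F37513 D20555 F39007 (iv D19872) F25529
def n20559 : Q := act 2 n15230
theorem D20559 : act 2 n15230 = n20559 := rfl
theorem F39017 : act 0 n20559 = n16597 := d1_1 D20559 (iv D16597) (iv F26515)
theorem F39018 : act 5 n20559 = n17187 := d13_2 F29327 D20559 (iv F35580)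
theorem F39019 : act 6 n20559 = n16598 := d14_2 (iv F26517) D20559 (iv D16598)
def n20560 : Q := act 1 n15231
theorem D20560 : act 1 n15231 = n20560 := rfl
def n20561 : Q := act 3 n15231
theorem D20561 : act 3 n15231 = n20561 := rfl
theorem F39020 : act 0 n20561 = n15232 := d2_1 D20561 (iv D15232) (iv F26518)
theorem F39021 : act 5 n20561 = n15236 := d16_2 (iv F26519) D20561 (iv D15236)
def n20562 : Q := act 2 n15232
theorem D20562 : act 2 n15232 = n20562 := rfl
theorem F39022 : act 5 n20562 = n15238 := d13_2 (iv F26520) D20562 (iv D15238)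
def n20563 : Q := act 4 n15232
theorem D20563 : act 4 n15232 = n20563 := rfl
theorem F39023 : act 5 n20563 = n15239 := d18_2 (iv F26520) D20563 (iv D15239)
def n20564 : Q := act 6 n15232
theorem D20564 : act 6 n15232 = n20564 := rfl
theorem F39024 : act 3 n20564 = n15233 := d17_1 D20564 (iv D15233) D15232
def n20565 : Q := act 1 n15233
theorem D20565 : act 1 n15233 = n20565 := rfl
theorem F39025 : act 2 n20565 = n19606 := d6_2 (iv F26521) D20565 F36856 F26639 F20726
theorem F39026 : act 6 n20565 = n19610 := d10_2 D15233 D20565 F39014 (iv D20557) F26514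
theorem F39027 : act 0 n19607 = n20565 := d5_3 F39026 F36850 (iv F36849)
def n20566 : Q := act 1 n15234
theorem D20566 : act 1 n15234 = n20566 := rfl
theorem F39028 : act 2 n20566 = n15235 := d6_2 D15234 D20566 (iv D15235) (iv D11660) D11659
def n20567 : Q := act 3 n15234
theorem D20567 : act 3 n15234 = n20567 := rfl
theorem F39029 : act 6 n20567 = n16832 := d17_2 (iv F26522) D20567 F29684
theorem F39030 : act 2 n20567 = n19895 := d21_2 D15234 D20567 (iv D19895) (iv D14660) (iv F25268) F35318 (iv F21992) F21991
def n20568 : Q := act 0 n15235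
theorem D20568 : act 0 n15235 = n20568 := rfl
def n20569 : Q := act 3 n15235
theorem D20569 : act 3 n15235 = n20569 := rfl
theorem F39031 : act 1 n20569 = n15236 := d7_1 D20569 (iv D15236) D15235
def n20570 : Q := act 5 n15235
theorem D20570 : act 5 n15235 = n20570 := rfl
def n20571 : Q := act 6 n15235
theorem D20571 : act 6 n15235 = n20571 := rfl
def n20572 : Q := act 4 n15236
theorem D20572 : act 4 n15236 = n20572 := rfl
theorem F39032 : act 0 n20572 = n15239 := d3_1 D20572 (iv D15239) (iv F26523)
def n20573 : Q := act 6 n15236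
theorem D20573 : act 6 n15236 = n20573 := rfl
theorem F39033 : act 0 n20573 = n15240 := d5_1 D20573 (iv D15240) (iv F26523)
theorem F39034 : act 3 n20573 = n15237 := d17_1 D20573 (iv D15237) D15236
theorem F39035 : act 5 n20573 = n20564 := d22_2 F39021 D20573 (iv D20564) (iv F39020)
def n20574 : Q := act 1 n15237
theorem D20574 : act 1 n15237 = n20574 := rfl
theorem F39036 : act 2 n20574 = n16692 := d6_2 (iv F26525) D20574 (iv D16692) F21911 (iv F20656)
def n20575 : Q := act 1 n15238
theorem D20575 : act 1 n15238 = n20575 := rfl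
def n20576 : Q := act 4 n15238
theorem D20576 : act 4 n15238 = n20576 := rfl
theorem F39037 : act 2 n20576 = n15239 := d12_1 D20576 (iv D15239) D15238
def n20577 : Q := act 6 n15238
theorem D20577 : act 6 n15238 = n20577 := rfl
theorem F39038 : act 2 n20577 = n15240 := d14_1 D20577 (iv D15240) D15238
def n20578 : Q := act 6 n15239
theorem D20578 : act 6 n15239 = n20578 := rfl
theorem F39039 : act 4 n20578 = n15240 := d19_1 D20578 (iv D15240) D15239
def n20579 : Q := act 5 n15240
theorem D20579 : act 5 n15240 = n20579 := rfl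
theorem F39040 : act 0 n20579 = n20564 := d4_1 D20579 (iv F39035) F39033
theorem F39041 : act 3 n20579 = n15241 := d16_1 D20579 (iv D15241) (iv F26527)
theorem F39042 : act 6 n20579 = n20561 := d20_2 D15240 D20579 F39021 D20573 F39035 (iv D20564) F26520
def n20580 : Q := act 1 n15241
theorem D20580 : act 1 n15241 = n20580 := rfl
theorem F39043 : act 0 n20580 = n20580 := d0_1 D20580 (iv D20580) F26528 D20565 (iv F39027) F36848 F39027 (iv D20565) (iv F26528)
def n20581 : Q := act 1 n15247
theorem D20581 : act 1 n15247 = n20581 := rfl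
theorem F39044 : act 3 n20581 = n15248 := d7_2 (iv F26548) D20581 (iv D15248)
theorem F39045 : act 6 n20581 = n15250 := d10_2 D15247 D20581 (iv D15250) (iv D11674) (iv F20677)
theorem F39046 : act 0 n19955 = n20581 := d2_3 F39044 F36876 D19955
def n20582 : Q := act 5 n15248
theorem D20582 : act 5 n15248 = n20582 := rfl
theorem F39047 : act 0 n20582 = n19956 := d4_1 D20582 (iv D19956) (iv F36876)
theorem F39048 : act 2 n20582 = n19954 := d13_1 D20582 (iv D19954) F36875
def n20583 : Q := act 1 n15249
theorem D20583 : act 1 n15249 = n20583 := rfl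
theorem F39049 : act 4 n20583 = n15250 := d8_2 (iv F26551) D20583 (iv D15250)
def n20584 : Q := act 0 n15250
theorem D20584 : act 0 n15250 = n20584 := rfl
theorem F39050 : act 3 n20584 = n15251 := d2_2 (iv F26553) D20584 (iv D15251)
theorem F39051 : act 6 n20584 = n19955 := d5_2 F39045 D20584 F39046
def n20585 : Q := act 2 n15250
theorem D20585 : act 2 n15250 = n20585 := rfl
def n20586 : Q := act 5 n15250
theorem D20586 : act 5 n15250 = n20586 := rfl
theorem F39052 : act 1 n20586 = n20506 := d9_1 D20586 (iv D20506) (iv D15193) (iv F20686) D15250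
theorem F39053 : act 3 n20586 = n15253 := d16_1 D20586 (iv D15253) (iv F26553)
def n20587 : Q := act 1 n15251
theorem D20587 : act 1 n15251 = n20587 := rfl
theorem F39054 : act 2 n20587 = n19946 := d6_2 (iv F36872) D20587 (iv D19946) F25673 D14726
def n20588 : Q := act 5 n15251
theorem D20588 : act 5 n15251 = n20588 := rfl
theorem F39055 : act 0 n20588 = n15253 := d4_1 D20588 (iv D15253) D15251
theorem F39056 : act 2 n20588 = n19947 := d13_1 D20588 (iv D19947) (iv F36872)
theorem F39057 : act 6 n20588 = n20582 := d20_2 F36877 D20588 (iv D20582) F26549 D15253 (iv F37711) (iv D19956)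
def n20589 : Q := act 3 n15252
theorem D20589 : act 3 n15252 = n20589 := rfl
theorem F39058 : act 0 n20589 = n19402 := d2_1 D20589 F36303 F36870
theorem F39059 : act 1 n20589 = n15257 := d7_1 D20589 (iv D15257) (iv F26554)
theorem F39060 : act 4 n20589 = n15803 := d15_2 F38527 D20589 (iv F37544) (iv F37247) F38529
theorem F39061 : act 6 n20589 = n19906 := d17_2 (iv F36873) D20589 F37601
theorem F39062 : act 2 n15792 = n20589 := d14_3 F39061 F37600 F36507
def n20590 : Q := act 2 n15254
theorem D20590 : act 2 n15254 = n20590 := rfl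
theorem F39063 : act 0 n20590 = n16553 := d1_1 D20590 F28731 (iv F26556)
theorem F39064 : act 1 n20590 = n20037 := d6_1 D20590 F37858 (iv F36871) (iv D15255) D15254
theorem F39065 : act 5 n20590 = n16551 := d13_2 F26558 D20590 (iv D16551)
theorem F39066 : act 6 n20590 = n20480 := d14_2 (iv F26559) D20590 F38869
def n20591 : Q := act 2 n15257
theorem D20591 : act 2 n15257 = n20591 := rfl
theorem F39067 : act 1 n20591 = n15793 := d6_1 D20591 (iv D15793) D15792 F39062 F39059
theorem F39068 : act 4 n20591 = n15806 := d12_2 F35314 D20591 F37545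
theorem F39069 : act 6 n20591 = n19896 := d14_2 (iv F35315) D20591 F37566
def n20592 : Q := act 1 n15259
theorem D20592 : act 1 n15259 = n20592 := rfl
theorem F39070 : act 0 n20592 = n20592 := d0_1 D20592 (iv D20592) (iv D15259) (iv D11679) (iv F18042) F18043 F18042 D11679 D15259
theorem F39071 : act 3 n20592 = n16568 := d7_2 (iv F28851) D20592 (iv D16568)
theorem F39072 : act 4 n20592 = n15938 := d8_2 (iv F28852) D20592 (iv D15938)
theorem F39073 : act 5 n20592 = n20592 := d9_2 (iv F28853) D20592 (iv D20592) F28853 F21253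
theorem F39074 : act 6 n20592 = n16667 := d10_2 F34329 D20592 F29446 (iv F26577) (iv F34327)
def n20593 : Q := act 2 n15263
theorem D20593 : act 2 n15263 = n20593 := rfl
theorem F39075 : act 0 n20593 = n20377 := d1_1 D20593 (iv F38671) F29686
theorem F39076 : act 1 n20593 = n15931 := d6_1 D20593 (iv D15931) (iv D12036) (iv F21245) (iv F29155)
theorem F39077 : act 4 n20593 = n16543 := d12_2 (iv F29156) D20593 (iv D16543)
theorem F39078 : act 5 n20593 = n19110 := d13_2 F36607 D20593 F36608
def n20594 : Q := act 6 n15263
theorem D20594 : act 6 n15263 = n20594 := rfl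
theorem F39079 : act 3 n20594 = n15264 := d17_1 D20594 (iv D15264) D15263
theorem F39080 : act 4 n20594 = n16544 := d19_1 D20594 (iv D16544) (iv F29156)
theorem F39081 : act 5 n15944 = n20594 := d18_0 F39080 (iv F28724) (iv F27570)
def n20595 : Q := act 5 n15264
theorem D20595 : act 5 n15264 = n20595 := rfl
theorem F39082 : act 0 n20595 = n20502 := d4_1 D20595 F38922 F29689
theorem F39083 : act 1 n20595 = n15939 := d9_1 D20595 (iv F34233) F26642 D15302 (iv F35160)
theorem F39084 : act 2 n20595 = n15268 := d13_1 D20595 (iv D15268) (iv F26572)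
theorem F39085 : act 3 n20595 = n15944 := d16_1 D20595 F39081 F39079
theorem F39086 : act 4 n20595 = n15266 := d18_1 D20595 (iv D15266) (iv F26573)
theorem F39087 : act 6 n20595 = n16668 := d20_2 D15264 D20595 F29450 D16835 (iv F38922) (iv D20502) F26468
def n20596 : Q := act 0 n15267
theorem D20596 : act 0 n15267 = n20596 := rfl
theorem F39088 : act 4 n20596 = n15269 := d3_2 (iv F26578) D20596 (iv D15269)
theorem F39089 : act 6 n20596 = n15363 := d5_2 (iv F26579) D20596 (iv D15363)
def n20597 : Q := act 1 n15268
theorem D20597 : act 1 n15268 = n20597 := rfl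
theorem F39090 : act 2 n20597 = n18362 := d6_2 F39084 D20597 (iv D18362) (iv F27554) (iv F39083)
theorem F39091 : act 4 n20597 = n15272 := d8_2 (iv F26581) D20597 (iv D15272)
def n20598 : Q := act 1 n15269
theorem D20598 : act 1 n15269 = n20598 := rfl
theorem F39092 : act 3 n20598 = n15273 := d7_2 (iv F26583) D20598 (iv D15273)
theorem F39093 : act 2 n19118 = n20598 := d23_1 D19118 (iv D20598) (iv D15269) (iv F35142) (iv D11776) (iv D9652) (iv F14387) (iv D9644) (iv F7205) (iv F14580) (iv F20931) D15548 F27003 D15558 F35057 (iv D18568) D18567 (iv F35617) (iv D19116)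
theorem F39094 : act 5 n20598 = n19117 := d13_2 D19118 F39093 (iv D19117)
def n20599 : Q := act 0 n15272
theorem D20599 : act 0 n15272 = n20599 := rfl
theorem F39095 : act 3 n20599 = n15275 := d2_2 (iv F26587) D20599 (iv D15275)
def n20600 : Q := act 6 n15272
theorem D20600 : act 6 n15272 = n20600 := rfl
theorem F39096 : act 1 n20600 = n20500 := d10_1 D20600 (iv D20500) F26461 (iv F20699) D15272
theorem F39097 : act 3 n20600 = n15277 := d17_1 D20600 (iv D15277) (iv F26587)
def n20601 : Q := act 0 n15273
theorem D20601 : act 0 n15273 = n20601 := rfl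
def n20602 : Q := act 5 n15273
theorem D20602 : act 5 n15273 = n20602 := rfl
theorem F39098 : act 3 n20602 = n19117 := d16_1 D20602 (iv F39094) F39092
theorem F39099 : act 6 n19133 = n20602 := d17_0 F39098 F35620 D19133
def n20603 : Q := act 0 n15274
theorem D20603 : act 0 n15274 = n20603 := rfl
theorem F39100 : act 5 n20603 = n15275 := d4_2 (iv F26588) D20603 (iv D15275)
theorem F39101 : act 1 n16598 = n20603 := d23_2 F22254 D16598 (iv D20603) F26588 D15276 F26589 (iv F26591) (iv F30103) (iv D17141) F26498 (iv F26499) (iv D15216) (iv F26495) (iv F28730) F28729 D16553 F28731 (iv F21838) F22255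
def n20604 : Q := act 2 n15274
theorem D20604 : act 2 n15274 = n20604 := rfl
theorem F39102 : act 5 n20604 = n15276 := d13_2 (iv F26588) D20604 (iv D15276)
def n20605 : Q := act 6 n15274
theorem D20605 : act 6 n15274 = n20605 := rfl
theorem F39103 : act 1 n20605 = n19137 := d10_1 D20605 F35654 F29209 F20773 D15274
theorem F39104 : act 3 n20605 = n19140 := d17_1 D20605 F35660 F35165
def n20606 : Q := act 1 n15275
theorem D20606 : act 1 n15275 = n20606 := rfl
theorem F39105 : act 5 n20606 = n17125 := d9_2 F39100 D20606 F30083 (iv F29322) F39101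
theorem F39106 : act 2 n17126 = n20606 := d13_3 F39105 (iv D17125) D17126
def n20607 : Q := act 2 n15275
theorem D20607 : act 2 n15275 = n20607 := rfl
theorem F39107 : act 0 n20607 = n15276 := d1_1 D20607 (iv D15276) D15275
def n20608 : Q := act 6 n15275
theorem D20608 : act 6 n15275 = n20608 := rfl
theorem F39108 : act 0 n20608 = n15277 := d5_1 D20608 (iv D15277) D15275
theorem F39109 : act 5 n20608 = n20605 := d22_2 F39100 D20608 (iv D20605) D20603
def n20609 : Q := act 3 n15276
theorem D20609 : act 3 n15276 = n20609 := rfl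
theorem F39110 : act 1 n20609 = n15279 := d7_1 D20609 (iv D15279) (iv F26589)
def n20610 : Q := act 6 n15276
theorem D20610 : act 6 n15276 = n20610 := rfl
theorem F39111 : act 2 n20610 = n15277 := d14_1 D20610 (iv D15277) D15276
def n20611 : Q := act 5 n15277
theorem D20611 : act 5 n15277 = n20611 := rfl
theorem F39112 : act 0 n20611 = n20605 := d4_1 D20611 (iv F39109) F39108
theorem F39113 : act 6 n20611 = n20603 := d20_2 D15277 D20611 F39100 D20608 F39109 (iv D20605) F26588
def n20612 : Q := act 1 n15278
theorem D20612 : act 1 n15278 = n20612 := rfl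
theorem F39114 : act 2 n20612 = n16652 := d6_2 D15278 D20612 (iv D16652) F21870 (iv F22082)
theorem F39115 : act 5 n17059 = n20612 := d13_0 F39114 F34854 D17059
def n20613 : Q := act 3 n15278
theorem D20613 : act 3 n15278 = n20613 := rfl
theorem F39116 : act 0 n20613 = n15279 := d2_1 D20613 (iv D15279) (iv F26591)
def n20614 : Q := act 2 n15279
theorem D20614 : act 2 n15279 = n20614 := rfl
def n20615 : Q := act 4 n15279
theorem D20615 : act 4 n15279 = n20615 := rfl
def n20616 : Q := act 6 n15279
theorem D20616 : act 6 n15279 = n20616 := rfl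
theorem F39117 : act 3 n20616 = n15280 := d17_1 D20616 (iv D15280) D15279
def n20617 : Q := act 1 n15280
theorem D20617 : act 1 n15280 = n20617 := rfl
theorem F39118 : act 2 n20617 = n20494 := d6_2 (iv F26592) D20617 (iv D20494) F26452 (iv F20702)
def n20618 : Q := act 5 n15280
theorem D20618 : act 5 n15280 = n20618 := rfl
theorem F39119 : act 0 n20618 = n17143 := d4_1 D20618 F30106 F29494
theorem F39120 : act 2 n20618 = n15281 := d13_1 D20618 (iv D15281) (iv F26592)
theorem F39121 : act 6 n20618 = n17141 := d20_2 D15280 D20618 F30103 (iv F29495) (iv F30106) (iv D17143) F22290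
def n20619 : Q := act 1 n15285
theorem D20619 : act 1 n15285 = n20619 := rfl
theorem F39122 : act 3 n20619 = n15287 := d7_2 (iv F26607) D20619 (iv D15287)
theorem F39123 : act 5 n20619 = n15289 := d9_2 D15285 D20619 (iv D15289) (iv D11706) (iv F20719)
theorem F39124 : act 0 n20009 = n20619 := d2_3 F39122 F26617 D20009
def n20620 : Q := act 6 n15287
theorem D20620 : act 6 n15287 = n20620 := rfl
theorem F39125 : act 0 n20620 = n20010 := d5_1 D20620 (iv D20010) (iv F26617)
theorem F39126 : act 2 n20620 = n19948 := d14_1 D20620 F37697 F26618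
def n20621 : Q := act 1 n15288
theorem D20621 : act 1 n15288 = n20621 := rfl
theorem F39127 : act 4 n20621 = n15289 := d8_2 (iv F26613) D20621 (iv D15289)
def n20622 : Q := act 0 n15289
theorem D20622 : act 0 n15289 = n20622 := rfl
theorem F39128 : act 3 n20622 = n15290 := d2_2 (iv F26615) D20622 (iv D15290)
theorem F39129 : act 5 n20622 = n20009 := d4_2 F39123 D20622 F39124
def n20623 : Q := act 2 n15289
theorem D20623 : act 2 n15289 = n20623 := rfl
def n20624 : Q := act 6 n15289
theorem D20624 : act 6 n15289 = n20624 := rfl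
theorem F39130 : act 1 n20624 = n20552 := d10_1 D20624 (iv D20552) (iv D15226) (iv F20724) D15289
theorem F39131 : act 3 n20624 = n15292 := d17_1 D20624 (iv D15292) (iv F26615)
def n20625 : Q := act 1 n15290
theorem D20625 : act 1 n15290 = n20625 := rfl
theorem F39132 : act 2 n20625 = n20002 := d6_2 F26619 D20625 (iv D20002) F25718 D14774
def n20626 : Q := act 6 n15290
theorem D20626 : act 6 n15290 = n20626 := rfl
theorem F39133 : act 0 n20626 = n15292 := d5_1 D20626 (iv D15292) D15290
theorem F39134 : act 2 n20626 = n20003 := d14_1 D20626 (iv D20003) F26619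
theorem F39135 : act 5 n20626 = n20620 := d20_1 D20626 (iv D20620) F26611 D15292 (iv F37807) (iv D20010) (iv F26616)
def n20627 : Q := act 3 n15291
theorem D20627 : act 3 n15291 = n20627 := rfl
theorem F39136 : act 0 n20627 = n19366 := d2_1 D20627 F36202 (iv F26628)
theorem F39137 : act 1 n20627 = n15295 := d7_1 D20627 (iv D15295) (iv F26629)
theorem F39138 : act 4 n20627 = n15675 := d15_2 F38608 D20627 (iv F37576) (iv F37336) F38610
theorem F39139 : act 5 n20627 = n19926 := d16_2 (iv F26630) D20627 F37647
theorem F39140 : act 2 n15664 = n20627 := d13_3 F39139 F37646 F36528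
def n20628 : Q := act 2 n15293
theorem D20628 : act 2 n15293 = n20628 := rfl
theorem F39141 : act 0 n20628 = n16550 := d1_1 D20628 F28728 (iv F26632)
theorem F39142 : act 1 n20628 = n19982 := d6_1 D20628 F37759 F26638 (iv D15294) D15293
theorem F39143 : act 5 n20628 = n20478 := d13_2 F26635 D20628 F38864
theorem F39144 : act 6 n20628 = n16548 := d14_2 (iv F26634) D20628 (iv D16548)
def n20629 : Q := act 2 n15295
theorem D20629 : act 2 n15295 = n20629 := rfl
theorem F39145 : act 1 n20629 = n15665 := d6_1 D20629 (iv D15665) D15664 F39140 F39137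
theorem F39146 : act 4 n20629 = n15678 := d12_2 F35302 D20629 F37577
theorem F39147 : act 5 n20629 = n19905 := d13_2 (iv F35303) D20629 F37598
def n20630 : Q := act 1 n15297
theorem D20630 : act 1 n15297 = n20630 := rfl
theorem F39148 : act 0 n20630 = n20630 := d0_1 D20630 (iv D20630) (iv D15297) (iv D11711) (iv F18092) F18093 F18092 D11711 D15297
theorem F39149 : act 3 n20630 = n16570 := d7_2 F34371 D20630 (iv D16570)
theorem F39150 : act 4 n20630 = n15940 := d8_2 (iv F34319) D20630 (iv D15940)
theorem F39151 : act 5 n20630 = n16733 := d9_2 (iv F34320) D20630 F29530 (iv F26651) F35137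
theorem F39152 : act 6 n20630 = n20630 := d10_2 (iv F34321) D20630 (iv D20630) F34321 F21253
def n20631 : Q := act 2 n15301
theorem D20631 : act 2 n15301 = n20631 := rfl
theorem F39153 : act 0 n20631 = n20413 := d1_1 D20631 (iv F38735) F29963
theorem F39154 : act 1 n20631 = n15934 := d6_1 D20631 (iv D15934) (iv D12037) (iv F21248) (iv F34463)
theorem F39155 : act 4 n20631 = n16546 := d12_2 (iv F34464) D20631 (iv D16546)
theorem F39156 : act 6 n20631 = n19179 := d14_2 F36611 D20631 F36612
def n20632 : Q := act 5 n15301
theorem D20632 : act 5 n15301 = n20632 := rfl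
theorem F39157 : act 1 n20632 = n20594 := d9_1 D20632 (iv F39081) (iv D15944) F21264 (iv F34463)
theorem F39158 : act 3 n20632 = n15302 := d16_1 D20632 (iv D15302) D15301
theorem F39159 : act 4 n20632 = n16547 := d18_1 D20632 (iv D16547) (iv F34464)
theorem F39160 : act 6 n15948 = n20632 := d24_0 (iv D20632) F34463 (iv D12035) D12034 (iv F29155) D20594 (iv F39081) (iv D15944) (iv D12042) (iv D9948) F7816 D9949 D12044 D15948
def n20633 : Q := act 6 n15302
theorem D20633 : act 6 n15302 = n20633 := rfl
theorem F39161 : act 0 n20633 = n20548 := d5_1 D20633 F39001 F29966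
theorem F39162 : act 1 n20633 = n15941 := d10_1 D20633 (iv F28863) F26568 D15264 F35160
theorem F39163 : act 2 n20633 = n15306 := d14_1 D20633 (iv D15306) (iv F26646)
theorem F39164 : act 3 n20633 = n15948 := d17_1 D20633 F39160 F39158
theorem F39165 : act 4 n20633 = n15304 := d19_1 D20633 (iv D15304) (iv F26647)
theorem F39166 : act 5 n20633 = n16736 := d20_1 D20633 F29538 D17026 (iv F39001) (iv D20548) F26508 D15302
def n20634 : Q := act 0 n15305
theorem D20634 : act 0 n15305 = n20634 := rfl
theorem F39167 : act 2 n20634 = n20596 := d1_2 (iv F35159) D20634 (iv D20596)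
theorem F39168 : act 4 n20634 = n15307 := d3_2 (iv F26652) D20634 (iv D15307)
theorem F39169 : act 5 n20634 = n15421 := d4_2 (iv F26653) D20634 (iv D15421)
def n20635 : Q := act 1 n15306
theorem D20635 : act 1 n15306 = n20635 := rfl
theorem F39170 : act 2 n20635 = n18366 := d6_2 F39163 D20635 (iv D18366) (iv F27560) (iv F39162)
theorem F39171 : act 4 n20635 = n15310 := d8_2 (iv F26655) D20635 (iv D15310)
def n20636 : Q := act 1 n15307
theorem D20636 : act 1 n15307 = n20636 := rfl
theorem F39172 : act 2 n20636 = n19186 := d6_2 F35164 D20636 F35768 F39093 (iv D20598)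
theorem F39173 : act 3 n20636 = n15311 := d7_2 (iv F26657) D20636 (iv D15311)
theorem F39174 : act 6 n19185 = n20636 := d14_0 F39172 (iv D19186) D19185
def n20637 : Q := act 0 n15310
theorem D20637 : act 0 n15310 = n20637 := rfl
theorem F39175 : act 3 n20637 = n15313 := d2_2 (iv F26661) D20637 (iv D15313)
def n20638 : Q := act 5 n15310
theorem D20638 : act 5 n15310 = n20638 := rfl
theorem F39176 : act 1 n20638 = n20546 := d9_1 D20638 (iv D20546) F26503 (iv F20737) D15310
theorem F39177 : act 3 n20638 = n15315 := d16_1 D20638 (iv D15315) (iv F26661)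
def n20639 : Q := act 0 n15311
theorem D20639 : act 0 n15311 = n20639 := rfl
def n20640 : Q := act 6 n15311
theorem D20640 : act 6 n15311 = n20640 := rfl
theorem F39178 : act 3 n20640 = n19185 := d17_1 D20640 F39174 F39173
theorem F39179 : act 5 n19200 = n20640 := d16_0 F39178 F35766 D19200
def n20641 : Q := act 0 n15312
theorem D20641 : act 0 n15312 = n20641 := rfl
theorem F39180 : act 6 n20641 = n15313 := d5_2 (iv F26662) D20641 (iv D15313)
def n20642 : Q := act 2 n15312
theorem D20642 : act 2 n15312 = n20642 := rfl
theorem F39181 : act 6 n20642 = n15314 := d14_2 (iv F26662) D20642 (iv D15314)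
def n20643 : Q := act 5 n15312
theorem D20643 : act 5 n15312 = n20643 := rfl
theorem F39182 : act 1 n20643 = n19204 := d9_1 D20643 F35803 F35244 F20806 D15312
theorem F39183 : act 3 n20643 = n19207 := d16_1 D20643 F35809 F35155
def n20644 : Q := act 1 n15313
theorem D20644 : act 1 n15313 = n20644 := rfl
def n20645 : Q := act 2 n15313
theorem D20645 : act 2 n15313 = n20645 := rfl
theorem F39184 : act 0 n20645 = n15314 := d1_1 D20645 (iv D15314) D15313
def n20646 : Q := act 5 n15313
theorem D20646 : act 5 n15313 = n20646 := rfl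
theorem F39185 : act 0 n20646 = n15315 := d4_1 D20646 (iv D15315) D15313
theorem F39186 : act 6 n20646 = n20643 := d22_1 D20646 (iv D20643) F26662 D15313
def n20647 : Q := act 3 n15314
theorem D20647 : act 3 n15314 = n20647 := rfl
theorem F39187 : act 1 n20647 = n15317 := d7_1 D20647 (iv D15317) (iv F26663)
def n20648 : Q := act 5 n15314
theorem D20648 : act 5 n15314 = n20648 := rfl
theorem F39188 : act 2 n20648 = n15315 := d13_1 D20648 (iv D15315) D15314
def n20649 : Q := act 6 n15315
theorem D20649 : act 6 n15315 = n20649 := rfl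
theorem F39189 : act 0 n20649 = n20643 := d5_1 D20649 (iv F39186) F39185
theorem F39190 : act 5 n20649 = n20641 := d20_1 D20649 F39180 D20646 F39186 (iv D20643) F26662 D15315
def n20650 : Q := act 1 n15316
theorem D20650 : act 1 n15316 = n20650 := rfl
theorem F39191 : act 2 n20650 = n16628 := d6_2 D15316 D20650 (iv D16628) F21859 (iv F22128)
theorem F39192 : act 6 n16863 = n20650 := d14_0 F39191 F29377 D16863
def n20651 : Q := act 3 n15316
theorem D20651 : act 3 n15316 = n20651 := rfl
theorem F39193 : act 0 n20651 = n15317 := d2_1 D20651 (iv D15317) (iv F26665)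
def n20652 : Q := act 2 n15317
theorem D20652 : act 2 n15317 = n20652 := rfl
def n20653 : Q := act 4 n15317
theorem D20653 : act 4 n15317 = n20653 := rfl
def n20654 : Q := act 5 n15317
theorem D20654 : act 5 n15317 = n20654 := rfl
theorem F39194 : act 3 n20654 = n15318 := d16_1 D20654 (iv D15318) D15317
def n20655 : Q := act 1 n15318
theorem D20655 : act 1 n15318 = n20655 := rfl
theorem F39195 : act 2 n20655 = n20539 := d6_2 (iv F26666) D20655 (iv D20539) F26494 (iv F20740)
def n20656 : Q := act 6 n15318
theorem D20656 : act 6 n15318 = n20656 := rfl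
theorem F39196 : act 0 n20656 = n16952 := d5_1 D20656 F29859 F29592
theorem F39197 : act 2 n20656 = n15319 := d14_1 D20656 (iv D15319) (iv F26666)
theorem F39198 : act 5 n20656 = n16950 := d20_1 D20656 F29856 (iv F29593) (iv F29859) (iv D16952) F22124 D15318
def n20657 : Q := act 1 n15322
theorem D20657 : act 1 n15322 = n20657 := rfl
theorem F39199 : act 3 n20657 = n19245 := d7_2 F29014 D20657 (iv D19245)
theorem F39200 : act 6 n20657 = n15328 := d10_2 D15322 D20657 (iv D15328) (iv D11726) D11723
def n20658 : Q := act 4 n15323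
theorem D20658 : act 4 n15323 = n20658 := rfl
theorem F39201 : act 0 n20658 = n15329 := d3_1 D20658 (iv D15329) (iv F26677)
theorem F39202 : act 1 n20658 = n18359 := d8_1 D20658 F32196 F27109
theorem F39203 : act 2 n20658 = n15324 := d12_1 D20658 (iv D15324) D15323
theorem F39204 : act 3 n20658 = n18367 := d15_1 D20658 F32214 F28923 F29181 F26850
def n20659 : Q := act 6 n15323
theorem D20659 : act 6 n15323 = n20659 := rfl
theorem F39205 : act 0 n20659 = n15331 := d5_1 D20659 (iv D15331) (iv F26677)
theorem F39206 : act 2 n20659 = n15326 := d14_1 D20659 (iv D15326) D15323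
theorem F39207 : act 5 n20659 = n18493 := d22_2 F33091 D20659 (iv D18493) D18492
def n20660 : Q := act 5 n15324
theorem D20660 : act 5 n15324 = n20660 := rfl
theorem F39208 : act 0 n20660 = n15332 := d4_1 D20660 (iv D15332) (iv F26678)
theorem F39209 : act 4 n20660 = n15325 := d18_1 D20660 (iv D15325) D15324
def n20661 : Q := act 6 n15324
theorem D20661 : act 6 n15324 = n20661 := rfl
theorem F39210 : act 0 n20661 = n15333 := d5_1 D20661 (iv D15333) (iv F26678)
theorem F39211 : act 4 n20661 = n15326 := d19_1 D20661 (iv D15326) D15324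
def n20662 : Q := act 1 n15326
theorem D20662 : act 1 n15326 = n20662 := rfl
theorem F39212 : act 3 n20662 = n15328 := d7_2 (iv F26682) D20662 (iv D15328)
theorem F39213 : act 6 n20662 = n19245 := d10_2 D15326 D20662 (iv D19245) F24505 F28994
def n20663 : Q := act 6 n15327
theorem D20663 : act 6 n15327 = n20663 := rfl
theorem F39214 : act 2 n20663 = n16837 := d14_1 D20663 (iv D16837) F29152
theorem F39215 : act 3 n20663 = n19114 := d17_1 D20663 F35609 F35589
theorem F39216 : act 5 n20663 = n19111 := d22_2 (iv F35575) D20663 (iv D19111) (iv F35572)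
def n20664 : Q := act 0 n15328
theorem D20664 : act 0 n15328 = n20664 := rfl
def n20665 : Q := act 2 n15328
theorem D20665 : act 2 n15328 = n20665 := rfl
def n20666 : Q := act 5 n15328
theorem D20666 : act 5 n15328 = n20666 := rfl
def n20667 : Q := act 3 n15329
theorem D20667 : act 3 n15329 = n20667 := rfl
theorem F39218 : act 0 n20667 = n18367 := d2_1 D20667 (iv F39204) F39201
theorem F39219 : act 4 n20667 = n18492 := d15_2 D15329 D20667 F33090 (iv D15465) F20847
theorem F39220 : act 5 n20667 = n20658 := d16_2 F32215 D20667 F39204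
theorem F39221 : act 2 n20660 = n20667 := d13_3 F39220 F39203 D20660
def n20668 : Q := act 6 n15329
theorem D20668 : act 6 n15329 = n20668 := rfl
theorem F39222 : act 2 n20668 = n15333 := d14_1 D20668 (iv D15333) (iv F26683)
theorem F39223 : act 4 n20668 = n15331 := d19_1 D20668 (iv D15331) D15329
def n20669 : Q := act 5 n15331
theorem D20669 : act 5 n15331 = n20669 := rfl
theorem F39224 : act 0 n20669 = n18493 := d4_1 D20669 (iv F39207) F39205
theorem F39225 : act 1 n20669 = n20093 := d9_1 D20669 (iv D20093) F35068 D19051 F34164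
theorem F39226 : act 2 n20669 = n15336 := d13_1 D20669 (iv D15336) (iv F26685)
theorem F39227 : act 3 n20669 = n20094 := d16_1 D20669 F37984 F26857
theorem F39228 : act 6 n20669 = n18492 := d20_2 D15331 D20669 F33091 D20659 F39207 (iv D18493) F28924
def n20670 : Q := act 6 n15332
theorem D20670 : act 6 n15332 = n20670 := rfl
theorem F39229 : act 4 n20670 = n15334 := d19_1 D20670 (iv D15334) (iv F26686)
theorem F39230 : act 5 n20670 = n20661 := d22_2 D15332 D20670 (iv D20661) F26678
def n20671 : Q := act 1 n15333
theorem D20671 : act 1 n15333 = n20671 := rfl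
theorem F39231 : act 4 n20671 = n15335 := d8_2 (iv F26687) D20671 (iv D15335)
theorem F39232 : act 6 n20671 = n15341 := d10_2 D15333 D20671 (iv D15341) (iv D11734) (iv F20749)
def n20672 : Q := act 5 n15333
theorem D20672 : act 5 n15333 = n20672 := rfl
theorem F39233 : act 0 n20672 = n20670 := d4_1 D20672 F39230 F39210
theorem F39234 : act 4 n20672 = n15336 := d18_1 D20672 (iv D15336) (iv F26687)
theorem F39235 : act 6 n20672 = n20660 := d20_2 D15333 D20672 (iv D20660) D20661 (iv F39230) (iv D20670) (iv D15332)
def n20673 : Q := act 1 n15334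
theorem D20673 : act 1 n15334 = n20673 := rfl
theorem F39236 : act 3 n20673 = n15337 := d7_2 (iv F26688) D20673 (iv D15337)
def n20674 : Q := act 0 n15335
theorem D20674 : act 0 n15335 = n20674 := rfl
theorem F39237 : act 2 n20674 = n19166 := d1_2 F35506 D20674 F35710
theorem F39238 : act 3 n20674 = n15338 := d2_2 (iv F26690) D20674 (iv D15338)
theorem F39239 : act 6 n20674 = n15342 := d5_2 (iv F26691) D20674 (iv D15342)
theorem F39240 : act 5 n20674 = n19165 := d22_0 (iv D19165) F33246 (iv F26691) D20674
def n20675 : Q := act 5 n15335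
theorem D20675 : act 5 n15335 = n20675 := rfl
theorem F39241 : act 0 n20675 = n19165 := d4_1 D20675 (iv F39240) (iv D20674)
theorem F39242 : act 2 n20675 = n19164 := d13_1 D20675 F35701 F35506
theorem F39243 : act 3 n20675 = n15339 := d16_1 D20675 (iv D15339) (iv F26690)
theorem F39244 : act 6 n20675 = n18640 := d20_2 (iv F26691) D20675 (iv F34134) (iv F39239) F39240 (iv D19165) F33246
def n20676 : Q := act 1 n15336
theorem D20676 : act 1 n15336 = n20676 := rfl
theorem F39245 : act 3 n20676 = n15340 := d7_2 (iv F26693) D20676 (iv D15340)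
def n20677 : Q := act 0 n15337
theorem D20677 : act 0 n15337 = n20677 := rfl
def n20678 : Q := act 2 n15337
theorem D20678 : act 2 n15337 = n20678 := rfl
def n20679 : Q := act 5 n15337
theorem D20679 : act 5 n15337 = n20679 := rfl
theorem F39247 : act 1 n20679 = n20666 := d9_1 D20679 (iv D20666) (iv D15328) (iv F20753) D15337
def n20680 : Q := act 1 n15338
theorem D20680 : act 1 n15338 = n20680 := rfl
def n20681 : Q := act 0 n15340
theorem D20681 : act 0 n15340 = n20681 := rfl
def n20682 : Q := act 6 n15340
theorem D20682 : act 6 n15340 = n20682 := rfl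
theorem F39248 : act 1 n20682 = n20663 := d10_1 D20682 (iv D20663) (iv D15327) (iv F20757) D15340
def n20683 : Q := act 0 n15341
theorem D20683 : act 0 n15341 = n20683 := rfl
theorem F39249 : act 4 n20683 = n15342 := d3_2 (iv F26696) D20683 (iv D15342)
def n20684 : Q := act 1 n15342
theorem D20684 : act 1 n15342 = n20684 := rfl
theorem F39250 : act 3 n20684 = n15345 := d7_2 (iv F26697) D20684 (iv D15345)
def n20685 : Q := act 5 n15345
theorem D20685 : act 5 n15345 = n20685 := rfl
def n20686 : Q := act 6 n15345
theorem D20686 : act 6 n15345 = n20686 := rfl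
def n20687 : Q := act 1 n15347
theorem D20687 : act 1 n15347 = n20687 := rfl
theorem F39251 : act 6 n20687 = n17196 := d10_2 D15347 D20687 (iv D17196) (iv D12745) (iv F20762)
def n20688 : Q := act 2 n15348
theorem D20688 : act 2 n15348 = n20688 := rfl
theorem F39252 : act 4 n20688 = n18360 := d12_2 (iv F29253) D20688 (iv D18360)
theorem F39253 : act 5 n20688 = n18310 := d13_2 (iv F29254) D20688 (iv D18310)
def n20689 : Q := act 6 n15348
theorem D20689 : act 6 n15348 = n20689 := rfl
theorem F39254 : act 3 n20689 = n18478 := d17_1 D20689 (iv D18478) F28873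
theorem F39255 : act 4 n20689 = n18361 := d19_1 D20689 (iv D18361) (iv F29253)
def n20690 : Q := act 0 n15356
theorem D20690 : act 0 n15356 = n20690 := rfl
theorem F39256 : act 2 n20690 = n20637 := d1_2 (iv F35138) D20690 (iv D20637)
theorem F39257 : act 6 n20690 = n15360 := d5_2 (iv F26711) D20690 (iv D15360)
def n20691 : Q := act 5 n15356
theorem D20691 : act 5 n15356 = n20691 := rfl
theorem F39258 : act 2 n20691 = n20638 := d13_1 D20691 (iv D20638) (iv F35138)
def n20692 : Q := act 0 n15359
theorem D20692 : act 0 n15359 = n20692 := rfl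
theorem F39259 : act 1 n20692 = n18429 := d0_2 D15359 D20692 (iv D18429) (iv D13447) (iv F23644) D18424 (iv F33257) (iv D15494) F20870
theorem F39260 : act 4 n20692 = n15360 := d3_2 (iv F26718) D20692 (iv D15360)
def n20693 : Q := act 2 n15359
theorem D20693 : act 2 n15359 = n20693 := rfl
theorem F39261 : act 1 n20693 = n15364 := d6_1 D20693 (iv D15364) (iv D11745) (iv F20764) D15359
theorem F39262 : act 4 n20693 = n15361 := d12_2 (iv F26718) D20693 (iv D15361)
theorem F39263 : act 6 n20693 = n20635 := d14_2 F32213 D20693 F39170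
def n20694 : Q := act 5 n15359
theorem D20694 : act 5 n15359 = n20694 := rfl
theorem F39264 : act 1 n20694 = n17203 := d9_1 D20694 (iv D17203) F22342 (iv F20766) D15359
theorem F39265 : act 4 n20694 = n15362 := d18_1 D20694 (iv D15362) (iv F26718)
def n20695 : Q := act 2 n15360
theorem D20695 : act 2 n15360 = n20695 := rfl
theorem F39266 : act 0 n20695 = n15361 := d1_1 D20695 (iv D15361) D15360
theorem F39267 : act 6 n20695 = n20637 := d14_2 F39257 D20695 (iv F39256)
theorem F39268 : act 3 n20641 = n20695 := d17_3 F39267 F39175 (iv F39180)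
def n20696 : Q := act 5 n15360
theorem D20696 : act 5 n15360 = n20696 := rfl
theorem F39269 : act 0 n20696 = n15362 := d4_1 D20696 (iv D15362) D15360
theorem F39270 : act 1 n20696 = n18625 := d9_1 D20696 (iv D18625) (iv D13585) (iv F23833) F33256
theorem F39271 : act 6 n20696 = n20691 := d22_1 D20696 (iv D20691) F26711 D15360
def n20697 : Q := act 6 n15362
theorem D20697 : act 6 n15362 = n20697 := rfl
theorem F39272 : act 0 n20697 = n20691 := d5_1 D20697 (iv F39271) F39269
theorem F39273 : act 1 n20697 = n18495 := d10_1 D20697 F33094 (iv F33222) (iv D17205) (iv F26720)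
theorem F39274 : act 5 n20697 = n20690 := d20_1 D20697 F39257 D20696 F39271 (iv D20691) F26711 D15362
def n20698 : Q := act 1 n15363
theorem D20698 : act 1 n15363 = n20698 := rfl
theorem F39275 : act 4 n20698 = n15366 := d8_2 (iv F26721) D20698 (iv D15366)
def n20699 : Q := act 2 n15363
theorem D20699 : act 2 n15363 = n20699 := rfl
theorem F39276 : act 0 n20699 = n15364 := d1_1 D20699 (iv D15364) D15363
theorem F39277 : act 4 n20699 = n15367 := d12_2 (iv F26721) D20699 (iv D15367)
theorem F39278 : act 5 n20699 = n15423 := d13_2 (iv F33887) D20699 (iv F35157)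
theorem F39279 : act 6 n20699 = n20634 := d14_2 F39089 D20699 F39167
def n20700 : Q := act 3 n15364
theorem D20700 : act 3 n15364 = n20700 := rfl
theorem F39280 : act 4 n20700 = n20360 := d15_2 (iv F26722) D20700 F38638 F26277 F35146
theorem F39281 : act 6 n20700 = n20356 := d17_2 (iv F35161) D20700 F38628
def n20701 : Q := act 6 n15365
theorem D20701 : act 6 n15365 = n20701 := rfl
theorem F39282 : act 0 n20701 = n15422 := d5_1 D20701 F35156 F33885
theorem F39283 : act 2 n20701 = n15421 := d14_1 D20701 (iv F35239) F35238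
theorem F39284 : act 4 n20701 = n15371 := d19_1 D20701 (iv D15371) (iv F26724)
theorem F39285 : act 5 n20701 = n20596 := d20_1 D20701 F39089 F33887 (iv F35156) (iv F35158) F26579 D15365
def n20702 : Q := act 2 n15366
theorem D20702 : act 2 n15366 = n20702 := rfl
def n20703 : Q := act 6 n15366
theorem D20703 : act 6 n15366 = n20703 := rfl
theorem F39286 : act 3 n20703 = n15375 := d17_1 D20703 (iv D15375) (iv F26725)
def n20704 : Q := act 1 n15367
theorem D20704 : act 1 n15367 = n20704 := rfl
theorem F39287 : act 3 n20704 = n15435 := d7_2 (iv F35143) D20704 (iv D15435)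
theorem F39288 : act 5 n20704 = n17137 := d9_2 (iv F35144) D20704 (iv D17137) (iv D12704) (iv F20802)
def n20705 : Q := act 1 n15371
theorem D20705 : act 1 n15371 = n20705 := rfl
theorem F39289 : act 3 n20705 = n15377 := d7_2 (iv F26732) D20705 (iv D15377)
theorem F39290 : act 6 n20705 = n16946 := d10_2 D15371 D20705 (iv D16946) (iv D12596) (iv F20769)
def n20706 : Q := act 6 n15374
theorem D20706 : act 6 n15374 = n20706 := rfl
theorem F39291 : act 2 n20706 = n19249 := d14_1 D20706 F35895 (iv F29205)
theorem F39292 : act 5 n20706 = n19983 := d22_2 D15374 D20706 (iv D19983) F29204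
def n20707 : Q := act 5 n15375
theorem D20707 : act 5 n15375 = n20707 := rfl
theorem F39293 : act 0 n20707 = n20706 := d4_1 D20707 F39292 F37760
theorem F39294 : act 2 n20707 = n19827 := d13_1 D20707 F37428 F35198
theorem F39295 : act 6 n20707 = n19982 := d20_2 D15375 D20707 (iv D19982) D19983 (iv F39292) (iv D20706) (iv D15374)
theorem F39296 : act 1 n20707 = n20493 := d24_2 D15375 D20707 (iv D20493) (iv D15180) D15178 D20490 F38893 (iv F26590) (iv D15277) (iv F26588) (iv D15274) (iv F20773) (iv D11750) D11749
def n20708 : Q := act 0 n15377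
theorem D20708 : act 0 n15377 = n20708 := rfl
theorem F39297 : act 1 n20708 = n19111 := d0_2 D15377 D20708 F35602 F29277 (iv F29321) F39101 (iv D20603) (iv D15274) (iv F20774)
theorem F39298 : act 6 n20708 = n16947 := d5_2 (iv F26734) D20708 (iv D16947)
theorem F39299 : act 1 n16947 = n19582 := d10_1 F39298 (iv D19582) (iv F29144) D19111 (iv F39297)
theorem F39300 : act 3 n19113 = n20708 := d7_0 F39297 F35604 D19113
theorem F39301 : act 0 n20705 = n19113 := d2_3 F39300 (iv D20708) (iv F39289)
def n20709 : Q := act 2 n15377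
theorem D20709 : act 2 n15377 = n20709 := rfl
theorem F39302 : act 1 n20709 = n20642 := d6_1 D20709 (iv D20642) (iv D15312) (iv F20775) D15377
theorem F39303 : act 6 n20709 = n16948 := d14_2 (iv F26734) D20709 (iv D16948)
def n20710 : Q := act 5 n15377
theorem D20710 : act 5 n15377 = n20710 := rfl
theorem F39304 : act 1 n20710 = n20602 := d9_1 D20710 (iv D20602) (iv D15273) (iv F20776) D15377
def n20711 : Q := act 1 n15379
theorem D20711 : act 1 n15379 = n20711 := rfl
theorem F39305 : act 3 n20711 = n19301 := d7_2 (iv F35267) D20711 (iv D19301)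
theorem F39306 : act 5 n20711 = n15385 := d9_2 D15379 D20711 (iv D15385) (iv D11754) D11752
def n20712 : Q := act 4 n15381
theorem D20712 : act 4 n15381 = n20712 := rfl
theorem F39307 : act 0 n20712 = n15387 := d3_1 D20712 (iv D15387) (iv F26741)
theorem F39308 : act 1 n20712 = n18363 := d8_1 D20712 F35490 F27267
theorem F39309 : act 2 n20712 = n15382 := d12_1 D20712 (iv D15382) D15381
theorem F39310 : act 3 n20712 = n18375 := d15_1 D20712 F32232 (iv F34430) (iv F35436) F26991
def n20713 : Q := act 5 n15381
theorem D20713 : act 5 n15381 = n20713 := rfl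
theorem F39311 : act 0 n20713 = n15388 := d4_1 D20713 (iv D15388) (iv F26741)
theorem F39312 : act 2 n20713 = n15383 := d13_1 D20713 (iv D15383) D15381
theorem F39313 : act 6 n20713 = n18506 := d22_1 D20713 (iv D18506) F34349 (iv F26741)
def n20714 : Q := act 5 n15382
theorem D20714 : act 5 n15382 = n20714 := rfl
theorem F39314 : act 0 n20714 = n15390 := d4_1 D20714 (iv D15390) (iv F26742)
theorem F39315 : act 4 n20714 = n15383 := d18_1 D20714 (iv D15383) D15382
def n20715 : Q := act 6 n15382
theorem D20715 : act 6 n15382 = n20715 := rfl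
theorem F39316 : act 0 n20715 = n15391 := d5_1 D20715 (iv D15391) (iv F26742)
theorem F39317 : act 4 n20715 = n15384 := d19_1 D20715 (iv D15384) D15382
def n20716 : Q := act 1 n15383
theorem D20716 : act 1 n15383 = n20716 := rfl
theorem F39318 : act 3 n20716 = n15385 := d7_2 (iv F26744) D20716 (iv D15385)
theorem F39319 : act 5 n20716 = n19301 := d9_2 D15383 D20716 (iv D19301) F24553 F34781
def n20717 : Q := act 0 n15385
theorem D20717 : act 0 n15385 = n20717 := rfl
def n20718 : Q := act 2 n15385
theorem D20718 : act 2 n15385 = n20718 := rfl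
def n20719 : Q := act 6 n15385
theorem D20719 : act 6 n15385 = n20719 := rfl
def n20720 : Q := act 5 n15386
theorem D20720 : act 5 n15386 = n20720 := rfl
theorem F39321 : act 2 n20720 = n17029 := d13_1 D20720 (iv D17029) (iv F35102)
theorem F39322 : act 3 n20720 = n19182 := d16_1 D20720 F35756 F35741
theorem F39323 : act 6 n20720 = n19180 := d22_1 D20720 (iv D19180) (iv F35099) (iv F35101)
def n20721 : Q := act 3 n15387
theorem D20721 : act 3 n15387 = n20721 := rfl
theorem F39324 : act 0 n20721 = n18375 := d2_1 D20721 (iv F39310) F39307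
theorem F39325 : act 4 n20721 = n18504 := d15_2 D15387 D20721 (iv F35438) (iv D15544) F20934
theorem F39326 : act 6 n20721 = n20712 := d17_2 (iv F35356) D20721 F39310
theorem F39327 : act 2 n20715 = n20721 := d14_3 F39326 F39309 D20715
def n20722 : Q := act 5 n15387
theorem D20722 : act 5 n15387 = n20722 := rfl
theorem F39328 : act 2 n20722 = n15390 := d13_1 D20722 (iv D15390) (iv F26747)
theorem F39329 : act 4 n20722 = n15388 := d18_1 D20722 (iv D15388) D15387
def n20723 : Q := act 6 n15388
theorem D20723 : act 6 n15388 = n20723 := rfl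
theorem F39330 : act 0 n20723 = n18506 := d5_1 D20723 (iv F39313) F39311
theorem F39331 : act 1 n20723 = n20076 := d10_1 D20723 (iv D20076) (iv F28936) D19041 F35018
theorem F39332 : act 2 n20723 = n15393 := d14_1 D20723 (iv D15393) (iv F26748)
theorem F39333 : act 3 n20723 = n20077 := d17_1 D20723 F37938 F26997
theorem F39334 : act 5 n20723 = n18504 := d20_1 D20723 F35440 D20713 F39313 (iv D18506) F34349 D15388
def n20724 : Q := act 1 n15390
theorem D20724 : act 1 n15390 = n20724 := rfl
theorem F39335 : act 4 n20724 = n15392 := d8_2 (iv F26750) D20724 (iv D15392)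
theorem F39336 : act 5 n20724 = n15399 := d9_2 D15390 D20724 (iv D15399) (iv D11763) (iv F20782)
def n20725 : Q := act 6 n15390
theorem D20725 : act 6 n15390 = n20725 := rfl
theorem F39337 : act 4 n20725 = n15393 := d19_1 D20725 (iv D15393) (iv F26750)
theorem F39338 : act 5 n20725 = n20715 := d22_2 D15390 D20725 (iv D20715) F26742
def n20726 : Q := act 5 n15391
theorem D20726 : act 5 n15391 = n20726 := rfl
theorem F39339 : act 0 n20726 = n20725 := d4_1 D20726 F39338 F39316
theorem F39340 : act 4 n20726 = n15394 := d18_1 D20726 (iv D15394) (iv F26751)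
theorem F39341 : act 6 n20726 = n20714 := d20_2 D15391 D20726 (iv D20714) D20715 (iv F39338) (iv D20725) (iv D15390)
def n20727 : Q := act 0 n15392
theorem D20727 : act 0 n15392 = n20727 := rfl
theorem F39342 : act 2 n20727 = n19229 := d1_2 (iv F35019) D20727 F35849
theorem F39343 : act 3 n20727 = n15395 := d2_2 (iv F26752) D20727 (iv D15395)
theorem F39344 : act 5 n20727 = n15400 := d4_2 (iv F26753) D20727 (iv D15400)
theorem F39345 : act 6 n19228 = n20727 := d22_3 F26753 (iv F35040) D19228 (iv D20727)
def n20728 : Q := act 6 n15392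
theorem D20728 : act 6 n15392 = n20728 := rfl
theorem F39346 : act 0 n20728 = n19228 := d5_1 D20728 F39345 (iv D20727)
theorem F39347 : act 2 n20728 = n19226 := d14_1 D20728 F35842 (iv F35019)
theorem F39348 : act 3 n20728 = n15396 := d17_1 D20728 (iv D15396) (iv F26752)
theorem F39349 : act 5 n20728 = n18661 := d20_1 D20728 (iv F35043) (iv F39344) (iv F39345) (iv D19228) F35040 (iv F26753)
def n20729 : Q := act 1 n15393
theorem D20729 : act 1 n15393 = n20729 := rfl
theorem F39350 : act 3 n20729 = n15397 := d7_2 (iv F26754) D20729 (iv D15397)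
def n20730 : Q := act 1 n15394
theorem D20730 : act 1 n15394 = n20730 := rfl
theorem F39351 : act 3 n20730 = n15398 := d7_2 (iv F26757) D20730 (iv D15398)
def n20731 : Q := act 1 n15395
theorem D20731 : act 1 n15395 = n20731 := rfl
def n20732 : Q := act 0 n15397
theorem D20732 : act 0 n15397 = n20732 := rfl
def n20733 : Q := act 5 n15397
theorem D20733 : act 5 n15397 = n20733 := rfl
theorem F39352 : act 1 n20733 = n20720 := d9_1 D20733 (iv D20720) (iv D15386) (iv F20787) D15397
def n20734 : Q := act 0 n15398
theorem D20734 : act 0 n15398 = n20734 := rfl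
def n20735 : Q := act 2 n15398
theorem D20735 : act 2 n15398 = n20735 := rfl
def n20736 : Q := act 6 n15398
theorem D20736 : act 6 n15398 = n20736 := rfl
theorem F39354 : act 1 n20736 = n20719 := d10_1 D20736 (iv D20719) (iv D15385) (iv F20790) D15398
def n20737 : Q := act 0 n15399
theorem D20737 : act 0 n15399 = n20737 := rfl
theorem F39355 : act 4 n20737 = n15400 := d3_2 (iv F26760) D20737 (iv D15400)
def n20738 : Q := act 1 n15400
theorem D20738 : act 1 n15400 = n20738 := rfl
theorem F39356 : act 3 n20738 = n15403 := d7_2 (iv F26761) D20738 (iv D15403)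
def n20739 : Q := act 5 n15403
theorem D20739 : act 5 n15403 = n20739 := rfl
def n20740 : Q := act 6 n15403
theorem D20740 : act 6 n15403 = n20740 := rfl
def n20741 : Q := act 1 n15405
theorem D20741 : act 1 n15405 = n20741 := rfl
theorem F39357 : act 5 n20741 = n17289 := d9_2 D15405 D20741 (iv D17289) (iv D12791) (iv F20795)
def n20742 : Q := act 2 n15406
theorem D20742 : act 2 n15406 = n20742 := rfl
theorem F39358 : act 4 n20742 = n18364 := d12_2 (iv F34317) D20742 (iv D18364)
theorem F39359 : act 6 n20742 = n18313 := d14_2 (iv F34318) D20742 (iv D18313)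
def n20743 : Q := act 5 n15406
theorem D20743 : act 5 n15406 = n20743 := rfl
theorem F39360 : act 1 n20743 = n20691 := d9_1 D20743 (iv D20691) (iv D15356) F34323 D15406
theorem F39361 : act 3 n20743 = n18482 := d16_1 D20743 (iv D18482) (iv F34316)
theorem F39362 : act 4 n20743 = n18365 := d18_1 D20743 (iv D18365) (iv F34317)
def n20744 : Q := act 0 n15413
theorem D20744 : act 0 n15413 = n20744 := rfl
theorem F39363 : act 2 n20744 = n20599 := d1_2 (iv F35167) D20744 (iv D20599)
theorem F39364 : act 5 n20744 = n15418 := d4_2 (iv F26774) D20744 (iv D15418)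
def n20745 : Q := act 6 n15413
theorem D20745 : act 6 n15413 = n20745 := rfl
theorem F39365 : act 1 n20745 = n20689 := d10_1 D20745 (iv D20689) (iv D15348) F34331 D15413
theorem F39366 : act 2 n20745 = n20600 := d14_1 D20745 (iv D20600) (iv F35167)
def n20746 : Q := act 0 n15417
theorem D20746 : act 0 n15417 = n20746 := rfl
theorem F39367 : act 1 n20746 = n18408 := d0_2 D15417 D20746 (iv D18408) (iv D13437) (iv F23625) D18403 F35063 (iv D15573) F20957
theorem F39368 : act 4 n20746 = n15418 := d3_2 (iv F26782) D20746 (iv D15418)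
def n20747 : Q := act 2 n15417
theorem D20747 : act 2 n15417 = n20747 := rfl
theorem F39369 : act 1 n20747 = n15422 := d6_1 D20747 (iv D15422) (iv D11774) (iv F20797) D15417
theorem F39370 : act 4 n20747 = n15419 := d12_2 (iv F26782) D20747 (iv D15419)
theorem F39371 : act 5 n20747 = n20597 := d13_2 (iv F35498) D20747 F39090
def n20748 : Q := act 6 n15417
theorem D20748 : act 6 n15417 = n20748 := rfl
theorem F39372 : act 1 n20748 = n17296 := d10_1 D20748 (iv D17296) F22391 (iv F20799) D15417
theorem F39373 : act 4 n20748 = n15420 := d19_1 D20748 (iv D15420) (iv F26782)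
def n20749 : Q := act 2 n15418
theorem D20749 : act 2 n15418 = n20749 := rfl
theorem F39374 : act 0 n20749 = n15419 := d1_1 D20749 (iv D15419) D15418
theorem F39375 : act 5 n20749 = n20599 := d13_2 F39364 D20749 (iv F39363)
theorem F39376 : act 3 n20603 = n20749 := d16_3 F39375 F39095 (iv F39100)
def n20750 : Q := act 6 n15418
theorem D20750 : act 6 n15418 = n20750 := rfl
theorem F39377 : act 0 n20750 = n15420 := d5_1 D20750 (iv D15420) D15418
theorem F39378 : act 1 n20750 = n18585 := d10_1 D20750 (iv D18585) (iv D13562) (iv F23813) (iv F35062)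
theorem F39379 : act 5 n20750 = n20745 := d22_2 F39364 D20750 (iv D20745) D20744
def n20751 : Q := act 5 n15420
theorem D20751 : act 5 n15420 = n20751 := rfl
theorem F39380 : act 0 n20751 = n20745 := d4_1 D20751 (iv F39379) F39377
theorem F39381 : act 1 n20751 = n18514 := d9_1 D20751 F33112 (iv F35066) (iv D17298) (iv F26784)
theorem F39382 : act 6 n20751 = n20744 := d20_2 D15420 D20751 F39364 D20750 F39379 (iv D20745) F26774
def n20752 : Q := act 1 n15421
theorem D20752 : act 1 n15421 = n20752 := rfl
theorem F39383 : act 4 n20752 = n15424 := d8_2 (iv F26785) D20752 (iv D15424)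
def n20753 : Q := act 3 n15422
theorem D20753 : act 3 n15422 = n20753 := rfl
theorem F39384 : act 4 n20753 = n20326 := d15_2 (iv F26786) D20753 F38557 F26220 F35152
theorem F39385 : act 5 n20753 = n20322 := d16_2 F35158 D20753 F38547
def n20754 : Q := act 2 n15424
theorem D20754 : act 2 n15424 = n20754 := rfl
def n20755 : Q := act 5 n15424
theorem D20755 : act 5 n15424 = n20755 := rfl
theorem F39386 : act 3 n20755 = n15432 := d16_1 D20755 (iv D15432) (iv F26789)
def n20756 : Q := act 6 n15432
theorem D20756 : act 6 n15432 = n20756 := rfl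
theorem F39387 : act 2 n20756 = n19826 := d14_1 D20756 F37424 (iv F33401)
theorem F39388 : act 5 n20756 = n20037 := d22_2 D15432 D20756 (iv D20037) F29203
theorem F39389 : act 1 n20541 = n20756 := d24_14 (iv D20756) (iv D15432) (iv D11778) D11779 F20806 D15312 F26662 D15315 F26664 (iv F38972) (iv D20536) (iv D15211) D15214 D20541
def n20757 : Q := act 5 n15433
theorem D20757 : act 5 n15433 = n20757 := rfl
theorem F39390 : act 0 n20757 = n20756 := d4_1 D20757 F39388 F37857
theorem F39391 : act 2 n20757 = n19305 := d13_1 D20757 F36028 (iv F35193)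
theorem F39392 : act 6 n20757 = n20036 := d20_2 D15433 D20757 (iv D20036) D20037 (iv F39388) (iv D20756) (iv D15432)
def n20758 : Q := act 0 n15435
theorem D20758 : act 0 n15435 = n20758 := rfl
theorem F39393 : act 5 n20758 = n17138 := d4_2 (iv F26799) D20758 (iv D17138)
theorem F39394 : act 1 n19180 = n20758 := d23_2 (iv F29306) (iv F35753) (iv D20758) F26799 D17139 F30100 (iv F30102) F30103 (iv D15278) F22082 F17987 (iv D10116) D10115 (iv F21819) F29287 D16588 F29284 D16589 (iv F29304)
theorem F39395 : act 1 n20641 = n16610 := d0_6 F39394 (iv D20758) (iv D15435) F20807 D15312 D20641 F29336 (iv F29307) (iv F35752)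
theorem F39396 : act 3 n20758 = n19181 := d7_2 (iv F35754) F39394 (iv D19181)
theorem F39397 : act 1 n17138 = n19583 := d9_3 D19180 F39394 F39393 (iv D19583) F35104
theorem F39398 : act 0 n19181 = n20704 := d2_1 F39396 F39287 D20758
theorem F39399 : act 6 n16931 = n20644 := d10_4 (iv F39180) F39395 F29337 (iv F29831) (iv D20644)
theorem F39400 : act 2 n20644 = n16932 := d14_1 F39399 (iv D16932) D16931
def n20759 : Q := act 2 n15435
theorem D20759 : act 2 n15435 = n20759 := rfl
theorem F39401 : act 1 n20759 = n20604 := d6_1 D20759 (iv D20604) (iv D15274) (iv F20808) D15435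
theorem F39402 : act 5 n20759 = n17139 := d13_2 (iv F26799) D20759 (iv D17139)
def n20760 : Q := act 6 n15435
theorem D20760 : act 6 n15435 = n20760 := rfl
theorem F39403 : act 1 n20760 = n20640 := d10_1 D20760 (iv D20640) (iv D15311) (iv F20809) D15435
def n20761 : Q := act 2 n15437
theorem D20761 : act 2 n15437 = n20761 := rfl
theorem F39404 : act 0 n20761 = n19586 := d1_1 D20761 F36805 F32444
theorem F39405 : act 1 n20761 = n20761 := d6_1 D20761 (iv D20761) F26801 F20813 (iv F26801)
theorem F39406 : act 3 n20761 = n16562 := d11_2 D15437 D20761 F28755 (iv F28851) F26567 (iv F28850) (iv F23719) (iv F32445) (iv F36805) F36806 F29636 F22004 F20691 (iv F14447) (iv F20810)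
theorem F39407 : act 4 n20761 = n19580 := d12_2 F36620 D20761 F36783
theorem F39408 : act 5 n20761 = n16561 := d13_2 F32421 D20761 (iv F32419)
def n20762 : Q := act 6 n15437
theorem D20762 : act 6 n15437 = n20762 := rfl
theorem F39409 : act 3 n20762 = n15440 := d17_1 D20762 (iv D15440) D15437
theorem F39410 : act 5 n20762 = n18470 := d22_2 F32421 D20762 (iv D18470) (iv F32417)
def n20763 : Q := act 0 n15456
theorem D20763 : act 0 n15456 = n20763 := rfl
theorem F39411 : act 3 n20763 = n20690 := d2_2 (iv F26837) D20763 (iv D20690)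
theorem F39412 : act 4 n20763 = n18491 := d3_2 F29249 D20763 (iv D18491)
theorem F39413 : act 6 n20763 = n15458 := d5_2 (iv F26838) D20763 (iv D15458)
def n20764 : Q := act 5 n15456
theorem D20764 : act 5 n15456 = n20764 := rfl
theorem F39414 : act 1 n20764 = n18482 := d9_1 D20764 (iv D18482) (iv D13491) (iv F28865) D15456
theorem F39415 : act 3 n20764 = n20691 := d16_1 D20764 (iv D20691) (iv F26837)
theorem F39416 : act 4 n20764 = n18490 := d18_1 D20764 F33083 F29249
def n20765 : Q := act 5 n15458
theorem D20765 : act 5 n15458 = n20765 := rfl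
theorem F39417 : act 0 n20765 = n15460 := d4_1 D20765 (iv D15460) D15458
theorem F39418 : act 3 n20765 = n20696 := d16_1 D20765 (iv D20696) (iv F26842)
theorem F39419 : act 6 n20765 = n20764 := d22_1 D20765 (iv D20764) F26838 D15458
def n20766 : Q := act 6 n15460
theorem D20766 : act 6 n15460 = n20766 := rfl
theorem F39420 : act 0 n20766 = n20764 := d5_1 D20766 (iv F39419) F39417
theorem F39421 : act 2 n20766 = n19439 := d14_1 D20766 F36394 (iv F33045)
theorem F39422 : act 3 n20766 = n20697 := d17_1 D20766 (iv D20697) (iv F26845)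
theorem F39423 : act 5 n20766 = n20763 := d20_1 D20766 F39413 D20765 F39419 (iv D20764) F26838 D15460
def n20767 : Q := act 6 n15464
theorem D20767 : act 6 n15464 = n20767 := rfl
theorem F39424 : act 0 n20767 = n15467 := d5_1 D20767 (iv D15467) D15464
theorem F39425 : act 2 n20767 = n15467 := d14_1 D20767 (iv D15467) (iv F26851)
theorem F39426 : act 3 n20767 = n20659 := d17_1 D20767 (iv D20659) (iv F26850)
theorem F39427 : act 1 n19838 = n20767 := d6_5 F39425 (iv F35369) F25491 D14592 D19838
def n20768 : Q := act 6 n15466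
theorem D20768 : act 6 n15466 = n20768 := rfl
theorem F39428 : act 0 n20768 = n20094 := d5_1 D20768 F37985 F29179
theorem F39429 : act 2 n20768 = n20094 := d14_1 D20768 F37985 F29180
theorem F39430 : act 3 n20768 = n18493 := d17_1 D20768 (iv D18493) F28923
theorem F39431 : act 4 n20768 = n20767 := d19_1 D20768 (iv D20767) (iv F29181)
theorem F39432 : act 5 n20768 = n20767 := d20_1 D20768 (iv D20767) F29178 (iv F37985) F37984 (iv D15467) D15466
theorem F39433 : act 1 n19835 = n20768 := d9_5 F39432 (iv F39427) F37455 F25497 D19835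
theorem F39434 : act 3 n18581 = n19835 := d7_0 F39433 F39430 (iv F33233)
theorem F39435 : act 6 n18539 = n19835 := d10_0 F39433 (iv D20768) F29182 (iv F23783) D18539
theorem F39436 : act 2 n19836 = n18539 := d14_3 F39435 F37447 D19836
theorem F39437 : act 5 n19842 = n18554 := d24_4 F39435 (iv D19835) (iv F25497) D19842 (iv D18554) (iv D13541) (iv D10768) (iv D7749) (iv D3710) D3709 D7747 D10764 D13531 D18539
theorem F39438 : act 2 n18554 = n19843 := d13_1 F39437 (iv D19843) (iv F37463)
theorem F39439 : act 3 n18622 = n19842 := d16_3 F39437 F33194 D18622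
theorem F39440 : act 6 n19841 = n18622 := d17_0 F39439 (iv D19842) D19841
theorem F39441 : act 5 n18581 = n19834 := d24_13 F39440 (iv D18622) (iv D13584) (iv D10786) (iv D7757) (iv D3713) (iv D1791) D1790 D3711 D7753 D10776 D13561 D18581 (iv F37462)
def n20769 : Q := act 3 n15468
theorem D20769 : act 3 n15468 = n20769 := rfl
theorem F39442 : act 0 n20769 = n15476 := d2_1 D20769 (iv D15476) (iv F26858)
theorem F39443 : act 1 n20769 = n20667 := d7_1 D20769 (iv D20667) (iv F26859)
theorem F39444 : act 4 n20769 = n15471 := d15_2 D15468 D20769 (iv D15471) (iv D11799) D11798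
theorem F39445 : act 5 n20769 = n18383 := d16_2 F29238 D20769 F32249
def n20770 : Q := act 6 n15468
theorem D20770 : act 6 n15468 = n20770 := rfl
theorem F39446 : act 0 n20770 = n15478 := d5_1 D20770 (iv D15478) (iv F26858)
theorem F39447 : act 2 n20770 = n15478 := d14_1 D20770 (iv D15478) (iv F26860)
theorem F39448 : act 4 n20770 = n15470 := d19_1 D20770 (iv D15470) D15468
def n20771 : Q := act 6 n15471
theorem D20771 : act 6 n15471 = n20771 := rfl
theorem F39449 : act 0 n20771 = n15484 := d5_1 D20771 (iv D15484) (iv F26867)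
theorem F39450 : act 1 n20771 = n20099 := d10_1 D20771 F38001 (iv F39225) F39228 F33088
theorem F39451 : act 2 n20771 = n19198 := d14_1 D20771 F35791 F35595
theorem F39452 : act 3 n20771 = n15473 := d17_1 D20771 (iv D15473) D15471
def n20772 : Q := act 2 n15476
theorem D20772 : act 2 n15476 = n20772 := rfl
theorem F39453 : act 1 n20772 = n18175 := d6_1 D20772 F31778 F29032 F25768 (iv F26874)
theorem F39454 : act 4 n20772 = n15482 := d12_2 (iv F26875) D20772 (iv D15482)
theorem F39455 : act 5 n18701 = n20772 := d23_0 (iv D20772) F26874 F20868 (iv F25766) F25768 (iv F26874) (iv F39442) F39445 F32248 (iv D16269) F21523 (iv F21379) (iv D12115) F17743 (iv F21377) F21378 D12206 D16269 (iv F33488)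
def n20773 : Q := act 5 n15476
theorem D20773 : act 5 n15476 = n20773 := rfl
theorem F39456 : act 0 n20773 = n18383 := d4_1 D20773 (iv F39445) F39442
theorem F39457 : act 1 n20773 = n18708 := d9_1 D20773 F33491 (iv F29246) F25817 (iv F26874)
theorem F39458 : act 2 n20773 = n18701 := d13_1 D20773 F39455 (iv D20772)
theorem F39459 : act 3 n20773 = n15477 := d16_1 D20773 (iv D15477) D15476
theorem F39460 : act 4 n20773 = n15483 := d18_1 D20773 (iv D15483) (iv F26875)
def n20774 : Q := act 6 n15476
theorem D20774 : act 6 n15476 = n20774 := rfl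
theorem F39461 : act 3 n20774 = n15478 := d17_1 D20774 (iv D15478) D15476
theorem F39462 : act 4 n20774 = n15484 := d19_1 D20774 (iv D15484) (iv F26875)
def n20775 : Q := act 6 n15477
theorem D20775 : act 6 n15477 = n20775 := rfl
theorem F39463 : act 0 n20775 = n18399 := d5_1 D20775 (iv D18399) (iv F29239)
theorem F39464 : act 2 n20775 = n18399 := d14_1 D20775 (iv D18399) (iv F29240)
theorem F39465 : act 4 n20775 = n15479 := d19_1 D20775 (iv D15479) (iv F26876)
theorem F39466 : act 5 n20775 = n20770 := d20_1 D20775 (iv D20770) (iv F29238) D18399 F32295 (iv D15478) D15477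
def n20776 : Q := act 1 n15478
theorem D20776 : act 1 n15478 = n20776 := rfl
theorem F39467 : act 4 n20776 = n15480 := d8_2 (iv F26877) D20776 (iv D15480)
theorem F39468 : act 6 n20776 = n15494 := d10_2 D15478 D20776 (iv D15494) (iv D11812) (iv F20854)
def n20777 : Q := act 1 n15479
theorem D20777 : act 1 n15479 = n20777 := rfl
theorem F39469 : act 2 n20777 = n19022 := d6_2 F28932 D20777 (iv F34094) F34124 (iv D18561)
theorem F39470 : act 3 n20777 = n15488 := d7_2 (iv F26878) D20777 (iv D15488)
theorem F39471 : act 5 n20777 = n15563 := d9_2 (iv F26879) D20777 F34172 D19032 F34102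
def n20778 : Q := act 6 n15482
theorem D20778 : act 6 n15482 = n20778 := rfl
theorem F39472 : act 0 n20778 = n19198 := d5_1 D20778 F35791 F35594
theorem F39473 : act 1 n20778 = n19214 := d10_1 D20778 (iv F35820) (iv D18230) F23498 (iv F29230)
theorem F39474 : act 2 n20778 = n15484 := d14_1 D20778 (iv D15484) D15482
theorem F39475 : act 3 n20778 = n19019 := d17_1 D20778 (iv D19019) F29229
def n20779 : Q := act 6 n15483
theorem D20779 : act 6 n15483 = n20779 := rfl
theorem F39476 : act 1 n20779 = n15560 := d10_1 D20779 F27026 F34265 (iv D19024) F29226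
theorem F39477 : act 2 n20779 = n19019 := d14_1 D20779 (iv D19019) (iv F29227)
theorem F39478 : act 3 n20779 = n15485 := d17_1 D20779 (iv D15485) (iv F26886)
theorem F39479 : act 5 n20779 = n20771 := d22_2 D15483 D20779 (iv D20771) F26867
def n20780 : Q := act 1 n15484
theorem D20780 : act 1 n15484 = n20780 := rfl
theorem F39480 : act 0 n20780 = n18625 := d0_1 D20780 (iv F39270) F39269 F26720 (iv F30186) (iv F32409) (iv F37998) (iv F39450) F39449
theorem F39481 : act 3 n20780 = n15486 := d7_2 (iv F26887) D20780 (iv D15486)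
theorem F39482 : act 6 n20780 = n15499 := d10_2 D15484 D20780 (iv D15499) (iv D11815) (iv F20857)
theorem F39483 : act 5 n18623 = n20780 := d22_0 F39482 F33315 (iv D18626) D18623
def n20781 : Q := act 5 n15484
theorem D20781 : act 5 n15484 = n20781 := rfl
theorem F39484 : act 0 n20781 = n20779 := d4_1 D20781 F39479 F39449
theorem F39485 : act 3 n20781 = n15487 := d16_1 D20781 (iv D15487) (iv F26887)
theorem F39486 : act 6 n20781 = n15635 := d20_2 D15484 D20781 F29185 D20771 (iv F39479) (iv D20779) (iv D15483)
def n20782 : Q := act 0 n15486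
theorem D20782 : act 0 n15486 = n20782 := rfl
theorem F39487 : act 1 n20782 = n20765 := d0_2 D15486 D20782 F39417 F26844 (iv F30405) (iv F34981) F34503 F35011 F26871
theorem F39488 : act 3 n20782 = n18625 := d2_2 F39481 D20782 (iv F39480)
theorem F39489 : act 4 n20782 = n15489 := d3_2 (iv F26891) D20782 (iv D15489)
theorem F39490 : act 6 n20782 = n15500 := d5_2 (iv F26892) D20782 (iv D15500)
theorem F39491 : act 5 n20782 = n18555 := d22_0 (iv F33202) (iv D15502) (iv F26892) D20782
def n20783 : Q := act 2 n15486
theorem D20783 : act 2 n15486 = n20783 := rfl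
theorem F39492 : act 1 n20783 = n15643 := d6_1 D20783 (iv D15643) (iv D11890) (iv F20860) D15486
theorem F39493 : act 4 n20783 = n15490 := d12_2 (iv F26891) D20783 (iv D15490)
theorem F39494 : act 6 n20783 = n15501 := d14_2 (iv F26892) D20783 (iv D15501)
def n20784 : Q := act 5 n15486
theorem D20784 : act 5 n15486 = n20784 := rfl
theorem F39495 : act 0 n20784 = n18555 := d4_1 D20784 (iv F39491) (iv D20782)
theorem F39496 : act 3 n20784 = n18623 := d16_1 D20784 F39483 F39481
theorem F39497 : act 4 n20784 = n15491 := d18_1 D20784 (iv D15491) (iv F26891)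
def n20785 : Q := act 1 n15487
theorem D20785 : act 1 n15487 = n20785 := rfl
theorem F39498 : act 0 n20785 = n15581 := d0_1 D20785 F34301 F22452 (iv F20884) (iv F26918) F34255 (iv F20952) (iv F35004) (iv F26893)
theorem F39499 : act 4 n20785 = n15492 := d8_2 (iv F26895) D20785 (iv D15492)
theorem F39500 : act 6 n20785 = n15579 := d10_2 (iv F29054) D20785 F35065 (iv D18523) F29045
def n20786 : Q := act 1 n15489
theorem D20786 : act 1 n15489 = n20786 := rfl
theorem F39501 : act 0 n20786 = n15688 := d0_1 D20786 (iv F32507) (iv F35184) (iv D14706) (iv F25646) F34469 F20852 D11809 D15489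
theorem F39502 : act 3 n20786 = n18516 := d7_2 F33286 D20786 (iv F33285)
theorem F39503 : act 4 n20786 = n20765 := d8_2 F39489 D20786 (iv F39487)
theorem F39504 : act 6 n20786 = n18490 := d10_2 (iv F26897) D20786 (iv D18490) (iv F23792) F33252
theorem F39505 : act 5 n15692 = n20786 := d24_1 F33087 (iv D20786) F26897 D15505 F34255 (iv D11852) (iv D9753) (iv D4723) (iv F6775) (iv F16635) D10347 D12862 D17419 F34985
theorem F39506 : act 2 n20786 = n15687 := d13_1 F39505 F27197 D15692
def n20787 : Q := act 2 n15489
theorem D20787 : act 2 n15489 = n20787 := rfl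
theorem F39507 : act 0 n20787 = n15490 := d1_1 D20787 (iv D15490) D15489
theorem F39508 : act 6 n20787 = n15504 := d14_2 (iv F26897) D20787 (iv D15504)
def n20788 : Q := act 3 n15490
theorem D20788 : act 3 n15490 = n20788 := rfl
theorem F39509 : act 1 n20788 = n15651 := d7_1 D20788 (iv D15651) (iv F26898)
theorem F39510 : act 6 n20788 = n15506 := d17_2 (iv F26899) D20788 (iv D15506)
def n20789 : Q := act 5 n15490
theorem D20789 : act 5 n15490 = n20789 := rfl
theorem F39511 : act 2 n20789 = n15491 := d13_1 D20789 (iv D15491) D15490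
def n20790 : Q := act 2 n15492
theorem D20790 : act 2 n15492 = n20790 := rfl
theorem F39512 : act 0 n20790 = n15586 := d1_1 D20790 F27063 (iv F35049)
theorem F39513 : act 1 n20790 = n15655 := d6_1 D20790 (iv D15655) (iv D11896) (iv F20866) D15492
theorem F39514 : act 6 n20790 = n15583 := d14_2 F35051 D20790 (iv D15583)
def n20791 : Q := act 1 n15493
theorem D20791 : act 1 n15493 = n20791 := rfl
theorem F39515 : act 3 n20791 = n15494 := d7_2 (iv F26902) D20791 (iv D15494)
theorem F39516 : act 4 n20791 = n15499 := d8_2 (iv F26903) D20791 (iv D15499)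
def n20792 : Q := act 2 n15494
theorem D20792 : act 2 n15494 = n20792 := rfl
theorem F39517 : act 1 n20792 = n18848 := d6_1 D20792 F33740 (iv D15341) (iv F20871) D15494
theorem F39518 : act 4 n20792 = n15496 := d12_2 (iv F26905) D20792 (iv D15496)
theorem F39519 : act 5 n18853 = n20792 := d18_0 F39518 F33249 (iv F33751)
def n20793 : Q := act 5 n15494
theorem D20793 : act 5 n15494 = n20793 := rfl
theorem F39520 : act 1 n20793 = n17363 := d9_1 D20793 (iv D17363) F22457 (iv F20873) D15494
theorem F39521 : act 2 n20793 = n18853 := d13_1 D20793 F39519 (iv D20792)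
theorem F39522 : act 4 n20793 = n15497 := d18_1 D20793 (iv D15497) (iv F26905)
def n20794 : Q := act 6 n15497
theorem D20794 : act 6 n15497 = n20794 := rfl
theorem F39523 : act 0 n20794 = n19035 := d5_1 D20794 (iv F34123) (iv F33271)
theorem F39524 : act 2 n20794 = n19034 := d14_1 D20794 (iv F34118) F33241
theorem F39525 : act 3 n20794 = n15508 := d17_1 D20794 (iv D15508) (iv F26909)
theorem F39526 : act 5 n20794 = n18607 := d20_1 D20794 (iv D18607) (iv F33270) F34123 F34120 F26881 D15497
theorem F39527 : act 1 n18319 = n20794 := d7_3 F39525 F33204 F33153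
theorem E10233 : n18319 = n16689 := ((c6_1 D16689 F39527 F39524 (iv F35684) F36233 F29471)).symm
theorem E10234 : n13387 = n12448 := (((F29474).symm.trans (sb E10233 (iv D18319)))).symm
theorem F39528 : act 1 n16689 = n20794 := (sb E10233 F39527)
theorem E10235 : n18532 = n15205 := (((F29475).symm.trans (sb E10233 (iv F33153)))).symm
theorem F39529 : act 4 n16689 = n18396 := (sb E10233 (iv F32288))
theorem E10236 : n16693 = n10690 := ((D16693).symm.trans (sb E10234 (iv D13387)))
theorem E10237 : n18320 = n10146 := ((((iv D12448)).symm.trans (sb E10234 D18320))).symm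
theorem E10238 : n16694 = n13524 := ((D16694).symm.trans (sb E10234 (iv F23771)))
theorem E10239 : n16695 = n13431 := ((D16695).symm.trans (sb E10234 (iv F23621)))
theorem E10240 : n18321 = n16696 := (((D16696).symm.trans (sb E10234 D18321))).symm
theorem E10241 : n18318 = n16678 := ((((iv F29464)).symm.trans (sb E10234 (iv F32133)))).symm
theorem E10242 : n20529 = n15508 := ((D20529).symm.trans (sb E10235 (iv F33204)))
theorem E10243 : n20530 = n13542 := ((D20530).symm.trans (sb E10235 F33154))
theorem E10244 : n20516 = n17372 := (((iv F38943)).symm.trans (sb E10235 F33205))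
theorem F39530 : act 1 n10690 = n12448 := (sb E10236 (iv D16693))
theorem E10245 : n18397 = n12449 := (((D12449).symm.trans (sb E10237 (iv F32290)))).symm
theorem F39531 : act 0 n13524 = n15205 := (sb E10238 F29481)
theorem E10246 : n18533 = n15203 := ((D18533).symm.trans (sb E10238 F29482))
theorem F39532 : act 3 n13524 = n12448 := (sb E10238 (iv D16694))
theorem F39533 : act 4 n13431 = n12448 := (sb E10239 (iv D16695))
theorem F39534 : act 1 n16696 = n18314 := (sb E10240 F32135)
theorem F39535 : act 3 n16696 = n18530 := (sb E10240 (iv F33147))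
theorem F39536 : act 4 n16696 = n18394 := (sb E10240 (iv F32282))
theorem F39537 : act 1 n16678 = n13386 := (sb E10241 (iv D18318))
theorem F39538 : act 3 n16678 = n18534 := (sb E10241 (iv F33158))
theorem F39539 : act 4 n16678 = n18398 := (sb E10241 (iv F32293))
theorem F39540 : act 1 n15508 = n15205 := (sb E10242 (iv D20529))
theorem E10247 : n18556 = n15206 := ((D18556).symm.trans (sb E10243 F38958))
theorem F39541 : act 4 n13542 = n15205 := (sb E10243 (iv D20530))
theorem F39542 : act 2 n17372 = n15199 := (sb E10244 (iv D20516))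
theorem F39543 : act 6 n17372 = n15205 := (sb E10244 F38943)
theorem F39544 : act 2 n12449 = n13431 := (sb E10245 (iv D18397))
theorem E10248 : n20523 = n14660 := (((iv F38952)).symm.trans (sb E10246 F33155))
theorem F39545 : act 2 n15203 = n13524 := (sb E10246 (iv D18533))
theorem E10249 : n20526 = n13543 := ((D20526).symm.trans (sb E10246 F33156))
theorem F39546 : act 2 n15206 = n13542 := (sb E10247 (iv D18556))
theorem E10250 : n20517 = n17421 := (((iv F38944)).symm.trans (sb E10247 F35430))
theorem F39547 : act 1 n14660 = n15203 := (sb E10248 F38952)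
theorem E10251 : n19895 = n15202 := ((D19895).symm.trans (sb E10248 (iv D20523)))
theorem F39548 : act 0 n13543 = n15206 := (sb E10249 F38953)
theorem F39549 : act 4 n13543 = n15203 := (sb E10249 (iv D20526))
theorem F39550 : act 4 n17421 = n15199 := (sb E10250 (iv D20517))
theorem F39551 : act 6 n17421 = n15206 := (sb E10250 F38944)
theorem E10252 : n20567 = n20520 := ((((iv F38949)).symm.trans (sb E10251 (iv F39030)))).symm
theorem F39552 : act 3 n15202 = n14660 := (sb E10251 (iv D19895))
theorem F39553 : act 3 n20520 = n15234 := (sb E10252 (iv D20567))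
theorem F39554 : act 6 n20520 = n16832 := (sb E10252 F39029)
theorem F39555 : act 1 n16832 = n17268 := d10_1 F39554 F30300 F30283 F29893 D20520
theorem F39556 : act 2 n16832 = n20525 := d14_1 F39554 (iv D20525) (iv F38949)
theorem F39557 : act 5 n20525 = n16830 := d13_2 D16832 F39556 (iv D16830)
theorem F39558 : act 3 n20525 = n19890 := d21_3 (iv F22021) (iv F29684) F39556 (iv D19890) (iv F37063) F37062 F26563 F22018
theorem F39559 : act 3 n17268 = n16833 := d7_2 (iv F29684) F39555 (iv D16833)
theorem F39560 : act 5 n17257 = n16823 := d9_4 D16832 F39555 (iv D17268) (iv F30275) F29674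
theorem F39561 : act 3 n16824 = n17257 := d16_3 F39560 (iv D16823) D16824
theorem F39562 : act 1 n17266 = n16824 := d7_3 F39561 F30275 (iv F30295)
theorem F39563 : act 6 n17255 = n16824 := d17_0 F39561 (iv D17257) D17255
theorem F39564 : act 2 n16825 = n17255 := d14_3 F39563 F29675 D16825
theorem E10253 : n17388 = n16864 := (c6_4 F39564 F30272 (iv F22493) (iv F30486) (iv D16864) F29678)
theorem F39565 : act 1 n16864 = n12848 := (sb E10253 F30486)
theorem F39566 : act 3 n16864 = n12847 := (sb E10253 (iv D17388))
theorem E10254 : n17387 = n16866 := (c2_2 F39566 D17387 (iv D16866) (iv F29749))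
theorem F39567 : act 0 n16866 = n12847 := (sb E10254 (iv D17387))
theorem F39568 : act 0 n17269 = n20528 := d0_3 F39565 F22492 D17269 (iv D20528) F26484 F34775 F22061 (iv F22051) (iv F29749)
theorem F39569 : act 5 n16833 = n17266 := d9_0 F39562 (iv D16824) F22015 D12533 D16833
theorem F39570 : act 1 n17168 = n20027 := d24_8 D17266 (iv F39569) (iv D16833) (iv F26522) (iv F29617) (iv F35581) (iv D17169) D17168 (iv D20027) F25743 F20222 F16190 (iv F18177) (iv F22375)
theorem F39571 : act 3 n20028 = n17168 := d7_0 F39570 F37833 D20028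
theorem E10255 : n20049 = n15385 := (c23_6 D12739 (iv F30152) F39570 (iv F37879) (iv D20051) (iv F37876) (iv D15385) F20778 (iv D9641) F16651 (iv D4664) F3552 D2246 F3556 (iv F16746) (iv F3544) (iv F17002) D2699 D5604 D10286)
theorem E10256 : n20718 = n14813 := ((D20718).symm.trans (sb E10255 F37876))
theorem E10257 : n20719 = n14811 := ((D20719).symm.trans (sb E10255 (iv D20049)))
theorem F39572 : act 2 n14813 = n15385 := (sb E10256 (iv D20718))
theorem E10258 : n20736 = n20046 := (((D20046).symm.trans (sb E10257 (iv F39354)))).symm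
theorem F39573 : act 6 n14811 = n15385 := (sb E10257 (iv D20719))
theorem F39574 : act 6 n20046 = n15398 := (sb E10258 (iv D20736))
theorem E10259 : n20735 = n20073 := (c14_2 F39574 D20735 (iv D20073) (iv F37872))
theorem F39575 : act 2 n20073 = n15398 := (sb E10259 (iv D20735))
theorem F39576 : act 6 n20717 = n20042 := d5_2 F39573 D20717 F37861
theorem F39577 : act 6 n20716 = n20047 := d17_2 F39573 (iv F39318) (iv D20047)
theorem F39578 : act 6 n20412 = n20048 := d19_2 F39573 (iv F38733) (iv D20048)
theorem F39579 : act 2 n20050 = n20412 := d14_3 F39578 F37875 D20050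
theorem F39580 : act 2 n20044 = n20717 := d14_3 F39576 (iv D20042) D20044
theorem F39581 : act 2 n20711 = n20051 := d13_3 (iv D20051) F39572 (iv F39306)
theorem F39582 : act 0 n17172 = n20028 := d2_3 F39571 F30151 (iv F30156)
theorem F39583 : act 5 n17167 = n20028 := d16_0 F39571 (iv D17168) D17167
theorem F39584 : act 1 n16749 = n17167 := d9_5 F39583 (iv D20028) (iv F25751) D20045 (iv F37869)
theorem F39585 : act 2 n17167 = n16751 := d6_2 D16749 F39584 (iv D16751) (iv D12479) D12478
theorem F39586 : act 3 n17099 = n16749 := d7_0 F39584 (iv D17167) (iv F30289)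
theorem E10260 : n20485 = n17100 := (c2_2 F39586 (iv F38878) (iv D17100) D17099)
theorem F39587 : act 0 n17100 = n16749 := (sb E10260 F38878)
theorem E10261 : n16914 = n12687 := (((F30058).symm.trans (sb E10260 F38879))).symm
theorem F39588 : act 2 n17100 = n15159 := (sb E10260 (iv D20485))
theorem F39589 : act 5 n17100 = n16873 := (sb E10260 F38880)
theorem F39590 : act 6 n17100 = n15160 := (sb E10260 F38881)
theorem E10262 : n17096 = n16642 := (((iv F30051)).symm.trans (sb E10261 F29805))
theorem E10263 : n17103 = n12581 := ((D17103).symm.trans (sb E10261 F29806))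
theorem E10264 : n17105 = n12579 := ((D17105).symm.trans (sb E10261 (iv D16914)))
theorem E10265 : n17106 = n16902 := ((D17106).symm.trans (sb E10261 F29807))
theorem F39591 : act 0 n16642 = n12687 := (sb E10262 F30051)
theorem F39592 : act 3 n16642 = n12683 := (sb E10262 (iv D17096))
theorem F39593 : act 2 n12581 = n12687 := (sb E10263 (iv D17103))
theorem E10266 : n16911 = n12688 := (((iv F29804)).symm.trans (sb E10264 F30061))
theorem F39594 : act 5 n12579 = n12687 := (sb E10264 (iv D17105))
theorem F39595 : act 3 n16902 = n12689 := (sb E10265 F30062)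
theorem F39596 : act 6 n16902 = n12687 := (sb E10265 (iv D17106))
theorem F39597 : act 3 n12688 = n12579 := (sb E10266 F29804)
theorem E10267 : n17108 = n12577 := ((D17108).symm.trans (sb E10266 (iv D16911)))
theorem E10268 : n16901 = n16622 := (((iv F29793)).symm.trans (sb E10267 F30063))
theorem E10269 : n20487 = n16905 := ((((iv F29800)).symm.trans (sb E10267 (iv F38883)))).symm
theorem E10270 : n16908 = n12690 := ((D16908).symm.trans (sb E10267 F30064))
theorem E10271 : n17098 = n16910 := (((D16910).symm.trans (sb E10267 F30065))).symm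
theorem F39598 : act 6 n12577 = n12688 := (sb E10267 (iv D17108))
theorem F39599 : act 0 n16622 = n12577 := (sb E10268 F29793)
theorem F39600 : act 3 n16622 = n12573 := (sb E10268 (iv D16901))
theorem F39601 : act 0 n16905 = n16674 := (sb E10269 F38882)
theorem F39602 : act 2 n16905 = n15164 := (sb E10269 (iv D20487))
theorem F39603 : act 5 n16905 = n15165 := (sb E10269 F38884)
theorem F39604 : act 6 n16905 = n17070 := (sb E10269 F38885)
theorem F39605 : act 2 n12690 = n12577 := (sb E10270 (iv D16908))
theorem F39606 : act 0 n16910 = n12689 := (sb E10271 F30055)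
theorem F39607 : act 2 n16910 = n12685 := (sb E10271 F30056)
theorem F39608 : act 6 n16910 = n12683 := (sb E10271 (iv D17098))
theorem F39609 : act 3 n16872 = n16827 := d17_3 F35582 F39586 F29762
theorem F39610 : act 3 n20559 = n17115 := d21_5 (iv F30057) F39586 (iv D16749) (iv F26516) D20559 (iv D17115) (iv D12693) D12692
theorem F39611 : act 2 n19242 = n17112 := d21_2 D16597 (iv F35883) (iv D17112) (iv F30057) F39586 (iv D16749) (iv F26516) F26515
theorem F39612 : act 0 n17115 = n19242 := d1_3 F39611 F30069 D17115
theorem E10272 : n20486 = n17102 := ((c2_2 F39609 (iv F35583) (iv D20486) (iv F29760))).symm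
theorem F39613 : act 3 n17102 = n15160 := (sb E10272 (iv D20486))
theorem F39614 : act 1 n16828 = n16872 := d7_3 F39609 (iv D16827) D16828
theorem F39615 : act 5 n16827 = n16871 := d16_2 D16872 F39609 (iv D16871)
theorem F39616 : act 2 n16871 = n17119 := d13_1 F39615 F30075 F35584
theorem F39617 : act 6 n16871 = n17101 := d22_1 F39615 (iv D17101) D17102 F35583
theorem F39618 : act 3 n17101 = n16873 := d17_1 F39617 (iv D16873) D16871
theorem F39619 : act 3 n16903 = n17097 := d11_4 (iv F29803) F39607 F22265 (iv F29797) F30053 F22261 (iv F29795) F39595 F22268 F18118 (iv F22093) (iv F39597) F22267 F18117 (iv F22092)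
theorem F39620 : act 2 n16909 = n16430 := d12_3 F28474 F39605 D16909
theorem F39621 : act 6 n16428 = n16909 := d14_0 F39620 (iv D16430) (iv F28469)
theorem F39622 : act 3 n17070 = n16907 := d17_1 F39604 (iv D16907) D16905
theorem F39623 : act 5 n16907 = n17069 := d16_2 D17070 F39622 (iv D17069)
theorem F39624 : act 2 n17069 = n16926 := d13_1 F39623 (iv D16926) (iv F29802)
theorem F39625 : act 6 n17069 = n17019 := d22_3 (iv D16906) D16907 F39623 F29956
theorem F39626 : act 3 n17019 = n17071 := d17_1 F39625 (iv D17071) D17069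
theorem E10273 : n20488 = n16906 := (c2_3 F39626 F30020 D20488 (iv F29956))
theorem F39627 : act 3 n16906 = n15165 := (sb E10273 (iv D20488))
theorem F39628 : act 1 n17071 = n17020 := d7_1 F39626 (iv D17020) D17019
theorem F39629 : act 3 n16674 = n16904 := d16_3 (iv F29959) F39626 (iv F30022)
theorem F39630 : act 1 n17260 = n16674 := d7_3 F39629 F30284 D17260
theorem F39631 : act 2 n16917 = n19299 := d21_4 D16674 F39629 F29799 D16917 F36017 (iv D16609) (iv F26428) F26427
theorem F39632 : act 3 n16920 = n20513 := d21_1 D16920 (iv D20513) F26476 D16674 F39629 F29799 D16917 F29811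
theorem F39633 : act 0 n16920 = n19299 := d21_8 (iv F39631) (iv D16917) (iv F29799) (iv F39629) (iv D16674) (iv F26476) D20513 (iv F39632)
theorem F39634 : act 2 n16676 = n17260 := d6_0 F39630 (iv D16674) (iv D12438) D12439 D16676
theorem F39635 : act 6 n19974 = n17260 := d10_0 F39630 F37773 (iv D19991) F25704 D19974
theorem F39636 : act 0 n17266 = n19974 := d5_3 F39635 F30280 D17266
theorem F39637 : act 3 n17262 = n19974 := d17_3 F39635 (iv D17260) D17262
theorem F39638 : act 1 n19973 = n17262 := d7_3 F39637 (iv D19974) (iv F37737)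
theorem F39639 : act 6 n17024 = n17172 := d24_9 (iv F25697) D19973 F39638 (iv D17262) D17261 F30283 F29893 F26482 D17024 (iv D17172) F22326 F18151 F17465 (iv F20203)
theorem F39640 : act 1 n17172 = n17016 := d10_1 F39639 (iv D17016) F22189 D12644 D17024
theorem F39641 : act 3 n17174 = n17024 := d17_3 F39639 F30156 D17174
theorem F39642 : act 1 n17023 = n17174 := d7_3 F39641 (iv D17024) (iv F29961)
theorem E10274 : n20566 = n20521 := (c9_6 F38950 F39642 F30160 F35581 F29617 D20566)
theorem F39643 : act 1 n20521 = n15234 := (sb E10274 (iv D20566))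
theorem E10275 : n19904 = n15235 := ((F38951).symm.trans (sb E10274 F39028))
theorem F39644 : act 2 n15235 = n20521 := (sb E10275 (iv F38951))
theorem E10276 : n20569 = n14670 := ((D20569).symm.trans (sb E10275 (iv D19904)))
theorem E10277 : n18526 = n15236 := (((iv F33133)).symm.trans (sb E10276 F39031))
theorem F39645 : act 3 n14670 = n15235 := (sb E10276 (iv D20569))
theorem F39646 : act 1 n15236 = n14670 := (sb E10277 F33133)
theorem E10278 : n16770 = n13520 := (((iv F29579)).symm.trans (sb E10277 (iv D18526)))
theorem E10279 : n20572 = n13533 := ((D20572).symm.trans (sb E10277 F33134))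
theorem E10280 : n18525 = n15238 := ((D18525).symm.trans (sb E10278 F29578))
theorem F39647 : act 2 n13520 = n15236 := (sb E10278 F29579)
theorem E10281 : n13391 = n12488 := ((F23766).symm.trans (sb E10278 (iv D16770)))
theorem E10282 : n18541 = n15239 := (((iv F33168)).symm.trans (sb E10279 F39032))
theorem F39648 : act 4 n13533 = n15236 := (sb E10279 (iv D20572))
theorem F39649 : act 0 n15238 = n13520 := (sb E10280 (iv D18525))
theorem E10283 : n20575 = n15587 := ((D20575).symm.trans (sb E10280 (iv F35060)))
theorem E10284 : n18327 = n16765 := ((((iv F29572)).symm.trans (sb E10280 F33130))).symm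
theorem E10285 : n20576 = n13532 := ((D20576).symm.trans (sb E10280 F33131))
theorem E10286 : n20562 = n17346 := (((iv F39022)).symm.trans (sb E10280 (iv F33132)))
theorem E10287 : n16769 = n10692 := ((D16769).symm.trans (sb E10281 (iv D13391)))
theorem E10288 : n18328 = n10165 := ((((iv D12488)).symm.trans (sb E10281 D18328))).symm
theorem F39650 : act 3 n12488 = n13520 := (sb E10281 (iv F23766))
theorem E10289 : n16771 = n13427 := ((D16771).symm.trans (sb E10281 (iv F23616)))
theorem E10290 : n18326 = n16753 := ((((iv F29561)).symm.trans (sb E10281 (iv F32141)))).symm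
theorem E10291 : n18329 = n16772 := (((D16772).symm.trans (sb E10281 D18329))).symm
theorem F39651 : act 0 n15239 = n13533 := (sb E10282 F33168)
theorem E10292 : n20563 = n17344 := (((iv F39023)).symm.trans (sb E10282 F33169))
theorem F39652 : act 1 n15587 = n15238 := (sb E10283 (iv D20575))
theorem F39653 : act 4 n16765 = n18388 := (sb E10284 (iv F32265))
theorem F39654 : act 2 n13532 = n15239 := (sb E10285 F39037)
theorem F39655 : act 4 n13532 = n15238 := (sb E10285 (iv D20576))
theorem F39656 : act 2 n17346 = n15232 := (sb E10286 (iv D20562))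
theorem F39657 : act 5 n17346 = n15238 := (sb E10286 F39022)
theorem F39658 : act 1 n10692 = n12488 := (sb E10287 (iv D16769))
theorem E10293 : n18389 = n12489 := (((D12489).symm.trans (sb E10288 (iv F32267)))).symm
theorem F39659 : act 4 n13427 = n12488 := (sb E10289 (iv D16771))
theorem F39660 : act 1 n16753 = n13390 := (sb E10290 (iv D18326))
theorem F39661 : act 3 n16753 = n18527 := (sb E10290 (iv F33137))
theorem F39662 : act 4 n16753 = n18390 := (sb E10290 (iv F32270))
theorem F39663 : act 1 n16772 = n18311 := (sb E10291 F32143)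
theorem F39664 : act 3 n16772 = n18524 := (sb E10291 (iv F33127))
theorem F39665 : act 4 n16772 = n18386 := (sb E10291 (iv F32259))
theorem F39666 : act 4 n17344 = n15232 := (sb E10292 (iv D20563))
theorem F39667 : act 5 n17344 = n15239 := (sb E10292 F39023)
theorem F39668 : act 2 n12489 = n13427 := (sb E10293 (iv D18389))
theorem F39669 : act 6 n17163 = n17015 := d10_4 D17023 F39642 (iv D17174) (iv F30145) F29950
theorem F39670 : act 3 n17016 = n17163 := d17_3 F39669 (iv D17015) D17016
theorem F39671 : act 5 n17162 = n17016 := d16_0 F39670 (iv D17163) D17162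
theorem F39672 : act 2 n17017 = n17162 := d13_3 F39671 F29951 D17017
theorem E10294 : n17309 = n17062 := (c6_4 F39672 F30144 (iv F22415) (iv F30361) (iv D17062) (iv F30011))
theorem F39673 : act 1 n17062 = n12807 := (sb E10294 F30361)
theorem F39674 : act 3 n17062 = n12806 := (sb E10294 (iv D17309))
theorem E10295 : n17308 = n17064 := (c2_2 F39674 D17308 (iv D17064) (iv F30007))
theorem F39675 : act 0 n17064 = n12806 := (sb E10295 (iv D17308))
theorem F39676 : act 0 n17176 = n20574 := d0_3 F39673 F22414 D17176 (iv D20574) F26524 (iv F22243) F22242 (iv F22224) (iv F30007)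
theorem F39677 : act 2 n18388 = n16766 := d1_2 F39668 D18388 F29573
theorem F39678 : act 2 n18390 = n16754 := d13_3 F29562 F39668 D18390
theorem F39679 : act 2 n18386 = n16773 := d14_3 (iv D16773) F39668 (iv F32260)
theorem F39680 : act 4 n20561 = n18543 := d3_2 F39666 (iv F39020) F33171
theorem E10296 : n20556 = n17531 := (c8_2 F39666 (iv F39012) F32634 (iv F30419))
theorem F39681 : act 1 n17531 = n15232 := (sb E10296 F39012)
theorem F39682 : act 3 n17531 = n15228 := (sb E10296 (iv D20556))
theorem F39683 : act 3 n20554 = n17559 := d2_2 F39682 (iv F39005) F35423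
theorem F39684 : act 3 n20557 = n17556 := d17_3 (iv F35422) F39682 D20557
theorem E10297 : n20551 = n17635 := (c21_5 D17531 F39682 (iv D15228) (iv F26513) D20551 F30861 F22749 (iv F22716) F35396)
theorem F39685 : act 2 n17635 = n15226 := (sb E10297 (iv D20551))
theorem F39686 : act 2 n20550 = n17567 := d21_0 (iv D17567) (iv D12950) (iv F22690) D17531 F39682 (iv D15228) (iv F26513) D20550
theorem E10298 : n20552 = n17633 := (c14_3 D17635 F39685 D20552 (iv D17633))
theorem F39687 : act 1 n17633 = n20624 := (sb E10298 (iv F39130))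
theorem F39688 : act 3 n17633 = n15229 := (sb E10298 F39004)
theorem F39689 : act 6 n17633 = n15226 := (sb E10298 (iv D20552))
theorem F39690 : act 2 n20555 = n17558 := d21_0 (iv D17558) (iv D12945) F18420 D10427 D12979 D17633 F39688 (iv F39006)
theorem F39691 : act 0 n17558 = n20557 := d21_8 F39013 (iv F39688) (iv D17633) (iv D12979) (iv D10427) (iv F18420) D12945 D17558
theorem F39692 : act 6 n20554 = n17558 := d5_0 F39691 (iv D20557) (iv F39005)
theorem F39693 : act 2 n20624 = n15835 := d6_2 D17633 F39687 F27379 F21143 (iv F22748)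
theorem F39694 : act 6 n15835 = n20623 := d14_2 D20624 F39693 (iv D20623)
theorem F39695 : act 3 n20623 = n15837 := d17_1 F39694 (iv D15837) D15835
theorem F39696 : act 1 n17320 = n20561 := d8_3 F39680 (iv F35378) F33047
theorem F39697 : act 2 n18527 = n20561 := d12_3 F39680 F33172 (iv F33138)
theorem F39698 : act 3 n20560 = n17320 := d7_0 F39696 (iv D20561) D20560
theorem F39699 : act 0 n17321 = n20560 := d2_3 F39698 (iv D17320) D17321
theorem F39700 : act 5 n17321 = n20617 := d23_4 (iv F20648) D15231 D20560 (iv F39699) F39118 (iv D20494) (iv F29898) (iv F38901) F38900 F26453 F21928 F34729 (iv D11326) (iv D9057) F6683 D4384 F6693 D4633 D9570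
theorem E10299 : n20618 = n15667 := (c9_3 F39700 (iv D20617) D20618 F27173 (iv F32618) (iv F30385))
theorem F39701 : act 0 n15667 = n17143 := (sb E10299 F39119)
theorem F39702 : act 2 n15667 = n15281 := (sb E10299 F39120)
theorem F39703 : act 5 n15667 = n15280 := (sb E10299 (iv D20618))
theorem F39704 : act 6 n15667 = n17141 := (sb E10299 F39121)
theorem F39705 : act 3 n20617 = n17323 := d16_1 F39700 (iv D17323) D17321
theorem E10300 : n20616 = n15668 := ((c7_2 F39705 (iv F33044) F39117 D20617)).symm
theorem F39706 : act 3 n15668 = n15280 := (sb E10300 F39117)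
theorem E10301 : n19098 = n15279 := ((F36135).symm.trans (sb E10300 (iv D20616)))
theorem E10302 : n20614 = n14251 := ((D20614).symm.trans (sb E10301 F36134))
theorem E10303 : n20615 = n13893 := ((D20615).symm.trans (sb E10301 (iv D19098)))
theorem F39707 : act 6 n15279 = n15668 := (sb E10301 (iv F36135))
theorem F39708 : act 2 n14251 = n15279 := (sb E10302 (iv D20614))
theorem F39709 : act 4 n13893 = n15279 := (sb E10303 (iv D20615))
theorem F39710 : act 4 n20613 = n15652 := d3_2 F39709 (iv F39116) F36119
theorem F39711 : act 4 n20609 = n18520 := d8_2 F39709 (iv F39110) F33118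
theorem E10304 : n20334 = n13694 := (c15_4 F39709 (iv D15279) (iv F26224) D20334 F24037 D13893)
theorem E10305 : n18780 = n15059 := ((D18780).symm.trans (sb E10304 (iv D20334)))
theorem F39712 : act 3 n15059 = n13694 := (sb E10305 (iv D18780))
theorem F39713 : act 4 n17142 = n15650 := d18_3 F36123 F39709 (iv F30104)
theorem F39714 : act 0 n15643 = n17142 := d3_3 F39713 F27150 (iv F27145)
theorem F39715 : act 2 n15642 = n17142 := d12_3 F39713 (iv D15650) (iv F27143)
theorem F39716 : act 3 n18775 = n16449 := d15_3 F39713 F36122 (iv F33606) F28506 D17142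
theorem F39717 : act 6 n15665 = n17142 := d19_0 F39713 F27151 (iv F27169)
theorem F39718 : act 3 n17143 = n15665 := d17_3 F39717 (iv D17142) D17143
theorem F39719 : act 3 n15662 = n16891 := d21_1 D15662 F29783 (iv F22292) (iv F30105) F39718 (iv D15665) (iv F27165) (iv D15661)
theorem F39720 : act 6 n16890 = n15662 := d17_0 F39719 (iv D16891) D16890
theorem F39721 : act 2 n15639 = n16890 := d14_3 F39720 (iv D15662) (iv F27138)
theorem F39722 : act 4 n15655 = n16890 := d19_3 F39720 (iv F36593) F36594
theorem F39723 : act 5 n16896 = n15655 := d18_0 F39722 F29782 D16896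
theorem F39724 : act 2 n15653 = n16896 := d13_3 F39723 (iv D15655) (iv F27154)
theorem F39725 : act 4 n16895 = n15653 := d12_0 F39724 (iv D16896) D16895
theorem F39726 : act 1 n15644 = n16895 := d8_3 F39725 (iv D15653) (iv F27147)
theorem F39727 : act 3 n15644 = n16895 := d15_5 F39725 (iv F36602) F36603 F25000 (iv F27147)
theorem F39728 : act 5 n15639 = n16895 := d18_0 F39725 F27154 (iv F29075)
theorem F39729 : act 0 n15691 = n16895 := d22_4 (iv F39728) F27138 D15663 (iv F34929)
theorem F39730 : act 2 n16893 = n15691 := d1_0 F39729 (iv D16895) (iv F29784)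
theorem F39731 : act 2 n20613 = n15644 := d21_6 (iv F39730) (iv D16893) (iv D12568) (iv F20701) D15278 D20613 F39727 (iv F39729)
theorem F39732 : act 5 n15643 = n20613 := d13_0 F39731 (iv D15644) D15643
theorem F39733 : act 3 n17141 = n15643 := d16_3 F39732 (iv D20613) (iv F30103)
theorem F39734 : act 1 n15692 = n20531 := d6_3 F39730 (iv D15691) D15692 F38959 (iv F35276)
theorem F39735 : act 0 n20531 = n18530 := d0_1 F39734 (iv D18530) (iv F33139) (iv F33254) (iv D15500) (iv D11816) F32475 (iv F21046) (iv F27201)
theorem F39736 : act 4 n20531 = n18551 := d8_2 (iv F32493) F39734 (iv F33253)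
theorem F39737 : act 2 n18551 = n20532 := d12_1 F39736 F38960 (iv F38959)
theorem F39738 : act 0 n20532 = n18552 := d1_1 F39737 (iv D18552) D18551
theorem F39739 : act 4 n18552 = n20527 := d3_2 (iv F38960) F39738 F38954
theorem F39740 : act 2 n20527 = n18530 := d12_1 F39739 F33148 D18552
theorem F39741 : act 3 n18778 = n20333 := d2_2 F39712 (iv F33610) F38567
theorem F39742 : act 3 n18381 = n20331 := d7_2 F39712 (iv F32243) F38563
theorem F39743 : act 3 n18781 = n20335 := d17_3 (iv D20335) F39712 D18781
theorem F39744 : act 2 n19445 = n20609 := d12_3 F39711 (iv F36551) F36553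
theorem E10306 : n20656 = n15795 := (c6_3 F39702 (iv F26668) (iv F39197) F27328 F21133 (iv F27173))
theorem F39745 : act 0 n15795 = n16952 := (sb E10306 F39196)
theorem F39746 : act 2 n15795 = n15319 := (sb E10306 F39197)
theorem F39747 : act 5 n15795 = n16950 := (sb E10306 F39198)
theorem F39748 : act 6 n15795 = n15318 := (sb E10306 (iv D20656))
theorem F39749 : act 6 n20655 = n17398 := d10_2 F39748 D20655 F30502 (iv F32665) (iv F27328)
theorem E10307 : n20654 = n15796 := (c17_2 F39748 (iv F39194) (iv D15796) D15795)
theorem F39750 : act 3 n15796 = n15318 := (sb E10307 F39194)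
theorem E10308 : n19074 = n15317 := ((F35990).symm.trans (sb E10307 (iv D20654)))
theorem E10309 : n20652 = n14302 := ((D20652).symm.trans (sb E10308 F35989))
theorem E10310 : n20653 = n13875 := ((D20653).symm.trans (sb E10308 (iv D19074)))
theorem F39751 : act 5 n15317 = n15796 := (sb E10308 (iv F35990))
theorem F39752 : act 2 n14302 = n15317 := (sb E10309 (iv D20652))
theorem F39753 : act 4 n13875 = n15317 := (sb E10310 (iv D20653))
theorem F39754 : act 4 n20651 = n15777 := d3_2 F39753 (iv F39193) F35974
theorem F39755 : act 4 n20647 = n18501 := d8_2 F39753 (iv F39187) F33099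
theorem E10311 : n20368 = n13686 := (c15_4 F39753 (iv D15317) (iv F26281) D20368 F24024 D13875)
theorem E10312 : n18762 = n15086 := ((D18762).symm.trans (sb E10311 (iv D20368)))
theorem F39756 : act 3 n15086 = n13686 := (sb E10312 (iv D18762))
theorem F39757 : act 4 n16951 = n15775 := d19_3 F35978 F39753 (iv F29857)
theorem F39758 : act 0 n15770 = n16951 := d3_3 F39757 F27304 (iv F27299)
theorem F39759 : act 2 n15769 = n16951 := d12_3 F39757 (iv D15775) (iv F27297)
theorem F39760 : act 3 n18757 = n16346 := d15_3 F39757 F35977 (iv F33578) F28302 D16951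
theorem F39761 : act 5 n15793 = n16951 := d18_0 F39757 F27305 (iv F27324)
theorem F39762 : act 3 n16952 = n15793 := d16_3 F39761 (iv D16951) D16952
theorem F39763 : act 3 n15790 = n17087 := d21_1 D15790 F30039 F22241 (iv F29858) F39762 (iv D15793) (iv F27320) (iv D15789)
theorem F39764 : act 5 n17086 = n15790 := d16_0 F39763 (iv D17087) D17086
theorem F39765 : act 2 n15766 = n17086 := d13_3 F39764 (iv D15790) (iv F27291)
theorem F39766 : act 4 n15780 = n17086 := d18_3 F39764 (iv F36454) F36455
theorem F39767 : act 6 n17091 = n15780 := d19_0 F39766 F30038 D17091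
theorem F39768 : act 2 n15778 = n17091 := d14_3 F39767 (iv D15780) (iv F27308)
theorem F39769 : act 4 n17090 = n15778 := d12_0 F39768 (iv D17091) D17090
theorem F39770 : act 1 n15771 = n17090 := d8_3 F39769 (iv D15778) (iv F27301)
theorem F39771 : act 3 n15771 = n17090 := d15_5 F39769 (iv F36459) F36460 F24934 (iv F27301)
theorem F39772 : act 6 n15766 = n17090 := d19_0 F39769 F27308 (iv F34250)
theorem F39773 : act 0 n17090 = n15819 := d22_4 (iv F34970) (iv D15791) (iv F27291) F39772
theorem F39774 : act 2 n15819 = n17088 := d1_2 D17090 F39773 F30040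
theorem F39775 : act 2 n20651 = n15771 := d21_6 F39774 (iv D17088) (iv D12678) (iv F20739) D15316 D20651 F39771 F39773
theorem F39776 : act 6 n15770 = n20651 := d14_0 F39775 (iv D15771) D15770
theorem F39777 : act 3 n16950 = n15770 := d17_3 F39776 (iv D20651) (iv F29856)
theorem F39778 : act 1 n20577 = n15820 := d6_3 F39774 F30041 (iv F39038) (iv D15820) D15819
theorem F39779 : act 0 n18524 = n20577 := d0_9 F39778 F27356 F21128 F32886 D11859 D15579 F35065 F33123 D18524
theorem F39780 : act 4 n18537 = n20577 := d8_0 F39778 F32955 (iv F35064)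
theorem F39781 : act 2 n20578 = n18537 := d12_3 F39780 F39038 (iv F39039)
theorem F39782 : act 0 n18538 = n20578 := d1_3 F39781 (iv D18537) D18538
theorem F39783 : act 4 n20573 = n18538 := d3_0 F39782 F39039 (iv F39033)
theorem F39784 : act 2 n18524 = n20573 := d12_3 F39783 (iv D18538) (iv F33128)
theorem F39785 : act 3 n18760 = n20367 := d2_2 F39756 (iv F33582) F38648
theorem F39786 : act 3 n18373 = n20365 := d7_2 F39756 (iv F32228) F38644
theorem F39787 : act 3 n18763 = n20369 := d16_3 (iv D20369) F39756 D18763
theorem F39788 : act 2 n19496 = n20647 := d12_3 F39755 (iv F36413) (iv F36538)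
theorem F39789 : act 3 n20655 = n17401 := d7_2 F39750 D20655 (iv F33010)
theorem F39790 : act 2 n20261 = n18573 := d21_2 F39654 (iv F38394) F34920 (iv D18589) (iv D13565) (iv D10778) (iv F19116) D13532
theorem F39791 : act 1 n18580 = n20261 := d6_5 F39790 (iv D18573) F23811 D13561 D18580
theorem F39792 : act 4 n18573 = n20260 := d12_2 D20261 F39790 (iv D20260)
theorem F39793 : act 0 n18542 = n20261 := d21_8 F39790 F34920 (iv D18589) (iv D13565) (iv D10778) (iv F19116) D13533 D18542
theorem F39794 : act 4 n20258 = n18542 := d3_0 F39793 (iv D20261) (iv F38389)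
theorem F39795 : act 1 n19943 = n20258 := d8_3 F39794 F33170 D19943
theorem F39796 : act 3 n20257 = n19943 := d7_0 F39795 (iv D20258) D20257
theorem F39797 : act 1 n20260 = n18407 := d8_1 F39792 F32310 D18573
theorem F39798 : act 2 n18411 = n19693 := d6_4 D20260 F39797 F32309 D18411 F37055
theorem F39799 : act 4 n19693 = n18580 := d12_2 (iv F32317) F39798 (iv D18580)
theorem F39800 : act 3 n18580 = n19884 := d15_1 F39799 (iv D19884) (iv D14631) (iv F25260) D19693
theorem F39801 : act 3 n20568 = n19902 := d2_2 F39645 D20568 F37591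
theorem F39802 : act 3 n20570 = n19899 := d16_3 F37584 F39645 D20570
theorem F39803 : act 3 n20571 = n19905 := d17_3 (iv D19905) F39645 D20571
theorem F39804 : act 2 n17023 = n20570 := d21_2 (iv F22194) (iv F29961) F39802 (iv D19899) (iv F37071) F37070 F26537 F22131
theorem F39805 : act 6 n20570 = n17021 := d14_2 D17023 F39804 (iv D17021)
theorem F39806 : act 0 n17263 = n16676 := d1_3 F39634 F30280 D17263
theorem F39807 : act 3 n16913 = n17107 := d7_2 F39597 D16913 (iv D17107)
theorem F39808 : act 5 n17104 = n16326 := d18_2 F39594 D17104 F28268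
theorem F39809 : act 2 n16328 = n17104 := d13_3 F39808 F28267 D16328
theorem F39810 : act 0 n16751 = n17170 := d1_1 F39585 (iv D17170) (iv F30150)
theorem F39811 : act 3 n19893 = n20522 := d21_7 (iv F38949) F39553 (iv D15234) F20651 D12483 (iv F35320) D19893 (iv D20522)
theorem F39812 : act 3 n19923 = n20223 := d15_5 F38322 F39552 F25594 D14692 D19923
theorem F39813 : act 3 n19896 = n20524 := d16_3 (iv D20524) F39552 D19896
theorem F39814 : act 1 n20224 = n19923 := d7_3 F39812 (iv D20223) D20224
theorem F39815 : act 4 n18558 = n20224 := d8_0 F39814 (iv D19923) (iv F33207)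
theorem F39816 : act 0 n20227 = n18558 := d3_3 F39815 F38323 D20227
theorem F39817 : act 2 n20227 = n18615 := d21_0 F35359 (iv D18629) (iv D13588) (iv D10788) (iv F19119) D13543 D18558 (iv F39816)
theorem F39818 : act 1 n18621 = n20227 := d6_5 F39817 (iv D18615) F23831 D13584 D18621
theorem F39819 : act 4 n18615 = n20226 := d12_2 D20227 F39817 (iv D20226)
theorem F39820 : act 1 n20226 = n18428 := d8_1 F39819 F32349 D18615
theorem F39821 : act 2 n18432 = n19677 := d6_4 D20226 F39820 F32348 D18432 F37018
theorem F39822 : act 4 n19677 = n18621 := d12_2 (iv F32356) F39821 (iv D18621)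
theorem F39823 : act 3 n18621 = n19862 := d15_1 F39822 (iv D19862) (iv D14612) (iv F25243) D19677
theorem F39824 : act 4 n20515 = n18559 := d3_2 F39550 (iv F38941) (iv F35429)
theorem E10313 : n20510 = n17607 := (c8_2 F39550 (iv F38933) F34400 (iv F30542))
theorem F39825 : act 1 n17607 = n15199 := (sb E10313 F38933)
theorem F39826 : act 3 n17607 = n15195 := (sb E10313 (iv D20510))
theorem F39827 : act 3 n20508 = n17735 := d2_2 F39826 (iv F38926) F35426
theorem F39828 : act 3 n20511 = n17732 := d16_3 (iv F35425) F39826 D20511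
theorem E10314 : n20505 = n17811 := (c21_5 D17607 F39826 (iv D15195) (iv F26473) D20505 F31096 F22878 (iv F22845) F35404)
theorem F39829 : act 2 n17811 = n15193 := (sb E10314 (iv D20505))
theorem F39830 : act 2 n20504 = n17743 := d21_0 (iv D17743) (iv D13035) F34401 D17607 F39826 (iv D15195) (iv F26473) D20504
theorem E10315 : n20506 = n17809 := (c13_3 D17811 F39829 D20506 (iv D17809))
theorem F39831 : act 1 n17809 = n20586 := (sb E10315 (iv F39052))
theorem F39832 : act 3 n17809 = n15196 := (sb E10315 F38925)
theorem F39833 : act 5 n17809 = n15193 := (sb E10315 (iv D20506))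
theorem F39834 : act 2 n20509 = n17734 := d21_0 (iv D17734) (iv D13030) F18499 D10474 D13064 D17809 F39832 (iv F38927)
theorem F39835 : act 0 n17734 = n20511 := d21_8 F38934 (iv F39832) (iv D17809) (iv D13064) (iv D10474) (iv F18499) D13030 D17734
theorem F39836 : act 5 n20508 = n17734 := d4_0 F39835 (iv D20511) (iv F38926)
theorem F39837 : act 2 n20586 = n15707 := d6_2 D17809 F39831 F27221 F21060 (iv F22877)
theorem F39838 : act 5 n15707 = n20585 := d13_2 D20586 F39837 (iv D20585)
theorem F39839 : act 3 n20585 = n15708 := d16_1 F39838 (iv D15708) D15707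
theorem F39840 : act 1 n17397 = n20515 := d8_3 F39824 F34994 F33016
theorem F39841 : act 2 n18534 = n20515 := d12_3 F39824 F33208 (iv F33159)
theorem F39842 : act 3 n20514 = n17397 := d7_0 F39840 (iv D20515) D20514
theorem F39843 : act 0 n17398 = n20514 := d2_3 F39842 (iv D17397) D17398
theorem F39844 : act 2 n18396 = n16690 := d1_2 F39544 D18396 F29476
theorem F39845 : act 2 n18394 = n16697 := d13_3 (iv D16697) F39544 (iv F32283)
theorem F39846 : act 2 n18398 = n16679 := d14_3 F29465 F39544 D18398
def n20795 : Q := act 0 n15499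
theorem D20795 : act 0 n15499 = n20795 := rfl
theorem F39847 : act 3 n20795 = n15500 := d2_2 (iv F26911) D20795 (iv D15500)
theorem F39848 : act 6 n20795 = n18625 := d5_2 F39482 D20795 (iv F39480)
def n20796 : Q := act 2 n15499
theorem D20796 : act 2 n15499 = n20796 := rfl
theorem F39849 : act 1 n20796 = n17367 := d6_1 D20796 (iv D17367) F22460 (iv F20879) D15499
def n20797 : Q := act 2 n15500
theorem D20797 : act 2 n15500 = n20797 := rfl
theorem F39850 : act 0 n20797 = n15501 := d1_1 D20797 (iv D15501) D15500
theorem F39851 : act 4 n20797 = n15504 := d12_2 (iv F26912) D20797 (iv D15504)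
def n20798 : Q := act 5 n15500
theorem D20798 : act 5 n15500 = n20798 := rfl
theorem F39852 : act 0 n20798 = n15502 := d4_1 D20798 (iv D15502) D15500
theorem F39853 : act 1 n20798 = n15565 := d9_1 D20798 F34193 (iv F32081) D18528 (iv F33254)
theorem F39854 : act 4 n20798 = n15505 := d18_1 D20798 (iv D15505) (iv F26912)
theorem F39855 : act 6 n20798 = n20784 := d20_2 F39490 D20798 (iv D20784) F26892 D15502 F33202 (iv F39491)
def n20799 : Q := act 3 n15501
theorem D20799 : act 3 n15501 = n20799 := rfl
theorem F39856 : act 1 n20799 = n15510 := d7_1 D20799 (iv D15510) (iv F26913)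
def n20800 : Q := act 5 n15501
theorem D20800 : act 5 n15501 = n20800 := rfl
theorem F39857 : act 1 n20800 = n17547 := d9_1 D20800 F30766 F22714 F32548 (iv F26913)
theorem F39858 : act 2 n20800 = n15502 := d13_1 D20800 (iv D15502) D15501
theorem F39859 : act 4 n20800 = n15507 := d18_1 D20800 (iv D15507) (iv F26914)
def n20801 : Q := act 1 n15504
theorem D20801 : act 1 n15504 = n20801 := rfl
theorem F39860 : act 2 n20801 = n19441 := d6_2 D15504 D20801 F36400 (iv F32113) F33252
theorem F39861 : act 1 n17637 = n19382 := d23_14 (iv F36401) (iv F39860) (iv D20801) F26917 D15507 F26922 F20884 (iv F22452) (iv D12827) F18219 D10413 (iv F35401) D12981 (iv F30864) F36241 D19387 F36256 D19479 F36467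
theorem F39862 : act 2 n19474 = n17638 := d6_4 (iv F30864) F39861 F36242 D19474 (iv D17638)
theorem F39863 : act 0 n18520 = n20801 := d1_3 F39860 (iv F36550) F36551
theorem F39864 : act 3 n18518 = n20801 := d11_0 F39860 (iv D19441) (iv D14244) (iv F21048) (iv F32495) F23746 D13515 D18520 (iv F36551) F36552 (iv D19440) (iv F27203) (iv F33085) F33086 D18518
theorem F39865 : act 5 n19494 = n20801 := d13_0 F39860 F36401 D19494
theorem F39866 : act 6 n19448 = n20801 := d14_0 F39860 F36402 D19448
def n20802 : Q := act 3 n15504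
theorem D20802 : act 3 n15504 = n20802 := rfl
theorem F39867 : act 0 n20802 = n15506 := d2_1 D20802 (iv D15506) (iv F26917)
theorem F39868 : act 1 n20802 = n18518 := d7_1 D20802 F39864 (iv D20801)
def n20803 : Q := act 5 n15504
theorem D20803 : act 5 n15504 = n20803 := rfl
theorem F39869 : act 0 n20803 = n15507 := d4_1 D20803 (iv D15507) (iv F26917)
theorem F39870 : act 1 n20803 = n15780 := d9_1 D20803 (iv F36455) (iv F36533) F39865 (iv D20801)
theorem F39871 : act 2 n20803 = n15505 := d13_1 D20803 (iv D15505) D15504
theorem F39872 : act 6 n20803 = n20789 := d22_1 D20803 (iv D20789) F26899 (iv F26917)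
def n20804 : Q := act 2 n15506
theorem D20804 : act 2 n15506 = n20804 := rfl
def n20805 : Q := act 4 n15506
theorem D20805 : act 4 n15506 = n20805 := rfl
theorem F39873 : act 1 n20805 = n15514 := d8_1 D20805 (iv D15514) (iv F26920)
def n20806 : Q := act 5 n15506
theorem D20806 : act 5 n15506 = n20806 := rfl
theorem F39874 : act 1 n20806 = n17603 := d9_1 D20806 F30830 F22748 (iv F20895) (iv F26920)
theorem F39875 : act 3 n20806 = n15507 := d16_1 D20806 (iv D15507) D15506
def n20807 : Q := act 6 n15507
theorem D20807 : act 6 n15507 = n20807 := rfl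
theorem F39876 : act 0 n20807 = n20789 := d5_1 D20807 (iv F39872) F39869
theorem F39877 : act 2 n20807 = n15508 := d14_1 D20807 (iv D15508) (iv F26922)
theorem F39878 : act 5 n20807 = n20787 := d20_1 D20807 F39508 D20803 F39872 (iv D20789) F26899 D15507
theorem F39879 : act 1 n19861 = n20807 := d6_5 F39877 F39540 (iv D15205) (iv F25518) D19861
def n20808 : Q := act 4 n15510
theorem D20808 : act 4 n15510 = n20808 := rfl
theorem F39880 : act 2 n20808 = n17403 := d12_1 D20808 (iv D17403) F32605
theorem F39881 : act 3 n20808 = n15514 := d15_1 D20808 (iv D15514) (iv D11823) (iv F20889) D15510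
theorem F39882 : act 5 n20808 = n17562 := d18_2 F32606 D20808 (iv D17562)
theorem F39883 : act 6 n20808 = n15699 := d19_2 (iv F26930) D20808 (iv D15699)
def n20809 : Q := act 0 n15511
theorem D20809 : act 0 n15511 = n20809 := rfl
theorem F39884 : act 1 n20809 = n15652 := d0_2 D15511 D20809 F36119 (iv F33118) F39863 (iv D20801) F26917 F20883 (iv F20892)
theorem F39885 : act 3 n19094 = n20809 := d7_0 F39884 F36120 D19094
def n20810 : Q := act 3 n15511
theorem D20810 : act 3 n15511 = n20810 := rfl
theorem F39886 : act 0 n20810 = n19094 := d2_1 D20810 F39885 (iv D20809)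
theorem F39887 : act 1 n20810 = n15512 := d7_1 D20810 (iv D15512) D15511
def n20811 : Q := act 5 n15511
theorem D20811 : act 5 n15511 = n20811 := rfl
theorem F39888 : act 1 n20811 = n17649 := d9_1 D20811 (iv D17649) (iv D12987) (iv F20893) D15511
theorem F39889 : act 4 n20811 = n17312 := d18_1 D20811 (iv F35207) F33042
theorem F39890 : act 6 n17310 = n20811 := d19_0 F39889 (iv D17312) D17310
def n20812 : Q := act 6 n15511
theorem D20812 : act 6 n15511 = n20812 := rfl
theorem F39891 : act 1 n20812 = n15709 := d10_1 D20812 (iv D15709) (iv D11920) (iv F20894) D15511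
def n20813 : Q := act 4 n15512
theorem D20813 : act 4 n15512 = n20813 := rfl
theorem F39892 : act 0 n20813 = n15514 := d3_1 D20813 (iv D15514) (iv F26931)
theorem F39893 : act 2 n20813 = n15591 := d12_1 D20813 (iv D15591) (iv F26934)
theorem F39894 : act 5 n20813 = n15840 := d18_2 (iv F26932) D20813 (iv D15840)
theorem F39895 : act 6 n20813 = n15710 := d19_2 (iv F26933) D20813 (iv D15710)
def n20814 : Q := act 1 n15513
theorem D20814 : act 1 n15513 = n20814 := rfl
theorem F39896 : act 3 n20814 = n15590 := d7_2 (iv F26936) D20814 (iv D15590)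
def n20815 : Q := act 4 n15513
theorem D20815 : act 4 n15513 = n20815 := rfl
theorem F39897 : act 0 n20815 = n15591 := d3_1 D20815 (iv D15591) (iv F26935)
theorem F39898 : act 2 n20815 = n15514 := d12_1 D20815 (iv D15514) D15513
theorem F39899 : act 5 n20815 = n15838 := d18_2 (iv F26937) D20815 (iv D15838)
theorem F39900 : act 6 n20815 = n15712 := d19_2 (iv F26938) D20815 (iv D15712)
def n20816 : Q := act 2 n15516
theorem D20816 : act 2 n15516 = n20816 := rfl
theorem F39901 : act 0 n20816 = n19587 := d1_1 D20816 F36809 F35502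
theorem F39902 : act 1 n20816 = n20816 := d6_1 D20816 (iv D20816) F26942 F20900 (iv F26942)
theorem F39903 : act 3 n20816 = n16563 := d11_2 D15516 D20816 F28757 F34371 F26641 F34268 (iv F23721) (iv F32446) (iv F36809) F36810 F29913 F22178 F20729 (iv F14558) (iv F20897)
theorem F39904 : act 4 n20816 = n19581 := d12_2 F36623 D20816 F36787
theorem F39905 : act 6 n20816 = n16561 := d14_2 (iv F35501) D20816 (iv F32419)
def n20817 : Q := act 5 n15516
theorem D20817 : act 5 n15516 = n20817 := rfl
theorem F39906 : act 0 n20817 = n20762 := d4_1 D20817 F39410 F35502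
theorem F39907 : act 3 n20817 = n15518 := d16_1 D20817 (iv D15518) D15516
theorem F39908 : act 6 n20817 = n18469 := d20_2 (iv F35501) D20817 (iv D18469) D18470 (iv F39410) (iv D20762) (iv F32421)
def n20818 : Q := act 0 n15534
theorem D20818 : act 0 n15534 = n20818 := rfl
theorem F39909 : act 3 n20818 = n20744 := d2_2 (iv F26976) D20818 (iv D20744)
theorem F39910 : act 4 n20818 = n18485 := d3_2 (iv F34279) D20818 (iv D18485)
theorem F39911 : act 5 n20818 = n15537 := d4_2 (iv F26977) D20818 (iv D15537)
def n20819 : Q := act 6 n15534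
theorem D20819 : act 6 n15534 = n20819 := rfl
theorem F39912 : act 1 n20819 = n18478 := d10_1 D20819 (iv D18478) (iv D13489) F34280 D15534
theorem F39913 : act 3 n20819 = n20745 := d17_1 D20819 (iv D20745) (iv F26976)
theorem F39914 : act 4 n20819 = n18484 := d19_1 D20819 F33074 (iv F34279)
def n20820 : Q := act 6 n15537
theorem D20820 : act 6 n15537 = n20820 := rfl
theorem F39915 : act 0 n20820 = n15539 := d5_1 D20820 (iv D15539) D15537
theorem F39916 : act 3 n20820 = n20750 := d17_1 D20820 (iv D20750) (iv F26983)
theorem F39917 : act 5 n20820 = n20819 := d22_2 F39911 D20820 (iv D20819) D20818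
def n20821 : Q := act 5 n15539
theorem D20821 : act 5 n15539 = n20821 := rfl
theorem F39918 : act 0 n20821 = n20819 := d4_1 D20821 (iv F39917) F39915
theorem F39919 : act 2 n20821 = n19490 := d13_1 D20821 F36514 (iv F33009)
theorem F39920 : act 3 n20821 = n20751 := d16_1 D20821 (iv D20751) (iv F26986)
theorem F39921 : act 6 n20821 = n20818 := d20_2 D15539 D20821 F39911 D20820 F39917 (iv D20819) F26977
def n20822 : Q := act 5 n15543
theorem D20822 : act 5 n15543 = n20822 := rfl
theorem F39922 : act 0 n20822 = n15545 := d4_1 D20822 (iv D15545) D15543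
theorem F39923 : act 2 n20822 = n15545 := d13_1 D20822 (iv D15545) (iv F26992)
theorem F39924 : act 3 n20822 = n20713 := d16_1 D20822 (iv D20713) (iv F26991)
theorem F39925 : act 1 n20822 = n19829 := d24_2 F35437 D20822 F37432 D19835 F39433 (iv D20768) (iv D15466) (iv D11797) D11801 (iv F20863) D15488 F35010 (iv D15551) (iv F26996)
def n20823 : Q := act 5 n15546
theorem D20823 : act 5 n15546 = n20823 := rfl
theorem F39926 : act 0 n20823 = n20077 := d4_1 D20823 F37937 F35434
theorem F39927 : act 1 n20823 = n19842 := d9_1 D20823 F39437 (iv D18554) F23798 (iv F34429)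
theorem F39928 : act 2 n20823 = n20077 := d13_1 D20823 F37937 F35435
theorem F39929 : act 3 n20823 = n18506 := d16_1 D20823 (iv D18506) (iv F34430)
theorem F39930 : act 4 n20823 = n20822 := d18_1 D20823 (iv D20822) F35436
theorem F39931 : act 6 n20823 = n20822 := d20_2 D15546 D20823 (iv D20822) (iv F35437) (iv F37937) F37938 (iv D15545)
def n20824 : Q := act 3 n15547
theorem D20824 : act 3 n15547 = n20824 := rfl
theorem F39932 : act 0 n20824 = n15555 := d2_1 D20824 (iv D15555) (iv F26999)
theorem F39933 : act 1 n20824 = n20721 := d7_1 D20824 (iv D20721) (iv F27000)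
theorem F39934 : act 4 n20824 = n15550 := d15_2 D15547 D20824 (iv D15550) (iv D11842) D11841
theorem F39935 : act 6 n20824 = n18391 := d17_2 (iv F34306) D20824 F32272
def n20825 : Q := act 5 n15547
theorem D20825 : act 5 n15547 = n20825 := rfl
theorem F39936 : act 0 n20825 = n15556 := d4_1 D20825 (iv D15556) (iv F26999)
theorem F39937 : act 2 n20825 = n15556 := d13_1 D20825 (iv D15556) (iv F27001)
theorem F39938 : act 4 n20825 = n15548 := d18_1 D20825 (iv D15548) D15547
def n20826 : Q := act 5 n15550
theorem D20826 : act 5 n15550 = n20826 := rfl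
theorem F39939 : act 0 n20826 = n15562 := d4_1 D20826 (iv D15562) (iv F27008)
theorem F39940 : act 1 n20826 = n20082 := d9_1 D20826 F37954 (iv F39331) F39334 F35439
theorem F39941 : act 2 n20826 = n19130 := d13_1 D20826 (iv F35745) F35743
theorem F39942 : act 3 n20826 = n15551 := d16_1 D20826 (iv D15551) D15550
theorem F39943 : act 6 n20826 = n20777 := d22_1 D20826 F39471 (iv D15563) (iv F27008)
def n20827 : Q := act 2 n15555
theorem D20827 : act 2 n15555 = n20827 := rfl
theorem F39944 : act 1 n20827 = n18176 := d6_1 D20827 F31781 (iv F34181) F25787 (iv F27015)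
theorem F39945 : act 4 n20827 = n15561 := d12_2 (iv F27016) D20827 (iv D15561)
theorem F39946 : act 6 n18702 = n20827 := d19_0 F39945 F34170 (iv F33472)
def n20828 : Q := act 5 n15555
theorem D20828 : act 5 n15555 = n20828 := rfl
theorem F39947 : act 3 n20828 = n15556 := d16_1 D20828 (iv D15556) D15555
theorem F39948 : act 4 n20828 = n15562 := d18_1 D20828 (iv D15562) (iv F27016)
def n20829 : Q := act 6 n15555
theorem D20829 : act 6 n15555 = n20829 := rfl
theorem F39949 : act 0 n20829 = n18391 := d5_1 D20829 (iv F39935) F39932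
theorem F39950 : act 1 n20829 = n18712 := d10_1 D20829 F33497 (iv F34182) F25859 (iv F27015)
theorem F39951 : act 2 n20829 = n18702 := d14_1 D20829 F39946 (iv D20827)
theorem F39952 : act 3 n20829 = n15557 := d17_1 D20829 (iv D15557) D15555
theorem F39953 : act 4 n20829 = n15563 := d19_1 D20829 (iv D15563) (iv F27016)
def n20830 : Q := act 1 n15556
theorem D20830 : act 1 n15556 = n20830 := rfl
theorem F39954 : act 4 n20830 = n15558 := d8_2 (iv F27017) D20830 (iv D15558)
theorem F39955 : act 5 n20830 = n15573 := d9_2 D15556 D20830 (iv D15573) (iv D11855) (iv F20941)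
def n20831 : Q := act 5 n15557
theorem D20831 : act 5 n15557 = n20831 := rfl
theorem F39956 : act 0 n20831 = n18419 := d4_1 D20831 (iv D18419) (iv F34220)
theorem F39957 : act 2 n20831 = n18419 := d13_1 D20831 (iv D18419) (iv F34221)
theorem F39958 : act 4 n20831 = n15560 := d18_1 D20831 (iv D15560) (iv F27018)
theorem F39959 : act 6 n20831 = n20825 := d20_2 D15557 D20831 (iv D20825) F34306 D18419 (iv F35492) (iv D15556)
def n20832 : Q := act 5 n15561
theorem D20832 : act 5 n15561 = n20832 := rfl
theorem F39960 : act 0 n20832 = n19130 := d4_1 D20832 (iv F35745) F35742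
theorem F39961 : act 1 n20832 = n19148 := d9_1 D20832 (iv F35673) (iv D18226) F23493 (iv F34168)
theorem F39962 : act 2 n20832 = n15562 := d13_1 D20832 (iv D15562) D15561
theorem F39963 : act 3 n20832 = n19022 := d16_1 D20832 (iv D19022) (iv F34169)
def n20833 : Q := act 1 n15562
theorem D20833 : act 1 n15562 = n20833 := rfl
theorem F39964 : act 0 n20833 = n18585 := d0_1 D20833 (iv F39378) F39377 F26784 (iv F30328) (iv F34991) (iv F37951) (iv F39940) F39939
theorem F39965 : act 3 n20833 = n15564 := d7_2 (iv F27027) D20833 (iv D15564)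
theorem F39966 : act 5 n20833 = n15578 := d9_2 D15562 D20833 (iv D15578) (iv D11858) (iv F20944)
theorem F39967 : act 6 n18582 = n20833 := d24_0 F39966 (iv D15578) F20968 F20965 (iv F34180) (iv D10733) D10732 F28888 (iv F20878) (iv F20881) D15499 (iv F39482) (iv F39483) F33310
def n20834 : Q := act 6 n15562
theorem D20834 : act 6 n15562 = n20834 := rfl
theorem F39968 : act 0 n20834 = n20777 := d5_1 D20834 (iv F39943) F39939
theorem F39969 : act 3 n20834 = n15565 := d17_1 D20834 (iv D15565) (iv F27027)
theorem F39970 : act 5 n20834 = n15763 := d20_1 D20834 F35489 D20826 F39943 F39471 (iv D15563) D15562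
def n20835 : Q := act 0 n15564
theorem D20835 : act 0 n15564 = n20835 := rfl
theorem F39971 : act 1 n20835 = n20820 := d0_2 D15564 D20835 F39915 F26985 (iv F30530) F34987 F28957 (iv F35002) F27009
theorem F39972 : act 3 n20835 = n18585 := d2_2 F39965 D20835 (iv F39964)
theorem F39973 : act 4 n20835 = n15567 := d3_2 (iv F27029) D20835 (iv D15567)
theorem F39974 : act 5 n20835 = n15579 := d4_2 (iv F27030) D20835 (iv D15579)
theorem F39975 : act 6 n18540 = n20835 := d22_3 F27030 D15581 F34303 (iv D20835)
def n20836 : Q := act 2 n15564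
theorem D20836 : act 2 n15564 = n20836 := rfl
theorem F39976 : act 1 n20836 = n15770 := d6_1 D20836 (iv D15770) (iv D11950) (iv F20945) D15564
theorem F39977 : act 4 n20836 = n15568 := d12_2 (iv F27029) D20836 (iv D15568)
theorem F39978 : act 5 n20836 = n15580 := d13_2 (iv F27030) D20836 (iv D15580)
def n20837 : Q := act 6 n15564
theorem D20837 : act 6 n15564 = n20837 := rfl
theorem F39979 : act 0 n20837 = n18540 := d5_1 D20837 F39975 (iv D20835)
theorem F39980 : act 1 n20837 = n20784 := d10_1 D20837 (iv F39855) F39853 (iv D15565) D15564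
theorem F39981 : act 3 n20837 = n18582 := d17_1 D20837 F39967 F39965
theorem F39982 : act 4 n20837 = n15569 := d19_1 D20837 (iv D15569) (iv F27029)
theorem F39983 : act 5 n20837 = n20785 := d20_1 D20837 F39500 (iv F39974) (iv F39975) (iv F34303) (iv D15581) (iv F27030)
def n20838 : Q := act 1 n15567
theorem D20838 : act 1 n15567 = n20838 := rfl
theorem F39984 : act 0 n20838 = n15816 := d0_1 D20838 F32925 F34997 (iv D14683) (iv F25620) F35000 F20937 D11851 D15567
theorem F39985 : act 3 n20838 = n18497 := d7_2 F35058 D20838 (iv F33221)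
theorem F39986 : act 4 n20838 = n20820 := d8_2 F39973 D20838 (iv F39971)
theorem F39987 : act 5 n20838 = n18484 := d9_2 (iv F27038) D20838 (iv D18484) (iv F23777) F35052
theorem F39988 : act 6 n20838 = n15820 := d10_2 F27065 D20838 (iv F39778) (iv D20577) (iv F39652)
theorem F39989 : act 2 n15815 = n20838 := d23_1 F27364 (iv D20838) (iv D15567) F20949 D11861 F20970 (iv F20979) F20980 (iv D9912) D9911 (iv F32816) F19636 D11179 (iv F34934) (iv F24903) F24904 D19440 (iv F36399) (iv F27362)
def n20839 : Q := act 2 n15567
theorem D20839 : act 2 n15567 = n20839 := rfl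
theorem F39990 : act 0 n20839 = n15568 := d1_1 D20839 (iv D15568) D15567
theorem F39991 : act 5 n20839 = n15583 := d13_2 (iv F27038) D20839 (iv D15583)
def n20840 : Q := act 3 n15568
theorem D20840 : act 3 n15568 = n20840 := rfl
theorem F39992 : act 1 n20840 = n15776 := d7_1 D20840 (iv D15776) (iv F27039)
theorem F39993 : act 5 n20840 = n15585 := d16_2 (iv F27040) D20840 (iv D15585)
def n20841 : Q := act 6 n15568
theorem D20841 : act 6 n15568 = n20841 := rfl
theorem F39994 : act 2 n20841 = n15569 := d14_1 D20841 (iv D15569) D15568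
theorem F39995 : act 5 n20841 = n20790 := d22_2 (iv F27040) D20841 F39514 F27058
def n20842 : Q := act 1 n15572
theorem D20842 : act 1 n15572 = n20842 := rfl
theorem F39996 : act 3 n20842 = n15573 := d7_2 (iv F27043) D20842 (iv D15573)
theorem F39997 : act 4 n20842 = n15578 := d8_2 (iv F27044) D20842 (iv D15578)
def n20843 : Q := act 2 n15573
theorem D20843 : act 2 n15573 = n20843 := rfl
theorem F39998 : act 1 n20843 = n18896 := d6_1 D20843 (iv F35042) (iv D15399) (iv F20958) D15573
theorem F39999 : act 4 n20843 = n15575 := d12_2 (iv F27046) D20843 (iv D15575)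
theorem F40000 : act 6 n18900 = n20843 := d19_0 F39999 (iv F35024) (iv F33834)
def n20844 : Q := act 6 n15573
theorem D20844 : act 6 n15573 = n20844 := rfl
theorem F40001 : act 1 n20844 = n17441 := d10_1 D20844 (iv D17441) F22533 (iv F20960) D15573
theorem F40002 : act 2 n20844 = n18900 := d14_1 D20844 F40000 (iv D20843)
theorem F40003 : act 4 n20844 = n15576 := d19_1 D20844 (iv D15576) (iv F27046)
def n20845 : Q := act 5 n15576
theorem D20845 : act 5 n15576 = n20845 := rfl
theorem F40004 : act 0 n20845 = n19027 := d4_1 D20845 (iv F34121) F35031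
theorem F40005 : act 2 n20845 = n19026 := d13_1 D20845 F35026 (iv F35030)
theorem F40006 : act 3 n20845 = n15587 := d16_1 D20845 (iv D15587) (iv F27050)
theorem F40007 : act 6 n20845 = n18568 := d20_2 D15576 D20845 (iv D18568) (iv F33213) F34121 F35055 F27020
theorem F40008 : act 1 n16765 = n20845 := d7_3 F40006 F39652 (iv F29572)
def n20846 : Q := act 0 n15578
theorem D20846 : act 0 n15578 = n20846 := rfl
theorem F40009 : act 3 n20846 = n15579 := d2_2 (iv F27052) D20846 (iv D15579)
theorem F40010 : act 5 n20846 = n18585 := d4_2 F39966 D20846 (iv F39964)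
def n20847 : Q := act 2 n15578
theorem D20847 : act 2 n15578 = n20847 := rfl
theorem F40011 : act 1 n20847 = n17444 := d6_1 D20847 (iv D17444) F22536 (iv F20966) D15578
def n20848 : Q := act 2 n15579
theorem D20848 : act 2 n15579 = n20848 := rfl
theorem F40012 : act 0 n20848 = n15580 := d1_1 D20848 (iv D15580) D15579
theorem F40013 : act 4 n20848 = n15583 := d12_2 (iv F27053) D20848 (iv D15583)
def n20849 : Q := act 3 n15580
theorem D20849 : act 3 n15580 = n20849 := rfl
theorem F40014 : act 1 n20849 = n15589 := d7_1 D20849 (iv D15589) (iv F27054)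
def n20850 : Q := act 6 n15580
theorem D20850 : act 6 n15580 = n20850 := rfl
theorem F40015 : act 1 n20850 = n17584 := d10_1 D20850 F34421 F22843 (iv F32780) (iv F27054)
theorem F40016 : act 2 n20850 = n15581 := d14_1 D20850 (iv D15581) D15580
theorem F40017 : act 4 n20850 = n15586 := d19_1 D20850 (iv D15586) (iv F27055)
def n20851 : Q := act 1 n15583
theorem D20851 : act 1 n15583 = n20851 := rfl
theorem F40018 : act 2 n20851 = n19433 := d6_2 D15583 D20851 (iv D19433) (iv F29106) F35052
theorem F40019 : act 6 n20851 = n19443 := d10_2 F39514 D20851 (iv F36592) F36594 (iv F39513)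
theorem F40020 : act 0 n18501 = n20851 := d1_3 F40018 F36416 F36413
theorem F40021 : act 3 n18499 = n20851 := d11_0 F40018 F36378 F34938 (iv F21130) F34281 F23741 D13507 D18501 (iv F36413) F36414 F36384 (iv F27358) (iv F35494) F33075 D18499
theorem F40022 : act 5 n19498 = n20851 := d13_0 F40018 F36379 D19498
def n20852 : Q := act 3 n15583
theorem D20852 : act 3 n15583 = n20852 := rfl
theorem F40023 : act 0 n20852 = n15585 := d2_1 D20852 (iv D15585) (iv F27058)
theorem F40024 : act 1 n20852 = n18499 := d7_1 D20852 F40021 (iv D20851)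
theorem F40025 : act 0 n19070 = n20814 := d0_5 F40024 F33096 F23753 (iv F24363) D19070 (iv D20814) F26935 (iv F27061) (iv F40023)
def n20853 : Q := act 2 n15585
theorem D20853 : act 2 n15585 = n20853 := rfl
def n20854 : Q := act 4 n15585
theorem D20854 : act 4 n15585 = n20854 := rfl
theorem F40026 : act 1 n20854 = n15591 := d8_1 D20854 (iv D15591) (iv F27061)
def n20855 : Q := act 6 n15585
theorem D20855 : act 6 n15585 = n20855 := rfl
theorem F40027 : act 1 n20855 = n17782 := d10_1 D20855 F31068 F22877 (iv F20983) (iv F27061)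
theorem F40028 : act 3 n20855 = n15586 := d17_1 D20855 (iv D15586) D15585
def n20856 : Q := act 5 n15586
theorem D20856 : act 5 n15586 = n20856 := rfl
theorem F40029 : act 0 n20856 = n20841 := d4_1 D20856 F39995 F39512
theorem F40030 : act 2 n20856 = n15587 := d13_1 D20856 (iv D15587) (iv F27063)
theorem F40031 : act 6 n20856 = n20839 := d20_2 D15586 D20856 F39991 (iv F39514) (iv F39995) (iv D20841) F27040
theorem F40032 : act 1 n19883 = n20856 := d6_5 F40030 F39652 (iv D15238) (iv F25535) D19883
def n20857 : Q := act 4 n15589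
theorem D20857 : act 4 n15589 = n20857 := rfl
theorem F40033 : act 2 n20857 = n17326 := d12_1 D20857 (iv D17326) (iv F32708)
theorem F40034 : act 3 n20857 = n15591 := d15_1 D20857 (iv D15591) (iv D11866) (iv F20976) D15589
theorem F40035 : act 5 n20857 = n15827 := d18_2 (iv F27070) D20857 (iv D15827)
theorem F40036 : act 6 n20857 = n17738 := d19_2 F32748 D20857 (iv D17738)
def n20858 : Q := act 0 n15590
theorem D20858 : act 0 n15590 = n20858 := rfl
theorem F40037 : act 1 n20858 = n15777 := d0_2 D15590 D20858 F35974 (iv F33099) F40020 (iv D20851) F27058 F20970 (iv F20979)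
theorem F40038 : act 3 n20858 = n19070 := d2_2 F39896 D20858 F40025
def n20859 : Q := act 5 n15590
theorem D20859 : act 5 n15590 = n20859 := rfl
theorem F40039 : act 1 n20859 = n15836 := d9_1 D20859 (iv D15836) (iv D11981) (iv F20980) D15590
def n20860 : Q := act 6 n15590
theorem D20860 : act 6 n15590 = n20860 := rfl
theorem F40040 : act 1 n20860 = n17824 := d10_1 D20860 (iv D17824) (iv D13072) (iv F20981) D15590
theorem F40041 : act 2 n20860 = n20811 := d14_1 D20860 (iv F39890) (iv F33024)
theorem F40042 : act 4 n20860 = n17390 := d19_1 D20860 F35210 F33023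
theorem F40043 : act 5 n17389 = n20860 := d18_0 F40042 (iv D17390) D17389
def n20861 : Q := act 3 n15593
theorem D20861 : act 3 n15593 = n20861 := rfl
theorem F40044 : act 1 n20861 = n20861 := d7_1 D20861 (iv D20861) F27076
theorem F40045 : act 5 n20861 = n15857 := d16_2 (iv F29091) D20861 (iv D15857)
def n20862 : Q := act 6 n15593
theorem D20862 : act 6 n15593 = n20862 := rfl
theorem F40046 : act 2 n20862 = n15596 := d14_1 D20862 (iv D15596) D15593
theorem F40047 : act 4 n20862 = n15871 := d19_1 D20862 (iv D15871) (iv F29090)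
def n20863 : Q := act 1 n15596
theorem D20863 : act 1 n15596 = n20863 := rfl
theorem F40048 : act 3 n20863 = n15621 := d7_2 (iv F27079) D20863 (iv D15621)
theorem F40049 : act 4 n20863 = n15889 := d8_2 (iv F29093) D20863 (iv D15889)
theorem F40050 : act 6 n20863 = n15601 := d10_2 D15596 D20863 (iv D15601) (iv D11870) D11867
def n20864 : Q := act 0 n15601
theorem D20864 : act 0 n15601 = n20864 := rfl
theorem F40051 : act 3 n20864 = n15631 := d2_2 (iv F27089) D20864 (iv D15631)
def n20865 : Q := act 2 n15601
theorem D20865 : act 2 n15601 = n20865 := rfl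
theorem F40052 : act 1 n20865 = n20865 := d6_1 D20865 (iv D20865) (iv D15601) F20991 D15601
def n20866 : Q := act 5 n15601
theorem D20866 : act 5 n15601 = n20866 := rfl
theorem F40053 : act 3 n20866 = n15633 := d16_1 D20866 (iv D15633) (iv F27089)
theorem F40054 : act 6 n15832 = n20866 := d24_0 (iv D20866) (iv D15601) (iv D11870) F29058 F17526 (iv F12777) F12776 D11147 (iv F24886) F34939 F19802 D11184 (iv F21141) D15832
theorem F40055 : act 2 n20866 = n15837 := d14_1 F40054 (iv D15837) (iv F27376)
theorem F40056 : act 5 n15837 = n20865 := d13_2 D20866 F40055 (iv D20865)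
def n20867 : Q := act 0 n15607
theorem D20867 : act 0 n15607 = n20867 := rfl
theorem F40057 : act 3 n20867 = n15646 := d2_2 (iv F27103) D20867 (iv D15646)
theorem F40058 : act 4 n20867 = n20864 := d3_2 F29184 D20867 (iv D20864)
def n20868 : Q := act 2 n15607
theorem D20868 : act 2 n15607 = n20868 := rfl
theorem F40059 : act 1 n20868 = n20868 := d6_1 D20868 (iv D20868) (iv D15607) F20999 D15607
theorem F40060 : act 4 n20868 = n20865 := d12_2 F29184 D20868 (iv D20865)
theorem F40061 : act 3 n20868 = n19660 := d21_1 D20868 (iv D19660) (iv F36953) (iv F37541) (iv F36443) F36512 (iv F40057) (iv D20867)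
def n20869 : Q := act 5 n15607
theorem D20869 : act 5 n15607 = n20869 := rfl
theorem F40062 : act 1 n20869 = n20866 := d9_1 D20869 (iv D20866) (iv D15601) (iv F21001) D15607
theorem F40063 : act 3 n20869 = n15648 := d16_1 D20869 (iv D15648) (iv F27103)
theorem F40064 : act 4 n20869 = n20866 := d18_1 D20869 (iv D20866) F29184
theorem F40065 : act 6 n19404 = n20869 := d24_0 (iv D20869) (iv D15607) (iv D11874) (iv D9853) (iv D4861) (iv F6243) F6242 D8524 (iv F19762) D14245 F34934 F32815 (iv F24763) D19404
def n20870 : Q := act 2 n15612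
theorem D20870 : act 2 n15612 = n20870 := rfl
theorem F40066 : act 0 n20870 = n20688 := d1_1 D20870 (iv D20688) (iv F27108)
theorem F40067 : act 1 n20870 = n19234 := d6_1 D20870 F35863 F28994 D15323 (iv F27109)
theorem F40068 : act 4 n20870 = n16264 := d12_2 F32196 D20870 F32198
theorem F40069 : act 5 n20870 = n16263 := d13_2 F32070 D20870 (iv F32071)
theorem F40070 : act 3 n16806 = n20870 := d25_1 (iv F29648) (iv D20870) (iv D15612) (iv D11877) (iv D9856) (iv F17525) F17524 F17525 (iv F14467) D11797 F20847 (iv D11727) (iv D9611) F14790 (iv D4650) D4651 (iv F7147) (iv D4693) (iv D2256) F1896 (iv D572) (iv D289) F282 D289 (iv F1040) F1041 D561 (iv F14684) (iv D1049) (iv D529) (iv D268) (iv F533) F532 F533 (iv F471) D453 (iv F1578) (iv F14816) F1633 D942 F14826 D1918 F14727 (iv D3744) (iv D1805) F14829 (iv F14815) (iv D919) F897 D476 F915 (iv F917) D961 D1959 (iv F3836) (iv D2440) (iv F3827) (iv D2437) F1998 D2437 D5053 D9927 D12001 D15867 (iv F29422) F29421 F29138 (iv F29134) F29133 F27459 F29131 (iv D11136) (iv F17651) (iv F21179) D15864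 (iv F29433) F29432
def n20871 : Q := act 6 n15612
theorem D20871 : act 6 n15612 = n20871 := rfl
theorem F40071 : act 0 n20871 = n20689 := d5_1 D20871 (iv D20689) (iv F27108)
theorem F40072 : act 3 n20871 = n15615 := d17_1 D20871 (iv D15615) D15612
theorem F40073 : act 4 n20871 = n18387 := d19_1 D20871 F32263 F32196
theorem F40074 : act 5 n20871 = n18311 := d22_2 F32070 D20871 (iv D18311) D18309
theorem F40075 : act 1 n18620 = n20871 := d0_0 F40071 (iv F39365) (iv F39380) F39381 (iv D18514) (iv D13513) (iv F19136) D13584 D18620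
def n20872 : Q := act 1 n15615
theorem D20872 : act 1 n15615 = n20872 := rfl
theorem F40076 : act 2 n20872 = n19839 := d6_2 (iv F27112) D20872 (iv F37650) F37651 (iv D15621)
theorem F40077 : act 3 n20872 = n18620 := d7_2 F40072 D20872 F40075
theorem F40078 : act 4 n20872 = n18539 := d8_2 (iv F29099) D20872 (iv D18539)
theorem F40079 : act 6 n20872 = n19838 := d10_2 D15615 D20872 F39427 (iv D20767) (iv F26852)
theorem F40080 : act 0 n20872 = n18554 := d22_4 (iv F39437) (iv D19842) (iv F37455) (iv F40079)
def n20873 : Q := act 1 n15618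
theorem D20873 : act 1 n15618 = n20873 := rfl
theorem F40081 : act 3 n20873 = n19434 := d7_2 F29110 D20873 (iv D19434)
theorem F40082 : act 4 n20873 = n15621 := d8_2 (iv F27115) D20873 (iv D15621)
theorem F40083 : act 6 n20873 = n15627 := d10_2 D15618 D20873 (iv D15627) (iv D11883) (iv F21006)
theorem F40084 : act 5 n15677 = n20873 := d24_1 D15677 (iv D20873) (iv D15618) (iv F29084) F19757 D11146 (iv F19823) (iv F24991) F29067 (iv F27154) (iv D15653) (iv F21038) (iv D11906) D11904
def n20874 : Q := act 1 n15620
theorem D20874 : act 1 n15620 = n20874 := rfl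
theorem F40085 : act 0 n20874 = n19496 := d0_1 D20874 (iv D19496) F24964 F19802 (iv F19810) D14312 D19504 (iv F36560) F27119
theorem F40086 : act 3 n20874 = n15673 := d7_2 (iv F29085) D20874 F27184
theorem F40087 : act 4 n20874 = n19433 := d8_2 (iv F29086) D20874 (iv D19433)
theorem F40088 : act 5 n20874 = n19499 := d9_2 (iv F27117) D20874 F36542 (iv F36316) F36315
theorem F40089 : act 6 n20874 = n15660 := d10_2 D15620 D20874 (iv D15660) (iv D11898) (iv F29066)
def n20875 : Q := act 0 n15621
theorem D20875 : act 0 n15621 = n20875 := rfl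
theorem F40090 : act 6 n20875 = n15631 := d5_2 (iv F27118) D20875 (iv D15631)
def n20876 : Q := act 5 n15621
theorem D20876 : act 5 n15621 = n20876 := rfl
theorem F40091 : act 4 n20876 = n15677 := d18_1 D20876 F40084 F40082
theorem F40092 : act 6 n20876 = n15664 := d22_1 D20876 (iv F36528) (iv F40090) (iv D20875)
def n20877 : Q := act 1 n15631
theorem D20877 : act 1 n15631 = n20877 := rfl
def n20878 : Q := act 6 n15633
theorem D20878 : act 6 n15633 = n20878 := rfl
theorem F40093 : act 0 n20878 = n20876 := d5_1 D20878 F40092 F36525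
theorem F40094 : act 3 n20878 = n15832 := d17_1 D20878 F40054 F40053
theorem F40095 : act 5 n20878 = n20875 := d20_1 D20878 F40090 F36528 (iv F40092) (iv D20876) F27118 D15633
theorem F40096 : act 1 n15833 = n20878 := d24_14 (iv D20878) (iv D15633) (iv D11885) (iv D9859) D9858 (iv F29049) (iv F19824) F19823 D14247 (iv F36380) F36379 F24967 D14315 (iv F27377)
def n20879 : Q := act 0 n15639
theorem D20879 : act 0 n15639 = n20879 := rfl
theorem F40097 : act 3 n20879 = n15642 := d2_2 (iv F27137) D20879 (iv D15642)
theorem F40098 : act 4 n20879 = n15654 := d3_2 (iv F29075) D20879 (iv D15654)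
theorem F40099 : act 5 n20879 = n15691 := d4_2 (iv F39728) D20879 F39729
theorem F40100 : act 6 n20879 = n15661 := d5_2 (iv F27138) D20879 (iv D15661)
def n20880 : Q := act 1 n15642
theorem D20880 : act 1 n15642 = n20880 := rfl
theorem F40101 : act 4 n20880 = n15649 := d8_2 (iv F27143) D20880 (iv D15649)
theorem F40102 : act 5 n20880 = n19447 := d9_2 F34932 D20880 (iv D19447) (iv D14253) D14251
def n20881 : Q := act 1 n15646
theorem D20881 : act 1 n15646 = n20881 := rfl
def n20882 : Q := act 6 n15648
theorem D20882 : act 6 n15648 = n20882 := rfl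
theorem F40103 : act 0 n20882 = n19438 := d5_1 D20882 F36573 F36570
theorem F40104 : act 1 n20882 = n19405 := d10_1 D20882 F36314 F40096 (iv D20878) (iv F27149)
theorem F40105 : act 2 n20882 = n19468 := d14_1 D20882 (iv F36495) F36492
theorem F40106 : act 3 n20882 = n19404 := d17_1 D20882 F40065 F40063
theorem F40107 : act 5 n20882 = n19436 := d20_1 D20882 F36389 F36572 (iv F36573) (iv D19438) F24890 D15648
def n20883 : Q := act 0 n15649
theorem D20883 : act 0 n15649 = n20883 := rfl
theorem F40108 : act 5 n20883 = n19636 := d4_2 F36548 D20883 (iv F36935)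
theorem F40109 : act 6 n19508 = n20883 := d22_3 (iv F36548) F36549 D19508 (iv D20883)
def n20884 : Q := act 2 n15649
theorem D20884 : act 2 n15649 = n20884 := rfl
theorem F40110 : act 5 n20884 = n19374 := d13_2 F36548 D20884 (iv F36546)
def n20885 : Q := act 6 n15649
theorem D20885 : act 6 n15649 = n20885 := rfl
theorem F40111 : act 0 n20885 = n19508 := d5_1 D20885 F40109 (iv D20883)
theorem F40112 : act 1 n20885 = n15677 := d10_1 D20885 (iv D15677) (iv D11904) (iv F21021) D15649
theorem F40113 : act 5 n20885 = n18536 := d20_1 D20885 (iv F36934) (iv F40108) (iv F40109) (iv D19508) (iv F36549) F36548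
def n20886 : Q := act 1 n15650
theorem D20886 : act 1 n15650 = n20886 := rfl
theorem F40114 : act 3 n20886 = n19085 := d7_2 (iv F36122) D20886 F35553
def n20887 : Q := act 4 n15651
theorem D20887 : act 4 n15651 = n20887 := rfl
theorem F40115 : act 0 n20887 = n18775 := d3_1 D20887 F33606 (iv F36114)
theorem F40116 : act 2 n20887 = n18774 := d12_1 D20887 F33604 (iv F36115)
theorem F40117 : act 5 n20887 = n18778 := d18_2 (iv F36116) D20887 F33611
theorem F40118 : act 6 n20887 = n15683 := d19_2 (iv F27152) D20887 (iv D15683)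
def n20888 : Q := act 0 n15653
theorem D20888 : act 0 n15653 = n20888 := rfl
theorem F40119 : act 1 n20888 = n15671 := d0_2 D15653 D20888 (iv D15671) (iv D11903) F17551 D11147 D14248 F34945 F21043
theorem F40120 : act 3 n20888 = n19519 := d2_2 F36602 D20888 (iv F36600)
theorem F40121 : act 4 n20888 = n15691 := d3_2 F39725 D20888 F39729
theorem F40122 : act 5 n20888 = n15654 := d4_2 (iv F27154) D20888 (iv D15654)
theorem F40123 : act 6 n19518 = n20888 := d22_3 F27154 (iv F29067) D19518 (iv D20888)
def n20889 : Q := act 6 n15653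
theorem D20889 : act 6 n15653 = n20889 := rfl
theorem F40124 : act 0 n20889 = n19518 := d5_1 D20889 F40123 (iv D20888)
theorem F40125 : act 3 n20889 = n19513 := d17_1 D20889 (iv F36604) F36602
theorem F40126 : act 5 n20889 = n19512 := d20_1 D20889 (iv F36583) (iv F40122) (iv F40123) (iv D19518) F29067 (iv F27154)
def n20890 : Q := act 1 n15654
theorem D20890 : act 1 n15654 = n20890 := rfl
def n20891 : Q := act 2 n15654
theorem D20891 : act 2 n15654 = n20891 := rfl
theorem F40127 : act 0 n20891 = n15655 := d1_1 D20891 (iv D15655) D15654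
def n20892 : Q := act 3 n15655
theorem D20892 : act 3 n15655 = n20892 := rfl
def n20893 : Q := act 0 n15660
theorem D20893 : act 0 n15660 = n20893 := rfl
theorem F40128 : act 1 n20893 = n19519 := d0_2 D15660 D20893 (iv F36600) F36601 F24999 F36404 (iv D19442) (iv D14247) (iv F21025)
theorem F40129 : act 3 n20893 = n15671 := d2_2 (iv F27163) D20893 (iv D15671)
theorem F40130 : act 4 n20893 = n19442 := d3_2 (iv F27164) D20893 (iv D19442)
theorem F40131 : act 6 n20893 = n19496 := d5_2 F40089 D20893 (iv F40085)
def n20894 : Q := act 2 n15660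
theorem D20894 : act 2 n15660 = n20894 := rfl
theorem F40132 : act 1 n20894 = n15662 := d6_1 D20894 (iv D15662) (iv D11899) (iv F21026) D15660
theorem F40133 : act 4 n20894 = n19443 := d12_2 (iv F27164) D20894 (iv D19443)
def n20895 : Q := act 5 n15660
theorem D20895 : act 5 n15660 = n20895 := rfl
theorem F40134 : act 1 n20895 = n15663 := d9_1 D20895 (iv D15663) (iv D11899) (iv F21029) D15660
theorem F40135 : act 3 n20895 = n15669 := d16_1 D20895 F27177 (iv F27163)
theorem F40136 : act 4 n20895 = n19444 := d18_1 D20895 (iv D19444) (iv F27164)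
def n20896 : Q := act 1 n15661
theorem D20896 : act 1 n15661 = n20896 := rfl
theorem F40137 : act 3 n20896 = n15664 := d7_2 (iv F27165) D20896 (iv D15664)
theorem F40138 : act 0 n20866 = n20896 := d2_3 F40137 F36525 (iv F40053)
theorem F40139 : act 5 n20864 = n20896 := d16_0 F40137 (iv F36528) (iv F40051)
def n20897 : Q := act 2 n15661
theorem D20897 : act 2 n15661 = n20897 := rfl
theorem F40140 : act 0 n20897 = n15662 := d1_1 D20897 (iv D15662) D15661
theorem F40141 : act 3 n20897 = n16899 := d11_2 (iv F27165) D20897 F29791 (iv F26594) (iv F39702) (iv D15667) (iv D11901) (iv F21030) D15662 F39719 F29783 (iv F22292) (iv F30105) F39718 (iv D15665)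
theorem F40142 : act 5 n16897 = n20897 := d16_0 F40141 (iv D16899) (iv F29788)
def n20898 : Q := act 5 n15661
theorem D20898 : act 5 n15661 = n20898 := rfl
theorem F40143 : act 0 n20898 = n15663 := d4_1 D20898 (iv D15663) D15661
theorem F40144 : act 2 n20898 = n16897 := d13_1 D20898 F40142 (iv D20897)
theorem F40145 : act 3 n20898 = n15666 := d16_1 D20898 (iv D15666) (iv F27165)
theorem F40146 : act 4 n20898 = n20889 := d18_1 D20898 F40126 F36582
theorem F40147 : act 6 n20898 = n16895 := d20_2 F40100 D20898 (iv F39728) F27138 D15663 (iv F34929) (iv F40099)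
def n20899 : Q := act 5 n15662
theorem D20899 : act 5 n15662 = n20899 := rfl
theorem F40148 : act 0 n20899 = n16897 := d4_1 D20899 F40142 F40140
theorem F40149 : act 2 n20899 = n15663 := d13_1 D20899 (iv D15663) D15662
theorem F40150 : act 3 n20899 = n16894 := d16_1 D20899 F29787 (iv F39719)
theorem F40151 : act 6 n20899 = n16893 := d22_3 (iv F29782) F39720 D20899 F29784
def n20900 : Q := act 5 n15665
theorem D20900 : act 5 n15665 = n20900 := rfl
theorem F40152 : act 0 n20900 = n15668 := d4_1 D20900 (iv D15668) (iv F27168)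
theorem F40153 : act 2 n20900 = n15666 := d13_1 D20900 (iv D15666) D15665
theorem F40154 : act 3 n20900 = n16703 := d16_1 D20900 (iv F30106) F39718
theorem F40155 : act 4 n20900 = n15680 := d18_1 D20900 (iv D15680) (iv F27169)
theorem F40156 : act 6 n20900 = n20613 := d20_2 (iv F39717) D20900 (iv F39732) F27146 D15668 (iv F39707) (iv F30104)
def n20901 : Q := act 1 n15666
theorem D20901 : act 1 n15666 = n20901 := rfl
theorem F40157 : act 4 n20901 = n15681 := d8_2 (iv F27171) D20901 (iv D15681)
theorem F40158 : act 5 n20901 = n20877 := d9_2 D15666 D20901 (iv D20877) F36528 (iv D15664)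
def n20902 : Q := act 4 n15667
theorem D20902 : act 4 n15667 = n20902 := rfl
theorem F40159 : act 1 n20902 = n15699 := d8_1 D20902 (iv D15699) (iv F27173)
theorem F40160 : act 2 n20902 = n20336 := d12_1 D20902 F38572 (iv F39702)
theorem F40161 : act 3 n20902 = n15683 := d15_1 D20902 (iv D15683) (iv D11907) (iv F21033) D15667
theorem F40162 : act 5 n20902 = n20335 := d18_2 (iv F39703) D20902 F38570
def n20903 : Q := act 0 n15669
theorem D20903 : act 0 n15669 = n20903 := rfl
theorem F40163 : act 2 n20903 = n20765 := d1_2 F33045 D20903 F39417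
theorem F40164 : act 4 n20903 = n15687 := d3_2 (iv F27176) D20903 (iv D15687)
theorem F40165 : act 5 n20903 = n15671 := d4_2 (iv F27177) D20903 (iv D15671)
def n20904 : Q := act 6 n15671
theorem D20904 : act 6 n15671 = n20904 := rfl
theorem F40166 : act 0 n20904 = n15673 := d5_1 D20904 (iv D15673) D15671
theorem F40167 : act 1 n20904 = n19497 := d10_1 D20904 F36541 (iv F36595) F40123 F40119
theorem F40168 : act 2 n20904 = n20763 := d14_1 D20904 F39413 F33049
theorem F40169 : act 3 n20904 = n19496 := d17_1 D20904 (iv F40131) F40129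
theorem F40170 : act 4 n20904 = n15693 := d19_1 D20904 (iv D15693) (iv F27181)
theorem F40171 : act 5 n20904 = n19439 := d22_2 F40165 D20904 F36394 D20903
def n20905 : Q := act 5 n15673
theorem D20905 : act 5 n15673 = n20905 := rfl
theorem F40172 : act 0 n20905 = n19439 := d4_1 D20905 (iv F40171) F40166
theorem F40173 : act 2 n20905 = n20764 := d13_1 D20905 (iv D20764) F33050
theorem F40174 : act 3 n20905 = n19499 := d16_1 D20905 (iv F40088) F40086
theorem F40175 : act 4 n20905 = n15696 := d18_1 D20905 (iv D15696) (iv F27185)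
theorem F40176 : act 6 n20905 = n20903 := d20_2 D15673 D20905 F40165 D20904 F40171 F36394 F27177
theorem F40177 : act 1 n19503 = n20905 := d8_3 F40175 (iv F34928) D19503
def n20906 : Q := act 6 n15674
theorem D20906 : act 6 n15674 = n20906 := rfl
theorem F40178 : act 0 n20906 = n15677 := d5_1 D20906 (iv D15677) D15674
theorem F40179 : act 4 n20906 = n20878 := d19_1 D20906 (iv D20878) F36524
def n20907 : Q := act 6 n15675
theorem D20907 : act 6 n15675 = n20907 := rfl
theorem F40180 : act 2 n20907 = n15677 := d14_1 D20907 (iv D15677) D15675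
theorem F40181 : act 3 n20907 = n20055 := d17_1 D20907 (iv D20055) F37576
def n20908 : Q := act 1 n15676
theorem D20908 : act 1 n15676 = n20908 := rfl
theorem F40182 : act 4 n20908 = n20877 := d8_2 (iv F36529) D20908 (iv D20877)
theorem F40183 : act 5 n20908 = n15681 := d9_2 D15676 D20908 (iv D15681) (iv D11906) D11904
def n20909 : Q := act 6 n15676
theorem D20909 : act 6 n15676 = n20909 := rfl
theorem F40184 : act 0 n20909 = n20873 := d5_1 D20909 F40083 F36523
theorem F40185 : act 2 n20909 = n19357 := d14_1 D20909 (iv F36941) (iv F37573)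
theorem F40186 : act 4 n20909 = n20875 := d19_1 D20909 F40090 (iv F36529)
theorem F40187 : act 5 n20909 = n20906 := d20_1 D20909 (iv D20906) F36522 (iv F40083) (iv F40084) (iv D15677) D15676
theorem F40188 : act 1 n19431 = n20909 := d6_5 F40185 (iv D19357) F24611 D14235 D19431
def n20910 : Q := act 3 n15678
theorem D20910 : act 3 n15678 = n20910 := rfl
theorem F40189 : act 1 n20910 = n15679 := d7_1 D20910 (iv D15679) D15678
theorem F40190 : act 5 n20910 = n19944 := d16_2 F37578 D20910 F37689
def n20911 : Q := act 4 n15679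
theorem D20911 : act 4 n15679 = n20911 := rfl
theorem F40191 : act 0 n20911 = n15683 := d3_1 D20911 (iv D15683) (iv F27186)
theorem F40192 : act 2 n20911 = n18776 := d12_1 D20911 F33608 (iv F36110)
theorem F40193 : act 6 n20911 = n18775 := d19_2 (iv F36112) D20911 F33606
def n20912 : Q := act 1 n15680
theorem D20912 : act 1 n15680 = n20912 := rfl
theorem F40194 : act 5 n20912 = n19945 := d9_2 D15680 D20912 (iv D19945) F37578 (iv D15678)
theorem F40195 : act 0 n20912 = n20884 := d23_3 D11906 (iv F27188) D20912 F40110 (iv F36546) (iv D19501) (iv F34941) (iv D14250) D14249 F24895 (iv F32620) (iv D11157) (iv D8527) (iv D4095) (iv F3706) (iv D2349) (iv F3702) D4869 D9870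
theorem F40196 : act 2 n20883 = n20912 := d23_1 (iv F40108) (iv D20912) F27187 (iv D11908) (iv D9871) (iv D4869) (iv F6241) F6242 F6200 D4095 D8526 F32559 D11152 (iv F24895) F34946 (iv D14307) (iv F24968) D19501 F36935
theorem F40197 : act 6 n20912 = n19373 := d14_2 F40109 F40196 (iv F36568)
def n20913 : Q := act 0 n15681
theorem D20913 : act 0 n15681 = n20913 := rfl
def n20914 : Q := act 2 n15681
theorem D20914 : act 2 n15681 = n20914 := rfl
theorem F40198 : act 1 n20914 = n20883 := d6_1 D20914 F40196 (iv D20912) F27188 D15681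
theorem F40199 : act 0 n20877 = n20914 := d0_9 F40198 (iv D20883) (iv D15649) (iv D11893) (iv D9864) (iv F17537) D11885 D15631 D20877
theorem F40200 : act 2 n20913 = n20877 := d1_0 F40199 (iv D20914) D20913
def n20915 : Q := act 6 n15681
theorem D20915 : act 6 n15681 = n20915 := rfl
theorem F40201 : act 1 n20915 = n20889 := d10_1 D20915 (iv D20889) (iv D15653) (iv F21038) D15681
def n20916 : Q := act 6 n15685
theorem D20916 : act 6 n15685 = n20916 := rfl
def n20917 : Q := act 1 n15687
theorem D20917 : act 1 n15687 = n20917 := rfl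
theorem F40202 : act 3 n20917 = n19447 := d7_2 (iv F27196) D20917 (iv D19447)
theorem F40203 : act 6 n20917 = n19459 := d10_2 F27209 D20917 (iv D19459) (iv F33022) F34928
def n20918 : Q := act 6 n15688
theorem D20918 : act 6 n15688 = n20918 := rfl
theorem F40204 : act 0 n20918 = n18490 := d5_1 D20918 (iv F39504) F39501
theorem F40205 : act 2 n20918 = n15689 := d14_1 D20918 (iv D15689) D15688
theorem F40206 : act 3 n20918 = n18514 := d17_1 D20918 (iv F33122) F33121
theorem F40207 : act 4 n20918 = n20766 := d19_1 D20918 (iv D20766) (iv F32494)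
theorem F40208 : act 5 n20918 = n18491 := d20_1 D20918 F33087 F39505 F39504 F33083 F32496 (iv F27198)
theorem F40209 : act 1 n20821 = n20918 := d24_14 (iv D20918) F27198 F21046 F32470 (iv F18186) (iv F28890) F34295 (iv D12841) (iv D10336) F16588 D9742 D11836 D15539 D20821
def n20919 : Q := act 1 n15693
theorem D20919 : act 1 n15693 = n20919 := rfl
theorem F40210 : act 3 n20919 = n19439 := d7_2 (iv F27203) D20919 (iv D19439)
theorem F40211 : act 4 n20919 = n19497 := d8_2 F40170 D20919 (iv F40167)
theorem F40212 : act 5 n20919 = n19496 := d9_2 (iv F27204) D20919 (iv D19496) (iv F36386) (iv F36388)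
theorem F40213 : act 6 n20919 = n20895 := d10_2 D15693 D20919 F40134 (iv F34929) (iv D15691)
theorem F40214 : act 0 n20919 = n19499 := d22_4 (iv F40088) F40089 D20895 (iv F40213)
def n20920 : Q := act 0 n15697
theorem D20920 : act 0 n15697 = n20920 := rfl
theorem F40215 : act 4 n20920 = n15706 := d3_2 (iv F27210) D20920 (iv D15706)
def n20921 : Q := act 3 n15697
theorem D20921 : act 3 n15697 = n20921 := rfl
theorem F40216 : act 1 n20921 = n15698 := d7_1 D20921 (iv D15698) D15697
def n20922 : Q := act 5 n15697
theorem D20922 : act 5 n15697 = n20922 := rfl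
theorem F40217 : act 4 n20922 = n15708 := d18_1 D20922 (iv D15708) (iv F27210)
def n20923 : Q := act 6 n15697
theorem D20923 : act 6 n15697 = n20923 := rfl
theorem F40218 : act 4 n20923 = n15709 := d19_1 D20923 (iv D15709) (iv F27210)
def n20924 : Q := act 4 n15698
theorem D20924 : act 4 n15698 = n20924 := rfl
theorem F40219 : act 0 n20924 = n15699 := d3_1 D20924 (iv D15699) (iv F27211)
theorem F40220 : act 3 n20924 = n15710 := d15_1 D20924 (iv D15710) (iv D11921) (iv F21050) D15698
def n20925 : Q := act 0 n15704
theorem D20925 : act 0 n15704 = n20925 := rfl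
theorem F40221 : act 2 n20925 = n15706 := d1_2 (iv F27219) D20925 (iv D15706)
def n20926 : Q := act 3 n15704
theorem D20926 : act 3 n15704 = n20926 := rfl
theorem F40222 : act 1 n20926 = n15705 := d7_1 D20926 (iv D15705) D15704
theorem F40223 : act 5 n15758 = n20926 := d24_1 D15758 F40222 F27220 (iv D14266) (iv F24901) (iv F36402) F36401 (iv D14298) F19800 F19786 F34246 (iv D9892) D9891 D11945
def n20927 : Q := act 5 n15704
theorem D20927 : act 5 n15704 = n20927 := rfl
theorem F40224 : act 2 n20927 = n15708 := d13_1 D20927 (iv D15708) (iv F27219)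
theorem F40225 : act 3 n20927 = n15758 := d16_1 D20927 F40223 (iv D20926)
theorem F40226 : act 6 n15728 = n20927 := d24_0 (iv D20927) (iv D15704) F21058 (iv D11157) (iv F19767) (iv F24892) F34955 (iv D11174) F12758 F12728 (iv F17573) (iv F34264) D11930 D15728
def n20928 : Q := act 6 n15704
theorem D20928 : act 6 n15704 = n20928 := rfl
theorem F40227 : act 1 n20928 = n19464 := d10_1 D20928 (iv D19464) (iv D14267) (iv F21058) D15704
theorem F40228 : act 2 n20928 = n15709 := d14_1 D20928 (iv D15709) (iv F27219)
def n20929 : Q := act 4 n15705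
theorem D20929 : act 4 n15705 = n20929 := rfl
theorem F40229 : act 6 n20929 = n19461 := d19_2 (iv F27220) D20929 F36433
def n20930 : Q := act 1 n15706
theorem D20930 : act 1 n15706 = n20930 := rfl
def n20931 : Q := act 3 n15706
theorem D20931 : act 3 n15706 = n20931 := rfl
theorem F40230 : act 0 n20931 = n15707 := d2_1 D20931 (iv D15707) D15706
def n20932 : Q := act 5 n15706
theorem D20932 : act 5 n15706 = n20932 := rfl
theorem F40231 : act 0 n20932 = n15708 := d4_1 D20932 (iv D15708) D15706
def n20933 : Q := act 6 n15706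
theorem D20933 : act 6 n15706 = n20933 := rfl
theorem F40232 : act 0 n20933 = n15709 := d5_1 D20933 (iv D15709) D15706
def n20934 : Q := act 4 n15707
theorem D20934 : act 4 n15707 = n20934 := rfl
theorem F40233 : act 1 n20934 = n15710 := d8_1 D20934 (iv D15710) (iv F27221)
def n20935 : Q := act 6 n15707
theorem D20935 : act 6 n15707 = n20935 := rfl
theorem F40234 : act 3 n20935 = n15709 := d17_1 D20935 (iv D15709) D15707
def n20936 : Q := act 6 n15708
theorem D20936 : act 6 n15708 = n20936 := rfl
theorem F40235 : act 1 n20936 = n20936 := d10_1 D20936 (iv D20936) (iv F30885) F35418 F30885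
theorem F40236 : act 2 n20936 = n15728 := d14_1 D20936 F40226 F40224
theorem F40237 : act 5 n20936 = n20933 := d22_2 D15708 D20936 (iv D20933) (iv D15706)
def n20937 : Q := act 5 n15709
theorem D20937 : act 5 n15709 = n20937 := rfl
theorem F40238 : act 0 n20937 = n20936 := d4_1 D20937 F40237 F40232
theorem F40239 : act 6 n20937 = n20932 := d20_2 D15709 D20937 (iv D20932) D20933 (iv F40237) (iv D20936) (iv D15708)
def n20938 : Q := act 0 n15711
theorem D20938 : act 0 n15711 = n20938 := rfl
theorem F40240 : act 2 n20938 = n18287 := d1_2 F36108 D20938 (iv F35725)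
theorem F40241 : act 3 n20938 = n17822 := d2_2 (iv F27224) D20938 (iv D17822)
theorem F40242 : act 5 n20938 = n18286 := d22_0 F35478 D19347 (iv F36107) D20938
def n20939 : Q := act 4 n15711
theorem D20939 : act 4 n15711 = n20939 := rfl
theorem F40243 : act 1 n20939 = n15712 := d8_1 D20939 (iv D15712) D15711
def n20940 : Q := act 5 n15711
theorem D20940 : act 5 n15711 = n20940 := rfl
theorem F40244 : act 0 n20940 = n18286 := d4_1 D20940 (iv F40242) (iv D20938)
theorem F40245 : act 2 n20940 = n18285 := d13_1 D20940 F35724 F36108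
theorem F40246 : act 3 n20940 = n17823 := d16_1 D20940 (iv D17823) (iv F27224)
theorem F40247 : act 6 n20940 = n19345 := d22_3 D19347 (iv F36107) D20940 (iv D19345)
def n20941 : Q := act 3 n15712
theorem D20941 : act 3 n15712 = n20941 := rfl
theorem F40248 : act 0 n20941 = n17738 := d2_1 D20941 F32795 (iv F27225)
theorem F40249 : act 4 n20941 = n17404 := d15_2 D15712 D20941 F30513 (iv F32783) (iv F21062)
theorem F40250 : act 5 n20941 = n17403 := d16_2 (iv F27388) D20941 F33026
theorem F40251 : act 2 n20941 = n17562 := d21_6 F27384 (iv F27369) F27368 F27212 (iv F27226) D20941 F32689 (iv F27383)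
def n20942 : Q := act 1 n15713
theorem D20942 : act 1 n15713 = n20942 := rfl
theorem F40252 : act 4 n20942 = n15714 := d8_2 (iv F27227) D20942 (iv D15714)
def n20943 : Q := act 0 n15714
theorem D20943 : act 0 n15714 = n20943 := rfl
theorem F40253 : act 3 n20943 = n15715 := d2_2 (iv F27228) D20943 (iv D15715)
def n20944 : Q := act 2 n15714
theorem D20944 : act 2 n15714 = n20944 := rfl
theorem F40254 : act 5 n20944 = n19043 := d13_2 (iv F36138) D20944 (iv F35567)
theorem F40255 : act 3 n19931 = n20944 := d16_3 F40254 F34152 (iv F37663)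
theorem F40256 : act 6 n19929 = n20944 := d22_1 (iv F37657) F40254 F34153 F32412
def n20945 : Q := act 6 n15714
theorem D20945 : act 6 n15714 = n20945 := rfl
theorem F40257 : act 2 n20945 = n19929 := d14_1 D20945 F40256 (iv D20944)
theorem F40258 : act 3 n20945 = n15716 := d17_1 D20945 (iv D15716) (iv F27228)
def n20946 : Q := act 6 n15715
theorem D20946 : act 6 n15715 = n20946 := rfl
theorem F40259 : act 0 n20946 = n15716 := d5_1 D20946 (iv D15716) D15715
theorem F40260 : act 5 n20946 = n20916 := d22_2 F37660 D20946 (iv D20916) (iv F37658)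
def n20947 : Q := act 5 n15716
theorem D20947 : act 5 n15716 = n20947 := rfl
theorem F40261 : act 0 n20947 = n20916 := d4_1 D20947 (iv F40260) F40259
theorem F40262 : act 2 n20947 = n19931 := d13_1 D20947 F37663 F32511
theorem F40263 : act 6 n20947 = n19930 := d20_2 D15716 D20947 F37660 D20946 F40260 (iv D20916) F27192
def n20948 : Q := act 3 n15721
theorem D20948 : act 3 n15721 = n20948 := rfl
theorem F40264 : act 1 n20948 = n20948 := d7_1 D20948 (iv D20948) F27234
theorem F40265 : act 6 n20948 = n15892 := d17_2 (iv F34361) D20948 (iv D15892)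
def n20949 : Q := act 5 n15721
theorem D20949 : act 5 n15721 = n20949 := rfl
theorem F40266 : act 2 n20949 = n15723 := d13_1 D20949 (iv D15723) D15721
theorem F40267 : act 4 n20949 = n15908 := d18_1 D20949 (iv D15908) (iv F34360)
def n20950 : Q := act 1 n15723
theorem D20950 : act 1 n15723 = n20950 := rfl
theorem F40268 : act 3 n20950 = n15747 := d7_2 (iv F27236) D20950 (iv D15747)
theorem F40269 : act 4 n20950 = n15925 := d8_2 (iv F34363) D20950 (iv D15925)
theorem F40270 : act 5 n20950 = n15728 := d9_2 D15723 D20950 (iv D15728) (iv D11930) D11928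
theorem F40271 : act 2 n20933 = n20950 := d13_3 F40270 (iv F40236) F40237
theorem F40272 : act 0 n20928 = n20950 := d22_4 F40270 F40226 (iv D20927) D20928
theorem F40273 : act 6 n20950 = n20925 := d22_3 D20927 (iv F40226) (iv F40270) (iv D20925)
def n20951 : Q := act 0 n15728
theorem D20951 : act 0 n15728 = n20951 := rfl
theorem F40274 : act 2 n20951 = n20937 := d1_2 F40236 D20951 F40238
theorem F40275 : act 3 n20951 = n15756 := d2_2 (iv F27246) D20951 (iv D15756)
theorem F40276 : act 5 n20951 = n20928 := d4_2 F40270 D20951 F40272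
def n20952 : Q := act 0 n15736
theorem D20952 : act 0 n15736 = n20952 := rfl
theorem F40277 : act 3 n20952 = n15782 := d2_2 (iv F27262) D20952 (iv D15782)
theorem F40278 : act 4 n20952 = n20951 := d3_2 (iv F35017) D20952 (iv D20951)
def n20953 : Q := act 2 n15736
theorem D20953 : act 2 n15736 = n20953 := rfl
theorem F40279 : act 1 n20953 = n20953 := d6_1 D20953 (iv D20953) (iv D15736) F21085 D15736
theorem F40280 : act 4 n20953 = n20936 := d12_2 (iv F35017) D20953 F40236
theorem F40281 : act 3 n20953 = n19651 := d21_1 D20953 (iv D19651) (iv F36940) (iv F37573) (iv F36576) F36575 (iv F40277) (iv D20952)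
theorem F40282 : act 6 n20922 = n20953 := d19_0 F40280 (iv D20936) (iv F40217)
def n20954 : Q := act 6 n15736
theorem D20954 : act 6 n15736 = n20954 := rfl
theorem F40283 : act 1 n20954 = n20927 := d10_1 D20954 (iv F40226) (iv D15728) (iv F21087) D15736
theorem F40284 : act 2 n20954 = n20922 := d14_1 D20954 F40282 (iv D20953)
theorem F40285 : act 3 n20954 = n15784 := d17_1 D20954 (iv D15784) (iv F27262)
theorem F40286 : act 4 n20954 = n20927 := d19_1 D20954 (iv F40226) (iv F35017)
theorem F40287 : act 5 n20954 = n19368 := d24_1 D20954 (iv D19368) F24657 F32619 (iv F24895) F34949 F19794 (iv D8551) F6231 F6209 D4899 D9887 D11936 D15736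
def n20955 : Q := act 2 n15740
theorem D20955 : act 2 n15740 = n20955 := rfl
theorem F40288 : act 0 n20955 = n20742 := d1_1 D20955 (iv D20742) (iv F27266)
theorem F40289 : act 1 n20955 = n19292 := d6_1 D20955 F35999 F34781 D15381 (iv F27267)
theorem F40290 : act 4 n20955 = n16368 := d12_2 F35490 D20955 F32206
theorem F40291 : act 6 n20955 = n16366 := d14_2 (iv F35488) D20955 F32080
theorem F40292 : act 3 n16992 = n20955 := d25_1 (iv F29922) (iv D20955) (iv D15740) (iv D11938) (iv D9889) (iv F17572) F17571 F17572 (iv F14579) D11840 F20934 (iv D11756) (iv D9640) F16651 (iv D4664) D4665 (iv F7205) (iv D4724) (iv D2270) F1908 (iv D577) (iv D292) F284 D292 (iv F1044) F1045 D567 (iv F16447) (iv D1057) (iv D533) (iv D270) (iv F535) F534 F535 (iv F472) D455 (iv F1582) (iv F16675) F1636 D952 F16670 D1941 F16514 (iv D3763) (iv D1813) F16672 (iv F16674) (iv D923) F900 D480 F916 (iv F929) D965 D1966 (iv F15769) (iv D2464) (iv F3858) (iv D2455) F2013 D2455 D5092 D9936 D12019 D15902 F34824 F34823 F34863 (iv F34868) F35094 F27517 F35095 (iv D11163)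 (iv F17670) (iv F21214) D15899 (iv F34821) F29519
def n20956 : Q := act 5 n15740
theorem D20956 : act 5 n15740 = n20956 := rfl
theorem F40293 : act 0 n20956 = n20743 := d4_1 D20956 (iv D20743) (iv F27266)
theorem F40294 : act 3 n20956 = n15742 := d16_1 D20956 (iv D15742) D15740
theorem F40295 : act 4 n20956 = n18395 := d18_1 D20956 F32286 F35490
theorem F40296 : act 6 n20956 = n18314 := d22_1 D20956 (iv D18314) (iv F34318) (iv F27266)
theorem F40297 : act 1 n18579 = n20956 := d0_0 F40293 F39360 (iv F39272) F39273 (iv D18495) (iv D13505) (iv F19126) D13561 D18579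
def n20957 : Q := act 1 n15742
theorem D20957 : act 1 n15742 = n20957 := rfl
theorem F40298 : act 2 n20957 = n19830 := d6_2 (iv F27269) D20957 (iv F37604) F37605 (iv D15747)
theorem F40299 : act 3 n20957 = n18579 := d7_2 F40294 D20957 F40297
theorem F40300 : act 4 n20957 = n18554 := d8_2 (iv F34356) D20957 (iv D18554)
theorem F40301 : act 5 n20957 = n19829 := d9_2 D15742 D20957 (iv F39925) (iv D20822) (iv F26993)
theorem F40302 : act 0 n18539 = n20957 := d22_4 F40301 F37432 D19835 (iv F39435)
def n20958 : Q := act 1 n15745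
theorem D20958 : act 1 n15745 = n20958 := rfl
theorem F40303 : act 3 n20958 = n19489 := d7_2 (iv F34260) D20958 (iv D19489)
theorem F40304 : act 4 n20958 = n15747 := d8_2 (iv F27272) D20958 (iv D15747)
theorem F40305 : act 5 n20958 = n15754 := d9_2 D15745 D20958 (iv D15754) (iv D11943) (iv F21088)
theorem F40306 : act 6 n20958 = n15804 := d24_3 F34262 D15745 D20958 (iv D15804) (iv D11965) D11967 F21120 D15778 F27308 (iv F34347) F24929 (iv F19800) (iv D11173) (iv F19790)
def n20959 : Q := act 0 n15747
theorem D20959 : act 0 n15747 = n20959 := rfl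
theorem F40307 : act 3 n20959 = n20928 := d2_2 F40268 D20959 F40272
theorem F40308 : act 5 n20959 = n15756 := d4_2 (iv F27274) D20959 (iv D15756)
theorem F40309 : act 6 n20926 = n20959 := d22_3 F27274 D15758 F40223 (iv D20959)
def n20960 : Q := act 6 n15747
theorem D20960 : act 6 n15747 = n20960 := rfl
theorem F40310 : act 0 n20960 = n20926 := d5_1 D20960 F40309 (iv D20959)
theorem F40311 : act 3 n20960 = n20925 := d17_1 D20960 (iv F40273) F40268
theorem F40312 : act 4 n20960 = n15804 := d19_1 D20960 (iv F40306) F40304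
theorem F40313 : act 5 n20960 = n15792 := d20_1 D20960 (iv F36507) (iv F40308) (iv F40309) (iv F40223) (iv D15758) (iv F27274)
def n20961 : Q := act 1 n15750
theorem D20961 : act 1 n15750 = n20961 := rfl
theorem F40314 : act 0 n20961 = n19445 := d0_1 D20961 (iv D19445) F24898 F19767 (iv F19774) D14261 D19454 F36488 (iv F27277)
theorem F40315 : act 3 n20961 = n15801 := d7_2 (iv F34368) D20961 F27339
theorem F40316 : act 4 n20961 = n19441 := d8_2 (iv F34369) D20961 F36400
theorem F40317 : act 5 n20961 = n15788 := d9_2 D15750 D20961 (iv D15788) (iv D11959) (iv F34312)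
theorem F40318 : act 6 n20961 = n19449 := d10_2 (iv F27278) D20961 F36408 (iv F36214) F36213
def n20962 : Q := act 1 n15756
theorem D20962 : act 1 n15756 = n20962 := rfl
def n20963 : Q := act 0 n15766
theorem D20963 : act 0 n15766 = n20963 := rfl
theorem F40319 : act 3 n20963 = n15769 := d2_2 (iv F27290) D20963 (iv D15769)
theorem F40320 : act 4 n20963 = n15779 := d3_2 (iv F34250) D20963 (iv D15779)
theorem F40321 : act 5 n20963 = n15789 := d4_2 (iv F27291) D20963 (iv D15789)
theorem F40322 : act 6 n20963 = n15819 := d5_2 (iv F39772) D20963 (iv F39773)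
def n20964 : Q := act 1 n15769
theorem D20964 : act 1 n15769 = n20964 := rfl
theorem F40323 : act 4 n20964 = n15774 := d8_2 (iv F27297) D20964 (iv D15774)
theorem F40324 : act 6 n20964 = n19456 := d10_2 F34969 D20964 F36423 (iv D14304) D14302
def n20965 : Q := act 0 n15774
theorem D20965 : act 0 n15774 = n20965 := rfl
theorem F40325 : act 6 n20965 = n19641 := d5_2 F36412 D20965 (iv F36948)
theorem F40326 : act 5 n20965 = n19464 := d22_0 (iv D19464) (iv F36411) F36412 D20965
def n20966 : Q := act 2 n15774
theorem D20966 : act 2 n15774 = n20966 := rfl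
theorem F40327 : act 6 n20966 = n19409 := d14_2 F36412 D20966 (iv F36410)
def n20967 : Q := act 5 n15774
theorem D20967 : act 5 n15774 = n20967 := rfl
theorem F40328 : act 0 n20967 = n19464 := d4_1 D20967 (iv F40326) (iv D20965)
theorem F40329 : act 1 n20967 = n15804 := d9_1 D20967 (iv D15804) (iv D11965) (iv F21103) D15774
theorem F40330 : act 6 n20967 = n18549 := d20_2 F36412 D20967 (iv F36947) (iv F40325) F40326 (iv D19464) (iv F36411)
def n20968 : Q := act 1 n15775
theorem D20968 : act 1 n15775 = n20968 := rfl
theorem F40331 : act 3 n20968 = n19061 := d7_2 (iv F35977) D20968 F35523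
def n20969 : Q := act 4 n15776
theorem D20969 : act 4 n15776 = n20969 := rfl
theorem F40332 : act 0 n20969 = n18757 := d3_1 D20969 F33578 (iv F35968)
theorem F40333 : act 2 n20969 = n18756 := d12_1 D20969 F33576 (iv F35969)
theorem F40334 : act 5 n20969 = n15811 := d18_2 (iv F27306) D20969 (iv D15811)
theorem F40335 : act 6 n20969 = n18760 := d19_2 (iv F35970) D20969 F33583
def n20970 : Q := act 0 n15778
theorem D20970 : act 0 n15778 = n20970 := rfl
theorem F40336 : act 1 n20970 = n15799 := d0_2 D15778 D20970 (iv D15799) (iv D11964) F17598 D11174 D14299 F34971 F21125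
theorem F40337 : act 3 n20970 = n19478 := d2_2 F36459 D20970 F36462
theorem F40338 : act 4 n20970 = n15819 := d3_2 F39769 D20970 (iv F39773)
theorem F40339 : act 6 n20970 = n15779 := d5_2 (iv F27308) D20970 (iv D15779)
theorem F40340 : act 5 n20970 = n19476 := d22_0 (iv D19476) F34347 (iv F27308) D20970
def n20971 : Q := act 5 n15778
theorem D20971 : act 5 n15778 = n20971 := rfl
theorem F40341 : act 0 n20971 = n19476 := d4_1 D20971 (iv F40340) (iv D20970)
theorem F40342 : act 3 n20971 = n19472 := d16_1 D20971 (iv F36461) F36459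
theorem F40343 : act 6 n20971 = n19470 := d20_2 (iv F27308) D20971 (iv F36446) (iv F40339) F40340 (iv D19476) F34347
def n20972 : Q := act 1 n15779
theorem D20972 : act 1 n15779 = n20972 := rfl
def n20973 : Q := act 2 n15779
theorem D20973 : act 2 n15779 = n20973 := rfl
theorem F40344 : act 0 n20973 = n15780 := d1_1 D20973 (iv D15780) D15779
def n20974 : Q := act 3 n15780
theorem D20974 : act 3 n15780 = n20974 := rfl
def n20975 : Q := act 1 n15782
theorem D20975 : act 1 n15782 = n20975 := rfl
def n20976 : Q := act 5 n15784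
theorem D20976 : act 5 n15784 = n20976 := rfl
theorem F40345 : act 0 n20976 = n19493 := d4_1 D20976 F36532 (iv F36506)
theorem F40346 : act 1 n20976 = n19369 := d9_1 D20976 F36211 (iv F40222) (iv F40223) (iv F27310)
theorem F40347 : act 2 n20976 = n19511 := d13_1 D20976 F36580 F36381
theorem F40348 : act 3 n20976 = n19368 := d16_1 D20976 (iv F40287) F40285
theorem F40349 : act 6 n20976 = n19491 := d20_2 D15784 D20976 F36515 (iv F36509) (iv F36532) (iv D19493) F24957
def n20977 : Q := act 0 n15788
theorem D20977 : act 0 n15788 = n20977 := rfl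
theorem F40350 : act 1 n20977 = n19478 := d0_2 D15788 D20977 F36462 F36458 (iv F24936) D19479 F36467 (iv D14298) (iv F21107)
theorem F40351 : act 3 n20977 = n15799 := d2_2 (iv F27318) D20977 (iv D15799)
theorem F40352 : act 4 n20977 = n19479 := d3_2 (iv F27319) D20977 F36467
theorem F40353 : act 5 n20977 = n19445 := d4_2 F40317 D20977 (iv F40314)
def n20978 : Q := act 2 n15788
theorem D20978 : act 2 n15788 = n20978 := rfl
theorem F40354 : act 1 n20978 = n15790 := d6_1 D20978 (iv D15790) (iv D11960) (iv F21108) D15788
theorem F40355 : act 4 n20978 = n19494 := d12_2 (iv F27319) D20978 (iv D19494)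
def n20979 : Q := act 6 n15788
theorem D20979 : act 6 n15788 = n20979 := rfl
theorem F40356 : act 1 n20979 = n15791 := d10_1 D20979 (iv D15791) (iv D11960) (iv F21111) D15788
theorem F40357 : act 3 n20979 = n15797 := d17_1 D20979 F27332 (iv F27318)
theorem F40358 : act 4 n20979 = n19495 := d19_1 D20979 (iv D19495) (iv F27319)
def n20980 : Q := act 1 n15789
theorem D20980 : act 1 n15789 = n20980 := rfl
theorem F40359 : act 3 n20980 = n15792 := d7_2 (iv F27320) D20980 (iv D15792)
theorem F40360 : act 6 n20980 = n20951 := d24_3 (iv F40322) F40321 D20980 F40276 F40227 (iv D19464) (iv F36411) (iv D19451) F34956 (iv F36397) (iv F36399) (iv F27359) (iv D15821) D15819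
theorem F40361 : act 0 n20927 = n20980 := d5_3 F40360 (iv D20951) F40226
theorem F40362 : act 2 n20932 = n20980 := d14_3 F40360 F40274 F40239
theorem F40363 : act 5 n20925 = n20980 := d20_7 F40360 F40276 (iv D20928) D20927 (iv F40226) (iv F40270) F40273
def n20981 : Q := act 2 n15789
theorem D20981 : act 2 n15789 = n20981 := rfl
theorem F40364 : act 0 n20981 = n15790 := d1_1 D20981 (iv D15790) D15789
theorem F40365 : act 3 n20981 = n17094 := d11_2 (iv F27320) D20981 F30048 (iv F26669) (iv F39746) (iv D15795) (iv D11962) (iv F21112) D15790 F39763 F30039 F22241 (iv F29858) F39762 (iv D15793)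
theorem F40366 : act 6 n17092 = n20981 := d17_0 F40365 (iv D17094) (iv F30045)
def n20982 : Q := act 6 n15789
theorem D20982 : act 6 n15789 = n20982 := rfl
theorem F40367 : act 0 n20982 = n15791 := d5_1 D20982 (iv D15791) D15789
theorem F40368 : act 2 n20982 = n17092 := d14_1 D20982 F40366 (iv D20981)
theorem F40369 : act 3 n20982 = n15794 := d17_1 D20982 (iv D15794) (iv F27320)
theorem F40370 : act 4 n20982 = n20971 := d19_1 D20982 F40343 F36445
theorem F40371 : act 5 n20982 = n17090 := d20_1 D20982 (iv F39772) F27291 D15791 F34970 (iv F40322) F40321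
def n20983 : Q := act 6 n15790
theorem D20983 : act 6 n15790 = n20983 := rfl
theorem F40372 : act 0 n20983 = n17092 := d5_1 D20983 F40366 F40364
theorem F40373 : act 2 n20983 = n15791 := d14_1 D20983 (iv D15791) D15790
theorem F40374 : act 3 n20983 = n17089 := d17_1 D20983 F30044 (iv F39763)
theorem F40375 : act 5 n17088 = n20983 := d22_0 (iv D20983) (iv F39764) F30038 (iv F30040)
def n20984 : Q := act 6 n15793
theorem D20984 : act 6 n15793 = n20984 := rfl
theorem F40376 : act 0 n20984 = n15796 := d5_1 D20984 (iv D15796) (iv F27323)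
theorem F40377 : act 2 n20984 = n15794 := d14_1 D20984 (iv D15794) D15793
theorem F40378 : act 3 n20984 = n16778 := d17_1 D20984 (iv F29859) F39762
theorem F40379 : act 4 n20984 = n15808 := d19_1 D20984 (iv D15808) (iv F27324)
theorem F40380 : act 5 n20984 = n20651 := d20_1 D20984 (iv F39776) F27300 D15796 (iv F39751) (iv F29857) (iv F39761)
def n20985 : Q := act 1 n15794
theorem D20985 : act 1 n15794 = n20985 := rfl
theorem F40381 : act 4 n20985 = n15809 := d8_2 (iv F27326) D20985 (iv D15809)
theorem F40382 : act 6 n20985 = n20962 := d10_2 D15794 D20985 (iv D20962) F36507 (iv D15792)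
def n20986 : Q := act 4 n15795
theorem D20986 : act 4 n15795 = n20986 := rfl
theorem F40383 : act 1 n20986 = n15827 := d8_1 D20986 (iv D15827) (iv F27328)
theorem F40384 : act 2 n20986 = n20370 := d12_1 D20986 F38654 (iv F39746)
theorem F40385 : act 3 n20986 = n15811 := d15_1 D20986 (iv D15811) (iv D11968) (iv F21115) D15795
theorem F40386 : act 6 n20986 = n20369 := d19_2 (iv F39748) D20986 F38651
def n20987 : Q := act 0 n15797
theorem D20987 : act 0 n15797 = n20987 := rfl
theorem F40387 : act 2 n20987 = n20820 := d1_2 F33009 D20987 F39915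
theorem F40388 : act 4 n20987 = n15815 := d3_2 (iv F27331) D20987 (iv D15815)
theorem F40389 : act 6 n20987 = n15799 := d5_2 (iv F27332) D20987 (iv D15799)
def n20988 : Q := act 5 n15799
theorem D20988 : act 5 n15799 = n20988 := rfl
theorem F40390 : act 0 n20988 = n15801 := d4_1 D20988 (iv D15801) D15799
theorem F40391 : act 1 n20988 = n19446 := d9_1 D20988 F36537 F36535 (iv F40340) F40336
theorem F40392 : act 2 n20988 = n20818 := d13_1 D20988 F39911 F33006
theorem F40393 : act 3 n20988 = n19445 := d16_1 D20988 (iv F40353) F40351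
theorem F40394 : act 4 n20988 = n15821 := d18_1 D20988 (iv D15821) (iv F27336)
theorem F40395 : act 6 n20988 = n19490 := d22_1 D20988 F36514 F27332 D15799
def n20989 : Q := act 6 n15801
theorem D20989 : act 6 n15801 = n20989 := rfl
theorem F40396 : act 0 n20989 = n19490 := d5_1 D20989 (iv F40395) F40390
theorem F40397 : act 2 n20989 = n20819 := d14_1 D20989 (iv D20819) F33002
theorem F40398 : act 3 n20989 = n19449 := d17_1 D20989 (iv F40318) F40315
theorem F40399 : act 4 n20989 = n15824 := d19_1 D20989 (iv D15824) (iv F27340)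
theorem F40400 : act 5 n20989 = n20987 := d20_1 D20989 F40389 D20988 F40395 F36514 F27332 D15801
theorem F40401 : act 1 n19453 = n20989 := d8_3 F40399 (iv F34978) D19453
def n20990 : Q := act 5 n15802
theorem D20990 : act 5 n15802 = n20990 := rfl
theorem F40402 : act 0 n20990 = n15804 := d4_1 D20990 (iv D15804) D15802
theorem F40403 : act 4 n20990 = n20926 := d18_1 D20990 (iv F40223) F36502
theorem F40404 : act 1 n20990 = n20929 := d24_2 (iv F36500) D20990 F40229 (iv D19461) (iv F36408) (iv F40318) F40317 (iv D15788) F21111 (iv D9900) (iv F17585) (iv F34196) D11943 D15754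
def n20991 : Q := act 5 n15803
theorem D20991 : act 5 n15803 = n20991 := rfl
theorem F40405 : act 2 n20991 = n15804 := d13_1 D20991 (iv D15804) D15803
theorem F40406 : act 3 n20991 = n20001 := d16_1 D20991 (iv D20001) F37544
def n20992 : Q := act 1 n15805
theorem D20992 : act 1 n15805 = n20992 := rfl
theorem F40407 : act 4 n20992 = n20962 := d8_2 (iv F36508) D20992 (iv D20962)
theorem F40408 : act 6 n20992 = n15809 := d10_2 D15805 D20992 (iv D15809) (iv D11967) D11965
def n20993 : Q := act 5 n15805
theorem D20993 : act 5 n15805 = n20993 := rfl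
theorem F40409 : act 0 n20993 = n20958 := d4_1 D20993 F40305 F36501
theorem F40410 : act 2 n20993 = n19395 := d13_1 D20993 (iv F36954) (iv F37541)
theorem F40411 : act 4 n20993 = n20959 := d18_1 D20993 F40308 (iv F36508)
theorem F40412 : act 6 n20993 = n20990 := d20_2 D15805 D20993 (iv D20990) F36500 (iv F40305) F40306 (iv D15804)
theorem F40413 : act 1 n19487 = n20993 := d6_5 F40410 (iv D19395) F24716 D14285 D19487
theorem F40414 : act 0 n19488 = n19487 := d0_9 F40413 F40409 (iv D20958) F34258 (iv F34979) (iv F36209) (iv F40346) F40345 F36530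
theorem F40415 : act 6 n19486 = n19487 := d10_0 F40413 F40412 F40404 F40229 F36491
theorem F40416 : act 2 n19488 = n19486 := d14_3 F40415 (iv D19487) D19488
def n20994 : Q := act 3 n15806
theorem D20994 : act 3 n15806 = n20994 := rfl
theorem F40417 : act 1 n20994 = n15807 := d7_1 D20994 (iv D15807) D15806
theorem F40418 : act 6 n20994 = n19924 := d17_2 F37546 D20994 F37642
def n20995 : Q := act 4 n15807
theorem D20995 : act 4 n15807 = n20995 := rfl
theorem F40419 : act 0 n20995 = n15811 := d3_1 D20995 (iv D15811) (iv F27341)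
theorem F40420 : act 2 n20995 = n18758 := d12_1 D20995 F33580 (iv F35965)
theorem F40421 : act 5 n20995 = n18757 := d18_2 (iv F35966) D20995 F33578
def n20996 : Q := act 1 n15808
theorem D20996 : act 1 n15808 = n20996 := rfl
theorem F40422 : act 6 n20996 = n19925 := d10_2 D15808 D20996 (iv D19925) F37546 (iv D15806)
theorem F40423 : act 2 n20965 = n20996 := d23_1 (iv F40326) (iv D20996) F27342 (iv F35973) (iv F35976) (iv F34971) (iv D14299) (iv F34955) (iv D14244) (iv D11144) (iv F19756) (iv F19761) (iv F24621) D19360 F36505 D20991 F40405 (iv F40329) F40328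
theorem F40424 : act 0 n20996 = n20966 := d1_1 F40423 (iv D20966) D20965
theorem F40425 : act 5 n20996 = n19410 := d13_2 (iv F40326) F40423 (iv F36437)
def n20997 : Q := act 0 n15809
theorem D20997 : act 0 n15809 = n20997 := rfl
def n20998 : Q := act 2 n15809
theorem D20998 : act 2 n15809 = n20998 := rfl
theorem F40426 : act 1 n20998 = n20965 := d6_1 D20998 F40423 (iv D20996) F27343 D15809
theorem F40427 : act 0 n20962 = n20998 := d0_9 F40426 (iv D20965) (iv D15774) (iv D11953) (iv D9896) (iv F17583) D11945 D15756 D20962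
theorem F40428 : act 2 n20997 = n20962 := d1_0 F40427 (iv D20998) D20997
def n20999 : Q := act 5 n15809
theorem D20999 : act 5 n15809 = n20999 := rfl
theorem F40429 : act 1 n20999 = n20971 := d9_1 D20999 (iv D20971) (iv D15778) (iv F21120) D15809
def n21000 : Q := act 5 n15813
theorem D21000 : act 5 n15813 = n21000 := rfl
def n21001 : Q := act 1 n15815
theorem D21001 : act 1 n15815 = n21001 := rfl
theorem F40430 : act 3 n21001 = n19456 := d7_2 (iv F27351) D21001 F36423
theorem F40431 : act 5 n21001 = n19455 := d9_2 F27364 D21001 F36422 F33031 F34978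
def n21002 : Q := act 5 n15816
theorem D21002 : act 5 n15816 = n21002 := rfl
theorem F40432 : act 0 n21002 = n18484 := d4_1 D21002 (iv F39987) F39984
theorem F40433 : act 2 n21002 = n15817 := d13_1 D21002 (iv D15817) D15816
theorem F40434 : act 3 n21002 = n18495 := d16_1 D21002 (iv F33102) F35504
theorem F40435 : act 4 n21002 = n20821 := d18_1 D21002 (iv D20821) (iv F32926)
theorem F40436 : act 6 n21002 = n18485 := d20_2 (iv F27353) D21002 (iv F35495) (iv F39988) F39987 F33074 F34229
theorem F40437 : act 1 n21002 = n20766 := d24_2 (iv F27353) D21002 (iv D20766) (iv D15460) (iv D11793) (iv D9682) (iv F17194) D10314 D12800 F34242 (iv F34282) F18231 F32922 (iv F21128)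
def n21003 : Q := act 1 n15821
theorem D21003 : act 1 n15821 = n21003 := rfl
theorem F40438 : act 3 n21003 = n19490 := d7_2 (iv F27358) D21003 (iv D19490)
theorem F40439 : act 4 n21003 = n19446 := d8_2 F40394 D21003 (iv F40391)
theorem F40440 : act 5 n21003 = n20979 := d9_2 D15821 D21003 F40356 F34970 (iv D15819)
theorem F40441 : act 6 n21003 = n19445 := d10_2 (iv F27359) D21003 (iv D19445) (iv F36398) (iv F36399)
theorem F40442 : act 0 n19449 = n21003 := d5_3 F40441 (iv F40314) F40318
def n21004 : Q := act 0 n15825
theorem D21004 : act 0 n15825 = n21004 := rfl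
theorem F40443 : act 4 n21004 = n15834 := d3_2 (iv F27365) D21004 (iv D15834)
def n21005 : Q := act 3 n15825
theorem D21005 : act 3 n15825 = n21005 := rfl
theorem F40444 : act 1 n21005 = n15826 := d7_1 D21005 (iv D15826) D15825
def n21006 : Q := act 5 n15825
theorem D21006 : act 5 n15825 = n21006 := rfl
theorem F40445 : act 4 n21006 = n15836 := d18_1 D21006 (iv D15836) (iv F27365)
def n21007 : Q := act 6 n15825
theorem D21007 : act 6 n15825 = n21007 := rfl
theorem F40446 : act 2 n21007 = n20869 := d14_1 D21007 (iv F40065) F36309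
theorem F40447 : act 4 n21007 = n15837 := d19_1 D21007 (iv D15837) (iv F27365)
theorem F40448 : act 5 n20868 = n21007 := d18_0 F40447 F40056 (iv F40060)
def n21008 : Q := act 4 n15826
theorem D21008 : act 4 n15826 = n21008 := rfl
theorem F40449 : act 0 n21008 = n15827 := d3_1 D21008 (iv D15827) (iv F27366)
theorem F40450 : act 2 n21008 = n20924 := d12_1 D21008 (iv D20924) (iv F27367)
theorem F40451 : act 3 n21008 = n15838 := d15_1 D21008 (iv D15838) (iv D11982) (iv F21132) D15826
def n21009 : Q := act 0 n15832
theorem D21009 : act 0 n15832 = n21009 := rfl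
theorem F40452 : act 2 n21009 = n15834 := d1_2 (iv F27376) D21009 (iv D15834)
theorem F40453 : act 3 n21009 = n20876 := d2_2 F40094 D21009 (iv F40093)
theorem F40454 : act 6 n21009 = n20896 := d5_2 (iv F40054) D21009 (iv F40138)
theorem F40455 : act 5 n21009 = n20863 := d22_0 F40050 D20866 (iv F40054) D21009
def n21010 : Q := act 5 n15832
theorem D21010 : act 5 n15832 = n21010 := rfl
theorem F40456 : act 0 n21010 = n20863 := d4_1 D21010 (iv F40455) (iv D21009)
theorem F40457 : act 1 n21010 = n19508 := d9_1 D21010 (iv D19508) (iv D14316) (iv F21141) D15832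
theorem F40458 : act 2 n21010 = n15836 := d13_1 D21010 (iv D15836) (iv F27376)
theorem F40459 : act 3 n21010 = n20875 := d16_1 D21010 (iv F40095) F40094
theorem F40460 : act 6 n21010 = n20864 := d20_2 (iv F40054) D21010 F40139 (iv F40454) F40455 F40050 D20866
def n21011 : Q := act 4 n15833
theorem D21011 : act 4 n15833 = n21011 := rfl
theorem F40461 : act 1 n21011 = n20906 := d8_1 D21011 F40179 (iv F40096)
theorem F40462 : act 2 n21011 = n20929 := d12_1 D21011 (iv D20929) (iv F27378)
theorem F40463 : act 5 n21011 = n19506 := d18_2 (iv F27377) D21011 F36563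
def n21012 : Q := act 1 n15834
theorem D21012 : act 1 n15834 = n21012 := rfl
def n21013 : Q := act 3 n15834
theorem D21013 : act 3 n15834 = n21013 := rfl
theorem F40464 : act 0 n21013 = n15835 := d2_1 D21013 (iv D15835) D15834
def n21014 : Q := act 5 n15834
theorem D21014 : act 5 n15834 = n21014 := rfl
theorem F40465 : act 0 n21014 = n15836 := d4_1 D21014 (iv D15836) D15834
theorem F40466 : act 2 n21014 = n20863 := d13_1 D21014 (iv F40455) F40452
theorem F40467 : act 6 n21014 = n20865 := d22_1 D21014 (iv F40056) (iv D15837) D15834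
def n21015 : Q := act 6 n15834
theorem D21015 : act 6 n15834 = n21015 := rfl
theorem F40468 : act 0 n21015 = n15837 := d5_1 D21015 (iv D15837) D15834
theorem F40469 : act 2 n21015 = n20896 := d14_1 D21015 (iv F40454) F40452
def n21016 : Q := act 4 n15835
theorem D21016 : act 4 n15835 = n21016 := rfl
theorem F40470 : act 1 n21016 = n15838 := d8_1 D21016 (iv D15838) (iv F27379)
def n21017 : Q := act 5 n15835
theorem D21017 : act 5 n15835 = n21017 := rfl
theorem F40471 : act 3 n21017 = n15836 := d16_1 D21017 (iv D15836) D15835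
def n21018 : Q := act 6 n15836
theorem D21018 : act 6 n15836 = n21018 := rfl
theorem F40472 : act 0 n21018 = n20865 := d5_1 D21018 (iv F40467) F40465
theorem F40473 : act 2 n21018 = n20864 := d14_1 D21018 (iv F40460) F40458
theorem F40474 : act 5 n21018 = n21015 := d20_1 D21018 (iv D21015) D21014 F40467 (iv F40056) (iv D15837) D15836
def n21019 : Q := act 0 n15839
theorem D21019 : act 0 n15839 = n21019 := rfl
theorem F40475 : act 2 n21019 = n18272 := d1_2 F35963 D21019 (iv F35694)
theorem F40476 : act 3 n21019 = n17648 := d2_2 (iv F27382) D21019 (iv D17648)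
theorem F40477 : act 6 n18271 = n21019 := d22_3 F35962 (iv D19290) (iv F35480) (iv D21019)
def n21020 : Q := act 4 n15839
theorem D21020 : act 4 n15839 = n21020 := rfl
theorem F40478 : act 1 n21020 = n15840 := d8_1 D21020 (iv D15840) D15839
def n21021 : Q := act 6 n15839
theorem D21021 : act 6 n15839 = n21021 := rfl
theorem F40479 : act 0 n21021 = n18271 := d5_1 D21021 F40477 (iv D21019)
theorem F40480 : act 1 n21021 = n20945 := d10_1 D21021 (iv D20945) (iv D15714) F21146 D15839
theorem F40481 : act 2 n21021 = n18270 := d14_1 D21021 F35693 F35963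
theorem F40482 : act 3 n21021 = n17650 := d17_1 D21021 (iv D17650) (iv F27382)
theorem F40483 : act 5 n19288 = n21021 := d22_0 (iv D21021) F35962 (iv D19290) D19288
def n21022 : Q := act 3 n15840
theorem D21022 : act 3 n15840 = n21022 := rfl
theorem F40484 : act 0 n21022 = n17562 := d2_1 D21022 F32689 (iv F27383)
theorem F40485 : act 2 n21022 = n17738 := d11_1 D21022 F32795 (iv F27223) (iv F40220) (iv F40450) F40451 F27381 (iv F32689) (iv F40251) (iv D20941) F27226 (iv F27212) (iv F27368) F27369 (iv F27384)
theorem F40486 : act 4 n21022 = n17328 := d15_2 D15840 D21022 F30396 F32604 (iv F21145)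
theorem F40487 : act 6 n21022 = n17326 := d17_2 (iv F27385) D21022 F33038
def n21023 : Q := act 1 n15841
theorem D21023 : act 1 n15841 = n21023 := rfl
theorem F40488 : act 4 n21023 = n15842 := d8_2 (iv F27387) D21023 (iv D15842)
def n21024 : Q := act 0 n15842
theorem D21024 : act 0 n15842 = n21024 := rfl
theorem F40489 : act 3 n21024 = n15843 := d2_2 (iv F27389) D21024 (iv D15843)
def n21025 : Q := act 2 n15842
theorem D21025 : act 2 n15842 = n21025 := rfl
theorem F40490 : act 1 n21025 = n20944 := d6_1 D21025 (iv D20944) (iv D15714) (iv F21147) D15842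
theorem F40491 : act 6 n21025 = n19053 := d14_2 (iv F35993) D21025 (iv F35536)
theorem F40492 : act 3 n19911 = n21025 := d17_3 F40491 F35508 (iv F37616)
theorem F40493 : act 5 n19909 = n21025 := d22_2 F33333 (iv F37611) F40491 (iv F35510)
def n21026 : Q := act 5 n15842
theorem D21026 : act 5 n15842 = n21026 := rfl
theorem F40494 : act 1 n21026 = n20940 := d9_1 D21026 (iv D20940) (iv D15711) F21149 D15842
theorem F40495 : act 2 n21026 = n19909 := d13_1 D21026 F40493 (iv D21025)
theorem F40496 : act 3 n21026 = n15844 := d16_1 D21026 (iv D15844) (iv F27389)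
def n21027 : Q := act 5 n15843
theorem D21027 : act 5 n15843 = n21027 := rfl
theorem F40497 : act 0 n21027 = n15844 := d4_1 D21027 (iv D15844) D15843
theorem F40498 : act 6 n21027 = n21000 := d22_1 D21027 (iv D21000) F27347 D15843
def n21028 : Q := act 6 n15844
theorem D21028 : act 6 n15844 = n21028 := rfl
theorem F40499 : act 0 n21028 = n21000 := d5_1 D21028 (iv F40498) F40497
theorem F40500 : act 2 n21028 = n19911 := d14_1 D21028 F37616 F32892
theorem F40501 : act 5 n21028 = n19910 := d20_1 D21028 F37614 D21027 F40498 (iv D21000) F27347 D15844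
def n21029 : Q := act 6 n15856
theorem D21029 : act 6 n15856 = n21029 := rfl
theorem F40502 : act 0 n21029 = n15859 := d5_1 D21029 (iv D15859) D15856
theorem F40503 : act 2 n21029 = n15880 := d14_1 D21029 (iv D15880) (iv F27409)
theorem F40504 : act 4 n21029 = n15866 := d19_1 D21029 (iv D15866) (iv F27410)
theorem F40505 : act 5 n21029 = n20862 := d22_2 F32449 D21029 (iv D20862) (iv F32450)
def n21030 : Q := act 6 n15857
theorem D21030 : act 6 n15857 = n21030 := rfl
theorem F40506 : act 1 n21030 = n20762 := d10_1 D21030 (iv D20762) F26801 (iv F32474) (iv F27411)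
theorem F40507 : act 3 n21030 = n15859 := d17_1 D21030 (iv D15859) D15857
def n21031 : Q := act 5 n15859
theorem D21031 : act 5 n15859 = n21031 := rfl
theorem F40508 : act 0 n21031 = n20862 := d4_1 D21031 (iv F40505) F40502
theorem F40509 : act 2 n21031 = n15882 := d13_1 D21031 (iv D15882) (iv F27415)
theorem F40510 : act 4 n21031 = n15873 := d18_1 D21031 (iv D15873) (iv F27416)
theorem F40511 : act 6 n21031 = n18471 := d20_2 D15859 D21031 F32449 D21029 F40505 (iv D20862) F29091
def n21032 : Q := act 6 n15864
theorem D21032 : act 6 n15864 = n21032 := rfl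
theorem F40512 : act 0 n21032 = n15870 := d5_1 D21032 (iv D15870) (iv F27426)
theorem F40513 : act 3 n21032 = n15866 := d17_1 D21032 (iv D15866) D15864
def n21033 : Q := act 1 n15866
theorem D21033 : act 1 n15866 = n21033 := rfl
theorem F40514 : act 6 n21033 = n19592 := d10_2 D15866 D21033 (iv D19592) (iv D14394) (iv F29124)
def n21034 : Q := act 6 n15867
theorem D21034 : act 6 n15867 = n21034 := rfl
theorem F40515 : act 2 n21034 = n15870 := d14_1 D21034 (iv D15870) D15867
theorem F40516 : act 3 n21034 = n16665 := d17_1 D21034 F29439 F29422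
theorem F40517 : act 5 n21034 = n16663 := d22_2 (iv F29418) D21034 (iv D16663) (iv F29414)
def n21035 : Q := act 6 n15868
theorem D21035 : act 6 n15868 = n21035 := rfl
theorem F40518 : act 1 n21035 = n19527 := d10_1 D21035 (iv D19527) F33054 (iv D15874) (iv F27432)
theorem F40519 : act 4 n21035 = n15870 := d19_1 D21035 (iv D15870) D15868
def n21036 : Q := act 6 n15869
theorem D21036 : act 6 n15869 = n21036 := rfl
theorem F40520 : act 3 n21036 = n15871 := d17_1 D21036 (iv D15871) (iv F27434)
theorem F40521 : act 5 n21036 = n21032 := d22_2 D15869 D21036 (iv D21032) F27426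
def n21037 : Q := act 5 n15870
theorem D21037 : act 5 n15870 = n21037 := rfl
theorem F40522 : act 0 n21037 = n21036 := d4_1 D21037 F40521 F40512
theorem F40523 : act 2 n21037 = n16663 := d13_1 D21037 (iv F40517) F40515
theorem F40524 : act 3 n21037 = n15873 := d16_1 D21037 (iv D15873) (iv F27435)
theorem F40525 : act 6 n21037 = n16660 := d20_2 D15870 D21037 (iv F29427) D21032 (iv F40521) (iv D21036) (iv D15869)
def n21038 : Q := act 1 n15871
theorem D21038 : act 1 n15871 = n21038 := rfl
theorem F40526 : act 6 n21038 = n21038 := d10_2 D15871 D21038 (iv D21038) (iv D15871) F21181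
def n21039 : Q := act 0 n15878
theorem D21039 : act 0 n15878 = n21039 := rfl
theorem F40527 : act 1 n21039 = n19424 := d0_2 D15878 D21039 F36359 F24874 F19754 F12710 (iv F7689) D9930 D12007
theorem F40528 : act 2 n21039 = n19352 := d1_2 (iv F29129) D21039 F36158
theorem F40529 : act 3 n21039 = n19625 := d2_2 F29175 D21039 F36898
theorem F40530 : act 4 n21039 = n15883 := d3_2 (iv F27448) D21039 (iv D15883)
theorem F40531 : act 5 n21039 = n19625 := d4_2 F29174 D21039 F36898
def n21040 : Q := act 6 n15878
theorem D21040 : act 6 n15878 = n21040 := rfl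
theorem F40532 : act 2 n21040 = n19594 := d14_1 D21040 (iv D19594) (iv F29129)
theorem F40533 : act 3 n21040 = n19627 := d17_1 D21040 (iv D19627) F29175
theorem F40534 : act 4 n21040 = n15886 := d19_1 D21040 (iv D15886) (iv F27448)
def n21041 : Q := act 1 n15880
theorem D21041 : act 1 n15880 = n21041 := rfl
theorem F40535 : act 0 n21041 = n19459 := d0_1 D21041 (iv D19459) F24919 (iv F24967) (iv F36539) (iv F40167) F40166 F27184 (iv F27451)
theorem F40536 : act 3 n21041 = n19504 := d7_2 (iv F29109) D21041 (iv F36560)
theorem F40537 : act 4 n21041 = n15888 := d8_2 (iv F27452) D21041 (iv D15888)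
def n21042 : Q := act 1 n15882
theorem D21042 : act 1 n15882 = n21042 := rfl
theorem F40538 : act 0 n21042 = n21011 := d0_1 D21042 F40461 F40178 (iv F40112) F40111 (iv F40457) F40456 (iv D20863) F29092
theorem F40539 : act 3 n21042 = n19406 := d7_2 (iv F29177) D21042 F36315
theorem F40540 : act 4 n21042 = n15890 := d8_2 (iv F27456) D21042 (iv D15890)
theorem F40541 : act 5 n21042 = n19503 := d9_2 D15882 D21042 F40177 (iv D20905) F27184
theorem F40542 : act 6 n21042 = n19406 := d10_2 F29089 D21042 F36315 (iv D15611) (iv F27074)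
def n21043 : Q := act 1 n15886
theorem D21043 : act 1 n15886 = n21043 := rfl
theorem F40543 : act 3 n21043 = n19427 := d7_2 (iv F27461) D21043 (iv D19427)
theorem F40544 : act 6 n21043 = n15888 := d10_2 D15886 D21043 (iv D15888) (iv D12012) D12010
def n21044 : Q := act 0 n15888
theorem D21044 : act 0 n15888 = n21044 := rfl
theorem F40545 : act 1 n21044 = n19460 := d0_2 D15888 D21044 F36429 (iv F36542) (iv F40214) (iv D20919) F27202 F21047 (iv F21198)
theorem F40546 : act 3 n21044 = n19430 := d2_2 (iv F27463) D21044 (iv D19430)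
theorem F40547 : act 4 n21044 = n19459 := d3_2 F40537 D21044 (iv F40535)
def n21045 : Q := act 2 n15888
theorem D21045 : act 2 n15888 = n21045 := rfl
def n21046 : Q := act 5 n15888
theorem D21046 : act 5 n15888 = n21046 := rfl
theorem F40548 : act 3 n21046 = n19432 := d16_1 D21046 (iv D19432) (iv F27463)
theorem F40549 : act 6 n20890 = n21046 := d24_0 (iv D21046) (iv D15888) (iv D12012) D12011 (iv F29112) D18483 F33072 D19433 F36380 D19444 (iv F36595) F40123 F40122 D20890
def n21047 : Q := act 0 n15889
theorem D21047 : act 0 n15889 = n21047 := rfl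
theorem F40550 : act 3 n21047 = n19436 := d2_2 (iv F27464) D21047 (iv D19436)
theorem F40551 : act 4 n21047 = n21010 := d3_2 F40049 D21047 F40456
theorem F40552 : act 6 n21047 = n20867 := d5_2 (iv F27465) D21047 (iv D20867)
theorem F40553 : act 5 n21047 = n19404 := d22_0 F40065 (iv D20869) (iv F27465) D21047
theorem F40554 : act 1 n19505 = n21047 := d9_5 F40553 (iv D19404) F24763 D14312 D19505
theorem F40555 : act 2 n21006 = n21047 := d13_3 F40553 F36309 D21006
def n21048 : Q := act 2 n15889
theorem D21048 : act 2 n15889 = n21048 := rfl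
theorem F40556 : act 0 n21048 = n21006 := d1_1 D21048 F40555 (iv D21047)
theorem F40557 : act 4 n21048 = n21014 := d12_2 F40049 D21048 F40466
theorem F40558 : act 6 n21048 = n20868 := d14_2 (iv F27465) D21048 (iv D20868)
theorem F40559 : act 3 n21048 = n20000 := d21_1 D21048 (iv D20000) F37544 (iv D15803) (iv F24923) (iv F36511) (iv F40550) (iv D21047)
theorem F40560 : act 5 n21004 = n21048 := d23_0 (iv D21048) (iv D15889) (iv F21202) (iv D12014) (iv F21183) (iv F32458) F23725 F34225 F34197 F34185 F14559 D9758 F14590 D9761 F32742 F32705 D11975 D15825 D21004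
def n21049 : Q := act 5 n15889
theorem D21049 : act 5 n15889 = n21049 := rfl
theorem F40561 : act 0 n21049 = n19404 := d4_1 D21049 (iv F40553) (iv D21047)
theorem F40562 : act 1 n21049 = n21046 := d9_1 D21049 (iv D21046) (iv D15888) (iv F21201) D15889
theorem F40563 : act 2 n21049 = n21004 := d13_1 D21049 F40560 (iv D21048)
theorem F40564 : act 3 n21049 = n19438 := d16_1 D21049 (iv D19438) (iv F27464)
theorem F40565 : act 4 n21049 = n21009 := d18_1 D21049 F40455 F40049
def n21050 : Q := act 5 n15891
theorem D21050 : act 5 n15891 = n21050 := rfl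
theorem F40566 : act 0 n21050 = n15893 := d4_1 D21050 (iv D15893) D15891
theorem F40567 : act 2 n21050 = n15914 := d13_1 D21050 (iv D15914) (iv F27467)
theorem F40568 : act 4 n21050 = n15900 := d18_1 D21050 (iv D15900) (iv F27468)
theorem F40569 : act 6 n21050 = n20949 := d22_1 D21050 (iv D20949) F34361 D15891
def n21051 : Q := act 5 n15892
theorem D21051 : act 5 n15892 = n21051 := rfl
theorem F40570 : act 1 n21051 = n20817 := d9_1 D21051 (iv D20817) F26942 (iv F32981) (iv F27469)
theorem F40571 : act 3 n21051 = n15893 := d16_1 D21051 (iv D15893) D15892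
def n21052 : Q := act 6 n15893
theorem D21052 : act 6 n15893 = n21052 := rfl
theorem F40572 : act 0 n21052 = n20949 := d5_1 D21052 (iv F40569) F40566
theorem F40573 : act 1 n21052 = n21031 := d10_1 D21052 F40511 (iv D18471) (iv F34274) (iv F33000)
theorem F40574 : act 2 n21052 = n15916 := d14_1 D21052 (iv D15916) (iv F27470)
theorem F40575 : act 4 n21052 = n15907 := d19_1 D21052 (iv D15907) (iv F27471)
theorem F40576 : act 5 n21052 = n18473 := d20_1 D21052 F35083 D21050 F40569 (iv D20949) F34361 D15893
def n21053 : Q := act 5 n15899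
theorem D21053 : act 5 n15899 = n21053 := rfl
theorem F40577 : act 0 n21053 = n15904 := d4_1 D21053 (iv D15904) (iv F27484)
theorem F40578 : act 3 n21053 = n15900 := d16_1 D21053 (iv D15900) D15899
def n21054 : Q := act 1 n15900
theorem D21054 : act 1 n15900 = n21054 := rfl
theorem F40579 : act 5 n21054 = n19593 := d9_2 D15900 D21054 (iv D19593) (iv D14396) F34448
def n21055 : Q := act 5 n15902
theorem D21055 : act 5 n15902 = n21055 := rfl
theorem F40580 : act 2 n21055 = n15904 := d13_1 D21055 (iv D15904) D15902
theorem F40581 : act 3 n21055 = n16728 := d16_1 D21055 F29521 (iv F34824)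
theorem F40582 : act 6 n21055 = n16726 := d22_1 D21055 (iv D16726) D16727 (iv F34822)
def n21056 : Q := act 5 n15903
theorem D21056 : act 5 n15903 = n21056 := rfl
theorem F40583 : act 1 n21056 = n19528 := d9_1 D21056 (iv D19528) F35503 (iv D15909) (iv F27490)
theorem F40584 : act 4 n21056 = n15904 := d18_1 D21056 (iv D15904) D15903
def n21057 : Q := act 6 n15904
theorem D21057 : act 6 n15904 = n21057 := rfl
theorem F40585 : act 1 n21057 = n21037 := d10_1 D21057 F40525 F29425 (iv F31758) F35500
theorem F40586 : act 2 n21057 = n16726 := d14_1 D21057 (iv F40582) F40580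
theorem F40587 : act 3 n21057 = n15907 := d17_1 D21057 (iv D15907) (iv F27491)
theorem F40588 : act 5 n21057 = n16724 := d22_2 D15904 D21057 (iv F34819) F27484
theorem F40589 : act 2 n17047 = n16852 := d6_2 F40586 (iv F29995) F29736 (iv F40523) (iv F40585)
theorem F40590 : act 5 n16852 = n17046 := d13_2 D17047 F40589 (iv D17046)
theorem F40591 : act 6 n16851 = n17047 := d14_0 F40589 (iv D16852) D16851
theorem F40592 : act 3 n17066 = n16851 := d17_3 F40591 F29996 D17066
theorem F40593 : act 3 n17046 = n16868 := d16_1 F40590 (iv D16868) (iv F29737)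
def n21058 : Q := act 5 n15905
theorem D21058 : act 5 n15905 = n21058 := rfl
theorem F40594 : act 0 n21058 = n21057 := d4_1 D21058 F40588 F34814
theorem F40595 : act 3 n21058 = n15908 := d16_1 D21058 (iv D15908) (iv F27493)
theorem F40596 : act 6 n21058 = n21053 := d20_2 D15905 D21058 (iv D21053) F34819 (iv F40588) (iv D21057) (iv D15904)
def n21059 : Q := act 1 n15908
theorem D21059 : act 1 n15908 = n21059 := rfl
theorem F40597 : act 5 n21059 = n21059 := d9_2 D15908 D21059 (iv D21059) (iv D15908) F21217
def n21060 : Q := act 0 n15913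
theorem D21060 : act 0 n15913 = n21060 := rfl
theorem F40598 : act 1 n21060 = n19480 := d0_2 D15913 D21060 F36468 F24939 F19787 F12753 (iv F15785) D9939 D12025
theorem F40599 : act 2 n21060 = n19392 := d1_2 F35082 D21060 F36276
theorem F40600 : act 3 n21060 = n19630 := d2_2 F32107 D21060 F36916
theorem F40601 : act 4 n21060 = n15918 := d3_2 (iv F27506) D21060 (iv D15918)
theorem F40602 : act 6 n21060 = n19630 := d5_2 (iv F35089) D21060 F36916
def n21061 : Q := act 5 n15913
theorem D21061 : act 5 n15913 = n21061 := rfl
theorem F40603 : act 2 n21061 = n19596 := d13_1 D21061 (iv D19596) F35082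
theorem F40604 : act 3 n21061 = n19632 := d16_1 D21061 (iv D19632) F32107
theorem F40605 : act 4 n21061 = n15920 := d18_1 D21061 (iv D15920) (iv F27506)
def n21062 : Q := act 1 n15914
theorem D21062 : act 1 n15914 = n21062 := rfl
theorem F40606 : act 0 n21062 = n19455 := d0_1 D21062 F36422 F24914 (iv F24901) (iv F36406) (iv F40391) F40390 F27339 (iv F27507)
theorem F40607 : act 3 n21062 = n19454 := d7_2 F34432 D21062 F36488
theorem F40608 : act 4 n21062 = n15922 := d8_2 (iv F27508) D21062 (iv D15922)
def n21063 : Q := act 1 n15916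
theorem D21063 : act 1 n15916 = n21063 := rfl
theorem F40609 : act 0 n21063 = n20929 := d0_1 D21063 (iv F40404) F40402 (iv F40329) F40328 (iv F40227) F40272 (iv D20950) F34362
theorem F40610 : act 2 n21063 = n21042 := d6_2 F40574 D21063 (iv D21042) (iv F40509) (iv F40573)
theorem F40611 : act 3 n21063 = n19370 := d7_2 F35487 D21063 F36213
theorem F40612 : act 4 n21063 = n15924 := d8_2 (iv F27511) D21063 (iv D15924)
theorem F40613 : act 5 n21063 = n19370 := d9_2 F34351 D21063 F36213 (iv D15738) (iv F27232)
theorem F40614 : act 6 n21063 = n19453 := d10_2 D15916 D21063 F40401 (iv D20989) F27339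
def n21064 : Q := act 1 n15920
theorem D21064 : act 1 n15920 = n21064 := rfl
theorem F40615 : act 3 n21064 = n19483 := d7_2 (iv F27518) D21064 (iv D19483)
theorem F40616 : act 5 n21064 = n15922 := d9_2 D15920 D21064 (iv D15922) (iv D12029) D12028
def n21065 : Q := act 0 n15922
theorem D21065 : act 0 n15922 = n21065 := rfl
theorem F40617 : act 1 n21065 = n19458 := d0_2 D15922 D21065 F36425 (iv F36408) F40442 (iv D21003) F27357 F21129 (iv F21231)
theorem F40618 : act 3 n21065 = n19486 := d2_2 (iv F27520) D21065 (iv D19486)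
theorem F40619 : act 4 n21065 = n19455 := d3_2 F40608 D21065 (iv F40606)
def n21066 : Q := act 2 n15922
theorem D21066 : act 2 n15922 = n21066 := rfl
def n21067 : Q := act 6 n15922
theorem D21067 : act 6 n15922 = n21067 := rfl
theorem F40620 : act 3 n21067 = n19488 := d17_1 D21067 (iv D19488) (iv F27520)
theorem F40621 : act 5 n21067 = n20972 := d24_1 D21067 (iv D20972) (iv F40339) F40340 (iv F36535) (iv D19495) (iv F36401) F36400 (iv F33081) (iv D18489) F34447 (iv D12030) D12029 D15922
def n21068 : Q := act 0 n15925
theorem D21068 : act 0 n15925 = n21068 := rfl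
theorem F40622 : act 3 n21068 = n19491 := d2_2 (iv F27523) D21068 (iv D19491)
theorem F40623 : act 4 n21068 = n20928 := d3_2 F40269 D21068 F40272
theorem F40624 : act 5 n21068 = n20952 := d4_2 (iv F27524) D21068 (iv D20952)
theorem F40625 : act 6 n19368 = n21068 := d22_3 F27524 D20954 F40287 (iv D21068)
theorem F40626 : act 1 n21068 = n19457 := d10_1 F40625 (iv D19457) (iv D14261) (iv F24657) D19368
theorem F40627 : act 2 n21068 = n20923 := d14_1 F40625 (iv D20923) (iv F36207)
def n21069 : Q := act 2 n15925
theorem D21069 : act 2 n15925 = n21069 := rfl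
theorem F40628 : act 0 n21069 = n20923 := d1_1 D21069 (iv F40627) (iv D21068)
theorem F40629 : act 4 n21069 = n20933 := d12_2 F40269 D21069 F40271
theorem F40630 : act 5 n21069 = n20953 := d13_2 (iv F27524) D21069 (iv D20953)
theorem F40631 : act 3 n21069 = n20054 := d21_1 D21069 (iv D20054) F37576 (iv D15675) (iv F24985) (iv F36520) (iv F40622) (iv D21068)
theorem F40632 : act 6 n21069 = n20920 := d22_3 D20922 F40282 (iv F40630) (iv D20920)
def n21070 : Q := act 6 n15925
theorem D21070 : act 6 n15925 = n21070 := rfl
theorem F40633 : act 0 n21070 = n19368 := d5_1 D21070 F40625 (iv D21068)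
theorem F40634 : act 1 n21070 = n21067 := d10_1 D21070 (iv D21067) (iv D15922) (iv F21239) D15925
theorem F40635 : act 2 n21070 = n20920 := d14_1 D21070 (iv F40632) (iv D21069)
theorem F40636 : act 3 n21070 = n19493 := d17_1 D21070 (iv D19493) (iv F27523)
theorem F40637 : act 4 n21070 = n20925 := d19_1 D21070 (iv F40273) F40269
def n21071 : Q := act 2 n15930
theorem D21071 : act 2 n15930 = n21071 := rfl
theorem F40638 : act 0 n21071 = n15931 := d1_1 D21071 (iv D15931) D15930
theorem F40639 : act 1 n21071 = n20199 := d6_1 D21071 F38273 F26065 (iv F26172) F27536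
theorem F40640 : act 4 n21071 = n16548 := d12_2 (iv F27535) D21071 (iv D16548)
def n21072 : Q := act 3 n15931
theorem D21072 : act 3 n15931 = n21072 := rfl
def n21073 : Q := act 6 n15931
theorem D21073 : act 6 n15931 = n21073 := rfl
theorem F40641 : act 2 n21073 = n15932 := d14_1 D21073 (iv D15932) D15931
theorem F40642 : act 4 n21073 = n16550 := d19_1 D21073 (iv D16550) (iv F27537)
def n21074 : Q := act 2 n15933
theorem D21074 : act 2 n15933 = n21074 := rfl
theorem F40643 : act 0 n21074 = n15934 := d1_1 D21074 (iv D15934) D15933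
theorem F40644 : act 1 n21074 = n20234 := d6_1 D21074 F38341 F26097 (iv F26231) F27540
theorem F40645 : act 4 n21074 = n16551 := d12_2 (iv F27539) D21074 (iv D16551)
def n21075 : Q := act 3 n15934
theorem D21075 : act 3 n15934 = n21075 := rfl
def n21076 : Q := act 5 n15934
theorem D21076 : act 5 n15934 = n21076 := rfl
theorem F40646 : act 2 n21076 = n15935 := d13_1 D21076 (iv D15935) D15934
theorem F40647 : act 4 n21076 = n16553 := d18_1 D21076 (iv D16553) (iv F27541)
def n21077 : Q := act 2 n15938
theorem D21077 : act 2 n15938 = n21077 := rfl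
theorem F40648 : act 0 n21077 = n21077 := d1_1 D21077 (iv D21077) F27553
theorem F40649 : act 1 n21077 = n18360 := d6_1 D21077 (iv D18360) (iv D13412) (iv F21256) D15938
theorem F40650 : act 5 n21077 = n21077 := d13_2 F27552 D21077 (iv D21077)
def n21078 : Q := act 6 n15938
theorem D21078 : act 6 n15938 = n21078 := rfl
theorem F40651 : act 0 n21078 = n21078 := d5_1 D21078 (iv D21078) F27553
theorem F40652 : act 1 n21078 = n16668 := d10_1 D21078 (iv F39087) F39083 (iv D15939) D15938
theorem F40653 : act 3 n21078 = n15943 := d17_1 D21078 (iv D15943) (iv F27551)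
theorem F40654 : act 4 n21078 = n16667 := d19_1 D21078 (iv F39074) F39072
theorem F40655 : act 5 n21078 = n21078 := d22_2 F27552 D21078 (iv D21078) F27553
def n21079 : Q := act 2 n15940
theorem D21079 : act 2 n15940 = n21079 := rfl
theorem F40656 : act 0 n21079 = n21079 := d1_1 D21079 (iv D21079) F29299
theorem F40657 : act 1 n21079 = n18364 := d6_1 D21079 (iv D18364) (iv D13414) (iv F21258) D15940
theorem F40658 : act 6 n21079 = n21079 := d14_2 F27558 D21079 (iv D21079)
def n21080 : Q := act 5 n15940
theorem D21080 : act 5 n15940 = n21080 := rfl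
theorem F40659 : act 0 n21080 = n21080 := d4_1 D21080 (iv D21080) F29299
theorem F40660 : act 1 n21080 = n16736 := d9_1 D21080 (iv F39166) F39162 (iv D15941) D15940
theorem F40661 : act 3 n21080 = n15947 := d16_1 D21080 (iv D15947) (iv F27557)
theorem F40662 : act 4 n21080 = n16733 := d18_1 D21080 (iv F39151) F39150
theorem F40663 : act 6 n21080 = n21080 := d22_1 D21080 (iv D21080) F27558 F29299
def n21081 : Q := act 3 n15942
theorem D21081 : act 3 n15942 = n21081 := rfl
theorem F40664 : act 0 n21081 = n21081 := d2_1 D21081 (iv D21081) F27563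
theorem F40665 : act 1 n21081 = n15959 := d7_1 D21081 (iv D15959) (iv F27564)
theorem F40666 : act 5 n21081 = n21081 := d16_2 F27566 D21081 (iv D21081)
theorem F40667 : act 2 n21078 = n21081 := d6_0 F40665 (iv F38914) F38913 (iv F29449) (iv F40652)
theorem F40668 : act 6 n21081 = n21077 := d14_2 D21078 F40667 (iv D21077)
def n21082 : Q := act 6 n15942
theorem D21082 : act 6 n15942 = n21082 := rfl
theorem F40669 : act 0 n21082 = n21082 := d5_1 D21082 (iv D21082) F27563
theorem F40670 : act 1 n21082 = n16261 := d10_1 D21082 (iv F28149) (iv F29359) (iv D15960) (iv F27564)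
theorem F40671 : act 2 n21082 = n15943 := d14_1 D21082 (iv D15943) D15942
theorem F40672 : act 3 n21082 = n21077 := d17_1 D21082 (iv F40668) (iv D21081)
theorem F40673 : act 4 n21082 = n16580 := d19_1 D21082 (iv D16580) (iv F27565)
theorem F40674 : act 5 n21082 = n21082 := d22_2 F27566 D21082 (iv D21082) F27563
def n21083 : Q := act 1 n15943
theorem D21083 : act 1 n15943 = n21083 := rfl
theorem F40675 : act 3 n21083 = n16668 := d7_2 F40653 D21083 (iv F40652)
theorem F40676 : act 4 n21083 = n16581 := d8_2 (iv F27568) D21083 (iv D16581)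
theorem F40677 : act 6 n21083 = n15944 := d10_2 D15943 D21083 (iv D15944) (iv D12042) D12041
theorem F40678 : act 5 n16834 = n21083 := d22_0 F40677 F39081 (iv D20594) (iv F29686)
theorem F40679 : act 0 n21083 = n19521 := d22_4 F36607 D20594 (iv F39081) (iv F40677)
def n21084 : Q := act 0 n15944
theorem D21084 : act 0 n15944 = n21084 := rfl
theorem F40680 : act 3 n21084 = n20502 := d2_2 F39085 D21084 (iv F39082)
theorem F40681 : act 4 n21084 = n16582 := d3_2 (iv F27570) D21084 (iv D16582)
theorem F40682 : act 6 n21084 = n19521 := d5_2 F40677 D21084 (iv F40679)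
def n21085 : Q := act 2 n15944
theorem D21085 : act 2 n15944 = n21085 := rfl
theorem F40683 : act 1 n21085 = n15963 := d6_1 D21085 (iv D15963) (iv D12052) (iv F21262) D15944
theorem F40684 : act 4 n21085 = n16583 := d12_2 (iv F27570) D21085 (iv D16583)
def n21086 : Q := act 3 n15946
theorem D21086 : act 3 n15946 = n21086 := rfl
theorem F40685 : act 0 n21086 = n21086 := d2_1 D21086 (iv D21086) F29298
theorem F40686 : act 1 n21086 = n15967 := d7_1 D21086 (iv D15967) (iv F27573)
theorem F40687 : act 6 n21086 = n21086 := d17_2 F27575 D21086 (iv D21086)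
theorem F40688 : act 2 n21080 = n21086 := d6_0 F40686 (iv F38993) F38992 (iv F29537) (iv F40660)
theorem F40689 : act 5 n21086 = n21079 := d13_2 D21080 F40688 (iv D21079)
def n21087 : Q := act 5 n15946
theorem D21087 : act 5 n15946 = n21087 := rfl
theorem F40690 : act 0 n21087 = n21087 := d4_1 D21087 (iv D21087) F29298
theorem F40691 : act 1 n21087 = n16365 := d9_1 D21087 (iv F28360) (iv F35253) (iv D15968) (iv F27573)
theorem F40692 : act 2 n21087 = n15947 := d13_1 D21087 (iv D15947) D15946
theorem F40693 : act 3 n21087 = n21079 := d16_1 D21087 (iv F40689) (iv D21086)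
theorem F40694 : act 4 n21087 = n16588 := d18_1 D21087 (iv D16588) (iv F27574)
theorem F40695 : act 6 n21087 = n21087 := d22_1 D21087 (iv D21087) F27575 F29298
def n21088 : Q := act 1 n15947
theorem D21088 : act 1 n15947 = n21088 := rfl
theorem F40696 : act 3 n21088 = n16736 := d7_2 F40661 D21088 (iv F40660)
theorem F40697 : act 4 n21088 = n16589 := d8_2 (iv F27576) D21088 (iv D16589)
theorem F40698 : act 5 n21088 = n15948 := d9_2 D15947 D21088 (iv D15948) (iv D12044) D12043
theorem F40699 : act 0 n19522 = n21088 := d22_4 F40698 F39160 (iv D20632) (iv F36611)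
theorem F40700 : act 6 n21088 = n17025 := d22_3 D20632 (iv F39160) (iv F40698) F29963
def n21089 : Q := act 0 n15948
theorem D21089 : act 0 n15948 = n21089 := rfl
theorem F40701 : act 3 n21089 = n20548 := d2_2 F39164 D21089 (iv F39161)
theorem F40702 : act 4 n21089 = n16590 := d3_2 (iv F27577) D21089 (iv D16590)
theorem F40703 : act 5 n21089 = n19522 := d4_2 F40698 D21089 F40699
def n21090 : Q := act 2 n15948
theorem D21090 : act 2 n15948 = n21090 := rfl
theorem F40704 : act 1 n21090 = n15971 := d6_1 D21090 (iv D15971) (iv D12056) (iv F21268) D15948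
theorem F40705 : act 4 n21090 = n16591 := d12_2 (iv F27577) D21090 (iv D16591)
def n21091 : Q := act 1 n15949
theorem D21091 : act 1 n15949 = n21091 := rfl
theorem F40706 : act 0 n21091 = n20162 := d0_1 D21091 F38177 (iv F31819) F33530 (iv D18732) (iv D13670) F19249 D12045 D15949
theorem F40707 : act 3 n21091 = n15957 := d7_2 (iv F27578) D21091 (iv D15957)
theorem F40708 : act 4 n21091 = n19662 := d8_2 (iv F27579) D21091 F36986
theorem F40709 : act 5 n19702 = n21091 := d18_0 F40708 F36987 D19702
def n21092 : Q := act 2 n15949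
theorem D21092 : act 2 n15949 = n21092 := rfl
theorem F40710 : act 0 n21092 = n15950 := d1_1 D21092 (iv D15950) D15949
theorem F40711 : act 4 n21092 = n20148 := d12_2 (iv F27579) D21092 (iv D20148)
theorem F40712 : act 5 n21092 = n15992 := d13_2 (iv F27580) D21092 (iv D15992)
def n21093 : Q := act 3 n15950
theorem D21093 : act 3 n15950 = n21093 := rfl
theorem F40713 : act 5 n21093 = n15994 := d16_2 (iv F27581) D21093 (iv D15994)
def n21094 : Q := act 6 n15950
theorem D21094 : act 6 n15950 = n21094 := rfl
theorem F40714 : act 2 n21094 = n15951 := d14_1 D21094 (iv D15951) D15950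
def n21095 : Q := act 1 n15951
theorem D21095 : act 1 n15951 = n21095 := rfl
theorem F40715 : act 3 n21095 = n15961 := d7_2 (iv F27582) D21095 (iv D15961)
theorem F40716 : act 6 n21095 = n15952 := d10_2 D15951 D21095 (iv D15952) (iv D12046) D12045
def n21096 : Q := act 0 n15952
theorem D21096 : act 0 n15952 = n21096 := rfl
theorem F40717 : act 3 n21096 = n15962 := d2_2 (iv F27583) D21096 (iv D15962)
theorem F40718 : act 5 n16237 = n21096 := d16_0 F40717 (iv F27602) (iv F28078)
def n21097 : Q := act 2 n15952
theorem D21097 : act 2 n15952 = n21097 := rfl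
theorem F40719 : act 1 n21097 = n18746 := d6_1 D21097 (iv D18746) (iv D13679) (iv F21273) D15952
def n21098 : Q := act 5 n15952
theorem D21098 : act 5 n15952 = n21098 := rfl
theorem F40720 : act 0 n21098 = n16237 := d4_1 D21098 F40718 (iv D21096)
theorem F40721 : act 1 n21098 = n18737 := d9_1 D21098 (iv D18737) (iv D13671) (iv F21275) D15952
theorem F40722 : act 3 n21098 = n15964 := d16_1 D21098 (iv D15964) (iv F27583)
def n21099 : Q := act 1 n15953
theorem D21099 : act 1 n15953 = n21099 := rfl
theorem F40723 : act 0 n21099 = n20180 := d0_1 D21099 F38228 (iv F31831) F33541 (iv D18735) (iv D13671) F19252 D12047 D15953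
theorem F40724 : act 3 n21099 = n15965 := d7_2 (iv F27584) D21099 (iv D15965)
theorem F40725 : act 4 n21099 = n19663 := d8_2 F35287 D21099 F36989
theorem F40726 : act 6 n19715 = n21099 := d19_0 F40725 F36990 D19715
def n21100 : Q := act 2 n15953
theorem D21100 : act 2 n15953 = n21100 := rfl
theorem F40727 : act 0 n21100 = n15954 := d1_1 D21100 (iv D15954) D15953
theorem F40728 : act 4 n21100 = n20150 := d12_2 F35287 D21100 (iv D20150)
theorem F40729 : act 6 n21100 = n15998 := d14_2 (iv F27585) D21100 (iv D15998)
def n21101 : Q := act 3 n15954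
theorem D21101 : act 3 n15954 = n21101 := rfl
theorem F40730 : act 6 n21101 = n16000 := d17_2 (iv F27586) D21101 (iv D16000)
def n21102 : Q := act 5 n15954
theorem D21102 : act 5 n15954 = n21102 := rfl
theorem F40731 : act 2 n21102 = n15955 := d13_1 D21102 (iv D15955) D15954
def n21103 : Q := act 1 n15955
theorem D21103 : act 1 n15955 = n21103 := rfl
theorem F40732 : act 3 n21103 = n15969 := d7_2 (iv F27587) D21103 (iv D15969)
theorem F40733 : act 5 n21103 = n15956 := d9_2 D15955 D21103 (iv D15956) (iv D12048) D12047
def n21104 : Q := act 0 n15956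
theorem D21104 : act 0 n15956 = n21104 := rfl
theorem F40734 : act 3 n21104 = n15970 := d2_2 (iv F27588) D21104 (iv D15970)
theorem F40735 : act 6 n16192 = n21104 := d17_0 F40734 (iv F27619) (iv F28010)
def n21105 : Q := act 2 n15956
theorem D21105 : act 2 n15956 = n21105 := rfl
theorem F40736 : act 1 n21105 = n18741 := d6_1 D21105 (iv D18741) (iv D13675) (iv F21279) D15956
def n21106 : Q := act 6 n15956
theorem D21106 : act 6 n15956 = n21106 := rfl
theorem F40737 : act 0 n21106 = n16192 := d5_1 D21106 F40735 (iv D21104)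
theorem F40738 : act 1 n21106 = n18734 := d10_1 D21106 (iv D18734) (iv D13670) (iv F21281) D15956
theorem F40739 : act 3 n21106 = n15972 := d17_1 D21106 (iv D15972) (iv F27588)
def n21107 : Q := act 3 n15958
theorem D21107 : act 3 n15958 = n21107 := rfl
theorem F40740 : act 0 n21107 = n15959 := d2_1 D21107 (iv D15959) (iv F27592)
theorem F40741 : act 1 n21107 = n16453 := d7_1 D21107 F28515 (iv F27595)
theorem F40742 : act 5 n21107 = n16006 := d16_2 (iv F27594) D21107 (iv D16006)
def n21108 : Q := act 6 n15959
theorem D21108 : act 6 n15959 = n21108 := rfl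
theorem F40743 : act 3 n21108 = n15960 := d17_1 D21108 (iv D15960) D15959
def n21109 : Q := act 2 n15961
theorem D21109 : act 2 n15961 = n21109 := rfl
theorem F40744 : act 4 n21109 = n16597 := d12_2 (iv F27599) D21109 (iv D16597)
theorem F40745 : act 6 n21109 = n15963 := d14_2 (iv F27600) D21109 (iv D15963)
def n21110 : Q := act 2 n15962
theorem D21110 : act 2 n15962 = n21110 := rfl
theorem F40746 : act 0 n21110 = n15963 := d1_1 D21110 (iv D15963) D15962
theorem F40747 : act 4 n21110 = n16598 := d12_2 (iv F27601) D21110 (iv D16598)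
theorem F40748 : act 5 n21110 = n16440 := d13_2 F27602 D21110 (iv D16440)
def n21111 : Q := act 3 n15963
theorem D21111 : act 3 n15963 = n21111 := rfl
def n21112 : Q := act 5 n15963
theorem D21112 : act 5 n15963 = n21112 := rfl
theorem F40749 : act 0 n21112 = n16440 := d4_1 D21112 (iv F40748) F40746
theorem F40750 : act 2 n21112 = n15964 := d13_1 D21112 (iv D15964) D15963
theorem F40751 : act 4 n21112 = n16600 := d18_1 D21112 (iv D16600) (iv F27603)
def n21113 : Q := act 6 n15964
theorem D21113 : act 6 n15964 = n21113 := rfl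
theorem F40752 : act 0 n21113 = n16431 := d5_1 D21113 F28479 (iv F27604)
theorem F40753 : act 1 n21113 = n16257 := d10_1 D21113 F28126 D16277 (iv F28170) (iv F27605)
theorem F40754 : act 4 n21113 = n16601 := d19_1 D21113 (iv D16601) (iv F27606)
theorem F40755 : act 5 n21113 = n20252 := d20_1 D21113 F38379 (iv F27602) (iv F28479) F28478 F27600 D15964
def n21114 : Q := act 3 n15966
theorem D21114 : act 3 n15966 = n21114 := rfl
theorem F40756 : act 0 n21114 = n15967 := d2_1 D21114 (iv D15967) (iv F27610)
theorem F40757 : act 1 n21114 = n16484 := d7_1 D21114 F28588 (iv F34852)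
theorem F40758 : act 6 n21114 = n16019 := d17_2 (iv F27612) D21114 (iv D16019)
def n21115 : Q := act 5 n15967
theorem D21115 : act 5 n15967 = n21115 := rfl
theorem F40759 : act 3 n21115 = n15968 := d16_1 D21115 (iv D15968) D15967
def n21116 : Q := act 2 n15969
theorem D21116 : act 2 n15969 = n21116 := rfl
theorem F40760 : act 4 n21116 = n16609 := d12_2 (iv F27616) D21116 (iv D16609)
theorem F40761 : act 5 n21116 = n15971 := d13_2 (iv F27617) D21116 (iv D15971)
def n21117 : Q := act 2 n15970
theorem D21117 : act 2 n15970 = n21117 := rfl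
theorem F40762 : act 0 n21117 = n15971 := d1_1 D21117 (iv D15971) D15970
theorem F40763 : act 4 n21117 = n16610 := d12_2 (iv F27618) D21117 (iv D16610)
theorem F40764 : act 6 n21117 = n16337 := d14_2 F27619 D21117 (iv D16337)
def n21118 : Q := act 3 n15971
theorem D21118 : act 3 n15971 = n21118 := rfl
def n21119 : Q := act 6 n15971
theorem D21119 : act 6 n15971 = n21119 := rfl
theorem F40765 : act 0 n21119 = n16337 := d5_1 D21119 (iv F40764) F40762
theorem F40766 : act 2 n21119 = n15972 := d14_1 D21119 (iv D15972) D15971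
theorem F40767 : act 4 n21119 = n16612 := d19_1 D21119 (iv D16612) (iv F27620)
def n21120 : Q := act 5 n15972
theorem D21120 : act 5 n15972 = n21120 := rfl
theorem F40768 : act 0 n21120 = n16327 := d4_1 D21120 F28270 (iv F27621)
theorem F40769 : act 1 n21120 = n16360 := d9_1 D21120 F28338 D16380 (iv F28383) (iv F27622)
theorem F40770 : act 4 n21120 = n16613 := d18_1 D21120 (iv D16613) (iv F27623)
theorem F40771 : act 6 n21120 = n20218 := d20_2 D15972 D21120 F38313 (iv F27619) (iv F28270) F28271 F27617
def n21121 : Q := act 3 n15973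
theorem D21121 : act 3 n15973 = n21121 := rfl
theorem F40772 : act 0 n21121 = n21121 := d2_1 D21121 (iv D21121) F27624
theorem F40773 : act 1 n21121 = n15974 := d7_1 D21121 (iv D15974) D15973
theorem F40774 : act 4 n21121 = n21121 := d15_2 F38055 D21121 (iv D21121) (iv F38055) F38054
theorem F40775 : act 5 n21121 = n21121 := d16_2 F33537 D21121 (iv D21121)
theorem F40776 : act 6 n21121 = n21121 := d17_2 F35336 D21121 (iv D21121)
def n21122 : Q := act 5 n15974
theorem D21122 : act 5 n15974 = n21122 := rfl
theorem F40777 : act 0 n21122 = n15977 := d4_1 D21122 (iv D15977) (iv F27625)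
theorem F40778 : act 1 n21122 = n21122 := d9_1 D21122 (iv D21122) (iv F40773) F40775 F40773
theorem F40779 : act 2 n21122 = n21122 := d13_1 D21122 (iv D21122) F27626
theorem F40780 : act 3 n21122 = n15975 := d16_1 D21122 (iv D15975) D15974
theorem F40781 : act 4 n21122 = n21122 := d18_1 D21122 (iv D21122) F27627
def n21123 : Q := act 6 n15974
theorem D21123 : act 6 n15974 = n21123 := rfl
theorem F40782 : act 0 n21123 = n15978 := d5_1 D21123 (iv D15978) (iv F27625)
theorem F40783 : act 1 n21123 = n21123 := d10_1 D21123 (iv D21123) (iv F40773) F40776 F40773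
theorem F40784 : act 2 n21123 = n21123 := d14_1 D21123 (iv D21123) F27626
theorem F40785 : act 3 n21123 = n15976 := d17_1 D21123 (iv D15976) D15974
theorem F40786 : act 4 n21123 = n21123 := d19_1 D21123 (iv D21123) F27627
def n21124 : Q := act 1 n15977
theorem D21124 : act 1 n15977 = n21124 := rfl
theorem F40787 : act 3 n21124 = n15979 := d7_2 (iv F27631) D21124 (iv D15979)
theorem F40788 : act 4 n21124 = n21124 := d8_2 F27632 D21124 (iv D21124)
theorem F40789 : act 5 n21124 = n15983 := d9_2 D15977 D21124 (iv D15983) (iv D12061) (iv F21294)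
def n21125 : Q := act 6 n15977
theorem D21125 : act 6 n15977 = n21125 := rfl
theorem F40790 : act 2 n21125 = n21125 := d14_1 D21125 (iv D21125) F27630
theorem F40791 : act 3 n21125 = n15980 := d17_1 D21125 (iv D15980) (iv F27631)
theorem F40792 : act 4 n21125 = n21125 := d19_1 D21125 (iv D21125) F27632
theorem F40793 : act 5 n21125 = n21123 := d22_2 D15977 D21125 (iv D21123) F27625
def n21126 : Q := act 1 n15978
theorem D21126 : act 1 n15978 = n21126 := rfl
theorem F40794 : act 3 n21126 = n15981 := d7_2 (iv F27634) D21126 (iv D15981)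
theorem F40795 : act 4 n21126 = n21126 := d8_2 F27635 D21126 (iv D21126)
theorem F40796 : act 6 n21126 = n15984 := d10_2 D15978 D21126 (iv D15984) (iv D12062) (iv F21294)
def n21127 : Q := act 5 n15978
theorem D21127 : act 5 n15978 = n21127 := rfl
theorem F40797 : act 0 n21127 = n21125 := d4_1 D21127 F40793 F40782
theorem F40798 : act 2 n21127 = n21127 := d13_1 D21127 (iv D21127) F27633
theorem F40799 : act 3 n21127 = n15982 := d16_1 D21127 (iv D15982) (iv F27634)
theorem F40800 : act 4 n21127 = n21127 := d18_1 D21127 (iv D21127) F27635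
theorem F40801 : act 6 n21127 = n21122 := d20_2 D15978 D21127 (iv D21122) D21123 (iv F40793) (iv D21125) (iv D15977)
def n21128 : Q := act 2 n15979
theorem D21128 : act 2 n15979 = n21128 := rfl
theorem F40802 : act 5 n21128 = n15986 := d13_2 (iv F27636) D21128 (iv D15986)
def n21129 : Q := act 1 n15980
theorem D21129 : act 1 n15980 = n21129 := rfl
theorem F40803 : act 5 n21129 = n21129 := d9_2 (iv F27637) D21129 (iv D21129) F27637 F35335
def n21130 : Q := act 2 n15981
theorem D21130 : act 2 n15981 = n21130 := rfl
theorem F40804 : act 6 n21130 = n15989 := d14_2 (iv F27638) D21130 (iv D15989)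
def n21131 : Q := act 1 n15982
theorem D21131 : act 1 n15982 = n21131 := rfl
theorem F40805 : act 6 n21131 = n21131 := d10_2 (iv F27640) D21131 (iv D21131) F27640 F33536
def n21132 : Q := act 0 n15983
theorem D21132 : act 0 n15983 = n21132 := rfl
theorem F40806 : act 1 n21132 = n21132 := d0_2 D15983 D21132 (iv D21132) (iv D15983) F21297 D12083 F23996 (iv D12083) (iv F21297)
theorem F40807 : act 3 n21132 = n15985 := d2_2 (iv F27641) D21132 (iv D15985)
theorem F40808 : act 4 n21132 = n21132 := d3_2 F27642 D21132 (iv D21132)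
def n21133 : Q := act 2 n15983
theorem D21133 : act 2 n15983 = n21133 := rfl
theorem F40809 : act 1 n21133 = n16027 := d6_1 D21133 (iv D16027) (iv D12083) (iv F21298) D15983
theorem F40810 : act 4 n21133 = n21133 := d12_2 F27642 D21133 (iv D21133)
theorem F40811 : act 0 n21133 = n21124 := d23_19 F40789 D21133 F40809 F27713 F27715 (iv D16027) (iv D12083) (iv F21297) (iv D12061) F17699 F7828 (iv F17697) D12061 F21298 D12083 F23996 F21335 D16027 (iv F40809)
theorem F40812 : act 2 n21132 = n21124 := d1_2 (iv D21133) D21132 (iv F40811)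
theorem F40813 : act 5 n21132 = n21133 := d13_0 (iv D21133) (iv F40789) (iv F40812)
theorem F40814 : act 3 n21133 = n16036 := d16_1 F40813 (iv F35334) (iv F40807)
theorem E10316 : n16028 = n16027 := (c7_3 F40814 (iv D16036) (iv F27717) (iv F40809))
theorem F40815 : act 3 n16027 = n12089 := (sb E10316 F27717)
theorem F40816 : act 6 n16027 = n12083 := (sb E10316 (iv D16028))
theorem F40817 : act 6 n16029 = n21133 := d17_0 F40814 F27737 (iv F27720)
def n21134 : Q := act 6 n15983
theorem D21134 : act 6 n15983 = n21134 := rfl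
theorem F40818 : act 2 n21134 = n16029 := d14_1 D21134 F40817 (iv D21133)
theorem F40819 : act 3 n21134 = n15987 := d17_1 D21134 (iv D15987) (iv F27641)
theorem F40820 : act 4 n21134 = n21134 := d19_1 D21134 (iv D21134) F27642
theorem F40821 : act 5 n21134 = n16029 := d22_2 F40789 D21134 F40817 F40811
def n21135 : Q := act 0 n15984
theorem D21135 : act 0 n15984 = n21135 := rfl
theorem F40822 : act 1 n21135 = n21135 := d0_2 D15984 D21135 (iv D21135) (iv D15984) F21301 D12085 F34688 (iv D12085) (iv F21301)
theorem F40823 : act 3 n21135 = n15988 := d2_2 (iv F27643) D21135 (iv D15988)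
theorem F40824 : act 4 n21135 = n21135 := d3_2 F27644 D21135 (iv D21135)
def n21136 : Q := act 2 n15984
theorem D21136 : act 2 n15984 = n21136 := rfl
theorem F40825 : act 1 n21136 = n16031 := d6_1 D21136 (iv D16031) (iv D12085) (iv F21302) D15984
theorem F40826 : act 4 n21136 = n21136 := d12_2 F27644 D21136 (iv D21136)
def n21137 : Q := act 5 n15984
theorem D21137 : act 5 n15984 = n21137 := rfl
theorem F40827 : act 1 n21137 = n21134 := d9_1 D21137 F40821 (iv D16029) F21338 D15984
theorem F40828 : act 3 n21137 = n15990 := d16_1 D21137 (iv D15990) (iv F27643)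
theorem F40829 : act 4 n21137 = n21137 := d18_1 D21137 (iv D21137) F27644
theorem F40830 : act 6 n16033 = n21137 := d24_0 (iv D21137) (iv D15984) (iv D12062) D12061 D15983 D21134 F40821 (iv D16029) (iv D12084) (iv D9969) F7828 D9970 D12086 D16033
theorem F40831 : act 2 n16033 = n21137 := d6_0 F40827 F40818 (iv D16029) (iv F21343) D16033
theorem F40832 : act 5 n21136 = n16033 := d13_0 F40831 (iv D21137) D21136
theorem E10317 : n16032 = n16031 := (c9_5 F40832 (iv D16033) (iv D12086) D12085 D16032 (iv F40825))
theorem F40833 : act 3 n16031 = n12093 := (sb E10317 F27727)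
theorem F40834 : act 5 n16031 = n12085 := (sb E10317 (iv D16032))
theorem F40835 : act 3 n16045 = n21136 := d16_3 F40832 F27729 (iv F27747)
theorem F40836 : act 0 n21126 = n21136 := d22_4 F40832 F40830 (iv D21137) (iv F40796)
theorem F40837 : act 6 n21136 = n21135 := d22_3 D21137 (iv F40830) (iv F40832) (iv D21135)
theorem F40838 : act 2 n21135 = n21126 := d14_1 F40837 F40796 D21136
def n21138 : Q := act 2 n15985
theorem D21138 : act 2 n15985 = n21138 := rfl
theorem F40839 : act 0 n21138 = n15986 := d1_1 D21138 (iv D15986) D15985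
def n21139 : Q := act 6 n15985
theorem D21139 : act 6 n15985 = n21139 := rfl
theorem F40840 : act 0 n21139 = n15987 := d5_1 D21139 (iv D15987) D15985
theorem F40841 : act 5 n21139 = n16037 := d20_1 D21139 (iv F35333) F27636 D15987 F35331 (iv F27737) (iv F35334)
def n21140 : Q := act 3 n15986
theorem D21140 : act 3 n15986 = n21140 := rfl
theorem F40842 : act 1 n21140 = n15994 := d7_1 D21140 (iv D15994) (iv F27646)
def n21141 : Q := act 6 n15986
theorem D21141 : act 6 n15986 = n21141 := rfl
theorem F40843 : act 2 n21141 = n15987 := d14_1 D21141 (iv D15987) D15986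
theorem F40844 : act 5 n16038 = n21141 := d13_0 F40843 F35331 D16038
def n21142 : Q := act 2 n15988
theorem D21142 : act 2 n15988 = n21142 := rfl
theorem F40845 : act 0 n21142 = n15989 := d1_1 D21142 (iv D15989) D15988
def n21143 : Q := act 5 n15988
theorem D21143 : act 5 n15988 = n21143 := rfl
theorem F40846 : act 0 n21143 = n15990 := d4_1 D21143 (iv D15990) D15988
theorem F40847 : act 6 n21143 = n16046 := d20_2 F35337 D21143 F35338 F27638 D15990 F35329 (iv F27747)
def n21144 : Q := act 3 n15989
theorem D21144 : act 3 n15989 = n21144 := rfl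
theorem F40848 : act 1 n21144 = n16000 := d7_1 D21144 (iv D16000) (iv F27647)
def n21145 : Q := act 5 n15989
theorem D21145 : act 5 n15989 = n21145 := rfl
theorem F40849 : act 2 n21145 = n15990 := d13_1 D21145 (iv D15990) D15989
theorem F40850 : act 6 n16047 = n21145 := d14_0 F40849 F35329 D16047
def n21146 : Q := act 5 n15991
theorem D21146 : act 5 n15991 = n21146 := rfl
theorem F40851 : act 0 n21146 = n20135 := d4_1 D21146 F38098 F36719
theorem F40852 : act 1 n21146 = n19702 := d9_1 D21146 F40709 (iv D21091) F27580 D15991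
theorem F40853 : act 2 n21146 = n20135 := d13_1 D21146 F38098 F36721
theorem F40854 : act 3 n21146 = n16003 := d16_1 D21146 (iv D16003) (iv F27648)
theorem F40855 : act 4 n21146 = n19561 := d18_1 D21146 (iv F38098) F38097
theorem F40856 : act 6 n18801 = n21146 := d17_0 F40854 F28308 (iv F33650)
def n21147 : Q := act 6 n15991
theorem D21147 : act 6 n15991 = n21147 := rfl
theorem F40857 : act 3 n21147 = n16004 := d17_1 D21147 (iv D16004) (iv F27648)
theorem F40858 : act 1 n18795 = n21147 := d7_3 F40857 F28464 (iv F37362)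
def n21148 : Q := act 3 n15992
theorem D21148 : act 3 n15992 = n21148 := rfl
theorem F40859 : act 0 n21148 = n15994 := d2_1 D21148 (iv D15994) (iv F27649)
theorem F40860 : act 1 n21148 = n19730 := d7_1 D21148 F37186 F37090
def n21149 : Q := act 6 n15992
theorem D21149 : act 6 n15992 = n21149 := rfl
theorem F40861 : act 0 n21149 = n15995 := d5_1 D21149 (iv D15995) (iv F27649)
theorem F40862 : act 2 n21149 = n15993 := d14_1 D21149 (iv D15993) D15992
theorem F40863 : act 5 n21149 = n21094 := d22_2 F40712 D21149 (iv D21094) (iv F40710)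
def n21150 : Q := act 1 n15993
theorem D21150 : act 1 n15993 = n21150 := rfl
theorem F40864 : act 3 n21150 = n16008 := d7_2 (iv F27651) D21150 (iv D16008)
theorem F40865 : act 6 n21150 = n18795 := d10_2 D15993 D21150 F40858 (iv D21147) (iv D15991)
theorem F40866 : act 2 n18796 = n21150 := d14_3 F40865 F33639 D18796
theorem F40867 : act 5 n16233 = n21150 := d22_0 F40865 (iv D18795) (iv F33631) (iv F37356)
def n21151 : Q := act 2 n15994
theorem D21151 : act 2 n15994 = n21151 := rfl
def n21152 : Q := act 4 n15994
theorem D21152 : act 4 n15994 = n21152 := rfl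
def n21153 : Q := act 6 n15994
theorem D21153 : act 6 n15994 = n21153 := rfl
theorem F40868 : act 3 n21153 = n15995 := d17_1 D21153 (iv D15995) D15994
def n21154 : Q := act 1 n15995
theorem D21154 : act 1 n15995 = n21154 := rfl
def n21155 : Q := act 5 n15995
theorem D21155 : act 5 n15995 = n21155 := rfl
theorem F40869 : act 0 n21155 = n21094 := d4_1 D21155 (iv F40863) F40861
theorem F40870 : act 2 n21155 = n15996 := d13_1 D21155 (iv D15996) (iv F27653)
theorem F40871 : act 6 n21155 = n21092 := d20_2 D15995 D21155 F40712 D21149 F40863 (iv D21094) F27581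
def n21156 : Q := act 5 n15997
theorem D21156 : act 5 n15997 = n21156 := rfl
theorem F40872 : act 3 n21156 = n16016 := d16_1 D21156 (iv D16016) (iv F27657)
theorem F40873 : act 1 n18810 = n21156 := d7_3 F40872 F28262 F37358
def n21157 : Q := act 6 n15997
theorem D21157 : act 6 n15997 = n21157 := rfl
theorem F40874 : act 0 n21157 = n20141 := d5_1 D21157 F38114 F36741
theorem F40875 : act 1 n21157 = n19715 := d10_1 D21157 F40726 (iv D21099) F27585 D15997
theorem F40876 : act 2 n21157 = n20141 := d14_1 D21157 F38114 F36743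
theorem F40877 : act 3 n21157 = n16017 := d17_1 D21157 (iv D16017) (iv F27657)
theorem F40878 : act 4 n21157 = n19566 := d19_1 D21157 (iv F38114) F38113
theorem F40879 : act 5 n18786 = n21157 := d16_0 F40877 F28097 (iv F33628)
def n21158 : Q := act 3 n15998
theorem D21158 : act 3 n15998 = n21158 := rfl
theorem F40880 : act 0 n21158 = n16000 := d2_1 D21158 (iv D16000) (iv F27658)
theorem F40881 : act 1 n21158 = n19768 := d7_1 D21158 F37272 F37132
def n21159 : Q := act 5 n15998
theorem D21159 : act 5 n15998 = n21159 := rfl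
theorem F40882 : act 0 n21159 = n16001 := d4_1 D21159 (iv D16001) (iv F27658)
theorem F40883 : act 2 n21159 = n15999 := d13_1 D21159 (iv D15999) D15998
theorem F40884 : act 6 n21159 = n21102 := d22_1 D21159 (iv D21102) F27586 (iv F27658)
def n21160 : Q := act 1 n15999
theorem D21160 : act 1 n15999 = n21160 := rfl
theorem F40885 : act 3 n21160 = n16021 := d7_2 (iv F27660) D21160 (iv D16021)
theorem F40886 : act 5 n21160 = n18810 := d9_2 D15999 D21160 F40873 (iv D21156) (iv D15997)
theorem F40887 : act 2 n18811 = n21160 := d13_3 F40886 F33668 D18811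
theorem F40888 : act 6 n16187 = n21160 := d22_1 D16187 F40886 (iv D18810) (iv F37345)
def n21161 : Q := act 2 n16000
theorem D21161 : act 2 n16000 = n21161 := rfl
def n21162 : Q := act 4 n16000
theorem D21162 : act 4 n16000 = n21162 := rfl
def n21163 : Q := act 5 n16000
theorem D21163 : act 5 n16000 = n21163 := rfl
theorem F40889 : act 3 n21163 = n16001 := d16_1 D21163 (iv D16001) D16000
def n21164 : Q := act 1 n16001
theorem D21164 : act 1 n16001 = n21164 := rfl
def n21165 : Q := act 6 n16001
theorem D21165 : act 6 n16001 = n21165 := rfl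
theorem F40890 : act 0 n21165 = n21102 := d5_1 D21165 (iv F40884) F40882
theorem F40891 : act 2 n21165 = n16002 := d14_1 D21165 (iv D16002) (iv F27662)
theorem F40892 : act 5 n21165 = n21100 := d20_1 D21165 F40729 D21159 F40884 (iv D21102) F27586 D16001
def n21166 : Q := act 6 n16005
theorem D21166 : act 6 n16005 = n21166 := rfl
theorem F40893 : act 4 n21166 = n16618 := d19_1 D21166 (iv D16618) (iv F27670)
def n21167 : Q := act 2 n16006
theorem D21167 : act 2 n16006 = n21167 := rfl
theorem F40894 : act 0 n21167 = n16009 := d1_1 D21167 (iv D16009) (iv F27672)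
theorem F40895 : act 1 n21167 = n20491 := d6_1 D21167 F38895 (iv D18294) D18295 F32028
theorem F40896 : act 4 n21167 = n20489 := d12_2 F32146 D21167 F38888
theorem F40897 : act 3 n21167 = n21151 := d21_1 D21167 (iv D21151) (iv D15994) (iv D12066) F17708 D9964 D12074 (iv F27672)
def n21168 : Q := act 6 n16006
theorem D21168 : act 6 n16006 = n21168 := rfl
theorem F40898 : act 0 n21168 = n16011 := d5_1 D21168 (iv D16011) (iv F27672)
theorem F40899 : act 3 n21168 = n16007 := d17_1 D21168 (iv D16007) D16006
theorem F40900 : act 5 n21168 = n21108 := d22_2 F40742 D21168 (iv D21108) (iv F40740)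
def n21169 : Q := act 1 n16007
theorem D21169 : act 1 n16007 = n21169 := rfl
theorem F40901 : act 4 n21169 = n16621 := d8_2 (iv F27675) D21169 (iv D16621)
theorem F40902 : act 5 n21169 = n16267 := d9_2 (iv F27676) D21169 (iv D16267) D16268 (iv F29359)
def n21170 : Q := act 2 n16008
theorem D21170 : act 2 n16008 = n21170 := rfl
theorem F40903 : act 0 n21170 = n16909 := d1_1 D21170 F39620 F28473
theorem F40904 : act 4 n21170 = n16622 := d12_2 (iv F27677) D21170 (iv D16622)
theorem F40905 : act 5 n21170 = n16429 := d13_2 F27678 D21170 F28471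
def n21171 : Q := act 3 n16009
theorem D21171 : act 3 n16009 = n21171 := rfl
theorem F40906 : act 0 n21171 = n21151 := d2_1 D21171 (iv F40897) F40894
theorem F40907 : act 1 n21171 = n18984 := d7_1 D21171 (iv D18984) (iv F38890)
theorem F40908 : act 2 n21171 = n21148 := d11_1 D21171 (iv D21148) (iv D15992) F21305 D12072 D16006 D21167 F40897 (iv D21151) (iv D15994) (iv D12066) F17708 D9964 D12074 D16009
def n21172 : Q := act 6 n16009
theorem D21172 : act 6 n16009 = n21172 := rfl
theorem F40909 : act 2 n21172 = n16011 := d14_1 D21172 (iv D16011) D16009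
def n21173 : Q := act 6 n16010
theorem D21173 : act 6 n16010 = n21173 := rfl
theorem F40910 : act 3 n21173 = n16623 := d17_1 D21173 (iv D16623) (iv F27680)
theorem F40911 : act 4 n21173 = n16011 := d19_1 D21173 (iv D16011) D16010
def n21174 : Q := act 1 n16011
theorem D21174 : act 1 n16011 = n21174 := rfl
theorem F40912 : act 3 n21174 = n16012 := d7_2 (iv F27681) D21174 (iv D16012)
theorem F40913 : act 6 n21174 = n21174 := d10_2 D16011 D21174 (iv D21174) (iv D16011) F21315
theorem F40914 : act 0 n16096 = n21174 := d2_3 F40912 F29372 (iv F27841)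
def n21175 : Q := act 5 n16011
theorem D21175 : act 5 n16011 = n21175 := rfl
theorem F40915 : act 0 n21175 = n21108 := d4_1 D21175 (iv F40900) F40898
theorem F40916 : act 3 n21175 = n16013 := d16_1 D21175 (iv D16013) (iv F27681)
theorem F40917 : act 6 n21175 = n21107 := d20_2 D16011 D21175 F40742 D21168 F40900 (iv D21108) F27596
def n21176 : Q := act 5 n16012
theorem D21176 : act 5 n16012 = n21176 := rfl
theorem F40918 : act 0 n21176 = n16099 := d4_1 D21176 (iv D16099) (iv F29372)
theorem F40919 : act 4 n21176 = n16627 := d18_1 D21176 (iv D16627) (iv F27682)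
theorem F40920 : act 6 n21176 = n16099 := d22_1 D21176 (iv D16099) F21385 (iv F29372)
def n21177 : Q := act 1 n16013
theorem D21177 : act 1 n16013 = n21177 := rfl
theorem F40921 : act 4 n21177 = n16628 := d8_2 (iv F27686) D21177 (iv D16628)
theorem F40922 : act 6 n21177 = n16298 := d10_2 (iv F27687) D21177 (iv D16298) (iv F21686) (iv F27595)
def n21178 : Q := act 5 n16018
theorem D21178 : act 5 n16018 = n21178 := rfl
theorem F40923 : act 4 n21178 = n16636 := d18_1 D21178 (iv D16636) (iv F27696)
def n21179 : Q := act 2 n16019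
theorem D21179 : act 2 n16019 = n21179 := rfl
theorem F40924 : act 0 n21179 = n16022 := d1_1 D21179 (iv D16022) (iv F27697)
theorem F40925 : act 1 n21179 = n20537 := d6_1 D21179 F38974 (iv D18300) D18301 F35257
theorem F40926 : act 4 n21179 = n20535 := d12_2 (iv F35258) D21179 F38967
theorem F40927 : act 3 n21179 = n21161 := d21_1 D21179 (iv D21161) (iv D16000) (iv D12069) F17709 D9967 D12080 (iv F27697)
def n21180 : Q := act 5 n16019
theorem D21180 : act 5 n16019 = n21180 := rfl
theorem F40928 : act 0 n21180 = n16024 := d4_1 D21180 (iv D16024) (iv F27697)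
theorem F40929 : act 3 n21180 = n16020 := d16_1 D21180 (iv D16020) D16019
theorem F40930 : act 6 n21180 = n21115 := d22_1 D21180 (iv D21115) F27613 (iv F27697)
def n21181 : Q := act 1 n16020
theorem D21181 : act 1 n16020 = n21181 := rfl
theorem F40931 : act 4 n21181 = n16641 := d8_2 (iv F27700) D21181 (iv D16641)
theorem F40932 : act 6 n21181 = n16369 := d10_2 (iv F27701) D21181 (iv D16369) D16370 (iv F35253)
def n21182 : Q := act 2 n16021
theorem D21182 : act 2 n16021 = n21182 := rfl
theorem F40933 : act 0 n21182 = n17104 := d1_1 D21182 (iv F39809) F28272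
theorem F40934 : act 4 n21182 = n16642 := d12_2 (iv F27702) D21182 (iv D16642)
theorem F40935 : act 6 n21182 = n16325 := d14_2 F27703 D21182 F28265
def n21183 : Q := act 3 n16022
theorem D21183 : act 3 n16022 = n21183 := rfl
theorem F40936 : act 0 n21183 = n21161 := d2_1 D21183 (iv F40927) F40924
theorem F40937 : act 1 n21183 = n18999 := d7_1 D21183 (iv D18999) (iv F38969)
theorem F40938 : act 2 n21183 = n21158 := d11_1 D21183 (iv D21158) (iv D15998) F21307 D12078 D16019 D21179 F40927 (iv D21161) (iv D16000) (iv D12069) F17709 D9967 D12080 D16022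
def n21184 : Q := act 5 n16022
theorem D21184 : act 5 n16022 = n21184 := rfl
theorem F40939 : act 2 n21184 = n16024 := d13_1 D21184 (iv D16024) D16022
def n21185 : Q := act 5 n16023
theorem D21185 : act 5 n16023 = n21185 := rfl
theorem F40940 : act 3 n21185 = n16647 := d16_1 D21185 (iv D16647) (iv F27705)
theorem F40941 : act 4 n21185 = n16024 := d18_1 D21185 (iv D16024) D16023
def n21186 : Q := act 1 n16024
theorem D21186 : act 1 n16024 = n21186 := rfl
theorem F40942 : act 3 n21186 = n16025 := d7_2 (iv F27706) D21186 (iv D16025)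
theorem F40943 : act 5 n21186 = n21186 := d9_2 D16024 D21186 (iv D21186) (iv D16024) F21327
theorem F40944 : act 0 n16136 = n21186 := d2_3 F40942 F34858 (iv F27920)
def n21187 : Q := act 6 n16024
theorem D21187 : act 6 n16024 = n21187 := rfl
theorem F40945 : act 0 n21187 = n21115 := d5_1 D21187 (iv F40930) F40928
theorem F40946 : act 3 n21187 = n16026 := d17_1 D21187 (iv D16026) (iv F27706)
theorem F40947 : act 5 n21187 = n21114 := d20_1 D21187 F40758 D21180 F40930 (iv D21115) F27613 D16024
def n21188 : Q := act 6 n16025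
theorem D21188 : act 6 n16025 = n21188 := rfl
theorem F40948 : act 0 n21188 = n16139 := d5_1 D21188 (iv D16139) (iv F34858)
theorem F40949 : act 4 n21188 = n16651 := d19_1 D21188 (iv D16651) (iv F27707)
theorem F40950 : act 5 n21188 = n16139 := d22_2 F27708 D21188 (iv D16139) (iv F34858)
def n21189 : Q := act 1 n16026
theorem D21189 : act 1 n16026 = n21189 := rfl
theorem F40951 : act 4 n21189 = n16652 := d8_2 (iv F27711) D21189 (iv D16652)
theorem F40952 : act 5 n21189 = n16401 := d9_2 (iv F27712) D21189 (iv D16401) (iv F21720) (iv F34852)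
def n21190 : Q := act 0 n16029
theorem D21190 : act 0 n16029 = n21190 := rfl
theorem F40953 : act 3 n21190 = n16037 := d2_2 (iv F27720) D21190 (iv D16037)
theorem F40954 : act 4 n21190 = n21190 := d3_2 F27721 D21190 (iv D21190)
theorem F40955 : act 6 n21190 = n21124 := d5_2 (iv F40817) D21190 (iv F40811)
def n21191 : Q := act 0 n16033
theorem D21191 : act 0 n16033 = n21191 := rfl
theorem F40956 : act 3 n21191 = n16046 := d2_2 (iv F27729) D21191 (iv D16046)
theorem F40957 : act 4 n21191 = n21191 := d3_2 F27730 D21191 (iv D21191)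
theorem F40958 : act 5 n21191 = n21126 := d4_2 F40832 D21191 F40836
def n21192 : Q := act 2 n16034
theorem D21192 : act 2 n16034 = n21192 := rfl
theorem F40959 : act 0 n21192 = n21192 := d1_1 D21192 (iv D21192) F27731
theorem F40960 : act 1 n21192 = n16053 := d6_1 D21192 (iv F33621) F33620 (iv D16052) (iv F27732)
theorem F40961 : act 5 n21192 = n21192 := d13_2 F27733 D21192 (iv D21192)
theorem F40962 : act 3 n21192 = n16035 := d21_1 D21192 F27735 (iv F40815) (iv D16027) F21333 D12088 D16034 F27731
theorem F40963 : act 4 n16034 = n21192 := d15_0 F40962 (iv F38192) (iv D20151) F26011 D16034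
theorem F40964 : act 6 n16034 = n21192 := d17_0 F40962 (iv D16035) D16034
def n21193 : Q := act 2 n16036
theorem D21193 : act 2 n16036 = n21193 := rfl
theorem F40965 : act 0 n21193 = n21128 := d1_1 D21193 (iv D21128) (iv F35332)
theorem F40966 : act 5 n21193 = n21138 := d13_2 F35334 D21193 (iv D21138)
theorem F40967 : act 6 n21193 = n16038 := d14_2 (iv F27737) D21193 (iv D16038)
def n21194 : Q := act 1 n16037
theorem D21194 : act 1 n16037 = n21194 := rfl
theorem F40968 : act 6 n21194 = n21129 := d10_2 F35333 D21194 (iv D21129) (iv D15980) D15979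
def n21195 : Q := act 2 n16037
theorem D21195 : act 2 n16037 = n21195 := rfl
theorem F40969 : act 0 n21195 = n16038 := d1_1 D21195 (iv D16038) D16037
theorem F40970 : act 6 n21195 = n21128 := d14_2 F35333 D21195 (iv D21128)
def n21196 : Q := act 3 n16038
theorem D21196 : act 3 n16038 = n21196 := rfl
theorem F40971 : act 1 n21196 = n16062 := d7_1 D21196 (iv D16062) (iv F27738)
def n21197 : Q := act 2 n16043
theorem D21197 : act 2 n16043 = n21197 := rfl
theorem F40972 : act 0 n21197 = n21197 := d1_1 D21197 (iv D21197) F35346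
theorem F40973 : act 1 n21197 = n16072 := d6_1 D21197 F34680 F35351 (iv D16071) (iv F27744)
theorem F40974 : act 6 n21197 = n21197 := d14_2 F27745 D21197 (iv D21197)
theorem F40975 : act 3 n21197 = n16044 := d21_1 D21197 F27746 (iv F40833) (iv D16031) F21339 D12092 D16043 F35346
theorem F40976 : act 1 n16044 = n20184 := d7_1 F40975 F38241 (iv F40973)
theorem F40977 : act 5 n16043 = n21197 := d16_0 F40975 (iv D16044) D16043
theorem E10318 : n20157 = n20156 := ((c8_4 F38164 F40976 (iv D20184) (iv F38160))).symm
theorem F40978 : act 2 n20156 = n14954 := (sb E10318 F38163)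
theorem F40979 : act 4 n20156 = n16044 := (sb E10318 F38164)
theorem F40980 : act 5 n20156 = n14953 := (sb E10318 (iv D20157))
theorem F40981 : act 5 n20184 = n16074 := d9_2 D16044 F40976 (iv D16074) (iv D12106) (iv F21351)
theorem E10319 : n20186 = n20185 := (c18_2 F40981 (iv F38244) (iv D20185) D20184)
theorem F40982 : act 1 n20185 = n14967 := (sb E10319 (iv D20186))
theorem F40983 : act 4 n20185 = n16074 := (sb E10319 F38244)
theorem F40984 : act 4 n21197 = n16043 := d15_2 F40979 (iv F40975) (iv D16043) (iv F26023) D20156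
def n21198 : Q := act 2 n16045
theorem D21198 : act 2 n16045 = n21198 := rfl
theorem F40985 : act 0 n21198 = n21130 := d1_1 D21198 (iv D21130) F35339
theorem F40986 : act 5 n21198 = n16047 := d13_2 (iv F27747) D21198 (iv D16047)
theorem F40987 : act 6 n21198 = n21142 := d14_2 (iv F35337) D21198 (iv D21142)
def n21199 : Q := act 1 n16046
theorem D21199 : act 1 n16046 = n21199 := rfl
theorem F40988 : act 5 n21199 = n21131 := d9_2 (iv F35338) D21199 (iv D21131) (iv D15982) D15981
def n21200 : Q := act 2 n16046
theorem D21200 : act 2 n16046 = n21200 := rfl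
theorem F40989 : act 0 n21200 = n16047 := d1_1 D21200 (iv D16047) D16046
theorem F40990 : act 5 n21200 = n21130 := d13_2 (iv F35338) D21200 (iv D21130)
def n21201 : Q := act 3 n16047
theorem D21201 : act 3 n16047 = n21201 := rfl
theorem F40991 : act 1 n21201 = n16081 := d7_1 D21201 (iv D16081) (iv F27748)
def n21202 : Q := act 5 n16049
theorem D21202 : act 5 n16049 = n21202 := rfl
theorem F40992 : act 2 n21202 = n16050 := d13_1 D21202 (iv D16050) D16049
theorem F40993 : act 3 n21202 = n19667 := d16_1 D21202 F37000 (iv F27750)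
def n21203 : Q := act 6 n16049
theorem D21203 : act 6 n16049 = n21203 := rfl
theorem F40994 : act 2 n21203 = n16051 := d14_1 D21203 (iv D16051) D16049
theorem F40995 : act 3 n21203 = n19738 := d17_1 D21203 (iv D19738) (iv F27750)
def n21204 : Q := act 6 n16050
theorem D21204 : act 6 n16050 = n21204 := rfl
theorem F40996 : act 3 n21204 = n16084 := d17_1 D21204 (iv D16084) (iv F27757)
theorem F40997 : act 5 n21204 = n19703 := d22_2 D16050 D21204 (iv D19703) F25287
def n21205 : Q := act 5 n16051
theorem D21205 : act 5 n16051 = n21205 := rfl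
theorem F40998 : act 0 n21205 = n21204 := d4_1 D21205 F40997 F37093
theorem F40999 : act 3 n21205 = n16085 := d16_1 D21205 (iv D16085) (iv F27758)
theorem F41000 : act 6 n21205 = n19662 := d20_2 D16051 D21205 F36987 D19703 (iv F40997) (iv D21204) (iv D16050)
def n21206 : Q := act 6 n16052
theorem D21206 : act 6 n16052 = n21206 := rfl
theorem F41001 : act 2 n21206 = n16054 := d14_1 D21206 (iv D16054) D16052
theorem F41002 : act 3 n21206 = n16291 := d17_1 D21206 F28201 F27812
theorem F41003 : act 5 n21206 = n16288 := d22_2 (iv F27759) D21206 (iv D16288) F21536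
def n21207 : Q := act 6 n16053
theorem D21207 : act 6 n16053 = n21207 := rfl
theorem F41004 : act 0 n21207 = n16161 := d5_1 D21207 (iv D16161) (iv F27760)
theorem F41005 : act 1 n21207 = n16054 := d10_1 D21207 (iv D16054) (iv F27732) F40964 F40960
theorem F41006 : act 3 n21207 = n16055 := d17_1 D21207 F38198 F38196
theorem F41007 : act 4 n21207 = n16054 := d19_1 D21207 (iv D16054) D16053
def n21208 : Q := act 0 n16055
theorem D21208 : act 0 n16055 = n21208 := rfl
theorem F41008 : act 3 n21208 = n16161 := d2_2 F41006 D21208 (iv F41004)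
theorem F41009 : act 4 n21208 = n20277 := d3_2 F38201 D21208 F38432
theorem F41010 : act 6 n21208 = n16159 := d5_2 (iv F38198) D21208 (iv F38194)
theorem F41011 : act 5 n21208 = n20275 := d22_0 (iv D20275) (iv F38197) (iv F38198) D21208
def n21209 : Q := act 2 n16055
theorem D21209 : act 2 n16055 = n21209 := rfl
theorem F41012 : act 1 n21209 = n16057 := d6_1 D21209 (iv D16057) (iv D12099) (iv F21357) D16055
def n21210 : Q := act 5 n16055
theorem D21210 : act 5 n16055 = n21210 := rfl
theorem F41013 : act 0 n21210 = n20275 := d4_1 D21210 (iv F41011) (iv D21208)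
theorem F41014 : act 4 n21210 = n20267 := d18_1 D21210 F38416 F38201
theorem F41015 : act 6 n21210 = n20164 := d20_2 (iv F38198) D21210 F38183 (iv F41010) F41011 (iv D20275) (iv F38197)
def n21211 : Q := act 1 n16056
theorem D21211 : act 1 n16056 = n21211 := rfl
theorem F41016 : act 3 n21211 = n16100 := d7_2 (iv F27763) D21211 (iv D16100)
def n21212 : Q := act 2 n16056
theorem D21212 : act 2 n16056 = n21212 := rfl
theorem F41017 : act 0 n21212 = n16057 := d1_1 D21212 (iv D16057) D16056
theorem F41018 : act 6 n21212 = n16060 := d14_2 (iv F27764) D21212 (iv D16060)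
def n21213 : Q := act 3 n16057
theorem D21213 : act 3 n16057 = n21213 := rfl
theorem F41019 : act 6 n21213 = n16062 := d17_2 (iv F27765) D21213 (iv D16062)
def n21214 : Q := act 5 n16057
theorem D21214 : act 5 n16057 = n21214 := rfl
theorem F41020 : act 2 n21214 = n16058 := d13_1 D21214 (iv D16058) D16057
def n21215 : Q := act 2 n16059
theorem D21215 : act 2 n16059 = n21215 := rfl
theorem F41021 : act 3 n21215 = n19795 := d21_1 D21215 (iv D19795) (iv D14537) (iv D11300) (iv F20012) D14494 D19723 F37161
def n21216 : Q := act 6 n16059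
theorem D21216 : act 6 n16059 = n21216 := rfl
theorem F41022 : act 0 n21216 = n20284 := d5_1 D21216 (iv F38449) F37161
theorem F41023 : act 3 n21216 = n16106 := d17_1 D21216 (iv D16106) (iv F27767)
theorem F41024 : act 5 n20289 = n21216 := d22_0 (iv D21216) F38470 (iv D20291) D20289
def n21217 : Q := act 1 n16060
theorem D21217 : act 1 n16060 = n21217 := rfl
def n21218 : Q := act 3 n16060
theorem D21218 : act 3 n16060 = n21218 := rfl
theorem F41025 : act 0 n21218 = n16062 := d2_1 D21218 (iv D16062) (iv F27768)
def n21219 : Q := act 5 n16060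
theorem D21219 : act 5 n16060 = n21219 := rfl
theorem F41026 : act 0 n21219 = n16063 := d4_1 D21219 (iv D16063) (iv F27768)
theorem F41027 : act 2 n21219 = n16061 := d13_1 D21219 (iv D16061) D16060
theorem F41028 : act 6 n21219 = n21214 := d22_1 D21219 (iv D21214) F27765 (iv F27768)
def n21220 : Q := act 2 n16062
theorem D21220 : act 2 n16062 = n21220 := rfl
def n21221 : Q := act 4 n16062
theorem D21221 : act 4 n16062 = n21221 := rfl
def n21222 : Q := act 5 n16062
theorem D21222 : act 5 n16062 = n21222 := rfl
theorem F41029 : act 3 n21222 = n16063 := d16_1 D21222 (iv D16063) D16062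
def n21223 : Q := act 1 n16063
theorem D21223 : act 1 n16063 = n21223 := rfl
theorem F41030 : act 2 n21223 = n21164 := d6_2 (iv F27772) D21223 (iv D21164) F27662 (iv F21361)
def n21224 : Q := act 6 n16063
theorem D21224 : act 6 n16063 = n21224 := rfl
theorem F41031 : act 0 n21224 = n21214 := d5_1 D21224 (iv F41028) F41026
theorem F41032 : act 2 n21224 = n16064 := d14_1 D21224 (iv D16064) (iv F27772)
theorem F41033 : act 5 n21224 = n21212 := d20_1 D21224 F41018 D21219 F41028 (iv D21214) F27765 D16063
def n21225 : Q := act 1 n16064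
theorem D21225 : act 1 n16064 = n21225 := rfl
theorem F41034 : act 3 n21225 = n16115 := d7_2 (iv F27774) D21225 (iv D16115)
theorem F41035 : act 6 n21225 = n20281 := d10_2 D16064 D21225 (iv F38441) (iv D16002) (iv F21361)
theorem F41036 : act 0 n20283 = n21225 := d5_3 F41035 (iv D20281) D20283
def n21226 : Q := act 5 n16066
theorem D21226 : act 5 n16066 = n21226 := rfl
theorem F41037 : act 2 n21226 = n16067 := d13_1 D21226 (iv D16067) D16066
theorem F41038 : act 3 n21226 = n19776 := d16_1 D21226 (iv D19776) F34693
def n21227 : Q := act 6 n16066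
theorem D21227 : act 6 n16066 = n21227 := rfl
theorem F41039 : act 2 n21227 = n16068 := d14_1 D21227 (iv D16068) D16066
theorem F41040 : act 3 n21227 = n19683 := d17_1 D21227 F37033 F34693
def n21228 : Q := act 6 n16067
theorem D21228 : act 6 n16067 = n21228 := rfl
theorem F41041 : act 3 n21228 = n16123 := d17_1 D21228 (iv D16123) (iv F27777)
theorem F41042 : act 5 n21228 = n19663 := d22_2 D16067 D21228 F36990 F34708
def n21229 : Q := act 5 n16068
theorem D21229 : act 5 n16068 = n21229 := rfl
theorem F41043 : act 0 n21229 = n21228 := d4_1 D21229 F41042 F36988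
theorem F41044 : act 3 n21229 = n16124 := d16_1 D21229 (iv D16124) (iv F27779)
theorem F41045 : act 6 n21229 = n19716 := d20_2 D16068 D21229 (iv D19716) (iv F36990) (iv F41042) (iv D21228) (iv D16067)
def n21230 : Q := act 5 n16071
theorem D21230 : act 5 n16071 = n21230 := rfl
theorem F41046 : act 2 n21230 = n16073 := d13_1 D21230 (iv D16073) D16071
theorem F41047 : act 3 n21230 = n16394 := d16_1 D21230 F28403 F27907
theorem F41048 : act 6 n21230 = n16390 := d22_1 D21230 (iv D16390) (iv F27914) F27912
def n21231 : Q := act 5 n16072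
theorem D21231 : act 5 n16072 = n21231 := rfl
theorem F41049 : act 0 n21231 = n16204 := d4_1 D21231 (iv D16204) (iv F34679)
theorem F41050 : act 1 n21231 = n16073 := d9_1 D21231 (iv D16073) (iv F27744) F40977 F40973
theorem F41051 : act 3 n21231 = n16074 := d16_1 D21231 (iv F40981) F38241
theorem F41052 : act 4 n21231 = n16073 := d18_1 D21231 (iv D16073) D16072
def n21232 : Q := act 0 n16074
theorem D21232 : act 0 n16074 = n21232 := rfl
theorem F41053 : act 3 n21232 = n16204 := d2_2 F41051 D21232 (iv F41049)
theorem F41054 : act 4 n21232 = n20297 := d3_2 F40983 D21232 F38479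
theorem F41055 : act 5 n21232 = n16203 := d4_2 F40981 D21232 (iv F38240)
theorem F41056 : act 6 n20295 = n21232 := d22_3 (iv F40981) F38242 D20295 (iv D21232)
def n21233 : Q := act 2 n16074
theorem D21233 : act 2 n16074 = n21233 := rfl
theorem F41057 : act 1 n21233 = n16076 := d6_1 D21233 (iv D16076) (iv D12107) (iv F21367) D16074
def n21234 : Q := act 6 n16074
theorem D21234 : act 6 n16074 = n21234 := rfl
theorem F41058 : act 0 n21234 = n20295 := d5_1 D21234 F41056 (iv D21232)
theorem F41059 : act 4 n21234 = n20287 := d19_1 D21234 F38462 F40983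
theorem F41060 : act 5 n21234 = n20181 := d20_1 D21234 F38232 (iv F41055) (iv F41056) (iv D20295) (iv F38242) F40981
def n21235 : Q := act 1 n16075
theorem D21235 : act 1 n16075 = n21235 := rfl
theorem F41061 : act 3 n21235 = n16140 := d7_2 (iv F27785) D21235 (iv D16140)
def n21236 : Q := act 2 n16075
theorem D21236 : act 2 n16075 = n21236 := rfl
theorem F41062 : act 0 n21236 = n16076 := d1_1 D21236 (iv D16076) D16075
theorem F41063 : act 5 n21236 = n16079 := d13_2 (iv F27786) D21236 (iv D16079)
def n21237 : Q := act 3 n16076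
theorem D21237 : act 3 n16076 = n21237 := rfl
theorem F41064 : act 5 n21237 = n16081 := d16_2 (iv F27787) D21237 (iv D16081)
def n21238 : Q := act 6 n16076
theorem D21238 : act 6 n16076 = n21238 := rfl
theorem F41065 : act 2 n21238 = n16077 := d14_1 D21238 (iv D16077) D16076
def n21239 : Q := act 2 n16078
theorem D21239 : act 2 n16078 = n21239 := rfl
theorem F41066 : act 3 n21239 = n19757 := d21_1 D21239 (iv D19757) (iv D14515) (iv D11290) (iv F20009) D14484 D19710 F37119
def n21240 : Q := act 5 n16078
theorem D21240 : act 5 n16078 = n21240 := rfl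
theorem F41067 : act 0 n21240 = n20265 := d4_1 D21240 (iv F38408) F37119
theorem F41068 : act 3 n21240 = n16146 := d16_1 D21240 (iv D16146) (iv F27789)
theorem F41069 : act 6 n21240 = n20269 := d22_3 D20271 F38424 D21240 (iv D20269)
def n21241 : Q := act 1 n16079
theorem D21241 : act 1 n16079 = n21241 := rfl
def n21242 : Q := act 3 n16079
theorem D21242 : act 3 n16079 = n21242 := rfl
theorem F41070 : act 0 n21242 = n16081 := d2_1 D21242 (iv D16081) (iv F27790)
def n21243 : Q := act 6 n16079
theorem D21243 : act 6 n16079 = n21243 := rfl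
theorem F41071 : act 0 n21243 = n16082 := d5_1 D21243 (iv D16082) (iv F27790)
theorem F41072 : act 2 n21243 = n16080 := d14_1 D21243 (iv D16080) D16079
theorem F41073 : act 5 n21243 = n21238 := d22_2 F41063 D21243 (iv D21238) (iv F41062)
def n21244 : Q := act 2 n16081
theorem D21244 : act 2 n16081 = n21244 := rfl
def n21245 : Q := act 4 n16081
theorem D21245 : act 4 n16081 = n21245 := rfl
def n21246 : Q := act 6 n16081
theorem D21246 : act 6 n16081 = n21246 := rfl
theorem F41074 : act 3 n21246 = n16082 := d17_1 D21246 (iv D16082) D16081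
def n21247 : Q := act 1 n16082
theorem D21247 : act 1 n16082 = n21247 := rfl
theorem F41075 : act 2 n21247 = n21154 := d6_2 (iv F27794) D21247 (iv D21154) F27653 (iv F21371)
def n21248 : Q := act 5 n16082
theorem D21248 : act 5 n16082 = n21248 := rfl
theorem F41076 : act 0 n21248 = n21238 := d4_1 D21248 (iv F41073) F41071
theorem F41077 : act 2 n21248 = n16083 := d13_1 D21248 (iv D16083) (iv F27794)
theorem F41078 : act 6 n21248 = n21236 := d20_2 D16082 D21248 F41063 D21243 F41073 (iv D21238) F27787
def n21249 : Q := act 1 n16083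
theorem D21249 : act 1 n16083 = n21249 := rfl
theorem F41079 : act 3 n21249 = n16155 := d7_2 (iv F27796) D21249 (iv D16155)
theorem F41080 : act 5 n21249 = n20300 := d9_2 D16083 D21249 (iv F38488) (iv D15996) (iv F21371)
theorem F41081 : act 0 n20302 = n21249 := d4_3 F41080 (iv D20300) D20302
def n21250 : Q := act 5 n16086
theorem D21250 : act 5 n16086 = n21250 := rfl
theorem F41082 : act 0 n21250 = n16088 := d4_1 D21250 (iv D16088) D16086
theorem F41083 : act 1 n21250 = n21250 := d9_1 D21250 (iv D21250) (iv F27833) F24160 F27833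
theorem F41084 : act 2 n21250 = n19353 := d13_1 D21250 (iv F37082) F37079
theorem F41085 : act 3 n21250 = n18906 := d16_1 D21250 (iv D18906) (iv F27832)
theorem F41086 : act 4 n21250 = n16658 := d18_1 D21250 (iv D16658) (iv F27805)
def n21251 : Q := act 6 n16086
theorem D21251 : act 6 n16086 = n21251 := rfl
theorem F41087 : act 0 n21251 = n16089 := d5_1 D21251 (iv D16089) D16086
theorem F41088 : act 3 n21251 = n18907 := d17_1 D21251 (iv D18907) (iv F27832)
theorem F41089 : act 4 n21251 = n16659 := d19_1 D21251 (iv D16659) (iv F27805)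
def n21252 : Q := act 5 n16087
theorem D21252 : act 5 n16087 = n21252 := rfl
theorem F41090 : act 0 n21252 = n18906 := d4_1 D21252 (iv D18906) F27830
theorem F41091 : act 1 n21252 = n16264 := d9_1 D21252 (iv D16264) F21520 (iv F21378) (iv F27806)
theorem F41092 : act 2 n21252 = n18909 := d13_1 D21252 (iv D18909) F27831
theorem F41093 : act 3 n21252 = n16088 := d16_1 D21252 (iv D16088) D16087
theorem F41094 : act 4 n21252 = n19234 := d18_1 D21252 (iv D19234) (iv F27829)
def n21253 : Q := act 6 n16087
theorem D21253 : act 6 n16087 = n21253 := rfl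
theorem F41095 : act 0 n21253 = n18907 := d5_1 D21253 (iv D18907) F27830
theorem F41096 : act 2 n21253 = n18910 := d14_1 D21253 (iv D18910) F27831
theorem F41097 : act 3 n21253 = n16089 := d17_1 D21253 (iv D16089) D16087
theorem F41098 : act 4 n21253 = n19235 := d19_1 D21253 (iv D19235) (iv F27829)
def n21254 : Q := act 6 n16088
theorem D21254 : act 6 n16088 = n21254 := rfl
theorem F41099 : act 2 n21254 = n19358 := d14_1 D21254 (iv D19358) F29004
theorem F41100 : act 4 n21254 = n16664 := d19_1 D21254 (iv D16664) (iv F27808)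
theorem F41101 : act 5 n21254 = n21251 := d22_2 D16088 D21254 (iv D21251) (iv D16086)
def n21255 : Q := act 5 n16089
theorem D21255 : act 5 n16089 = n21255 := rfl
theorem F41102 : act 0 n21255 = n21254 := d4_1 D21255 F41101 F41087
theorem F41103 : act 4 n21255 = n16665 := d18_1 D21255 (iv D16665) (iv F27809)
theorem F41104 : act 6 n21255 = n21250 := d20_2 D16089 D21255 (iv D21250) D21251 (iv F41101) (iv D21254) (iv D16088)
def n21256 : Q := act 6 n16093
theorem D21256 : act 6 n16093 = n21256 := rfl
theorem F41105 : act 0 n21256 = n21206 := d5_1 D21256 (iv D21206) (iv F27817)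
theorem F41106 : act 2 n21256 = n16172 := d14_1 D21256 F27989 (iv F27818)
theorem F41107 : act 3 n21256 = n16094 := d17_1 D21256 (iv D16094) D16093
theorem F41108 : act 4 n21256 = n18784 := d19_1 D21256 (iv D18784) F27821
theorem F41109 : act 5 n21256 = n16169 := d20_1 D21256 (iv D16169) (iv F27759) D21206 F41003 (iv D16288) (iv F27819)
def n21257 : Q := act 1 n16094
theorem D21257 : act 1 n16094 = n21257 := rfl
theorem F41110 : act 4 n21257 = n18265 := d8_2 (iv F27837) D21257 (iv D18265)
theorem F41111 : act 6 n21257 = n18216 := d10_2 D16094 D21257 (iv D18216) (iv D13328) F27823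
def n21258 : Q := act 1 n16095
theorem D21258 : act 1 n16095 = n21258 := rfl
theorem F41112 : act 3 n21258 = n16669 := d7_2 (iv F27839) D21258 (iv D16669)
theorem F41113 : act 4 n21258 = n16096 := d8_2 (iv F27840) D21258 (iv D16096)
theorem F41114 : act 6 n21258 = n21258 := d10_2 D16095 D21258 (iv D21258) (iv D16095) F21380
def n21259 : Q := act 2 n16096
theorem D21259 : act 2 n16096 = n21259 := rfl
theorem F41115 : act 6 n21259 = n21259 := d14_2 F27842 D21259 (iv D21259)
def n21260 : Q := act 5 n16096
theorem D21260 : act 5 n16096 = n21260 := rfl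
theorem F41116 : act 3 n21260 = n16099 := d16_1 D21260 (iv D16099) (iv F27841)
def n21261 : Q := act 3 n16098
theorem D21261 : act 3 n16098 = n21261 := rfl
theorem F41117 : act 1 n21261 = n16102 := d7_1 D21261 (iv D16102) (iv F27845)
theorem F41118 : act 6 n21261 = n21261 := d17_2 F27847 D21261 (iv D21261)
def n21262 : Q := act 5 n16098
theorem D21262 : act 5 n16098 = n21262 := rfl
theorem F41119 : act 2 n21262 = n16099 := d13_1 D21262 (iv D16099) D16098
theorem F41120 : act 4 n21262 = n16673 := d18_1 D21262 (iv D16673) (iv F27846)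
def n21263 : Q := act 2 n16100
theorem D21263 : act 2 n16100 = n21263 := rfl
theorem F41121 : act 4 n21263 = n16674 := d12_2 (iv F27849) D21263 (iv D16674)
def n21264 : Q := act 6 n16100
theorem D21264 : act 6 n16100 = n21264 := rfl
theorem F41122 : act 0 n21264 = n16407 := d5_1 D21264 (iv F38050) F38047
theorem F41123 : act 1 n21264 = n16106 := d10_1 D21264 (iv D16106) (iv D12122) (iv F21387) D16100
theorem F41124 : act 4 n21264 = n16675 := d19_1 D21264 (iv D16675) (iv F27849)
theorem F41125 : act 5 n21264 = n16405 := d20_1 D21264 (iv F28424) (iv F38049) F38050 (iv D16407) D16408 (iv F28430)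
def n21265 : Q := act 1 n16101
theorem D21265 : act 1 n16101 = n21265 := rfl
theorem F41126 : act 4 n21265 = n16676 := d8_2 (iv F27851) D21265 (iv D16676)
def n21266 : Q := act 3 n16101
theorem D21266 : act 3 n16101 = n21266 := rfl
theorem F41127 : act 0 n21266 = n16102 := d2_1 D21266 (iv D16102) (iv F27850)
theorem F41128 : act 6 n21266 = n16108 := d17_2 (iv F27852) D21266 (iv D16108)
def n21267 : Q := act 2 n16102
theorem D21267 : act 2 n16102 = n21267 := rfl
theorem F41129 : act 6 n21267 = n16110 := d14_2 (iv F27853) D21267 (iv D16110)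
def n21268 : Q := act 4 n16102
theorem D21268 : act 4 n16102 = n21268 := rfl
theorem F41130 : act 3 n21268 = n16679 := d15_1 D21268 (iv D16679) (iv D12440) (iv F21388) D16102
theorem F41131 : act 6 n21268 = n16111 := d19_2 (iv F27853) D21268 (iv D16111)
def n21269 : Q := act 5 n16102
theorem D21269 : act 5 n16102 = n21269 := rfl
theorem F41132 : act 3 n21269 = n16103 := d16_1 D21269 (iv D16103) D16102
def n21270 : Q := act 1 n16103
theorem D21270 : act 1 n16103 = n21270 := rfl
theorem F41133 : act 4 n21270 = n16681 := d8_2 (iv F27855) D21270 (iv D16681)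
def n21271 : Q := act 0 n16107
theorem D21271 : act 0 n16107 = n21271 := rfl
theorem F41134 : act 4 n21271 = n16685 := d3_2 (iv F27862) D21271 (iv D16685)
def n21272 : Q := act 3 n16107
theorem D21272 : act 3 n16107 = n21272 := rfl
theorem F41135 : act 1 n21272 = n16108 := d7_1 D21272 (iv D16108) D16107
def n21273 : Q := act 5 n16107
theorem D21273 : act 5 n16107 = n21273 := rfl

end Cfsg.Agent.Helper17.SuzbTC
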