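import Cfsg.Agent.Helper17.SuzbTC.Facts4

set_option autoImplicit false
set_option linter.all false

noncomputable section

namespace Cfsg.Agent.Helper17.SuzbTC

theorem F41136 : act 4 n21273 = n16687 := d18_1 D21273 (iv D16687) (iv F27862)
def n21274 : Q := act 6 n16107
theorem D21274 : act 6 n16107 = n21274 := rfl
theorem F41137 : act 2 n21274 = n19746 := d14_1 D21274 F37218 F37152
theorem F41138 : act 4 n21274 = n16688 := d19_1 D21274 (iv D16688) (iv F27862)
theorem F41139 : act 5 n19748 = n21274 := d18_0 F41138 (iv F29473) (iv F37220)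
def n21275 : Q := act 2 n16108
theorem D21275 : act 2 n16108 = n21275 := rfl
theorem F41140 : act 0 n21275 = n16110 := d1_1 D21275 (iv D16110) (iv F27863)
theorem F41141 : act 3 n21275 = n21220 := d21_1 D21275 (iv D21220) (iv D16062) (iv D12101) F17733 D9989 D12125 (iv F27863)
def n21276 : Q := act 4 n16108
theorem D21276 : act 4 n16108 = n21276 := rfl
theorem F41142 : act 0 n21276 = n16111 := d3_1 D21276 (iv D16111) (iv F27863)
theorem F41143 : act 3 n21276 = n16690 := d15_1 D21276 (iv D16690) (iv D12446) (iv F21393) D16108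
def n21277 : Q := act 5 n16108
theorem D21277 : act 5 n16108 = n21277 := rfl
theorem F41144 : act 0 n21277 = n16112 := d4_1 D21277 (iv D16112) (iv F27863)
theorem F41145 : act 3 n21277 = n16109 := d16_1 D21277 (iv D16109) D16108
theorem F41146 : act 6 n21277 = n21269 := d22_1 D21277 (iv D21269) F27853 (iv F27863)
def n21278 : Q := act 1 n16109
theorem D21278 : act 1 n16109 = n21278 := rfl
theorem F41147 : act 4 n21278 = n16692 := d8_2 (iv F27866) D21278 (iv D16692)
def n21279 : Q := act 1 n16110
theorem D21279 : act 1 n16110 = n21279 := rfl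
def n21280 : Q := act 3 n16110
theorem D21280 : act 3 n16110 = n21280 := rfl
theorem F41149 : act 0 n21280 = n21220 := d2_1 D21280 (iv F41141) F41140
theorem F41150 : act 2 n21280 = n21218 := d11_1 D21280 (iv D21218) (iv D16060) F21360 D12123 D16108 D21275 F41141 (iv D21220) (iv D16062) (iv D12101) F17733 D9989 D12125 D16110
def n21281 : Q := act 4 n16110
theorem D21281 : act 4 n16110 = n21281 := rfl
theorem F41151 : act 2 n21281 = n16111 := d12_1 D21281 (iv D16111) D16110
def n21282 : Q := act 5 n16110
theorem D21282 : act 5 n16110 = n21282 := rfl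
theorem F41152 : act 2 n21282 = n16112 := d13_1 D21282 (iv D16112) D16110
def n21283 : Q := act 5 n16111
theorem D21283 : act 5 n16111 = n21283 := rfl
theorem F41153 : act 3 n21283 = n16697 := d16_1 D21283 (iv D16697) (iv F27869)
theorem F41154 : act 4 n21283 = n16112 := d18_1 D21283 (iv D16112) D16111
def n21284 : Q := act 1 n16112
theorem D21284 : act 1 n16112 = n21284 := rfl
theorem F41155 : act 3 n21284 = n16113 := d7_2 (iv F27870) D21284 (iv D16113)
theorem F41156 : act 5 n21284 = n21284 := d9_2 D16112 D21284 (iv D21284) (iv D16112) F21397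
def n21285 : Q := act 6 n16112
theorem D21285 : act 6 n16112 = n21285 := rfl
theorem F41157 : act 0 n21285 = n21269 := d5_1 D21285 (iv F41146) F41144
theorem F41158 : act 3 n21285 = n16114 := d17_1 D21285 (iv D16114) (iv F27870)
theorem F41159 : act 5 n21285 = n21266 := d20_1 D21285 F41128 D21277 F41146 (iv D21269) F27853 D16112
def n21286 : Q := act 6 n16113
theorem D21286 : act 6 n16113 = n21286 := rfl
theorem F41160 : act 2 n21286 = n21188 := d14_1 D21286 (iv D21188) (iv F27871)
theorem F41161 : act 4 n21286 = n16701 := d19_1 D21286 (iv D16701) (iv F27872)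
def n21287 : Q := act 1 n16114
theorem D21287 : act 1 n16114 = n21287 := rfl
theorem F41162 : act 4 n21287 = n16702 := d8_2 (iv F27876) D21287 (iv D16702)
def n21288 : Q := act 2 n16115
theorem D21288 : act 2 n16115 = n21288 := rfl
theorem F41163 : act 0 n21288 = n20335 := d1_1 D21288 F38569 F27880
theorem F41164 : act 4 n21288 = n16703 := d12_2 (iv F27878) D21288 (iv D16703)
theorem F41165 : act 6 n21288 = n20333 := d14_2 (iv F27879) D21288 (iv D20333)
def n21289 : Q := act 5 n16125
theorem D21289 : act 5 n16125 = n21289 := rfl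
theorem F41166 : act 0 n21289 = n16127 := d4_1 D21289 (iv D16127) D16125
theorem F41167 : act 3 n21289 = n18945 := d16_1 D21289 (iv D18945) (iv F34800)
theorem F41168 : act 4 n21289 = n16722 := d18_1 D21289 (iv D16722) (iv F27900)
def n21290 : Q := act 6 n16125
theorem D21290 : act 6 n16125 = n21290 := rfl
theorem F41169 : act 0 n21290 = n16128 := d5_1 D21290 (iv D16128) D16125
theorem F41170 : act 1 n21290 = n21290 := d10_1 D21290 (iv D21290) F34799 F24196 (iv F34799)
theorem F41171 : act 2 n21290 = n19393 := d14_1 D21290 (iv F37124) F37121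
theorem F41172 : act 3 n21290 = n18946 := d17_1 D21290 (iv D18946) (iv F34800)
theorem F41173 : act 4 n21290 = n16723 := d19_1 D21290 (iv D16723) (iv F27900)
def n21291 : Q := act 5 n16126
theorem D21291 : act 5 n16126 = n21291 := rfl
theorem F41174 : act 0 n21291 = n18945 := d4_1 D21291 (iv D18945) (iv F34801)
theorem F41175 : act 2 n21291 = n18949 := d13_1 D21291 (iv D18949) (iv F34802)
theorem F41176 : act 3 n21291 = n16127 := d16_1 D21291 (iv D16127) D16126
theorem F41177 : act 4 n21291 = n19291 := d18_1 D21291 (iv D19291) (iv F34803)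
def n21292 : Q := act 6 n16126
theorem D21292 : act 6 n16126 = n21292 := rfl
theorem F41178 : act 0 n21292 = n18946 := d5_1 D21292 (iv D18946) (iv F34801)
theorem F41179 : act 1 n21292 = n16368 := d10_1 D21292 (iv D16368) F21609 (iv F21410) (iv F27901)
theorem F41180 : act 2 n21292 = n18950 := d14_1 D21292 (iv D18950) (iv F34802)
theorem F41181 : act 3 n21292 = n16128 := d17_1 D21292 (iv D16128) D16126
theorem F41182 : act 4 n21292 = n19292 := d19_1 D21292 (iv D19292) (iv F34803)
def n21293 : Q := act 6 n16127
theorem D21293 : act 6 n16127 = n21293 := rfl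
theorem F41183 : act 4 n21293 = n16728 := d19_1 D21293 (iv D16728) (iv F27902)
theorem F41184 : act 5 n21293 = n21290 := d22_2 D16127 D21293 (iv D21290) (iv D16125)
def n21294 : Q := act 5 n16128
theorem D21294 : act 5 n16128 = n21294 := rfl
theorem F41185 : act 0 n21294 = n21293 := d4_1 D21294 F41184 F41169
theorem F41186 : act 2 n21294 = n19397 := d13_1 D21294 (iv D19397) (iv F35284)
theorem F41187 : act 4 n21294 = n16729 := d18_1 D21294 (iv D16729) (iv F27904)
theorem F41188 : act 6 n21294 = n21289 := d20_2 D16128 D21294 (iv D21289) D21290 (iv F41184) (iv D21293) (iv D16127)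
def n21295 : Q := act 5 n16132
theorem D21295 : act 5 n16132 = n21295 := rfl
theorem F41189 : act 0 n21295 = n21230 := d4_1 D21295 (iv D21230) (iv F27912)
theorem F41190 : act 2 n21295 = n16217 := d13_1 D21295 (iv F34660) F34658
theorem F41191 : act 3 n21295 = n16134 := d16_1 D21295 (iv D16134) D16132
theorem F41192 : act 4 n21295 = n18798 := d18_1 D21295 (iv D18798) (iv F34655)
theorem F41193 : act 6 n21295 = n16214 := d20_2 (iv F27914) D21295 (iv D16214) (iv F27782) D21230 F41048 (iv D16390)
def n21296 : Q := act 1 n16134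
theorem D21296 : act 1 n16134 = n21296 := rfl
theorem F41194 : act 4 n21296 = n18279 := d8_2 (iv F34656) D21296 (iv D18279)
theorem F41195 : act 5 n21296 = n18222 := d9_2 D16134 D21296 (iv D18222) (iv D13331) F34653
def n21297 : Q := act 1 n16135
theorem D21297 : act 1 n16135 = n21297 := rfl
theorem F41196 : act 3 n21297 = n16740 := d7_2 (iv F27918) D21297 (iv D16740)
theorem F41197 : act 4 n21297 = n16136 := d8_2 (iv F27919) D21297 (iv D16136)
theorem F41198 : act 5 n21297 = n21297 := d9_2 D16135 D21297 (iv D21297) (iv D16135) F21412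
def n21298 : Q := act 2 n16136
theorem D21298 : act 2 n16136 = n21298 := rfl
theorem F41199 : act 5 n21298 = n21298 := d13_2 F27921 D21298 (iv D21298)
def n21299 : Q := act 6 n16136
theorem D21299 : act 6 n16136 = n21299 := rfl
theorem F41200 : act 3 n21299 = n16139 := d17_1 D21299 (iv D16139) (iv F27920)
def n21300 : Q := act 3 n16138
theorem D21300 : act 3 n16138 = n21300 := rfl
theorem F41201 : act 0 n21300 = n21284 := d2_1 D21300 F41155 F35217
theorem F41202 : act 1 n21300 = n16142 := d7_1 D21300 (iv D16142) (iv F27924)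
theorem F41203 : act 5 n21300 = n21300 := d16_2 F27926 D21300 (iv D21300)
def n21301 : Q := act 6 n16138
theorem D21301 : act 6 n16138 = n21301 := rfl
theorem F41204 : act 0 n21301 = n21286 := d5_1 D21301 (iv D21286) F35217
theorem F41205 : act 2 n21301 = n16139 := d14_1 D21301 (iv D16139) D16138
theorem F41206 : act 4 n21301 = n16748 := d19_1 D21301 (iv D16748) (iv F27925)
theorem F41207 : act 5 n21301 = n21286 := d22_2 F27926 D21301 (iv D21286) F35217
def n21302 : Q := act 2 n16140
theorem D21302 : act 2 n16140 = n21302 := rfl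
theorem F41208 : act 4 n21302 = n16749 := d12_2 (iv F27928) D21302 (iv D16749)
def n21303 : Q := act 5 n16140
theorem D21303 : act 5 n16140 = n21303 := rfl
theorem F41209 : act 0 n21303 = n16305 := d4_1 D21303 (iv F38044) F38042
theorem F41210 : act 1 n21303 = n16146 := d9_1 D21303 (iv D16146) (iv D12141) (iv F21419) D16140
theorem F41211 : act 4 n21303 = n16750 := d18_1 D21303 (iv D16750) (iv F27928)
theorem F41212 : act 6 n21303 = n16302 := d20_2 (iv F28226) D21303 (iv F28222) (iv F38045) F38044 (iv D16305) D16304
def n21304 : Q := act 1 n16141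
theorem D21304 : act 1 n16141 = n21304 := rfl
theorem F41213 : act 4 n21304 = n16751 := d8_2 (iv F27930) D21304 (iv D16751)
def n21305 : Q := act 3 n16141
theorem D21305 : act 3 n16141 = n21305 := rfl
theorem F41214 : act 0 n21305 = n16142 := d2_1 D21305 (iv D16142) (iv F27929)
theorem F41215 : act 5 n21305 = n16148 := d16_2 (iv F27931) D21305 (iv D16148)
def n21306 : Q := act 2 n16142
theorem D21306 : act 2 n16142 = n21306 := rfl
theorem F41216 : act 5 n21306 = n16150 := d13_2 (iv F27932) D21306 (iv D16150)
def n21307 : Q := act 4 n16142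
theorem D21307 : act 4 n16142 = n21307 := rfl
theorem F41217 : act 3 n21307 = n16754 := d15_1 D21307 (iv D16754) (iv D12480) (iv F21420) D16142
theorem F41218 : act 5 n21307 = n16151 := d18_2 (iv F27932) D21307 (iv D16151)
def n21308 : Q := act 6 n16142
theorem D21308 : act 6 n16142 = n21308 := rfl
theorem F41219 : act 3 n21308 = n16143 := d17_1 D21308 (iv D16143) D16142
def n21309 : Q := act 1 n16143
theorem D21309 : act 1 n16143 = n21309 := rfl
theorem F41220 : act 4 n21309 = n16756 := d8_2 (iv F27934) D21309 (iv D16756)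
def n21310 : Q := act 0 n16147
theorem D21310 : act 0 n16147 = n21310 := rfl
theorem F41221 : act 4 n21310 = n16761 := d3_2 (iv F27942) D21310 (iv D16761)
def n21311 : Q := act 3 n16147
theorem D21311 : act 3 n16147 = n21311 := rfl
theorem F41222 : act 1 n21311 = n16148 := d7_1 D21311 (iv D16148) D16147
def n21312 : Q := act 5 n16147
theorem D21312 : act 5 n16147 = n21312 := rfl
theorem F41223 : act 2 n21312 = n19784 := d13_1 D21312 F37304 F37110
theorem F41224 : act 4 n21312 = n16763 := d18_1 D21312 (iv D16763) (iv F27942)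
theorem F41225 : act 6 n19786 = n21312 := d19_0 F41224 F36884 (iv F37307)
def n21313 : Q := act 6 n16147
theorem D21313 : act 6 n16147 = n21313 := rfl
theorem F41226 : act 4 n21313 = n16764 := d19_1 D21313 (iv D16764) (iv F27942)
def n21314 : Q := act 2 n16148
theorem D21314 : act 2 n16148 = n21314 := rfl
theorem F41227 : act 0 n21314 = n16150 := d1_1 D21314 (iv D16150) (iv F27943)
theorem F41228 : act 3 n21314 = n21244 := d21_1 D21314 (iv D21244) (iv D16081) (iv D12109) F17738 D9997 D12144 (iv F27943)
def n21315 : Q := act 4 n16148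
theorem D21315 : act 4 n16148 = n21315 := rfl
theorem F41229 : act 0 n21315 = n16151 := d3_1 D21315 (iv D16151) (iv F27943)
theorem F41230 : act 3 n21315 = n16766 := d15_1 D21315 (iv D16766) (iv D12486) (iv F21425) D16148
def n21316 : Q := act 6 n16148
theorem D21316 : act 6 n16148 = n21316 := rfl
theorem F41231 : act 0 n21316 = n16152 := d5_1 D21316 (iv D16152) (iv F27943)
theorem F41232 : act 3 n21316 = n16149 := d17_1 D21316 (iv D16149) D16148
theorem F41233 : act 5 n21316 = n21308 := d22_2 F41215 D21316 (iv D21308) (iv F41214)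
def n21317 : Q := act 1 n16149
theorem D21317 : act 1 n16149 = n21317 := rfl
theorem F41234 : act 4 n21317 = n16768 := d8_2 (iv F27946) D21317 (iv D16768)
def n21318 : Q := act 1 n16150
theorem D21318 : act 1 n16150 = n21318 := rfl
def n21319 : Q := act 3 n16150
theorem D21319 : act 3 n16150 = n21319 := rfl
theorem F41236 : act 0 n21319 = n21244 := d2_1 D21319 (iv F41228) F41227
theorem F41237 : act 2 n21319 = n21242 := d11_1 D21319 (iv D21242) (iv D16079) F21370 D12142 D16148 D21314 F41228 (iv D21244) (iv D16081) (iv D12109) F17738 D9997 D12144 D16150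
def n21320 : Q := act 4 n16150
theorem D21320 : act 4 n16150 = n21320 := rfl
theorem F41238 : act 2 n21320 = n16151 := d12_1 D21320 (iv D16151) D16150
def n21321 : Q := act 6 n16150
theorem D21321 : act 6 n16150 = n21321 := rfl
theorem F41239 : act 2 n21321 = n16152 := d14_1 D21321 (iv D16152) D16150
def n21322 : Q := act 6 n16151
theorem D21322 : act 6 n16151 = n21322 := rfl
theorem F41240 : act 3 n21322 = n16773 := d17_1 D21322 (iv D16773) (iv F27949)
theorem F41241 : act 4 n21322 = n16152 := d19_1 D21322 (iv D16152) D16151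
def n21323 : Q := act 1 n16152
theorem D21323 : act 1 n16152 = n21323 := rfl
theorem F41242 : act 3 n21323 = n16153 := d7_2 (iv F27950) D21323 (iv D16153)
theorem F41243 : act 6 n21323 = n21323 := d10_2 D16152 D21323 (iv D21323) (iv D16152) F21429
theorem F41244 : act 0 n21261 = n21323 := d2_3 F41242 (iv F29374) D21261
def n21324 : Q := act 5 n16152
theorem D21324 : act 5 n16152 = n21324 := rfl
theorem F41245 : act 0 n21324 = n21308 := d4_1 D21324 (iv F41233) F41231
theorem F41246 : act 3 n21324 = n16154 := d16_1 D21324 (iv D16154) (iv F27950)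
theorem F41247 : act 6 n21324 = n21305 := d20_2 D16152 D21324 F41215 D21316 F41233 (iv D21308) F27932
def n21325 : Q := act 5 n16153
theorem D21325 : act 5 n16153 = n21325 := rfl
theorem F41248 : act 0 n21325 = n21262 := d4_1 D21325 (iv D21262) F29374
theorem F41249 : act 2 n21325 = n21176 := d13_1 D21325 (iv D21176) (iv F27951)
theorem F41250 : act 4 n21325 = n16776 := d18_1 D21325 (iv D16776) (iv F27952)
theorem F41251 : act 6 n21325 = n21262 := d22_1 D21325 (iv D21262) F27847 F29374
def n21326 : Q := act 1 n16154
theorem D21326 : act 1 n16154 = n21326 := rfl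
theorem F41252 : act 4 n21326 = n16777 := d8_2 (iv F27956) D21326 (iv D16777)
def n21327 : Q := act 2 n16155
theorem D21327 : act 2 n16155 = n21327 := rfl
theorem F41253 : act 0 n21327 = n20369 := d1_1 D21327 F38650 F27960
theorem F41254 : act 4 n21327 = n16778 := d12_2 (iv F27958) D21327 (iv D16778)
theorem F41255 : act 5 n21327 = n20367 := d13_2 (iv F27959) D21327 (iv D20367)
def n21328 : Q := act 1 n16156
theorem D21328 : act 1 n16156 = n21328 := rfl
theorem F41256 : act 3 n21328 = n16256 := d7_2 (iv F27962) D21328 (iv D16256)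
theorem F41257 : act 4 n21328 = n19716 := d8_2 F38402 D21328 F38404
theorem F41258 : act 5 n21328 = n19715 := d9_2 (iv F27963) D21328 (iv F40875) (iv F40879) (iv D18786)
theorem F41259 : act 0 n20179 = n21328 := d4_3 F41258 F37133 D20179
def n21329 : Q := act 0 n16157
theorem D21329 : act 0 n16157 = n21329 := rfl
theorem F41260 : act 3 n21329 = n16257 := d2_2 (iv F27964) D21329 (iv D16257)
theorem F41261 : act 4 n21329 = n21240 := d3_2 F38406 D21329 F41067
theorem F41262 : act 6 n21329 = n16164 := d5_2 (iv F27965) D21329 (iv D16164)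
theorem F41263 : act 5 n21329 = n20190 := d22_0 (iv F38254) (iv D16166) (iv F27965) D21329
def n21330 : Q := act 2 n16157
theorem D21330 : act 2 n16157 = n21330 := rfl
theorem F41264 : act 6 n21330 = n16165 := d14_2 (iv F27965) D21330 (iv D16165)
def n21331 : Q := act 5 n16157
theorem D21331 : act 5 n16157 = n21331 := rfl
theorem F41265 : act 0 n21331 = n20190 := d4_1 D21331 (iv F41263) (iv D21329)
theorem F41266 : act 3 n21331 = n16259 := d16_1 D21331 (iv D16259) (iv F27964)
theorem F41267 : act 4 n21331 = n19710 := d18_1 D21331 F38408 F38406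
def n21332 : Q := act 1 n16158
theorem D21332 : act 1 n16158 = n21332 := rfl
theorem F41268 : act 0 n21332 = n16211 := d0_1 D21332 F28035 (iv F27795) D21249 (iv F41081) F38490 F41259 (iv D21328) (iv F27966)
theorem F41269 : act 3 n21332 = n16260 := d7_2 (iv F27968) D21332 (iv D16260)
theorem F41270 : act 6 n16209 = n21332 := d17_0 F41269 (iv F28134) (iv F28034)
def n21333 : Q := act 2 n16159
theorem D21333 : act 2 n16159 = n21333 := rfl
theorem F41271 : act 4 n21333 = n20210 := d12_2 F38188 D21333 F38299
theorem F41272 : act 5 n21333 = n20316 := d13_2 F38183 D21333 F38538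
def n21334 : Q := act 6 n16160
theorem D21334 : act 6 n16160 = n21334 := rfl
theorem F41273 : act 0 n21334 = n16170 := d5_1 D21334 (iv D16170) (iv F27971)
theorem F41274 : act 3 n21334 = n21210 := d17_1 D21334 F41015 (iv F38184)
theorem F41275 : act 4 n21334 = n16162 := d19_1 D21334 (iv D16162) (iv F27972)
theorem F41276 : act 5 n21334 = n21207 := d20_1 D21334 (iv D21207) F27761 D16170 F27983 (iv D16161) D16160
def n21335 : Q := act 1 n16161
theorem D21335 : act 1 n16161 = n21335 := rfl
theorem F41277 : act 6 n21335 = n16163 := d10_2 D16161 D21335 (iv D16163) (iv D12153) D12151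
def n21336 : Q := act 1 n16162
theorem D21336 : act 1 n16162 = n21336 := rfl
theorem F41278 : act 3 n21336 = n16163 := d7_2 (iv F27974) D21336 (iv D16163)
def n21337 : Q := act 0 n16163
theorem D21337 : act 0 n16163 = n21337 := rfl
def n21338 : Q := act 2 n16163
theorem D21338 : act 2 n16163 = n21338 := rfl
theorem F41279 : act 1 n21338 = n16165 := d6_1 D21338 (iv D16165) (iv D12154) (iv F21440) D16163
def n21339 : Q := act 5 n16163
theorem D21339 : act 5 n16163 = n21339 := rfl
theorem F41280 : act 1 n21339 = n21210 := d9_1 D21339 (iv D21210) (iv D16055) (iv F21441) D16163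
theorem F41281 : act 6 n20280 = n21339 := d24_0 (iv D21339) (iv D16163) (iv D12153) (iv F21355) F27752 D20267 F38416 F38199 (iv D14959) F20398 F13935 D11541 D15020 D20280
def n21340 : Q := act 1 n16164
theorem D21340 : act 1 n16164 = n21340 := rfl
theorem F41282 : act 3 n21340 = n16277 := d7_2 (iv F27976) D21340 (iv D16277)
theorem F41283 : act 5 n18736 = n21340 := d24_1 (iv F33546) (iv D21340) (iv F41262) F41263 (iv D20190) D20192 F38261 (iv F38467) (iv D20291) (iv F38448) (iv D20284) D20285 F38453 F33541
theorem F41284 : act 2 n21340 = n18737 := d13_1 F41283 (iv D18737) D18736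
theorem F41285 : act 6 n21340 = n18737 := d22_1 F41283 (iv D18737) (iv F31814) (iv F33543)
def n21341 : Q := act 2 n16164
theorem D21341 : act 2 n16164 = n21341 := rfl
theorem F41286 : act 0 n21341 = n16165 := d1_1 D21341 (iv D16165) D16164
def n21342 : Q := act 5 n16164
theorem D21342 : act 5 n16164 = n21342 := rfl
theorem F41287 : act 0 n21342 = n16166 := d4_1 D21342 (iv D16166) D16164
theorem F41288 : act 1 n21342 = n16200 := d9_1 D21342 F28024 (iv F33544) F41283 (iv D21340)
theorem F41289 : act 3 n21342 = n16279 := d16_1 D21342 (iv D16279) (iv F27976)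
theorem F41290 : act 6 n21342 = n21331 := d20_2 F41262 D21342 (iv D21331) F27965 D16166 F38254 (iv F41263)
def n21343 : Q := act 3 n16165
theorem D21343 : act 3 n16165 = n21343 := rfl
def n21344 : Q := act 5 n16165
theorem D21344 : act 5 n16165 = n21344 := rfl
theorem F41291 : act 2 n21344 = n16166 := d13_1 D21344 (iv D16166) D16165
def n21345 : Q := act 0 n16167
theorem D21345 : act 0 n16167 = n21345 := rfl
theorem F41292 : act 2 n21345 = n21345 := d1_2 F27979 D21345 (iv D21345)
theorem F41293 : act 3 n21345 = n18701 := d2_2 F28150 D21345 F33488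
theorem F41294 : act 1 n18699 = n21345 := d7_3 F41293 (iv D18701) (iv F33467)
def n21346 : Q := act 4 n16167
theorem D21346 : act 4 n16167 = n21346 := rfl
theorem F41295 : act 1 n21346 = n16168 := d8_1 D21346 (iv D16168) D16167
theorem F41296 : act 2 n21346 = n21346 := d12_1 D21346 (iv D21346) F27979
theorem F41297 : act 5 n16167 = n21346 := d23_0 F41296 F41295 (iv F28189) F28192 F24040 (iv D12151) F17770 (iv F17731) (iv D9976) (iv D5153) (iv F7822) (iv D5146) D5145 D9957 D12057 D15975 (iv F33466) F41294 (iv D21345)
def n21347 : Q := act 6 n16167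
theorem D21347 : act 6 n16167 = n21347 := rfl
theorem F41298 : act 2 n21347 = n21347 := d14_1 D21347 (iv D21347) F27979
def n21348 : Q := act 6 n16168
theorem D21348 : act 6 n16168 = n21348 := rfl
theorem F41299 : act 2 n21348 = n16170 := d14_1 D21348 (iv D16170) (iv F27980)
theorem F41300 : act 3 n21348 = n18821 := d17_1 D21348 F33695 F33678
theorem F41301 : act 4 n21348 = n16169 := d19_1 D21348 (iv D16169) D16168
theorem F41302 : act 5 n21348 = n18784 := d22_2 F33624 D21348 (iv D18784) D18783
def n21349 : Q := act 1 n16169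
theorem D21349 : act 1 n16169 = n21349 := rfl
def n21350 : Q := act 1 n16170
theorem D21350 : act 1 n16170 = n21350 := rfl
theorem F41303 : act 4 n21350 = n16171 := d8_2 (iv F27982) D21350 (iv D16171)
theorem F41304 : act 6 n21350 = n21350 := d10_2 D16170 D21350 (iv D21350) (iv D16170) F21443
def n21351 : Q := act 0 n16171
theorem D21351 : act 0 n16171 = n21351 := rfl
theorem F41305 : act 3 n21351 = n16173 := d2_2 (iv F27984) D21351 (iv D16173)
def n21352 : Q := act 2 n16171
theorem D21352 : act 2 n16171 = n21352 := rfl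
theorem F41307 : act 6 n21352 = n21352 := d14_2 F27985 D21352 (iv D21352)
def n21353 : Q := act 5 n16171
theorem D21353 : act 5 n16171 = n21353 := rfl
theorem F41308 : act 3 n21353 = n16175 := d16_1 D21353 (iv D16175) (iv F27984)
def n21354 : Q := act 1 n16172
theorem D21354 : act 1 n16172 = n21354 := rfl
theorem F41309 : act 3 n21354 = n16176 := d7_2 (iv F27987) D21354 (iv D16176)
theorem F41310 : act 4 n21354 = n21335 := d8_2 (iv F27988) D21354 (iv D21335)
theorem F41311 : act 6 n21354 = n20268 := d10_2 (iv F27989) D21354 (iv D20268) (iv D15014) D15012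
def n21355 : Q := act 1 n16173
theorem D21355 : act 1 n16173 = n21355 := rfl
def n21356 : Q := act 2 n16173
theorem D21356 : act 2 n16173 = n21356 := rfl
theorem F41312 : act 0 n21356 = n16174 := d1_1 D21356 (iv D16174) D16173
def n21357 : Q := act 5 n16173
theorem D21357 : act 5 n16173 = n21357 := rfl
theorem F41314 : act 0 n21357 = n16175 := d4_1 D21357 (iv D16175) D16173
theorem F41315 : act 6 n21357 = n16175 := d22_1 D21357 (iv D16175) F21445 D16173
def n21358 : Q := act 3 n16174
theorem D21358 : act 3 n16174 = n21358 := rfl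
theorem F41316 : act 1 n21358 = n16179 := d7_1 D21358 (iv D16179) (iv F27991)
theorem F41317 : act 6 n21358 = n21358 := d17_2 F27992 D21358 (iv D21358)
def n21359 : Q := act 5 n16174
theorem D21359 : act 5 n16174 = n21359 := rfl
theorem F41318 : act 2 n21359 = n16175 := d13_1 D21359 (iv D16175) D16174
def n21360 : Q := act 1 n16175
theorem D21360 : act 1 n16175 = n21360 := rfl
theorem F41319 : act 5 n21360 = n16176 := d9_2 D16175 D21360 (iv D16176) (iv D12159) D12158
def n21361 : Q := act 0 n16176
theorem D21361 : act 0 n16176 = n21361 := rfl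
def n21362 : Q := act 2 n16176
theorem D21362 : act 2 n16176 = n21362 := rfl
theorem F41320 : act 1 n21362 = n16183 := d6_1 D21362 (iv D16183) (iv D12163) (iv F21447) D16176
def n21363 : Q := act 6 n16176
theorem D21363 : act 6 n16176 = n21363 := rfl
theorem F41321 : act 1 n21363 = n20267 := d10_1 D21363 (iv D20267) (iv F27752) (iv F21448) D16176
theorem F41322 : act 3 n21363 = n20268 := d17_1 D21363 (iv F41311) F41309
theorem F41323 : act 4 n21363 = n21339 := d19_1 D21363 (iv F41281) F38438
theorem F41324 : act 5 n21363 = n20268 := d24_1 D21363 (iv D20268) (iv D15014) (iv F26033) D20164 (iv F41015) (iv D21210) (iv D16055) (iv D12098) F17731 F7855 D10003 D12159 D16176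
theorem F41325 : act 5 n21361 = n21354 := d22_0 F41311 (iv F41324) (iv D21363) D21361
theorem E10320 : n21355 = n11541 := (c24_6 (iv D21363) (iv F41319) (iv D21360) (iv F41315) (iv D21357) D21355 (iv D11541) (iv F20398) (iv F26010) (iv F38193) F38144 F38143 D20168 (iv F38416) (iv F41321))
theorem E10321 : n16173 = n15019 := (((D15019).symm.trans (sb E10320 (iv D21355)))).symm
theorem E10322 : n20278 = n12158 := ((D20278).symm.trans (sb E10321 (iv D16173)))
theorem E10323 : n21356 = n16241 := ((((iv F28083)).symm.trans (sb E10321 D21356))).symm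
theorem E10324 : n21351 = n20276 := ((((iv F38430)).symm.trans (sb E10321 (iv F41305)))).symm
theorem E10325 : n21357 = n20279 := (((D20279).symm.trans (sb E10321 D21357))).symm
theorem F41326 : act 0 n12158 = n15019 := (sb E10322 (iv D20278))
theorem F41327 : act 0 n16241 = n16174 := (sb E10323 F41312)
theorem F41328 : act 0 n20276 = n16171 := (sb E10324 (iv D21351))
theorem F41329 : act 0 n20279 = n16175 := (sb E10325 F41314)
theorem F41330 : act 6 n20279 = n16175 := (sb E10325 F41315)
theorem F41331 : act 0 n21354 = n21360 := d4_1 F41325 F41319 D21361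
theorem F41332 : act 1 n21353 = n21361 := d9_5 F41325 (iv D21354) (iv D16172) D16171 D21353
theorem F41333 : act 3 n21360 = n21361 := d16_3 F41325 F41309 (iv F41319)
def n21364 : Q := act 0 n16177
theorem D21364 : act 0 n16177 = n21364 := rfl
theorem F41334 : act 3 n21364 = n16302 := d2_2 (iv F27993) D21364 (iv D16302)
theorem F41335 : act 4 n21364 = n21098 := d3_2 F28079 D21364 F40720
theorem F41336 : act 5 n20114 = n21364 := d18_0 F41335 (iv D21098) (iv F38035)
def n21365 : Q := act 2 n16177
theorem D21365 : act 2 n16177 = n21365 := rfl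
def n21366 : Q := act 5 n16177
theorem D21366 : act 5 n16177 = n21366 := rfl
theorem F41337 : act 0 n21366 = n20114 := d4_1 D21366 F41336 (iv D21364)
theorem F41338 : act 3 n21366 = n16304 := d16_1 D21366 (iv D16304) (iv F27993)
theorem F41339 : act 4 n21366 = n21096 := d18_1 D21366 (iv F40718) F28079
theorem F41340 : act 6 n21235 = n21366 := d17_0 F41338 (iv F28226) (iv F41061)
def n21367 : Q := act 6 n16177
theorem D21367 : act 6 n16177 = n21367 := rfl
theorem F41341 : act 1 n21367 = n16188 := d10_1 D21367 (iv D16188) (iv D12164) (iv F21450) D16177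
theorem F41342 : act 3 n21367 = n16305 := d17_1 D21367 (iv D16305) (iv F27993)
def n21368 : Q := act 1 n16178
theorem D21368 : act 1 n16178 = n21368 := rfl
def n21369 : Q := act 3 n16178
theorem D21369 : act 3 n16178 = n21369 := rfl
theorem F41343 : act 0 n21369 = n16179 := d2_1 D21369 (iv D16179) (iv F27994)
theorem F41344 : act 6 n21369 = n16190 := d17_2 (iv F27995) D21369 (iv D16190)
def n21370 : Q := act 2 n16179
theorem D21370 : act 2 n16179 = n21370 := rfl
theorem F41345 : act 6 n21370 = n16193 := d14_2 (iv F27996) D21370 (iv D16193)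
def n21371 : Q := act 4 n16179
theorem D21371 : act 4 n16179 = n21371 := rfl
theorem F41346 : act 6 n21371 = n16194 := d19_2 (iv F27996) D21371 (iv D16194)
def n21372 : Q := act 5 n16179
theorem D21372 : act 5 n16179 = n21372 := rfl
theorem F41347 : act 3 n21372 = n16180 := d16_1 D21372 (iv D16180) D16179
def n21373 : Q := act 1 n16180
theorem D21373 : act 1 n16180 = n21373 := rfl
def n21374 : Q := act 0 n16181
theorem D21374 : act 0 n16181 = n21374 := rfl
theorem F41348 : act 3 n21374 = n16312 := d2_2 (iv F27998) D21374 (iv D16312)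
theorem F41349 : act 5 n21374 = n16182 := d4_2 (iv F27999) D21374 (iv D16182)
theorem F41350 : act 1 n21228 = n21374 := d9_5 F41349 F38127 F38126 (iv F36989) (iv F41042)
def n21375 : Q := act 2 n16181
theorem D21375 : act 2 n16181 = n21375 := rfl
theorem F41351 : act 5 n21375 = n16183 := d13_2 (iv F27999) D21375 (iv D16183)
def n21376 : Q := act 6 n16181
theorem D21376 : act 6 n16181 = n21376 := rfl
theorem F41352 : act 1 n21376 = n21104 := d10_1 D21376 (iv F40735) (iv D16192) F21458 D16181
theorem F41353 : act 3 n21376 = n16314 := d17_1 D21376 (iv D16314) (iv F27998)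
def n21377 : Q := act 2 n16182
theorem D21377 : act 2 n16182 = n21377 := rfl
theorem F41354 : act 0 n21377 = n16183 := d1_1 D21377 (iv D16183) D16182
def n21378 : Q := act 6 n16182
theorem D21378 : act 6 n16182 = n21378 := rfl
theorem F41355 : act 0 n21378 = n16184 := d5_1 D21378 (iv D16184) D16182
theorem F41356 : act 1 n21378 = n20177 := d10_1 D21378 (iv D20177) F26043 D20146 (iv F38127)
theorem F41357 : act 3 n21378 = n16316 := d17_1 D21378 (iv D16316) (iv F28000)
theorem F41358 : act 4 n21378 = n21225 := d19_1 D21378 F41035 F38440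
theorem F41359 : act 5 n21378 = n21376 := d22_2 F41349 D21378 (iv D21376) D21374
def n21379 : Q := act 3 n16183
theorem D21379 : act 3 n16183 = n21379 := rfl
def n21380 : Q := act 6 n16183
theorem D21380 : act 6 n16183 = n21380 := rfl
theorem F41360 : act 2 n21380 = n16184 := d14_1 D21380 (iv D16184) D16183
def n21381 : Q := act 5 n16184
theorem D21381 : act 5 n16184 = n21381 := rfl
theorem F41361 : act 0 n21381 = n21376 := d4_1 D21381 (iv F41359) F41355
theorem F41362 : act 3 n21381 = n16319 := d16_1 D21381 (iv D16319) (iv F28002)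
theorem F41363 : act 6 n21381 = n21374 := d20_2 D16184 D21381 F41349 D21378 F41359 (iv D21376) F27999
def n21382 : Q := act 1 n16187
theorem D21382 : act 1 n16187 = n21382 := rfl
theorem F41364 : act 3 n21382 = n16327 := d7_2 (iv F28004) D21382 (iv D16327)
theorem F41365 : act 5 n21382 = n16192 := d9_2 D16187 D21382 (iv D16192) (iv D12166) D12164
theorem F41366 : act 6 n21382 = n21103 := d10_2 (iv F40888) D21382 (iv D21103) (iv F27661) D21160
def n21383 : Q := act 5 n16188
theorem D21383 : act 5 n16188 = n21383 := rfl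
theorem F41367 : act 0 n21383 = n21160 := d4_1 D21383 F40886 F37354
theorem F41368 : act 2 n21383 = n18804 := d13_1 D21383 (iv F33666) (iv F37350)
theorem F41369 : act 3 n21383 = n16328 := d16_1 D21383 (iv D16328) (iv F28005)
theorem F41370 : act 4 n21383 = n21150 := d18_1 D21383 (iv F40867) F28071
theorem F41371 : act 6 n21383 = n18803 := d20_2 D16188 D21383 F33655 D18810 (iv F40886) (iv F40888) (iv D16187)
theorem F41372 : act 1 n21383 = n20137 := d24_2 D16188 D21383 (iv D20137) (iv F25991) (iv F36986) (iv F41000) (iv D21205) (iv F28001) (iv D16184) (iv F27999) (iv D16181) (iv F21458) (iv D12166) D12164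
def n21384 : Q := act 0 n16189
theorem D21384 : act 0 n16189 = n21384 := rfl
def n21385 : Q := act 3 n16189
theorem D21385 : act 3 n16189 = n21385 := rfl
theorem F41373 : act 1 n21385 = n16190 := d7_1 D21385 (iv D16190) D16189
def n21386 : Q := act 5 n16189
theorem D21386 : act 5 n16189 = n21386 := rfl
def n21387 : Q := act 6 n16189
theorem D21387 : act 6 n16189 = n21387 := rfl
def n21388 : Q := act 4 n16190
theorem D21388 : act 4 n16190 = n21388 := rfl
theorem F41374 : act 0 n21388 = n16194 := d3_1 D21388 (iv D16194) (iv F28006)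
def n21389 : Q := act 5 n16190
theorem D21389 : act 5 n16190 = n21389 := rfl
theorem F41375 : act 0 n21389 = n16195 := d4_1 D21389 (iv D16195) (iv F28006)
theorem F41376 : act 3 n21389 = n16191 := d16_1 D21389 (iv D16191) D16190
theorem F41377 : act 6 n21389 = n21372 := d22_1 D21389 (iv D21372) F27996 (iv F28006)
def n21390 : Q := act 1 n16191
theorem D21390 : act 1 n16191 = n21390 := rfl
def n21391 : Q := act 2 n16192
theorem D21391 : act 2 n16192 = n21391 := rfl
def n21392 : Q := act 1 n16193
theorem D21392 : act 1 n16193 = n21392 := rfl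
theorem F41378 : act 2 n21392 = n21392 := d6_2 D16193 D21392 (iv D21392) (iv D16193) F21459
def n21393 : Q := act 4 n16193
theorem D21393 : act 4 n16193 = n21393 := rfl
theorem F41379 : act 2 n21393 = n16194 := d12_1 D21393 (iv D16194) D16193
def n21394 : Q := act 5 n16193
theorem D21394 : act 5 n16193 = n21394 := rfl
theorem F41380 : act 2 n21394 = n16195 := d13_1 D21394 (iv D16195) D16193
def n21395 : Q := act 5 n16194
theorem D21395 : act 5 n16194 = n21395 := rfl
theorem F41381 : act 4 n21395 = n16195 := d18_1 D21395 (iv D16195) D16194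
def n21396 : Q := act 1 n16195
theorem D21396 : act 1 n16195 = n21396 := rfl
theorem F41382 : act 3 n21396 = n16196 := d7_2 (iv F28012) D21396 (iv D16196)
theorem F41383 : act 5 n21396 = n21396 := d9_2 D16195 D21396 (iv D21396) (iv D16195) F21459
def n21397 : Q := act 6 n16195
theorem D21397 : act 6 n16195 = n21397 := rfl
theorem F41384 : act 0 n21397 = n21372 := d5_1 D21397 (iv F41377) F41375
theorem F41385 : act 3 n21397 = n16197 := d17_1 D21397 (iv D16197) (iv F28012)
theorem F41386 : act 5 n21397 = n21369 := d20_1 D21397 F41344 D21389 F41377 (iv D21372) F27996 D16195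
def n21398 : Q := act 6 n16196
theorem D21398 : act 6 n16196 = n21398 := rfl
theorem F41387 : act 2 n21398 = n20298 := d14_1 D21398 (iv D20298) (iv F28013)
def n21399 : Q := act 1 n16197
theorem D21399 : act 1 n16197 = n21399 := rfl
def n21400 : Q := act 0 n16198
theorem D21400 : act 0 n16198 = n21400 := rfl
theorem F41388 : act 3 n21400 = n16345 := d2_2 (iv F28018) D21400 (iv D16345)
theorem F41389 : act 6 n21400 = n20300 := d5_2 (iv F28019) D21400 (iv D20300)
def n21401 : Q := act 2 n16198
theorem D21401 : act 2 n16198 = n21401 := rfl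
theorem F41390 : act 6 n21401 = n20301 := d14_2 (iv F28019) D21401 (iv D20301)
def n21402 : Q := act 5 n16198
theorem D21402 : act 5 n16198 = n21402 := rfl
theorem F41391 : act 1 n21402 = n21366 := d9_1 D21402 (iv D21366) (iv D16177) (iv F21463) D16198
theorem F41392 : act 3 n21402 = n16347 := d16_1 D21402 (iv D16347) (iv F28018)
theorem F41393 : act 6 n21402 = n21249 := d22_1 D21402 F41080 (iv F41389) (iv D21400)
def n21403 : Q := act 0 n16199
theorem D21403 : act 0 n16199 = n21403 := rfl
theorem F41394 : act 3 n21403 = n16360 := d2_2 (iv F28020) D21403 (iv D16360)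
theorem F41395 : act 4 n21403 = n21216 := d3_2 F38447 D21403 F41022
theorem F41396 : act 5 n21403 = n16209 := d4_2 (iv F28021) D21403 (iv D16209)
theorem F41397 : act 6 n20172 = n21403 := d22_3 F28021 D16211 F38211 (iv D21403)
def n21404 : Q := act 2 n16199
theorem D21404 : act 2 n16199 = n21404 := rfl
theorem F41398 : act 5 n21404 = n16210 := d13_2 (iv F28021) D21404 (iv D16210)
def n21405 : Q := act 6 n16199
theorem D21405 : act 6 n16199 = n21405 := rfl
theorem F41399 : act 0 n21405 = n20172 := d5_1 D21405 F41397 (iv D21403)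
theorem F41400 : act 1 n21405 = n21331 := d10_1 D21405 (iv F41290) F41288 (iv D16200) D16199
theorem F41401 : act 3 n21405 = n16362 := d17_1 D21405 (iv D16362) (iv F28020)
theorem F41402 : act 4 n21405 = n19723 := d19_1 D21405 F38449 F38447
theorem F41403 : act 5 n21405 = n21332 := d20_1 D21405 (iv F41270) (iv F41396) (iv F41397) (iv F38211) (iv D16211) (iv F28021)
def n21406 : Q := act 1 n16201
theorem D21406 : act 1 n16201 = n21406 := rfl
theorem F41404 : act 0 n21406 = n20163 := d0_1 D21406 (iv F38443) F41036 (iv D21225) F27773 (iv F27977) (iv F41287) F41288 (iv F28025)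
theorem F41405 : act 3 n21406 = n16363 := d7_2 (iv F28027) D21406 (iv D16363)
theorem F41406 : act 4 n21406 = n19703 := d8_2 F38457 D21406 (iv F38459)
theorem F41407 : act 6 n21406 = n19702 := d10_2 (iv F28028) D21406 (iv F40852) (iv F40856) (iv D18801)
def n21407 : Q := act 2 n16203
theorem D21407 : act 2 n16203 = n21407 := rfl
theorem F41408 : act 4 n21407 = n20244 := d12_2 F38237 D21407 F38365
theorem F41409 : act 6 n21407 = n20350 := d14_2 F38232 D21407 F38619
def n21408 : Q := act 1 n16204
theorem D21408 : act 1 n16204 = n21408 := rfl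
theorem F41410 : act 5 n21408 = n16208 := d9_2 D16204 D21408 (iv D16208) (iv D12176) D12174
def n21409 : Q := act 5 n16205
theorem D21409 : act 5 n16205 = n21409 := rfl
theorem F41411 : act 0 n21409 = n16215 := d4_1 D21409 (iv D16215) (iv F34673)
theorem F41412 : act 3 n21409 = n21234 := d16_1 D21409 F41060 (iv F38233)
theorem F41413 : act 4 n21409 = n16207 := d18_1 D21409 (iv D16207) (iv F34674)
theorem F41414 : act 6 n21409 = n21231 := d20_2 D16205 D21409 (iv D21231) F27783 D16215 (iv F34683) (iv D16204)
def n21410 : Q := act 1 n16207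
theorem D21410 : act 1 n16207 = n21410 := rfl
theorem F41415 : act 3 n21410 = n16208 := d7_2 (iv F28032) D21410 (iv D16208)
def n21411 : Q := act 0 n16208
theorem D21411 : act 0 n16208 = n21411 := rfl
def n21412 : Q := act 2 n16208
theorem D21412 : act 2 n16208 = n21412 := rfl
theorem F41416 : act 1 n21412 = n16210 := d6_1 D21412 (iv D16210) (iv D12177) (iv F21469) D16208
def n21413 : Q := act 6 n16208
theorem D21413 : act 6 n16208 = n21413 := rfl
theorem F41417 : act 1 n21413 = n21234 := d10_1 D21413 (iv D21234) (iv D16074) (iv F21470) D16208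
theorem F41418 : act 5 n21413 = n20299 := d24_1 D21413 (iv D20299) (iv D15032) (iv D11547) F13941 (iv F20407) D14967 (iv F40982) (iv F38462) (iv D20287) F34685 F21365 D12176 D16208
def n21414 : Q := act 1 n16209
theorem D21414 : act 1 n16209 = n21414 := rfl
theorem F41419 : act 3 n21414 = n16380 := d7_2 (iv F28034) D21414 (iv D16380)
theorem F41420 : act 6 n21414 = n18733 := d10_2 (iv F41270) D21414 F33533 (iv F27969) D21332
theorem F41421 : act 5 n18734 = n21414 := d24_1 D18734 (iv D21414) F41270 (iv F41403) F41400 (iv F41290) (iv D21342) D21340 F41285 (iv D18737) (iv D13671) (iv D10839) D10838 D13670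
theorem F41422 : act 2 n18734 = n21414 := d14_3 F41420 (iv D18733) D18734
def n21415 : Q := act 2 n16209
theorem D21415 : act 2 n16209 = n21415 := rfl
theorem F41423 : act 0 n21415 = n16210 := d1_1 D21415 (iv D16210) D16209
def n21416 : Q := act 3 n16210
theorem D21416 : act 3 n16210 = n21416 := rfl
def n21417 : Q := act 6 n16210
theorem D21417 : act 6 n16210 = n21417 := rfl
theorem F41424 : act 2 n21417 = n16211 := d14_1 D21417 (iv D16211) D16210
def n21418 : Q := act 0 n16212
theorem D21418 : act 0 n16212 = n21418 := rfl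
theorem F41425 : act 2 n21418 = n21418 := d1_2 F28037 D21418 (iv D21418)
theorem F41426 : act 3 n21418 = n18702 := d2_2 F28364 D21418 (iv F34575)
theorem F41427 : act 1 n18700 = n21418 := d7_3 F41426 (iv D18702) (iv F33470)
def n21419 : Q := act 4 n16212
theorem D21419 : act 4 n16212 = n21419 := rfl
theorem F41428 : act 1 n21419 = n16213 := d8_1 D21419 (iv D16213) D16212
theorem F41429 : act 2 n21419 = n21419 := d12_1 D21419 (iv D21419) F28037
theorem F41430 : act 6 n16212 = n21419 := d10_0 F41428 (iv F34678) F35351 F27782 D16212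
def n21420 : Q := act 5 n16212
theorem D21420 : act 5 n16212 = n21420 := rfl
theorem F41431 : act 2 n21420 = n21420 := d13_1 D21420 (iv D21420) F28037
def n21421 : Q := act 5 n16213
theorem D21421 : act 5 n16213 = n21421 := rfl
theorem F41432 : act 2 n21421 = n16215 := d13_1 D21421 (iv D16215) (iv F28038)
theorem F41433 : act 3 n21421 = n18867 := d16_1 D21421 F33779 (iv F34681)
theorem F41434 : act 4 n21421 = n16214 := d18_1 D21421 (iv D16214) D16213
theorem F41435 : act 6 n21421 = n18798 := d22_1 D21421 (iv D18798) (iv F34677) F28394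
def n21422 : Q := act 1 n16214
theorem D21422 : act 1 n16214 = n21422 := rfl
def n21423 : Q := act 1 n16215
theorem D21423 : act 1 n16215 = n21423 := rfl
theorem F41436 : act 4 n21423 = n16216 := d8_2 (iv F28040) D21423 (iv D16216)
theorem F41437 : act 5 n21423 = n21423 := d9_2 D16215 D21423 (iv D21423) (iv D16215) F21472
def n21424 : Q := act 2 n16216
theorem D21424 : act 2 n16216 = n21424 := rfl
theorem F41438 : act 5 n21424 = n21424 := d13_2 F28042 D21424 (iv D21424)
def n21425 : Q := act 6 n16216
theorem D21425 : act 6 n16216 = n21425 := rfl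
theorem F41439 : act 3 n21425 = n16220 := d17_1 D21425 (iv D16220) (iv F28041)
def n21426 : Q := act 1 n16217
theorem D21426 : act 1 n16217 = n21426 := rfl
theorem F41440 : act 3 n21426 = n16221 := d7_2 (iv F28044) D21426 (iv D16221)
theorem F41441 : act 4 n21426 = n21408 := d8_2 (iv F34684) D21426 (iv D21408)
theorem F41442 : act 5 n21426 = n20288 := d9_2 F34660 D21426 (iv D20288) (iv D15026) D15024
def n21427 : Q := act 3 n16219
theorem D21427 : act 3 n16219 = n21427 := rfl
theorem F41443 : act 0 n21427 = n21396 := d2_1 D21427 F41382 F37352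
theorem F41444 : act 1 n21427 = n16224 := d7_1 D21427 (iv D16224) (iv F28047)
theorem F41445 : act 5 n21427 = n21427 := d16_2 F28049 D21427 (iv D21427)
def n21428 : Q := act 6 n16219
theorem D21428 : act 6 n16219 = n21428 := rfl
theorem F41446 : act 0 n21428 = n21398 := d5_1 D21428 (iv D21398) F37352
theorem F41447 : act 2 n21428 = n16220 := d14_1 D21428 (iv D16220) D16219
theorem F41448 : act 4 n21428 = n21398 := d19_1 D21428 (iv D21398) (iv F28048)
theorem F41449 : act 5 n21428 = n21398 := d22_2 F28049 D21428 (iv D21398) F37352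
def n21429 : Q := act 1 n16220
theorem D21429 : act 1 n16220 = n21429 := rfl
theorem F41450 : act 6 n21429 = n16221 := d10_2 D16220 D21429 (iv D16221) (iv D12182) D12181
def n21430 : Q := act 0 n16221
theorem D21430 : act 0 n16221 = n21430 := rfl
def n21431 : Q := act 2 n16221
theorem D21431 : act 2 n16221 = n21431 := rfl
theorem F41451 : act 1 n21431 = n16228 := d6_1 D21431 (iv D16228) (iv D12186) (iv F21476) D16221
def n21432 : Q := act 5 n16221
theorem D21432 : act 5 n16221 = n21432 := rfl
theorem F41452 : act 1 n21432 = n20287 := d9_1 D21432 (iv D20287) F34685 (iv F21477) D16221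
theorem F41453 : act 3 n21432 = n20288 := d16_1 D21432 (iv F41442) F41440
theorem F41454 : act 4 n21432 = n21413 := d18_1 D21432 F41418 F38485
theorem F41455 : act 6 n20288 = n21432 := d24_0 (iv D21432) (iv D16221) (iv D12182) (iv D10013) F7859 (iv F17736) D12106 D16074 D21234 F41060 (iv D20181) F26050 D15026 D20288
theorem F41456 : act 0 n21429 = n21426 := d22_4 F41442 F41455 (iv D21432) (iv F41450)
theorem F41457 : act 6 n21426 = n21430 := d22_3 D21432 (iv F41455) (iv F41442) (iv D21430)
theorem F41458 : act 1 n21430 = n21425 := d10_1 F41457 (iv D21425) (iv D16216) D16217 D21426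
theorem F41459 : act 3 n21430 = n21429 := d17_1 F41457 F41450 (iv F41440)
def n21433 : Q := act 0 n16222
theorem D21433 : act 0 n16222 = n21433 := rfl
theorem F41460 : act 3 n21433 = n16405 := d2_2 (iv F28050) D21433 (iv D16405)
theorem F41461 : act 4 n21433 = n21106 := d3_2 (iv F28051) D21433 F40737
theorem F41462 : act 6 n20117 = n21433 := d19_0 F41461 (iv D21106) (iv F38041)
def n21434 : Q := act 2 n16222
theorem D21434 : act 2 n16222 = n21434 := rfl
theorem F41463 : act 4 n21434 = n21391 := d12_2 (iv F28051) D21434 (iv D21391)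
def n21435 : Q := act 5 n16222
theorem D21435 : act 5 n16222 = n21435 := rfl
theorem F41464 : act 1 n21435 = n16232 := d9_1 D21435 (iv D16232) (iv D12187) (iv F21480) D16222
theorem F41465 : act 3 n21435 = n16407 := d16_1 D21435 (iv D16407) (iv F28050)
theorem F41466 : act 4 n21435 = n21382 := d18_1 D21435 F41365 (iv F28051)
def n21436 : Q := act 6 n16222
theorem D21436 : act 6 n16222 = n21436 := rfl
theorem F41467 : act 0 n21436 = n20117 := d5_1 D21436 F41462 (iv D21433)
theorem F41468 : act 3 n21436 = n16408 := d17_1 D21436 (iv D16408) (iv F28050)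
theorem F41469 : act 4 n21436 = n21104 := d19_1 D21436 (iv F40735) (iv F28051)
theorem F41470 : act 5 n21211 = n21436 := d16_0 F41468 (iv F28430) (iv F41016)
def n21437 : Q := act 1 n16223
theorem D21437 : act 1 n16223 = n21437 := rfl
theorem F41471 : act 4 n21437 = n21390 := d8_2 (iv F28053) D21437 (iv D21390)
def n21438 : Q := act 3 n16223
theorem D21438 : act 3 n16223 = n21438 := rfl
theorem F41472 : act 0 n21438 = n16224 := d2_1 D21438 (iv D16224) (iv F28052)
theorem F41473 : act 5 n21438 = n16235 := d16_2 (iv F28054) D21438 (iv D16235)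
def n21439 : Q := act 2 n16224
theorem D21439 : act 2 n16224 = n21439 := rfl
theorem F41474 : act 5 n21439 = n16238 := d13_2 (iv F28055) D21439 (iv D16238)
def n21440 : Q := act 4 n16224
theorem D21440 : act 4 n16224 = n21440 := rfl
theorem F41475 : act 3 n21440 = n21395 := d15_1 D21440 F41381 F28012 (iv F21481) D16224
theorem F41476 : act 5 n21440 = n16239 := d18_2 (iv F28055) D21440 (iv D16239)
def n21441 : Q := act 6 n16224
theorem D21441 : act 6 n16224 = n21441 := rfl
theorem F41477 : act 3 n21441 = n16225 := d17_1 D21441 (iv D16225) D16224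
def n21442 : Q := act 1 n16225
theorem D21442 : act 1 n16225 = n21442 := rfl
theorem F41478 : act 4 n21442 = n21399 := d8_2 (iv F28057) D21442 (iv D21399)
def n21443 : Q := act 0 n16226
theorem D21443 : act 0 n16226 = n21443 := rfl
theorem F41479 : act 3 n21443 = n16415 := d2_2 (iv F28058) D21443 (iv D16415)
theorem F41480 : act 4 n21443 = n21400 := d3_2 (iv F28059) D21443 (iv D21400)
theorem F41481 : act 6 n21443 = n16227 := d5_2 (iv F28060) D21443 (iv D16227)
theorem F41482 : act 1 n21205 = n21443 := d10_5 F41481 F38111 F38110 (iv F36986) (iv F41000)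
def n21444 : Q := act 2 n16226
theorem D21444 : act 2 n16226 = n21444 := rfl
theorem F41483 : act 4 n21444 = n21401 := d12_2 (iv F28059) D21444 (iv D21401)
theorem F41484 : act 6 n21444 = n16228 := d14_2 (iv F28060) D21444 (iv D16228)
def n21445 : Q := act 5 n16226
theorem D21445 : act 5 n16226 = n21445 := rfl
theorem F41485 : act 1 n21445 = n21096 := d9_1 D21445 (iv F40718) (iv D16237) F21493 D16226
theorem F41486 : act 3 n21445 = n16417 := d16_1 D21445 (iv D16417) (iv F28058)
theorem F41487 : act 4 n21445 = n21402 := d18_1 D21445 (iv D21402) (iv F28059)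
def n21446 : Q := act 2 n16227
theorem D21446 : act 2 n16227 = n21446 := rfl
theorem F41488 : act 0 n21446 = n16228 := d1_1 D21446 (iv D16228) D16227
def n21447 : Q := act 5 n16227
theorem D21447 : act 5 n16227 = n21447 := rfl
theorem F41489 : act 0 n21447 = n16229 := d4_1 D21447 (iv D16229) D16227
theorem F41490 : act 1 n21447 = n20195 := d9_1 D21447 (iv D20195) F26060 D20140 (iv F38111)
theorem F41491 : act 3 n21447 = n16419 := d16_1 D21447 (iv D16419) (iv F28061)
theorem F41492 : act 4 n21447 = n21249 := d18_1 D21447 F41080 F38487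
theorem F41493 : act 6 n21447 = n21445 := d22_1 D21447 (iv D21445) F28060 D16227
def n21448 : Q := act 3 n16228
theorem D21448 : act 3 n16228 = n21448 := rfl
def n21449 : Q := act 5 n16228
theorem D21449 : act 5 n16228 = n21449 := rfl
theorem F41494 : act 2 n21449 = n16229 := d13_1 D21449 (iv D16229) D16228
def n21450 : Q := act 6 n16229
theorem D21450 : act 6 n16229 = n21450 := rfl
theorem F41495 : act 0 n21450 = n21445 := d5_1 D21450 (iv F41493) F41489
theorem F41496 : act 1 n21450 = n21381 := d10_1 D21450 F41363 (iv F41350) (iv D21228) (iv F28062)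
theorem F41497 : act 3 n21450 = n16422 := d17_1 D21450 (iv D16422) (iv F28063)
theorem F41498 : act 5 n21450 = n21443 := d20_1 D21450 F41481 D21447 F41493 (iv D21445) F28060 D16229
def n21451 : Q := act 6 n16232
theorem D21451 : act 6 n16232 = n21451 := rfl
theorem F41499 : act 0 n21451 = n21150 := d5_1 D21451 F40865 (iv F37361)
theorem F41500 : act 2 n21451 = n18789 := d14_1 D21451 (iv F33638) F37360
theorem F41501 : act 3 n21451 = n16430 := d17_1 D21451 (iv D16430) (iv F28068)
theorem F41502 : act 4 n21451 = n21160 := d19_1 D21451 (iv F40888) (iv F28069)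
theorem F41503 : act 5 n21451 = n18788 := d20_1 D21451 F33631 D18795 (iv F40865) (iv F40867) (iv D16233) D16232
theorem F41504 : act 1 n20143 = n21451 := d24_14 (iv D21451) (iv D16232) (iv D12187) D12189 F21493 D16226 F28060 D16229 F28062 D21228 F41042 F36989 (iv F35289) D20143
def n21452 : Q := act 1 n16233
theorem D21452 : act 1 n16233 = n21452 := rfl
theorem F41505 : act 3 n21452 = n16431 := d7_2 (iv F28070) D21452 (iv D16431)
theorem F41506 : act 4 n21452 = n21367 := d8_2 (iv F28071) D21452 F41341
theorem F41507 : act 5 n21452 = n21095 := d9_2 (iv F40867) D21452 (iv D21095) (iv F27652) D21150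
theorem F41508 : act 6 n21452 = n16237 := d10_2 D16233 D21452 (iv D16237) (iv D12189) D12187
def n21453 : Q := act 0 n16234
theorem D21453 : act 0 n16234 = n21453 := rfl
theorem F41509 : act 4 n21453 = n21384 := d3_2 (iv F28072) D21453 (iv D21384)
def n21454 : Q := act 3 n16234
theorem D21454 : act 3 n16234 = n21454 := rfl
theorem F41510 : act 1 n21454 = n16235 := d7_1 D21454 (iv D16235) D16234
def n21455 : Q := act 5 n16234
theorem D21455 : act 5 n16234 = n21455 := rfl
theorem F41511 : act 4 n21455 = n21386 := d18_1 D21455 (iv D21386) (iv F28072)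
def n21456 : Q := act 6 n16234
theorem D21456 : act 6 n16234 = n21456 := rfl
theorem F41512 : act 4 n21456 = n21387 := d19_1 D21456 (iv D21387) (iv F28072)
def n21457 : Q := act 4 n16235
theorem D21457 : act 4 n16235 = n21457 := rfl
theorem F41513 : act 0 n21457 = n16239 := d3_1 D21457 (iv D16239) (iv F28073)
theorem F41514 : act 3 n21457 = n21388 := d15_1 D21457 (iv D21388) (iv D16190) (iv F21489) D16235
def n21458 : Q := act 6 n16235
theorem D21458 : act 6 n16235 = n21458 := rfl
theorem F41515 : act 0 n21458 = n16240 := d5_1 D21458 (iv D16240) (iv F28073)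
theorem F41516 : act 3 n21458 = n16236 := d17_1 D21458 (iv D16236) D16235
theorem F41517 : act 5 n21458 = n21441 := d22_2 F41473 D21458 (iv D21441) (iv F41472)
def n21459 : Q := act 1 n16236
theorem D21459 : act 1 n16236 = n21459 := rfl
theorem F41518 : act 4 n21459 = n21368 := d8_2 (iv F28076) D21459 (iv D21368)
def n21460 : Q := act 2 n16237
theorem D21460 : act 2 n16237 = n21460 := rfl
theorem F41519 : act 4 n21460 = n21365 := d12_2 (iv F28079) D21460 (iv D21365)
def n21461 : Q := act 1 n16238
theorem D21461 : act 1 n16238 = n21461 := rfl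
theorem F41520 : act 2 n21461 = n21461 := d6_2 D16238 D21461 (iv D21461) (iv D16238) F21494
def n21462 : Q := act 4 n16238
theorem D21462 : act 4 n16238 = n21462 := rfl
theorem F41521 : act 2 n21462 = n16239 := d12_1 D21462 (iv D16239) D16238
def n21463 : Q := act 6 n16238
theorem D21463 : act 6 n16238 = n21463 := rfl
theorem F41522 : act 2 n21463 = n16240 := d14_1 D21463 (iv D16240) D16238
def n21464 : Q := act 6 n16239
theorem D21464 : act 6 n16239 = n21464 := rfl
theorem F41523 : act 3 n21464 = n21371 := d17_1 D21464 F41346 (iv F28081)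
theorem F41524 : act 4 n21464 = n16240 := d19_1 D21464 (iv D16240) D16239
def n21465 : Q := act 1 n16240
theorem D21465 : act 1 n16240 = n21465 := rfl
theorem F41525 : act 3 n21465 = n16241 := d7_2 (iv F28082) D21465 (iv D16241)
theorem F41526 : act 6 n21465 = n21465 := d10_2 D16240 D21465 (iv D21465) (iv D16240) F21494
theorem F41527 : act 0 n21358 = n21465 := d2_3 F41525 F41327 D21358
def n21466 : Q := act 5 n16240
theorem D21466 : act 5 n16240 = n21466 := rfl
theorem F41528 : act 0 n21466 = n21441 := d4_1 D21466 (iv F41517) F41515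
theorem F41529 : act 3 n21466 = n16242 := d16_1 D21466 (iv D16242) (iv F28082)
theorem F41530 : act 6 n21466 = n21438 := d20_2 D16240 D21466 F41473 D21458 F41517 (iv D21441) F28055
def n21467 : Q := act 5 n16241
theorem D21467 : act 5 n16241 = n21467 := rfl
theorem F41531 : act 0 n21467 = n21359 := d4_1 D21467 (iv D21359) (iv F41327)
theorem F41532 : act 2 n21467 = n20279 := d13_1 D21467 (iv D20279) (iv F28083)
theorem F41533 : act 4 n21467 = n21359 := d18_1 D21467 (iv D21359) (iv F28084)
theorem F41534 : act 6 n21467 = n21359 := d22_1 D21467 (iv D21359) F27992 (iv F41327)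
def n21468 : Q := act 1 n16242
theorem D21468 : act 1 n16242 = n21468 := rfl
theorem F41535 : act 4 n21468 = n21373 := d8_2 (iv F28088) D21468 (iv D21373)
def n21469 : Q := act 0 n16243
theorem D21469 : act 0 n16243 = n21469 := rfl
theorem F41536 : act 3 n21469 = n16448 := d2_2 (iv F28090) D21469 (iv D16448)
theorem F41537 : act 4 n21469 = n21374 := d3_2 (iv F28091) D21469 (iv D21374)
theorem F41538 : act 5 n21469 = n20281 := d4_2 (iv F28092) D21469 (iv D20281)
def n21470 : Q := act 2 n16243
theorem D21470 : act 2 n16243 = n21470 := rfl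
theorem F41539 : act 4 n21470 = n21375 := d12_2 (iv F28091) D21470 (iv D21375)
theorem F41540 : act 5 n21470 = n20282 := d13_2 (iv F28092) D21470 (iv D20282)
def n21471 : Q := act 6 n16243
theorem D21471 : act 6 n16243 = n21471 := rfl
theorem F41541 : act 1 n21471 = n21436 := d10_1 D21471 (iv D21436) (iv D16222) (iv F21500) D16243
theorem F41542 : act 3 n21471 = n16450 := d17_1 D21471 (iv D16450) (iv F28090)
theorem F41543 : act 4 n21471 = n21376 := d19_1 D21471 (iv D21376) (iv F28091)
theorem F41544 : act 5 n21471 = n21225 := d22_2 (iv F28092) D21471 F41035 (iv D20281)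
def n21472 : Q := act 2 n16244
theorem D21472 : act 2 n16244 = n21472 := rfl
theorem F41545 : act 0 n21472 = n20108 := d1_1 D21472 (iv D20108) (iv F28093)
theorem F41546 : act 1 n21472 = n20203 := d6_1 D21472 (iv F38289) F38288 F26189 D16244
theorem F41547 : act 4 n21472 = n16779 := d12_2 (iv F28094) D21472 (iv D16779)
theorem F41548 : act 5 n21472 = n21071 := d13_2 (iv F28095) D21472 (iv D21071)
def n21473 : Q := act 6 n16246
theorem D21473 : act 6 n16246 = n21473 := rfl
theorem F41549 : act 2 n21473 = n18405 := d14_1 D21473 (iv D18405) (iv F28099)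
theorem F41550 : act 3 n21473 = n16248 := d17_1 D21473 (iv D16248) D16246
def n21474 : Q := act 1 n16248
theorem D21474 : act 1 n16248 = n21474 := rfl
theorem F41551 : act 4 n21474 = n16781 := d8_2 (iv F28106) D21474 (iv D16781)
theorem F41552 : act 6 n21474 = n16254 := d10_2 D16248 D21474 (iv D16254) (iv D12198) D12195
def n21475 : Q := act 5 n16248
theorem D21475 : act 5 n16248 = n21475 := rfl
theorem F41553 : act 0 n21475 = n19243 := d4_1 D21475 (iv F38662) F38659
theorem F41554 : act 2 n21475 = n16268 := d13_1 D21475 (iv D16268) (iv F28105)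
theorem F41555 : act 4 n21475 = n16782 := d18_1 D21475 (iv D16782) (iv F28106)
theorem F41556 : act 6 n21475 = n19241 := d20_2 D16248 D21475 F35882 D20372 F38662 (iv D19243) F29002
theorem F41557 : act 1 n21109 = n21475 := d8_3 F41555 (iv F29603) (iv F40744)
def n21476 : Q := act 6 n16249
theorem D21476 : act 6 n16249 = n21476 := rfl
theorem F41558 : act 2 n21476 = n18831 := d14_1 D21476 (iv D18831) (iv F28107)
theorem F41559 : act 3 n21476 = n16783 := d17_1 D21476 (iv D16783) (iv F28108)
theorem F41560 : act 4 n21476 = n16251 := d19_1 D21476 (iv D16251) D16249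
def n21477 : Q := act 6 n16250
theorem D21477 : act 6 n16250 = n21477 := rfl
theorem F41561 : act 2 n21477 = n18754 := d14_1 D21477 (iv D18754) (iv F28109)
theorem F41562 : act 3 n21477 = n16253 := d17_1 D21477 (iv D16253) (iv F28110)
theorem F41563 : act 4 n21477 = n18986 := d19_1 D21477 (iv D18986) (iv F29018)
theorem F41564 : act 5 n21477 = n20305 := d22_2 D16250 D21477 (iv D20305) F26185
def n21478 : Q := act 1 n16251
theorem D21478 : act 1 n16251 = n21478 := rfl
theorem F41565 : act 3 n21478 = n16254 := d7_2 (iv F28112) D21478 (iv D16254)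
def n21479 : Q := act 5 n16251
theorem D21479 : act 5 n16251 = n21479 := rfl
theorem F41566 : act 0 n21479 = n21477 := d4_1 D21479 F41564 F38502
theorem F41567 : act 2 n21479 = n18833 := d13_1 D21479 (iv D18833) (iv F28111)
theorem F41568 : act 3 n21479 = n16255 := d16_1 D21479 (iv D16255) (iv F28112)
theorem F41569 : act 6 n21479 = n20304 := d20_2 D16251 D21479 (iv D20304) D20305 (iv F41564) (iv D21477) (iv D16250)
def n21480 : Q := act 1 n16253
theorem D21480 : act 1 n16253 = n21480 := rfl
theorem F41570 : act 4 n21480 = n16786 := d8_2 (iv F28115) D21480 (iv D16786)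
theorem F41571 : act 6 n21480 = n19256 := d10_2 D16253 D21480 (iv D19256) F24513 F28985
def n21481 : Q := act 0 n16254
theorem D21481 : act 0 n16254 = n21481 := rfl
theorem F41572 : act 4 n21481 = n16787 := d3_2 (iv F28117) D21481 (iv D16787)
def n21482 : Q := act 2 n16254
theorem D21482 : act 2 n16254 = n21482 := rfl
theorem F41573 : act 1 n21482 = n16258 := d6_1 D21482 (iv D16258) (iv D12200) (iv F21509) D16254
theorem F41574 : act 4 n21482 = n16788 := d12_2 (iv F28117) D21482 (iv D16788)
def n21483 : Q := act 5 n16254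
theorem D21483 : act 5 n16254 = n21483 := rfl
theorem F41575 : act 4 n21483 = n16789 := d18_1 D21483 (iv D16789) (iv F28117)
def n21484 : Q := act 1 n16255
theorem D21484 : act 1 n16255 = n21484 := rfl
theorem F41576 : act 4 n21484 = n16790 := d8_2 (iv F28120) D21484 (iv D16790)
def n21485 : Q := act 2 n16256
theorem D21485 : act 2 n16256 = n21485 := rfl
theorem F41577 : act 0 n21485 = n20233 := d1_1 D21485 F38339 F28124
theorem F41578 : act 4 n21485 = n16791 := d12_2 (iv F28122) D21485 (iv D16791)
theorem F41579 : act 5 n21485 = n20230 := d13_2 (iv F28123) D21485 (iv D20230)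
def n21486 : Q := act 2 n16257
theorem D21486 : act 2 n16257 = n21486 := rfl
theorem F41580 : act 0 n21486 = n16258 := d1_1 D21486 (iv D16258) D16257
theorem F41581 : act 4 n21486 = n16792 := d12_2 (iv F28125) D21486 (iv D16792)
theorem F41582 : act 5 n21486 = n20256 := d13_2 (iv F28127) D21486 (iv D20256)
theorem F41583 : act 6 n21486 = n16278 := d14_2 (iv F28126) D21486 (iv D16278)
def n21487 : Q := act 3 n16258
theorem D21487 : act 3 n16258 = n21487 := rfl
theorem F41584 : act 6 n21487 = n16280 := d17_2 (iv F28129) D21487 (iv D16280)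
def n21488 : Q := act 5 n16258
theorem D21488 : act 5 n16258 = n21488 := rfl
theorem F41585 : act 0 n21488 = n20256 := d4_1 D21488 (iv F41582) F41580
theorem F41586 : act 2 n21488 = n16259 := d13_1 D21488 (iv D16259) D16258
theorem F41587 : act 4 n21488 = n16794 := d18_1 D21488 (iv D16794) (iv F28128)
def n21489 : Q := act 2 n16260
theorem D21489 : act 2 n16260 = n21489 := rfl
theorem F41588 : act 0 n21489 = n16383 := d1_1 D21489 F28386 (iv F28132)
theorem F41589 : act 4 n21489 = n16795 := d12_2 (iv F28133) D21489 (iv D16795)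
theorem F41590 : act 6 n21489 = n16381 := d14_2 F28134 D21489 (iv D16381)
def n21490 : Q := act 1 n16262
theorem D21490 : act 1 n16262 = n21490 := rfl
theorem F41591 : act 4 n21490 = n16800 := d8_2 (iv F28138) D21490 (iv D16800)
theorem F41592 : act 6 n21490 = n21490 := d10_2 D16262 D21490 (iv D21490) (iv D16262) F21518
def n21491 : Q := act 6 n16263
theorem D21491 : act 6 n16263 = n21491 := rfl
theorem F41593 : act 3 n21491 = n16807 := d17_1 D21491 (iv D16807) (iv F28140)
theorem F41594 : act 4 n21491 = n16265 := d19_1 D21491 (iv D16265) D16263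
def n21492 : Q := act 6 n16264
theorem D21492 : act 6 n16264 = n21492 := rfl
theorem F41595 : act 2 n21492 = n18387 := d14_1 D21492 F32263 (iv F32198)
theorem F41596 : act 3 n21492 = n16266 := d17_1 D21492 (iv D16266) (iv F28141)
theorem F41597 : act 5 n21492 = n18385 := d22_2 D16264 D21492 (iv D18385) (iv F28101)
def n21493 : Q := act 1 n16265
theorem D21493 : act 1 n16265 = n21493 := rfl
theorem F41598 : act 3 n21493 = n16267 := d7_2 (iv F28142) D21493 (iv D16267)
theorem F41599 : act 6 n21493 = n16273 := d10_2 D16265 D21493 (iv D16273) (iv D12208) (iv F21520)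
def n21494 : Q := act 5 n16265
theorem D21494 : act 5 n16265 = n21494 := rfl
theorem F41600 : act 0 n21494 = n21492 := d4_1 D21494 F41597 F32255
theorem F41601 : act 2 n21494 = n18361 := d13_1 D21494 (iv F32254) F32252
theorem F41602 : act 3 n21494 = n16268 := d16_1 D21494 (iv D16268) (iv F28142)
theorem F41603 : act 6 n21494 = n18360 := d20_2 D16265 D21494 F32200 D18385 (iv F41597) (iv D21492) (iv D16264)
theorem F41604 : act 1 n21108 = n21494 := d10_5 F41603 (iv F40649) (iv F40668) F40665 D21108
def n21495 : Q := act 1 n16266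
theorem D21495 : act 1 n16266 = n21495 := rfl
theorem F41605 : act 4 n21495 = n16811 := d8_2 (iv F28143) D21495 (iv D16811)
def n21496 : Q := act 0 n16267
theorem D21496 : act 0 n16267 = n21496 := rfl
theorem F41606 : act 4 n21496 = n16812 := d3_2 (iv F28145) D21496 (iv D16812)
theorem F41607 : act 6 n21496 = n16274 := d5_2 (iv F28146) D21496 (iv D16274)
def n21497 : Q := act 2 n16267
theorem D21497 : act 2 n16267 = n21497 := rfl
theorem F41608 : act 4 n21497 = n16813 := d12_2 (iv F28145) D21497 (iv D16813)
theorem F41609 : act 6 n21497 = n16275 := d14_2 (iv F28146) D21497 (iv D16275)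
def n21498 : Q := act 5 n16269
theorem D21498 : act 5 n16269 = n21498 := rfl
theorem F41610 : act 0 n21498 = n20772 := d4_1 D21498 (iv F39455) F33488
theorem F41611 : act 1 n21498 = n18813 := d9_1 D21498 (iv D18813) (iv F27824) F27811 D16269
theorem F41612 : act 2 n21498 = n20769 := d13_1 D21498 F39445 F32248
theorem F41613 : act 3 n21498 = n21346 := d16_1 D21498 (iv F41297) (iv F28150)
theorem F41614 : act 4 n21498 = n19106 := d18_1 D21498 F35597 F34081
def n21499 : Q := act 6 n16269
theorem D21499 : act 6 n16269 = n21499 := rfl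
theorem F41615 : act 3 n21499 = n21347 := d17_1 D21499 (iv D21347) (iv F28150)
def n21500 : Q := act 1 n16271
theorem D21500 : act 1 n16271 = n21500 := rfl
theorem F41616 : act 3 n21500 = n21349 := d7_2 (iv F28157) D21500 (iv D21349)
def n21501 : Q := act 1 n16272
theorem D21501 : act 1 n16272 = n21501 := rfl
theorem F41617 : act 3 n21501 = n16816 := d7_2 (iv F28160) D21501 (iv D16816)
theorem F41618 : act 4 n21501 = n16273 := d8_2 (iv F28161) D21501 (iv D16273)
def n21502 : Q := act 0 n16273
theorem D21502 : act 0 n16273 = n21502 := rfl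
theorem F41619 : act 3 n21502 = n16274 := d2_2 (iv F28163) D21502 (iv D16274)
def n21503 : Q := act 2 n16273
theorem D21503 : act 2 n16273 = n21503 := rfl
def n21504 : Q := act 5 n16273
theorem D21504 : act 5 n16273 = n21504 := rfl
theorem F41620 : act 1 n21504 = n21260 := d9_1 D21504 (iv D21260) (iv D16096) (iv F21529) D16273
theorem F41621 : act 3 n21504 = n16276 := d16_1 D21504 (iv D16276) (iv F28163)
def n21505 : Q := act 1 n16274
theorem D21505 : act 1 n16274 = n21505 := rfl
theorem F41622 : act 4 n21505 = n16820 := d8_2 (iv F28164) D21505 (iv D16820)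
def n21506 : Q := act 2 n16274
theorem D21506 : act 2 n16274 = n21506 := rfl
theorem F41623 : act 0 n21506 = n16275 := d1_1 D21506 (iv D16275) D16274
theorem F41624 : act 4 n21506 = n16821 := d12_2 (iv F28164) D21506 (iv D16821)
def n21507 : Q := act 5 n16274
theorem D21507 : act 5 n16274 = n21507 := rfl
theorem F41625 : act 0 n21507 = n16276 := d4_1 D21507 (iv D16276) D16274
theorem F41626 : act 4 n21507 = n16822 := d18_1 D21507 (iv D16822) (iv F28164)
theorem F41627 : act 6 n21507 = n21169 := d22_1 D21507 F40902 F28146 D16274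
theorem F41628 : act 1 n21166 = n21507 := d10_5 F41627 (iv D21169) (iv D16007) D16005 D21166
def n21508 : Q := act 3 n16275
theorem D21508 : act 3 n16275 = n21508 := rfl
theorem F41629 : act 1 n21508 = n16280 := d7_1 D21508 (iv D16280) (iv F28165)
def n21509 : Q := act 5 n16275
theorem D21509 : act 5 n16275 = n21509 := rfl
theorem F41630 : act 2 n21509 = n16276 := d13_1 D21509 (iv D16276) D16275
theorem F41631 : act 4 n21509 = n16824 := d18_1 D21509 (iv D16824) (iv F28166)
def n21510 : Q := act 6 n16276
theorem D21510 : act 6 n16276 = n21510 := rfl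
theorem F41632 : act 0 n21510 = n21169 := d5_1 D21510 (iv F41627) F41625
theorem F41633 : act 4 n21510 = n16825 := d19_1 D21510 (iv D16825) (iv F28168)
theorem F41634 : act 5 n21510 = n21496 := d20_1 D21510 F41607 D21507 F41627 F40902 F28146 D16276
theorem F41635 : act 1 n16299 = n21510 := d8_3 F41633 (iv F29678) (iv F28216)
def n21511 : Q := act 2 n16277
theorem D21511 : act 2 n16277 = n21511 := rfl
theorem F41636 : act 4 n21511 = n16826 := d12_2 (iv F28169) D21511 (iv D16826)
theorem F41637 : act 6 n21511 = n21076 := d14_2 F28170 D21511 F40646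
def n21512 : Q := act 1 n16278
theorem D21512 : act 1 n16278 = n21512 := rfl
theorem F41638 : act 4 n21512 = n16827 := d8_2 (iv F28172) D21512 (iv D16827)
def n21513 : Q := act 3 n16278
theorem D21513 : act 3 n16278 = n21513 := rfl
theorem F41639 : act 0 n21513 = n16280 := d2_1 D21513 (iv D16280) (iv F28171)
def n21514 : Q := act 5 n16278
theorem D21514 : act 5 n16278 = n21514 := rfl
theorem F41640 : act 0 n21514 = n16281 := d4_1 D21514 (iv D16281) (iv F28171)
theorem F41641 : act 2 n21514 = n16279 := d13_1 D21514 (iv D16279) D16278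
theorem F41642 : act 4 n21514 = n16829 := d18_1 D21514 (iv D16829) (iv F28172)
theorem F41643 : act 6 n21514 = n21488 := d20_2 F41583 D21514 (iv D21488) F28129 D16281 (iv F38387) (iv F41582)
def n21515 : Q := act 2 n16280
theorem D21515 : act 2 n16280 = n21515 := rfl
def n21516 : Q := act 4 n16280
theorem D21516 : act 4 n16280 = n21516 := rfl
theorem F41644 : act 3 n21516 = n16831 := d15_1 D21516 (iv D16831) (iv D12532) (iv F21532) D16280
def n21517 : Q := act 5 n16280
theorem D21517 : act 5 n16280 = n21517 := rfl
theorem F41645 : act 3 n21517 = n16281 := d16_1 D21517 (iv D16281) D16280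
def n21518 : Q := act 1 n16281
theorem D21518 : act 1 n16281 = n21518 := rfl
theorem F41646 : act 2 n21518 = n21270 := d6_2 (iv F28177) D21518 (iv D21270) F27854 (iv F21533)
theorem F41647 : act 4 n21518 = n16833 := d8_2 (iv F28178) D21518 (iv D16833)
def n21519 : Q := act 3 n16282
theorem D21519 : act 3 n16282 = n21519 := rfl
theorem F41648 : act 0 n21519 = n16283 := d2_1 D21519 (iv D16283) D16282
theorem F41649 : act 2 n21519 = n20449 := d21_2 (iv F28179) D21519 (iv D20449) (iv D15132) (iv D11597) (iv F17215) (iv F17881) D12296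
def n21520 : Q := act 5 n16282
theorem D21520 : act 5 n16282 = n21520 := rfl
theorem F41650 : act 0 n21520 = n16285 := d4_1 D21520 (iv D16285) D16282
theorem F41651 : act 2 n21520 = n16453 := d13_1 D21520 (iv D16453) (iv F28179)
theorem F41652 : act 4 n21520 = n18240 := d18_1 D21520 F34088 F34087
def n21521 : Q := act 6 n16282
theorem D21521 : act 6 n16282 = n21521 := rfl
theorem F41653 : act 0 n21521 = n16286 := d5_1 D21521 (iv D16286) D16282
theorem F41654 : act 2 n21521 = n16294 := d14_1 D21521 F28210 (iv F28179)
def n21522 : Q := act 2 n16283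
theorem D21522 : act 2 n16283 = n21522 := rfl
theorem F41655 : act 0 n21522 = n20449 := d1_1 D21522 (iv F41649) F41648
theorem F41656 : act 1 n21522 = n21333 := d6_1 D21522 (iv D21333) F27970 (iv F21537) (iv F28180)
theorem F41657 : act 3 n21522 = n20443 := d11_2 D16283 D21522 (iv D20443) (iv D15129) F20551 (iv F21678) (iv F28179) D21519 F41649 (iv D20449) (iv D15132) (iv D11597) (iv F17215) (iv F17881) (iv F21535)
def n21523 : Q := act 4 n16283
theorem D21523 : act 4 n16283 = n21523 := rfl
theorem F41658 : act 1 n21523 = n16287 := d8_1 D21523 (iv D16287) (iv F28180)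
theorem F41659 : act 3 n21523 = n18750 := d15_1 D21523 F33567 F28183 (iv D16284) D16283
theorem F41660 : act 5 n18738 = n21523 := d16_0 F41659 (iv D18750) (iv F33549)
def n21524 : Q := act 5 n16283
theorem D21524 : act 5 n16283 = n21524 := rfl
theorem F41661 : act 1 n21524 = n18192 := d9_1 D21524 F31817 F27820 F27819 (iv F28180)
theorem F41662 : act 3 n21524 = n16285 := d16_1 D21524 (iv D16285) D16283
theorem F41663 : act 4 n21524 = n18738 := d18_1 D21524 F41660 (iv D21523)
def n21525 : Q := act 6 n16283
theorem D21525 : act 6 n16283 = n21525 := rfl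
theorem F41664 : act 3 n21525 = n16286 := d17_1 D21525 (iv D16286) D16283
def n21526 : Q := act 6 n16284
theorem D21526 : act 6 n16284 = n21526 := rfl
theorem F41665 : act 1 n21526 = n19081 := d10_1 D21526 F35550 F35542 (iv D16289) (iv F28181)
theorem F41666 : act 2 n21526 = n16292 := d14_1 D21526 F28204 (iv F28182)
theorem F41667 : act 3 n21526 = n19057 := d17_1 D21526 (iv D19057) F28183
theorem F41668 : act 4 n21526 = n16286 := d19_1 D21526 (iv D16286) D16284
theorem F41669 : act 5 n21526 = n19187 := d22_2 F28184 D21526 F35773 (iv D18240)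
def n21527 : Q := act 6 n16285
theorem D21527 : act 6 n16285 = n21527 := rfl
theorem F41670 : act 2 n21527 = n16455 := d14_1 D21527 (iv D16455) (iv F28186)
theorem F41671 : act 4 n21527 = n18241 := d19_1 D21527 (iv D18241) (iv F28187)
theorem F41672 : act 5 n21527 = n21521 := d22_2 D16285 D21527 (iv D21521) (iv D16282)
def n21528 : Q := act 1 n16286
theorem D21528 : act 1 n16286 = n21528 := rfl
theorem F41673 : act 2 n21528 = n16290 := d6_2 (iv F28188) D21528 (iv D16290) F21543 D12218
theorem F41674 : act 4 n21528 = n19081 := d8_2 F41668 D21528 (iv F41665)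
theorem F41675 : act 6 n21528 = n16290 := d10_2 D16286 D21528 (iv D16290) (iv D12216) D12213
theorem F41676 : act 5 n18768 = n21528 := d24_1 D18768 (iv D21528) (iv D16286) D16285 F28185 (iv F23466) (iv D13329) (iv F19319) (iv D10879) (iv F19312) (iv D10875) D10876 F19315 D13688
def n21529 : Q := act 5 n16286
theorem D21529 : act 5 n16286 = n21529 := rfl
theorem F41677 : act 0 n21529 = n21527 := d4_1 D21529 F41672 F41653
theorem F41678 : act 1 n21529 = n18868 := d9_1 D21529 (iv D18868) (iv F33595) F41676 (iv D21528)
theorem F41679 : act 2 n21529 = n16295 := d13_1 D21529 (iv D16295) (iv F28188)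
theorem F41680 : act 4 n21529 = n19187 := d18_1 D21529 (iv F41669) F41668
theorem F41681 : act 6 n21529 = n21520 := d20_2 D16286 D21529 (iv D21520) D21521 (iv F41672) (iv D21527) (iv D16285)
def n21530 : Q := act 6 n16287
theorem D21530 : act 6 n16287 = n21530 := rfl
theorem F41682 : act 0 n21530 = n21348 := d5_1 D21530 (iv D21348) (iv F28189)
theorem F41683 : act 2 n21530 = n21334 := d14_1 D21530 (iv D21334) (iv F28190)
theorem F41684 : act 3 n21530 = n18819 := d17_1 D21530 (iv D18819) (iv F28191)
theorem F41685 : act 4 n21530 = n16288 := d19_1 D21530 (iv D16288) D16287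
def n21531 : Q := act 1 n16288
theorem D21531 : act 1 n16288 = n21531 := rfl
theorem F41686 : act 3 n21531 = n16290 := d7_2 (iv F28195) D21531 (iv D16290)
def n21532 : Q := act 1 n16291
theorem D21532 : act 1 n16291 = n21532 := rfl
def n21533 : Q := act 0 n16292
theorem D21533 : act 0 n16292 = n21533 := rfl
theorem F41687 : act 3 n21533 = n16844 := d2_2 (iv F28202) D21533 (iv D16844)
theorem F41688 : act 4 n21533 = n16294 := d3_2 (iv F28203) D21533 (iv D16294)
theorem F41689 : act 6 n21533 = n16452 := d5_2 (iv F28204) D21533 F28512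
def n21534 : Q := act 5 n16292
theorem D21534 : act 5 n16292 = n21534 := rfl
theorem F41690 : act 2 n21534 = n19187 := d13_1 D21534 (iv F41669) F41666
theorem F41691 : act 3 n21534 = n16846 := d16_1 D21534 (iv D16846) (iv F28202)
theorem F41692 : act 4 n21534 = n16295 := d18_1 D21534 (iv D16295) (iv F28203)
def n21535 : Q := act 1 n16293
theorem D21535 : act 1 n16293 = n21535 := rfl
theorem F41693 : act 3 n21535 = n16847 := d7_2 (iv F28206) D21535 (iv D16847)
theorem F41694 : act 4 n21535 = n16296 := d8_2 (iv F28207) D21535 (iv D16296)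
def n21536 : Q := act 1 n16294
theorem D21536 : act 1 n16294 = n21536 := rfl
theorem F41695 : act 3 n21536 = n16297 := d7_2 (iv F28209) D21536 (iv D16297)
def n21537 : Q := act 1 n16295
theorem D21537 : act 1 n16295 = n21537 := rfl
theorem F41696 : act 3 n21537 = n16298 := d7_2 (iv F28211) D21537 (iv D16298)
theorem F41697 : act 5 n21537 = n16296 := d9_2 D16295 D21537 (iv D16296) (iv D12219) D12218
def n21538 : Q := act 0 n16296
theorem D21538 : act 0 n16296 = n21538 := rfl
theorem F41698 : act 3 n21538 = n16299 := d2_2 (iv F28212) D21538 (iv D16299)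
def n21539 : Q := act 2 n16296
theorem D21539 : act 2 n16296 = n21539 := rfl
def n21540 : Q := act 6 n16296
theorem D21540 : act 6 n16296 = n21540 := rfl
theorem F41699 : act 1 n21540 = n21253 := d10_1 D21540 (iv D21253) F27806 (iv F21550) D16296
theorem F41700 : act 3 n21540 = n16301 := d17_1 D21540 (iv D16301) (iv F28212)
def n21541 : Q := act 0 n16297
theorem D21541 : act 0 n16297 = n21541 := rfl
theorem F41701 : act 4 n21541 = n16853 := d3_2 (iv F28213) D21541 (iv D16853)
def n21542 : Q := act 2 n16297
theorem D21542 : act 2 n16297 = n21542 := rfl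
theorem F41702 : act 4 n21542 = n16854 := d12_2 (iv F28213) D21542 (iv D16854)
theorem F41703 : act 6 n18657 = n21542 := d19_0 F41702 F34916 (iv F33382)
def n21543 : Q := act 5 n16297
theorem D21543 : act 5 n16297 = n21543 := rfl
theorem F41704 : act 4 n21543 = n16855 := d18_1 D21543 (iv D16855) (iv F28213)
def n21544 : Q := act 6 n16297
theorem D21544 : act 6 n16297 = n21544 := rfl
theorem F41705 : act 1 n21544 = n16458 := d10_1 D21544 (iv D16458) (iv D12299) (iv F21552) D16297
theorem F41706 : act 2 n21544 = n18657 := d14_1 D21544 F41703 (iv D21542)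
theorem F41707 : act 4 n21544 = n16856 := d19_1 D21544 (iv D16856) (iv F28213)
def n21545 : Q := act 0 n16298
theorem D21545 : act 0 n16298 = n21545 := rfl
theorem F41708 : act 4 n21545 = n16862 := d3_2 (iv F28214) D21545 (iv D16862)
theorem F41709 : act 5 n21545 = n16299 := d4_2 (iv F28215) D21545 (iv D16299)
def n21546 : Q := act 2 n16298
theorem D21546 : act 2 n16298 = n21546 := rfl
theorem F41710 : act 4 n21546 = n16863 := d12_2 (iv F28214) D21546 (iv D16863)
theorem F41711 : act 5 n21546 = n16300 := d13_2 (iv F28215) D21546 (iv D16300)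
def n21547 : Q := act 2 n16299
theorem D21547 : act 2 n16299 = n21547 := rfl
theorem F41712 : act 0 n21547 = n16300 := d1_1 D21547 (iv D16300) D16299
theorem F41713 : act 4 n21547 = n16864 := d12_2 (iv F28216) D21547 (iv D16864)
theorem F41714 : act 1 n17392 = n21547 := d8_3 F41713 F39565 D17392
def n21548 : Q := act 6 n16299
theorem D21548 : act 6 n16299 = n21548 := rfl
theorem F41715 : act 0 n21548 = n16301 := d5_1 D21548 (iv D16301) D16299
theorem F41716 : act 1 n21548 = n21176 := d10_1 D21548 F40920 (iv F28167) D21510 (iv F41635)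
theorem F41717 : act 4 n21548 = n16865 := d19_1 D21548 (iv D16865) (iv F28216)
theorem F41718 : act 5 n21548 = n21177 := d22_2 F41709 D21548 F40922 D21545
def n21549 : Q := act 3 n16300
theorem D21549 : act 3 n16300 = n21549 := rfl
theorem F41719 : act 1 n21549 = n16317 := d7_1 D21549 (iv D16317) (iv F28217)
def n21550 : Q := act 6 n16300
theorem D21550 : act 6 n16300 = n21550 := rfl
theorem F41720 : act 2 n21550 = n16301 := d14_1 D21550 (iv D16301) D16300
theorem F41721 : act 4 n21550 = n16867 := d19_1 D21550 (iv D16867) (iv F28218)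
def n21551 : Q := act 5 n16301
theorem D21551 : act 5 n16301 = n21551 := rfl
theorem F41722 : act 0 n21551 = n21177 := d4_1 D21551 (iv F41718) F41715
theorem F41723 : act 4 n21551 = n16868 := d18_1 D21551 (iv D16868) (iv F28220)
theorem F41724 : act 6 n21551 = n21545 := d20_2 D16301 D21551 F41709 D21548 F41718 F40922 F28215
def n21552 : Q := act 2 n16302
theorem D21552 : act 2 n16302 = n21552 := rfl
theorem F41725 : act 0 n21552 = n16303 := d1_1 D21552 (iv D16303) D16302
theorem F41726 : act 4 n21552 = n16869 := d12_2 (iv F28221) D21552 (iv D16869)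
theorem F41727 : act 5 n21552 = n20119 := d13_2 F28222 D21552 (iv D20119)
def n21553 : Q := act 1 n16303
theorem D21553 : act 1 n16303 = n21553 := rfl
theorem F41728 : act 2 n21553 = n16306 := d6_2 D16303 D21553 (iv D16306) (iv D12224) D12223
theorem F41729 : act 4 n21553 = n16870 := d8_2 (iv F28223) D21553 (iv D16870)
def n21554 : Q := act 3 n16303
theorem D21554 : act 3 n16303 = n21554 := rfl
def n21555 : Q := act 5 n16303
theorem D21555 : act 5 n16303 = n21555 := rfl
theorem F41730 : act 0 n21555 = n20119 := d4_1 D21555 (iv F41727) F41725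
theorem F41731 : act 2 n21555 = n16304 := d13_1 D21555 (iv D16304) D16303
theorem F41732 : act 4 n21555 = n16872 := d18_1 D21555 (iv D16872) (iv F28223)
theorem F41733 : act 6 n21302 = n21555 := d19_0 F41732 (iv F29762) (iv F41208)
def n21556 : Q := act 6 n16303
theorem D21556 : act 6 n16303 = n21556 := rfl
theorem F41734 : act 2 n21556 = n16305 := d14_1 D21556 (iv D16305) D16303
theorem F41735 : act 4 n21556 = n16873 := d19_1 D21556 (iv D16873) (iv F28223)
def n21557 : Q := act 0 n16306
theorem D21557 : act 0 n16306 = n21557 := rfl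
theorem F41736 : act 4 n21557 = n16874 := d3_2 (iv F28229) D21557 (iv D16874)
theorem F41737 : act 1 n21483 = n21557 := d8_3 F41736 (iv F35275) (iv F41575)
theorem F41738 : act 5 n21484 = n21557 := d18_0 F41736 F35274 (iv F41576)
def n21558 : Q := act 3 n16306
theorem D21558 : act 3 n16306 = n21558 := rfl
theorem F41739 : act 1 n21558 = n16307 := d7_1 D21558 (iv D16307) D16306
def n21559 : Q := act 5 n16306
theorem D21559 : act 5 n16306 = n21559 := rfl
theorem F41740 : act 0 n21559 = n21484 := d4_1 D21559 F41738 (iv D21557)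
theorem F41741 : act 4 n21559 = n16876 := d18_1 D21559 (iv D16876) (iv F28229)
def n21560 : Q := act 6 n16306
theorem D21560 : act 6 n16306 = n21560 := rfl
theorem F41742 : act 1 n21560 = n16332 := d10_1 D21560 (iv D16332) (iv D12235) (iv F21558) D16306
theorem F41743 : act 4 n21560 = n16877 := d19_1 D21560 (iv D16877) (iv F28229)
def n21561 : Q := act 2 n16307
theorem D21561 : act 2 n16307 = n21561 := rfl
theorem F41744 : act 0 n21561 = n16308 := d1_1 D21561 (iv D16308) (iv F28230)
theorem F41745 : act 6 n21561 = n16333 := d14_2 (iv F28231) D21561 (iv D16333)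
theorem F41746 : act 3 n21561 = n21370 := d21_1 D21561 (iv D21370) (iv D16179) (iv D12161) F17776 D10033 D12225 (iv F28230)
def n21562 : Q := act 4 n16307
theorem D21562 : act 4 n16307 = n21562 := rfl
theorem F41747 : act 0 n21562 = n16309 := d3_1 D21562 (iv D16309) (iv F28230)
theorem F41748 : act 3 n21562 = n16879 := d15_1 D21562 (iv D16879) (iv D12559) (iv F21557) D16307
theorem F41749 : act 6 n21562 = n16334 := d19_2 (iv F28231) D21562 (iv D16334)
def n21563 : Q := act 1 n16308
theorem D21563 : act 1 n16308 = n21563 := rfl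
def n21564 : Q := act 3 n16308
theorem D21564 : act 3 n16308 = n21564 := rfl
theorem F41750 : act 0 n21564 = n21370 := d2_1 D21564 (iv F41746) F41744
theorem F41751 : act 2 n21564 = n21369 := d11_1 D21564 (iv D21369) (iv D16178) F21449 D12224 D16307 D21561 F41746 (iv D21370) (iv D16179) (iv D12161) F17776 D10033 D12225 D16308
theorem F41752 : act 6 n21564 = n16339 := d17_2 (iv F28232) D21564 (iv D16339)
def n21565 : Q := act 4 n16308
theorem D21565 : act 4 n16308 = n21565 := rfl
theorem F41753 : act 2 n21565 = n16309 := d12_1 D21565 (iv D16309) D16308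
theorem F41754 : act 6 n21565 = n16340 := d19_2 (iv F28232) D21565 (iv D16340)
def n21566 : Q := act 5 n16308
theorem D21566 : act 5 n16308 = n21566 := rfl
theorem F41755 : act 2 n21566 = n16310 := d13_1 D21566 (iv D16310) D16308
def n21567 : Q := act 5 n16309
theorem D21567 : act 5 n16309 = n21567 := rfl
theorem F41756 : act 3 n21567 = n16884 := d16_1 D21567 (iv D16884) (iv F28233)
theorem F41757 : act 4 n21567 = n16310 := d18_1 D21567 (iv D16310) D16309
def n21568 : Q := act 1 n16310
theorem D21568 : act 1 n16310 = n21568 := rfl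
theorem F41758 : act 3 n21568 = n16311 := d7_2 (iv F28235) D21568 (iv D16311)
def n21569 : Q := act 0 n16311
theorem D21569 : act 0 n16311 = n21569 := rfl
theorem F41759 : act 4 n21569 = n16886 := d3_2 (iv F28236) D21569 (iv D16886)
def n21570 : Q := act 2 n16311
theorem D21570 : act 2 n16311 = n21570 := rfl
theorem F41760 : act 1 n21570 = n16313 := d6_1 D21570 (iv D16313) (iv D12227) (iv F21560) D16311
theorem F41761 : act 4 n21570 = n16887 := d12_2 (iv F28236) D21570 (iv D16887)
def n21571 : Q := act 6 n16311
theorem D21571 : act 6 n16311 = n21571 := rfl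
theorem F41762 : act 4 n21571 = n16888 := d19_1 D21571 (iv D16888) (iv F28236)
def n21572 : Q := act 2 n16312
theorem D21572 : act 2 n16312 = n21572 := rfl
theorem F41763 : act 0 n21572 = n16313 := d1_1 D21572 (iv D16313) D16312
theorem F41764 : act 1 n21572 = n19678 := d6_1 D21572 F37019 F25244 F35290 F28239
theorem F41765 : act 4 n21572 = n16889 := d12_2 (iv F28237) D21572 (iv D16889)
theorem F41766 : act 5 n21572 = n16315 := d13_2 (iv F28238) D21572 (iv D16315)
def n21573 : Q := act 3 n16313
theorem D21573 : act 3 n16313 = n21573 := rfl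
theorem F41767 : act 4 n21573 = n20892 := d15_2 (iv F28240) D21573 (iv D20892) F39722 (iv D16890)
theorem F41768 : act 5 n21573 = n16317 := d16_2 (iv F28241) D21573 (iv D16317)
def n21574 : Q := act 6 n16313
theorem D21574 : act 6 n16313 = n21574 := rfl
theorem F41769 : act 2 n21574 = n16314 := d14_1 D21574 (iv D16314) D16313
theorem F41770 : act 4 n21574 = n16891 := d19_1 D21574 (iv D16891) (iv F28240)
def n21575 : Q := act 3 n16315
theorem D21575 : act 3 n16315 = n21575 := rfl
theorem F41771 : act 0 n21575 = n16317 := d2_1 D21575 (iv D16317) (iv F28244)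
theorem F41772 : act 1 n21575 = n20228 := d7_1 D21575 F38329 (iv F35277)
def n21576 : Q := act 6 n16315
theorem D21576 : act 6 n16315 = n21576 := rfl
theorem F41773 : act 0 n21576 = n16318 := d5_1 D21576 (iv D16318) (iv F28244)
theorem F41774 : act 2 n21576 = n16316 := d14_1 D21576 (iv D16316) D16315
theorem F41775 : act 4 n21576 = n16894 := d19_1 D21576 (iv D16894) (iv F28245)
theorem F41776 : act 5 n21576 = n21574 := d22_2 F41766 D21576 (iv D21574) (iv F41763)
def n21577 : Q := act 2 n16317
theorem D21577 : act 2 n16317 = n21577 := rfl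
def n21578 : Q := act 4 n16317
theorem D21578 : act 4 n16317 = n21578 := rfl
theorem F41777 : act 3 n21578 = n16896 := d15_1 D21578 (iv D16896) (iv D12570) (iv F21565) D16317
theorem F41778 : act 5 n21578 = n20892 := d18_2 F41768 D21578 (iv F41767)
def n21579 : Q := act 6 n16317
theorem D21579 : act 6 n16317 = n21579 := rfl
theorem F41779 : act 3 n21579 = n16318 := d17_1 D21579 (iv D16318) D16317
def n21580 : Q := act 1 n16318
theorem D21580 : act 1 n16318 = n21580 := rfl
theorem F41780 : act 2 n21580 = n19700 := d6_2 (iv F28250) D21580 (iv D19700) F25283 (iv F21566)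
theorem F41781 : act 4 n21580 = n16898 := d8_2 (iv F28251) D21580 (iv D16898)
def n21581 : Q := act 5 n16318
theorem D21581 : act 5 n16318 = n21581 := rfl
theorem F41782 : act 0 n21581 = n21574 := d4_1 D21581 (iv F41776) F41773
theorem F41783 : act 2 n21581 = n16319 := d13_1 D21581 (iv D16319) (iv F28250)
theorem F41784 : act 4 n21581 = n16899 := d18_1 D21581 (iv D16899) (iv F28251)
theorem F41785 : act 6 n21581 = n21572 := d20_2 D16318 D21581 F41766 D21576 F41776 (iv D21574) F28241
def n21582 : Q := act 1 n16320
theorem D21582 : act 1 n16320 = n21582 := rfl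
theorem F41786 : act 4 n21582 = n16900 := d8_2 (iv F28256) D21582 (iv D16900)
theorem F41787 : act 0 n16493 = n21582 := d3_3 F41786 F30285 (iv F28608)
def n21583 : Q := act 3 n16320
theorem D21583 : act 3 n16320 = n21583 := rfl
theorem F41788 : act 0 n21583 = n16324 := d2_1 D21583 (iv D16324) (iv F28255)
theorem F41789 : act 2 n21583 = n18898 := d11_1 D21583 (iv D18898) (iv D13751) (iv F24072) F37347 F21454 D12232 D16324 F37351 (iv D13753) (iv D10878) (iv F19281) D13710 F37343 D16320
def n21584 : Q := act 5 n16320
theorem D21584 : act 5 n16320 = n21584 := rfl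
theorem F41790 : act 0 n21584 = n16325 := d4_1 D21584 (iv D16325) (iv F28255)
theorem F41791 : act 2 n21584 = n16321 := d13_1 D21584 (iv D16321) D16320
theorem F41792 : act 4 n21584 = n16902 := d18_1 D21584 (iv D16902) (iv F28256)
theorem F41793 : act 6 n21584 = n17104 := d22_1 D21584 F39808 (iv D16326) (iv F28255)
def n21585 : Q := act 6 n16320
theorem D21585 : act 6 n16320 = n21585 := rfl
theorem F41794 : act 0 n21585 = n16326 := d5_1 D21585 (iv D16326) (iv F28255)
theorem F41795 : act 2 n21585 = n16322 := d14_1 D21585 (iv D16322) D16320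
theorem F41796 : act 4 n21585 = n16903 := d19_1 D21585 (iv D16903) (iv F28256)
theorem F41797 : act 5 n21585 = n21182 := d20_1 D21585 F40935 (iv D16325) D16326 (iv F39808) (iv F41793) (iv D21584)
def n21586 : Q := act 0 n16323
theorem D21586 : act 0 n16323 = n21586 := rfl
theorem F41798 : act 1 n21586 = n16495 := d0_2 D16323 D21586 (iv D16495) (iv D12319) (iv F21724) D16493 F41787 (iv D21582) F28255
theorem F41799 : act 2 n21586 = n16329 := d1_2 (iv F28263) D21586 (iv D16329)
theorem F41800 : act 4 n21586 = n16904 := d3_2 (iv F28264) D21586 (iv D16904)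
def n21587 : Q := act 3 n16323
theorem D21587 : act 3 n16323 = n21587 := rfl
theorem F41801 : act 1 n21587 = n16324 := d7_1 D21587 (iv D16324) D16323
theorem F41802 : act 2 n21587 = n18981 := d25_19 (iv F3469) (iv F6897) (iv F13980) (iv F17901) (iv D10073) (iv F17837) (iv D10039) (iv D5181) (iv F7857) D10007 F17782 D12167 D16193 (iv F28281) (iv D16333) (iv F28277) (iv D16330) (iv F28263) D21587 (iv D18981) (iv F24287) (iv D13819) (iv D10913) (iv D8079) F17208 F5898 F14919 (iv F3091) (iv F6122) F17097 (iv F32711) (iv F32716) (iv D1061) (iv F1800) D2098 F3340 (iv F32842) (iv D1876) F1638 D959 F1676 D978 (iv F1973) F1974 F1095 (iv F583) F358 D185 F32749 (iv D185) (iv F375) F301 (iv F581) (iv F1095) (iv F1974) F1973 (iv F3118) (iv D1956) (iv D959) (iv F1638) D1876 F15566 F32842 (iv D2098) F1800 D1061 (iv F2943) D3774 (iv F17097) F6122 F3091 (iv F17069) (iv F3029) D3905 F32800 (iv D4370) F16829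
def n21588 : Q := act 5 n16323
theorem D21588 : act 5 n16323 = n21588 := rfl
theorem F41803 : act 2 n21588 = n16331 := d13_1 D21588 (iv D16331) (iv F28263)
theorem F41804 : act 4 n21588 = n16906 := d18_1 D21588 (iv D16906) (iv F28264)
def n21589 : Q := act 6 n16323
theorem D21589 : act 6 n16323 = n21589 := rfl
theorem F41805 : act 2 n21589 = n16332 := d14_1 D21589 (iv D16332) (iv F28263)
theorem F41806 : act 4 n21589 = n16907 := d19_1 D21589 (iv D16907) (iv F28264)
def n21590 : Q := act 4 n16324
theorem D21590 : act 4 n16324 = n21590 := rfl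
theorem F41807 : act 2 n21590 = n18902 := d12_1 D21590 (iv D18902) (iv F37351)
theorem F41808 : act 3 n21590 = n16909 := d15_1 D21590 (iv D16909) (iv D12577) (iv F21569) D16324
def n21591 : Q := act 5 n16324
theorem D21591 : act 5 n16324 = n21591 := rfl
theorem F41809 : act 2 n21591 = n18887 := d13_1 D21591 F33814 (iv F37351)
theorem F41810 : act 3 n21591 = n16325 := d16_1 D21591 (iv D16325) D16324
def n21592 : Q := act 6 n16324
theorem D21592 : act 6 n16324 = n21592 := rfl
theorem F41811 : act 2 n21592 = n18903 := d14_1 D21592 (iv D18903) (iv F37351)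
theorem F41812 : act 3 n21592 = n16326 := d17_1 D21592 (iv D16326) D16324
def n21593 : Q := act 1 n16325
theorem D21593 : act 1 n16325 = n21593 := rfl
theorem F41813 : act 4 n21593 = n16912 := d8_2 (iv F28266) D21593 (iv D16912)
def n21594 : Q := act 1 n16326
theorem D21594 : act 1 n16326 = n21594 := rfl
theorem F41814 : act 4 n21594 = n16913 := d8_2 (iv F28268) D21594 (iv D16913)
def n21595 : Q := act 2 n16327
theorem D21595 : act 2 n16327 = n21595 := rfl
theorem F41815 : act 4 n21595 = n16915 := d12_2 (iv F28269) D21595 (iv D16915)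
theorem F41816 : act 5 n21595 = n16337 := d13_2 (iv F28270) D21595 (iv D16337)
theorem F41817 : act 6 n21595 = n21116 := d14_2 (iv F28271) D21595 (iv D21116)
def n21596 : Q := act 1 n16329
theorem D21596 : act 1 n16329 = n21596 := rfl
theorem F41818 : act 0 n21596 = n16468 := d0_1 D21596 (iv D16468) (iv D12305) (iv D10071) F7932 (iv F7878) (iv F17832) D12235 D16329
theorem F41819 : act 2 n21596 = n16501 := d6_2 F41799 D21596 (iv D16501) (iv F28612) (iv F41798)
theorem F41820 : act 4 n21596 = n16916 := d8_2 (iv F28276) D21596 (iv D16916)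
def n21597 : Q := act 3 n16329
theorem D21597 : act 3 n16329 = n21597 := rfl
theorem F41821 : act 0 n21597 = n16330 := d2_1 D21597 (iv D16330) D16329
def n21598 : Q := act 5 n16329
theorem D21598 : act 5 n16329 = n21598 := rfl
theorem F41822 : act 0 n21598 = n16331 := d4_1 D21598 (iv D16331) D16329
theorem F41823 : act 4 n21598 = n16918 := d18_1 D21598 (iv D16918) (iv F28276)
def n21599 : Q := act 6 n16329
theorem D21599 : act 6 n16329 = n21599 := rfl
theorem F41824 : act 0 n21599 = n16332 := d5_1 D21599 (iv D16332) D16329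
theorem F41825 : act 4 n21599 = n16919 := d19_1 D21599 (iv D16919) (iv F28276)
def n21600 : Q := act 2 n16330
theorem D21600 : act 2 n16330 = n21600 := rfl
def n21601 : Q := act 4 n16330
theorem D21601 : act 4 n16330 = n21601 := rfl
theorem F41826 : act 1 n21601 = n16334 := d8_1 D21601 (iv D16334) (iv F28277)
theorem F41827 : act 3 n21601 = n16921 := d15_1 D21601 (iv D16921) (iv D12583) (iv F21572) D16330
def n21602 : Q := act 5 n16330
theorem D21602 : act 5 n16330 = n21602 := rfl
theorem F41828 : act 3 n21602 = n16331 := d16_1 D21602 (iv D16331) D16330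
def n21603 : Q := act 6 n16330
theorem D21603 : act 6 n16330 = n21603 := rfl
theorem F41829 : act 3 n21603 = n16332 := d17_1 D21603 (iv D16332) D16330
def n21604 : Q := act 1 n16331
theorem D21604 : act 1 n16331 = n21604 := rfl
theorem F41830 : act 4 n21604 = n16924 := d8_2 (iv F28278) D21604 (iv D16924)
theorem F41831 : act 5 n21604 = n16336 := d9_2 D16331 D21604 (iv D16336) (iv D12237) D12235
def n21605 : Q := act 6 n16331
theorem D21605 : act 6 n16331 = n21605 := rfl
theorem F41832 : act 4 n21605 = n16925 := d19_1 D21605 (iv D16925) (iv F28278)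
theorem F41833 : act 5 n21605 = n21599 := d22_2 D16331 D21605 (iv D21599) (iv D16329)
def n21606 : Q := act 5 n16332
theorem D21606 : act 5 n16332 = n21606 := rfl
theorem F41834 : act 0 n21606 = n21605 := d4_1 D21606 F41833 F41824
theorem F41835 : act 4 n21606 = n16926 := d18_1 D21606 (iv D16926) (iv F28279)
theorem F41836 : act 6 n21606 = n21598 := d20_2 D16332 D21606 (iv D21598) D21599 (iv F41833) (iv D21605) (iv D16331)
def n21607 : Q := act 1 n16333
theorem D21607 : act 1 n16333 = n21607 := rfl
theorem F41837 : act 3 n21607 = n21392 := d7_2 (iv F28281) D21607 (iv D21392)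
def n21608 : Q := act 4 n16333
theorem D21608 : act 4 n16333 = n21608 := rfl
theorem F41838 : act 0 n21608 = n16340 := d3_1 D21608 (iv D16340) (iv F28280)
theorem F41839 : act 2 n21608 = n16334 := d12_1 D21608 (iv D16334) D16333
def n21609 : Q := act 5 n16333
theorem D21609 : act 5 n16333 = n21609 := rfl
theorem F41840 : act 0 n21609 = n16341 := d4_1 D21609 (iv D16341) (iv F28280)
theorem F41841 : act 2 n21609 = n16335 := d13_1 D21609 (iv D16335) D16333
theorem F41842 : act 3 n21609 = n21394 := d16_1 D21609 (iv D21394) (iv F28281)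
theorem F41843 : act 6 n21609 = n21566 := d22_1 D21609 (iv D21566) F28232 (iv F28280)
def n21610 : Q := act 5 n16334
theorem D21610 : act 5 n16334 = n21610 := rfl
theorem F41844 : act 0 n21610 = n16342 := d4_1 D21610 (iv D16342) (iv F28282)
theorem F41845 : act 3 n21610 = n16930 := d16_1 D21610 (iv D16930) (iv F28283)
theorem F41846 : act 4 n21610 = n16335 := d18_1 D21610 (iv D16335) D16334
theorem F41847 : act 6 n21610 = n21567 := d22_1 D21610 (iv D21567) F28234 (iv F28282)
def n21611 : Q := act 1 n16335
theorem D21611 : act 1 n16335 = n21611 := rfl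
theorem F41848 : act 3 n21611 = n16336 := d7_2 (iv F28285) D21611 (iv D16336)
def n21612 : Q := act 2 n16336
theorem D21612 : act 2 n16336 = n21612 := rfl
theorem F41849 : act 1 n21612 = n16337 := d6_1 D21612 (iv D16337) (iv D12238) (iv F21575) D16336
theorem F41850 : act 4 n21612 = n16931 := d12_2 (iv F28287) D21612 (iv D16931)
def n21613 : Q := act 6 n16336
theorem D21613 : act 6 n16336 = n21613 := rfl
theorem F41851 : act 1 n21613 = n21571 := d10_1 D21613 (iv D21571) (iv D16311) (iv F21577) D16336
theorem F41852 : act 4 n21613 = n16932 := d19_1 D21613 (iv D16932) (iv F28287)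
def n21614 : Q := act 3 n16337
theorem D21614 : act 3 n16337 = n21614 := rfl
def n21615 : Q := act 0 n16338
theorem D21615 : act 0 n16338 = n21615 := rfl
theorem F41853 : act 2 n21615 = n16478 := d1_2 (iv F28289) D21615 (iv D16478)
def n21616 : Q := act 3 n16338
theorem D21616 : act 3 n16338 = n21616 := rfl
theorem F41854 : act 1 n21616 = n16339 := d7_1 D21616 (iv D16339) D16338
def n21617 : Q := act 4 n16338
theorem D21617 : act 4 n16338 = n21617 := rfl
theorem F41855 : act 1 n21617 = n16340 := d8_1 D21617 (iv D16340) D16338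
theorem F41856 : act 2 n21617 = n16479 := d12_1 D21617 (iv D16479) (iv F28289)
def n21618 : Q := act 5 n16338
theorem D21618 : act 5 n16338 = n21618 := rfl
theorem F41857 : act 2 n21618 = n16480 := d13_1 D21618 (iv D16480) (iv F28289)
def n21619 : Q := act 6 n16338
theorem D21619 : act 6 n16338 = n21619 := rfl
theorem F41858 : act 2 n21619 = n16481 := d14_1 D21619 (iv D16481) (iv F28289)
def n21620 : Q := act 4 n16339
theorem D21620 : act 4 n16339 = n21620 := rfl
theorem F41859 : act 0 n21620 = n21393 := d3_1 D21620 (iv D21393) (iv F28290)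
theorem F41860 : act 2 n21620 = n21388 := d12_1 D21620 (iv D21388) (iv F28291)
def n21621 : Q := act 5 n16339
theorem D21621 : act 5 n16339 = n21621 := rfl
theorem F41861 : act 0 n21621 = n21394 := d4_1 D21621 (iv D21394) (iv F28290)
theorem F41862 : act 2 n21621 = n21389 := d13_1 D21621 (iv D21389) (iv F28291)
theorem F41863 : act 3 n21621 = n16341 := d16_1 D21621 (iv D16341) D16339
def n21622 : Q := act 3 n16340
theorem D21622 : act 3 n16340 = n21622 := rfl
def n21623 : Q := act 5 n16340
theorem D21623 : act 5 n16340 = n21623 := rfl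
theorem F41864 : act 2 n21623 = n16342 := d13_1 D21623 (iv D16342) (iv F28292)
theorem F41865 : act 4 n21623 = n16341 := d18_1 D21623 (iv D16341) D16340
def n21624 : Q := act 1 n16341
theorem D21624 : act 1 n16341 = n21624 := rfl
def n21625 : Q := act 6 n16341
theorem D21625 : act 6 n16341 = n21625 := rfl
theorem F41866 : act 0 n21625 = n21566 := d5_1 D21625 (iv F41843) F41840
theorem F41867 : act 2 n21625 = n16343 := d14_1 D21625 (iv D16343) (iv F28293)
theorem F41868 : act 5 n21625 = n21561 := d20_1 D21625 F41745 D21609 F41843 (iv D21566) F28232 D16341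
def n21626 : Q := act 6 n16342
theorem D21626 : act 6 n16342 = n21626 := rfl
theorem F41869 : act 0 n21626 = n21567 := d5_1 D21626 (iv F41847) F41844
theorem F41870 : act 3 n21626 = n16945 := d17_1 D21626 (iv D16945) (iv F28294)
theorem F41871 : act 4 n21626 = n16343 := d19_1 D21626 (iv D16343) (iv F28295)
theorem F41872 : act 5 n21626 = n21562 := d20_1 D21626 F41749 D21610 F41847 (iv D21567) F28234 D16342
def n21627 : Q := act 1 n16343
theorem D21627 : act 1 n16343 = n21627 := rfl
theorem F41873 : act 3 n21627 = n16344 := d7_2 (iv F28297) D21627 (iv D16344)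
def n21628 : Q := act 0 n16344
theorem D21628 : act 0 n16344 = n21628 := rfl
theorem F41874 : act 4 n21628 = n16947 := d3_2 (iv F28299) D21628 (iv D16947)
def n21629 : Q := act 2 n16344
theorem D21629 : act 2 n16344 = n21629 := rfl
theorem F41875 : act 1 n21629 = n16346 := d6_1 D21629 (iv D16346) (iv D12243) (iv F21583) D16344
theorem F41876 : act 4 n21629 = n16948 := d12_2 (iv F28299) D21629 (iv D16948)
def n21630 : Q := act 5 n16344
theorem D21630 : act 5 n16344 = n21630 := rfl
theorem F41877 : act 1 n21630 = n21559 := d9_1 D21630 (iv D21559) (iv D16306) (iv F21585) D16344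
theorem F41878 : act 4 n21630 = n16949 := d18_1 D21630 (iv D16949) (iv F28299)
def n21631 : Q := act 2 n16345
theorem D21631 : act 2 n16345 = n21631 := rfl
theorem F41879 : act 0 n21631 = n16346 := d1_1 D21631 (iv D16346) D16345
theorem F41880 : act 4 n21631 = n16950 := d12_2 (iv F28300) D21631 (iv D16950)
theorem F41881 : act 5 n21631 = n20986 := d13_2 F38655 D21631 F40384
theorem F41882 : act 6 n21631 = n20367 := d14_2 (iv F28301) D21631 (iv D20367)
theorem F41883 : act 3 n20969 = n21631 := d17_3 F41882 (iv F39785) (iv F40335)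
def n21632 : Q := act 5 n16346
theorem D21632 : act 5 n16346 = n21632 := rfl
theorem F41884 : act 0 n21632 = n20986 := d4_1 D21632 (iv F41881) F41879
theorem F41885 : act 2 n21632 = n16347 := d13_1 D21632 (iv D16347) D16346
theorem F41886 : act 3 n21632 = n20995 := d16_1 D21632 F40421 F39760
theorem F41887 : act 4 n21632 = n16952 := d18_1 D21632 (iv D16952) (iv F28302)
theorem F41888 : act 6 n21632 = n21327 := d20_2 (iv F28303) D21632 F41255 (iv F41882) F41881 F40386 (iv D20369)
def n21633 : Q := act 2 n16349
theorem D21633 : act 2 n16349 = n21633 := rfl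
theorem F41889 : act 0 n21633 = n20110 := d1_1 D21633 (iv D20110) (iv F28309)
theorem F41890 : act 1 n21633 = n20237 := d6_1 D21633 (iv F38356) F38355 F26249 D16349
theorem F41891 : act 4 n21633 = n16954 := d12_2 (iv F28310) D21633 (iv D16954)
theorem F41892 : act 5 n21633 = n21511 := d13_2 (iv F28311) D21633 (iv D21511)
theorem F41893 : act 6 n21633 = n21074 := d14_2 (iv F28312) D21633 (iv D21074)
def n21634 : Q := act 5 n16350
theorem D21634 : act 5 n16350 = n21634 := rfl
theorem F41894 : act 2 n21634 = n18426 := d13_1 D21634 (iv D18426) (iv F28314)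
theorem F41895 : act 3 n21634 = n16351 := d16_1 D21634 (iv D16351) D16350
def n21635 : Q := act 1 n16351
theorem D21635 : act 1 n16351 = n21635 := rfl
theorem F41896 : act 4 n21635 = n16959 := d8_2 (iv F28319) D21635 (iv D16959)
theorem F41897 : act 5 n21635 = n16356 := d9_2 D16351 D21635 (iv D16356) (iv D12249) D12247
def n21636 : Q := act 6 n16351
theorem D21636 : act 6 n16351 = n21636 := rfl
theorem F41898 : act 0 n21636 = n19300 := d5_1 D21636 (iv F38725) F38722
theorem F41899 : act 2 n21636 = n16370 := d14_1 D21636 (iv D16370) (iv F28318)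
theorem F41900 : act 4 n21636 = n16960 := d19_1 D21636 (iv D16960) (iv F28319)
theorem F41901 : act 5 n21636 = n19298 := d20_1 D21636 F36016 D20407 F38725 (iv D19300) F34754 D16351
theorem F41902 : act 1 n21116 = n21636 := d8_3 F41900 (iv F35251) (iv F40760)
def n21637 : Q := act 5 n16353
theorem D21637 : act 5 n16353 = n21637 := rfl
theorem F41903 : act 2 n21637 = n18878 := d13_1 D21637 (iv D18878) (iv F28322)
theorem F41904 : act 3 n21637 = n16963 := d16_1 D21637 (iv D16963) (iv F28323)
theorem F41905 : act 4 n21637 = n16354 := d18_1 D21637 (iv D16354) D16353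
def n21638 : Q := act 1 n16354
theorem D21638 : act 1 n16354 = n21638 := rfl
theorem F41906 : act 3 n21638 = n16356 := d7_2 (iv F28325) D21638 (iv D16356)
def n21639 : Q := act 6 n16354
theorem D21639 : act 6 n16354 = n21639 := rfl
theorem F41907 : act 2 n21639 = n18880 := d14_1 D21639 (iv D18880) (iv F28324)
theorem F41908 : act 3 n21639 = n16357 := d17_1 D21639 (iv D16357) (iv F28325)
theorem F41909 : act 5 n21639 = n20339 := d22_2 D16354 D21639 (iv D20339) F26242
def n21640 : Q := act 5 n16355
theorem D21640 : act 5 n16355 = n21640 := rfl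
theorem F41910 : act 0 n21640 = n21639 := d4_1 D21640 F41909 F38582
theorem F41911 : act 2 n21640 = n18772 := d13_1 D21640 (iv D18772) (iv F28326)
theorem F41912 : act 3 n21640 = n16359 := d16_1 D21640 (iv D16359) (iv F28327)
theorem F41913 : act 4 n21640 = n19004 := d18_1 D21640 (iv D19004) (iv F34763)
theorem F41914 : act 6 n21640 = n20338 := d20_2 D16355 D21640 (iv D20338) D20339 (iv F41909) (iv D21639) (iv D16354)
def n21641 : Q := act 0 n16356
theorem D21641 : act 0 n16356 = n21641 := rfl
theorem F41915 : act 4 n21641 = n16969 := d3_2 (iv F28328) D21641 (iv D16969)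
def n21642 : Q := act 2 n16356
theorem D21642 : act 2 n16356 = n21642 := rfl
theorem F41916 : act 1 n21642 = n16361 := d6_1 D21642 (iv D16361) (iv D12251) (iv F21596) D16356
theorem F41917 : act 4 n21642 = n16970 := d12_2 (iv F28328) D21642 (iv D16970)
def n21643 : Q := act 6 n16356
theorem D21643 : act 6 n16356 = n21643 := rfl
theorem F41918 : act 4 n21643 = n16971 := d19_1 D21643 (iv D16971) (iv F28328)
def n21644 : Q := act 1 n16357
theorem D21644 : act 1 n16357 = n21644 := rfl
theorem F41919 : act 4 n21644 = n16972 := d8_2 (iv F28330) D21644 (iv D16972)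
def n21645 : Q := act 1 n16359
theorem D21645 : act 1 n16359 = n21645 := rfl
theorem F41920 : act 4 n21645 = n16975 := d8_2 (iv F28335) D21645 (iv D16975)
theorem F41921 : act 5 n21645 = n19313 := d9_2 D16359 D21645 (iv D19313) F24563 (iv F34744)
def n21646 : Q := act 2 n16360
theorem D21646 : act 2 n16360 = n21646 := rfl
theorem F41922 : act 0 n21646 = n16361 := d1_1 D21646 (iv D16361) D16360
theorem F41923 : act 4 n21646 = n16976 := d12_2 (iv F28337) D21646 (iv D16976)
theorem F41924 : act 5 n21646 = n16381 := d13_2 (iv F28338) D21646 (iv D16381)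
theorem F41925 : act 6 n21646 = n20222 := d14_2 F28339 D21646 (iv D20222)
def n21647 : Q := act 3 n16361
theorem D21647 : act 3 n16361 = n21647 := rfl
theorem F41926 : act 5 n21647 = n16382 := d16_2 (iv F28341) D21647 (iv D16382)
def n21648 : Q := act 6 n16361
theorem D21648 : act 6 n16361 = n21648 := rfl
theorem F41927 : act 0 n21648 = n20222 := d5_1 D21648 (iv F41925) F41922
theorem F41928 : act 2 n21648 = n16362 := d14_1 D21648 (iv D16362) D16361
theorem F41929 : act 4 n21648 = n16978 := d19_1 D21648 (iv D16978) (iv F28340)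
theorem F41930 : act 5 n21648 = n21489 := d20_1 D21648 F41590 (iv F41924) F41925 F38321 (iv D16383) (iv F28341)
def n21649 : Q := act 2 n16363
theorem D21649 : act 2 n16363 = n21649 := rfl
theorem F41931 : act 0 n21649 = n20200 := d1_1 D21649 F38275 (iv F28346)
theorem F41932 : act 4 n21649 = n16979 := d12_2 (iv F28347) D21649 (iv D16979)
theorem F41933 : act 6 n21649 = n20196 := d14_2 (iv F28348) D21649 (iv D20196)
def n21650 : Q := act 1 n16364
theorem D21650 : act 1 n16364 = n21650 := rfl
theorem F41934 : act 4 n21650 = n16984 := d8_2 (iv F28350) D21650 (iv D16984)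
theorem F41935 : act 5 n21650 = n21650 := d9_2 D16364 D21650 (iv D21650) (iv D16364) F21607
def n21651 : Q := act 5 n16366
theorem D21651 : act 5 n16366 = n21651 := rfl
theorem F41936 : act 3 n21651 = n16991 := d16_1 D21651 (iv D16991) (iv F28354)
theorem F41937 : act 4 n21651 = n16367 := d18_1 D21651 (iv D16367) D16366
def n21652 : Q := act 1 n16367
theorem D21652 : act 1 n16367 = n21652 := rfl
theorem F41938 : act 3 n21652 = n16369 := d7_2 (iv F28355) D21652 (iv D16369)
theorem F41939 : act 5 n21652 = n16376 := d9_2 D16367 D21652 (iv D16376) (iv D12260) (iv F21609)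
def n21653 : Q := act 6 n16367
theorem D21653 : act 6 n16367 = n21653 := rfl
theorem F41940 : act 2 n21653 = n18365 := d14_1 D21653 (iv F32277) F32275
theorem F41941 : act 3 n21653 = n16370 := d17_1 D21653 (iv D16370) (iv F28355)
theorem F41942 : act 5 n21653 = n18364 := d22_2 D16367 D21653 F32208 (iv F28316)
theorem F41943 : act 1 n21115 = n21653 := d9_5 F41942 (iv F40657) (iv F40689) F40686 D21115
def n21654 : Q := act 5 n16368
theorem D21654 : act 5 n16368 = n21654 := rfl
theorem F41944 : act 0 n21654 = n21653 := d4_1 D21654 F41942 F32207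
theorem F41945 : act 2 n21654 = n18395 := d13_1 D21654 F32286 (iv F32206)
theorem F41946 : act 3 n21654 = n16371 := d16_1 D21654 (iv D16371) (iv F28356)
theorem F41947 : act 6 n21654 = n18393 := d20_2 D16368 D21654 (iv D18393) (iv F32208) (iv F41942) (iv D21653) (iv D16367)
def n21655 : Q := act 0 n16369
theorem D21655 : act 0 n16369 = n21655 := rfl
theorem F41948 : act 4 n21655 = n16996 := d3_2 (iv F28357) D21655 (iv D16996)
theorem F41949 : act 5 n21655 = n16377 := d4_2 (iv F28358) D21655 (iv D16377)
def n21656 : Q := act 2 n16369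
theorem D21656 : act 2 n16369 = n21656 := rfl
theorem F41950 : act 4 n21656 = n16997 := d12_2 (iv F28357) D21656 (iv D16997)
theorem F41951 : act 5 n21656 = n16378 := d13_2 (iv F28358) D21656 (iv D16378)
def n21657 : Q := act 1 n16371
theorem D21657 : act 1 n16371 = n21657 := rfl
theorem F41952 : act 4 n21657 = n17000 := d8_2 (iv F28362) D21657 (iv D17000)
def n21658 : Q := act 5 n16372
theorem D21658 : act 5 n16372 = n21658 := rfl
theorem F41953 : act 3 n21658 = n21420 := d16_1 D21658 (iv D21420) (iv F28364)
def n21659 : Q := act 6 n16372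
theorem D21659 : act 6 n16372 = n21659 := rfl
theorem F41954 : act 0 n21659 = n20827 := d5_1 D21659 (iv F39946) (iv F34575)
theorem F41955 : act 1 n21659 = n18861 := d10_1 D21659 (iv D18861) (iv F34651) F27906 D16372
theorem F41956 : act 2 n21659 = n20824 := d14_1 D21659 F39935 F32271
theorem F41957 : act 3 n21659 = n21419 := d17_1 D21659 (iv F41430) (iv F28364)
theorem F41958 : act 4 n21659 = n19176 := d19_1 D21659 F35746 F34576
def n21660 : Q := act 1 n16374
theorem D21660 : act 1 n16374 = n21660 := rfl
theorem F41959 : act 3 n21660 = n21422 := d7_2 (iv F28369) D21660 (iv D21422)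
def n21661 : Q := act 1 n16375
theorem D21661 : act 1 n16375 = n21661 := rfl
theorem F41960 : act 3 n21661 = n17008 := d7_2 (iv F28372) D21661 (iv D17008)
theorem F41961 : act 4 n21661 = n16376 := d8_2 (iv F28373) D21661 (iv D16376)
def n21662 : Q := act 0 n16376
theorem D21662 : act 0 n16376 = n21662 := rfl
theorem F41962 : act 3 n21662 = n16377 := d2_2 (iv F28375) D21662 (iv D16377)
def n21663 : Q := act 2 n16376
theorem D21663 : act 2 n16376 = n21663 := rfl
def n21664 : Q := act 6 n16376
theorem D21664 : act 6 n16376 = n21664 := rfl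
theorem F41963 : act 1 n21664 = n21299 := d10_1 D21664 (iv D21299) (iv D16136) (iv F21618) D16376
theorem F41964 : act 3 n21664 = n16379 := d17_1 D21664 (iv D16379) (iv F28375)
def n21665 : Q := act 1 n16377
theorem D21665 : act 1 n16377 = n21665 := rfl
theorem F41965 : act 4 n21665 = n17012 := d8_2 (iv F28376) D21665 (iv D17012)
def n21666 : Q := act 2 n16377
theorem D21666 : act 2 n16377 = n21666 := rfl
theorem F41966 : act 0 n21666 = n16378 := d1_1 D21666 (iv D16378) D16377
theorem F41967 : act 4 n21666 = n17013 := d12_2 (iv F28376) D21666 (iv D17013)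
def n21667 : Q := act 6 n16377
theorem D21667 : act 6 n16377 = n21667 := rfl
theorem F41968 : act 0 n21667 = n16379 := d5_1 D21667 (iv D16379) D16377
theorem F41969 : act 4 n21667 = n17014 := d19_1 D21667 (iv D17014) (iv F28376)
theorem F41970 : act 5 n21667 = n21181 := d22_2 F41949 D21667 F40932 D21655
theorem F41971 : act 1 n21178 = n21667 := d9_5 F41970 (iv D21181) (iv D16020) D16018 D21178
def n21668 : Q := act 3 n16378
theorem D21668 : act 3 n16378 = n21668 := rfl
theorem F41972 : act 1 n21668 = n16382 := d7_1 D21668 (iv D16382) (iv F28377)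
def n21669 : Q := act 6 n16378
theorem D21669 : act 6 n16378 = n21669 := rfl
theorem F41973 : act 2 n21669 = n16379 := d14_1 D21669 (iv D16379) D16378
theorem F41974 : act 4 n21669 = n17016 := d19_1 D21669 (iv D17016) (iv F28378)
def n21670 : Q := act 5 n16379
theorem D21670 : act 5 n16379 = n21670 := rfl
theorem F41975 : act 0 n21670 = n21181 := d4_1 D21670 (iv F41970) F41968
theorem F41976 : act 4 n21670 = n17017 := d18_1 D21670 (iv D17017) (iv F28380)
theorem F41977 : act 6 n21670 = n21655 := d20_2 D16379 D21670 F41949 D21667 F41970 F40932 F28358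
theorem F41978 : act 1 n16402 = n21670 := d8_3 F41976 F30011 (iv F28418)
def n21671 : Q := act 2 n16380
theorem D21671 : act 2 n16380 = n21671 := rfl
theorem F41979 : act 4 n21671 = n17018 := d12_2 (iv F28381) D21671 (iv D17018)
theorem F41980 : act 5 n21671 = n21073 := d13_2 F28383 D21671 F40641
theorem F41981 : act 6 n21671 = n21472 := d14_2 (iv F28382) D21671 (iv D21472)
theorem F41982 : act 1 n21671 = n21598 := d23_2 F28383 D21671 F41822 (iv D16331) (iv F28263) (iv D16323) (iv F28255) D21584 F41791 (iv F38129) F38128 (iv F36726) F36724 (iv F25312) (iv F37155) F37159 F37148 D20349 F38613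
def n21672 : Q := act 1 n16381
theorem D21672 : act 1 n16381 = n21672 := rfl
theorem F41983 : act 2 n21672 = n21598 := d6_2 D16381 D21672 (iv F41982) (iv D21671) (iv D16380)
theorem F41984 : act 4 n21672 = n17019 := d8_2 (iv F28385) D21672 (iv D17019)
theorem F41985 : act 0 n21672 = n21588 := d23_3 F28338 D16381 D21672 (iv D21588) F28263 (iv D12235) F17832 D10040 F17838 F7880 (iv F13960) (iv D9339) D9338 D11566 F23437 D12249 F21596 D12251 D16360
theorem F41986 : act 5 n21586 = n21672 := d4_0 F41985 (iv D21588) D21586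
def n21673 : Q := act 3 n16381
theorem D21673 : act 3 n16381 = n21673 := rfl
theorem F41987 : act 0 n21673 = n16382 := d2_1 D21673 (iv D16382) (iv F28384)
def n21674 : Q := act 2 n16382
theorem D21674 : act 2 n16382 = n21674 := rfl
def n21675 : Q := act 4 n16382
theorem D21675 : act 4 n16382 = n21675 := rfl
theorem F41988 : act 3 n21675 = n17022 := d15_1 D21675 (iv D17022) (iv D12643) (iv F21621) D16382
def n21676 : Q := act 6 n16382
theorem D21676 : act 6 n16382 = n21676 := rfl
theorem F41989 : act 3 n21676 = n16383 := d17_1 D21676 (iv D16383) D16382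
def n21677 : Q := act 1 n16383
theorem D21677 : act 1 n16383 = n21677 := rfl
theorem F41990 : act 2 n21677 = n21309 := d6_2 (iv F28386) D21677 (iv D21309) F27933 (iv F21622)
theorem F41991 : act 4 n21677 = n17024 := d8_2 (iv F28387) D21677 (iv D17024)
def n21678 : Q := act 3 n16384
theorem D21678 : act 3 n16384 = n21678 := rfl
theorem F41992 : act 0 n21678 = n16385 := d2_1 D21678 (iv D16385) D16384
theorem F41993 : act 2 n21678 = n20467 := d21_2 (iv F28388) D21678 (iv D20467) (iv D15142) (iv D11602) (iv F16866) (iv F17905) D12312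
def n21679 : Q := act 5 n16384
theorem D21679 : act 5 n16384 = n21679 := rfl
theorem F41994 : act 0 n21679 = n16387 := d4_1 D21679 (iv D16387) D16384
theorem F41995 : act 2 n21679 = n16397 := d13_1 D21679 F28412 (iv F28388)
def n21680 : Q := act 6 n16384
theorem D21680 : act 6 n16384 = n21680 := rfl
theorem F41996 : act 0 n21680 = n16388 := d5_1 D21680 (iv D16388) D16384
theorem F41997 : act 2 n21680 = n16484 := d14_1 D21680 (iv D16484) (iv F28388)
theorem F41998 : act 4 n21680 = n18251 := d19_1 D21680 F34667 (iv F34573)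
def n21681 : Q := act 2 n16385
theorem D21681 : act 2 n16385 = n21681 := rfl
theorem F41999 : act 0 n21681 = n20467 := d1_1 D21681 (iv F41993) F41992
theorem F42000 : act 1 n21681 = n21407 := d6_1 D21681 (iv D21407) F28029 (iv F21626) (iv F28389)
theorem F42001 : act 3 n21681 = n20461 := d11_2 D16385 D21681 (iv D20461) (iv D15139) F20565 (iv F21712) (iv F28388) D21678 F41993 (iv D20467) (iv D15142) (iv D11602) (iv F16866) (iv F17905) (iv F21624)
def n21682 : Q := act 4 n16385
theorem D21682 : act 4 n16385 = n21682 := rfl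
theorem F42002 : act 1 n21682 = n16389 := d8_1 D21682 (iv D16389) (iv F28389)
theorem F42003 : act 3 n21682 = n18768 := d15_1 D21682 F33596 (iv F34636) (iv D16386) D16385
theorem F42004 : act 6 n18743 = n21682 := d17_0 F42003 (iv D18768) (iv F33555)
def n21683 : Q := act 5 n16385
theorem D21683 : act 5 n16385 = n21683 := rfl
theorem F42005 : act 3 n21683 = n16387 := d16_1 D21683 (iv D16387) D16385
def n21684 : Q := act 6 n16385
theorem D21684 : act 6 n16385 = n21684 := rfl
theorem F42006 : act 1 n21684 = n18196 := d10_1 D21684 F31829 (iv F34654) F27914 (iv F28389)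
theorem F42007 : act 3 n21684 = n16388 := d17_1 D21684 (iv D16388) D16385
theorem F42008 : act 4 n21684 = n18743 := d19_1 D21684 F42004 (iv D21682)
def n21685 : Q := act 5 n16386
theorem D21685 : act 5 n16386 = n21685 := rfl
theorem F42009 : act 1 n21685 = n19057 := d9_1 D21685 F35520 (iv F35512) (iv D16392) (iv F28390)
theorem F42010 : act 2 n21685 = n16395 := d13_1 D21685 F28406 (iv F28391)
theorem F42011 : act 3 n21685 = n19081 := d16_1 D21685 (iv D19081) (iv F34636)
theorem F42012 : act 4 n21685 = n16387 := d18_1 D21685 (iv D16387) D16386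
theorem F42013 : act 6 n21685 = n19115 := d22_1 D21685 (iv F35611) F34667 F34571
def n21686 : Q := act 1 n16387
theorem D21686 : act 1 n16387 = n21686 := rfl
theorem F42014 : act 2 n21686 = n16393 := d6_2 (iv F28392) D21686 (iv D16393) F21632 D12270
theorem F42015 : act 4 n21686 = n19057 := d8_2 F42012 D21686 (iv F42009)
theorem F42016 : act 5 n21686 = n16393 := d9_2 D16387 D21686 (iv D16393) (iv D12268) D12265
theorem F42017 : act 6 n21686 = n18750 := d24_3 (iv D16388) D16387 D21686 (iv D18750) (iv D13680) (iv F19296) (iv D10866) D10865 F19293 D10869 F19300 D13332 F23475 (iv F34634)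
def n21687 : Q := act 6 n16387
theorem D21687 : act 6 n16387 = n21687 := rfl
theorem F42018 : act 1 n21687 = n18819 := d10_1 D21687 (iv D18819) (iv F33565) (iv F42017) (iv D21686)
theorem F42019 : act 2 n21687 = n16398 := d14_1 D21687 (iv D16398) (iv F28392)
theorem F42020 : act 4 n21687 = n19115 := d19_1 D21687 (iv F42013) F42012
theorem F42021 : act 5 n21687 = n21680 := d22_2 D16387 D21687 (iv D21680) (iv D16384)
def n21688 : Q := act 5 n16388
theorem D21688 : act 5 n16388 = n21688 := rfl
theorem F42022 : act 0 n21688 = n21687 := d4_1 D21688 F42021 F41996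
theorem F42023 : act 2 n21688 = n16486 := d13_1 D21688 (iv D16486) (iv F28393)
theorem F42024 : act 4 n21688 = n18253 := d18_1 D21688 (iv D18253) (iv F34635)
theorem F42025 : act 6 n21688 = n21679 := d20_2 D16388 D21688 (iv D21679) D21680 (iv F42021) (iv D21687) (iv D16387)
def n21689 : Q := act 5 n16389
theorem D21689 : act 5 n16389 = n21689 := rfl
theorem F42026 : act 0 n21689 = n21421 := d4_1 D21689 (iv D21421) (iv F28394)
theorem F42027 : act 2 n21689 = n21409 := d13_1 D21689 (iv D21409) (iv F34675)
theorem F42028 : act 3 n21689 = n18868 := d16_1 D21689 (iv D18868) (iv F34676)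
theorem F42029 : act 4 n21689 = n16390 := d18_1 D21689 (iv D16390) D16389
def n21690 : Q := act 1 n16390
theorem D21690 : act 1 n16390 = n21690 := rfl
theorem F42030 : act 3 n21690 = n16393 := d7_2 (iv F28398) D21690 (iv D16393)
def n21691 : Q := act 1 n16394
theorem D21691 : act 1 n16394 = n21691 := rfl
def n21692 : Q := act 0 n16395
theorem D21692 : act 0 n16395 = n21692 := rfl
theorem F42031 : act 3 n21692 = n17036 := d2_2 (iv F28404) D21692 (iv D17036)
theorem F42032 : act 4 n21692 = n16397 := d3_2 (iv F28405) D21692 (iv D16397)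
theorem F42033 : act 5 n21692 = n16483 := d4_2 (iv F28406) D21692 F28585
def n21693 : Q := act 6 n16395
theorem D21693 : act 6 n16395 = n21693 := rfl
theorem F42034 : act 2 n21693 = n19115 := d14_1 D21693 (iv F42013) F42010
theorem F42035 : act 3 n21693 = n17038 := d17_1 D21693 (iv D17038) (iv F28404)
theorem F42036 : act 4 n21693 = n16398 := d19_1 D21693 (iv D16398) (iv F28405)
def n21694 : Q := act 1 n16396
theorem D21694 : act 1 n16396 = n21694 := rfl
theorem F42037 : act 3 n21694 = n17039 := d7_2 (iv F28408) D21694 (iv D17039)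
theorem F42038 : act 4 n21694 = n16399 := d8_2 (iv F28409) D21694 (iv D16399)
def n21695 : Q := act 1 n16397
theorem D21695 : act 1 n16397 = n21695 := rfl
theorem F42039 : act 3 n21695 = n16400 := d7_2 (iv F28411) D21695 (iv D16400)
def n21696 : Q := act 1 n16398
theorem D21696 : act 1 n16398 = n21696 := rfl
theorem F42040 : act 3 n21696 = n16401 := d7_2 (iv F28413) D21696 (iv D16401)
theorem F42041 : act 6 n21696 = n16399 := d10_2 D16398 D21696 (iv D16399) (iv D12271) D12270
def n21697 : Q := act 0 n16399
theorem D21697 : act 0 n16399 = n21697 := rfl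
theorem F42042 : act 3 n21697 = n16402 := d2_2 (iv F28414) D21697 (iv D16402)
def n21698 : Q := act 2 n16399
theorem D21698 : act 2 n16399 = n21698 := rfl
def n21699 : Q := act 5 n16399
theorem D21699 : act 5 n16399 = n21699 := rfl
theorem F42043 : act 1 n21699 = n21291 := d9_1 D21699 (iv D21291) F27901 (iv F21639) D16399
theorem F42044 : act 3 n21699 = n16404 := d16_1 D21699 (iv D16404) (iv F28414)
def n21700 : Q := act 0 n16400
theorem D21700 : act 0 n16400 = n21700 := rfl
theorem F42045 : act 4 n21700 = n17048 := d3_2 (iv F28415) D21700 (iv D17048)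
def n21701 : Q := act 2 n16400
theorem D21701 : act 2 n16400 = n21701 := rfl
theorem F42046 : act 4 n21701 = n17049 := d12_2 (iv F28415) D21701 (iv D17049)
theorem F42047 : act 5 n18638 = n21701 := d18_0 F42046 (iv F30236) (iv F33348)
def n21702 : Q := act 5 n16400
theorem D21702 : act 5 n16400 = n21702 := rfl
theorem F42048 : act 1 n21702 = n16489 := d9_1 D21702 (iv D16489) (iv D12315) (iv F21641) D16400
theorem F42049 : act 2 n21702 = n18638 := d13_1 D21702 F42047 (iv D21701)
theorem F42050 : act 4 n21702 = n17050 := d18_1 D21702 (iv D17050) (iv F28415)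
def n21703 : Q := act 6 n16400
theorem D21703 : act 6 n16400 = n21703 := rfl
theorem F42051 : act 4 n21703 = n17051 := d19_1 D21703 (iv D17051) (iv F28415)
def n21704 : Q := act 0 n16401
theorem D21704 : act 0 n16401 = n21704 := rfl
theorem F42052 : act 4 n21704 = n17058 := d3_2 (iv F28416) D21704 (iv D17058)
theorem F42053 : act 6 n21704 = n16402 := d5_2 (iv F28417) D21704 (iv D16402)
def n21705 : Q := act 2 n16401
theorem D21705 : act 2 n16401 = n21705 := rfl
theorem F42054 : act 4 n21705 = n17059 := d12_2 (iv F28416) D21705 (iv D17059)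
theorem F42055 : act 6 n21705 = n16403 := d14_2 (iv F28417) D21705 (iv D16403)
def n21706 : Q := act 2 n16402
theorem D21706 : act 2 n16402 = n21706 := rfl
theorem F42056 : act 0 n21706 = n16403 := d1_1 D21706 (iv D16403) D16402
theorem F42057 : act 4 n21706 = n17062 := d12_2 (iv F28418) D21706 (iv D17062)
theorem F42058 : act 1 n17313 = n21706 := d8_3 F42057 F39673 D17313
def n21707 : Q := act 5 n16402
theorem D21707 : act 5 n16402 = n21707 := rfl
theorem F42059 : act 0 n21707 = n16404 := d4_1 D21707 (iv D16404) D16402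
theorem F42060 : act 1 n21707 = n21188 := d9_1 D21707 F40950 (iv F28379) D21670 (iv F41978)
theorem F42061 : act 4 n21707 = n17063 := d18_1 D21707 (iv D17063) (iv F28418)
theorem F42062 : act 6 n21707 = n21189 := d22_1 D21707 F40952 F28417 D16402
def n21708 : Q := act 3 n16403
theorem D21708 : act 3 n16403 = n21708 := rfl
theorem F42063 : act 1 n21708 = n16420 := d7_1 D21708 (iv D16420) (iv F28419)
def n21709 : Q := act 5 n16403
theorem D21709 : act 5 n16403 = n21709 := rfl
theorem F42064 : act 2 n21709 = n16404 := d13_1 D21709 (iv D16404) D16403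
theorem F42065 : act 4 n21709 = n17065 := d18_1 D21709 (iv D17065) (iv F28420)
def n21710 : Q := act 6 n16404
theorem D21710 : act 6 n16404 = n21710 := rfl
theorem F42066 : act 0 n21710 = n21189 := d5_1 D21710 (iv F42062) F42059
theorem F42067 : act 4 n21710 = n17066 := d19_1 D21710 (iv D17066) (iv F28422)
theorem F42068 : act 5 n21710 = n21704 := d20_1 D21710 F42053 D21707 F42062 F40952 F28417 D16404
def n21711 : Q := act 2 n16405
theorem D21711 : act 2 n16405 = n21711 := rfl
theorem F42069 : act 0 n21711 = n16406 := d1_1 D21711 (iv D16406) D16405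
theorem F42070 : act 4 n21711 = n17067 := d12_2 (iv F28423) D21711 (iv D17067)
theorem F42071 : act 6 n21711 = n20121 := d14_2 F28424 D21711 (iv D20121)
def n21712 : Q := act 1 n16406
theorem D21712 : act 1 n16406 = n21712 := rfl
theorem F42072 : act 2 n21712 = n16409 := d6_2 D16406 D21712 (iv D16409) (iv D12276) D12275
theorem F42073 : act 4 n21712 = n17068 := d8_2 (iv F28425) D21712 (iv D17068)
def n21713 : Q := act 3 n16406
theorem D21713 : act 3 n16406 = n21713 := rfl
def n21714 : Q := act 5 n16406
theorem D21714 : act 5 n16406 = n21714 := rfl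
theorem F42074 : act 2 n21714 = n16407 := d13_1 D21714 (iv D16407) D16406
theorem F42075 : act 4 n21714 = n17070 := d18_1 D21714 (iv D17070) (iv F28425)
def n21715 : Q := act 6 n16406
theorem D21715 : act 6 n16406 = n21715 := rfl
theorem F42076 : act 0 n21715 = n20121 := d5_1 D21715 (iv F42071) F42069
theorem F42077 : act 2 n21715 = n16408 := d14_1 D21715 (iv D16408) D16406
theorem F42078 : act 4 n21715 = n17071 := d19_1 D21715 (iv D17071) (iv F28425)
theorem F42079 : act 5 n21263 = n21715 := d18_0 F42078 (iv F30022) (iv F41121)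
def n21716 : Q := act 0 n16409
theorem D21716 : act 0 n16409 = n21716 := rfl
theorem F42080 : act 4 n21716 = n17072 := d3_2 (iv F28431) D21716 (iv D17072)
def n21717 : Q := act 3 n16409
theorem D21717 : act 3 n16409 = n21717 := rfl
theorem F42081 : act 1 n21717 = n16410 := d7_1 D21717 (iv D16410) D16409
def n21718 : Q := act 5 n16409
theorem D21718 : act 5 n16409 = n21718 := rfl
theorem F42082 : act 1 n21718 = n16434 := d9_1 D21718 (iv D16434) (iv D12287) (iv F21647) D16409
theorem F42083 : act 4 n21718 = n17074 := d18_1 D21718 (iv D17074) (iv F28431)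
def n21719 : Q := act 6 n16409
theorem D21719 : act 6 n16409 = n21719 := rfl
theorem F42084 : act 4 n21719 = n17075 := d19_1 D21719 (iv D17075) (iv F28431)
def n21720 : Q := act 2 n16410
theorem D21720 : act 2 n16410 = n21720 := rfl
theorem F42085 : act 0 n21720 = n16411 := d1_1 D21720 (iv D16411) (iv F28432)
theorem F42086 : act 5 n21720 = n16436 := d13_2 (iv F28433) D21720 (iv D16436)
theorem F42087 : act 3 n21720 = n21439 := d21_1 D21720 (iv D21439) (iv D16224) (iv D12184) F17792 D10056 D12277 (iv F28432)
def n21721 : Q := act 4 n16410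
theorem D21721 : act 4 n16410 = n21721 := rfl
theorem F42088 : act 0 n21721 = n16412 := d3_1 D21721 (iv D16412) (iv F28432)
theorem F42089 : act 3 n21721 = n17076 := d15_1 D21721 (iv D17076) (iv D12670) (iv F21646) D16410
theorem F42090 : act 5 n21721 = n16437 := d18_2 (iv F28433) D21721 (iv D16437)
def n21722 : Q := act 1 n16411
theorem D21722 : act 1 n16411 = n21722 := rfl
def n21723 : Q := act 3 n16411
theorem D21723 : act 3 n16411 = n21723 := rfl
theorem F42091 : act 0 n21723 = n21439 := d2_1 D21723 (iv F42087) F42085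
theorem F42092 : act 2 n21723 = n21438 := d11_1 D21723 (iv D21438) (iv D16223) F21478 D12276 D16410 D21720 F42087 (iv D21439) (iv D16224) (iv D12184) F17792 D10056 D12277 D16411
theorem F42093 : act 5 n21723 = n16442 := d16_2 (iv F28434) D21723 (iv D16442)
def n21724 : Q := act 4 n16411
theorem D21724 : act 4 n16411 = n21724 := rfl
theorem F42094 : act 2 n21724 = n16412 := d12_1 D21724 (iv D16412) D16411
theorem F42095 : act 5 n21724 = n16443 := d18_2 (iv F28434) D21724 (iv D16443)
def n21725 : Q := act 6 n16411
theorem D21725 : act 6 n16411 = n21725 := rfl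
theorem F42096 : act 2 n21725 = n16413 := d14_1 D21725 (iv D16413) D16411
def n21726 : Q := act 6 n16412
theorem D21726 : act 6 n16412 = n21726 := rfl
theorem F42097 : act 3 n21726 = n17080 := d17_1 D21726 (iv D17080) (iv F28435)
theorem F42098 : act 4 n21726 = n16413 := d19_1 D21726 (iv D16413) D16412
def n21727 : Q := act 1 n16413
theorem D21727 : act 1 n16413 = n21727 := rfl
theorem F42099 : act 3 n21727 = n16414 := d7_2 (iv F28437) D21727 (iv D16414)
def n21728 : Q := act 0 n16414
theorem D21728 : act 0 n16414 = n21728 := rfl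
theorem F42100 : act 4 n21728 = n17082 := d3_2 (iv F28438) D21728 (iv D17082)
def n21729 : Q := act 2 n16414
theorem D21729 : act 2 n16414 = n21729 := rfl
theorem F42101 : act 1 n21729 = n16416 := d6_1 D21729 (iv D16416) (iv D12279) (iv F21649) D16414
theorem F42102 : act 4 n21729 = n17083 := d12_2 (iv F28438) D21729 (iv D17083)
def n21730 : Q := act 5 n16414
theorem D21730 : act 5 n16414 = n21730 := rfl
theorem F42103 : act 4 n21730 = n17084 := d18_1 D21730 (iv D17084) (iv F28438)
def n21731 : Q := act 2 n16415
theorem D21731 : act 2 n16415 = n21731 := rfl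
theorem F42104 : act 0 n21731 = n16416 := d1_1 D21731 (iv D16416) D16415
theorem F42105 : act 1 n21731 = n19694 := d6_1 D21731 F37056 F25261 (iv F27802) F28441
theorem F42106 : act 4 n21731 = n17085 := d12_2 (iv F28439) D21731 (iv D17085)
theorem F42107 : act 6 n21731 = n16418 := d14_2 (iv F28440) D21731 (iv D16418)
def n21732 : Q := act 3 n16416
theorem D21732 : act 3 n16416 = n21732 := rfl
theorem F42108 : act 4 n21732 = n20974 := d15_2 (iv F28442) D21732 (iv D20974) F39766 (iv D17086)
theorem F42109 : act 6 n21732 = n16420 := d17_2 (iv F28443) D21732 (iv D16420)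
def n21733 : Q := act 5 n16416
theorem D21733 : act 5 n16416 = n21733 := rfl
theorem F42110 : act 2 n21733 = n16417 := d13_1 D21733 (iv D16417) D16416
theorem F42111 : act 4 n21733 = n17087 := d18_1 D21733 (iv D17087) (iv F28442)
def n21734 : Q := act 3 n16418
theorem D21734 : act 3 n16418 = n21734 := rfl
theorem F42112 : act 0 n21734 = n16420 := d2_1 D21734 (iv D16420) (iv F28446)
theorem F42113 : act 1 n21734 = n20262 := d7_1 D21734 F38395 (iv F28447)
def n21735 : Q := act 5 n16418
theorem D21735 : act 5 n16418 = n21735 := rfl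
theorem F42114 : act 0 n21735 = n16421 := d4_1 D21735 (iv D16421) (iv F28446)
theorem F42115 : act 2 n21735 = n16419 := d13_1 D21735 (iv D16419) D16418
theorem F42116 : act 4 n21735 = n17089 := d18_1 D21735 (iv D17089) (iv F28448)
theorem F42117 : act 6 n21735 = n21733 := d22_1 D21735 (iv D21733) F28443 (iv F28446)
def n21736 : Q := act 2 n16420
theorem D21736 : act 2 n16420 = n21736 := rfl
def n21737 : Q := act 4 n16420
theorem D21737 : act 4 n16420 = n21737 := rfl
theorem F42118 : act 3 n21737 = n17091 := d15_1 D21737 (iv D17091) (iv D12680) (iv F21654) D16420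
theorem F42119 : act 6 n21737 = n20974 := d19_2 F42109 D21737 (iv F42108)
def n21738 : Q := act 5 n16420
theorem D21738 : act 5 n16420 = n21738 := rfl
theorem F42120 : act 3 n21738 = n16421 := d16_1 D21738 (iv D16421) D16420
def n21739 : Q := act 1 n16421
theorem D21739 : act 1 n16421 = n21739 := rfl
theorem F42121 : act 2 n21739 = n19713 := d6_2 (iv F28453) D21739 (iv D19713) F34698 (iv F21655)
theorem F42122 : act 4 n21739 = n17093 := d8_2 (iv F28454) D21739 (iv D17093)
def n21740 : Q := act 6 n16421
theorem D21740 : act 6 n16421 = n21740 := rfl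
theorem F42123 : act 0 n21740 = n21733 := d5_1 D21740 (iv F42117) F42114
theorem F42124 : act 2 n21740 = n16422 := d14_1 D21740 (iv D16422) (iv F28453)
theorem F42125 : act 4 n21740 = n17094 := d19_1 D21740 (iv D17094) (iv F28454)
theorem F42126 : act 5 n21740 = n21731 := d20_1 D21740 F42107 D21735 F42117 (iv D21733) F28443 D16421
def n21741 : Q := act 1 n16423
theorem D21741 : act 1 n16423 = n21741 := rfl
theorem F42127 : act 2 n21741 = n21582 := d6_2 D16423 D21741 (iv D21582) (iv D16320) (iv F21657)
theorem F42128 : act 4 n21741 = n17095 := d8_2 (iv F28460) D21741 (iv D17095)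
theorem F42129 : act 0 n16460 = n21741 := d3_3 F42128 F30286 (iv F28545)
def n21742 : Q := act 3 n16423
theorem D21742 : act 3 n16423 = n21742 := rfl
theorem F42130 : act 0 n21742 = n16427 := d2_1 D21742 (iv D16427) (iv F28459)
theorem F42131 : act 2 n21742 = n18851 := d11_1 D21742 (iv D18851) (iv D13729) (iv F24054) F37346 F21486 D12284 D16427 F37341 (iv D13731) (iv D10868) (iv F19278) D13702 F37342 D16423
def n21743 : Q := act 5 n16423
theorem D21743 : act 5 n16423 = n21743 := rfl
theorem F42132 : act 0 n21743 = n16428 := d4_1 D21743 (iv D16428) (iv F28459)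
theorem F42133 : act 2 n21743 = n16424 := d13_1 D21743 (iv D16424) D16423
theorem F42134 : act 4 n21743 = n17097 := d18_1 D21743 (iv D17097) (iv F28460)
theorem F42135 : act 6 n21743 = n21170 := d22_1 D21743 F40905 (iv D16429) (iv F28459)
def n21744 : Q := act 6 n16423
theorem D21744 : act 6 n16423 = n21744 := rfl
theorem F42136 : act 0 n21744 = n16429 := d5_1 D21744 (iv D16429) (iv F28459)
theorem F42137 : act 2 n21744 = n16425 := d14_1 D21744 (iv D16425) D16423
theorem F42138 : act 4 n21744 = n16910 := d19_1 D21744 F39608 (iv F28460)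
theorem F42139 : act 5 n21744 = n16909 := d20_1 D21744 (iv F39621) (iv D16428) D16429 (iv F40905) (iv F42135) (iv D21743)
def n21745 : Q := act 0 n16426
theorem D21745 : act 0 n16426 = n21745 := rfl
theorem F42140 : act 1 n21745 = n16462 := d0_2 D16426 D21745 (iv D16462) (iv D12303) (iv F21690) D16460 F42129 (iv D21741) F28459
theorem F42141 : act 2 n21745 = n16432 := d1_2 (iv F28467) D21745 (iv D16432)
theorem F42142 : act 4 n21745 = n17099 := d3_2 (iv F28468) D21745 (iv D17099)
theorem F42143 : act 6 n21512 = n21745 := d19_0 F42142 (iv F35582) (iv F41638)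
def n21746 : Q := act 3 n16426
theorem D21746 : act 3 n16426 = n21746 := rfl
theorem F42144 : act 1 n21746 = n16427 := d7_1 D21746 (iv D16427) D16426
theorem F42145 : act 2 n21746 = n18941 := d25_19 (iv F3481) (iv F6911) (iv F14005) (iv F17926) (iv D10083) (iv F17875) (iv D10062) (iv D5191) (iv F7861) D10017 F17800 D12190 D16238 (iv F28485) (iv D16436) (iv F28481) (iv D16433) (iv F28467) D21746 (iv D18941) (iv F24251) (iv D13805) (iv D10906) (iv D8056) F17037 F5915 F16779 (iv F3111) (iv F6172) F16727 F32868 F32848 (iv D1053) (iv F1794) D2090 F3328 (iv F32903) (iv D1866) F1635 D949 F1666 D971 (iv F15735) F1990 F1103 (iv F593) F363 D189 F32901 (iv D189) F15745 F313 F15730 (iv F1103) (iv F1990) F15735 (iv F3098) (iv D1933) (iv D949) (iv F1635) D1866 F15563 F32903 (iv D2090) F1794 D1053 (iv F2935) D3755 (iv F16727) F6172 F3111 F15436 (iv F3015) D3882 F32928 (iv D4353) (iv F15126)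
def n21747 : Q := act 5 n16426
theorem D21747 : act 5 n16426 = n21747 := rfl
theorem F42146 : act 2 n21747 = n16434 := d13_1 D21747 (iv D16434) (iv F28467)
theorem F42147 : act 4 n21747 = n17101 := d18_1 D21747 (iv D17101) (iv F28468)
def n21748 : Q := act 6 n16426
theorem D21748 : act 6 n16426 = n21748 := rfl
theorem F42148 : act 0 n21748 = n21512 := d5_1 D21748 F42143 (iv D21745)
theorem F42149 : act 2 n21748 = n16435 := d14_1 D21748 (iv D16435) (iv F28467)
theorem F42150 : act 4 n21748 = n17102 := d19_1 D21748 (iv D17102) (iv F28468)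
def n21749 : Q := act 4 n16427
theorem D21749 : act 4 n16427 = n21749 := rfl
theorem F42151 : act 2 n21749 = n18855 := d12_1 D21749 (iv D18855) (iv F37341)
theorem F42152 : act 3 n21749 = n17104 := d15_1 D21749 (iv D17104) (iv D12687) (iv F21659) D16427
theorem F42153 : act 5 n21592 = n21749 := d16_0 F42152 F39808 (iv F41812)
def n21750 : Q := act 5 n16427
theorem D21750 : act 5 n16427 = n21750 := rfl
theorem F42154 : act 2 n21750 = n18856 := d13_1 D21750 (iv D18856) (iv F37341)
theorem F42155 : act 3 n21750 = n16428 := d16_1 D21750 (iv D16428) D16427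
theorem F42156 : act 4 n21750 = n21592 := d18_1 D21750 F42153 (iv D21749)
theorem F42157 : act 6 n21590 = n21750 := d19_0 F42156 (iv D21592) D21590
def n21751 : Q := act 6 n16427
theorem D21751 : act 6 n16427 = n21751 := rfl
theorem F42158 : act 2 n21751 = n18840 := d14_1 D21751 F33727 (iv F37341)
theorem F42159 : act 3 n21751 = n16429 := d17_1 D21751 (iv D16429) D16427
def n21752 : Q := act 1 n16428
theorem D21752 : act 1 n16428 = n21752 := rfl
theorem F42160 : act 4 n21752 = n17107 := d8_2 (iv F28470) D21752 (iv D17107)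
def n21753 : Q := act 1 n16429
theorem D21753 : act 1 n16429 = n21753 := rfl
theorem F42161 : act 4 n21753 = n17109 := d8_2 (iv F28472) D21753 (iv D17109)
def n21754 : Q := act 2 n16431
theorem D21754 : act 2 n16431 = n21754 := rfl
theorem F42162 : act 4 n21754 = n17110 := d12_2 (iv F28477) D21754 (iv D17110)
theorem F42163 : act 5 n21754 = n21109 := d13_2 (iv F28478) D21754 (iv D21109)
theorem F42164 : act 6 n21754 = n16440 := d14_2 (iv F28479) D21754 (iv D16440)
def n21755 : Q := act 1 n16432
theorem D21755 : act 1 n16432 = n21755 := rfl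
theorem F42165 : act 0 n21755 = n16501 := d0_1 D21755 (iv D16501) (iv D12321) (iv D10081) F7975 (iv F7897) (iv F17870) D12287 D16432
theorem F42166 : act 2 n21755 = n16468 := d6_2 F42141 D21755 (iv D16468) (iv F28549) (iv F42140)
theorem F42167 : act 4 n21755 = n17111 := d8_2 (iv F28480) D21755 (iv D17111)
def n21756 : Q := act 3 n16432
theorem D21756 : act 3 n16432 = n21756 := rfl
theorem F42168 : act 0 n21756 = n16433 := d2_1 D21756 (iv D16433) D16432
def n21757 : Q := act 5 n16432
theorem D21757 : act 5 n16432 = n21757 := rfl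
theorem F42169 : act 0 n21757 = n16434 := d4_1 D21757 (iv D16434) D16432
theorem F42170 : act 4 n21757 = n17113 := d18_1 D21757 (iv D17113) (iv F28480)
def n21758 : Q := act 6 n16432
theorem D21758 : act 6 n16432 = n21758 := rfl
theorem F42171 : act 0 n21758 = n16435 := d5_1 D21758 (iv D16435) D16432
theorem F42172 : act 2 n21758 = n21512 := d14_1 D21758 F42143 F42141
theorem F42173 : act 4 n21758 = n17114 := d19_1 D21758 (iv D17114) (iv F28480)
theorem F42174 : act 1 n21511 = n21758 := d8_3 F42173 (iv F35585) (iv F41636)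
def n21759 : Q := act 2 n16433
theorem D21759 : act 2 n16433 = n21759 := rfl
def n21760 : Q := act 4 n16433
theorem D21760 : act 4 n16433 = n21760 := rfl
theorem F42175 : act 1 n21760 = n16437 := d8_1 D21760 (iv D16437) (iv F28481)
theorem F42176 : act 3 n21760 = n17116 := d15_1 D21760 (iv D17116) (iv D12693) (iv F21662) D16433
def n21761 : Q := act 5 n16433
theorem D21761 : act 5 n16433 = n21761 := rfl
theorem F42177 : act 3 n21761 = n16434 := d16_1 D21761 (iv D16434) D16433
def n21762 : Q := act 6 n16433
theorem D21762 : act 6 n16433 = n21762 := rfl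
theorem F42178 : act 3 n21762 = n16435 := d17_1 D21762 (iv D16435) D16433
def n21763 : Q := act 6 n16434
theorem D21763 : act 6 n16434 = n21763 := rfl
theorem F42179 : act 4 n21763 = n17119 := d19_1 D21763 (iv D17119) (iv F28482)
theorem F42180 : act 5 n21763 = n21758 := d22_2 D16434 D21763 (iv D21758) (iv D16432)
def n21764 : Q := act 1 n16435
theorem D21764 : act 1 n16435 = n21764 := rfl
theorem F42181 : act 4 n21764 = n17120 := d8_2 (iv F28483) D21764 (iv D17120)
theorem F42182 : act 6 n21764 = n16439 := d10_2 D16435 D21764 (iv D16439) (iv D12289) D12287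
def n21765 : Q := act 5 n16435
theorem D21765 : act 5 n16435 = n21765 := rfl
theorem F42183 : act 0 n21765 = n21763 := d4_1 D21765 F42180 F42171
theorem F42184 : act 4 n21765 = n17121 := d18_1 D21765 (iv D17121) (iv F28483)
theorem F42185 : act 6 n21765 = n21757 := d20_2 D16435 D21765 (iv D21757) D21758 (iv F42180) (iv D21763) (iv D16434)
def n21766 : Q := act 1 n16436
theorem D21766 : act 1 n16436 = n21766 := rfl
theorem F42186 : act 3 n21766 = n21461 := d7_2 (iv F28485) D21766 (iv D21461)
def n21767 : Q := act 4 n16436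
theorem D21767 : act 4 n16436 = n21767 := rfl
theorem F42187 : act 0 n21767 = n16443 := d3_1 D21767 (iv D16443) (iv F28484)
theorem F42188 : act 2 n21767 = n16437 := d12_1 D21767 (iv D16437) D16436
def n21768 : Q := act 6 n16436
theorem D21768 : act 6 n16436 = n21768 := rfl
theorem F42189 : act 0 n21768 = n16444 := d5_1 D21768 (iv D16444) (iv F28484)
theorem F42190 : act 2 n21768 = n16438 := d14_1 D21768 (iv D16438) D16436
theorem F42191 : act 3 n21768 = n21463 := d17_1 D21768 (iv D21463) (iv F28485)
theorem F42192 : act 5 n21768 = n21725 := d22_2 F42086 D21768 (iv D21725) (iv F42085)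
def n21769 : Q := act 6 n16437
theorem D21769 : act 6 n16437 = n21769 := rfl
theorem F42193 : act 0 n21769 = n16445 := d5_1 D21769 (iv D16445) (iv F28486)
theorem F42194 : act 3 n21769 = n17122 := d17_1 D21769 (iv D17122) (iv F28487)
theorem F42195 : act 4 n21769 = n16438 := d19_1 D21769 (iv D16438) D16437
theorem F42196 : act 5 n21769 = n21726 := d22_2 F42090 D21769 (iv D21726) (iv F42088)
def n21770 : Q := act 1 n16438
theorem D21770 : act 1 n16438 = n21770 := rfl
theorem F42197 : act 3 n21770 = n16439 := d7_2 (iv F28489) D21770 (iv D16439)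
def n21771 : Q := act 2 n16439
theorem D21771 : act 2 n16439 = n21771 := rfl
theorem F42198 : act 1 n21771 = n16440 := d6_1 D21771 (iv D16440) (iv D12290) (iv F21665) D16439
theorem F42199 : act 4 n21771 = n17125 := d12_2 (iv F28491) D21771 (iv D17125)
def n21772 : Q := act 5 n16439
theorem D21772 : act 5 n16439 = n21772 := rfl
theorem F42200 : act 1 n21772 = n21730 := d9_1 D21772 (iv D21730) (iv D16414) (iv F21667) D16439
theorem F42201 : act 4 n21772 = n17126 := d18_1 D21772 (iv D17126) (iv F28491)
def n21773 : Q := act 3 n16440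
theorem D21773 : act 3 n16440 = n21773 := rfl
def n21774 : Q := act 0 n16441
theorem D21774 : act 0 n16441 = n21774 := rfl
theorem F42202 : act 2 n21774 = n16511 := d1_2 (iv F28493) D21774 (iv D16511)
def n21775 : Q := act 3 n16441
theorem D21775 : act 3 n16441 = n21775 := rfl
theorem F42203 : act 1 n21775 = n16442 := d7_1 D21775 (iv D16442) D16441
def n21776 : Q := act 4 n16441
theorem D21776 : act 4 n16441 = n21776 := rfl
theorem F42204 : act 1 n21776 = n16443 := d8_1 D21776 (iv D16443) D16441
theorem F42205 : act 2 n21776 = n16512 := d12_1 D21776 (iv D16512) (iv F28493)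
def n21777 : Q := act 5 n16441
theorem D21777 : act 5 n16441 = n21777 := rfl
theorem F42206 : act 2 n21777 = n16513 := d13_1 D21777 (iv D16513) (iv F28493)
def n21778 : Q := act 6 n16441
theorem D21778 : act 6 n16441 = n21778 := rfl
theorem F42207 : act 2 n21778 = n16514 := d14_1 D21778 (iv D16514) (iv F28493)
def n21779 : Q := act 4 n16442
theorem D21779 : act 4 n16442 = n21779 := rfl
theorem F42208 : act 0 n21779 = n21462 := d3_1 D21779 (iv D21462) (iv F28494)
theorem F42209 : act 2 n21779 = n21457 := d12_1 D21779 (iv D21457) (iv F28495)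
def n21780 : Q := act 6 n16442
theorem D21780 : act 6 n16442 = n21780 := rfl
theorem F42210 : act 0 n21780 = n21463 := d5_1 D21780 (iv D21463) (iv F28494)
theorem F42211 : act 2 n21780 = n21458 := d14_1 D21780 (iv D21458) (iv F28495)
theorem F42212 : act 3 n21780 = n16444 := d17_1 D21780 (iv D16444) D16442
def n21781 : Q := act 3 n16443
theorem D21781 : act 3 n16443 = n21781 := rfl
def n21782 : Q := act 6 n16443
theorem D21782 : act 6 n16443 = n21782 := rfl
theorem F42213 : act 2 n21782 = n16445 := d14_1 D21782 (iv D16445) (iv F28496)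
theorem F42214 : act 4 n21782 = n16444 := d19_1 D21782 (iv D16444) D16443
def n21783 : Q := act 1 n16444
theorem D21783 : act 1 n16444 = n21783 := rfl
def n21784 : Q := act 5 n16444
theorem D21784 : act 5 n16444 = n21784 := rfl
theorem F42215 : act 0 n21784 = n21725 := d4_1 D21784 (iv F42192) F42189
theorem F42216 : act 2 n21784 = n16446 := d13_1 D21784 (iv D16446) (iv F28497)
theorem F42217 : act 6 n21784 = n21720 := d20_2 D16444 D21784 F42086 D21768 F42192 (iv D21725) F28434
def n21785 : Q := act 5 n16445
theorem D21785 : act 5 n16445 = n21785 := rfl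
theorem F42218 : act 0 n21785 = n21726 := d4_1 D21785 (iv F42196) F42193
theorem F42219 : act 3 n21785 = n17136 := d16_1 D21785 (iv D17136) (iv F28498)
theorem F42220 : act 4 n21785 = n16446 := d18_1 D21785 (iv D16446) (iv F28499)
theorem F42221 : act 6 n21785 = n21721 := d20_2 D16445 D21785 F42090 D21769 F42196 (iv D21726) F28436
def n21786 : Q := act 1 n16446
theorem D21786 : act 1 n16446 = n21786 := rfl
theorem F42222 : act 3 n21786 = n16447 := d7_2 (iv F28501) D21786 (iv D16447)
def n21787 : Q := act 0 n16447
theorem D21787 : act 0 n16447 = n21787 := rfl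
theorem F42223 : act 4 n21787 = n17138 := d3_2 (iv F28503) D21787 (iv D17138)
def n21788 : Q := act 2 n16447
theorem D21788 : act 2 n16447 = n21788 := rfl
theorem F42224 : act 1 n21788 = n16449 := d6_1 D21788 (iv D16449) (iv D12295) (iv F21673) D16447
theorem F42225 : act 4 n21788 = n17139 := d12_2 (iv F28503) D21788 (iv D17139)
def n21789 : Q := act 6 n16447
theorem D21789 : act 6 n16447 = n21789 := rfl
theorem F42226 : act 1 n21789 = n21719 := d10_1 D21789 (iv D21719) (iv D16409) (iv F21675) D16447
theorem F42227 : act 4 n21789 = n17140 := d19_1 D21789 (iv D17140) (iv F28503)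
def n21790 : Q := act 2 n16448
theorem D21790 : act 2 n16448 = n21790 := rfl
theorem F42228 : act 0 n21790 = n16449 := d1_1 D21790 (iv D16449) D16448
theorem F42229 : act 4 n21790 = n17141 := d12_2 (iv F28504) D21790 (iv D17141)
theorem F42230 : act 5 n21790 = n20333 := d13_2 (iv F28505) D21790 (iv D20333)
theorem F42231 : act 6 n21790 = n20902 := d14_2 F38573 D21790 F40160
theorem F42232 : act 3 n20887 = n21790 := d17_3 F42231 F40161 (iv F40118)
def n21791 : Q := act 6 n16449
theorem D21791 : act 6 n16449 = n21791 := rfl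
theorem F42233 : act 0 n21791 = n20902 := d5_1 D21791 (iv F42231) F42228
theorem F42234 : act 2 n21791 = n16450 := d14_1 D21791 (iv D16450) D16449
theorem F42235 : act 3 n21791 = n20911 := d17_1 D21791 F40193 F39716
theorem F42236 : act 4 n21791 = n17143 := d19_1 D21791 (iv D17143) (iv F28506)
theorem F42237 : act 5 n21791 = n21288 := d20_1 D21791 F41165 (iv F42230) F42231 F40162 (iv D20335) (iv F28507)
def n21792 : Q := act 6 n16451
theorem D21792 : act 6 n16451 = n21792 := rfl
theorem F42238 : act 2 n21792 = n18299 := d14_1 D21792 F32041 F32005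
theorem F42239 : act 3 n21792 = n16458 := d17_1 D21792 (iv D16458) (iv F28511)
theorem F42240 : act 4 n21792 = n18337 := d19_1 D21792 F32165 F32123
theorem F42241 : act 5 n21792 = n18298 := d22_2 F32026 D21792 (iv D18298) (iv F32024)
def n21793 : Q := act 5 n16452
theorem D21793 : act 5 n16452 = n21793 := rfl
theorem F42242 : act 0 n21793 = n16454 := d4_1 D21793 (iv D16454) (iv F28512)
theorem F42243 : act 2 n21793 = n18240 := d13_1 D21793 F34088 F34085
theorem F42244 : act 3 n21793 = n17145 := d16_1 D21793 (iv F30111) (iv F28513)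
theorem F42245 : act 4 n21793 = n16453 := d18_1 D21793 (iv D16453) D16452
theorem F42246 : act 6 n21793 = n21534 := d22_1 D21793 (iv D21534) F28204 (iv F28512)
def n21794 : Q := act 6 n16454
theorem D21794 : act 6 n16454 = n21794 := rfl
theorem F42247 : act 0 n21794 = n21534 := d5_1 D21794 (iv F42246) F42242
theorem F42248 : act 2 n21794 = n18241 := d14_1 D21794 (iv D18241) (iv F28518)
theorem F42249 : act 3 n21794 = n16845 := d17_1 D21794 F29711 F28521
theorem F42250 : act 4 n21794 = n16455 := d19_1 D21794 (iv D16455) (iv F28520)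
theorem F42251 : act 5 n21794 = n21533 := d20_1 D21794 F41689 D21793 F42246 (iv D21534) F28204 D16454
def n21795 : Q := act 1 n16455
theorem D21795 : act 1 n16455 = n21795 := rfl
theorem F42252 : act 3 n21795 = n16459 := d7_2 (iv F28537) D21795 (iv D16459)
theorem F42253 : act 6 n21795 = n21795 := d10_2 D16455 D21795 (iv D21795) (iv D16455) F21681
def n21796 : Q := act 6 n16456
theorem D21796 : act 6 n16456 = n21796 := rfl
theorem F42254 : act 0 n21796 = n16458 := d5_1 D21796 (iv D16458) D16456
theorem F42255 : act 2 n21796 = n19570 := d14_1 D21796 (iv D19570) F29243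
theorem F42256 : act 4 n21796 = n17148 := d19_1 D21796 (iv D17148) (iv F28540)
theorem F42257 : act 5 n21796 = n21166 := d22_2 F32034 D21796 (iv D21166) (iv F32032)
def n21797 : Q := act 6 n16457
theorem D21797 : act 6 n16457 = n21797 := rfl
theorem F42258 : act 0 n21797 = n19570 := d5_1 D21797 (iv D19570) (iv F29242)
theorem F42259 : act 1 n21797 = n18655 := d10_1 D21797 F33380 D19400 (iv F36298) F29241
theorem F42260 : act 2 n21797 = n16458 := d14_1 D21797 (iv D16458) D16457
theorem F42261 : act 4 n21797 = n17150 := d19_1 D21797 (iv D17150) (iv F28541)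
def n21798 : Q := act 5 n16458
theorem D21798 : act 5 n16458 = n21798 := rfl
theorem F42262 : act 0 n21798 = n21166 := d4_1 D21798 (iv F42257) F42254
theorem F42263 : act 3 n21798 = n18298 := d16_1 D21798 (iv F42241) F42239
theorem F42264 : act 4 n21798 = n17151 := d18_1 D21798 (iv D17151) (iv F28542)
theorem F42265 : act 6 n21798 = n18297 := d20_2 D16458 D21798 F32034 D21796 F42257 (iv D21166) F27671
theorem F42266 : act 1 n21798 = n21251 := d24_2 D16458 D21798 (iv D21251) D21250 F41083 (iv F41104) (iv D21255) (iv F28219) (iv D16301) (iv F28215) (iv D16298) (iv F21686) (iv D12300) D12299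
def n21799 : Q := act 0 n16459
theorem D21799 : act 0 n16459 = n21799 := rfl
theorem F42267 : act 4 n21799 = n17158 := d3_2 (iv F28543) D21799 (iv D17158)
theorem F42268 : act 6 n21799 = n21799 := d5_2 F28544 D21799 (iv D21799)
def n21800 : Q := act 2 n16459
theorem D21800 : act 2 n16459 = n21800 := rfl
theorem F42269 : act 4 n21800 = n17159 := d12_2 (iv F28543) D21800 (iv D17159)
theorem F42270 : act 6 n21800 = n21800 := d14_2 F28544 D21800 (iv D21800)
def n21801 : Q := act 5 n16459
theorem D21801 : act 5 n16459 = n21801 := rfl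
theorem F42271 : act 1 n21801 = n21543 := d9_1 D21801 (iv D21543) (iv D16297) (iv F21689) D16459
theorem F42272 : act 4 n21801 = n17160 := d18_1 D21801 (iv D17160) (iv F28543)
def n21802 : Q := act 3 n16460
theorem D21802 : act 3 n16460 = n21802 := rfl
theorem F42273 : act 1 n21802 = n16461 := d7_1 D21802 (iv D16461) D16460
def n21803 : Q := act 5 n16460
theorem D21803 : act 5 n16460 = n21803 := rfl
theorem F42274 : act 1 n21803 = n16464 := d9_1 D21803 (iv D16464) (iv D12303) (iv F21692) D16460
theorem F42275 : act 4 n21803 = n17163 := d18_1 D21803 (iv D17163) (iv F28545)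
def n21804 : Q := act 6 n16460
theorem D21804 : act 6 n16460 = n21804 := rfl
theorem F42276 : act 1 n21804 = n19803 := d10_1 D21804 (iv D19803) (iv D14540) (iv F21693) D16460
theorem F42277 : act 4 n21804 = n17164 := d19_1 D21804 (iv D17164) (iv F28545)
def n21805 : Q := act 4 n16461
theorem D21805 : act 4 n16461 = n21805 := rfl
theorem F42278 : act 0 n21805 = n16467 := d3_1 D21805 (iv D16467) (iv F28546)
theorem F42279 : act 3 n21805 = n17165 := d15_1 D21805 (iv D17165) (iv D12730) (iv F21691) D16461
theorem F42280 : act 5 n21805 = n16467 := d18_2 (iv F28547) D21805 (iv D16467)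
theorem F42281 : act 6 n21805 = n19804 := d19_2 (iv F28548) D21805 (iv D19804)
def n21806 : Q := act 3 n16462
theorem D21806 : act 3 n16462 = n21806 := rfl
theorem F42282 : act 0 n21806 = n16463 := d2_1 D21806 (iv D16463) D16462
def n21807 : Q := act 5 n16462
theorem D21807 : act 5 n16462 = n21807 := rfl
theorem F42283 : act 0 n21807 = n16464 := d4_1 D21807 (iv D16464) D16462
theorem F42284 : act 2 n21807 = n16470 := d13_1 D21807 (iv D16470) (iv F28549)
theorem F42285 : act 4 n21807 = n17168 := d18_1 D21807 (iv D17168) (iv F28550)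
def n21808 : Q := act 6 n16462
theorem D21808 : act 6 n16462 = n21808 := rfl
theorem F42286 : act 0 n21808 = n16465 := d5_1 D21808 (iv D16465) D16462
theorem F42287 : act 1 n21808 = n21486 := d10_1 D21808 F41583 D21512 F42143 F42140
theorem F42288 : act 2 n21808 = n16471 := d14_1 D21808 (iv D16471) (iv F28549)
theorem F42289 : act 4 n21808 = n17169 := d19_1 D21808 (iv D17169) (iv F28550)
def n21809 : Q := act 2 n16463
theorem D21809 : act 2 n16463 = n21809 := rfl
def n21810 : Q := act 4 n16463
theorem D21810 : act 4 n16463 = n21810 := rfl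
theorem F42290 : act 1 n21810 = n16467 := d8_1 D21810 (iv D16467) (iv F28551)
theorem F42291 : act 3 n21810 = n17171 := d15_1 D21810 (iv D17171) (iv D12732) (iv F21695) D16463
def n21811 : Q := act 5 n16463
theorem D21811 : act 5 n16463 = n21811 := rfl
theorem F42292 : act 3 n21811 = n16464 := d16_1 D21811 (iv D16464) D16463
def n21812 : Q := act 6 n16463
theorem D21812 : act 6 n16463 = n21812 := rfl
theorem F42293 : act 1 n21812 = n19744 := d10_1 D21812 F37213 F25345 (iv F21696) (iv F28551)
theorem F42294 : act 3 n21812 = n16465 := d17_1 D21812 (iv D16465) D16463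
def n21813 : Q := act 6 n16464
theorem D21813 : act 6 n16464 = n21813 := rfl
theorem F42295 : act 2 n21813 = n16476 := d14_1 D21813 (iv D16476) (iv F28552)
theorem F42296 : act 4 n21813 = n17174 := d19_1 D21813 (iv D17174) (iv F28553)
theorem F42297 : act 5 n21813 = n21808 := d22_2 D16464 D21813 (iv D21808) (iv D16462)
def n21814 : Q := act 5 n16465
theorem D21814 : act 5 n16465 = n21814 := rfl
theorem F42298 : act 0 n21814 = n21813 := d4_1 D21814 F42297 F42286
theorem F42299 : act 2 n21814 = n16477 := d13_1 D21814 (iv D16477) (iv F28555)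
theorem F42300 : act 4 n21814 = n17175 := d18_1 D21814 (iv D17175) (iv F28556)
theorem F42301 : act 6 n21814 = n21807 := d20_2 D16465 D21814 (iv D21807) D21808 (iv F42297) (iv D21813) (iv D16464)
def n21815 : Q := act 1 n16466
theorem D21815 : act 1 n16466 = n21815 := rfl
def n21816 : Q := act 4 n16466
theorem D21816 : act 4 n16466 = n21816 := rfl
theorem F42302 : act 2 n21816 = n16467 := d12_1 D21816 (iv D16467) D16466
theorem F42303 : act 6 n21816 = n19806 := d19_2 (iv F28557) D21816 (iv D19806)
def n21817 : Q := act 3 n16468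
theorem D21817 : act 3 n16468 = n21817 := rfl
theorem F42304 : act 1 n21817 = n16469 := d7_1 D21817 (iv D16469) D16468
def n21818 : Q := act 5 n16468
theorem D21818 : act 5 n16468 = n21818 := rfl
theorem F42305 : act 4 n21818 = n17180 := d18_1 D21818 (iv D17180) (iv F28560)
def n21819 : Q := act 6 n16468
theorem D21819 : act 6 n16468 = n21819 := rfl
theorem F42306 : act 4 n21819 = n17181 := d19_1 D21819 (iv D17181) (iv F28560)
theorem F42307 : act 1 n21112 = n21819 := d8_3 F42306 (iv F35579) (iv F40751)
def n21820 : Q := act 2 n16469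
theorem D21820 : act 2 n16469 = n21820 := rfl
theorem F42308 : act 0 n21820 = n16472 := d1_1 D21820 (iv D16472) (iv F28561)
def n21821 : Q := act 4 n16469
theorem D21821 : act 4 n16469 = n21821 := rfl
theorem F42309 : act 0 n21821 = n16473 := d3_1 D21821 (iv D16473) (iv F28561)
theorem F42310 : act 3 n21821 = n17183 := d15_1 D21821 (iv D17183) (iv D12738) (iv F21697) D16469
def n21822 : Q := act 5 n16469
theorem D21822 : act 5 n16469 = n21822 := rfl
theorem F42311 : act 0 n21822 = n16474 := d4_1 D21822 (iv D16474) (iv F28561)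
theorem F42312 : act 3 n21822 = n16470 := d16_1 D21822 (iv D16470) D16469
def n21823 : Q := act 6 n16469
theorem D21823 : act 6 n16469 = n21823 := rfl
theorem F42313 : act 0 n21823 = n16475 := d5_1 D21823 (iv D16475) (iv F28561)
theorem F42314 : act 3 n21823 = n16471 := d17_1 D21823 (iv D16471) D16469
def n21824 : Q := act 1 n16470
theorem D21824 : act 1 n16470 = n21824 := rfl
theorem F42315 : act 4 n21824 = n17186 := d8_2 (iv F28563) D21824 (iv D17186)
theorem F42316 : act 0 n19256 = n21824 := d3_3 F42315 F34136 (iv F35909)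
def n21825 : Q := act 1 n16471
theorem D21825 : act 1 n16471 = n21825 := rfl
theorem F42317 : act 2 n21825 = n21113 := d6_2 F42288 D21825 F40753 D21486 (iv F42287)
theorem F42318 : act 4 n21825 = n17187 := d8_2 (iv F28565) D21825 (iv D17187)
theorem F42319 : act 6 n21825 = n21112 := d10_2 D16471 D21825 F42307 (iv D21819) (iv D16468)
theorem F42320 : act 0 n21754 = n21825 := d5_3 F42319 F40749 (iv F42164)
def n21826 : Q := act 3 n16472
theorem D21826 : act 3 n16472 = n21826 := rfl
theorem F42321 : act 1 n21826 = n20400 := d7_1 D21826 (iv D20400) (iv F28566)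
def n21827 : Q := act 4 n16472
theorem D21827 : act 4 n16472 = n21827 := rfl
theorem F42322 : act 1 n21827 = n20395 := d8_1 D21827 F38700 (iv F28566)
theorem F42323 : act 2 n21827 = n16473 := d12_1 D21827 (iv D16473) D16472
def n21828 : Q := act 5 n16472
theorem D21828 : act 5 n16472 = n21828 := rfl
theorem F42324 : act 2 n21828 = n16474 := d13_1 D21828 (iv D16474) D16472
def n21829 : Q := act 6 n16472
theorem D21829 : act 6 n16472 = n21829 := rfl
theorem F42325 : act 2 n21829 = n16475 := d14_1 D21829 (iv D16475) D16472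
def n21830 : Q := act 5 n16473
theorem D21830 : act 5 n16473 = n21830 := rfl
theorem F42326 : act 3 n21830 = n17192 := d16_1 D21830 (iv D17192) (iv F28568)
theorem F42327 : act 4 n21830 = n16474 := d18_1 D21830 (iv D16474) D16473
def n21831 : Q := act 6 n16473
theorem D21831 : act 6 n16473 = n21831 := rfl
theorem F42328 : act 1 n21831 = n19739 := d10_1 D21831 (iv D19739) F25326 (iv F21705) (iv F28567)
theorem F42329 : act 3 n21831 = n17193 := d17_1 D21831 (iv D17193) (iv F28568)
theorem F42330 : act 4 n21831 = n16475 := d19_1 D21831 (iv D16475) D16473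
def n21832 : Q := act 6 n16474
theorem D21832 : act 6 n16474 = n21832 := rfl
theorem F42331 : act 3 n21832 = n16476 := d17_1 D21832 (iv D16476) (iv F28569)
theorem F42332 : act 5 n21832 = n21823 := d22_2 D16474 D21832 (iv D21823) F28561
def n21833 : Q := act 5 n16475
theorem D21833 : act 5 n16475 = n21833 := rfl
theorem F42333 : act 0 n21833 = n21832 := d4_1 D21833 F42332 F42313
theorem F42334 : act 3 n21833 = n16477 := d16_1 D21833 (iv D16477) (iv F28571)
theorem F42335 : act 6 n21833 = n21822 := d20_2 D16475 D21833 (iv D21822) D21823 (iv F42332) (iv D21832) (iv D16474)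
def n21834 : Q := act 1 n16476
theorem D21834 : act 1 n16476 = n21834 := rfl
theorem F42336 : act 4 n21834 = n17196 := d8_2 (iv F28572) D21834 (iv D17196)
def n21835 : Q := act 1 n16477
theorem D21835 : act 1 n16477 = n21835 := rfl
theorem F42337 : act 4 n21835 = n17197 := d8_2 (iv F28575) D21835 (iv D17197)
theorem F42338 : act 5 n21835 = n19741 := d9_2 D16477 D21835 (iv D19741) (iv D14507) (iv F21700)
def n21836 : Q := act 1 n16478
theorem D21836 : act 1 n16478 = n21836 := rfl
theorem F42339 : act 3 n21836 = n20391 := d7_2 (iv F28577) D21836 (iv D20391)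
def n21837 : Q := act 4 n16478
theorem D21837 : act 4 n16478 = n21837 := rfl
theorem F42340 : act 0 n21837 = n16479 := d3_1 D21837 (iv D16479) D16478
theorem F42341 : act 3 n21837 = n20683 := d15_1 D21837 F39249 F26697 (iv F26307) (iv F28577)
def n21838 : Q := act 5 n16478
theorem D21838 : act 5 n16478 = n21838 := rfl
theorem F42342 : act 0 n21838 = n16480 := d4_1 D21838 (iv D16480) D16478
theorem F42343 : act 3 n21838 = n20392 := d16_1 D21838 (iv D20392) (iv F28577)
def n21839 : Q := act 6 n16478
theorem D21839 : act 6 n16478 = n21839 := rfl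
theorem F42344 : act 0 n21839 = n16481 := d5_1 D21839 (iv D16481) D16478
theorem F42345 : act 3 n21839 = n20388 := d17_1 D21839 F38687 (iv F28577)
def n21840 : Q := act 5 n16479
theorem D21840 : act 5 n16479 = n21840 := rfl
theorem F42346 : act 1 n21840 = n21830 := d9_1 D21840 (iv D21830) F28567 (iv F21710) (iv F28578)
theorem F42347 : act 3 n21840 = n18847 := d16_1 D21840 (iv F33739) (iv F28579)
theorem F42348 : act 4 n21840 = n16480 := d18_1 D21840 (iv D16480) D16479
def n21841 : Q := act 6 n16479
theorem D21841 : act 6 n16479 = n21841 := rfl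
theorem F42349 : act 1 n21841 = n20384 := d10_1 D21841 (iv D20384) F26294 (iv F21711) (iv F28578)
theorem F42350 : act 3 n21841 = n20671 := d17_1 D21841 F39232 (iv F28579)
theorem F42351 : act 4 n21841 = n16481 := d19_1 D21841 (iv D16481) D16479
def n21842 : Q := act 6 n16480
theorem D21842 : act 6 n16480 = n21842 := rfl
theorem F42352 : act 3 n21842 = n20393 := d17_1 D21842 (iv D20393) (iv F28581)
theorem F42353 : act 5 n21842 = n21839 := d22_2 D16480 D21842 (iv D21839) (iv D16478)
def n21843 : Q := act 5 n16481
theorem D21843 : act 5 n16481 = n21843 := rfl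
theorem F42354 : act 0 n21843 = n21842 := d4_1 D21843 F42353 F42344
theorem F42355 : act 3 n21843 = n20389 := d16_1 D21843 (iv D20389) (iv F28583)
theorem F42356 : act 6 n21843 = n21838 := d20_2 D16481 D21843 (iv D21838) D21839 (iv F42353) (iv D21842) (iv D16480)
def n21844 : Q := act 5 n16482
theorem D21844 : act 5 n16482 = n21844 := rfl
theorem F42357 : act 2 n21844 = n18305 := d13_1 D21844 F32054 (iv F34581)
theorem F42358 : act 3 n21844 = n16489 := d16_1 D21844 (iv D16489) (iv F28584)
theorem F42359 : act 4 n21844 = n18350 := d18_1 D21844 F32178 F34579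
theorem F42360 : act 6 n21844 = n18304 := d22_1 D21844 (iv D18304) (iv F32019) (iv F34580)
def n21845 : Q := act 6 n16483
theorem D21845 : act 6 n16483 = n21845 := rfl
theorem F42361 : act 0 n21845 = n16485 := d5_1 D21845 (iv D16485) (iv F28585)
theorem F42362 : act 2 n21845 = n18251 := d14_1 D21845 F34667 F34570
theorem F42363 : act 3 n21845 = n17208 := d17_1 D21845 F34620 (iv F28586)
theorem F42364 : act 4 n21845 = n16484 := d19_1 D21845 (iv D16484) D16483
theorem F42365 : act 5 n21845 = n21693 := d22_2 F42033 D21845 (iv D21693) D21692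
def n21846 : Q := act 5 n16485
theorem D21846 : act 5 n16485 = n21846 := rfl
theorem F42366 : act 0 n21846 = n21693 := d4_1 D21846 (iv F42365) F42361
theorem F42367 : act 2 n21846 = n18253 := d13_1 D21846 (iv D18253) (iv F34624)
theorem F42368 : act 3 n21846 = n17037 := d16_1 D21846 F29984 (iv F34625)
theorem F42369 : act 4 n21846 = n16486 := d18_1 D21846 (iv D16486) (iv F28592)
theorem F42370 : act 6 n21846 = n21692 := d20_2 D16485 D21846 F42033 D21845 F42365 (iv D21693) F28406
def n21847 : Q := act 1 n16486
theorem D21847 : act 1 n16486 = n21847 := rfl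
theorem F42371 : act 3 n21847 = n16492 := d7_2 (iv F28594) D21847 (iv D16492)
theorem F42372 : act 5 n21847 = n21847 := d9_2 D16486 D21847 (iv D21847) (iv D16486) F21715
def n21848 : Q := act 5 n16487
theorem D21848 : act 5 n16487 = n21848 := rfl
theorem F42373 : act 0 n21848 = n16489 := d4_1 D21848 (iv D16489) D16487
theorem F42374 : act 2 n21848 = n19573 := d13_1 D21848 (iv D19573) F28598
theorem F42375 : act 4 n21848 = n17227 := d18_1 D21848 (iv D17227) (iv F28597)
theorem F42376 : act 6 n21848 = n21178 := d22_1 D21848 (iv D21178) F34845 D16487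
def n21849 : Q := act 5 n16488
theorem D21849 : act 5 n16488 = n21849 := rfl
theorem F42377 : act 0 n21849 = n19573 := d4_1 D21849 (iv D19573) (iv F28599)
theorem F42378 : act 1 n21849 = n18637 := d9_1 D21849 F33347 D19363 (iv F36193) (iv F28600)
theorem F42379 : act 2 n21849 = n16489 := d13_1 D21849 (iv D16489) D16488
theorem F42380 : act 4 n21849 = n17230 := d18_1 D21849 (iv D17230) (iv F28601)
def n21850 : Q := act 6 n16489
theorem D21850 : act 6 n16489 = n21850 := rfl
theorem F42381 : act 0 n21850 = n21178 := d5_1 D21850 (iv F42376) F42373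
theorem F42382 : act 3 n21850 = n18304 := d17_1 D21850 (iv F42360) F42358
theorem F42383 : act 4 n21850 = n17232 := d19_1 D21850 (iv D17232) (iv F28602)
theorem F42384 : act 5 n21850 = n18303 := d20_1 D21850 F34600 D21848 F42376 (iv D21178) F34845 D16489
theorem F42385 : act 1 n21289 = n21850 := d24_14 (iv D21850) (iv D16489) (iv D12315) D12316 F21720 D16401 F28417 D16404 F28421 D21293 F41184 F41170 (iv D21290) D21289
def n21851 : Q := act 0 n16492
theorem D21851 : act 0 n16492 = n21851 := rfl
theorem F42386 : act 4 n21851 = n17251 := d3_2 (iv F28605) D21851 (iv D17251)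
theorem F42387 : act 5 n21851 = n21851 := d4_2 F28606 D21851 (iv D21851)
def n21852 : Q := act 2 n16492
theorem D21852 : act 2 n16492 = n21852 := rfl
theorem F42388 : act 4 n21852 = n17252 := d12_2 (iv F28605) D21852 (iv D17252)
theorem F42389 : act 5 n21852 = n21852 := d13_2 F28606 D21852 (iv D21852)
def n21853 : Q := act 6 n16492
theorem D21853 : act 6 n16492 = n21853 := rfl
theorem F42390 : act 1 n21853 = n21703 := d10_1 D21853 (iv D21703) (iv D16400) (iv F21723) D16492
theorem F42391 : act 4 n21853 = n17253 := d19_1 D21853 (iv D17253) (iv F28605)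
def n21854 : Q := act 3 n16493
theorem D21854 : act 3 n16493 = n21854 := rfl
theorem F42392 : act 1 n21854 = n16494 := d7_1 D21854 (iv D16494) D16493
def n21855 : Q := act 5 n16493
theorem D21855 : act 5 n16493 = n21855 := rfl
theorem F42393 : act 1 n21855 = n19809 := d9_1 D21855 (iv D19809) (iv D14544) (iv F21726) D16493
theorem F42394 : act 2 n21855 = n21803 := d13_1 D21855 (iv D21803) (iv F28607)
theorem F42395 : act 4 n21855 = n17256 := d18_1 D21855 (iv D17256) (iv F28608)
def n21856 : Q := act 6 n16493
theorem D21856 : act 6 n16493 = n21856 := rfl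
theorem F42396 : act 1 n21856 = n16498 := d10_1 D21856 (iv D16498) (iv D12319) (iv F21727) D16493
theorem F42397 : act 2 n21856 = n21804 := d14_1 D21856 (iv D21804) (iv F28607)
theorem F42398 : act 4 n21856 = n17257 := d19_1 D21856 (iv D17257) (iv F28608)
def n21857 : Q := act 4 n16494
theorem D21857 : act 4 n16494 = n21857 := rfl
theorem F42399 : act 0 n21857 = n16500 := d3_1 D21857 (iv D16500) (iv F28609)
theorem F42400 : act 3 n21857 = n17258 := d15_1 D21857 (iv D17258) (iv D12775) (iv F21725) D16494
theorem F42401 : act 5 n21857 = n19811 := d18_2 (iv F28610) D21857 (iv D19811)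
theorem F42402 : act 6 n21857 = n16500 := d19_2 (iv F28611) D21857 (iv D16500)
def n21858 : Q := act 3 n16495
theorem D21858 : act 3 n16495 = n21858 := rfl
theorem F42403 : act 0 n21858 = n16496 := d2_1 D21858 (iv D16496) D16495
def n21859 : Q := act 5 n16495
theorem D21859 : act 5 n16495 = n21859 := rfl
theorem F42404 : act 0 n21859 = n16497 := d4_1 D21859 (iv D16497) D16495
theorem F42405 : act 1 n21859 = n21646 := d9_1 D21859 F41924 D21672 (iv F41986) F41798
theorem F42406 : act 2 n21859 = n16503 := d13_1 D21859 (iv D16503) (iv F28612)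
theorem F42407 : act 4 n21859 = n17261 := d18_1 D21859 (iv D17261) (iv F28613)
def n21860 : Q := act 6 n16495
theorem D21860 : act 6 n16495 = n21860 := rfl
theorem F42408 : act 0 n21860 = n16498 := d5_1 D21860 (iv D16498) D16495
theorem F42409 : act 2 n21860 = n16504 := d14_1 D21860 (iv D16504) (iv F28612)
theorem F42410 : act 4 n21860 = n17262 := d19_1 D21860 (iv D17262) (iv F28613)
def n21861 : Q := act 2 n16496
theorem D21861 : act 2 n16496 = n21861 := rfl
def n21862 : Q := act 4 n16496
theorem D21862 : act 4 n16496 = n21862 := rfl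
theorem F42411 : act 1 n21862 = n16500 := d8_1 D21862 (iv D16500) (iv F28614)
theorem F42412 : act 3 n21862 = n17264 := d15_1 D21862 (iv D17264) (iv D12777) (iv F21729) D16496
def n21863 : Q := act 5 n16496
theorem D21863 : act 5 n16496 = n21863 := rfl
theorem F42413 : act 1 n21863 = n19782 := d9_1 D21863 F37299 F25383 (iv F21730) (iv F28614)
theorem F42414 : act 3 n21863 = n16497 := d16_1 D21863 (iv D16497) D16496
def n21864 : Q := act 6 n16496
theorem D21864 : act 6 n16496 = n21864 := rfl
theorem F42415 : act 3 n21864 = n16498 := d17_1 D21864 (iv D16498) D16496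
def n21865 : Q := act 6 n16497
theorem D21865 : act 6 n16497 = n21865 := rfl
theorem F42416 : act 2 n21865 = n16509 := d14_1 D21865 (iv D16509) (iv F28616)
theorem F42417 : act 4 n21865 = n17267 := d19_1 D21865 (iv D17267) (iv F28617)
theorem F42418 : act 5 n21865 = n21860 := d22_2 D16497 D21865 (iv D21860) (iv D16495)
def n21866 : Q := act 5 n16498
theorem D21866 : act 5 n16498 = n21866 := rfl
theorem F42419 : act 0 n21866 = n21865 := d4_1 D21866 F42418 F42408
theorem F42420 : act 2 n21866 = n16510 := d13_1 D21866 (iv D16510) (iv F28618)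
theorem F42421 : act 4 n21866 = n17268 := d18_1 D21866 (iv D17268) (iv F28619)
theorem F42422 : act 6 n21866 = n21859 := d20_2 D16498 D21866 (iv D21859) D21860 (iv F42418) (iv D21865) (iv D16497)
def n21867 : Q := act 1 n16499
theorem D21867 : act 1 n16499 = n21867 := rfl
def n21868 : Q := act 4 n16499
theorem D21868 : act 4 n16499 = n21868 := rfl
theorem F42423 : act 2 n21868 = n16500 := d12_1 D21868 (iv D16500) D16499
theorem F42424 : act 5 n21868 = n19813 := d18_2 (iv F28620) D21868 (iv D19813)
def n21869 : Q := act 3 n16501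
theorem D21869 : act 3 n16501 = n21869 := rfl
theorem F42425 : act 1 n21869 = n16502 := d7_1 D21869 (iv D16502) D16501
def n21870 : Q := act 5 n16501
theorem D21870 : act 5 n16501 = n21870 := rfl
theorem F42426 : act 4 n21870 = n17272 := d18_1 D21870 (iv D17272) (iv F28623)
theorem F42427 : act 1 n21119 = n21870 := d8_3 F42426 F30313 (iv F40767)
def n21871 : Q := act 6 n16501
theorem D21871 : act 6 n16501 = n21871 := rfl
theorem F42428 : act 4 n21871 = n17273 := d19_1 D21871 (iv D17273) (iv F28623)
def n21872 : Q := act 2 n16502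
theorem D21872 : act 2 n16502 = n21872 := rfl
theorem F42429 : act 0 n21872 = n16505 := d1_1 D21872 (iv D16505) (iv F28624)
def n21873 : Q := act 4 n16502
theorem D21873 : act 4 n16502 = n21873 := rfl
theorem F42430 : act 0 n21873 = n16506 := d3_1 D21873 (iv D16506) (iv F28624)
theorem F42431 : act 3 n21873 = n17275 := d15_1 D21873 (iv D17275) (iv D12783) (iv F21731) D16502
def n21874 : Q := act 5 n16502
theorem D21874 : act 5 n16502 = n21874 := rfl
theorem F42432 : act 0 n21874 = n16507 := d4_1 D21874 (iv D16507) (iv F28624)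
theorem F42433 : act 3 n21874 = n16503 := d16_1 D21874 (iv D16503) D16502
def n21875 : Q := act 6 n16502
theorem D21875 : act 6 n16502 = n21875 := rfl
theorem F42434 : act 0 n21875 = n16508 := d5_1 D21875 (iv D16508) (iv F28624)
theorem F42435 : act 3 n21875 = n16504 := d17_1 D21875 (iv D16504) D16502
def n21876 : Q := act 1 n16503
theorem D21876 : act 1 n16503 = n21876 := rfl
theorem F42436 : act 2 n21876 = n21120 := d6_2 F42406 D21876 F40769 D21646 (iv F42405)
theorem F42437 : act 4 n21876 = n17278 := d8_2 (iv F28626) D21876 (iv D17278)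
theorem F42438 : act 5 n21876 = n21119 := d9_2 D16503 D21876 F42427 (iv D21870) (iv D16501)
theorem F42439 : act 0 n21876 = n21595 := d23_3 D21859 F42406 D21876 F41816 (iv D16337) (iv D12238) F17834 (iv D5182) D5181 F7878 (iv F7932) F17178 F13980 (iv F17028) (iv D8955) (iv F16767) D10080 D12319 D16495
def n21877 : Q := act 1 n16504
theorem D21877 : act 1 n16504 = n21877 := rfl
theorem F42440 : act 4 n21877 = n17279 := d8_2 (iv F28628) D21877 (iv D17279)
theorem F42441 : act 0 n19313 = n21877 := d3_3 F42440 (iv F35046) (iv F36043)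
def n21878 : Q := act 3 n16505
theorem D21878 : act 3 n16505 = n21878 := rfl
theorem F42442 : act 1 n21878 = n20435 := d7_1 D21878 (iv D20435) (iv F28629)
def n21879 : Q := act 4 n16505
theorem D21879 : act 4 n16505 = n21879 := rfl
theorem F42443 : act 1 n21879 = n20430 := d8_1 D21879 F38763 (iv F28629)
theorem F42444 : act 2 n21879 = n16506 := d12_1 D21879 (iv D16506) D16505
def n21880 : Q := act 5 n16505
theorem D21880 : act 5 n16505 = n21880 := rfl
theorem F42445 : act 2 n21880 = n16507 := d13_1 D21880 (iv D16507) D16505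
def n21881 : Q := act 6 n16505
theorem D21881 : act 6 n16505 = n21881 := rfl
theorem F42446 : act 2 n21881 = n16508 := d14_1 D21881 (iv D16508) D16505
def n21882 : Q := act 5 n16506
theorem D21882 : act 5 n16506 = n21882 := rfl
theorem F42447 : act 1 n21882 = n19777 := d9_1 D21882 (iv D19777) F25364 (iv F21739) (iv F28630)
theorem F42448 : act 3 n21882 = n17284 := d16_1 D21882 (iv D17284) (iv F28631)
theorem F42449 : act 4 n21882 = n16507 := d18_1 D21882 (iv D16507) D16506
def n21883 : Q := act 6 n16506
theorem D21883 : act 6 n16506 = n21883 := rfl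
theorem F42450 : act 3 n21883 = n17285 := d17_1 D21883 (iv D17285) (iv F28631)
theorem F42451 : act 4 n21883 = n16508 := d19_1 D21883 (iv D16508) D16506
def n21884 : Q := act 6 n16507
theorem D21884 : act 6 n16507 = n21884 := rfl
theorem F42452 : act 3 n21884 = n16509 := d17_1 D21884 (iv D16509) (iv F28633)
theorem F42453 : act 5 n21884 = n21875 := d22_2 D16507 D21884 (iv D21875) F28624
def n21885 : Q := act 5 n16508
theorem D21885 : act 5 n16508 = n21885 := rfl
theorem F42454 : act 0 n21885 = n21884 := d4_1 D21885 F42453 F42434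
theorem F42455 : act 3 n21885 = n16510 := d16_1 D21885 (iv D16510) (iv F28634)
theorem F42456 : act 6 n21885 = n21874 := d20_2 D16508 D21885 (iv D21874) D21875 (iv F42453) (iv D21884) (iv D16507)
def n21886 : Q := act 1 n16509
theorem D21886 : act 1 n16509 = n21886 := rfl
theorem F42457 : act 4 n21886 = n17288 := d8_2 (iv F28635) D21886 (iv D17288)
theorem F42458 : act 6 n21886 = n19779 := d10_2 D16509 D21886 (iv D19779) (iv D14529) (iv F21733)
def n21887 : Q := act 1 n16510
theorem D21887 : act 1 n16510 = n21887 := rfl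
theorem F42459 : act 4 n21887 = n17289 := d8_2 (iv F28638) D21887 (iv D17289)
def n21888 : Q := act 1 n16511
theorem D21888 : act 1 n16511 = n21888 := rfl
theorem F42460 : act 3 n21888 = n20426 := d7_2 (iv F28640) D21888 (iv D20426)
def n21889 : Q := act 4 n16511
theorem D21889 : act 4 n16511 = n21889 := rfl
theorem F42461 : act 0 n21889 = n16512 := d3_1 D21889 (iv D16512) D16511
theorem F42462 : act 3 n21889 = n20737 := d15_1 D21889 F39355 F26761 (iv F26347) (iv F28640)
def n21890 : Q := act 5 n16511
theorem D21890 : act 5 n16511 = n21890 := rfl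
theorem F42463 : act 0 n21890 = n16513 := d4_1 D21890 (iv D16513) D16511
theorem F42464 : act 3 n21890 = n20422 := d16_1 D21890 F38749 (iv F28640)
def n21891 : Q := act 6 n16511
theorem D21891 : act 6 n16511 = n21891 := rfl
theorem F42465 : act 0 n21891 = n16514 := d5_1 D21891 (iv D16514) D16511
theorem F42466 : act 3 n21891 = n20427 := d17_1 D21891 (iv D20427) (iv F28640)
def n21892 : Q := act 5 n16512
theorem D21892 : act 5 n16512 = n21892 := rfl
theorem F42467 : act 1 n21892 = n20418 := d9_1 D21892 (iv D20418) F26334 (iv F21744) (iv F28641)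
theorem F42468 : act 3 n21892 = n20724 := d16_1 D21892 F39336 (iv F28642)
theorem F42469 : act 4 n21892 = n16513 := d18_1 D21892 (iv D16513) D16512
def n21893 : Q := act 6 n16512
theorem D21893 : act 6 n16512 = n21893 := rfl
theorem F42470 : act 1 n21893 = n21883 := d10_1 D21893 (iv D21883) F28630 (iv F21745) (iv F28641)
theorem F42471 : act 3 n21893 = n18894 := d17_1 D21893 F35041 (iv F28642)
theorem F42472 : act 4 n21893 = n16514 := d19_1 D21893 (iv D16514) D16512
def n21894 : Q := act 6 n16513
theorem D21894 : act 6 n16513 = n21894 := rfl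
theorem F42473 : act 3 n21894 = n20423 := d17_1 D21894 (iv D20423) (iv F28644)
theorem F42474 : act 5 n21894 = n21891 := d22_2 D16513 D21894 (iv D21891) (iv D16511)
def n21895 : Q := act 5 n16514
theorem D21895 : act 5 n16514 = n21895 := rfl
theorem F42475 : act 0 n21895 = n21894 := d4_1 D21895 F42474 F42465
theorem F42476 : act 3 n21895 = n20428 := d16_1 D21895 (iv D20428) (iv F28646)
theorem F42477 : act 6 n21895 = n21890 := d20_2 D16514 D21895 (iv D21890) D21891 (iv F42474) (iv D21894) (iv D16513)
def n21896 : Q := act 2 n16515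
theorem D21896 : act 2 n16515 = n21896 := rfl
theorem F42478 : act 0 n21896 = n21896 := d1_1 D21896 (iv D21896) F28647
def n21897 : Q := act 1 n16516
theorem D21897 : act 1 n16516 = n21897 := rfl
theorem F42479 : act 3 n21897 = n21815 := d7_2 (iv F28652) D21897 (iv D21815)
def n21898 : Q := act 0 n16518
theorem D21898 : act 0 n16518 = n21898 := rfl
def n21899 : Q := act 3 n16518
theorem D21899 : act 3 n16518 = n21899 := rfl
theorem F42480 : act 1 n21899 = n16519 := d7_1 D21899 (iv D16519) D16518
def n21900 : Q := act 5 n16518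
theorem D21900 : act 5 n16518 = n21900 := rfl
def n21901 : Q := act 6 n16518
theorem D21901 : act 6 n16518 = n21901 := rfl
theorem F42481 : act 1 n21901 = n19818 := d10_1 D21901 (iv D19818) (iv D14550) (iv F21751) D16518
def n21902 : Q := act 4 n16519
theorem D21902 : act 4 n16519 = n21902 := rfl
theorem F42482 : act 0 n21902 = n21816 := d3_1 D21902 (iv D21816) (iv F28657)
theorem F42483 : act 2 n21902 = n21805 := d12_1 D21902 (iv D21805) (iv F28658)
theorem F42484 : act 5 n21902 = n21816 := d18_2 (iv F28659) D21902 (iv D21816)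
theorem F42485 : act 6 n21902 = n19819 := d19_2 (iv F28660) D21902 (iv D19819)
def n21903 : Q := act 2 n16521
theorem D21903 : act 2 n16521 = n21903 := rfl
theorem F42486 : act 0 n21903 = n21903 := d1_1 D21903 (iv D21903) F28663
theorem F42487 : act 5 n21903 = n21896 := d13_2 (iv F28665) D21903 (iv D21896)
theorem F42488 : act 6 n21903 = n21896 := d14_2 (iv F28666) D21903 (iv D21896)
def n21904 : Q := act 1 n16522
theorem D21904 : act 1 n16522 = n21904 := rfl
theorem F42489 : act 3 n21904 = n21867 := d7_2 (iv F28670) D21904 (iv D21867)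
def n21905 : Q := act 0 n16524
theorem D21905 : act 0 n16524 = n21905 := rfl
def n21906 : Q := act 3 n16524
theorem D21906 : act 3 n16524 = n21906 := rfl
theorem F42490 : act 1 n21906 = n16525 := d7_1 D21906 (iv D16525) D16524
def n21907 : Q := act 5 n16524
theorem D21907 : act 5 n16524 = n21907 := rfl
theorem F42491 : act 1 n21907 = n19823 := d9_1 D21907 (iv D19823) (iv D14555) (iv F21762) D16524
def n21908 : Q := act 6 n16524
theorem D21908 : act 6 n16524 = n21908 := rfl
def n21909 : Q := act 4 n16525
theorem D21909 : act 4 n16525 = n21909 := rfl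
theorem F42492 : act 0 n21909 = n21868 := d3_1 D21909 (iv D21868) (iv F28675)
theorem F42493 : act 2 n21909 = n21857 := d12_1 D21909 (iv D21857) (iv F28676)
theorem F42494 : act 5 n21909 = n19825 := d18_2 (iv F28677) D21909 (iv D19825)
theorem F42495 : act 6 n21909 = n21868 := d19_2 (iv F28678) D21909 (iv D21868)
def n21910 : Q := act 6 n16543
theorem D21910 : act 6 n16543 = n21910 := rfl
theorem F42496 : act 0 n21910 = n20663 := d5_1 D21910 (iv D20663) F29147
theorem F42497 : act 2 n21910 = n16544 := d14_1 D21910 (iv D16544) D16543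
theorem F42498 : act 3 n21910 = n19112 := d17_1 D21910 (iv D19112) (iv F29149)
theorem F42499 : act 5 n21910 = n16583 := d20_1 D21910 F35576 (iv F35575) D20663 F39216 (iv D19111) F29146
def n21911 : Q := act 5 n16546
theorem D21911 : act 5 n16546 = n21911 := rfl
theorem F42500 : act 0 n21911 = n20720 := d4_1 D21911 (iv D20720) F35101
theorem F42501 : act 2 n21911 = n16547 := d13_1 D21911 (iv D16547) D16546
theorem F42502 : act 3 n21911 = n19183 := d16_1 D21911 (iv D19183) F35097
theorem F42503 : act 6 n21911 = n16591 := d20_2 (iv F35099) D21911 F35732 (iv F35733) D20720 F39323 (iv D19180)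
def n21912 : Q := act 4 n16549
theorem D21912 : act 4 n16549 = n21912 := rfl
theorem F42504 : act 1 n21912 = n18817 := d8_1 D21912 F33686 F29150
def n21913 : Q := act 6 n16549
theorem D21913 : act 6 n16549 = n21913 := rfl
theorem F42505 : act 3 n21913 = n16550 := d17_1 D21913 (iv D16550) D16549
def n21914 : Q := act 1 n16550
theorem D21914 : act 1 n16550 = n21914 := rfl
theorem F42506 : act 2 n21914 = n17272 := d6_2 (iv F28728) D21914 F30313 F29339 F21844
theorem F42507 : act 5 n21914 = n16916 := d9_2 F29954 D21914 (iv D16916) D16918 (iv F29958)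
theorem F42508 : act 0 n17180 = n21914 := d4_3 F42507 F29810 D17180
def n21915 : Q := act 4 n16552
theorem D21915 : act 4 n16552 = n21915 := rfl
theorem F42509 : act 1 n21915 = n18865 := d8_1 D21915 F33775 (iv F35098)
def n21916 : Q := act 5 n16552
theorem D21916 : act 5 n16552 = n21916 := rfl
theorem F42510 : act 3 n21916 = n16553 := d16_1 D21916 (iv D16553) D16552
def n21917 : Q := act 1 n16553
theorem D21917 : act 1 n16553 = n21917 := rfl
theorem F42511 : act 2 n21917 = n17181 := d6_2 (iv F28731) D21917 (iv F35579) F29324 F21838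
theorem F42512 : act 6 n21917 = n17111 := d10_2 F29679 D21917 (iv D17111) D17114 (iv F35585)
theorem F42513 : act 0 n17273 = n21917 := d5_3 F42512 F30068 D17273
def n21918 : Q := act 3 n16556
theorem D21918 : act 3 n16556 = n21918 := rfl
theorem F42514 : act 0 n21918 = n21918 := d2_1 D21918 (iv D21918) F28738
theorem F42515 : act 1 n21918 = n16561 := d7_1 D21918 (iv D16561) (iv F28739)
theorem F42516 : act 4 n21918 = n19579 := d15_2 D16556 D21918 (iv D19579) F28736 (iv D16555)
theorem F42517 : act 5 n21918 = n21918 := d16_2 F28794 D21918 (iv D21918)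
theorem F42518 : act 6 n21918 = n21918 := d17_2 F29719 D21918 (iv D21918)
theorem F42519 : act 2 n21918 = n21918 := d25_2 D16556 D21918 (iv D21918) F28740 F28739 D16561 (iv F32419) (iv D18453) F23692 F28838 F28834 (iv D10663) F10300 (iv F19074) (iv F18931) F18932 F19074 (iv F10300) D10663 (iv F28832) (iv F28839) (iv F23692) D18453 F32419 (iv F42515) F42516 (iv D19579) F28735 (iv D16555) F21797 (iv D12356) D12357 F21799 (iv D11222) F16050 F7041 (iv F7042) (iv F16050) D11222 (iv F21799) (iv F28733) (iv D16555) F21797 D16555 (iv F28735) (iv D14375) D14376 F25128 (iv D14336) (iv D11200) F13095 (iv F16012) (iv D3249) (iv D1577) (iv D787) F784 F783 D407 D799 F1449 (iv D468) (iv F873) (iv D450) F470 D265 D521 D1031 D2101 (iv F6680) (iv D4375) F3343 D2223 F3522 D2651 D5496 D10102 D12356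
def n21919 : Q := act 6 n16562
theorem D21919 : act 6 n16562 = n21919 := rfl
theorem F42520 : act 2 n21919 = n16569 := d14_1 D21919 (iv D16569) (iv F28755)
theorem F42521 : act 4 n21919 = n16565 := d19_1 D21919 (iv D16565) (iv F28756)
theorem F42522 : act 5 n21919 = n16986 := d22_2 D16562 D21919 (iv F35080) F28702
theorem F42523 : act 1 n16670 = n21919 := d6_5 F42520 F29273 F21895 D12434 D16670
def n21920 : Q := act 5 n16563
theorem D21920 : act 5 n16563 = n21920 := rfl
theorem F42524 : act 0 n21920 = n21919 := d4_1 D21920 F42522 (iv F35078)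
theorem F42525 : act 2 n21920 = n16571 := d13_1 D21920 (iv D16571) (iv F28757)
theorem F42526 : act 4 n21920 = n16567 := d18_1 D21920 (iv D16567) (iv F28758)
theorem F42527 : act 6 n21920 = n16801 := d20_2 D16563 D21920 (iv F29639) F35080 (iv F42522) (iv D21919) (iv D16562)
theorem F42528 : act 1 n16742 = n21920 := d6_5 F42525 F35122 F21944 D12474 D16742
def n21921 : Q := act 1 n16565
theorem D21921 : act 1 n16565 = n21921 := rfl
theorem F42529 : act 2 n21921 = n16669 := d6_2 (iv F28759) D21921 (iv D16669) F29271 (iv D16574)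
theorem F42530 : act 4 n21921 = n16670 := d8_2 F42521 D21921 F42523
theorem F42531 : act 6 n21921 = n21921 := d10_2 D16565 D21921 (iv D21921) (iv D16565) F28790
def n21922 : Q := act 1 n16567
theorem D21922 : act 1 n16567 = n21922 := rfl
theorem F42532 : act 2 n21922 = n16740 := d6_2 (iv F28762) D21922 (iv D16740) (iv F35109) (iv D16578)
theorem F42533 : act 4 n21922 = n16742 := d8_2 F42526 D21922 F42528
theorem F42534 : act 5 n21922 = n21922 := d9_2 D16567 D21922 (iv D21922) (iv D16567) F29713
def n21923 : Q := act 4 n16579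
theorem D21923 : act 4 n16579 = n21923 := rfl
theorem F42535 : act 0 n21923 = n21923 := d3_1 D21923 (iv D21923) F28785
theorem F42536 : act 1 n21923 = n16594 := d8_1 D21923 (iv D16594) (iv F28786)
theorem F42537 : act 2 n21923 = n21923 := d12_1 D21923 (iv D21923) F28788
theorem F42538 : act 5 n21923 = n21923 := d18_2 F28787 D21923 (iv D21923)
def n21924 : Q := act 6 n16579
theorem D21924 : act 6 n16579 = n21924 := rfl
theorem F42539 : act 0 n21924 = n21924 := d5_1 D21924 (iv D21924) F28785
theorem F42540 : act 1 n21924 = n16798 := d10_1 D21924 (iv F29656) (iv F29657) (iv D16595) (iv F28786)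
theorem F42541 : act 2 n21924 = n21924 := d14_1 D21924 (iv D21924) F28788
theorem F42542 : act 3 n21924 = n16580 := d17_1 D21924 (iv D16580) D16579
theorem F42543 : act 5 n21924 = n21924 := d22_2 F28787 D21924 (iv D21924) F28785
def n21925 : Q := act 4 n16587
theorem D21925 : act 4 n16587 = n21925 := rfl
theorem F42544 : act 0 n21925 = n21925 := d3_1 D21925 (iv D21925) F29302
theorem F42545 : act 1 n21925 = n16606 := d8_1 D21925 (iv D16606) (iv F29282)
theorem F42546 : act 2 n21925 = n21925 := d12_1 D21925 (iv D21925) F29725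
theorem F42547 : act 6 n21925 = n21925 := d19_2 F29283 D21925 (iv D21925)
def n21926 : Q := act 5 n16587
theorem D21926 : act 5 n16587 = n21926 := rfl
theorem F42548 : act 0 n21926 = n21926 := d4_1 D21926 (iv D21926) F29302
theorem F42549 : act 1 n21926 = n16983 := d9_1 D21926 (iv F29926) (iv F35252) (iv D16607) (iv F29282)
theorem F42550 : act 2 n21926 = n21926 := d13_1 D21926 (iv D21926) F29725
theorem F42551 : act 3 n21926 = n16588 := d16_1 D21926 (iv D16588) D16587
theorem F42552 : act 6 n21926 = n21926 := d22_1 D21926 (iv D21926) F29283 F29302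
def n21927 : Q := act 4 n16593
theorem D21927 : act 4 n16593 = n21927 := rfl
theorem F42553 : act 0 n21927 = n16594 := d3_1 D21927 (iv D16594) (iv F29312)
theorem F42554 : act 1 n21927 = n17145 := d8_1 D21927 F30109 (iv F29313)
theorem F42555 : act 2 n21927 = n16619 := d12_1 D21927 (iv D16619) (iv F29314)
theorem F42556 : act 5 n21927 = n16619 := d18_2 (iv F29315) D21927 (iv D16619)
def n21928 : Q := act 6 n16594
theorem D21928 : act 6 n16594 = n21928 := rfl
theorem F42557 : act 2 n21928 = n16623 := d14_1 D21928 (iv D16623) (iv F29316)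
theorem F42558 : act 4 n21928 = n16595 := d19_1 D21928 (iv D16595) D16594
def n21929 : Q := act 3 n16598
theorem D21929 : act 3 n16598 = n21929 := rfl
theorem F42559 : act 0 n21929 = n16599 := d2_1 D21929 (iv D16599) (iv F29321)
theorem F42560 : act 1 n21929 = n20749 := d7_1 D21929 (iv F39376) (iv F39101)
theorem F42561 : act 5 n21929 = n17127 := d16_2 (iv F29322) D21929 (iv D17127)
theorem F42562 : act 6 n21929 = n17115 := d17_2 F39019 D21929 (iv F39610)
theorem F42563 : act 2 n21929 = n17118 := d21_2 D16598 D21929 F30074 (iv F30060) F39613 (iv D15160) F20589 D12380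
def n21930 : Q := act 2 n16599
theorem D21930 : act 2 n16599 = n21930 := rfl
theorem F42564 : act 0 n21930 = n17118 := d1_1 D21930 (iv F42563) F42559
theorem F42565 : act 3 n21930 = n17114 := d11_2 D16599 D21930 F35584 (iv F39609) F29761 F22253 D16598 D21929 F42563 F30074 (iv F30060) F39613 (iv D15160) F20589 D12381
theorem F42566 : act 6 n21930 = n17112 := d14_2 F35884 D21930 (iv F39611)
def n21931 : Q := act 4 n16599
theorem D21931 : act 4 n16599 = n21931 := rfl
def n21932 : Q := act 5 n16599
theorem D21932 : act 5 n16599 = n21932 := rfl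
theorem F42567 : act 0 n21932 = n17127 := d4_1 D21932 (iv F42561) F42559
theorem F42568 : act 3 n21932 = n16600 := d16_1 D21932 (iv D16600) D16599
def n21933 : Q := act 4 n16604
theorem D21933 : act 4 n16604 = n21933 := rfl
theorem F42569 : act 0 n21933 = n16606 := d3_1 D21933 (iv D16606) (iv F29330)
theorem F42570 : act 1 n21933 = n17208 := d8_1 D21933 F30196 (iv F34851)
theorem F42571 : act 2 n21933 = n16639 := d12_1 D21933 (iv D16639) (iv F34764)
theorem F42572 : act 6 n21933 = n16639 := d19_2 (iv F29331) D21933 (iv D16639)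
def n21934 : Q := act 5 n16606
theorem D21934 : act 5 n16606 = n21934 := rfl
theorem F42573 : act 2 n21934 = n16647 := d13_1 D21934 (iv D16647) (iv F34792)
theorem F42574 : act 4 n21934 = n16607 := d18_1 D21934 (iv D16607) D16606
def n21935 : Q := act 3 n16610
theorem D21935 : act 3 n16610 = n21935 := rfl
theorem F42575 : act 0 n21935 = n16611 := d2_1 D21935 (iv D16611) (iv F29336)
theorem F42576 : act 1 n21935 = n20695 := d7_1 D21935 (iv F39268) F39395
theorem F42577 : act 5 n21935 = n16920 := d16_2 F38939 D21935 F39632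
theorem F42578 : act 6 n21935 = n16933 := d17_2 (iv F29337) D21935 (iv D16933)
theorem F42579 : act 2 n21935 = n16922 := d21_2 D16610 D21935 F29815 (iv F29801) F39627 (iv D15165) F20594 D12388
def n21936 : Q := act 2 n16611
theorem D21936 : act 2 n16611 = n21936 := rfl
theorem F42580 : act 0 n21936 = n16922 := d1_1 D21936 (iv F42579) F42575
theorem F42581 : act 3 n21936 = n16918 := d11_2 D16611 D21936 F29957 F39626 F30021 F22231 D16610 D21935 F42579 F29815 (iv F29801) F39627 (iv D15165) F20594 D12389
theorem F42582 : act 5 n21936 = n16917 := d13_2 F36018 D21936 F39631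
def n21937 : Q := act 4 n16611
theorem D21937 : act 4 n16611 = n21937 := rfl
def n21938 : Q := act 6 n16611
theorem D21938 : act 6 n16611 = n21938 := rfl
theorem F42583 : act 0 n21938 = n16933 := d5_1 D21938 (iv F42578) F42575
theorem F42584 : act 3 n21938 = n16612 := d17_1 D21938 (iv D16612) D16611
def n21939 : Q := act 6 n16617
theorem D21939 : act 6 n16617 = n21939 := rfl
theorem F42585 : act 2 n21939 = n17147 := d14_1 D21939 (iv D17147) F29352
theorem F42586 : act 3 n21939 = n16618 := d17_1 D21939 (iv D16618) D16617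
def n21940 : Q := act 6 n16619
theorem D21940 : act 6 n16619 = n21940 := rfl
theorem F42587 : act 0 n21940 = n16623 := d5_1 D21940 (iv D16623) (iv F29353)
theorem F42588 : act 4 n21940 = n16620 := d19_1 D21940 (iv D16620) D16619
theorem F42589 : act 5 n21940 = n21928 := d22_2 F42556 D21940 (iv D21928) (iv F42553)
def n21941 : Q := act 1 n16620
theorem D21941 : act 1 n16620 = n21941 := rfl
theorem F42590 : act 3 n21941 = n16621 := d7_2 (iv F29355) D21941 (iv D16621)
theorem F42591 : act 5 n21941 = n16809 := d9_2 (iv F29356) D21941 (iv D16809) D16810 (iv F29657)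
def n21942 : Q := act 2 n16621
theorem D21942 : act 2 n16621 = n21942 := rfl
theorem F42592 : act 0 n21942 = n17255 := d1_1 D21942 (iv F39564) F29676
theorem F42593 : act 1 n21942 = n16622 := d6_1 D21942 (iv D16622) (iv D12398) (iv F21853) D16621
theorem F42594 : act 5 n21942 = n16813 := d13_2 F29357 D21942 (iv D16813)
theorem F42595 : act 3 n16900 = n21942 := d7_0 F42593 F39600 D16900
def n21943 : Q := act 1 n16623
theorem D21943 : act 1 n16623 = n21943 := rfl
theorem F42596 : act 4 n21943 = n16624 := d8_2 (iv F29362) D21943 (iv D16624)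
theorem F42597 : act 6 n21943 = n21943 := d10_2 D16623 D21943 (iv D21943) (iv D16623) F21855
theorem F42598 : act 0 n16669 = n21943 := d3_3 F42596 (iv F29376) (iv F29451)
def n21944 : Q := act 5 n16623
theorem D21944 : act 5 n16623 = n21944 := rfl
theorem F42599 : act 0 n21944 = n21928 := d4_1 D21944 (iv F42589) F42587
theorem F42600 : act 2 n21944 = n21940 := d13_1 D21944 F42589 F42557
theorem F42601 : act 4 n21944 = n16625 := d18_1 D21944 (iv D16625) (iv F29362)
theorem F42602 : act 6 n21944 = n21927 := d20_2 D16623 D21944 F42556 D21940 F42589 (iv D21928) F29317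
def n21945 : Q := act 2 n16624
theorem D21945 : act 2 n16624 = n21945 := rfl
theorem F42603 : act 0 n21945 = n16670 := d1_1 D21945 (iv D16670) F29376
theorem F42604 : act 6 n21945 = n21945 := d14_2 F29364 D21945 (iv D21945)
def n21946 : Q := act 5 n16624
theorem D21946 : act 5 n16624 = n21946 := rfl
theorem F42605 : act 0 n21946 = n16671 := d4_1 D21946 (iv D16671) F29376
theorem F42606 : act 3 n21946 = n16627 := d16_1 D21946 (iv D16627) (iv F29363)
theorem F42607 : act 6 n21946 = n16671 := d22_1 D21946 (iv D16671) F21898 F29376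
def n21947 : Q := act 1 n16625
theorem D21947 : act 1 n16625 = n21947 := rfl
theorem F42608 : act 3 n21947 = n16628 := d7_2 (iv F29367) D21947 (iv D16628)
theorem F42609 : act 6 n21947 = n16849 := d10_2 (iv F29368) D21947 (iv D16849) (iv F28525) (iv F29313)
theorem F42610 : act 0 n21947 = n17046 := d22_4 (iv F40590) (iv D16852) (iv F29734) (iv F42609)
theorem F42611 : act 2 n17045 = n21947 := d1_0 F42610 (iv D17046) D17045
def n21948 : Q := act 5 n16635
theorem D21948 : act 5 n16635 = n21948 := rfl
theorem F42612 : act 2 n21948 = n17215 := d13_1 D21948 (iv D17215) (iv F34840)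
theorem F42613 : act 3 n21948 = n16636 := d16_1 D21948 (iv D16636) D16635
def n21949 : Q := act 5 n16639
theorem D21949 : act 5 n16639 = n21949 := rfl
theorem F42614 : act 0 n21949 = n16647 := d4_1 D21949 (iv D16647) (iv F29387)
theorem F42615 : act 4 n21949 = n16640 := d18_1 D21949 (iv D16640) D16639
theorem F42616 : act 6 n21949 = n21934 := d22_1 D21949 (iv D21934) F29333 (iv F29387)
def n21950 : Q := act 1 n16640
theorem D21950 : act 1 n16640 = n21950 := rfl
theorem F42617 : act 3 n21950 = n16641 := d7_2 (iv F29389) D21950 (iv D16641)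
theorem F42618 : act 6 n21950 = n16993 := d10_2 (iv F29390) D21950 (iv D16993) D16994 (iv F35252)
def n21951 : Q := act 2 n16641
theorem D21951 : act 2 n16641 = n21951 := rfl
theorem F42619 : act 0 n21951 = n17162 := d1_1 D21951 (iv F39672) (iv F35254)
theorem F42620 : act 1 n21951 = n16642 := d6_1 D21951 (iv D16642) (iv D12411) (iv F21864) D16641
theorem F42621 : act 6 n21951 = n16997 := d14_2 (iv F35256) D21951 (iv D16997)
theorem F42622 : act 3 n17095 = n21951 := d7_0 F42620 F39592 D17095
def n21952 : Q := act 1 n16647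
theorem D21952 : act 1 n16647 = n21952 := rfl
theorem F42623 : act 4 n21952 = n16648 := d8_2 (iv F29397) D21952 (iv D16648)
theorem F42624 : act 5 n21952 = n21952 := d9_2 D16647 D21952 (iv D21952) (iv D16647) F21866
theorem F42625 : act 0 n21952 = n16740 := d23_3 D21934 F42573 D21952 F29543 (iv F42532) (iv D21922) F28761 F28760 F28710 (iv F34442) F22179 D12648 F22202 D12651 D17036 F29982 D17208 (iv F42570) F42569
def n21953 : Q := act 6 n16647
theorem D21953 : act 6 n16647 = n21953 := rfl
theorem F42626 : act 0 n21953 = n21934 := d5_1 D21953 (iv F42616) F42614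
theorem F42627 : act 2 n21953 = n21949 := d14_1 D21953 F42616 F42573
theorem F42628 : act 4 n21953 = n16649 := d19_1 D21953 (iv D16649) (iv F29397)
theorem F42629 : act 5 n21953 = n21933 := d20_1 D21953 F42572 D21949 F42616 (iv D21934) F29333 D16647
def n21954 : Q := act 2 n16648
theorem D21954 : act 2 n16648 = n21954 := rfl
theorem F42630 : act 0 n21954 = n16742 := d1_1 D21954 (iv D16742) (iv F34857)
theorem F42631 : act 5 n21954 = n21954 := d13_2 F29399 D21954 (iv D21954)
def n21955 : Q := act 6 n16648
theorem D21955 : act 6 n16648 = n21955 := rfl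
theorem F42632 : act 0 n21955 = n16743 := d5_1 D21955 (iv D16743) (iv F34857)
theorem F42633 : act 3 n21955 = n16651 := d17_1 D21955 (iv D16651) (iv F29398)
theorem F42634 : act 5 n21955 = n16743 := d22_2 F29399 D21955 (iv D16743) (iv F34857)
def n21956 : Q := act 1 n16649
theorem D21956 : act 1 n16649 = n21956 := rfl
theorem F42635 : act 3 n21956 = n16652 := d7_2 (iv F29401) D21956 (iv D16652)
theorem F42636 : act 5 n21956 = n17044 := d9_2 (iv F29402) D21956 (iv D17044) F34622 (iv F34851)
theorem F42637 : act 0 n16851 = n21956 := d22_4 F42636 F29993 D17047 (iv F40591)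
theorem F42638 : act 2 n21956 = n16850 := d1_2 D16851 F42637 (iv D16850)
def n21957 : Q := act 6 n16657
theorem D21957 : act 6 n16657 = n21957 := rfl
theorem F42639 : act 0 n21957 = n16663 := d5_1 D21957 (iv D16663) (iv F29414)
theorem F42640 : act 2 n21957 = n21036 := d14_1 D21957 (iv D21036) (iv F29417)
theorem F42641 : act 3 n21957 = n16659 := d17_1 D21957 (iv D16659) D16657
theorem F42642 : act 4 n21957 = n19238 := d19_1 D21957 (iv D19238) (iv F29416)
def n21958 : Q := act 4 n16660
theorem D21958 : act 4 n16660 = n21958 := rfl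
theorem F42643 : act 0 n21958 = n19236 := d3_1 D21958 F35867 (iv F29424)
theorem F42644 : act 1 n21958 = n18466 := d8_1 D21958 F32439 (iv F29425)
theorem F42645 : act 2 n21958 = n16661 := d12_1 D21958 (iv D16661) D16660
theorem F42646 : act 5 n21958 = n16802 := d18_2 F29427 D21958 (iv F29641)
theorem F42647 : act 3 n21958 = n16804 := d25_1 D21958 F29646 F21998 F29000 F19508 (iv D8226) (iv D3926) F3038 D1894 F14942 D3950 D8275 F12297 (iv D8229) (iv F12206) (iv D8204) (iv D3918) (iv F5127) F15592 (iv D3307) F2641 F1639 F904 F477 D243 F487 F239 F146 (iv F286) D295 F14733 D582 (iv F1107) (iv D596) (iv D304) F297 (iv D149) (iv D67) (iv F139) D143 (iv F562) D561 (iv F14684) (iv D1049) (iv D529) (iv D268) (iv F533) F532 F533 (iv F471) D453 (iv F1590) (iv F2906) D3716 D7761 D10792 D13596 (iv F23891) F28974 F19170 F14728 F14839 (iv F12299) (iv F19556) D14090 F28967 (iv D11336) (iv F20113) F28945 F28889 (iv D10937) (iv D8191) (iv F10302) (iv F18879) (iv F23351) (iv F23713) (iv F29425)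
def n21959 : Q := act 5 n16661
theorem D21959 : act 5 n16661 = n21959 := rfl
theorem F42648 : act 0 n21959 = n19237 := d4_1 D21959 (iv D19237) (iv F29428)
theorem F42649 : act 1 n21959 = n16806 := d9_1 D21959 (iv D16806) F21997 (iv F21887) (iv F29429)
theorem F42650 : act 2 n21959 = n16802 := d13_1 D21959 (iv F42646) F42645
theorem F42651 : act 3 n21959 = n19234 := d16_1 D21959 (iv D19234) (iv F29430)
theorem F42652 : act 4 n21959 = n16662 := d18_1 D21959 (iv D16662) D16661
def n21960 : Q := act 6 n16661
theorem D21960 : act 6 n16661 = n21960 := rfl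
theorem F42653 : act 0 n21960 = n19238 := d5_1 D21960 (iv D19238) (iv F29428)
theorem F42654 : act 3 n21960 = n19235 := d17_1 D21960 (iv D19235) (iv F29430)
theorem F42655 : act 4 n21960 = n16663 := d19_1 D21960 (iv D16663) D16661
def n21961 : Q := act 6 n16662
theorem D21961 : act 6 n16662 = n21961 := rfl
theorem F42656 : act 0 n21961 = n21034 := d5_1 D21961 (iv D21034) (iv F29431)
theorem F42657 : act 2 n21961 = n21032 := d14_1 D21961 (iv D21032) (iv F29433)
theorem F42658 : act 3 n21961 = n16664 := d17_1 D21961 (iv D16664) (iv F29434)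
theorem F42659 : act 5 n21961 = n21957 := d20_1 D21961 (iv D21957) (iv F29418) D21034 F40517 (iv D16663) D16662
def n21962 : Q := act 1 n16664
theorem D21962 : act 1 n16664 = n21962 := rfl
theorem F42660 : act 2 n21962 = n18611 := d6_2 (iv F29436) D21962 (iv D18611) (iv F34534) F29189
theorem F42661 : act 5 n21962 = n16856 := d9_2 (iv F29437) D21962 F29738 D17151 F30124
theorem F42662 : act 6 n21962 = n16811 := d10_2 D16664 D21962 (iv D16811) (iv D12518) (iv F21882)
theorem F42663 : act 0 n16811 = n16855 := d22_4 (iv D16855) D16856 (iv F42661) F42662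
theorem F42664 : act 5 n16853 = n16811 := d22_0 (iv F42662) F42661 (iv D16856) D16853
theorem F42665 : act 5 n21495 = n21541 := d18_2 F42664 (iv F41605) F41701
theorem F42666 : act 0 n21543 = n21495 := d4_3 F42665 (iv D21541) D21543
def n21963 : Q := act 1 n16665
theorem D21963 : act 1 n16665 = n21963 := rfl
def n21964 : Q := act 2 n16667
theorem D21964 : act 2 n16667 = n21964 := rfl
theorem F42668 : act 0 n21964 = n21964 := d1_1 D21964 (iv D21964) F29445
theorem F42669 : act 1 n21964 = n20498 := d6_1 D21964 (iv D20498) F26461 (iv F21891) (iv F29446)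
theorem F42670 : act 4 n21964 = n21081 := d12_2 F40654 D21964 (iv F40667)
theorem F42671 : act 5 n21964 = n21964 := d13_2 F29447 D21964 (iv D21964)
theorem F42672 : act 3 n21964 = n21923 := d25_3 F29275 D16667 D21964 F42537 F42536 (iv F38911) (iv D20498) (iv D15185) (iv F26449) (iv D15178) D15179 (iv F28813) F28814 (iv D11361) (iv D9081) (iv F13364) (iv F19899) F19900 F13235 D10758 (iv F23551) D18310 F32074 F29630 F27411 D15860 F27419 F21185 (iv F27419) F27418 (iv F29625) (iv F29626) (iv F35870) F35871 F24490 F28991 (iv D10172) (iv D5526) (iv F7057) (iv F20107) F14302 (iv F14303) F20107 F7057 D5526 D10171 F28996 (iv F24490) (iv F35871) F35870 F27432 (iv D12004) (iv D9928) (iv D5053) (iv D2437) F1998 F1997 D1188 D2440 F3836 (iv D1959) (iv F3050) (iv D1896) (iv D934) (iv F1641) D1886 (iv F5984) D8204 (iv F19457) (iv D10963) (iv D8202) D8201 (iv F18949) (iv F27827) F21381 (iv F21893) (iv F29269)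
def n21965 : Q := act 5 n16669
theorem D21965 : act 5 n16669 = n21965 := rfl
theorem F42673 : act 4 n21965 = n16671 := d18_1 D21965 (iv D16671) (iv F29451)
def n21966 : Q := act 3 n16670
theorem D21966 : act 3 n16670 = n21966 := rfl
theorem F42674 : act 6 n21966 = n21966 := d17_2 F29453 D21966 (iv D21966)
def n21967 : Q := act 5 n16670
theorem D21967 : act 5 n16670 = n21967 := rfl
theorem F42675 : act 1 n21967 = n16989 := d9_1 D21967 (iv D16989) D16986 (iv F42522) (iv F42523)
theorem F42676 : act 2 n21967 = n16671 := d13_1 D21967 (iv D16671) D16670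
def n21968 : Q := act 2 n16672
theorem D21968 : act 2 n16672 = n21968 := rfl
theorem F42677 : act 1 n21968 = n18317 := d6_1 D21968 F32132 (iv F39537) (iv D16678) (iv F29455)
theorem F42678 : act 6 n21968 = n21968 := d14_2 F29456 D21968 (iv D21968)
def n21969 : Q := act 4 n16672
theorem D21969 : act 4 n16672 = n21969 := rfl
theorem F42679 : act 1 n21969 = n16679 := d8_1 D21969 (iv D16679) (iv F29455)
theorem F42680 : act 6 n21969 = n21969 := d19_2 F29456 D21969 (iv D21969)
def n21970 : Q := act 5 n16672
theorem D21970 : act 5 n16672 = n21970 := rfl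
theorem F42681 : act 3 n21970 = n16673 := d16_1 D21970 (iv D16673) D16672
def n21971 : Q := act 1 n16673
theorem D21971 : act 1 n16673 = n21971 := rfl
theorem F42682 : act 2 n21971 = n17266 := d6_2 (iv F29457) D21971 F39562 F29675 F22016
theorem F42683 : act 5 n21971 = n16681 := d9_2 D16673 D21971 (iv D16681) (iv D12441) (iv F21900)
theorem F42684 : act 6 n17263 = n21971 := d14_0 F42682 (iv D17266) D17263
def n21972 : Q := act 3 n16676
theorem D21972 : act 3 n16676 = n21972 := rfl
theorem F42685 : act 1 n21972 = n16677 := d7_1 D21972 (iv D16677) D16676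
theorem F42686 : act 2 n21972 = n17280 := d21_2 (iv F39634) D21972 (iv D17280) (iv D12786) (iv D10308) (iv F18176) D12777 (iv F30280)
def n21973 : Q := act 5 n16676
theorem D21973 : act 5 n16676 = n21973 := rfl
theorem F42687 : act 6 n21973 = n16681 := d22_1 D21973 (iv F42683) (iv F42684) F39806
def n21974 : Q := act 6 n16676
theorem D21974 : act 6 n16676 = n21974 := rfl
theorem F42688 : act 0 n21974 = n21971 := d5_1 D21974 (iv F42684) F39806
theorem F42689 : act 1 n21974 = n16688 := d10_1 D21974 (iv D16688) (iv D12445) (iv F21903) D16676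
theorem F42690 : act 2 n21974 = n19974 := d14_1 D21974 F39635 (iv F39634)
def n21975 : Q := act 2 n16677
theorem D21975 : act 2 n16677 = n21975 := rfl
theorem F42691 : act 0 n21975 = n16678 := d1_1 D21975 (iv D16678) (iv F29462)
theorem F42692 : act 1 n21975 = n17365 := d6_1 D21975 F34202 F30558 (iv F42686) F42685
theorem F42693 : act 3 n21975 = n17372 := d11_2 D16677 D21975 F39542 (iv D15199) (iv D11638) F14287 D10141 D12440 D16678 F39538 F39841 (iv D20515) (iv D15198) F20623 D12439
theorem F42694 : act 6 n21975 = n16689 := d14_2 (iv F29463) D21975 (iv D16689)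
def n21976 : Q := act 4 n16677
theorem D21976 : act 4 n16677 = n21976 := rfl
theorem F42695 : act 0 n21976 = n16679 := d3_1 D21976 (iv D16679) (iv F29462)
theorem F42696 : act 6 n21976 = n16690 := d19_2 (iv F29463) D21976 (iv D16690)
def n21977 : Q := act 5 n16678
theorem D21977 : act 5 n16678 = n21977 := rfl
theorem F42697 : act 1 n21977 = n17292 := d9_1 D21977 (iv D17292) F34989 F23563 (iv F39537)
theorem F42698 : act 2 n21977 = n16680 := d13_1 D21977 (iv D16680) D16678
def n21978 : Q := act 5 n16679
theorem D21978 : act 5 n16679 = n21978 := rfl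
theorem F42699 : act 4 n21978 = n16680 := d18_1 D21978 (iv D16680) D16679
def n21979 : Q := act 1 n16680
theorem D21979 : act 1 n16680 = n21979 := rfl
theorem F42700 : act 3 n21979 = n16681 := d7_2 (iv F29466) D21979 (iv D16681)
def n21980 : Q := act 0 n16681
theorem D21980 : act 0 n16681 = n21980 := rfl
theorem F42701 : act 5 n21980 = n21974 := d4_2 F42683 D21980 F42688
def n21981 : Q := act 1 n16685
theorem D21981 : act 1 n16685 = n21981 := rfl
theorem F42702 : act 0 n21981 = n21981 := d0_1 D21981 (iv D21981) (iv D16685) (iv D12445) F17999 F8391 (iv F17999) D12445 D16685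
def n21982 : Q := act 3 n16685
theorem D21982 : act 3 n16685 = n21982 := rfl
theorem F42703 : act 0 n21982 = n16686 := d2_1 D21982 (iv D16686) D16685
theorem F42704 : act 5 n21982 = n19161 := d16_2 (iv F37751) D21982 (iv F37750)
theorem F42705 : act 2 n19162 = n21982 := d13_3 F42704 F35695 D19162
def n21983 : Q := act 6 n16685
theorem D21983 : act 6 n16685 = n21983 := rfl
theorem F42706 : act 0 n21983 = n16688 := d5_1 D21983 (iv D16688) D16685
theorem F42707 : act 2 n21983 = n19975 := d14_1 D21983 (iv F37754) F37753
theorem F42708 : act 5 n21983 = n19976 := d20_1 D21983 (iv F37743) (iv D16687) D16688 (iv F29473) D19978 (iv F37751)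
theorem F42709 : act 1 n20032 = n21983 := d6_5 F42707 (iv F37740) (iv F34546) (iv F25746) (iv F37845)
def n21984 : Q := act 4 n16686
theorem D21984 : act 4 n16686 = n21984 := rfl
theorem F42710 : act 1 n21984 = n16690 := d8_1 D21984 (iv D16690) (iv F29471)
def n21985 : Q := act 5 n16686
theorem D21985 : act 5 n16686 = n21985 := rfl
theorem F42711 : act 0 n21985 = n19161 := d4_1 D21985 (iv F42704) F42703
theorem F42712 : act 2 n21985 = n19159 := d13_1 D21985 F35687 F36233
theorem F42713 : act 3 n21985 = n16687 := d16_1 D21985 (iv D16687) D16686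
theorem F42714 : act 6 n21985 = n19158 := d22_3 (iv F35683) (iv F36232) D21985 F35685
def n21986 : Q := act 1 n16687
theorem D21986 : act 1 n16687 = n21986 := rfl
theorem F42715 : act 5 n21986 = n16692 := d9_2 D16687 D21986 (iv D16692) (iv D12447) D12445
def n21987 : Q := act 5 n16689
theorem D21987 : act 5 n16689 = n21987 := rfl
theorem F42716 : act 0 n21987 = n16696 := d4_1 D21987 (iv D16696) (iv F29474)
theorem F42717 : act 1 n21987 = n18519 := d9_1 D21987 F33117 (iv F33285) (iv F39526) (iv F39528)
theorem F42718 : act 2 n21987 = n16691 := d13_1 D21987 (iv D16691) D16689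
theorem F42719 : act 3 n21987 = n20531 := d16_1 D21987 (iv D20531) (iv F29475)
theorem F42720 : act 6 n21987 = n21977 := d22_1 D21987 (iv D21977) F29464 (iv F29474)
def n21988 : Q := act 5 n16690
theorem D21988 : act 5 n16690 = n21988 := rfl
theorem F42721 : act 0 n21988 = n16697 := d4_1 D21988 (iv D16697) (iv F29476)
theorem F42722 : act 4 n21988 = n16691 := d18_1 D21988 (iv D16691) D16690
theorem F42723 : act 6 n21988 = n21978 := d22_1 D21988 (iv D21978) F29465 (iv F29476)
def n21989 : Q := act 1 n16691
theorem D21989 : act 1 n16691 = n21989 := rfl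
theorem F42724 : act 3 n21989 = n16692 := d7_2 (iv F29478) D21989 (iv D16692)
def n21990 : Q := act 0 n16692
theorem D21990 : act 0 n16692 = n21990 := rfl
theorem F42725 : act 1 n21990 = n17170 := d0_2 D16692 D21990 (iv F39810) (iv D16751) F21951 (iv F21949) F34862 (iv D12451) (iv F21910)
theorem F42726 : act 2 n21990 = n17176 := d1_2 F39036 D21990 F39676
def n21991 : Q := act 6 n16692
theorem D21991 : act 6 n16692 = n21991 := rfl
theorem F42727 : act 1 n21991 = n21973 := d10_1 D21991 F42687 (iv D16681) (iv F21912) D16692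
theorem F42728 : act 5 n21991 = n16702 := d24_1 D21991 (iv D16702) (iv D12452) (iv D10147) F8391 (iv F17998) D12441 D16681 (iv F42687) (iv D21973) (iv D16676) F21903 D12447 D16692
def n21992 : Q := act 6 n16696
theorem D21992 : act 6 n16696 = n21992 := rfl
theorem F42729 : act 0 n21992 = n21977 := d5_1 D21992 (iv F42720) F42716
theorem F42730 : act 2 n21992 = n16699 := d14_1 D21992 (iv D16699) (iv F29484)
theorem F42731 : act 5 n21992 = n21975 := d20_1 D21992 F42694 D21987 F42720 (iv D21977) F29464 D16696
def n21993 : Q := act 1 n16697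
theorem D21993 : act 1 n16697 = n21993 := rfl
theorem F42732 : act 4 n21993 = n16698 := d8_2 (iv F29485) D21993 (iv D16698)
theorem F42733 : act 5 n21993 = n21993 := d9_2 D16697 D21993 (iv D21993) (iv D16697) F21913
def n21994 : Q := act 6 n16697
theorem D21994 : act 6 n16697 = n21994 := rfl
theorem F42734 : act 0 n21994 = n21978 := d5_1 D21994 (iv F42723) F42721
theorem F42735 : act 4 n21994 = n16699 := d19_1 D21994 (iv D16699) (iv F29485)
theorem F42736 : act 5 n21994 = n21976 := d20_1 D21994 F42696 D21988 F42723 (iv D21978) F29465 D16697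
def n21995 : Q := act 2 n16698
theorem D21995 : act 2 n16698 = n21995 := rfl
theorem F42737 : act 5 n21995 = n21995 := d13_2 F29487 D21995 (iv D21995)
def n21996 : Q := act 6 n16698
theorem D21996 : act 6 n16698 = n21996 := rfl
theorem F42738 : act 3 n21996 = n16701 := d17_1 D21996 (iv D16701) (iv F29486)
def n21997 : Q := act 1 n16699
theorem D21997 : act 1 n16699 = n21997 := rfl
theorem F42739 : act 3 n21997 = n16702 := d7_2 (iv F29489) D21997 (iv D16702)
def n21998 : Q := act 1 n16701
theorem D21998 : act 1 n16701 = n21998 := rfl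
theorem F42740 : act 6 n21998 = n16702 := d10_2 D16701 D21998 (iv D16702) (iv D12452) D12451
theorem F42741 : act 5 n21990 = n21998 := d22_0 F42740 (iv F42728) (iv D21991) D21990
theorem F42742 : act 0 n21998 = n21986 := d22_4 F42715 D21991 F42728 (iv F42740)
def n21999 : Q := act 0 n16702
theorem D21999 : act 0 n16702 = n21999 := rfl
theorem F42743 : act 6 n21999 = n21986 := d5_2 F42740 D21999 (iv F42742)
def n22000 : Q := act 2 n16702
theorem D22000 : act 2 n16702 = n22000 := rfl
theorem F42744 : act 1 n22000 = n16703 := d6_1 D22000 (iv D16703) (iv D12453) (iv F21918) D16702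
def n22001 : Q := act 5 n16721
theorem D22001 : act 5 n16721 = n22001 := rfl
theorem F42745 : act 0 n22001 = n16726 := d4_1 D22001 (iv D16726) (iv F29514)
theorem F42746 : act 2 n22001 = n21058 := d13_1 D22001 (iv D21058) F34813
theorem F42747 : act 3 n22001 = n16722 := d16_1 D22001 (iv D16722) D16721
theorem F42748 : act 4 n22001 = n19294 := d18_1 D22001 (iv D19294) F34806
def n22002 : Q := act 4 n16724
theorem D22002 : act 4 n16724 = n22002 := rfl
theorem F42749 : act 0 n22002 = n19293 := d3_1 D22002 F36001 (iv F34814)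
theorem F42750 : act 1 n22002 = n18467 := d8_1 D22002 F32442 (iv F34817)
theorem F42751 : act 2 n22002 = n16725 := d12_1 D22002 (iv D16725) D16724
theorem F42752 : act 6 n22002 = n16987 := d19_2 F34819 D22002 (iv F29915)
theorem F42753 : act 3 n22002 = n16990 := d25_1 D22002 F29920 F22173 (iv F34742) F19532 (iv D8249) (iv D3936) F3041 D1904 F16775 D3973 D8321 F12380 (iv D8252) (iv F12216) (iv D8214) (iv D3922) (iv F5128) F17213 (iv D3308) F2644 F1640 F905 F479 D245 F493 F243 (iv F15710) (iv F288) D300 F16527 D589 (iv F1119) (iv D601) (iv D307) F311 (iv D153) (iv D70) (iv F140) D146 (iv F563) D567 (iv F16447) (iv D1057) (iv D533) (iv D270) (iv F535) F534 F535 (iv F472) D455 (iv F1595) (iv F2910) D3720 D7769 D10799 D13609 (iv F23925) F32097 F19198 F16515 F16671 (iv F12382) (iv F19617) D14147 F34540 (iv D11344) (iv F20118) F34478 F34190 (iv D10940) (iv D8192) (iv F10304) (iv F18881) (iv F23353) (iv F23716) (iv F34817)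
def n22003 : Q := act 5 n16725
theorem D22003 : act 5 n16725 = n22003 := rfl
theorem F42754 : act 0 n22003 = n19294 := d4_1 D22003 (iv D19294) (iv F34805)
theorem F42755 : act 3 n22003 = n19291 := d16_1 D22003 (iv D19291) F34804
theorem F42756 : act 4 n22003 = n16726 := d18_1 D22003 (iv D16726) D16725
def n22004 : Q := act 6 n16725
theorem D22004 : act 6 n16725 = n22004 := rfl
theorem F42757 : act 0 n22004 = n19295 := d5_1 D22004 (iv D19295) (iv F34805)
theorem F42758 : act 1 n22004 = n16992 := d10_1 D22004 (iv D16992) F22171 (iv F21936) (iv F29517)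
theorem F42759 : act 2 n22004 = n16987 := d14_1 D22004 (iv F42752) F42751
theorem F42760 : act 3 n22004 = n19292 := d17_1 D22004 (iv D19292) F34804
theorem F42761 : act 4 n22004 = n16727 := d19_1 D22004 (iv D16727) D16725
def n22005 : Q := act 5 n16727
theorem D22005 : act 5 n16727 = n22005 := rfl
theorem F42762 : act 0 n22005 = n21055 := d4_1 D22005 (iv D21055) F34822
theorem F42763 : act 2 n22005 = n21053 := d13_1 D22005 (iv D21053) (iv F34821)
theorem F42764 : act 3 n22005 = n16729 := d16_1 D22005 (iv D16729) (iv F29520)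
theorem F42765 : act 6 n22005 = n22001 := d20_2 D16727 D22005 (iv D22001) F34815 D21055 F40582 (iv D16726)
def n22006 : Q := act 1 n16728
theorem D22006 : act 1 n16728 = n22006 := rfl
def n22007 : Q := act 1 n16729
theorem D22007 : act 1 n16729 = n22007 := rfl
theorem F42767 : act 2 n22007 = n18570 := d6_2 F35292 D22007 (iv D18570) F28907 F34921
theorem F42768 : act 5 n22007 = n17000 := d9_2 D16729 D22007 (iv D17000) (iv D12632) (iv F21931)
theorem F42769 : act 6 n22007 = n17050 := d10_2 (iv F29523) D22007 F29997 D17232 (iv F34828)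
theorem F42770 : act 0 n17051 = n17000 := d22_4 (iv F42768) F42769 (iv D17050) D17051
theorem F42771 : act 6 n17000 = n17048 := d22_3 D17050 (iv F42769) F42768 (iv D17048)
theorem F42772 : act 6 n21700 = n21657 := d19_2 F42771 (iv F42045) F41952
theorem F42773 : act 0 n21657 = n21703 := d5_1 F42772 (iv D21703) D21700
def n22008 : Q := act 2 n16733
theorem D22008 : act 2 n16733 = n22008 := rfl
theorem F42774 : act 0 n22008 = n22008 := d1_1 D22008 (iv D22008) F35168
theorem F42775 : act 1 n22008 = n20544 := d6_1 D22008 (iv D20544) F26503 (iv F21940) (iv F29530)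
theorem F42776 : act 4 n22008 = n21086 := d12_2 F40662 D22008 (iv F40688)
theorem F42777 : act 6 n22008 = n22008 := d14_2 F29531 D22008 (iv D22008)
theorem F42778 : act 3 n22008 = n21925 := d25_3 F35119 D16733 D22008 F42546 F42545 (iv F38990) (iv D20544) (iv D15218) (iv F26493) (iv D15211) D15212 F35073 F34519 (iv D11365) (iv D9083) (iv F13366) (iv F19903) F19904 F13238 D10760 (iv F23553) D18313 F32118 F29906 F27469 D15895 F27477 F21220 (iv F27477) F27476 (iv F29902) (iv F29901) (iv F36006) F36007 F24542 F34766 (iv D10224) (iv D5549) (iv F7067) F23431 F14318 (iv F14319) (iv F23431) F7067 D5549 D10223 (iv F34767) (iv F24542) (iv F36007) F36006 F27490 (iv D12022) (iv D9937) (iv D5092) (iv D2455) F2013 F2012 D1198 D2464 F15769 (iv D1966) (iv F3069) (iv D1906) (iv D938) (iv F1644) D1890 (iv F5985) D8214 (iv F19478) (iv D10985) (iv D8212) D8211 (iv F18958) (iv F34646) F21413 (iv F21942) (iv F35118)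
def n22009 : Q := act 6 n16740
theorem D22009 : act 6 n16740 = n22009 := rfl
theorem F42779 : act 4 n22009 = n16743 := d19_1 D22009 (iv D16743) (iv F29542)
def n22010 : Q := act 3 n16742
theorem D22010 : act 3 n16742 = n22010 := rfl
theorem F42780 : act 5 n22010 = n22010 := d16_2 F29546 D22010 (iv D22010)
def n22011 : Q := act 6 n16742
theorem D22011 : act 6 n16742 = n22011 := rfl
theorem F42781 : act 1 n22011 = n16805 := d10_1 D22011 (iv D16805) D16801 (iv F42527) (iv F42528)
theorem F42782 : act 2 n22011 = n16743 := d14_1 D22011 (iv D16743) D16742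
def n22012 : Q := act 2 n16747
theorem D22012 : act 2 n16747 = n22012 := rfl
theorem F42783 : act 0 n22012 = n21995 := d1_1 D22012 (iv D21995) F35216
theorem F42784 : act 1 n22012 = n18325 := d6_1 D22012 F32140 (iv F39660) (iv D16753) (iv F29552)
theorem F42785 : act 5 n22012 = n22012 := d13_2 F29553 D22012 (iv D22012)
def n22013 : Q := act 4 n16747
theorem D22013 : act 4 n16747 = n22013 := rfl
theorem F42786 : act 0 n22013 = n21993 := d3_1 D22013 F42732 F35216
theorem F42787 : act 1 n22013 = n16754 := d8_1 D22013 (iv D16754) (iv F29552)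
theorem F42788 : act 5 n22013 = n22013 := d18_2 F29553 D22013 (iv D22013)
def n22014 : Q := act 6 n16747
theorem D22014 : act 6 n16747 = n22014 := rfl
theorem F42789 : act 0 n22014 = n21996 := d5_1 D22014 (iv D21996) F35216
theorem F42790 : act 3 n22014 = n16748 := d17_1 D22014 (iv D16748) D16747
theorem F42791 : act 5 n22014 = n21996 := d22_2 F29553 D22014 (iv D21996) F35216
def n22015 : Q := act 1 n16748
theorem D22015 : act 1 n16748 = n22015 := rfl
theorem F42792 : act 2 n22015 = n17172 := d6_2 (iv F29554) D22015 F39640 F29951 F22190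
theorem F42793 : act 5 n22015 = n17170 := d9_2 F35219 D22015 (iv F42725) F42741 (iv D21998)
theorem F42794 : act 6 n22015 = n16756 := d10_2 D16748 D22015 (iv D16756) (iv D12481) (iv F21949)
def n22016 : Q := act 3 n16751
theorem D22016 : act 3 n16751 = n22016 := rfl
theorem F42795 : act 1 n22016 = n16752 := d7_1 D22016 (iv D16752) D16751
theorem F42796 : act 2 n22016 = n17188 := d21_2 F39585 D22016 (iv D17188) (iv D12741) (iv D10287) (iv F18150) D12732 (iv F30150)
def n22017 : Q := act 5 n16751
theorem D22017 : act 5 n16751 = n22017 := rfl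
theorem F42797 : act 0 n22017 = n22015 := d4_1 D22017 F42793 (iv F39810)
theorem F42798 : act 1 n22017 = n16763 := d9_1 D22017 (iv D16763) (iv D12485) (iv F21952) D16751
theorem F42799 : act 2 n22017 = n20028 := d13_1 D22017 (iv F39583) F39585
def n22018 : Q := act 6 n16751
theorem D22018 : act 6 n16751 = n22018 := rfl
theorem F42800 : act 5 n22018 = n16756 := d22_2 (iv D22017) D22018 (iv F42794) (iv F42797)
def n22019 : Q := act 2 n16752
theorem D22019 : act 2 n16752 = n22019 := rfl
theorem F42801 : act 0 n22019 = n16753 := d1_1 D22019 (iv D16753) (iv F29559)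
theorem F42802 : act 1 n22019 = n17353 := d6_1 D22019 F32525 F30435 (iv F42796) F42795
theorem F42803 : act 3 n22019 = n17346 := d11_2 D16752 D22019 F39656 (iv D15232) (iv D11657) F14297 D10160 D12480 D16753 F39661 F39697 (iv D20561) (iv D15231) F20647 D12479
theorem F42804 : act 5 n22019 = n16765 := d13_2 (iv F29560) D22019 (iv D16765)
def n22020 : Q := act 4 n16752
theorem D22020 : act 4 n16752 = n22020 := rfl
theorem F42805 : act 0 n22020 = n16754 := d3_1 D22020 (iv D16754) (iv F29559)
theorem F42806 : act 5 n22020 = n16766 := d18_2 (iv F29560) D22020 (iv D16766)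
def n22021 : Q := act 6 n16753
theorem D22021 : act 6 n16753 = n22021 := rfl
theorem F42807 : act 1 n22021 = n17201 := d10_1 D22021 (iv D17201) F32404 F23570 (iv F39660)
theorem F42808 : act 2 n22021 = n16755 := d14_1 D22021 (iv D16755) D16753
def n22022 : Q := act 6 n16754
theorem D22022 : act 6 n16754 = n22022 := rfl
theorem F42809 : act 4 n22022 = n16755 := d19_1 D22022 (iv D16755) D16754
def n22023 : Q := act 1 n16755
theorem D22023 : act 1 n16755 = n22023 := rfl
theorem F42810 : act 3 n22023 = n16756 := d7_2 (iv F29563) D22023 (iv D16756)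
def n22024 : Q := act 0 n16756
theorem D22024 : act 0 n16756 = n22024 := rfl
theorem F42811 : act 6 n22024 = n22017 := d5_2 F42794 D22024 F42797
def n22025 : Q := act 1 n16761
theorem D22025 : act 1 n16761 = n22025 := rfl
theorem F42812 : act 0 n22025 = n22025 := d0_1 D22025 (iv D22025) (iv D16761) (iv D12485) F18016 F8399 (iv F18016) D12485 D16761
theorem F42813 : act 2 n22025 = n21981 := d6_2 F37850 D22025 (iv D21981) (iv F37753) (iv F37849)
theorem F42814 : act 6 n22025 = n21981 := d10_2 F37847 D22025 (iv D21981) D21983 (iv F42709)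
theorem F42815 : act 5 n22025 = n21981 := d23_4 (iv F37851) F37850 D22025 F42812 (iv F42813) (iv D22025) (iv D16761) D16763 (iv F36883) (iv D14799) (iv F20225) (iv D11431) (iv F20224) F20223 (iv F25749) F25751 F25744 D14799 D20029
def n22026 : Q := act 3 n16761
theorem D22026 : act 3 n16761 = n22026 := rfl
theorem F42816 : act 0 n22026 = n16762 := d2_1 D22026 (iv D16762) D16761
theorem F42817 : act 6 n22026 = n19224 := d17_2 F37847 D22026 (iv F37846)
theorem F42818 : act 2 n19225 = n22026 := d14_3 F42817 F35836 D19225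
def n22027 : Q := act 5 n16761
theorem D22027 : act 5 n16761 = n22027 := rfl
theorem F42819 : act 0 n22027 = n16763 := d4_1 D22027 (iv D16763) D16761
theorem F42820 : act 1 n22027 = n19978 := d9_1 D22027 (iv F37751) D21981 (iv F42815) (iv D22025)
theorem F42821 : act 2 n22027 = n20029 := d13_1 D22027 (iv F37851) F37850
theorem F42822 : act 6 n22027 = n20030 := d20_2 F37847 D22027 F37839 (iv D16764) D16763 F36884 D20032
def n22028 : Q := act 4 n16762
theorem D22028 : act 4 n16762 = n22028 := rfl
theorem F42823 : act 1 n22028 = n16766 := d8_1 D22028 (iv D16766) (iv F29570)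
def n22029 : Q := act 6 n16762
theorem D22029 : act 6 n16762 = n22029 := rfl
theorem F42824 : act 0 n22029 = n19224 := d5_1 D22029 (iv F42817) F42816
theorem F42825 : act 2 n22029 = n19222 := d14_1 D22029 F35835 F36887
theorem F42826 : act 3 n22029 = n16764 := d17_1 D22029 (iv D16764) D16762
theorem F42827 : act 5 n19221 = n22029 := d22_0 (iv D22029) F36886 F35828 (iv F35831)
def n22030 : Q := act 1 n16764
theorem D22030 : act 1 n16764 = n22030 := rfl
theorem F42828 : act 6 n22030 = n16768 := d10_2 D16764 D22030 (iv D16768) (iv D12487) D12485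
def n22031 : Q := act 6 n16765
theorem D22031 : act 6 n16765 = n22031 := rfl
theorem F42829 : act 0 n22031 = n16772 := d5_1 D22031 (iv D16772) (iv F29571)
theorem F42830 : act 1 n22031 = n18500 := d10_1 D22031 F33098 (iv F33221) (iv F40007) (iv F40008)
theorem F42831 : act 2 n22031 = n16767 := d14_1 D22031 (iv D16767) D16765
theorem F42832 : act 3 n22031 = n20577 := d17_1 D22031 (iv D20577) (iv F29572)
theorem F42833 : act 5 n22031 = n22021 := d22_2 F42804 D22031 (iv D22021) (iv F42801)
def n22032 : Q := act 6 n16766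
theorem D22032 : act 6 n16766 = n22032 := rfl
theorem F42834 : act 0 n22032 = n16773 := d5_1 D22032 (iv D16773) (iv F29573)
theorem F42835 : act 4 n22032 = n16767 := d19_1 D22032 (iv D16767) D16766
theorem F42836 : act 5 n22032 = n22022 := d22_2 F42806 D22032 (iv D22022) (iv F42805)
def n22033 : Q := act 1 n16767
theorem D22033 : act 1 n16767 = n22033 := rfl
theorem F42837 : act 3 n22033 = n16768 := d7_2 (iv F29575) D22033 (iv D16768)
def n22034 : Q := act 0 n16768
theorem D22034 : act 0 n16768 = n22034 := rfl
theorem F42838 : act 1 n22034 = n17263 := d0_2 D16768 D22034 F39806 (iv D16676) F21902 (iv F21900) (iv F29375) (iv D12491) (iv F21960)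
theorem F42839 : act 2 n22034 = n17269 := d1_2 F38957 D22034 F39568
def n22035 : Q := act 5 n16768
theorem D22035 : act 5 n16768 = n22035 := rfl
theorem F42840 : act 1 n22035 = n22018 := d9_1 D22035 F42800 (iv D16756) (iv F21962) D16768
theorem F42841 : act 6 n16777 = n22035 := d24_0 (iv D22035) (iv D16768) (iv D12487) (iv F21952) D16751 D22018 F42800 (iv D16756) (iv D12481) F18015 F8399 D10166 D12492 D16777
def n22036 : Q := act 5 n16772
theorem D22036 : act 5 n16772 = n22036 := rfl
theorem F42842 : act 0 n22036 = n22021 := d4_1 D22036 (iv F42833) F42829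
theorem F42843 : act 2 n22036 = n16775 := d13_1 D22036 (iv D16775) (iv F29581)
theorem F42844 : act 6 n22036 = n22019 := d20_2 D16772 D22036 F42804 D22031 F42833 (iv D22021) F29561
def n22037 : Q := act 1 n16773
theorem D22037 : act 1 n16773 = n22037 := rfl
theorem F42845 : act 4 n22037 = n16774 := d8_2 (iv F29582) D22037 (iv D16774)
theorem F42846 : act 6 n22037 = n22037 := d10_2 D16773 D22037 (iv D22037) (iv D16773) F21963
theorem F42847 : act 0 n21969 = n22037 := d3_3 F42845 (iv F29585) D21969
def n22038 : Q := act 5 n16773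
theorem D22038 : act 5 n16773 = n22038 := rfl
theorem F42848 : act 0 n22038 = n22022 := d4_1 D22038 (iv F42836) F42834
theorem F42849 : act 4 n22038 = n16775 := d18_1 D22038 (iv D16775) (iv F29582)
theorem F42850 : act 6 n22038 = n22020 := d20_2 D16773 D22038 F42806 D22032 F42836 (iv D22022) F29562
def n22039 : Q := act 2 n16774
theorem D22039 : act 2 n16774 = n22039 := rfl
theorem F42851 : act 0 n22039 = n21968 := d1_1 D22039 (iv D21968) F29585
theorem F42852 : act 6 n22039 = n22039 := d14_2 F29584 D22039 (iv D22039)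
def n22040 : Q := act 5 n16774
theorem D22040 : act 5 n16774 = n22040 := rfl
theorem F42853 : act 0 n22040 = n21970 := d4_1 D22040 (iv D21970) F29585
theorem F42854 : act 3 n22040 = n16776 := d16_1 D22040 (iv D16776) (iv F29583)
theorem F42855 : act 6 n22040 = n21970 := d22_1 D22040 (iv D21970) F29456 F29585
def n22041 : Q := act 1 n16775
theorem D22041 : act 1 n16775 = n22041 := rfl
theorem F42856 : act 3 n22041 = n16777 := d7_2 (iv F29587) D22041 (iv D16777)
def n22042 : Q := act 1 n16776
theorem D22042 : act 1 n16776 = n22042 := rfl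
theorem F42857 : act 0 n22042 = n22030 := d0_1 D22042 (iv D22030) (iv F37844) F42709 F42706 (iv F42689) F42688 (iv D21971) (iv F29589)
theorem F42858 : act 5 n22042 = n16777 := d9_2 D16776 D22042 (iv D16777) (iv D12492) D12491
theorem F42859 : act 6 n22042 = n22034 := d10_2 (iv F29591) D22042 F42838 F42684 (iv D21971)
def n22043 : Q := act 0 n16777
theorem D22043 : act 0 n16777 = n22043 := rfl
theorem F42860 : act 5 n22043 = n22030 := d4_2 F42858 D22043 (iv F42857)
def n22044 : Q := act 2 n16777
theorem D22044 : act 2 n16777 = n22044 := rfl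
theorem F42861 : act 1 n22044 = n16778 := d6_1 D22044 (iv D16778) (iv D12493) (iv F21968) D16777
def n22045 : Q := act 3 n16779
theorem D22045 : act 3 n16779 = n22045 := rfl
theorem F42862 : act 0 n22045 = n20477 := d2_1 D22045 (iv D20477) (iv F29594)
theorem F42863 : act 1 n22045 = n20496 := d7_1 D22045 (iv D20496) (iv F29595)
theorem F42864 : act 2 n22045 = n19039 := d11_1 D22045 F34147 (iv F34141) (iv D16549) (iv D12351) (iv F20579) D15148 D20477 F38862 F31899 D19038 (iv F34144) (iv D16548) (iv F21972) D16779
theorem F42865 : act 5 n22045 = n19038 := d16_2 (iv F29596) D22045 (iv F34144)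
def n22046 : Q := act 0 n16781
theorem D22046 : act 0 n16781 = n22046 := rfl
theorem F42866 : act 6 n22046 = n16787 := d5_2 (iv F29598) D22046 (iv D16787)
def n22047 : Q := act 2 n16781
theorem D22047 : act 2 n16781 = n22047 := rfl
theorem F42867 : act 1 n22047 = n16813 := d6_1 D22047 (iv D16813) (iv D12519) (iv F21976) D16781
theorem F42868 : act 6 n22047 = n16788 := d14_2 (iv F29598) D22047 (iv D16788)
theorem F42869 : act 5 n17109 = n22047 := d9_0 F42867 (iv F42594) F42593 F29361 D17109
def n22048 : Q := act 5 n16781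
theorem D22048 : act 5 n16781 = n22048 := rfl
theorem F42870 : act 1 n22048 = n17110 := d9_1 D22048 F30066 F29603 (iv D16782) D16781
theorem F42871 : act 2 n22048 = n17109 := d13_1 D22048 F42869 (iv D22047)
theorem F42872 : act 1 n19983 = n22046 := d23_18 D22048 F42871 (iv D17109) (iv F39606) (iv D16910) (iv F39605) (iv F22272) F20607 (iv D9556) D9555 (iv F20112) F34725 D12462 (iv F34724) D19827 F37425 (iv F35896) (iv F37761) (iv D22046)
def n22049 : Q := act 1 n16783
theorem D22049 : act 1 n16783 = n22049 := rfl
theorem F42873 : act 4 n22049 = n16784 := d8_2 (iv F29605) D22049 (iv D16784)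
def n22050 : Q := act 0 n16784
theorem D22050 : act 0 n16784 = n22050 := rfl
theorem F42874 : act 3 n22050 = n16787 := d2_2 (iv F29606) D22050 (iv D16787)
def n22051 : Q := act 2 n16784
theorem D22051 : act 2 n16784 = n22051 := rfl
theorem F42875 : act 1 n22051 = n22051 := d6_1 D22051 (iv D22051) (iv D16784) F21980 D16784
def n22052 : Q := act 5 n16784
theorem D22052 : act 5 n16784 = n22052 := rfl
theorem F42876 : act 3 n22052 = n16789 := d16_1 D22052 (iv D16789) (iv F29606)
def n22053 : Q := act 1 n16785
theorem D22053 : act 1 n16785 = n22053 := rfl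
theorem F42877 : act 3 n22053 = n16790 := d7_2 (iv F29609) D22053 (iv D16790)
def n22054 : Q := act 0 n16786
theorem D22054 : act 0 n16786 = n22054 := rfl
theorem F42878 : act 3 n22054 = n19270 := d2_2 (iv F29611) D22054 F35934
theorem F42879 : act 6 n22054 = n17186 := d5_2 (iv F29612) D22054 F34136
theorem F42880 : act 2 n22054 = n19200 := d21_0 (iv D19200) (iv D13962) (iv F23527) D18283 F36131 F24589 (iv F29611) D22054
def n22055 : Q := act 2 n16786
theorem D22055 : act 2 n16786 = n22055 := rfl
theorem F42881 : act 0 n22055 = n19200 := d1_1 D22055 (iv F42880) (iv D22054)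
theorem F42882 : act 1 n22055 = n16791 := d6_1 D22055 (iv D16791) (iv D12506) (iv F21982) D16786
theorem F42883 : act 6 n22055 = n19259 := d14_2 (iv F29612) D22055 (iv D19259)
theorem F42884 : act 3 n22055 = n19199 := d21_5 D18283 F36131 F24589 (iv F29611) D22055 (iv D19199) (iv F31993) (iv D18282)
def n22056 : Q := act 5 n16786
theorem D22056 : act 5 n16786 = n22056 := rfl
theorem F42885 : act 1 n22056 = n20582 := d9_1 D22056 (iv D20582) (iv D15248) (iv F21983) D16786
theorem F42886 : act 3 n22056 = n19271 := d16_1 D22056 (iv D19271) (iv F29611)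
def n22057 : Q := act 1 n16787
theorem D22057 : act 1 n16787 = n22057 := rfl
theorem F42887 : act 6 n22057 = n19980 := d10_2 F42866 D22057 (iv D19980) D19983 F42872
theorem F42888 : act 0 n20686 = n22057 := d5_3 F42887 F37755 D20686
theorem F42889 : act 2 n19987 = n22057 := d14_3 F42887 F37756 D19987
def n22058 : Q := act 2 n16787
theorem D22058 : act 2 n16787 = n22058 := rfl
theorem F42890 : act 0 n22058 = n16788 := d1_1 D22058 (iv D16788) D16787
def n22059 : Q := act 5 n16787
theorem D22059 : act 5 n16787 = n22059 := rfl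
theorem F42891 : act 0 n22059 = n16789 := d4_1 D22059 (iv D16789) D16787
theorem F42892 : act 6 n22059 = n22048 := d22_1 D22059 (iv D22048) F29598 D16787
def n22060 : Q := act 3 n16788
theorem D22060 : act 3 n16788 = n22060 := rfl
theorem F42893 : act 1 n22060 = n16793 := d7_1 D22060 (iv D16793) (iv F29613)
def n22061 : Q := act 5 n16788
theorem D22061 : act 5 n16788 = n22061 := rfl
theorem F42894 : act 2 n22061 = n16789 := d13_1 D22061 (iv D16789) D16788
def n22062 : Q := act 6 n16789
theorem D22062 : act 6 n16789 = n22062 := rfl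
theorem F42895 : act 0 n22062 = n22048 := d5_1 D22062 (iv F42892) F42891
theorem F42896 : act 5 n22062 = n22046 := d20_1 D22062 F42866 D22059 F42892 (iv D22048) F29598 D16789
theorem F42897 : act 1 n19951 = n22062 := d0_0 F42895 F42870 F35578 (iv D17187) F22334 F18153 (iv F20190) D14735 D19951
def n22063 : Q := act 2 n16790
theorem D22063 : act 2 n16790 = n22063 := rfl
theorem F42898 : act 1 n22063 = n16795 := d6_1 D22063 (iv D16795) (iv D12510) (iv F21985) D16790
def n22064 : Q := act 6 n16790
theorem D22064 : act 6 n16790 = n22064 := rfl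
theorem F42899 : act 1 n22064 = n20501 := d10_1 D22064 (iv D20501) F26463 (iv F21986) D16790
theorem F42900 : act 5 n22064 = n16877 := d22_2 F35274 D22064 (iv D16877) D16874
def n22065 : Q := act 3 n16792
theorem D22065 : act 3 n16792 = n22065 := rfl
theorem F42901 : act 0 n22065 = n16793 := d2_1 D22065 (iv D16793) (iv F29616)
theorem F42902 : act 5 n22065 = n20520 := d16_2 (iv F29617) D22065 F39553
theorem F42903 : act 6 n22065 = n16828 := d17_2 (iv F29618) D22065 (iv D16828)
theorem F42904 : act 2 n22065 = n20524 := d21_2 D16792 D22065 (iv F39813) F37566 F35316 (iv D15243) F20670 D12507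
theorem F42905 : act 2 n19851 = n22060 := d23_17 F42902 F38949 (iv D15202) F20628 D11644 F20634 F14290 (iv F20607) (iv D11623) F34740 (iv D9549) (iv F14265) (iv F14272) (iv F20583) D15154 (iv F37827) F37828 F42893 (iv F42901)
def n22066 : Q := act 2 n16793
theorem D22066 : act 2 n16793 = n22066 := rfl
theorem F42906 : act 0 n22066 = n20524 := d1_1 D22066 (iv F42904) F42901
theorem F42907 : act 1 n22066 = n19852 := d6_1 D22066 (iv D19852) D19851 F42905 F42893
theorem F42908 : act 6 n22066 = n16830 := d14_2 (iv F29619) D22066 (iv D16830)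
theorem F42909 : act 5 n20522 = n22066 := d22_0 F42908 (iv F39557) (iv D20525) D20522
def n22067 : Q := act 4 n16793
theorem D22067 : act 4 n16793 = n22067 := rfl
theorem F42910 : act 6 n22067 = n16831 := d19_2 (iv F29619) D22067 (iv D16831)
def n22068 : Q := act 5 n16793
theorem D22068 : act 5 n16793 = n22068 := rfl
theorem F42911 : act 0 n22068 = n20520 := d4_1 D22068 (iv F42902) F42901
theorem F42912 : act 2 n22068 = n20522 := d13_1 D22068 F42909 (iv D22066)
theorem F42913 : act 3 n22068 = n16794 := d16_1 D22068 (iv D16794) D16793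
def n22069 : Q := act 1 n16794
theorem D22069 : act 1 n16794 = n22069 := rfl
def n22070 : Q := act 3 n16795
theorem D22070 : act 3 n16795 = n22070 := rfl
theorem F42914 : act 0 n22070 = n17023 := d2_1 D22070 F29961 (iv F29622)
theorem F42915 : act 6 n22070 = n17020 := d17_2 (iv F29623) D22070 (iv D17020)
def n22071 : Q := act 5 n16796
theorem D22071 : act 5 n16796 = n22071 := rfl
theorem F42916 : act 0 n22071 = n16804 := d4_1 D22071 (iv D16804) (iv F29624)
theorem F42917 : act 1 n22071 = n22071 := d9_1 D22071 (iv D22071) F29625 F27420 (iv F29625)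
theorem F42918 : act 2 n22071 = n16798 := d13_1 D22071 (iv D16798) D16796
theorem F42919 : act 3 n22071 = n19236 := d16_1 D22071 (iv F35868) F29626
theorem F42920 : act 4 n22071 = n20861 := d18_1 D22071 F40045 (iv F29627)
def n22072 : Q := act 6 n16796
theorem D22072 : act 6 n16796 = n22072 := rfl
theorem F42921 : act 0 n22072 = n16805 := d5_1 D22072 (iv D16805) (iv F29624)
theorem F42922 : act 2 n22072 = n16799 := d14_1 D22072 (iv D16799) D16796
theorem F42923 : act 3 n22072 = n21035 := d17_1 D22072 (iv D21035) F29626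
theorem F42924 : act 4 n22072 = n21030 := d19_1 D22072 (iv D21030) (iv F29627)
def n22073 : Q := act 5 n16797
theorem D22073 : act 5 n16797 = n22073 := rfl
theorem F42925 : act 0 n22073 = n16806 := d4_1 D22073 (iv D16806) (iv F29628)
theorem F42926 : act 2 n22073 = n20861 := d13_1 D22073 F40045 (iv F29630)
theorem F42927 : act 3 n22073 = n20688 := d16_1 D22073 F39253 F32074
theorem F42928 : act 4 n22073 = n16798 := d18_1 D22073 (iv D16798) D16797
def n22074 : Q := act 6 n16797
theorem D22074 : act 6 n16797 = n22074 := rfl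
theorem F42929 : act 0 n22074 = n16807 := d5_1 D22074 (iv D16807) (iv F29628)
theorem F42930 : act 2 n22074 = n21030 := d14_1 D22074 (iv D21030) (iv F29630)
theorem F42931 : act 4 n22074 = n16799 := d19_1 D22074 (iv D16799) D16797
def n22075 : Q := act 1 n16799
theorem D22075 : act 1 n16799 = n22075 := rfl
theorem F42932 : act 3 n22075 = n16800 := d7_2 (iv F29634) D22075 (iv D16800)
theorem F42933 : act 6 n22075 = n22075 := d10_2 D16799 D22075 (iv D22075) (iv D16799) F21994
def n22076 : Q := act 0 n16800
theorem D22076 : act 0 n16800 = n22076 := rfl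
theorem F42934 : act 6 n22076 = n22076 := d5_2 F29635 D22076 (iv D22076)
def n22077 : Q := act 2 n16800
theorem D22077 : act 2 n16800 = n22077 := rfl
theorem F42935 : act 6 n22077 = n22077 := d14_2 F29635 D22077 (iv D22077)
def n22078 : Q := act 5 n16800
theorem D22078 : act 5 n16800 = n22078 := rfl
theorem F42936 : act 1 n22078 = n16853 := d9_1 D22078 F42664 (iv D16811) F22000 D16800
theorem F42937 : act 6 n16820 = n22078 := d24_0 (iv D22078) (iv D16800) (iv D12513) D12512 (iv F29360) (iv D16580) F21817 F21816 D12378 (iv F21854) D16621 (iv F29672) (iv D16822) D16820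
theorem F42938 : act 5 n22076 = n16820 := d22_0 F42937 (iv D22078) F29635 D22076
theorem F42939 : act 0 n22078 = n16820 := d22_4 (iv F42938) F42934 F42938 F42937
theorem F42940 : act 1 n22076 = n17148 := d24_2 (iv F42937) (iv F42938) (iv D17148) (iv F29349) (iv F32056) F32060 F29413 (iv D16656) D16659 (iv F29437) D21962 F42662 (iv F42664) (iv F42936)
def n22079 : Q := act 6 n16802
theorem D22079 : act 6 n16802 = n22079 := rfl
theorem F42941 : act 0 n22079 = n21035 := d5_1 D22079 (iv D21035) (iv F29640)
theorem F42942 : act 3 n22079 = n16805 := d17_1 D22079 (iv D16805) D16802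
theorem F42943 : act 4 n22079 = n21032 := d19_1 D22079 (iv D21032) F29641
def n22080 : Q := act 5 n16803
theorem D22080 : act 5 n16803 = n22080 := rfl
theorem F42944 : act 0 n22080 = n20861 := d4_1 D22080 F40045 (iv F29642)
theorem F42945 : act 1 n22080 = n18469 := d9_1 D22080 (iv D18469) F23718 D16536 (iv F29643)
theorem F42946 : act 2 n22080 = n16806 := d13_1 D22080 (iv D16806) (iv F29644)
theorem F42947 : act 3 n22080 = n18471 := d16_1 D22080 F32449 (iv F29645)
theorem F42948 : act 4 n22080 = n16804 := d18_1 D22080 (iv D16804) D16803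
def n22081 : Q := act 6 n16803
theorem D22081 : act 6 n16803 = n22081 := rfl
theorem F42949 : act 0 n22081 = n21030 := d5_1 D22081 (iv D21030) (iv F29642)
theorem F42950 : act 2 n22081 = n16807 := d14_1 D22081 (iv D16807) (iv F29644)
theorem F42951 : act 3 n22081 = n21029 := d17_1 D22081 (iv D21029) (iv F29645)
theorem F42952 : act 4 n22081 = n16805 := d19_1 D22081 (iv D16805) D16803
def n22082 : Q := act 6 n16804
theorem D22082 : act 6 n16804 = n22082 := rfl
theorem F42953 : act 2 n22082 = n16808 := d14_1 D22082 (iv D16808) (iv F29646)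
theorem F42954 : act 5 n22082 = n22072 := d22_2 D16804 D22082 (iv D22072) F29624
def n22083 : Q := act 5 n16805
theorem D22083 : act 5 n16805 = n22083 := rfl
theorem F42955 : act 0 n22083 = n22082 := d4_1 D22083 F42954 F42921
theorem F42956 : act 2 n22083 = n16810 := d13_1 D22083 (iv D16810) (iv F29647)
theorem F42957 : act 6 n22083 = n22071 := d20_2 D16805 D22083 (iv D22071) D22072 (iv F42954) (iv D22082) (iv D16804)
theorem F42958 : act 1 n21945 = n22083 := d6_5 F42956 (iv F29657) F29318 D16624 D21945
def n22084 : Q := act 6 n16806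
theorem D22084 : act 6 n16806 = n22084 := rfl
theorem F42959 : act 4 n22084 = n16808 := d19_1 D22084 (iv D16808) (iv F29648)
theorem F42960 : act 5 n22084 = n22074 := d22_2 D16806 D22084 (iv D22074) F29628
def n22085 : Q := act 1 n16807
theorem D22085 : act 1 n16807 = n22085 := rfl
theorem F42961 : act 4 n22085 = n16809 := d8_2 (iv F29649) D22085 (iv D16809)
theorem F42962 : act 6 n22085 = n16816 := d10_2 D16807 D22085 (iv D16816) (iv D12524) (iv F21997)
def n22086 : Q := act 5 n16807
theorem D22086 : act 5 n16807 = n22086 := rfl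
theorem F42963 : act 0 n22086 = n22084 := d4_1 D22086 F42960 F42929
theorem F42964 : act 4 n22086 = n16810 := d18_1 D22086 (iv D16810) (iv F29649)
theorem F42965 : act 6 n22086 = n22073 := d20_2 D16807 D22086 (iv D22073) D22074 (iv F42960) (iv D22084) (iv D16806)
theorem F42966 : act 1 n21928 = n22086 := d8_3 F42964 (iv F29657) (iv F42558)
def n22087 : Q := act 1 n16808
theorem D22087 : act 1 n16808 = n22087 := rfl
theorem F42967 : act 3 n22087 = n16811 := d7_2 (iv F29650) D22087 (iv D16811)
def n22088 : Q := act 0 n16809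
theorem D22088 : act 0 n16809 = n22088 := rfl
theorem F42968 : act 3 n22088 = n16812 := d2_2 (iv F29652) D22088 (iv D16812)
theorem F42969 : act 6 n22088 = n16817 := d5_2 (iv F29653) D22088 (iv D16817)
def n22089 : Q := act 2 n16811
theorem D22089 : act 2 n16811 = n22089 := rfl
theorem F42970 : act 0 n22089 = n20553 := d1_1 D22089 F39009 (iv F42663)
theorem F42971 : act 6 n22089 = n18611 := d14_2 F42662 D22089 (iv F42660)
theorem F42972 : act 3 n18614 = n22089 := d17_3 F42971 F33293 D18614
def n22090 : Q := act 1 n16812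
theorem D22090 : act 1 n16812 = n22090 := rfl
theorem F42973 : act 0 n22090 = n16856 := d0_1 D22090 F29738 (iv F30115) (iv F42940) (iv D22076) (iv D16800) F21996 D12519 D16812
theorem F42974 : act 6 n22090 = n16853 := d10_2 (iv F29658) D22090 (iv F42936) (iv F42937) (iv D16820)
theorem F42975 : act 2 n18658 = n22090 := d1_0 F42973 F34913 D18658
def n22091 : Q := act 2 n16812
theorem D22091 : act 2 n16812 = n22091 := rfl
theorem F42976 : act 0 n22091 = n16813 := d1_1 D22091 (iv D16813) D16812
theorem F42977 : act 1 n22091 = n20059 := d6_1 D22091 F37895 F35045 F42975 (iv D22090)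
theorem F42978 : act 5 n22091 = n17255 := d13_2 F29677 D22091 (iv F39564)
theorem F42979 : act 6 n22091 = n16821 := d14_2 (iv F29658) D22091 (iv D16821)
theorem F42980 : act 3 n22091 = n17256 := d21_1 D22091 F30274 (iv F39670) F29951 (iv F29946) (iv F35172) F29652 D16812
def n22092 : Q := act 3 n16813
theorem D22092 : act 3 n16813 = n22092 := rfl
theorem F42981 : act 0 n22092 = n17256 := d2_1 D22092 (iv F42980) F42976
theorem F42982 : act 5 n22092 = n16900 := d16_2 F42594 D22092 F42595
theorem F42983 : act 6 n22092 = n16823 := d17_2 (iv F29659) D22092 (iv D16823)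
def n22093 : Q := act 0 n16816
theorem D22093 : act 0 n16816 = n22093 := rfl
theorem F42984 : act 4 n22093 = n16817 := d3_2 (iv F29666) D22093 (iv D16817)
def n22094 : Q := act 5 n16816
theorem D22094 : act 5 n16816 = n22094 := rfl
theorem F42985 : act 1 n22094 = n21965 := d9_1 D22094 (iv D21965) (iv D16669) (iv F22013) D16816
theorem F42986 : act 4 n22094 = n16819 := d18_1 D22094 (iv D16819) (iv F29666)
def n22095 : Q := act 1 n16817
theorem D22095 : act 1 n16817 = n22095 := rfl
theorem F42987 : act 3 n22095 = n16820 := d7_2 (iv F29667) D22095 (iv D16820)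
def n22096 : Q := act 5 n16817
theorem D22096 : act 5 n16817 = n22096 := rfl
theorem F42988 : act 0 n22096 = n16819 := d4_1 D22096 (iv D16819) D16817
theorem F42989 : act 3 n22096 = n16822 := d16_1 D22096 (iv D16822) (iv F29667)
theorem F42990 : act 6 n22096 = n21941 := d22_1 D22096 F42591 F29653 D16817
theorem F42991 : act 1 n21939 = n22096 := d10_5 F42990 (iv D21941) (iv D16620) (iv F29350) D21939
def n22097 : Q := act 6 n16819
theorem D22097 : act 6 n16819 = n22097 := rfl
theorem F42992 : act 0 n22097 = n21941 := d5_1 D22097 (iv F42990) F42988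
theorem F42993 : act 2 n22097 = n21950 := d14_1 D22097 F42618 (iv F35171)
theorem F42994 : act 3 n22097 = n16825 := d17_1 D22097 (iv D16825) (iv F29669)
theorem F42995 : act 5 n22097 = n22088 := d20_1 D22097 F42969 D22096 F42990 F42591 F29653 D16819
theorem F42996 : act 1 n16850 = n22097 := d7_3 F42994 (iv F29678) (iv F29735)
def n22098 : Q := act 2 n16820
theorem D22098 : act 2 n16820 = n22098 := rfl
def n22099 : Q := act 1 n16821
theorem D22099 : act 1 n16821 = n22099 := rfl
theorem F42997 : act 6 n22099 = n20056 := d10_2 F42979 D22099 (iv D20056) D20059 (iv F42977)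
def n22100 : Q := act 3 n16821
theorem D22100 : act 3 n16821 = n22100 := rfl
theorem F42998 : act 0 n22100 = n16823 := d2_1 D22100 (iv D16823) (iv F29670)
theorem F42999 : act 6 n22100 = n17256 := d17_2 F42979 D22100 (iv F42980)
theorem F43000 : act 2 n22100 = n17015 := d21_2 D16821 D22100 (iv D17015) (iv D12639) (iv F22188) F35169 F22014 D12526
def n22101 : Q := act 5 n16821
theorem D22101 : act 5 n16821 = n22101 := rfl
theorem F43001 : act 0 n22101 = n16824 := d4_1 D22101 (iv D16824) (iv F29670)
theorem F43002 : act 2 n22101 = n16822 := d13_1 D22101 (iv D16822) D16821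
theorem F43003 : act 6 n22101 = n21942 := d20_2 F42979 D22101 F42594 F29659 D16824 (iv F39563) (iv F42978)
def n22102 : Q := act 2 n16823
theorem D22102 : act 2 n16823 = n22102 := rfl
theorem F43004 : act 0 n22102 = n17015 := d1_1 D22102 (iv F43000) F42998
theorem F43005 : act 3 n22102 = n17013 := d11_2 D16823 D22102 (iv D17013) (iv F29944) (iv F35170) F29667 D16821 D22100 F43000 (iv D17015) (iv D12639) (iv F22188) F35169 F22014 D12527
theorem F43006 : act 5 n22102 = n17164 := d13_2 F39560 D22102 (iv F30276)
def n22103 : Q := act 4 n16823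
theorem D22103 : act 4 n16823 = n22103 := rfl
theorem F43007 : act 1 n22103 = n16831 := d8_1 D22103 (iv D16831) (iv F29674)
theorem F43008 : act 5 n22103 = n21856 := d18_2 F39560 D22103 F42398
def n22104 : Q := act 3 n16826
theorem D22104 : act 3 n16826 = n22104 := rfl
theorem F43009 : act 1 n22104 = n21930 := d7_1 D22104 F42565 (iv F35585)
theorem F43010 : act 6 n22104 = n21916 := d17_2 (iv F29679) D22104 F42510
theorem F43011 : act 2 n19107 = n22104 := d6_0 F43009 (iv D21930) F35593 F35591 D19107
def n22105 : Q := act 2 n16828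
theorem D22105 : act 2 n16828 = n22105 := rfl
theorem F43012 : act 0 n22105 = n16830 := d1_1 D22105 (iv D16830) (iv F29680)
theorem F43013 : act 1 n22105 = n16952 := d6_1 D22105 F29858 F22125 (iv F29761) (iv F39614)
theorem F43014 : act 6 n22105 = n20524 := d14_2 F42903 D22105 (iv F42904)
theorem F43015 : act 3 n22105 = n20591 := d21_1 D22105 (iv D20591) (iv D15257) (iv D11677) F14310 D10187 D12532 (iv F29680)
def n22106 : Q := act 4 n16828
theorem D22106 : act 4 n16828 = n22106 := rfl
theorem F43016 : act 0 n22106 = n16831 := d3_1 D22106 (iv D16831) (iv F29680)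
theorem F43017 : act 1 n22106 = n21555 := d8_1 D22106 F41732 (iv F39614)
def n22107 : Q := act 5 n16828
theorem D22107 : act 5 n16828 = n22107 := rfl
theorem F43018 : act 0 n22107 = n16832 := d4_1 D22107 (iv D16832) (iv F29680)
theorem F43019 : act 3 n22107 = n16829 := d16_1 D22107 (iv D16829) D16828
theorem F43020 : act 6 n22107 = n22068 := d20_2 F42903 D22107 (iv D22068) F29619 D16832 (iv F39554) (iv F42902)
def n22108 : Q := act 1 n16829
theorem D22108 : act 1 n16829 = n22108 := rfl
theorem F43021 : act 2 n22108 = n16972 := d6_2 (iv F29682) D22108 (iv D16972) F22151 F22020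
def n22109 : Q := act 1 n16830
theorem D22109 : act 1 n16830 = n22109 := rfl
theorem F43022 : act 6 n22109 = n19858 := d10_2 F42908 D22109 (iv D19858) (iv F37484) (iv F42907)
def n22110 : Q := act 3 n16830
theorem D22110 : act 3 n16830 = n22110 := rfl
theorem F43023 : act 0 n22110 = n20591 := d2_1 D22110 (iv F43015) F43012
theorem F43024 : act 2 n22110 = n19891 := d11_1 D22110 F37555 (iv D15255) F20687 D12530 D16828 D22105 F43015 (iv D20591) (iv D15257) (iv D11677) F14310 D10187 D12532 D16830
theorem F43025 : act 5 n22110 = n19890 := d16_2 F39557 D22110 (iv F39558)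
theorem F43026 : act 4 n19915 = n22110 := d18_3 F43025 F37551 D19915
def n22111 : Q := act 4 n16830
theorem D22111 : act 4 n16830 = n22111 := rfl
theorem F43027 : act 2 n22111 = n16831 := d12_1 D22111 (iv D16831) D16830
def n22112 : Q := act 5 n16831
theorem D22112 : act 5 n16831 = n22112 := rfl
theorem F43028 : act 1 n22112 = n21866 := d9_1 D22112 (iv D21866) (iv F42396) (iv F43008) F43007
theorem F43029 : act 4 n22112 = n16832 := d18_1 D22112 (iv D16832) D16831
def n22113 : Q := act 0 n16833
theorem D22113 : act 0 n16833 = n22113 := rfl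
theorem F43030 : act 2 n22113 = n21980 := d1_2 (iv F29685) D22113 (iv D21980)
theorem F43031 : act 3 n22113 = n17267 := d2_2 F39559 D22113 (iv F30298)
theorem F43032 : act 5 n22113 = n19974 := d4_2 (iv F39569) D22113 (iv F39636)
theorem F43033 : act 6 n17265 = n22113 := d22_3 F39569 (iv D17266) D17265 (iv D22113)
theorem F43034 : act 1 n17175 = n22113 := d23_2 D12746 (iv F30162) (iv D22113) F39569 (iv F42682) (iv D21971) (iv F29589) (iv D16776) F21965 (iv D12401) (iv F21852) F21854 F21836 D12379 (iv F26515) (iv F29327) F35580 (iv D17187) F22334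
def n22114 : Q := act 6 n16833
theorem D22114 : act 6 n16833 = n22114 := rfl
theorem F43035 : act 0 n22114 = n17265 := d5_1 D22114 F43033 (iv D22113)
theorem F43036 : act 2 n22114 = n21973 := d14_1 D22114 F42687 (iv F29685)
theorem F43037 : act 3 n22114 = n17261 := d17_1 D22114 (iv F30300) F39559
theorem F43038 : act 5 n22114 = n17260 := d20_1 D22114 (iv F39635) (iv F43032) (iv F43033) (iv D17265) D17266 (iv F39569)
def n22115 : Q := act 6 n16834
theorem D22115 : act 6 n16834 = n22115 := rfl
theorem F43039 : act 0 n22115 = n20594 := d5_1 D22115 (iv D20594) (iv F29686)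
theorem F43040 : act 3 n22115 = n16835 := d17_1 D22115 (iv D16835) D16834
theorem F43041 : act 4 n22115 = n16837 := d19_1 D22115 (iv D16837) (iv F29688)
theorem F43042 : act 5 n22115 = n21084 := d20_1 D22115 F40682 F36607 D20594 (iv F39081) (iv F40677) (iv F40678)
def n22116 : Q := act 1 n16835
theorem D22116 : act 1 n16835 = n22116 := rfl
theorem F43043 : act 4 n22116 = n16836 := d8_2 (iv F29691) D22116 (iv D16836)
theorem F43044 : act 6 n22116 = n22116 := d10_2 D16835 D22116 (iv D22116) (iv D16835) F22023
theorem F43045 : act 0 n18155 = n22116 := d3_3 F43043 F35130 (iv F31736)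
def n22117 : Q := act 2 n16836
theorem D22117 : act 2 n16836 = n22117 := rfl
theorem F43046 : act 0 n22117 = n18169 := d1_1 D22117 (iv D18169) (iv F35130)
theorem F43047 : act 1 n22117 = n20585 := d6_1 D22117 (iv D20585) (iv D15250) (iv F22026) D16836
theorem F43048 : act 6 n22117 = n22117 := d14_2 F29693 D22117 (iv D22117)
theorem F43049 : act 3 n17654 = n22117 := d7_0 F43047 F39839 (iv F30885)
theorem F43050 : act 5 n17652 = n22117 := d9_0 F43047 (iv F39838) F27221 F22763 D17652
def n22118 : Q := act 5 n16836
theorem D22118 : act 5 n16836 = n22118 := rfl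
theorem F43051 : act 0 n22118 = n18170 := d4_1 D22118 (iv D18170) (iv F35130)
theorem F43052 : act 2 n22118 = n17652 := d13_1 D22118 F43050 (iv D22117)
theorem F43053 : act 3 n22118 = n16842 := d16_1 D22118 (iv D16842) (iv F29692)
theorem F43054 : act 6 n22118 = n18170 := d22_1 D22118 (iv D18170) F23361 (iv F35130)
def n22119 : Q := act 2 n16838
theorem D22119 : act 2 n16838 = n22119 := rfl
theorem F43055 : act 1 n22119 = n16845 := d6_1 D22119 (iv D16845) (iv D12540) (iv F22029) D16838
theorem F43056 : act 4 n22119 = n16841 := d12_2 (iv F29697) D22119 (iv D16841)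
theorem F43057 : act 6 n22119 = n22119 := d14_2 F29698 D22119 (iv D22119)
def n22120 : Q := act 5 n16838
theorem D22120 : act 5 n16838 = n22120 := rfl
theorem F43058 : act 4 n22120 = n16842 := d18_1 D22120 (iv D16842) (iv F29697)
def n22121 : Q := act 1 n16839
theorem D22121 : act 1 n16839 = n22121 := rfl
theorem F43059 : act 3 n22121 = n19536 := d7_2 (iv F29701) D22121 F36651
theorem F43060 : act 4 n22121 = n16843 := d8_2 (iv F29702) D22121 (iv D16843)
theorem F43061 : act 6 n22121 = n19530 := d10_2 (iv F29703) D22121 (iv D19530) F25042 (iv F29441)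
def n22122 : Q := act 2 n16840
theorem D22122 : act 2 n16840 = n22122 := rfl
theorem F43062 : act 0 n22122 = n16841 := d1_1 D22122 (iv D16841) D16840
theorem F43063 : act 1 n22122 = n21034 := d6_1 D22122 F40515 (iv F33055) F31750 (iv F35131)
theorem F43064 : act 6 n22122 = n22122 := d14_2 F29704 D22122 (iv D22122)
theorem F43065 : act 3 n21963 = n22122 := d7_0 F43063 F40516 D21963
theorem E10326 : n21963 = n17158 := ((c2_4 F43065 F43062 (iv F29707) D17158)).symm
theorem F43066 : act 1 n17158 = n16665 := (sb E10326 (iv D21963))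
theorem F43067 : act 3 n17158 = n22122 := (sb E10326 F43065)
theorem F43068 : act 1 n21255 = n21799 := d8_3 F42267 F43066 (iv F41103)
def n22123 : Q := act 5 n16841
theorem D22123 : act 5 n16841 = n22123 := rfl
theorem F43069 : act 2 n22123 = n16842 := d13_1 D22123 (iv D16842) D16841
theorem F43070 : act 3 n22123 = n17160 := d16_1 D22123 (iv D17160) F29707
def n22124 : Q := act 2 n16843
theorem D22124 : act 2 n16843 = n22124 := rfl
theorem F43071 : act 1 n22124 = n16851 := d6_1 D22124 (iv D16851) (iv D12545) (iv F22033) D16843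
def n22125 : Q := act 1 n16844
theorem D22125 : act 1 n16844 = n22125 := rfl
theorem F43072 : act 4 n22125 = n16848 := d8_2 (iv F29708) D22125 (iv D16848)
def n22126 : Q := act 1 n16846
theorem D22126 : act 1 n16846 = n22126 := rfl
theorem F43073 : act 4 n22126 = n16849 := d8_2 (iv F29730) D22126 (iv D16849)
theorem F43074 : act 5 n22126 = n16847 := d9_2 D16846 D22126 (iv D16847) (iv D12541) D12540
def n22127 : Q := act 0 n16847
theorem D22127 : act 0 n16847 = n22127 := rfl
theorem F43075 : act 4 n22127 = n16850 := d3_2 (iv F29731) D22127 (iv D16850)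
def n22128 : Q := act 2 n16847
theorem D22128 : act 2 n16847 = n22128 := rfl
theorem F43076 : act 4 n22128 = n16851 := d12_2 (iv F29731) D22128 (iv D16851)
def n22129 : Q := act 6 n16847
theorem D22129 : act 6 n16847 = n22129 := rfl
theorem F43077 : act 1 n22129 = n21960 := d10_1 D22129 (iv D21960) F29429 (iv F22039) D16847
theorem F43078 : act 4 n22129 = n16852 := d19_1 D22129 (iv D16852) (iv F29731)
def n22130 : Q := act 0 n16848
theorem D22130 : act 0 n16848 = n22130 := rfl
theorem F43079 : act 3 n22130 = n16853 := d2_2 (iv F29732) D22130 (iv D16853)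
theorem F43080 : act 5 n22087 = n22130 := d16_0 F43079 F42664 (iv F42967)
def n22131 : Q := act 2 n16848
theorem D22131 : act 2 n16848 = n22131 := rfl
def n22132 : Q := act 5 n16848
theorem D22132 : act 5 n16848 = n22132 := rfl
theorem F43081 : act 0 n22132 = n22087 := d4_1 D22132 F43080 (iv D22130)
theorem F43082 : act 1 n22132 = n22123 := d9_1 D22132 (iv D22123) F29705 F28530 D16848
theorem F43083 : act 3 n22132 = n16855 := d16_1 D22132 (iv D16855) (iv F29732)
def n22133 : Q := act 6 n16848
theorem D22133 : act 6 n16848 = n22133 := rfl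
theorem F43084 : act 1 n22133 = n17147 := d10_1 D22133 (iv D17147) (iv D12712) (iv F22041) D16848
theorem F43085 : act 3 n22133 = n16856 := d17_1 D22133 (iv D16856) (iv F29732)
def n22134 : Q := act 0 n16849
theorem D22134 : act 0 n16849 = n22134 := rfl
theorem F43086 : act 3 n22134 = n16862 := d2_2 (iv F29733) D22134 (iv D16862)
theorem F43087 : act 5 n22134 = n16850 := d4_2 (iv F29734) D22134 (iv D16850)
theorem F43088 : act 6 n22134 = n17046 := d5_2 F42609 D22134 (iv F42610)
theorem F43089 : act 2 n17044 = n22134 := d14_3 F43088 (iv D17046) (iv F29993)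
def n22135 : Q := act 2 n16849
theorem D22135 : act 2 n16849 = n22135 := rfl
theorem F43090 : act 0 n22135 = n17044 := d1_1 D22135 F43089 (iv D22134)
theorem F43091 : act 1 n22135 = n22131 := d6_1 D22135 (iv D22131) (iv D16848) F28531 D16849
theorem F43092 : act 5 n22135 = n16851 := d13_2 (iv F29734) D22135 (iv D16851)
theorem F43093 : act 6 n22135 = n17045 := d14_2 F42609 D22135 F42611
theorem F43094 : act 3 n17058 = n22135 := d17_3 F43093 F29994 (iv F30005)
def n22136 : Q := act 6 n16850
theorem D22136 : act 6 n16850 = n22136 := rfl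
theorem F43095 : act 0 n22136 = n16852 := d5_1 D22136 (iv D16852) D16850
theorem F43096 : act 1 n22136 = n21946 := d10_1 D22136 F42607 (iv F29668) D22097 (iv F42996)
theorem F43097 : act 3 n22136 = n16865 := d17_1 D22136 (iv D16865) (iv F29735)
theorem F43098 : act 5 n22136 = n21947 := d20_1 D22136 F42609 F29734 D16852 F40590 (iv F43088) F43087
def n22137 : Q := act 2 n16853
theorem D22137 : act 2 n16853 = n22137 := rfl
theorem F43099 : act 0 n22137 = n16854 := d1_1 D22137 (iv D16854) D16853
theorem F43100 : act 5 n22137 = n22089 := d13_2 (iv F42664) D22137 (iv D22089)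
theorem F43101 : act 6 n22137 = n18658 := d14_2 F42974 D22137 F42975
theorem F43102 : act 1 n20740 = n22137 := d10_5 F43101 (iv F35045) (iv D15404) D15403 D20740
theorem F43103 : act 3 n18662 = n22137 := d17_3 F43101 F33383 D18662
def n22138 : Q := act 6 n16855
theorem D22138 : act 6 n16855 = n22138 := rfl
theorem F43104 : act 0 n22138 = n21962 := d5_1 D22138 F42662 F42663
theorem F43105 : act 5 n22138 = n22090 := d20_1 D22138 F42974 F42664 (iv F42662) F42661 (iv D16856) D16855
theorem F43106 : act 1 n16862 = n22138 := d24_14 (iv D22138) (iv D16855) (iv D12546) F18054 D10278 (iv F21827) (iv F21860) (iv D12402) D12401 F21857 D16627 (iv F29751) (iv D16865) (iv F29747)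
def n22139 : Q := act 0 n16857
theorem D22139 : act 0 n16857 = n22139 := rfl
theorem F43107 : act 1 n22139 = n22059 := d0_2 D16857 D22139 F42891 F35275 (iv D16874) (iv D12558) F18057 (iv F18055) (iv F22045)
theorem F43108 : act 2 n22139 = n17120 := d1_2 F34917 D22139 (iv F35236)
theorem F43109 : act 6 n22139 = n17125 := d5_2 (iv F34918) D22139 (iv F35249)
def n22140 : Q := act 3 n16857
theorem D22140 : act 3 n16857 = n22140 := rfl
theorem F43110 : act 1 n22140 = n16858 := d7_1 D22140 (iv D16858) D16857
theorem F43111 : act 6 n22140 = n18573 := d17_2 (iv F34918) D22140 F34920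
def n22141 : Q := act 5 n16857
theorem D22141 : act 5 n16857 = n22141 := rfl
theorem F43112 : act 6 n22141 = n20606 := d22_1 D22141 F39105 (iv F43109) (iv D22139)
def n22142 : Q := act 4 n16858
theorem D22142 : act 4 n16858 = n22142 := rfl
theorem F43113 : act 0 n22142 = n16860 := d3_1 D22142 (iv D16860) (iv F29739)
theorem F43114 : act 6 n22142 = n17153 := d19_2 (iv F29740) D22142 (iv D17153)
def n22143 : Q := act 1 n16859
theorem D22143 : act 1 n16859 = n22143 := rfl
theorem F43115 : act 2 n22143 = n16880 := d6_2 D16859 D22143 (iv D16880) (iv D12560) (iv F22047)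
theorem F43116 : act 3 n22143 = n16861 := d7_2 (iv F29742) D22143 (iv D16861)
theorem F43117 : act 5 n22143 = n16885 := d9_2 F29743 D22143 (iv D16885) (iv D12562) (iv F22047)
def n22144 : Q := act 4 n16859
theorem D22144 : act 4 n16859 = n22144 := rfl
theorem F43118 : act 2 n22144 = n16860 := d12_1 D22144 (iv D16860) D16859
theorem F43119 : act 5 n22144 = n16860 := d18_2 F29743 D22144 (iv D16860)
theorem F43120 : act 6 n22144 = n17154 := d19_2 (iv F29741) D22144 (iv D17154)
def n22145 : Q := act 0 n16861
theorem D22145 : act 0 n16861 = n22145 := rfl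
theorem F43121 : act 5 n22145 = n16886 := d4_2 (iv F29746) D22145 (iv D16886)
theorem F43122 : act 1 n19956 = n22145 := d23_2 D14738 (iv F37710) (iv D22145) F29746 D16887 F29779 (iv F29780) F29781 (iv D12568) F34748 (iv F34745) (iv D11616) (iv F34740) D11621 (iv F22078) F22080 D16780 (iv F36874) (iv D14736)
def n22146 : Q := act 2 n16861
theorem D22146 : act 2 n16861 = n22146 := rfl
theorem F43123 : act 1 n22146 = n16863 := d6_1 D22146 (iv D16863) (iv D12550) (iv F22049) D16861
theorem F43124 : act 5 n22146 = n16887 := d13_2 (iv F29746) D22146 (iv D16887)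
def n22147 : Q := act 6 n16861
theorem D22147 : act 6 n16861 = n22147 := rfl
theorem F43125 : act 1 n22147 = n20495 := d10_1 D22147 F38905 F29309 F22314 D16861
def n22148 : Q := act 2 n16862
theorem D22148 : act 2 n16862 = n22148 := rfl
theorem F43126 : act 0 n22148 = n16863 := d1_1 D22148 (iv D16863) D16862
theorem F43127 : act 5 n22148 = n16864 := d13_2 (iv F29747) D22148 (iv D16864)
theorem F43128 : act 1 n20105 = n22148 := d9_5 F43127 F39565 F22494 (iv F25872) D20105
theorem F43129 : act 3 n17390 = n22148 := d16_3 F43127 F39566 D17390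
def n22149 : Q := act 3 n16863
theorem D22149 : act 3 n16863 = n22149 := rfl
theorem F43130 : act 0 n22149 = n17390 := d2_1 D22149 F43129 F43126
theorem F43131 : act 5 n22149 = n16866 := d16_2 (iv F29748) D22149 (iv D16866)
def n22150 : Q := act 6 n16864
theorem D22150 : act 6 n16864 = n22150 := rfl
theorem F43132 : act 0 n22150 = n16867 := d5_1 D22150 (iv D16867) (iv F29749)
theorem F43133 : act 2 n22150 = n16865 := d14_1 D22150 (iv D16865) D16864
theorem F43134 : act 3 n22150 = n17391 := d17_1 D22150 (iv D17391) (iv F39566)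
theorem F43135 : act 5 n22150 = n20650 := d22_2 F43127 D22150 (iv F39192) (iv F43126)
def n22151 : Q := act 2 n16866
theorem D22151 : act 2 n16866 = n22151 := rfl
theorem F43136 : act 0 n22151 = n17384 := d1_1 D22151 F30482 (iv F39567)
theorem F43137 : act 1 n22151 = n20613 := d6_1 D22151 F39731 F39726 (iv D16895) (iv F29753)
theorem F43138 : act 3 n22151 = n20612 := d21_1 D22151 F39114 (iv F42635) F42638 F29735 D16864 F39566 (iv F39567)
theorem F43139 : act 4 n20809 = n22151 := d8_0 F43137 F39710 (iv F39884)
theorem F43140 : act 6 n22151 = n17311 := d24_3 (iv F27146) F39732 (iv F43137) (iv D17311) (iv D12806) F18198 F17462 D11455 D14864 F35206 (iv D17333) (iv D12816) F32558 (iv F21032)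
def n22152 : Q := act 4 n16866
theorem D22152 : act 4 n16866 = n22152 := rfl
theorem F43141 : act 0 n22152 = n17389 := d3_1 D22152 (iv D17389) (iv F39567)
theorem F43142 : act 1 n22152 = n16896 := d8_1 D22152 (iv D16896) (iv F29753)
theorem F43143 : act 2 n22152 = n20809 := d12_1 D22152 F43139 (iv D22151)
theorem F43144 : act 6 n20859 = n22152 := d22_3 F40043 (iv D20860) D20859 F43141
def n22153 : Q := act 6 n16866
theorem D22153 : act 6 n16866 = n22153 := rfl
theorem F43145 : act 0 n22153 = n17391 := d5_1 D22153 (iv D17391) (iv F39567)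
theorem F43146 : act 2 n22153 = n17311 := d14_1 D22153 (iv F43140) (iv D22151)
theorem F43147 : act 3 n22153 = n16867 := d17_1 D22153 (iv D16867) D16866
theorem F43148 : act 4 n22153 = n20859 := d19_1 D22153 F43144 (iv D22152)
theorem F43149 : act 5 n22153 = n17303 := d22_2 F43131 D22153 (iv F35210) (iv F43130)
theorem F43150 : act 1 n21006 = n22153 := d9_5 F43149 (iv D17303) F32776 D15825 D21006
def n22154 : Q := act 1 n16867
theorem D22154 : act 1 n16867 = n22154 := rfl
theorem F43151 : act 2 n22154 = n19999 := d6_2 (iv F29754) D22154 F37786 F29408 (iv F22052)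
theorem F43152 : act 3 n22154 = n21006 := d7_2 F43147 D22154 F43150
theorem F43153 : act 6 n22154 = n16898 := d10_2 D16867 D22154 (iv D16898) (iv D12571) (iv F22051)
theorem F43154 : act 0 n20000 = n22154 := d5_3 F43153 (iv F37069) (iv F37789)
theorem F43155 : act 5 n21005 = n22154 := d16_0 F43152 (iv D21006) D21005
def n22155 : Q := act 5 n16867
theorem D22155 : act 5 n16867 = n22155 := rfl
theorem F43156 : act 0 n22155 = n20650 := d4_1 D22155 (iv F43135) F43132
theorem F43157 : act 1 n22155 = n17304 := d9_1 D22155 (iv F33025) (iv F40444) F43155 (iv D22154)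
theorem F43158 : act 2 n22155 = n16868 := d13_1 D22155 (iv D16868) (iv F29754)
theorem F43159 : act 3 n22155 = n17303 := d16_1 D22155 (iv F43149) F43147
theorem F43160 : act 6 n22155 = n22148 := d20_2 D16867 D22155 F43127 D22150 F43135 (iv F39192) F29748
def n22156 : Q := act 1 n16868
theorem D22156 : act 1 n16868 = n22156 := rfl
theorem F43161 : act 0 n22156 = n17160 := d0_1 D22156 F30143 (iv F42663) (iv D16811) (iv F22002) F29358 (iv F21858) D16628 (iv F29755)
theorem F43162 : act 5 n22156 = n17158 := d9_2 D16868 D22156 F43066 (iv D16665) (iv F22052)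
theorem F43163 : act 6 n22156 = n17160 := d10_2 (iv F29756) D22156 F30143 D22138 (iv F43106)
def n22157 : Q := act 3 n16869
theorem D22157 : act 3 n16869 = n22157 := rfl
theorem F43164 : act 0 n22157 = n16871 := d2_1 D22157 (iv D16871) (iv F29757)
theorem F43165 : act 5 n22157 = n17102 := d16_2 (iv F29758) D22157 F39613
theorem F43166 : act 2 n17121 = n22157 := d13_3 F43165 F30060 D17121
theorem F43167 : act 1 n17121 = n20042 := d23_2 (iv F43165) (iv F43166) F37861 (iv F37831) (iv D20025) (iv F30293) (iv F43035) F43038 (iv F39634) (iv D16676) F21902 D12441 F21905 (iv F18041) (iv F22018) (iv D12531) D12530 D16827 (iv F35583)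
def n22158 : Q := act 0 n16870
theorem D22158 : act 0 n16870 = n22158 := rfl
theorem F43168 : act 2 n22158 = n16874 := d1_2 (iv F29759) D22158 (iv D16874)
theorem F43169 : act 5 n22158 = n22063 := d23_4 (iv D12556) D12555 D16870 D22158 (iv D22063) (iv D16790) F21984 F21983 F20682 D12495 (iv F26436) (iv D15168) (iv F34765) (iv D11610) (iv F19921) (iv F20584) F20583 D11613 (iv F22258)
def n22159 : Q := act 3 n16870
theorem D22159 : act 3 n16870 = n22159 := rfl
theorem F43170 : act 1 n22159 = n16871 := d7_1 D22159 (iv D16871) D16870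
theorem F43171 : act 5 n22108 = n22159 := d9_0 F43170 (iv F39615) (iv D16827) D16829 D22108
def n22160 : Q := act 5 n16870
theorem D22160 : act 5 n16870 = n22160 := rfl
theorem F43172 : act 0 n22160 = n22063 := d4_1 D22160 (iv F43169) (iv D22158)
theorem F43173 : act 1 n22160 = n22107 := d9_1 D22160 (iv D22107) F39614 (iv D16872) D16870
theorem F43174 : act 2 n22160 = n16876 := d13_1 D22160 (iv D16876) (iv F29759)
theorem F43175 : act 3 n22160 = n22108 := d16_1 D22160 F43171 (iv D22159)
def n22161 : Q := act 6 n16870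
theorem D22161 : act 6 n16870 = n22161 := rfl
theorem F43176 : act 2 n22161 = n16877 := d14_1 D22161 (iv D16877) (iv F29759)
def n22162 : Q := act 4 n16871
theorem D22162 : act 4 n16871 = n22162 := rfl
theorem F43177 : act 2 n22162 = n21763 := d12_1 D22162 F42179 (iv F39616)
theorem F43178 : act 5 n22162 = n21512 := d18_2 F39615 D22162 F41638
theorem F43179 : act 6 n22162 = n21747 := d19_2 (iv F39617) D22162 F42147
def n22163 : Q := act 1 n16873
theorem D22163 : act 1 n16873 = n22163 := rfl
theorem F43180 : act 0 n22163 = n22163 := d0_1 D22163 (iv D22163) F37868 (iv D20045) F25749 F20223 (iv F25749) D20045 (iv F37868)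
theorem F43181 : act 2 n22163 = n16913 := d6_2 (iv F29763) D22163 (iv D16913) F22093 (iv F22053)
theorem F43182 : act 5 n22163 = n16913 := d9_2 F39589 D22163 (iv D16913) F39594 (iv F30058)
theorem F43183 : act 0 n16913 = n16913 := d4_1 F43182 (iv F43182) F43180
theorem F43184 : act 0 n17107 = n17107 := d2_3 (iv F39807) F43183 F39807
theorem F43185 : act 0 n21594 = n21594 := d3_3 F41814 F43183 (iv F41814)
theorem F43186 : act 0 n21752 = n21752 := d3_3 F42160 F43184 (iv F42160)
def n22164 : Q := act 3 n16874
theorem D22164 : act 3 n16874 = n22164 := rfl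
theorem F43187 : act 0 n22164 = n16875 := d2_1 D22164 (iv D16875) D16874
theorem F43188 : act 1 n22164 = n22052 := d7_1 D22164 F42876 F35275
theorem F43189 : act 5 n22164 = n22053 := d16_2 (iv F35274) D22164 F42877
def n22165 : Q := act 6 n16874
theorem D22165 : act 6 n16874 = n22165 := rfl
theorem F43190 : act 0 n22165 = n16877 := d5_1 D22165 (iv D16877) D16874
def n22166 : Q := act 2 n16875
theorem D22166 : act 2 n16875 = n22166 := rfl
def n22167 : Q := act 4 n16875
theorem D22167 : act 4 n16875 = n22167 := rfl
theorem F43191 : act 1 n22167 = n16879 := d8_1 D22167 (iv D16879) (iv F29764)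
def n22168 : Q := act 5 n16875
theorem D22168 : act 5 n16875 = n22168 := rfl
theorem F43192 : act 0 n22168 = n22053 := d4_1 D22168 (iv F43189) F43187
theorem F43193 : act 3 n22168 = n16876 := d16_1 D22168 (iv D16876) D16875
def n22169 : Q := act 6 n16875
theorem D22169 : act 6 n16875 = n22169 := rfl
theorem F43194 : act 1 n22169 = n16923 := d10_1 D22169 (iv D16923) F22107 (iv F22055) (iv F29764)
theorem F43195 : act 3 n22169 = n16877 := d17_1 D22169 (iv D16877) D16875
def n22170 : Q := act 6 n16876
theorem D22170 : act 6 n16876 = n22170 := rfl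
theorem F43196 : act 0 n22170 = n22064 := d5_1 D22170 (iv D22064) F35273
theorem F43197 : act 5 n22170 = n22165 := d20_1 D22170 (iv D22165) F35274 D22064 F42900 (iv D16877) D16876
def n22171 : Q := act 4 n16878
theorem D22171 : act 4 n16878 = n22171 := rfl
theorem F43198 : act 0 n22171 = n16882 := d3_1 D22171 (iv D16882) (iv F29766)
theorem F43199 : act 2 n22171 = n16879 := d12_1 D22171 (iv D16879) D16878
theorem F43200 : act 6 n22171 = n16928 := d19_2 (iv F29767) D22171 (iv D16928)
def n22172 : Q := act 0 n16880
theorem D22172 : act 0 n16880 = n22172 := rfl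
def n22173 : Q := act 4 n16880
theorem D22173 : act 4 n16880 = n22173 := rfl
theorem F43201 : act 1 n22173 = n16882 := d8_1 D22173 (iv D16882) D16880
def n22174 : Q := act 5 n16880
theorem D22174 : act 5 n16880 = n22174 := rfl
theorem F43202 : act 2 n22174 = n16885 := d13_1 D22174 (iv F43117) F43115
def n22175 : Q := act 6 n16880
theorem D22175 : act 6 n16880 = n22175 := rfl
theorem F43203 : act 1 n22175 = n16938 := d10_1 D22175 (iv D16938) (iv D12591) (iv F22056) D16880
def n22176 : Q := act 4 n16881
theorem D22176 : act 4 n16881 = n22176 := rfl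
theorem F43204 : act 0 n22176 = n17133 := d3_1 D22176 F30091 (iv F29771)
theorem F43205 : act 2 n22176 = n17122 := d12_1 D22176 F30080 (iv F29772)
theorem F43206 : act 6 n22176 = n16939 := d19_2 (iv F29773) D22176 (iv D16939)
def n22177 : Q := act 3 n16882
theorem D22177 : act 3 n16882 = n22177 := rfl
theorem F43207 : act 6 n22177 = n16941 := d17_2 (iv F29775) D22177 (iv D16941)
def n22178 : Q := act 5 n16882
theorem D22178 : act 5 n16882 = n22178 := rfl
theorem F43208 : act 2 n22178 = n16884 := d13_1 D22178 (iv D16884) (iv F29774)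
theorem F43209 : act 4 n22178 = n16883 := d18_1 D22178 (iv D16883) D16882
def n22179 : Q := act 1 n16883
theorem D22179 : act 1 n16883 = n22179 := rfl
def n22180 : Q := act 1 n16884
theorem D22180 : act 1 n16884 = n22180 := rfl
theorem F43210 : act 4 n22180 = n16885 := d8_2 (iv F29777) D22180 (iv D16885)
def n22181 : Q := act 0 n16885
theorem D22181 : act 0 n16885 = n22181 := rfl
theorem F43211 : act 3 n22181 = n16886 := d2_2 (iv F29778) D22181 (iv D16886)
def n22182 : Q := act 6 n16885
theorem D22182 : act 6 n16885 = n22182 := rfl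
theorem F43212 : act 1 n22182 = n18627 := d10_1 D22182 (iv D18627) (iv F29219) F22113 D16885
theorem F43213 : act 3 n22182 = n16888 := d17_1 D22182 (iv D16888) (iv F29778)
def n22183 : Q := act 1 n16886
theorem D22183 : act 1 n16886 = n22183 := rfl
theorem F43214 : act 5 n22183 = n19952 := d9_2 F43121 D22183 F37705 D19956 F43122
theorem F43215 : act 2 n19953 = n22183 := d13_3 F43214 (iv D19952) D19953
def n22184 : Q := act 2 n16886
theorem D22184 : act 2 n16886 = n22184 := rfl
theorem F43216 : act 0 n22184 = n16887 := d1_1 D22184 (iv D16887) D16886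
def n22185 : Q := act 6 n16886
theorem D22185 : act 6 n16886 = n22185 := rfl
theorem F43217 : act 0 n22185 = n16888 := d5_1 D22185 (iv D16888) D16886
theorem F43218 : act 5 n22185 = n22147 := d22_2 F43121 D22185 (iv D22147) D22145
def n22186 : Q := act 3 n16887
theorem D22186 : act 3 n16887 = n22186 := rfl
theorem F43219 : act 1 n22186 = n16890 := d7_1 D22186 (iv D16890) (iv F29779)
theorem F43220 : act 2 n20785 = n22186 := d6_0 F43219 (iv F39721) (iv D15639) F29062 D20785
theorem F43221 : act 4 n20790 = n22186 := d8_0 F43219 (iv F39722) (iv F39513)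
theorem F43222 : act 0 n22186 = n20850 := d3_1 F43221 F40017 (iv F39512)
theorem F43223 : act 6 n22186 = n20848 := d19_2 (iv F39514) F43221 F40013
theorem F43224 : act 3 n20850 = n22184 := d2_2 D22186 F43222 F43216
theorem F43225 : act 6 n22184 = n20849 := d17_2 D20850 F43224 (iv D20849)
theorem F43226 : act 2 n20849 = n22185 := d14_1 F43225 (iv D22185) D22184
def n22187 : Q := act 6 n16887
theorem D22187 : act 6 n16887 = n22187 := rfl
theorem F43227 : act 0 n22187 = n20849 := d5_1 D22187 (iv F43225) F43216
theorem F43228 : act 2 n22187 = n16888 := d14_1 D22187 (iv D16888) D16887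
theorem F43229 : act 3 n22187 = n20848 := d17_1 D22187 (iv F43223) (iv D22186)
theorem F43230 : act 1 n20645 = n22187 := d6_5 F43228 (iv F29832) (iv F39400) (iv D20644) D20645
def n22188 : Q := act 5 n16888
theorem D22188 : act 5 n16888 = n22188 := rfl
theorem F43231 : act 0 n22188 = n22147 := d4_1 D22188 (iv F43218) F43217
theorem F43232 : act 6 n22188 = n22145 := d20_2 D16888 D22188 F43121 D22185 F43218 (iv D22147) F29746
theorem F43233 : act 1 n22188 = n20512 := d24_2 D16888 D22188 (iv D20512) (iv D15196) (iv D11636) (iv D9560) F7049 F3537 D2240 (iv F17003) (iv F4180) (iv F8412) D10202 D12563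
def n22189 : Q := act 3 n16889
theorem D22189 : act 3 n16889 = n22189 := rfl
theorem F43234 : act 0 n22189 = n16890 := d2_1 D22189 (iv D16890) (iv F29780)
theorem F43235 : act 1 n22189 = n19863 := d7_1 D22189 F37496 (iv F35278)
theorem F43236 : act 2 n22189 = n20879 := d11_1 D22189 F40097 F39715 (iv D17142) (iv D12707) F18129 D12565 D16890 (iv F39721) F27137 D15643 (iv F39733) (iv D17141) F22288 D16889
theorem F43237 : act 5 n22189 = n16893 := d16_2 (iv F29781) D22189 (iv D16893)
theorem F43238 : act 6 n22189 = n20897 := d17_2 F29792 D22189 F40141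
theorem F43239 : act 4 n20891 = n22189 := d12_0 F43236 F40098 D20891
def n22190 : Q := act 1 n16891
theorem D22190 : act 1 n16891 = n22190 := rfl
theorem F43240 : act 2 n22190 = n20641 := d6_2 (iv F29783) D22190 F39395 (iv D16610) F22098
theorem F43241 : act 3 n22190 = n20894 := d7_2 F39719 D22190 F40132
theorem F43242 : act 6 n22190 = n20645 := d10_2 D16891 D22190 F43230 (iv D22187) F29779
theorem F43243 : act 0 n20642 = n22190 := d5_3 F43242 F39184 (iv F39181)
def n22191 : Q := act 4 n16893
theorem D22191 : act 4 n16893 = n22191 := rfl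
theorem F43244 : act 0 n22191 = n16896 := d3_1 D22191 (iv D16896) (iv F29784)
theorem F43245 : act 1 n22191 = n20532 := d8_1 D22191 F38960 (iv F35276)
theorem F43246 : act 2 n22191 = n20888 := d12_1 D22191 F40121 (iv F39730)
theorem F43247 : act 5 n22191 = n20891 := d18_2 F43237 D22191 F43239
def n22192 : Q := act 1 n16894
theorem D22192 : act 1 n16894 = n22192 := rfl
theorem F43248 : act 0 n22192 = n22192 := d0_1 D22192 (iv D22192) F29785 D16898 (iv F37069) F36982 F37069 (iv D16898) (iv F29785)
theorem F43249 : act 2 n22192 = n20534 := d6_2 (iv F29786) D22192 (iv D20534) F26490 (iv F22064)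
theorem F43250 : act 6 n22192 = n20534 := d10_2 D16894 D22192 (iv D20534) (iv D15209) F34775
def n22193 : Q := act 6 n16896
theorem D22193 : act 6 n16896 = n22193 := rfl
theorem F43251 : act 1 n22193 = n21018 := d10_1 D22193 (iv D21018) (iv F40039) F43144 F43142
theorem F43252 : act 2 n22193 = n20889 := d14_1 D22193 (iv D20889) F39724
theorem F43253 : act 4 n22193 = n16897 := d19_1 D22193 (iv D16897) D16896
def n22194 : Q := act 1 n16897
theorem D22194 : act 1 n16897 = n22194 := rfl
theorem F43254 : act 3 n22194 = n16898 := d7_2 (iv F29788) D22194 (iv D16898)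
theorem F43255 : act 4 n22194 = n21018 := d8_2 F43253 D22194 (iv F43251)
theorem F43256 : act 6 n22194 = n21006 := d10_2 D16897 D22194 F43150 (iv D22153) F29753
theorem F43257 : act 0 n20868 = n22194 := d5_3 F43256 (iv F40556) F40558
theorem F43258 : act 2 n20867 = n22194 := d14_3 F43256 F40555 F40552
def n22195 : Q := act 5 n16898
theorem D22195 : act 5 n16898 = n22195 := rfl
theorem F43259 : act 2 n22195 = n19887 := d13_1 D22195 F37534 (iv F29789)
def n22196 : Q := act 1 n16899
theorem D22196 : act 1 n16899 = n22196 := rfl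
def n22197 : Q := act 6 n16900
theorem D22197 : act 6 n16900 = n22197 := rfl
theorem F43260 : act 0 n22197 = n17257 := d5_1 D22197 (iv D17257) (iv F30285)
theorem F43261 : act 3 n22197 = n22101 := d17_1 D22197 F43003 (iv F42595)
theorem F43262 : act 5 n22197 = n22100 := d20_1 D22197 F42999 (iv D17256) D17257 F39560 (iv F42983) F42982
def n22198 : Q := act 1 n16902
theorem D22198 : act 1 n16902 = n22198 := rfl
theorem F43263 : act 2 n22198 = n20019 := d6_2 (iv F29795) D22198 F37824 (iv F26433) F26432
theorem F43264 : act 3 n22198 = n17109 := d7_2 (iv F39595) D22198 (iv D17109)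
theorem F43265 : act 6 n22198 = n20481 := d10_2 (iv F39596) D22198 F38870 (iv F39590) F30058
theorem F43266 : act 0 n20020 = n22198 := d1_3 F43263 (iv D20019) D20020
def n22199 : Q := act 1 n16903
theorem D22199 : act 1 n16903 = n22199 := rfl
theorem F43267 : act 2 n22199 = n19647 := d6_2 (iv F29797) D22199 F36963 F29381 (iv F22101)
theorem F43268 : act 0 n19648 = n22199 := d1_3 F43267 (iv D19647) D19648
def n22200 : Q := act 6 n16904
theorem D22200 : act 6 n16904 = n22200 := rfl
theorem F43269 : act 0 n22200 = n16907 := d5_1 D22200 (iv D16907) D16904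
theorem F43270 : act 1 n22200 = n19990 := d10_1 D22200 F37769 F39638 (iv D17262) (iv F30284)
theorem F43271 : act 2 n22200 = n16919 := d14_1 D22200 (iv D16919) (iv F29799)
theorem F43272 : act 3 n22200 = n19991 := d17_1 D22200 (iv F37773) F39629
def n22201 : Q := act 4 n16905
theorem D22201 : act 4 n16905 = n22201 := rfl
theorem F43273 : act 0 n22201 = n21263 := d3_1 D22201 F41121 (iv F39601)
theorem F43274 : act 1 n22201 = n16909 := d8_1 D22201 (iv D16909) (iv F29800)
theorem F43275 : act 2 n22201 = n20120 := d12_1 D22201 F38048 (iv F39602)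
theorem F43276 : act 5 n22201 = n20121 := d18_2 (iv F39603) D22201 F38051
theorem F43277 : act 6 n22201 = n21714 := d19_2 (iv F39604) D22201 F42075
def n22202 : Q := act 1 n16906
theorem D22202 : act 1 n16906 = n22202 := rfl
theorem F43278 : act 3 n22202 = n20483 := d7_2 (iv F39627) D22202 F38874
theorem F43279 : act 5 n22202 = n16912 := d9_2 D16906 D22202 (iv D16912) (iv D12578) D12576
def n22203 : Q := act 6 n16906
theorem D22203 : act 6 n16906 = n22203 := rfl
theorem F43280 : act 0 n22203 = n17069 := d5_1 D22203 F39625 F29956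
theorem F43281 : act 2 n22203 = n16925 := d14_1 D22203 (iv D16925) (iv F29801)
theorem F43282 : act 3 n22203 = n17067 := d17_1 D22203 F30017 (iv F39627)
theorem F43283 : act 5 n22203 = n22200 := d20_1 D22203 (iv D22200) (iv F29959) (iv F39625) (iv F39623) (iv D16907) D16906
def n22204 : Q := act 1 n16907
theorem D22204 : act 1 n16907 = n22204 := rfl
theorem F43284 : act 0 n22204 = n22204 := d0_1 D22204 (iv D22204) (iv F43269) F43270 F37767 F25708 (iv F37767) (iv F43270) F43269
theorem F43285 : act 6 n22204 = n16913 := d10_2 D16907 D22204 (iv D16913) (iv D12579) D12576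
def n22205 : Q := act 1 n16910
theorem D22205 : act 1 n16910 = n22205 := rfl
theorem F43286 : act 2 n22205 = n19965 := d6_2 (iv F39607) D22205 F37728 F35271 F26437
theorem F43287 : act 3 n22205 = n16912 := d7_2 (iv F29803) D22205 (iv D16912)
theorem F43288 : act 5 n22205 = n20483 := d9_2 D16910 D22205 F38874 (iv F39603) F29800
theorem F43289 : act 0 n19966 = n22205 := d1_3 F43286 (iv D19965) D19966
def n22206 : Q := act 0 n16912
theorem D22206 : act 0 n16912 = n22206 := rfl
theorem F43290 : act 3 n22206 = n19966 := d2_2 F43287 D22206 F43289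
def n22207 : Q := act 2 n16912
theorem D22207 : act 2 n16912 = n22207 := rfl
theorem F43291 : act 1 n22207 = n16915 := d6_1 D22207 (iv D16915) (iv D12580) (iv F22092) D16912
theorem F43292 : act 6 n16959 = n22207 := d10_0 F43291 F29809 F35251 (iv D16960) D16959
def n22208 : Q := act 6 n16912
theorem D22208 : act 6 n16912 = n22208 := rfl
theorem F43293 : act 1 n22208 = n16997 := d10_1 D22208 (iv F42621) F42620 F29391 D16912
theorem F43294 : act 2 n22208 = n16959 := d14_1 D22208 F43292 (iv D22207)
theorem F43295 : act 5 n16970 = n22208 := d13_0 F43294 F29870 D16970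
def n22209 : Q := act 3 n16915
theorem D22209 : act 3 n16915 = n22209 := rfl
theorem F43296 : act 5 n22209 = n16933 := d16_2 (iv F29808) D22209 (iv D16933)
theorem F43297 : act 6 n22209 = n19299 := d17_2 (iv F29809) D22209 F36017
def n22210 : Q := act 3 n16916
theorem D22210 : act 3 n16916 = n22210 := rfl
theorem F43298 : act 0 n22210 = n17179 := d2_1 D22210 (iv D17179) (iv F29810)
theorem F43299 : act 1 n22210 = n16917 := d7_1 D22210 (iv D16917) D16916
def n22211 : Q := act 6 n16916
theorem D22211 : act 6 n16916 = n22211 := rfl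
theorem F43300 : act 0 n22211 = n17181 := d5_1 D22211 (iv D17181) (iv F29810)
theorem F43301 : act 2 n22211 = n17273 := d14_1 D22211 (iv D17273) F30287
def n22212 : Q := act 4 n16917
theorem D22212 : act 4 n16917 = n22212 := rfl
theorem F43302 : act 0 n22212 = n16921 := d3_1 D22212 (iv D16921) (iv F29811)
def n22213 : Q := act 6 n16917
theorem D22213 : act 6 n16917 = n22213 := rfl
theorem F43303 : act 0 n22213 = n16923 := d5_1 D22213 (iv D16923) (iv F29811)
theorem F43304 : act 2 n22213 = n22209 := d14_1 D22213 F43297 (iv F39631)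
theorem F43305 : act 3 n22213 = n16919 := d17_1 D22213 (iv D16919) D16917
def n22214 : Q := act 1 n16919
theorem D22214 : act 1 n16919 = n22214 := rfl
def n22215 : Q := act 1 n16920
theorem D22215 : act 1 n16920 = n22215 := rfl
theorem F43306 : act 2 n22215 = n16927 := d6_2 D16920 D22215 (iv D16927) (iv D12586) (iv F22107)
def n22216 : Q := act 4 n16920
theorem D22216 : act 4 n16920 = n22216 := rfl
theorem F43307 : act 2 n22216 = n16921 := d12_1 D22216 (iv D16921) D16920
def n22217 : Q := act 6 n16920
theorem D22217 : act 6 n16920 = n22217 := rfl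
theorem F43308 : act 0 n22217 = n22209 := d5_1 D22217 F43297 (iv F39633)
theorem F43309 : act 2 n22217 = n16923 := d14_1 D22217 (iv D16923) D16920
theorem F43310 : act 3 n22217 = n17278 := d17_1 D22217 (iv F38940) (iv F39632)
theorem F43311 : act 5 n22217 = n21938 := d20_1 D22217 (iv D21938) (iv F36018) (iv F43297) F43296 (iv F42578) F42577
theorem F43312 : act 1 n22217 = n17276 := d24_2 D21938 (iv F43311) (iv F30324) (iv D17287) (iv F35038) F35040 (iv F26753) (iv D15392) D15393 F26755 (iv F35739) (iv D19174) D19173 (iv F35737)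
def n22218 : Q := act 5 n16921
theorem D22218 : act 5 n16921 = n22218 := rfl
theorem F43313 : act 4 n22218 = n16922 := d18_1 D22218 (iv D16922) D16921
def n22219 : Q := act 6 n16921
theorem D22219 : act 6 n16921 = n22219 := rfl
theorem F43314 : act 4 n22219 = n16923 := d19_1 D22219 (iv D16923) D16921
def n22220 : Q := act 6 n16922
theorem D22220 : act 6 n16922 = n22220 := rfl
theorem F43315 : act 2 n22220 = n16933 := d14_1 D22220 (iv F42578) F42579
theorem F43316 : act 3 n22220 = n16925 := d17_1 D22220 (iv D16925) (iv F29815)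
theorem F43317 : act 5 n22220 = n22213 := d22_2 D16922 D22220 (iv D22213) F29811
def n22221 : Q := act 5 n16923
theorem D22221 : act 5 n16923 = n22221 := rfl
theorem F43318 : act 0 n22221 = n22220 := d4_1 D22221 F43317 F43303
theorem F43319 : act 2 n22221 = n21938 := d13_1 D22221 (iv F43311) F43309
theorem F43320 : act 3 n22221 = n16926 := d16_1 D22221 (iv D16926) (iv F29816)
theorem F43321 : act 6 n22221 = n21936 := d20_2 D16923 D22221 F42582 D22213 (iv F43317) (iv D22220) (iv D16922)
def n22222 : Q := act 2 n16924
theorem D22222 : act 2 n16924 = n22222 := rfl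
theorem F43322 : act 0 n22222 = n17052 := d1_1 D22222 (iv F33306) F33303
theorem F43323 : act 5 n22222 = n16931 := d13_2 (iv F29817) D22222 (iv D16931)
def n22223 : Q := act 6 n16924
theorem D22223 : act 6 n16924 = n22223 := rfl
theorem F43324 : act 3 n22223 = n18632 := d17_1 D22223 F33332 (iv F33302)
theorem F43325 : act 5 n22223 = n18631 := d22_2 (iv F29817) D22223 (iv D18631) (iv F29214)
def n22224 : Q := act 1 n16925
theorem D22224 : act 1 n16925 = n22224 := rfl
def n22225 : Q := act 0 n16927
theorem D22225 : act 0 n16927 = n22225 := rfl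
theorem F43326 : act 3 n22225 = n17128 := d2_2 (iv F29821) D22225 (iv D17128)
def n22226 : Q := act 4 n16927
theorem D22226 : act 4 n16927 = n22226 := rfl
theorem F43327 : act 1 n22226 = n16928 := d8_1 D22226 (iv D16928) D16927
def n22227 : Q := act 5 n16927
theorem D22227 : act 5 n16927 = n22227 := rfl
theorem F43328 : act 3 n22227 = n17130 := d16_1 D22227 (iv D17130) (iv F29821)
def n22228 : Q := act 6 n16927
theorem D22228 : act 6 n16927 = n22228 := rfl
theorem F43329 : act 3 n22228 = n17131 := d17_1 D22228 (iv D17131) (iv F29821)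
def n22229 : Q := act 3 n16928
theorem D22229 : act 3 n16928 = n22229 := rfl
theorem F43330 : act 0 n22229 = n16941 := d2_1 D22229 (iv D16941) (iv F29822)
theorem F43331 : act 4 n22229 = n17132 := d15_2 D16928 D22229 (iv D17132) (iv D12701) (iv F22109)
def n22230 : Q := act 5 n16928
theorem D22230 : act 5 n16928 = n22230 := rfl
theorem F43332 : act 0 n22230 = n16942 := d4_1 D22230 (iv D16942) (iv F29822)
theorem F43333 : act 2 n22230 = n16930 := d13_1 D22230 (iv D16930) (iv F29823)
theorem F43334 : act 4 n22230 = n16929 := d18_1 D22230 (iv D16929) D16928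
theorem F43335 : act 6 n22230 = n22178 := d22_1 D22230 (iv D22178) F29775 (iv F29822)
def n22231 : Q := act 3 n16931
theorem D22231 : act 3 n16931 = n22231 := rfl
theorem F43336 : act 0 n22231 = n18615 := d2_1 D22231 F35359 F33322
theorem F43337 : act 1 n22231 = n16933 := d7_1 D22231 (iv D16933) (iv F29831)
theorem F43338 : act 2 n22231 = n18558 := d11_1 D22231 (iv D18558) (iv D13543) F19119 D10788 D13588 D18629 (iv F35359) (iv F39817) F38328 F39546 F23799 D13586 F29220 D16931
theorem F43339 : act 1 n19922 = n22220 := d6_3 F43338 F33207 D19922 F43315 (iv F43337)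
theorem E10327 : n22224 = n19988 := (c7_4 F37765 F43339 F43316 D22224)
theorem F43340 : act 1 n19988 = n16925 := (sb E10327 (iv D22224))
def n22232 : Q := act 5 n16932
theorem D22232 : act 5 n16932 = n22232 := rfl
theorem F43341 : act 0 n22232 = n22223 := d4_1 D22232 F43325 F33327
theorem F43342 : act 1 n22232 = n19848 := d9_1 D22232 (iv F38937) (iv F43233) (iv D22188) (iv F29832)
theorem F43343 : act 3 n22232 = n18618 := d16_1 D22232 (iv F33319) F33318
theorem F43344 : act 6 n22232 = n18617 := d20_2 D16932 D22232 F33305 D18631 (iv F43325) (iv D22223) F29817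
def n22233 : Q := act 4 n16933
theorem D22233 : act 4 n16933 = n22233 := rfl
def n22234 : Q := act 1 n16934
theorem D22234 : act 1 n16934 = n22234 := rfl
def n22235 : Q := act 3 n16934
theorem D22235 : act 3 n16934 = n22235 := rfl
theorem F43345 : act 0 n22235 = n16935 := d2_1 D22235 (iv D16935) D16934
def n22236 : Q := act 4 n16934
theorem D22236 : act 4 n16934 = n22236 := rfl
theorem F43346 : act 0 n22236 = n16936 := d3_1 D22236 (iv D16936) D16934
theorem F43347 : act 2 n22236 = n17199 := d12_1 D22236 (iv D17199) (iv F29833)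
def n22237 : Q := act 5 n16934
theorem D22237 : act 5 n16934 = n22237 := rfl
theorem F43348 : act 0 n22237 = n16937 := d4_1 D22237 (iv D16937) D16934
theorem F43349 : act 2 n22237 = n17200 := d13_1 D22237 (iv D17200) (iv F29833)
def n22238 : Q := act 6 n16934
theorem D22238 : act 6 n16934 = n22238 := rfl
theorem F43350 : act 0 n22238 = n16938 := d5_1 D22238 (iv D16938) D16934
theorem F43351 : act 2 n22238 = n17201 := d14_1 D22238 (iv D17201) (iv F29833)
def n22239 : Q := act 2 n16935
theorem D22239 : act 2 n16935 = n22239 := rfl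
theorem F43352 : act 1 n22239 = n17115 := d6_1 D22239 (iv D17115) F22276 (iv F22116) (iv F29834)
def n22240 : Q := act 4 n16935
theorem D22240 : act 4 n16935 = n22240 := rfl
theorem F43353 : act 1 n22240 = n16939 := d8_1 D22240 (iv D16939) (iv F29834)
def n22241 : Q := act 5 n16935
theorem D22241 : act 5 n16935 = n22241 := rfl
theorem F43354 : act 3 n22241 = n16937 := d16_1 D22241 (iv D16937) D16935
def n22242 : Q := act 6 n16935
theorem D22242 : act 6 n16935 = n22242 := rfl
theorem F43355 : act 3 n22242 = n16938 := d17_1 D22242 (iv D16938) D16935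
def n22243 : Q := act 3 n16936
theorem D22243 : act 3 n16936 = n22243 := rfl
theorem F43356 : act 1 n22243 = n16941 := d7_1 D22243 (iv D16941) (iv F29835)
def n22244 : Q := act 5 n16936
theorem D22244 : act 5 n16936 = n22244 := rfl
theorem F43357 : act 2 n22244 = n17203 := d13_1 D22244 (iv D17203) (iv F29836)
theorem F43358 : act 4 n22244 = n16937 := d18_1 D22244 (iv D16937) D16936
def n22245 : Q := act 6 n16936
theorem D22245 : act 6 n16936 = n22245 := rfl
theorem F43359 : act 2 n22245 = n17204 := d14_1 D22245 (iv D17204) (iv F29836)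
theorem F43360 : act 4 n22245 = n16938 := d19_1 D22245 (iv D16938) D16936
def n22246 : Q := act 6 n16937
theorem D22246 : act 6 n16937 = n22246 := rfl
theorem F43361 : act 2 n22246 = n17205 := d14_1 D22246 (iv D17205) (iv F29837)
theorem F43362 : act 5 n22246 = n22238 := d22_2 D16937 D22246 (iv D22238) (iv D16934)
def n22247 : Q := act 5 n16938
theorem D22247 : act 5 n16938 = n22247 := rfl
theorem F43363 : act 0 n22247 = n22246 := d4_1 D22247 F43362 F43350
theorem F43364 : act 2 n22247 = n17206 := d13_1 D22247 (iv D17206) (iv F29838)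
theorem F43365 : act 6 n22247 = n22237 := d20_2 D16938 D22247 (iv D22237) D22238 (iv F43362) (iv D22246) (iv D16937)
def n22248 : Q := act 3 n16939
theorem D22248 : act 3 n16939 = n22248 := rfl
theorem F43366 : act 0 n22248 = n17132 := d2_1 D22248 (iv D17132) (iv F29839)
theorem F43367 : act 4 n22248 = n16941 := d15_2 D16939 D22248 (iv D16941) (iv D12593) D12592
def n22249 : Q := act 5 n16939
theorem D22249 : act 5 n16939 = n22249 := rfl
theorem F43368 : act 0 n22249 = n17078 := d4_1 D22249 F30028 (iv F29839)
theorem F43369 : act 2 n22249 = n17076 := d13_1 D22249 F30026 (iv F29840)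
theorem F43370 : act 4 n22249 = n16940 := d18_1 D22249 (iv D16940) D16939
def n22250 : Q := act 2 n16941
theorem D22250 : act 2 n16941 = n22250 := rfl
def n22251 : Q := act 5 n16941
theorem D22251 : act 5 n16941 = n22251 := rfl
theorem F43371 : act 3 n22251 = n16942 := d16_1 D22251 (iv D16942) D16941
def n22252 : Q := act 6 n16942
theorem D22252 : act 6 n16942 = n22252 := rfl
theorem F43372 : act 0 n22252 = n22178 := d5_1 D22252 (iv F43335) F43332
theorem F43373 : act 2 n22252 = n16945 := d14_1 D22252 (iv D16945) (iv F29844)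
theorem F43374 : act 4 n22252 = n16944 := d19_1 D22252 (iv D16944) (iv F29845)
theorem F43375 : act 5 n22252 = n22171 := d20_1 D22252 F43200 D22230 F43335 (iv D22178) F29775 D16942
def n22253 : Q := act 1 n16944
theorem D22253 : act 1 n16944 = n22253 := rfl
def n22254 : Q := act 1 n16945
theorem D22254 : act 1 n16945 = n22254 := rfl
theorem F43376 : act 4 n22254 = n16946 := d8_2 (iv F29850) D22254 (iv D16946)
def n22255 : Q := act 0 n16946
theorem D22255 : act 0 n16946 = n22255 := rfl
theorem F43377 : act 3 n22255 = n16947 := d2_2 (iv F29852) D22255 (iv D16947)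
theorem F43378 : act 6 n22255 = n19113 := d5_2 F39290 D22255 (iv F39301)
theorem F43379 : act 1 n19109 = n22255 := d10_5 F43378 (iv D19113) (iv D13902) D13899 D19109
def n22256 : Q := act 2 n16946
theorem D22256 : act 2 n16946 = n22256 := rfl
def n22257 : Q := act 5 n16946
theorem D22257 : act 5 n16946 = n22257 := rfl
theorem F43380 : act 1 n22257 = n22168 := d9_1 D22257 (iv D22168) F29764 (iv F22122) D16946
theorem F43381 : act 3 n22257 = n16949 := d16_1 D22257 (iv D16949) (iv F29852)
def n22258 : Q := act 2 n16947
theorem D22258 : act 2 n16947 = n22258 := rfl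
theorem F43382 : act 0 n22258 = n16948 := d1_1 D22258 (iv D16948) D16947
theorem F43383 : act 1 n22258 = n19622 := d6_1 D22258 F36890 F25179 (iv F36790) (iv F39299)
def n22259 : Q := act 5 n16947
theorem D22259 : act 5 n16947 = n22259 := rfl
theorem F43384 : act 0 n22259 = n16949 := d4_1 D22259 (iv D16949) D16947
theorem F43385 : act 6 n22259 = n20710 := d22_1 D22259 (iv D20710) F26734 D16947
def n22260 : Q := act 3 n16948
theorem D22260 : act 3 n16948 = n22260 := rfl
theorem F43386 : act 1 n22260 = n16951 := d7_1 D22260 (iv D16951) (iv F29853)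
theorem F43387 : act 4 n20968 = n22260 := d8_0 F43386 F39757 D20968
def n22261 : Q := act 5 n16948
theorem D22261 : act 5 n16948 = n22261 := rfl
theorem F43388 : act 2 n22261 = n16949 := d13_1 D22261 (iv D16949) D16948
def n22262 : Q := act 6 n16949
theorem D22262 : act 6 n16949 = n22262 := rfl
theorem F43389 : act 0 n22262 = n20710 := d5_1 D22262 (iv F43385) F43384
theorem F43390 : act 5 n22262 = n20708 := d20_1 D22262 F39298 D22259 F43385 (iv D20710) F26734 D16949
def n22263 : Q := act 1 n16950
theorem D22263 : act 1 n16950 = n22263 := rfl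
theorem F43391 : act 2 n22263 = n22147 := d6_2 D16950 D22263 F43125 F38903 F26459
theorem F43392 : act 3 n22263 = n20836 := d7_2 (iv F39777) D22263 F39976
theorem F43393 : act 5 n22263 = n20849 := d9_2 F39747 D22263 F40014 F27070 (iv F27328)
theorem F43394 : act 6 n22263 = n22146 := d10_2 (iv F29856) D22263 F43123 F39192 (iv D20650)
def n22264 : Q := act 3 n16954
theorem D22264 : act 3 n16954 = n22264 := rfl
theorem F43395 : act 0 n22264 = n20479 := d2_1 D22264 (iv D20479) (iv F29863)
theorem F43396 : act 1 n22264 = n20542 := d7_1 D22264 (iv D20542) F35183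
theorem F43397 : act 2 n22264 = n19048 := d11_1 D22264 (iv F34672) F35175 (iv D16552) (iv D12354) (iv F20581) D15150 D20479 F38867 F31908 D19046 F35177 (iv D16551) (iv F22140) D16954
theorem F43398 : act 5 n22264 = n22104 := d16_2 (iv F29864) D22264 (iv D22104)
theorem F43399 : act 6 n22264 = n19046 := d17_2 (iv F29865) D22264 F35177
def n22265 : Q := act 0 n16959
theorem D22265 : act 0 n16959 = n22265 := rfl
theorem F43400 : act 5 n22265 = n16969 := d4_2 (iv F29870) D22265 (iv D16969)
theorem F43401 : act 1 n20036 = n22265 := d23_2 D14805 (iv F37856) (iv D22265) F29870 D16970 F29890 (iv F29891) F29892 (iv D12642) D12641 (iv F26409) F26635 D20628 F39142 F37758 (iv D15374) (iv F29201) (iv F25747) (iv D14803)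
def n22266 : Q := act 1 n16963
theorem D22266 : act 1 n16963 = n22266 := rfl
theorem F43402 : act 4 n22266 = n16965 := d8_2 (iv F29878) D22266 (iv D16965)
def n22267 : Q := act 0 n16965
theorem D22267 : act 0 n16965 = n22267 := rfl
theorem F43403 : act 3 n22267 = n16969 := d2_2 (iv F29881) D22267 (iv D16969)
def n22268 : Q := act 2 n16965
theorem D22268 : act 2 n16965 = n22268 := rfl
theorem F43404 : act 1 n22268 = n22268 := d6_1 D22268 (iv D22268) (iv D16965) F23448 D16965
def n22269 : Q := act 6 n16965
theorem D22269 : act 6 n16965 = n22269 := rfl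
theorem F43405 : act 3 n22269 = n16971 := d17_1 D22269 (iv D16971) (iv F29881)
def n22270 : Q := act 1 n16966
theorem D22270 : act 1 n16966 = n22270 := rfl
theorem F43406 : act 3 n22270 = n16972 := d7_2 (iv F29883) D22270 (iv D16972)
def n22271 : Q := act 1 n16969
theorem D22271 : act 1 n16969 = n22271 := rfl
theorem F43407 : act 5 n22271 = n20034 := d9_2 F43400 D22271 (iv D20034) D20036 F43401
theorem F43408 : act 0 n20739 = n22271 := d4_3 F43407 F37852 D20739
theorem F43409 : act 2 n20040 = n22271 := d13_3 F43407 F37853 D20040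
def n22272 : Q := act 2 n16969
theorem D22272 : act 2 n16969 = n22272 := rfl
theorem F43410 : act 0 n22272 = n16970 := d1_1 D22272 (iv D16970) D16969
theorem F43411 : act 6 n22202 = n22272 := d22_3 F43295 (iv D22208) (iv F43279) F43410
def n22273 : Q := act 6 n16969
theorem D22273 : act 6 n16969 = n22273 := rfl
theorem F43412 : act 0 n22273 = n16971 := d5_1 D22273 (iv D16971) D16969
theorem F43413 : act 2 n22273 = n22202 := d14_1 D22273 F43411 (iv D22272)
theorem F43414 : act 5 n22273 = n22207 := d22_2 F43400 D22273 (iv F43292) D22265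
theorem F43415 : act 1 n22222 = n22273 := d24_14 (iv D22273) (iv F43400) (iv F43401) (iv F39392) (iv D20757) (iv F35194) (iv F35246) (iv F35803) (iv F39182) (iv F39186) (iv D20646) D20644 (iv F39399) (iv F43323)
theorem F43416 : act 1 n16971 = n17072 := d0_2 F43415 F43412 (iv D17072) (iv D12669) F18108 (iv F18105) (iv F22218) D17052 (iv F43322)
theorem F43417 : act 1 n21716 = n21643 := d8_3 F41918 F43416 (iv F42080)
theorem F43418 : act 6 n17072 = n16972 := d10_2 D16971 F43416 (iv D16972) (iv D12616) D12615
theorem F43419 : act 0 n16972 = n17075 := d5_1 F43418 (iv D17075) D17072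
theorem F43420 : act 6 n21644 = n21716 := d19_2 F43418 (iv F41919) F42080
theorem F43421 : act 0 n21719 = n21644 := d5_3 F43420 (iv D21716) D21719
def n22274 : Q := act 3 n16970
theorem D22274 : act 3 n16970 = n22274 := rfl
theorem F43422 : act 1 n22274 = n16977 := d7_1 D22274 (iv D16977) (iv F29890)
def n22275 : Q := act 6 n16970
theorem D22275 : act 6 n16970 = n22275 := rfl
theorem F43423 : act 0 n22275 = n22202 := d5_1 D22275 F43411 F43410
theorem F43424 : act 2 n22275 = n16971 := d14_1 D22275 (iv D16971) D16970
theorem F43425 : act 5 n22206 = n22275 := d22_0 (iv D22275) F43295 (iv D22208) D22206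
def n22276 : Q := act 5 n16971
theorem D22276 : act 5 n16971 = n22276 := rfl
theorem F43426 : act 0 n22276 = n22207 := d4_1 D22276 (iv F43414) F43412
theorem F43427 : act 2 n22276 = n22206 := d13_1 D22276 F43425 F43424
theorem F43428 : act 6 n22276 = n22265 := d20_2 D16971 D22276 F43400 D22273 F43414 (iv F43292) F29870
theorem F43429 : act 1 n20006 = n22276 := d0_0 F43426 F43291 (iv F30311) (iv D17278) F22382 F18179 (iv F20209) D14784 D20006
def n22277 : Q := act 5 n16972
theorem D22277 : act 5 n16972 = n22277 := rfl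
theorem F43430 : act 1 n22277 = n20547 := d9_1 D22277 (iv D20547) F26504 F23444 D16972
theorem F43431 : act 2 n22277 = n22159 := d13_1 D22277 (iv F43171) F43021
theorem F43432 : act 6 n22277 = n17074 := d22_1 D22277 (iv D17074) D17075 (iv F43419)
def n22278 : Q := act 0 n16975
theorem D22278 : act 0 n16975 = n22278 := rfl
theorem F43433 : act 3 n22278 = n19327 := d2_2 (iv F35282) D22278 F36071
theorem F43434 : act 5 n22278 = n17279 := d4_2 F35283 D22278 (iv F35046)
theorem F43435 : act 2 n22278 = n19133 := d21_0 (iv D19133) (iv D13914) (iv F23520) D18268 F35985 (iv F24578) (iv F35282) D22278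
def n22279 : Q := act 2 n16975
theorem D22279 : act 2 n16975 = n22279 := rfl
theorem F43436 : act 0 n22279 = n19133 := d1_1 D22279 (iv F43435) (iv D22278)
theorem F43437 : act 1 n22279 = n16979 := d6_1 D22279 (iv D16979) (iv D12622) (iv F22154) D16975
theorem F43438 : act 5 n22279 = n19316 := d13_2 F35283 D22279 (iv D19316)
theorem F43439 : act 3 n22279 = n19131 := d21_5 D18268 F35985 (iv F24578) (iv F35282) D22279 (iv D19131) (iv F31968) (iv D18267)
def n22280 : Q := act 6 n16975
theorem D22280 : act 6 n16975 = n22280 := rfl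
theorem F43440 : act 1 n22280 = n20620 := d10_1 D22280 (iv D20620) (iv D15287) F23441 D16975
theorem F43441 : act 3 n22280 = n19328 := d17_1 D22280 (iv D19328) (iv F35282)
def n22281 : Q := act 3 n16976
theorem D22281 : act 3 n16976 = n22281 := rfl
theorem F43442 : act 0 n22281 = n16977 := d2_1 D22281 (iv D16977) (iv F29891)
theorem F43443 : act 1 n22281 = n22114 := d7_1 D22281 F43037 F30283
theorem F43444 : act 5 n22281 = n17020 := d16_2 (iv F29892) D22281 (iv D17020)
theorem F43445 : act 6 n22281 = n20521 := d17_2 (iv F29893) D22281 (iv D20521)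
theorem F43446 : act 2 n22281 = n20571 := d21_2 D16976 D22281 F39803 F37598 (iv F35297) (iv D15283) F20712 D12619
def n22282 : Q := act 2 n16977
theorem D22282 : act 2 n16977 = n22282 := rfl
theorem F43447 : act 0 n22282 = n20571 := d1_1 D22282 (iv F43446) F43442
theorem F43448 : act 5 n22282 = n17021 := d13_2 (iv F29894) D22282 (iv D17021)
theorem F43449 : act 1 n22282 = n19874 := d23_2 (iv F29894) D22282 F37516 F25531 (iv D11350) (iv D9071) F6692 F6690 F6684 D4625 D9554 D11623 F34749 D15164 F26427 F22294 (iv F30021) F39628 F29960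
theorem F43450 : act 2 n22274 = n19873 := d6_2 (iv D22282) (iv F43422) (iv D19873) D19874 (iv F43449)
theorem F43451 : act 6 n22282 = n20568 := d22_3 D20570 F39805 (iv F43448) (iv D20568)
def n22283 : Q := act 4 n16977
theorem D22283 : act 4 n16977 = n22283 := rfl
theorem F43452 : act 5 n22283 = n17022 := d18_2 (iv F29894) D22283 (iv D17022)
def n22284 : Q := act 6 n16977
theorem D22284 : act 6 n16977 = n22284 := rfl
theorem F43453 : act 0 n22284 = n20521 := d5_1 D22284 (iv F43445) F43442
theorem F43454 : act 2 n22284 = n20568 := d14_1 D22284 (iv F43451) (iv D22282)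
theorem F43455 : act 3 n22284 = n16978 := d17_1 D22284 (iv D16978) D16977
theorem F43456 : act 5 n22284 = n22070 := d20_1 D22284 F42915 (iv F43444) F43445 F38950 (iv D17023) (iv F29894)
def n22285 : Q := act 1 n16978
theorem D22285 : act 1 n16978 = n22285 := rfl
theorem F43457 : act 2 n22285 = n22069 := d6_2 (iv F29896) D22285 (iv D22069) F29621 (iv F22161)
def n22286 : Q := act 5 n16980
theorem D22286 : act 5 n16980 = n22286 := rfl
theorem F43458 : act 0 n22286 = n16989 := d4_1 D22286 (iv D16989) (iv F29900)
theorem F43459 : act 2 n22286 = n16982 := d13_1 D22286 (iv D16982) D16980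
theorem F43460 : act 3 n22286 = n21056 := d16_1 D22286 (iv D21056) F29901
theorem F43461 : act 4 n22286 = n21051 := d18_1 D22286 (iv D21051) (iv F29903)
def n22287 : Q := act 6 n16980
theorem D22287 : act 6 n16980 = n22287 := rfl
theorem F43462 : act 0 n22287 = n16990 := d5_1 D22287 (iv D16990) (iv F29900)
theorem F43463 : act 1 n22287 = n22287 := d10_1 D22287 (iv D22287) F29902 F27478 (iv F29902)
theorem F43464 : act 2 n22287 = n16983 := d14_1 D22287 (iv D16983) D16980
theorem F43465 : act 3 n22287 = n19293 := d17_1 D22287 (iv F36002) F29901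
theorem F43466 : act 4 n22287 = n20948 := d19_1 D22287 F40265 (iv F29903)
def n22288 : Q := act 5 n16981
theorem D22288 : act 5 n16981 = n22288 := rfl
theorem F43467 : act 0 n22288 = n16991 := d4_1 D22288 (iv D16991) (iv F29904)
theorem F43468 : act 2 n22288 = n21051 := d13_1 D22288 (iv D21051) (iv F29906)
theorem F43469 : act 4 n22288 = n16982 := d18_1 D22288 (iv D16982) D16981
def n22289 : Q := act 6 n16981
theorem D22289 : act 6 n16981 = n22289 := rfl
theorem F43470 : act 0 n22289 = n16992 := d5_1 D22289 (iv D16992) (iv F29904)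
theorem F43471 : act 2 n22289 = n20948 := d14_1 D22289 F40265 (iv F29906)
theorem F43472 : act 3 n22289 = n20742 := d17_1 D22289 F39359 F32118
theorem F43473 : act 4 n22289 = n16983 := d19_1 D22289 (iv D16983) D16981
def n22290 : Q := act 1 n16982
theorem D22290 : act 1 n16982 = n22290 := rfl
theorem F43474 : act 3 n22290 = n16984 := d7_2 (iv F29908) D22290 (iv D16984)
theorem F43475 : act 5 n22290 = n22290 := d9_2 D16982 D22290 (iv D22290) (iv D16982) F22168
def n22291 : Q := act 0 n16984
theorem D22291 : act 0 n16984 = n22291 := rfl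
theorem F43476 : act 5 n22291 = n22291 := d4_2 F29911 D22291 (iv D22291)
def n22292 : Q := act 2 n16984
theorem D22292 : act 2 n16984 = n22292 := rfl
theorem F43477 : act 1 n22292 = n20051 := d6_1 D22292 (iv F39581) (iv D20711) F26738 D16984
theorem F43478 : act 5 n22292 = n22292 := d13_2 F29911 D22292 (iv D22292)
theorem F43479 : act 3 n20052 = n22292 := d7_0 F43477 F37880 D20052
def n22293 : Q := act 6 n16984
theorem D22293 : act 6 n16984 = n22293 := rfl
theorem F43480 : act 1 n22293 = n17048 := d10_1 D22293 (iv F42771) (iv D17000) F22177 D16984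
theorem F43481 : act 5 n22293 = n17012 := d24_1 D22293 (iv D17012) D17014 (iv F35255) (iv D16641) F21865 (iv D12386) (iv F21819) F21820 D16588 F35220 (iv D12625) D12624 D16984
theorem F43482 : act 0 n22293 = n17012 := d22_4 (iv F43481) (iv D22293) F29911 D22293
theorem F43483 : act 6 n22291 = n17012 := d22_1 F43476 (iv F43481) (iv D22293) D22291
theorem F43484 : act 1 n17227 = n22291 := d10_5 F43483 (iv D17012) D17014 (iv F34847) F34848
def n22294 : Q := act 5 n16987
theorem D22294 : act 5 n16987 = n22294 := rfl
theorem F43485 : act 0 n22294 = n21056 := d4_1 D22294 (iv D21056) (iv F29914)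
theorem F43486 : act 3 n22294 = n16989 := d16_1 D22294 (iv D16989) D16987
theorem F43487 : act 4 n22294 = n21053 := d18_1 D22294 (iv D21053) F29915
def n22295 : Q := act 5 n16988
theorem D22295 : act 5 n16988 = n22295 := rfl
theorem F43488 : act 0 n22295 = n21051 := d4_1 D22295 (iv D21051) (iv F29916)
theorem F43489 : act 2 n22295 = n16991 := d13_1 D22295 (iv D16991) (iv F29917)
theorem F43490 : act 3 n22295 = n21050 := d16_1 D22295 (iv D21050) (iv F29918)
theorem F43491 : act 4 n22295 = n16989 := d18_1 D22295 (iv D16989) D16988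
def n22296 : Q := act 6 n16988
theorem D22296 : act 6 n16988 = n22296 := rfl
theorem F43492 : act 0 n22296 = n20948 := d5_1 D22296 F40265 (iv F29916)
theorem F43493 : act 1 n22296 = n18470 := d10_1 D22296 (iv D18470) F23718 D16537 F35079
theorem F43494 : act 2 n22296 = n16992 := d14_1 D22296 (iv D16992) (iv F29917)
theorem F43495 : act 3 n22296 = n18473 := d17_1 D22296 F35083 (iv F29918)
theorem F43496 : act 4 n22296 = n16990 := d19_1 D22296 (iv D16990) D16988
def n22297 : Q := act 6 n16989
theorem D22297 : act 6 n16989 = n22297 := rfl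
theorem F43497 : act 2 n22297 = n16994 := d14_1 D22297 (iv D16994) (iv F29919)
theorem F43498 : act 5 n22297 = n22287 := d22_2 D16989 D22297 (iv D22287) F29900
theorem F43499 : act 1 n21954 = n22297 := d6_5 F43497 (iv F35252) F34793 D16648 D21954
def n22298 : Q := act 5 n16990
theorem D22298 : act 5 n16990 = n22298 := rfl
theorem F43500 : act 0 n22298 = n22297 := d4_1 D22298 F43498 F43462
theorem F43501 : act 2 n22298 = n16995 := d13_1 D22298 (iv D16995) (iv F29920)
theorem F43502 : act 6 n22298 = n22286 := d20_2 D16990 D22298 (iv D22286) D22287 (iv F43498) (iv D22297) (iv D16989)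
theorem F43503 : act 1 n22298 = n22082 := d24_2 D16990 D22298 (iv D22082) (iv D16804) D16801 (iv F42527) (iv D21920) F29716 (iv D16563) D16562 F28793 D21919 F42522 (iv D16986)
def n22299 : Q := act 1 n16991
theorem D22299 : act 1 n16991 = n22299 := rfl
theorem F43504 : act 4 n22299 = n16993 := d8_2 (iv F29921) D22299 (iv D16993)
theorem F43505 : act 5 n22299 = n17008 := d9_2 D16991 D22299 (iv D17008) (iv D12636) (iv F22171)
theorem F43506 : act 2 n22094 = n22299 := d13_3 F43505 (iv F35117) D22094
def n22300 : Q := act 6 n16991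
theorem D22300 : act 6 n16991 = n22300 := rfl
theorem F43507 : act 4 n22300 = n16994 := d19_1 D22300 (iv D16994) (iv F29921)
theorem F43508 : act 5 n22300 = n22289 := d22_2 D16991 D22300 (iv D22289) F29904
theorem F43509 : act 1 n21934 = n22300 := d8_3 F43507 (iv F35252) (iv F42574)
def n22301 : Q := act 5 n16992
theorem D22301 : act 5 n16992 = n22301 := rfl
theorem F43510 : act 0 n22301 = n22300 := d4_1 D22301 F43508 F43470
theorem F43511 : act 4 n22301 = n16995 := d18_1 D22301 (iv D16995) (iv F29922)
theorem F43512 : act 6 n22301 = n22288 := d20_2 D16992 D22301 (iv D22288) D22289 (iv F43508) (iv D22300) (iv D16991)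
def n22302 : Q := act 0 n16993
theorem D22302 : act 0 n16993 = n22302 := rfl
theorem F43513 : act 2 n22302 = n22096 := d1_2 F35171 D22302 F42988
theorem F43514 : act 3 n22302 = n16996 := d2_2 (iv F29923) D22302 (iv D16996)
theorem F43515 : act 5 n22302 = n17009 := d4_2 (iv F29924) D22302 (iv D17009)
def n22303 : Q := act 1 n16995
theorem D22303 : act 1 n16995 = n22303 := rfl
theorem F43516 : act 2 n22303 = n22087 := d6_2 F43501 D22303 (iv D22087) (iv F42953) (iv F43503)
theorem F43517 : act 3 n22303 = n17000 := d7_2 (iv F29928) D22303 (iv D17000)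
def n22304 : Q := act 1 n16996
theorem D22304 : act 1 n16996 = n22304 := rfl
theorem F43518 : act 0 n22304 = n17050 := d0_1 D22304 F29997 (iv F30224) F43484 (iv D22291) (iv D16984) F22169 D12630 D16996
theorem F43519 : act 5 n22304 = n17048 := d9_2 (iv F29930) D22304 (iv F43480) F43481 (iv D17012)
theorem F43520 : act 2 n22304 = n18639 := d23_1 (iv F43519) F34135 F26700 (iv D11737) (iv F20240) (iv D11440) F13676 (iv F16838) (iv D5644) (iv D2718) (iv D1315) (iv F2203) D2716 (iv F8526) (iv F18162) (iv F22219) (iv D12658) D12657 D17048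
def n22305 : Q := act 2 n16996
theorem D22305 : act 2 n16996 = n22305 := rfl
theorem F43521 : act 0 n22305 = n16997 := d1_1 D22305 (iv D16997) D16996
theorem F43522 : act 1 n22305 = n20061 := d6_1 D22305 F37901 (iv F34135) (iv F43520) (iv D22304)
theorem F43523 : act 5 n22305 = n17013 := d13_2 (iv F29930) D22305 (iv D17013)
theorem F43524 : act 6 n22305 = n17162 := d14_2 F29953 D22305 (iv F39672)
theorem F43525 : act 3 n22305 = n17164 := d21_1 D22305 (iv F30276) (iv F39561) F29675 (iv F29669) F35171 F29923 D16996
def n22306 : Q := act 3 n16997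
theorem D22306 : act 3 n16997 = n22306 := rfl
theorem F43526 : act 0 n22306 = n17164 := d2_1 D22306 (iv F43525) F43521
theorem F43527 : act 2 n22306 = n22197 := d11_1 D22306 F43261 F43002 (iv F42989) (iv F43513) F43514 D22305 F43525 (iv F30276) (iv F39561) F29675 (iv F29669) F35171 F29923 D16997
theorem F43528 : act 5 n22306 = n17015 := d16_2 (iv F29931) D22306 (iv D17015)
theorem F43529 : act 6 n22306 = n17095 := d17_2 F42621 D22306 F42622
def n22307 : Q := act 2 n17000
theorem D22307 : act 2 n17000 = n22307 := rfl
theorem F43530 : act 0 n22307 = n20507 := d1_1 D22307 (iv F38930) F42770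
theorem F43531 : act 5 n22307 = n18570 := d13_2 F42768 D22307 (iv F42767)
theorem F43532 : act 3 n22307 = n18572 := d21_3 (iv F43516) F43517 D22307 (iv F33390) (iv F39010) F39009 (iv F43083) F43081
def n22308 : Q := act 0 n17008
theorem D22308 : act 0 n17008 = n22308 := rfl
theorem F43533 : act 2 n22308 = n22093 := d1_2 F35117 D22308 (iv D22093)
theorem F43534 : act 4 n22308 = n17009 := d3_2 (iv F29943) D22308 (iv D17009)
def n22309 : Q := act 6 n17008
theorem D22309 : act 6 n17008 = n22309 := rfl
theorem F43535 : act 1 n22309 = n22009 := d10_1 D22309 (iv D22009) (iv D16740) (iv F22187) D17008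
theorem F43536 : act 2 n22309 = n22085 := d14_1 D22309 F42962 F35117
theorem F43537 : act 4 n22309 = n17011 := d19_1 D22309 (iv D17011) (iv F29943)
def n22310 : Q := act 1 n17009
theorem D22310 : act 1 n17009 = n22310 := rfl
theorem F43538 : act 3 n22310 = n17012 := d7_2 (iv F29944) D22310 (iv D17012)
def n22311 : Q := act 6 n17009
theorem D22311 : act 6 n17009 = n22311 := rfl
theorem F43539 : act 0 n22311 = n17011 := d5_1 D22311 (iv D17011) D17009
theorem F43540 : act 2 n22311 = n22088 := d14_1 D22311 F42969 F35170
theorem F43541 : act 3 n22311 = n17014 := d17_1 D22311 (iv D17014) (iv F29944)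
theorem F43542 : act 5 n22311 = n21950 := d22_2 F43515 D22311 F42618 D22302
theorem F43543 : act 1 n21948 = n22311 := d9_5 F43542 (iv D21950) (iv D16640) (iv F29384) D21948
def n22312 : Q := act 5 n17011
theorem D22312 : act 5 n17011 = n22312 := rfl
theorem F43544 : act 0 n22312 = n21950 := d4_1 D22312 (iv F43542) F43539
theorem F43545 : act 2 n22312 = n21941 := d13_1 D22312 F42591 F35172
theorem F43546 : act 3 n22312 = n17017 := d16_1 D22312 (iv D17017) (iv F29946)
theorem F43547 : act 6 n22312 = n22302 := d20_2 D17011 D22312 F43515 D22311 F43542 F42618 F29924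
theorem F43548 : act 1 n17045 = n22312 := d7_3 F43546 F30011 (iv F29994)
def n22313 : Q := act 2 n17012
theorem D22313 : act 2 n17012 = n22313 := rfl
def n22314 : Q := act 1 n17013
theorem D22314 : act 1 n17013 = n22314 := rfl
theorem F43549 : act 5 n22314 = n20067 := d9_2 F43523 D22314 (iv D20067) F37903 (iv F43522)
def n22315 : Q := act 6 n17013
theorem D22315 : act 6 n17013 = n22315 := rfl
theorem F43550 : act 0 n22315 = n17016 := d5_1 D22315 (iv D17016) (iv F29947)
theorem F43551 : act 2 n22315 = n17014 := d14_1 D22315 (iv D17014) D17013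
theorem F43552 : act 5 n22315 = n21951 := d20_1 D22315 F42621 F29931 D17016 (iv F39671) (iv F43524) F43523
def n22316 : Q := act 4 n17015
theorem D22316 : act 4 n17015 = n22316 := rfl
theorem F43553 : act 1 n22316 = n17022 := d8_1 D22316 (iv D17022) (iv F29950)
theorem F43554 : act 6 n22316 = n21803 := d19_2 F39669 D22316 F42275
def n22317 : Q := act 3 n17018
theorem D22317 : act 3 n17018 = n22317 := rfl
theorem F43555 : act 1 n22317 = n21936 := d7_1 D22317 F42581 (iv F29958)
theorem F43556 : act 5 n22317 = n21913 := d16_2 (iv F29954) D22317 F42505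
theorem F43557 : act 6 n22317 = n22045 := d17_2 (iv F29955) D22317 (iv D22045)
theorem F43558 : act 2 n19175 = n22317 := d14_3 F43557 F42864 (iv F35747)
def n22318 : Q := act 2 n17020
theorem D22318 : act 2 n17020 = n22318 := rfl
theorem F43559 : act 0 n22318 = n17021 := d1_1 D22318 (iv D17021) (iv F29960)
theorem F43560 : act 1 n22318 = n17143 := d6_1 D22318 F30105 F22291 (iv F30021) F39628
theorem F43561 : act 5 n22318 = n20571 := d13_2 F43444 D22318 (iv F43446)
theorem F43562 : act 3 n22318 = n20629 := d21_1 D22318 (iv D20629) (iv D15295) (iv D11709) F14326 D10239 D12643 (iv F29960)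
def n22319 : Q := act 4 n17020
theorem D22319 : act 4 n17020 = n22319 := rfl
theorem F43563 : act 0 n22319 = n17022 := d3_1 D22319 (iv D17022) (iv F29960)
theorem F43564 : act 1 n22319 = n21715 := d8_1 D22319 F42078 F39628
def n22320 : Q := act 1 n17021
theorem D22320 : act 1 n17021 = n22320 := rfl
theorem F43565 : act 5 n22320 = n19880 := d9_2 F43448 D22320 (iv D19880) (iv F37517) (iv F43449)
def n22321 : Q := act 3 n17021
theorem D22321 : act 3 n17021 = n22321 := rfl
theorem F43566 : act 0 n22321 = n20629 := d2_1 D22321 (iv F43562) F43559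
theorem F43567 : act 2 n22321 = n19900 := d11_1 D22321 F37587 (iv D15294) F20725 D12642 D17020 D22318 F43562 (iv D20629) (iv D15295) (iv D11709) F14326 D10239 D12643 D17021
theorem F43568 : act 6 n22321 = n19899 := d17_2 F39805 D22321 (iv F39802)
theorem F43569 : act 4 n19935 = n22321 := d19_3 F43568 F37583 D19935
def n22322 : Q := act 4 n17021
theorem D22322 : act 4 n17021 = n22322 := rfl
theorem F43570 : act 2 n22322 = n17022 := d12_1 D22322 (iv D17022) D17021
def n22323 : Q := act 6 n17022
theorem D22323 : act 6 n17022 = n22323 := rfl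
theorem F43571 : act 1 n22323 = n21813 := d10_1 D22323 (iv D21813) (iv F42274) (iv F43554) F43553
theorem F43572 : act 4 n22323 = n17023 := d19_1 D22323 (iv D17023) D17022
def n22324 : Q := act 0 n17024
theorem D22324 : act 0 n17024 = n22324 := rfl
theorem F43573 : act 1 n22324 = n17267 := d0_2 D17024 D22324 (iv F30298) (iv F39555) (iv F43018) (iv F43173) F43172 F42898 F29622
theorem F43574 : act 2 n22324 = n22024 := d1_2 (iv F29962) D22324 (iv D22024)
theorem F43575 : act 3 n22324 = n17175 := d2_2 F39641 D22324 F30161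
theorem F43576 : act 6 n22324 = n20028 := d5_2 (iv F39639) D22324 (iv F39582)
theorem F43577 : act 5 n22324 = n17173 := d22_0 (iv D17173) D17172 (iv F39639) D22324
def n22325 : Q := act 5 n17024
theorem D22325 : act 5 n17024 = n22325 := rfl
theorem F43578 : act 0 n22325 = n17173 := d4_1 D22325 (iv F43577) (iv D22324)
theorem F43579 : act 1 n22325 = n22065 := d9_1 D22325 F42902 (iv D20520) F26482 D17024
theorem F43580 : act 2 n22325 = n22018 := d13_1 D22325 F42800 (iv F29962)
theorem F43581 : act 3 n22325 = n17169 := d16_1 D22325 (iv F30160) F39641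
theorem F43582 : act 6 n22325 = n17167 := d20_2 (iv F39639) D22325 F39583 (iv F43576) F43577 (iv D17173) D17172
def n22326 : Q := act 5 n17025
theorem D22326 : act 5 n17025 = n22326 := rfl
theorem F43583 : act 0 n22326 = n20632 := d4_1 D22326 (iv D20632) (iv F29963)
theorem F43584 : act 3 n22326 = n17026 := d16_1 D22326 (iv D17026) D17025
theorem F43585 : act 4 n22326 = n17029 := d18_1 D22326 (iv D17029) (iv F29965)
theorem F43586 : act 6 n22326 = n21089 := d20_2 F40700 D22326 F40703 F36611 D20632 (iv F39160) (iv F40698)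
def n22327 : Q := act 1 n17026
theorem D22327 : act 1 n17026 = n22327 := rfl
theorem F43587 : act 0 n22327 = n18156 := d0_1 D22327 (iv D18156) F23342 D18155 F43045 (iv D22116) F29689 F35160 (iv F29966)
theorem F43588 : act 4 n22327 = n17027 := d8_2 (iv F29968) D22327 (iv D17027)
theorem F43589 : act 5 n22327 = n22327 := d9_2 D17026 D22327 (iv D22327) (iv D17026) F22196
def n22328 : Q := act 2 n17027
theorem D22328 : act 2 n17027 = n22328 := rfl
theorem F43590 : act 0 n22328 = n18172 := d1_1 D22328 (iv D18172) (iv F35129)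
theorem F43591 : act 1 n22328 = n20623 := d6_1 D22328 (iv D20623) (iv D15289) (iv F22199) D17027
theorem F43592 : act 5 n22328 = n22328 := d13_2 F29970 D22328 (iv D22328)
theorem F43593 : act 3 n17828 = n22328 := d7_0 F43591 F39695 (iv F31115)
theorem F43594 : act 6 n17826 = n22328 := d10_0 F43591 (iv F39694) F27379 (iv F22893) D17826
def n22329 : Q := act 6 n17027
theorem D22329 : act 6 n17027 = n22329 := rfl
theorem F43595 : act 0 n22329 = n18173 := d5_1 D22329 (iv D18173) (iv F35129)
theorem F43596 : act 1 n22329 = n22118 := d10_1 D22329 F43054 (iv F34441) F26511 D17027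
theorem F43597 : act 2 n22329 = n17826 := d14_1 D22329 F43594 (iv D22328)
theorem F43598 : act 3 n22329 = n17034 := d17_1 D22329 (iv D17034) (iv F29969)
theorem F43599 : act 5 n22329 = n18173 := d22_2 F29970 D22329 (iv D18173) (iv F35129)
def n22330 : Q := act 2 n17030
theorem D22330 : act 2 n17030 = n22330 := rfl
theorem F43600 : act 1 n22330 = n17037 := d6_1 D22330 (iv D17037) (iv D12651) (iv F22202) D17030
theorem F43601 : act 4 n22330 = n17033 := d12_2 (iv F29972) D22330 (iv D17033)
theorem F43602 : act 5 n22330 = n22330 := d13_2 F29973 D22330 (iv D22330)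
def n22331 : Q := act 6 n17030
theorem D22331 : act 6 n17030 = n22331 := rfl
theorem F43603 : act 0 n22331 = n22121 := d5_1 D22331 F43061 F36636
theorem F43604 : act 4 n22331 = n17034 := d19_1 D22331 (iv D17034) (iv F29972)
theorem F43605 : act 5 n22331 = n22121 := d22_2 F29973 D22331 F43061 F36636
theorem F43606 : act 1 n22120 = n22331 := d24_14 (iv D22331) F29973 (iv D17030) D17031 F29977 F35106 (iv D14333) D14332 (iv F29441) (iv F29703) (iv D16839) D16838 F29698 D22120
def n22332 : Q := act 1 n17031
theorem D22332 : act 1 n17031 = n22332 := rfl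
theorem F43607 : act 0 n22332 = n22120 := d0_1 D22332 F43606 F43603 (iv D22121) F29699 (iv D16574) (iv F21812) D16578 F35108
theorem F43608 : act 3 n22332 = n19533 := d7_2 (iv F35107) D22332 F36645
theorem F43609 : act 4 n22332 = n17035 := d8_2 (iv F29976) D22332 (iv D17035)
theorem F43610 : act 5 n22332 = n19529 := d9_2 (iv F29977) D22332 (iv D19529) F25038 (iv F35106)
theorem F43611 : act 6 n22332 = n22120 := d10_2 D17031 D22332 F43606 (iv D22331) (iv D17030)
def n22333 : Q := act 2 n17032
theorem D22333 : act 2 n17032 = n22333 := rfl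
theorem F43612 : act 0 n22333 = n17033 := d1_1 D22333 (iv D17033) D17032
theorem F43613 : act 1 n22333 = n21055 := d6_1 D22333 F40580 (iv F35500) F31756 (iv F35126)
theorem F43614 : act 5 n22333 = n22333 := d13_2 F29978 D22333 (iv D22333)
theorem F43615 : act 6 n22333 = n22124 := d14_2 (iv F35128) D22333 (iv D22124)
theorem F43616 : act 3 n22006 = n22333 := d7_0 F43613 F40581 D22006
theorem E10328 : n22006 = n17251 := ((c2_4 F43616 F43612 F34628 D17251)).symm
theorem F43617 : act 1 n17251 = n16728 := (sb E10328 (iv D22006))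
theorem F43618 : act 3 n17251 = n22333 := (sb E10328 F43616)
theorem F43619 : act 1 n21293 = n21851 := d8_3 F42386 F43617 (iv F41183)
def n22334 : Q := act 6 n17033
theorem D22334 : act 6 n17033 = n22334 := rfl
theorem F43620 : act 0 n22334 = n22124 := d5_1 D22334 (iv F43615) F43612
theorem F43621 : act 2 n22334 = n17034 := d14_1 D22334 (iv D17034) D17033
theorem F43622 : act 3 n22334 = n17253 := d17_1 D22334 (iv D17253) (iv F34628)
theorem F43623 : act 5 n22334 = n22124 := d22_2 F29980 D22334 (iv F43615) F43612
def n22335 : Q := act 2 n17035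
theorem D22335 : act 2 n17035 = n22335 := rfl
theorem F43624 : act 0 n22335 = n22123 := d1_1 D22335 F43069 (iv F35135)
theorem F43625 : act 1 n22335 = n17046 := d6_1 D22335 (iv D17046) (iv D12656) (iv F22206) D17035
theorem F43626 : act 5 n22335 = n22122 := d13_2 (iv F35133) D22335 (iv D22122)
theorem F43627 : act 6 n22335 = n22123 := d14_2 F35134 D22335 F43069
theorem F43628 : act 3 n22156 = n22335 := d17_3 F43627 F43070 (iv F43163)
def n22336 : Q := act 1 n17036
theorem D22336 : act 1 n17036 = n22336 := rfl
theorem F43629 : act 4 n22336 = n17040 := d8_2 (iv F29981) D22336 (iv D17040)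
def n22337 : Q := act 1 n17038
theorem D22337 : act 1 n17038 = n22337 := rfl
theorem F43630 : act 4 n22337 = n17044 := d8_2 (iv F29985) D22337 (iv D17044)
theorem F43631 : act 6 n22337 = n17039 := d10_2 D17038 D22337 (iv D17039) (iv D12652) D12651
def n22338 : Q := act 0 n17039
theorem D22338 : act 0 n17039 = n22338 := rfl
theorem F43632 : act 4 n22338 = n17045 := d3_2 (iv F29986) D22338 (iv D17045)
def n22339 : Q := act 2 n17039
theorem D22339 : act 2 n17039 = n22339 := rfl
theorem F43633 : act 4 n22339 = n17046 := d12_2 (iv F29986) D22339 (iv D17046)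
theorem F43634 : act 5 n22129 = n22339 := d18_0 F43633 (iv F40590) (iv F43078)
def n22340 : Q := act 5 n17039
theorem D22340 : act 5 n17039 = n22340 := rfl
theorem F43635 : act 1 n22340 = n22003 := d9_1 D22340 (iv D22003) F29517 (iv F22212) D17039
theorem F43636 : act 2 n22340 = n22129 := d13_1 D22340 F43634 (iv D22339)
theorem F43637 : act 4 n22340 = n17047 := d18_1 D22340 (iv D17047) (iv F29986)
theorem F43638 : act 6 n22128 = n22340 := d19_0 F43637 (iv F40591) (iv F43076)
def n22341 : Q := act 0 n17040
theorem D22341 : act 0 n17040 = n22341 := rfl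
theorem F43639 : act 3 n22341 = n17048 := d2_2 (iv F29987) D22341 (iv D17048)
theorem F43640 : act 6 n22303 = n22341 := d17_0 F43639 (iv F42771) (iv F43517)
def n22342 : Q := act 2 n17040
theorem D22342 : act 2 n17040 = n22342 := rfl
theorem F43641 : act 1 n22342 = n22134 := d6_1 D22342 (iv F43089) (iv D17044) (iv F34629) D17040
theorem F43642 : act 3 n22342 = n22138 := d21_7 F42660 F33293 (iv F23858) (iv F30237) (iv D17049) (iv F29987) D22342 F43104
theorem F43643 : act 6 n22132 = n22342 := d17_0 F43642 (iv D22138) (iv F43083)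
def n22343 : Q := act 5 n17040
theorem D22343 : act 5 n17040 = n22343 := rfl
theorem F43644 : act 1 n22343 = n17215 := d9_1 D22343 (iv D17215) (iv D12755) (iv F22214) D17040
theorem F43645 : act 3 n22343 = n17050 := d16_1 D22343 (iv D17050) (iv F29987)
def n22344 : Q := act 6 n17040
theorem D22344 : act 6 n17040 = n22344 := rfl
theorem F43646 : act 0 n22344 = n22303 := d5_1 D22344 F43640 (iv D22341)
theorem F43647 : act 1 n22344 = n22334 := d10_1 D22344 (iv D22334) F29979 (iv F34630) D17040
theorem F43648 : act 2 n22344 = n22132 := d14_1 D22344 F43643 (iv D22342)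
theorem F43649 : act 3 n22344 = n17051 := d17_1 D22344 (iv D17051) (iv F29987)
theorem F43650 : act 5 n22131 = n22344 := d13_0 F43648 (iv D22132) D22131
def n22345 : Q := act 5 n17045
theorem D22345 : act 5 n17045 = n22345 := rfl
theorem F43651 : act 0 n22345 = n17047 := d4_1 D22345 (iv D17047) D17045
theorem F43652 : act 1 n22345 = n21955 := d9_1 D22345 F42634 (iv F29945) D22312 (iv F43548)
theorem F43653 : act 2 n22345 = n22136 := d13_1 D22345 F43098 (iv F42611)
theorem F43654 : act 3 n22345 = n17063 := d16_1 D22345 (iv D17063) (iv F29994)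
theorem F43655 : act 6 n22345 = n21956 := d20_2 F43093 D22345 F42636 F29993 D17047 (iv F40591) (iv F43092)
def n22346 : Q := act 2 n17048
theorem D22346 : act 2 n17048 = n22346 := rfl
theorem F43656 : act 0 n22346 = n17049 := d1_1 D22346 (iv D17049) D17048
theorem F43657 : act 5 n22346 = n18639 := d13_2 F43519 D22346 (iv F43520)
theorem F43658 : act 6 n22346 = n22307 := d14_2 F42771 D22346 (iv D22307)
theorem F43659 : act 3 n18641 = n22346 := d17_3 F43658 F43532 (iv F33352)
theorem F43660 : act 1 n20685 = n22346 := d9_5 F43657 F34135 (iv D15346) D15345 D20685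
def n22347 : Q := act 5 n17051
theorem D22347 : act 5 n17051 = n22347 := rfl
theorem F43661 : act 0 n22347 = n22007 := d4_1 D22347 F42768 (iv F42770)
theorem F43662 : act 3 n22347 = n22131 := d16_1 D22347 F43650 F43649
theorem F43663 : act 6 n22347 = n22304 := d20_2 D17051 D22347 F43519 (iv F42771) (iv F42768) F42769 (iv D17050)
theorem F43664 : act 1 n22347 = n17058 := d24_2 D17051 D22347 F30005 D17063 (iv F34860) (iv D16651) F21868 (iv D12415) D12416 F21871 (iv F34850) (iv D10299) (iv F18104) D12657
def n22348 : Q := act 3 n17052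
theorem D22348 : act 3 n17052 = n22348 := rfl
theorem F43665 : act 1 n22348 = n17053 := d7_1 D22348 (iv D17053) D17052
theorem F43666 : act 5 n22348 = n18615 := d16_2 F33324 D22348 F35359
def n22349 : Q := act 6 n17052
theorem D22349 : act 6 n17052 = n22349 := rfl
theorem F43667 : act 2 n22349 = n22232 := d14_1 D22349 F43344 F33306
theorem F43668 : act 5 n22349 = n20644 := d22_2 F33324 D22349 (iv F39399) (iv F33322)
def n22350 : Q := act 4 n17053
theorem D22350 : act 4 n17053 = n22350 := rfl
theorem F43669 : act 0 n22350 = n17055 := d3_1 D22350 (iv D17055) (iv F29998)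
theorem F43670 : act 5 n22350 = n17239 := d18_2 (iv F29999) D22350 (iv D17239)
def n22351 : Q := act 1 n17054
theorem D22351 : act 1 n17054 = n22351 := rfl
theorem F43671 : act 2 n22351 = n17077 := d6_2 D17054 D22351 (iv D17077) (iv D12671) (iv F22220)
theorem F43672 : act 3 n22351 = n17057 := d7_2 (iv F34611) D22351 (iv D17057)
theorem F43673 : act 6 n22351 = n17081 := d10_2 (iv F34612) D22351 (iv D17081) (iv D12673) (iv F22220)
def n22352 : Q := act 4 n17054
theorem D22352 : act 4 n17054 = n22352 := rfl
theorem F43674 : act 2 n22352 = n17055 := d12_1 D22352 (iv D17055) D17054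
theorem F43675 : act 5 n22352 = n17246 := d18_2 (iv F30000) D22352 (iv D17246)
theorem F43676 : act 6 n22352 = n17055 := d19_2 (iv F34612) D22352 (iv D17055)
def n22353 : Q := act 0 n17057
theorem D22353 : act 0 n17057 = n22353 := rfl
theorem F43677 : act 6 n22353 = n17082 := d5_2 (iv F30004) D22353 (iv D17082)
def n22354 : Q := act 2 n17057
theorem D22354 : act 2 n17057 = n22354 := rfl
theorem F43678 : act 1 n22354 = n17059 := d6_1 D22354 (iv D17059) (iv D12661) (iv F22222) D17057
theorem F43679 : act 6 n22354 = n17083 := d14_2 (iv F30004) D22354 (iv D17083)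
def n22355 : Q := act 5 n17057
theorem D22355 : act 5 n17057 = n22355 := rfl
theorem F43680 : act 1 n22355 = n20540 := d9_1 D22355 F38981 F35076 F22362 D17057
def n22356 : Q := act 2 n17058
theorem D22356 : act 2 n17058 = n22356 := rfl
theorem F43681 : act 0 n22356 = n17059 := d1_1 D22356 (iv D17059) D17058
theorem F43682 : act 6 n22356 = n17062 := d14_2 (iv F30005) D22356 (iv D17062)
theorem F43683 : act 3 n22356 = n17312 := d21_1 D22356 F35205 F43129 (iv D22148) (iv F43086) (iv F43089) F29992 D17058
theorem F43684 : act 1 n20089 = n22356 := d7_3 F43683 F30363 (iv F37968)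
def n22357 : Q := act 3 n17059
theorem D22357 : act 3 n17059 = n22357 := rfl
theorem F43685 : act 0 n22357 = n17312 := d2_1 D22357 (iv F43683) F43681
theorem F43686 : act 2 n22357 = n22149 := d11_1 D22357 (iv D22149) (iv D16863) (iv F29733) D22135 (iv F43094) D22356 F43683 F35205 F43129 (iv D22148) (iv F43086) (iv F43089) F29992 D17059
theorem F43687 : act 5 n22357 = n22151 := d16_2 (iv F39115) D22357 F43138
theorem F43688 : act 6 n22357 = n17064 := d17_2 (iv F30006) D22357 (iv D17064)
def n22358 : Q := act 5 n17062
theorem D22358 : act 5 n17062 = n22358 := rfl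
theorem F43689 : act 0 n22358 = n17065 := d4_1 D22358 (iv D17065) (iv F30007)
theorem F43690 : act 2 n22358 = n17063 := d13_1 D22358 (iv D17063) D17062
theorem F43691 : act 3 n22358 = n17311 := d16_1 D22358 (iv D17311) (iv F39674)
theorem F43692 : act 6 n22358 = n20612 := d22_1 D22358 (iv F39115) F30006 (iv F30007)
def n22359 : Q := act 2 n17064
theorem D22359 : act 2 n17064 = n22359 := rfl
theorem F43693 : act 0 n22359 = n17303 := d1_1 D22359 F30351 (iv F39675)
theorem F43694 : act 1 n22359 = n20651 := d6_1 D22359 F39775 F39770 (iv D17090) (iv F30012)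
theorem F43695 : act 3 n22359 = n20650 := d11_2 D17064 D22359 F39191 (iv F42608) (iv F42611) F29994 D17062 F39674 (iv F30351) (iv F43159) F43158 (iv F40593) (iv D17046) F22217 D12663
theorem F43696 : act 6 n22359 = n22149 := d14_2 F43688 D22359 (iv F43686)
theorem F43697 : act 5 n17391 = n22359 := d20_7 F43696 F43131 D22153 F43149 (iv F35210) (iv D17390) D17391
theorem F43698 : act 4 n20858 = n22359 := d8_0 F43694 F39754 (iv F40037)
def n22360 : Q := act 4 n17064
theorem D22360 : act 4 n17064 = n22360 := rfl
theorem F43699 : act 0 n22360 = n17310 := d3_1 D22360 (iv D17310) (iv F39675)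
theorem F43700 : act 1 n22360 = n17091 := d8_1 D22360 (iv D17091) (iv F30012)
theorem F43701 : act 2 n22360 = n20858 := d12_1 D22360 F43698 (iv D22359)
theorem F43702 : act 5 n22360 = n20812 := d22_0 (iv D20812) D20811 (iv F39890) (iv F43699)
def n22361 : Q := act 5 n17064
theorem D22361 : act 5 n17064 = n22361 := rfl
theorem F43703 : act 0 n22361 = n17311 := d4_1 D22361 (iv D17311) (iv F39675)
theorem F43704 : act 2 n22361 = n17391 := d13_1 D22361 F43697 (iv D22359)
theorem F43705 : act 3 n22361 = n17065 := d16_1 D22361 (iv D17065) D17064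
theorem F43706 : act 4 n22361 = n20812 := d18_1 D22361 (iv F43702) (iv D22360)
theorem F43707 : act 6 n22361 = n17384 := d20_2 F43688 D22361 F35207 (iv D17312) D17311 (iv F43140) (iv F43687)
theorem F43708 : act 1 n20923 = n22361 := d10_5 F43707 (iv D17384) (iv F32580) D15697 D20923
def n22362 : Q := act 1 n17065
theorem D22362 : act 1 n17065 = n22362 := rfl
theorem F43709 : act 2 n22362 = n20053 := d6_2 (iv F30013) D22362 F37883 F29503 (iv F22225)
theorem F43710 : act 3 n22362 = n20923 := d7_2 F43705 D22362 F43708
theorem F43711 : act 5 n22362 = n17093 := d9_2 D17065 D22362 (iv D17093) (iv D12681) (iv F22224)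
theorem F43712 : act 0 n20054 = n22362 := d4_3 F43711 (iv F37077) (iv F37886)
theorem F43713 : act 6 n20921 = n22362 := d17_0 F43710 (iv D20923) D20921
def n22363 : Q := act 6 n17065
theorem D22363 : act 6 n17065 = n22363 := rfl
theorem F43714 : act 0 n22363 = n20612 := d5_1 D22363 (iv F43692) F43689
theorem F43715 : act 1 n22363 = n17385 := d10_1 D22363 (iv F33028) (iv F40216) F43713 (iv D22362)
theorem F43716 : act 2 n22363 = n17066 := d14_1 D22363 (iv D17066) (iv F30013)
theorem F43717 : act 3 n22363 = n17384 := d17_1 D22363 (iv F43707) F43705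
theorem F43718 : act 5 n22363 = n22356 := d20_1 D22363 F43682 D22358 F43692 (iv F39115) F30006 D17065
def n22364 : Q := act 1 n17066
theorem D22364 : act 1 n17066 = n22364 := rfl
theorem F43719 : act 0 n22364 = n17253 := d0_1 D22364 F30270 F42770 (iv D17000) F22176 F35221 (iv F21869) D16652 F34853
theorem F43720 : act 3 n22364 = n22124 := d7_2 (iv F40592) D22364 F43071
theorem F43721 : act 5 n22364 = n17253 := d9_2 (iv F30015) D22364 F30270 D22347 F43664
theorem F43722 : act 6 n22364 = n17251 := d10_2 D17066 D22364 F43617 (iv D16728) (iv F22225)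
def n22365 : Q := act 0 n17068
theorem D22365 : act 0 n17068 = n22365 := rfl
theorem F43723 : act 2 n22365 = n17072 := d1_2 (iv F30018) D22365 (iv D17072)
theorem F43724 : act 6 n22108 = n22365 := d14_0 F43723 F43418 (iv F43021)
def n22366 : Q := act 3 n17068
theorem D22366 : act 3 n17068 = n22366 := rfl
theorem F43725 : act 1 n22366 = n17069 := d7_1 D22366 (iv D17069) D17068
theorem F43726 : act 2 n22064 = n22366 := d6_0 F43725 F39624 (iv F38909) (iv F38918) (iv F42899)
theorem F43727 : act 6 n22063 = n22366 := d10_0 F43725 F39625 (iv D17019) (iv F29623) (iv F42898)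
theorem F43728 : act 5 n22161 = n22366 := d24_1 D22161 F43725 F39625 F29959 F30284 D17262 (iv F30297) (iv F43573) F43576 (iv F39583) (iv F39584) F29762 (iv D16872) D16870
def n22367 : Q := act 5 n17068
theorem D22367 : act 5 n17068 = n22367 := rfl
theorem F43729 : act 2 n22367 = n17074 := d13_1 D22367 (iv D17074) (iv F30018)
theorem F43730 : act 3 n22367 = n22161 := d16_1 D22367 F43728 (iv D22366)
theorem F43731 : act 6 n22367 = n22159 := d22_1 D22367 (iv F43171) F43724 (iv D22365)
def n22368 : Q := act 6 n17068
theorem D22368 : act 6 n17068 = n22368 := rfl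
theorem F43732 : act 0 n22368 = n22108 := d5_1 D22368 F43724 (iv D22365)
theorem F43733 : act 1 n22368 = n22070 := d10_1 D22368 F42915 (iv F39628) (iv D17071) D17068
theorem F43734 : act 2 n22368 = n17075 := d14_1 D22368 (iv D17075) (iv F30018)
theorem F43735 : act 3 n22368 = n22063 := d17_1 D22368 F43727 (iv D22366)
def n22369 : Q := act 4 n17069
theorem D22369 : act 4 n17069 = n22369 := rfl
theorem F43736 : act 2 n22369 = n21606 := d12_1 D22369 F41835 (iv F39624)
theorem F43737 : act 5 n22369 = n21589 := d18_2 F39623 D22369 F41806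
theorem F43738 : act 6 n22369 = n21672 := d19_2 (iv F39625) D22369 F41984
def n22370 : Q := act 1 n17070
theorem D22370 : act 1 n17070 = n22370 := rfl
theorem F43739 : act 0 n22370 = n22370 := d0_1 D22370 (iv D22370) (iv F37771) (iv D19991) F25702 F20204 (iv F25702) D19991 F37771
theorem F43740 : act 2 n22370 = n17107 := d6_2 (iv F30019) D22370 (iv D17107) F22267 (iv F22228)
theorem F43741 : act 3 n22370 = n22204 := d7_2 (iv F39622) D22370 (iv D22204)
theorem F43742 : act 6 n22370 = n17107 := d10_2 F39604 D22370 (iv D17107) (iv F39598) (iv F29800)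
def n22371 : Q := act 3 n17072
theorem D22371 : act 3 n17072 = n22371 := rfl
theorem F43743 : act 0 n22371 = n17073 := d2_1 D22371 (iv D17073) D17072
theorem F43744 : act 1 n22371 = n22269 := d7_1 D22371 F43405 F43416
theorem F43745 : act 6 n22371 = n22270 := d17_2 (iv F43418) D22371 F43406
def n22372 : Q := act 5 n17072
theorem D22372 : act 5 n17072 = n22372 := rfl
theorem F43746 : act 0 n22372 = n17074 := d4_1 D22372 (iv D17074) D17072
def n22373 : Q := act 2 n17073
theorem D22373 : act 2 n17073 = n22373 := rfl
def n22374 : Q := act 4 n17073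
theorem D22374 : act 4 n17073 = n22374 := rfl
theorem F43747 : act 1 n22374 = n17076 := d8_1 D22374 (iv D17076) (iv F30023)
def n22375 : Q := act 5 n17073
theorem D22375 : act 5 n17073 = n22375 := rfl
theorem F43748 : act 1 n22375 = n17117 := d9_1 D22375 (iv D17117) F22276 (iv F22233) (iv F30023)
theorem F43749 : act 3 n22375 = n17074 := d16_1 D22375 (iv D17074) D17073
def n22376 : Q := act 6 n17073
theorem D22376 : act 6 n17073 = n22376 := rfl
theorem F43750 : act 0 n22376 = n22270 := d5_1 D22376 (iv F43745) F43743
theorem F43751 : act 3 n22376 = n17075 := d17_1 D22376 (iv D17075) D17073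
def n22377 : Q := act 5 n17075
theorem D22377 : act 5 n17075 = n22377 := rfl
theorem F43752 : act 0 n22377 = n22277 := d4_1 D22377 (iv D22277) F43419
theorem F43753 : act 6 n22377 = n22372 := d20_2 D17075 D22377 (iv D22372) F43418 D22277 F43432 (iv D17074)
def n22378 : Q := act 0 n17077
theorem D22378 : act 0 n17077 = n22378 := rfl
def n22379 : Q := act 4 n17077
theorem D22379 : act 4 n17077 = n22379 := rfl
theorem F43754 : act 1 n22379 = n17078 := d8_1 D22379 (iv D17078) D17077
def n22380 : Q := act 5 n17077
theorem D22380 : act 5 n17077 = n22380 := rfl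
theorem F43755 : act 1 n22380 = n17130 := d9_1 D22380 (iv D17130) (iv D12700) (iv F22234) D17077
def n22381 : Q := act 6 n17077
theorem D22381 : act 6 n17077 = n22381 := rfl
theorem F43756 : act 2 n22381 = n17081 := d14_1 D22381 (iv F43673) F43671
def n22382 : Q := act 3 n17078
theorem D22382 : act 3 n17078 = n22382 := rfl
theorem F43757 : act 5 n22382 = n17132 := d16_2 (iv F30028) D22382 (iv D17132)
def n22383 : Q := act 6 n17078
theorem D22383 : act 6 n17078 = n22383 := rfl
theorem F43758 : act 2 n22383 = n17080 := d14_1 D22383 (iv D17080) (iv F30027)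
theorem F43759 : act 4 n22383 = n17079 := d19_1 D22383 (iv D17079) D17078
theorem F43760 : act 5 n22383 = n22176 := d22_2 (iv F30028) D22383 F43206 F29839
def n22384 : Q := act 1 n17079
theorem D22384 : act 1 n17079 = n22384 := rfl
theorem F43761 : act 3 n22384 = n22179 := d7_2 (iv F30030) D22384 (iv D22179)
def n22385 : Q := act 1 n17080
theorem D22385 : act 1 n17080 = n22385 := rfl
theorem F43762 : act 4 n22385 = n17081 := d8_2 (iv F30032) D22385 (iv D17081)
def n22386 : Q := act 0 n17081
theorem D22386 : act 0 n17081 = n22386 := rfl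
theorem F43763 : act 3 n22386 = n17082 := d2_2 (iv F30033) D22386 (iv D17082)
def n22387 : Q := act 5 n17081
theorem D22387 : act 5 n17081 = n22387 := rfl
theorem F43764 : act 1 n22387 = n18588 := d9_1 D22387 (iv D18588) (iv F35226) F22280 D17081
theorem F43765 : act 3 n22387 = n17084 := d16_1 D22387 (iv D17084) (iv F30033)
def n22388 : Q := act 1 n17082
theorem D22388 : act 1 n17082 = n22388 := rfl
def n22389 : Q := act 2 n17082
theorem D22389 : act 2 n17082 = n22389 := rfl
theorem F43766 : act 0 n22389 = n17083 := d1_1 D22389 (iv D17083) D17082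
def n22390 : Q := act 5 n17082
theorem D22390 : act 5 n17082 = n22390 := rfl
theorem F43767 : act 0 n22390 = n17084 := d4_1 D22390 (iv D17084) D17082
theorem F43768 : act 6 n22390 = n22355 := d22_1 D22390 (iv D22355) F30004 D17082
theorem F43769 : act 2 n22390 = n20799 := d23_1 D22390 F39856 F32547 F30483 F30395 (iv F31018) F39835 (iv D20511) (iv D15195) (iv D11636) (iv F14314) (iv D9585) F7063 (iv F4193) (iv F8436) F8438 (iv F18111) D12674 D17082
theorem F43770 : act 5 n22389 = n20799 := d13_2 (iv D22390) D22389 (iv F43769)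
theorem F43771 : act 3 n20800 = n22389 := d16_3 F43770 (iv D20799) D20800
def n22391 : Q := act 3 n17083
theorem D22391 : act 3 n17083 = n22391 := rfl
theorem F43772 : act 0 n22391 = n20800 := d2_1 D22391 F43771 F43766
theorem F43773 : act 1 n22391 = n17086 := d7_1 D22391 (iv D17086) (iv F30034)
theorem F43774 : act 2 n20798 = n22391 := d6_0 F43773 (iv F39765) (iv D15766) F34210 (iv F39853)
theorem F43775 : act 4 n20803 = n22391 := d8_0 F43773 (iv F39766) (iv F39870)
theorem F43776 : act 5 n22391 = n20797 := d18_2 D20803 F43775 F39851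
def n22392 : Q := act 5 n17083
theorem D22392 : act 5 n17083 = n22392 := rfl
theorem F43777 : act 0 n22392 = n20799 := d4_1 D22392 (iv F43770) F43766
theorem F43778 : act 2 n22392 = n17084 := d13_1 D22392 (iv D17084) D17083
theorem F43779 : act 3 n22392 = n20797 := d16_1 D22392 (iv F43776) (iv D22391)
theorem F43780 : act 1 n20607 = n22392 := d6_5 F43778 (iv F30084) F39106 (iv D20606) D20607
def n22393 : Q := act 6 n17084
theorem D22393 : act 6 n17084 = n22393 := rfl
theorem F43781 : act 0 n22393 = n22355 := d5_1 D22393 (iv F43768) F43767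
theorem F43782 : act 5 n22393 = n22353 := d20_1 D22393 F43677 D22390 F43768 (iv D22355) F30004 D17084
theorem F43783 : act 1 n20558 = n22393 := d24_14 (iv D22393) (iv D17084) (iv D12674) (iv D10254) F8432 F4192 (iv F16745) (iv D2246) (iv F3540) (iv F7054) D9568 D11655 D15229 D20558
theorem F43784 : act 1 n22353 = n20010 := d9_3 D20558 F43783 F43782 F37807 F26631
theorem F43785 : act 6 n20007 = n22388 := d10_4 (iv F43677) F43784 (iv D20010) (iv F37804) (iv D22388)
theorem F43786 : act 2 n22388 = n20008 := d14_1 F43785 (iv D20008) D20007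
def n22394 : Q := act 3 n17085
theorem D22394 : act 3 n17085 = n22394 := rfl
theorem F43787 : act 0 n22394 = n17086 := d2_1 D22394 (iv D17086) (iv F30035)
theorem F43788 : act 1 n22394 = n19885 := d7_1 D22394 F37530 (iv F30036)
theorem F43789 : act 2 n22394 = n20963 := d11_1 D22394 F40319 F39759 (iv D16951) (iv D12599) (iv F18112) D12676 D17086 (iv F39765) F27290 D15770 (iv F39777) (iv D16950) (iv F22237) D17085
theorem F43790 : act 5 n22394 = n20981 := d16_2 F30049 D22394 F40365
theorem F43791 : act 6 n22394 = n17088 := d17_2 (iv F30037) D22394 (iv D17088)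
theorem F43792 : act 4 n20973 = n22394 := d12_0 F43789 F40320 D20973
def n22395 : Q := act 1 n17087
theorem D22395 : act 1 n17087 = n22395 := rfl
theorem F43793 : act 2 n22395 = n20603 := d6_2 (iv F30039) D22395 (iv F39101) (iv D16598) F22252
theorem F43794 : act 3 n22395 = n20978 := d7_2 F39763 D22395 F40354
theorem F43795 : act 5 n22395 = n20607 := d9_2 D17087 D22395 F43780 (iv D22392) F30034
theorem F43796 : act 0 n22395 = n20604 := d23_3 D12677 (iv F30039) D22395 F39102 (iv D15276) (iv D11687) F14314 (iv F14309) F14308 D9580 D11676 D15256 (iv F37062) (iv D19696) F25264 F21876 (iv F21879) F22239 (iv D12675)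
def n22396 : Q := act 4 n17088
theorem D22396 : act 4 n17088 = n22396 := rfl
theorem F43797 : act 0 n22396 = n17091 := d3_1 D22396 (iv D17091) (iv F30040)
theorem F43798 : act 1 n22396 = n20578 := d8_1 D22396 F39039 (iv F30041)
theorem F43799 : act 2 n22396 = n20970 := d12_1 D22396 F40338 F39774
theorem F43800 : act 6 n22396 = n20973 := d19_2 F43791 D22396 F43792
def n22397 : Q := act 1 n17089
theorem D22397 : act 1 n17089 = n22397 := rfl
theorem F43801 : act 0 n22397 = n22397 := d0_1 D22397 (iv D22397) F30042 D17093 (iv F37077) F36967 F37077 (iv D17093) (iv F30042)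
theorem F43802 : act 2 n22397 = n20580 := d6_2 (iv F30043) D22397 (iv D20580) F26529 (iv F22245)
theorem F43803 : act 5 n22397 = n20580 := d9_2 D17089 D22397 (iv D20580) (iv D15241) (iv F22243)
def n22398 : Q := act 5 n17091
theorem D22398 : act 5 n17091 = n22398 := rfl
theorem F43804 : act 1 n22398 = n20937 := d9_1 D22398 (iv D20937) (iv F39891) (iv F43702) F43700
theorem F43805 : act 2 n22398 = n20971 := d13_1 D22398 (iv D20971) F39768
theorem F43806 : act 4 n22398 = n17092 := d18_1 D22398 (iv D17092) D17091
def n22399 : Q := act 1 n17092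
theorem D22399 : act 1 n17092 = n22399 := rfl
theorem F43807 : act 3 n22399 = n17093 := d7_2 (iv F30045) D22399 (iv D17093)
theorem F43808 : act 4 n22399 = n20937 := d8_2 F43806 D22399 (iv F43804)
theorem F43809 : act 5 n22399 = n20923 := d9_2 D17092 D22399 F43708 (iv D22361) F30012
theorem F43810 : act 0 n22399 = n20953 := d23_3 (iv F40371) F40368 D22399 (iv F40630) (iv D21069) (iv D15925) F21237 F21236 F34436 (iv D13487) F34222 (iv F34225) F23723 D13496 D18485 (iv F35495) (iv D15820) D15819 (iv F39773)
theorem F43811 : act 2 n20952 = n22399 := d23_1 F40624 (iv D22399) (iv F40372) (iv F40375) (iv F39774) (iv D15819) (iv D11972) D11974 F34281 (iv D13496) (iv F19094) (iv D10749) (iv F19085) D13487 (iv F34435) D15908 F27498 D15925 D21068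
def n22400 : Q := act 6 n17093
theorem D22400 : act 6 n17093 = n22400 := rfl
theorem F43812 : act 2 n22400 = n19865 := d14_1 D22400 F37500 (iv F30046)
def n22401 : Q := act 1 n17094
theorem D22401 : act 1 n17094 = n22401 := rfl
theorem F43813 : act 2 n22401 = n22196 := d6_2 (iv F30048) D22401 (iv D22196) F29791 (iv F22250)
def n22402 : Q := act 5 n17095
theorem D22402 : act 5 n17095 = n22402 := rfl
theorem F43814 : act 0 n22402 = n17163 := d4_1 D22402 (iv D17163) (iv F30286)
theorem F43815 : act 2 n22402 = n22092 := d13_1 D22402 F42982 (iv F30050)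
theorem F43816 : act 3 n22402 = n22315 := d16_1 D22402 F43552 (iv F42622)
theorem F43817 : act 6 n22402 = n22102 := d20_2 F43529 D22402 F43006 (iv D17164) D17163 F39669 (iv F43528)
def n22403 : Q := act 1 n17097
theorem D22403 : act 1 n17097 = n22403 := rfl
theorem F43818 : act 2 n22403 = n19656 := d6_2 (iv F30053) D22403 F36978 F29346 F22263
theorem F43819 : act 3 n22403 = n22199 := d7_2 F39619 D22403 (iv D22199)
theorem F43820 : act 0 n19657 = n22403 := d1_3 F43818 (iv D19656) D19657
theorem F43821 : act 3 n19648 = n19657 := d2_0 F43820 F43819 (iv F43268)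
def n22404 : Q := act 5 n17099
theorem D22404 : act 5 n17099 = n22404 := rfl
theorem F43822 : act 0 n22404 = n17101 := d4_1 D22404 (iv D17101) D17099
theorem F43823 : act 1 n22404 = n20044 := d9_1 D22404 F37866 (iv F39570) (iv D17168) (iv F30289)
theorem F43824 : act 2 n22404 = n17113 := d13_1 D22404 (iv D17113) (iv F30057)
theorem F43825 : act 3 n22404 = n20045 := d16_1 D22404 (iv F37869) (iv F39586)
theorem F43826 : act 6 n22404 = n22157 := d20_2 F35582 D22404 F43165 (iv D17102) D17101 (iv F39617) (iv F39615)
def n22405 : Q := act 4 n17100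
theorem D22405 : act 4 n17100 = n22405 := rfl
theorem F43827 : act 0 n22405 = n21302 := d3_1 D22405 F41208 (iv F39587)
theorem F43828 : act 1 n22405 = n17104 := d8_1 D22405 (iv D17104) (iv F30058)
theorem F43829 : act 2 n22405 = n20118 := d12_1 D22405 F38043 (iv F39588)
theorem F43830 : act 5 n22405 = n21556 := d18_2 (iv F39589) D22405 F41735
theorem F43831 : act 6 n22405 = n20119 := d19_2 (iv F39590) D22405 F38046
def n22406 : Q := act 1 n17101
theorem D22406 : act 1 n17101 = n22406 := rfl
theorem F43832 : act 0 n22406 = n22406 := d0_1 D22406 (iv D22406) (iv F43822) F43823 F37864 F25753 (iv F37864) (iv F43823) F43822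
theorem F43833 : act 3 n22406 = n22163 := d7_2 (iv F39618) D22406 (iv D22163)
theorem F43834 : act 5 n22406 = n17107 := d9_2 D17101 D22406 (iv D17107) (iv D12688) D12686
def n22407 : Q := act 1 n17102
theorem D22407 : act 1 n17102 = n22407 := rfl
theorem F43835 : act 2 n22407 = n22059 := d6_2 (iv F30060) D22407 (iv F43107) F43108 (iv D17120)
theorem F43836 : act 3 n22407 = n20481 := d7_2 (iv F39613) D22407 F38870
theorem F43837 : act 6 n22407 = n17109 := d10_2 D17102 D22407 (iv D17109) (iv D12689) D12686
theorem F43838 : act 0 n22407 = n22061 := d23_3 (iv D17121) (iv F30060) D22407 (iv D22061) (iv D16788) (iv D12504) (iv F20681) (iv F21983) F21982 D12506 (iv F22073) (iv D11648) D11647 D15211 (iv F35178) D20547 F38997 F38988 (iv F30077)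
theorem F43839 : act 5 n22058 = n22407 := d4_0 F43838 (iv D22061) (iv F42890)
def n22408 : Q := act 0 n17109
theorem D22408 : act 0 n17109 = n22408 := rfl
theorem F43840 : act 2 n22408 = n22062 := d1_2 F42871 D22408 F42895
theorem F43841 : act 3 n22408 = n20020 := d2_2 F43264 D22408 F43266
theorem F43842 : act 6 n22408 = n22061 := d5_2 F43837 D22408 (iv F43838)
def n22409 : Q := act 3 n17110
theorem D22409 : act 3 n17110 = n22409 := rfl
theorem F43843 : act 5 n22409 = n19242 := d16_2 (iv F30066) D22409 F35883
theorem F43844 : act 6 n22409 = n17127 := d17_2 (iv F30067) D22409 (iv D17127)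
def n22410 : Q := act 3 n17111
theorem D22410 : act 3 n17111 = n22410 := rfl
theorem F43845 : act 0 n22410 = n17271 := d2_1 D22410 (iv D17271) (iv F30068)
theorem F43846 : act 1 n22410 = n17112 := d7_1 D22410 (iv D17112) D17111
def n22411 : Q := act 5 n17111
theorem D22411 : act 5 n17111 = n22411 := rfl
theorem F43847 : act 0 n22411 = n17272 := d4_1 D22411 (iv D17272) (iv F30068)
theorem F43848 : act 2 n22411 = n17180 := d13_1 D22411 (iv D17180) (iv F30288)
def n22412 : Q := act 4 n17112
theorem D22412 : act 4 n17112 = n22412 := rfl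
theorem F43849 : act 0 n22412 = n17116 := d3_1 D22412 (iv D17116) (iv F30069)
def n22413 : Q := act 5 n17112
theorem D22413 : act 5 n17112 = n22413 := rfl
theorem F43850 : act 0 n22413 = n17117 := d4_1 D22413 (iv D17117) (iv F30069)
theorem F43851 : act 2 n22413 = n22409 := d13_1 D22413 F43843 F39611
theorem F43852 : act 3 n22413 = n17113 := d16_1 D22413 (iv D17113) D17112
def n22414 : Q := act 1 n17113
theorem D22414 : act 1 n17113 = n22414 := rfl
theorem F43853 : act 0 n22414 = n19083 := d23_3 D22404 F43824 D22414 (iv F37793) (iv F39132) (iv D20625) (iv D15290) (iv F26611) (iv F26618) (iv F29861) F29860 (iv F29347) F29346 F22263 F22260 (iv D10261) D10260 D12686 D17099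
theorem F43854 : act 3 n19084 = n22414 := d2_0 F43853 F35552 D19084
theorem F43855 : act 1 n22413 = n19084 := d7_3 F43854 (iv D22414) (iv F43852)
def n22415 : Q := act 4 n17115
theorem D22415 : act 4 n17115 = n22415 := rfl
theorem F43856 : act 2 n22415 = n17116 := d12_1 D22415 (iv D17116) D17115
def n22416 : Q := act 5 n17115
theorem D22416 : act 5 n17115 = n22416 := rfl
theorem F43857 : act 0 n22416 = n22409 := d4_1 D22416 F43843 (iv F39612)
theorem F43858 : act 2 n22416 = n17117 := d13_1 D22416 (iv D17117) D17115
theorem F43859 : act 3 n22416 = n17187 := d16_1 D22416 (iv F39018) F39610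
theorem F43860 : act 6 n22416 = n21932 := d20_2 F42562 D22416 (iv D21932) (iv F35884) (iv F43843) F43844 (iv F42561)
theorem F43861 : act 1 n17185 = n22416 := d24_14 F43860 (iv D21932) F35593 (iv D19105) D19104 F35587 (iv F26694) (iv D15336) D15335 F26691 (iv F33246) F33244 D17194 F30180
def n22417 : Q := act 5 n17116
theorem D22417 : act 5 n17116 = n22417 := rfl
theorem F43862 : act 4 n22417 = n17117 := d18_1 D22417 (iv D17117) D17116
def n22418 : Q := act 6 n17116
theorem D22418 : act 6 n17116 = n22418 := rfl
theorem F43863 : act 4 n22418 = n17118 := d19_1 D22418 (iv D17118) D17116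
def n22419 : Q := act 6 n17117
theorem D22419 : act 6 n17117 = n22419 := rfl
theorem F43864 : act 2 n22419 = n21932 := d14_1 D22419 (iv F43860) F43858
theorem F43865 : act 3 n22419 = n17119 := d17_1 D22419 (iv D17119) (iv F30073)
theorem F43866 : act 5 n22419 = n21930 := d22_2 D17117 D22419 F42566 F30069
def n22420 : Q := act 5 n17118
theorem D22420 : act 5 n17118 = n22420 := rfl
theorem F43867 : act 0 n22420 = n22419 := d4_1 D22420 F43866 F42564
theorem F43868 : act 2 n22420 = n17127 := d13_1 D22420 (iv F42561) F42563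
theorem F43869 : act 3 n22420 = n17121 := d16_1 D22420 (iv D17121) (iv F30074)
theorem F43870 : act 6 n22420 = n22413 := d20_2 D17118 D22420 (iv D22413) (iv F42566) (iv F43866) (iv D22419) (iv D17117)
theorem F43871 : act 1 n19942 = n22420 := d7_3 F43869 F43167 F37862
def n22421 : Q := act 5 n17120
theorem D22421 : act 5 n17120 = n22421 := rfl
theorem F43872 : act 3 n22421 = n18592 := d16_1 D22421 F33263 (iv F35235)
theorem F43873 : act 6 n22421 = n18591 := d22_1 D22421 (iv D18591) (iv F33230) F35236
def n22422 : Q := act 3 n17125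
theorem D22422 : act 3 n17125 = n22422 := rfl
theorem F43874 : act 0 n22422 = n18573 := d2_1 D22422 F34920 F35249
theorem F43875 : act 1 n22422 = n17127 := d7_1 D22422 (iv D17127) (iv F30083)
theorem F43876 : act 2 n22422 = n18542 := d11_1 D22422 (iv D18542) (iv D13533) F19116 D10778 D13565 D18589 (iv F34920) (iv F39790) F38394 (iv F39654) F23784 D13563 F35225 D17125
def n22423 : Q := act 6 n17126
theorem D22423 : act 6 n17126 = n22423 := rfl
theorem F43877 : act 0 n22423 = n22421 := d5_1 D22423 F43873 F35222
theorem F43878 : act 1 n22423 = n19870 := d10_1 D22423 (iv F39016) F43783 (iv D22393) (iv F30084)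
theorem F43879 : act 2 n22423 = n22141 := d14_1 D22423 F43112 (iv F39106)
theorem F43880 : act 3 n22423 = n18577 := d17_1 D22423 (iv F33239) (iv F35223)
theorem F43881 : act 5 n22423 = n18576 := d20_1 D22423 F33230 D18591 (iv F43873) (iv D22421) F30076 D17126
def n22424 : Q := act 4 n17127
theorem D22424 : act 4 n17127 = n22424 := rfl
def n22425 : Q := act 1 n17128
theorem D22425 : act 1 n17128 = n22425 := rfl
def n22426 : Q := act 4 n17128
theorem D22426 : act 4 n17128 = n22426 := rfl
theorem F43882 : act 0 n22426 = n17129 := d3_1 D22426 (iv D17129) D17128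
theorem F43883 : act 2 n22426 = n17291 := d12_1 D22426 (iv D17291) (iv F30085)
def n22427 : Q := act 5 n17128
theorem D22427 : act 5 n17128 = n22427 := rfl
theorem F43884 : act 0 n22427 = n17130 := d4_1 D22427 (iv D17130) D17128
theorem F43885 : act 2 n22427 = n17292 := d13_1 D22427 (iv D17292) (iv F30085)
def n22428 : Q := act 6 n17128
theorem D22428 : act 6 n17128 = n22428 := rfl
theorem F43886 : act 0 n22428 = n17131 := d5_1 D22428 (iv D17131) D17128
theorem F43887 : act 2 n22428 = n17293 := d14_1 D22428 (iv D17293) (iv F30085)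
def n22429 : Q := act 3 n17129
theorem D22429 : act 3 n17129 = n22429 := rfl
theorem F43888 : act 1 n22429 = n17132 := d7_1 D22429 (iv D17132) (iv F30086)
def n22430 : Q := act 5 n17129
theorem D22430 : act 5 n17129 = n22430 := rfl
theorem F43889 : act 2 n22430 = n17295 := d13_1 D22430 (iv D17295) (iv F30087)
theorem F43890 : act 4 n22430 = n17130 := d18_1 D22430 (iv D17130) D17129
def n22431 : Q := act 6 n17129
theorem D22431 : act 6 n17129 = n22431 := rfl
theorem F43891 : act 2 n22431 = n17296 := d14_1 D22431 (iv D17296) (iv F30087)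
theorem F43892 : act 4 n22431 = n17131 := d19_1 D22431 (iv D17131) D17129
def n22432 : Q := act 6 n17130
theorem D22432 : act 6 n17130 = n22432 := rfl
theorem F43893 : act 2 n22432 = n17297 := d14_1 D22432 (iv D17297) (iv F30088)
theorem F43894 : act 5 n22432 = n22428 := d22_2 D17130 D22432 (iv D22428) (iv D17128)
def n22433 : Q := act 5 n17131
theorem D22433 : act 5 n17131 = n22433 := rfl
theorem F43895 : act 0 n22433 = n22432 := d4_1 D22433 F43894 F43886
theorem F43896 : act 2 n22433 = n17298 := d13_1 D22433 (iv D17298) (iv F30089)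
theorem F43897 : act 6 n22433 = n22427 := d20_2 D17131 D22433 (iv D22427) D22428 (iv F43894) (iv D22432) (iv D17130)
def n22434 : Q := act 2 n17132
theorem D22434 : act 2 n17132 = n22434 := rfl
def n22435 : Q := act 6 n17132
theorem D22435 : act 6 n17132 = n22435 := rfl
theorem F43898 : act 3 n22435 = n17133 := d17_1 D22435 (iv D17133) D17132
def n22436 : Q := act 5 n17133
theorem D22436 : act 5 n17133 = n22436 := rfl
theorem F43899 : act 0 n22436 = n22383 := d4_1 D22436 F43760 F43204
theorem F43900 : act 2 n22436 = n17136 := d13_1 D22436 (iv D17136) (iv F30090)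
theorem F43901 : act 4 n22436 = n17135 := d18_1 D22436 (iv D17135) (iv F30091)
theorem F43902 : act 6 n22436 = n22249 := d20_2 D17133 D22436 (iv D22249) (iv F43206) (iv F43760) (iv D22383) F30028
def n22437 : Q := act 1 n17135
theorem D22437 : act 1 n17135 = n22437 := rfl
theorem F43903 : act 3 n22437 = n22253 := d7_2 (iv F30094) D22437 (iv D22253)
def n22438 : Q := act 1 n17136
theorem D22438 : act 1 n17136 = n22438 := rfl
theorem F43904 : act 4 n22438 = n17137 := d8_2 (iv F30097) D22438 (iv D17137)
def n22439 : Q := act 0 n17137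
theorem D22439 : act 0 n17137 = n22439 := rfl
theorem F43905 : act 3 n22439 = n17138 := d2_2 (iv F30099) D22439 (iv D17138)
theorem F43906 : act 5 n22439 = n19181 := d4_2 F39288 D22439 F39398
theorem F43907 : act 1 n19177 = n22439 := d9_5 F43906 (iv D19181) (iv D13949) D13947 D19177
def n22440 : Q := act 2 n17137
theorem D22440 : act 2 n17137 = n22440 := rfl
def n22441 : Q := act 6 n17137
theorem D22441 : act 6 n17137 = n22441 := rfl
theorem F43908 : act 1 n22441 = n22376 := d10_1 D22441 (iv D22376) F30023 (iv F22287) D17137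
theorem F43909 : act 3 n22441 = n17140 := d17_1 D22441 (iv D17140) (iv F30099)
def n22442 : Q := act 2 n17138
theorem D22442 : act 2 n17138 = n22442 := rfl
theorem F43910 : act 0 n22442 = n17139 := d1_1 D22442 (iv D17139) D17138
theorem F43911 : act 1 n22442 = n19613 := d6_1 D22442 F36858 F25177 (iv F36793) (iv F39397)
def n22443 : Q := act 6 n17138
theorem D22443 : act 6 n17138 = n22443 := rfl
theorem F43912 : act 0 n22443 = n17140 := d5_1 D22443 (iv D17140) D17138
theorem F43913 : act 5 n22443 = n20760 := d22_2 F39393 D22443 (iv D20760) D20758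
def n22444 : Q := act 3 n17139
theorem D22444 : act 3 n17139 = n22444 := rfl
theorem F43914 : act 1 n22444 = n17142 := d7_1 D22444 (iv D17142) (iv F30100)
theorem F43915 : act 4 n20886 = n22444 := d8_0 F43914 F39713 D20886
def n22445 : Q := act 6 n17139
theorem D22445 : act 6 n17139 = n22445 := rfl
theorem F43916 : act 2 n22445 = n17140 := d14_1 D22445 (iv D17140) D17139
def n22446 : Q := act 5 n17140
theorem D22446 : act 5 n17140 = n22446 := rfl
theorem F43917 : act 0 n22446 = n20760 := d4_1 D22446 (iv F43913) F43912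
theorem F43918 : act 6 n22446 = n20758 := d20_2 D17140 D22446 F39393 D22443 F43913 (iv D20760) F26799
def n22447 : Q := act 1 n17141
theorem D22447 : act 1 n17141 = n22447 := rfl
theorem F43919 : act 2 n22447 = n22355 := d6_2 D17141 D22447 F43680 F38979 (iv F26498)
theorem F43920 : act 3 n22447 = n20783 := d7_2 (iv F39733) D22447 F39492
theorem F43921 : act 5 n22447 = n22354 := d9_2 (iv F30103) D22447 F43678 F39115 (iv D20612)
theorem F43922 : act 6 n22447 = n20799 := d10_2 F39704 D22447 F39856 F26930 (iv F27173)
def n22448 : Q := act 6 n17144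
theorem D22448 : act 6 n17144 = n22448 := rfl
theorem F43923 : act 3 n22448 = n18337 := d17_1 D22448 F32165 (iv F32126)
theorem F43924 : act 4 n22448 = n17147 := d19_1 D22448 (iv D17147) (iv F30107)
theorem F43925 : act 5 n22448 = n18336 := d22_2 F32153 D22448 (iv D18336) (iv F32149)
def n22449 : Q := act 6 n17146
theorem D22449 : act 6 n17146 = n22449 := rfl
theorem F43926 : act 0 n22449 = n17147 := d5_1 D22449 (iv D17147) D17146
theorem F43927 : act 3 n22449 = n17148 := d17_1 D22449 (iv D17148) (iv F30113)
theorem F43928 : act 5 n22449 = n21939 := d22_2 F32161 D22449 (iv D21939) (iv F32157)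
def n22450 : Q := act 5 n17147
theorem D22450 : act 5 n17147 = n22450 := rfl
theorem F43929 : act 0 n22450 = n21939 := d4_1 D22450 (iv F43928) F43926
theorem F43930 : act 2 n22450 = n22449 := d13_1 D22450 F43928 F42585
theorem F43931 : act 3 n22450 = n17151 := d16_1 D22450 (iv D17151) (iv F30114)
theorem F43932 : act 4 n22450 = n18336 := d18_1 D22450 (iv F43925) F43924
theorem F43933 : act 6 n22450 = n18335 := d20_2 D17147 D22450 F32161 D22449 F43928 (iv D21939) F29351
theorem F43934 : act 1 n22450 = n21957 := d24_2 D17147 D22450 (iv D21957) (iv F29418) F27431 D21034 F40517 (iv F29736) (iv D16852) (iv F29734) (iv D16849) (iv F28525) F28524 D12712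
def n22451 : Q := act 3 n17154
theorem D22451 : act 3 n17154 = n22451 := rfl
theorem F43935 : act 0 n22451 = n20453 := d2_1 D22451 F38807 F30132
theorem F43936 : act 4 n22451 = n20445 := d15_2 D17154 D22451 F38793 F26368 (iv F28532)
theorem F43937 : act 5 n22451 = n20444 := d16_2 (iv F30131) D22451 F38791
def n22452 : Q := act 6 n17155
theorem D22452 : act 6 n17155 = n22452 := rfl
theorem F43938 : act 0 n22452 = n22144 := d5_1 D22452 F43120 (iv F30132)
theorem F43939 : act 2 n22452 = n22142 := d14_1 D22452 F43114 (iv F30134)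
theorem F43940 : act 4 n22452 = n17156 := d19_1 D22452 (iv D17156) (iv F30135)
theorem F43941 : act 5 n22452 = n22142 := d20_1 D22452 F43114 (iv F30131) (iv F43120) F43119 F29745 D17155
def n22453 : Q := act 1 n17156
theorem D22453 : act 1 n17156 = n22453 := rfl
theorem F43942 : act 3 n22453 = n17157 := d7_2 (iv F30138) D22453 (iv D17157)
theorem F43943 : act 6 n22453 = n20673 := d10_2 D17156 D22453 (iv D20673) (iv D15334) (iv F22316)
def n22454 : Q := act 0 n17157
theorem D22454 : act 0 n17157 = n22454 := rfl
theorem F43944 : act 6 n22454 = n20677 := d5_2 (iv F30140) D22454 (iv D20677)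
def n22455 : Q := act 2 n17157
theorem D22455 : act 2 n17157 = n22455 := rfl
theorem F43945 : act 1 n22455 = n17159 := d6_1 D22455 (iv D17159) (iv D12728) (iv F22319) D17157
theorem F43946 : act 6 n22455 = n20678 := d14_2 (iv F30140) D22455 (iv D20678)
def n22456 : Q := act 5 n17157
theorem D22456 : act 5 n17157 = n22456 := rfl
theorem F43947 : act 1 n22456 = n22141 := d9_1 D22456 (iv D22141) (iv D16857) (iv F22320) D17157
def n22457 : Q := act 2 n17158
theorem D22457 : act 2 n17158 = n22457 := rfl
theorem F43948 : act 0 n22457 = n17159 := d1_1 D22457 (iv D17159) D17158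
theorem F43949 : act 6 n22457 = n22457 := d14_2 F30141 D22457 (iv D22457)
def n22458 : Q := act 3 n17159
theorem D22458 : act 3 n17159 = n22458 := rfl
theorem F43950 : act 6 n22458 = n22458 := d17_2 F30142 D22458 (iv D22458)
def n22459 : Q := act 5 n17159
theorem D22459 : act 5 n17159 = n22459 := rfl
theorem F43951 : act 2 n22459 = n17160 := d13_1 D22459 (iv D17160) D17159
theorem F43952 : act 1 n20554 = n22459 := d6_5 F43951 F30143 (iv F39009) (iv D20553) D20554
def n22460 : Q := act 4 n17162
theorem D22460 : act 4 n17162 = n22460 := rfl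
theorem F43953 : act 1 n22460 = n17165 := d8_1 D22460 (iv D17165) (iv F30144)
theorem F43954 : act 2 n22460 = n21670 := d12_1 D22460 F41976 F39672
theorem F43955 : act 5 n22460 = n21669 := d18_2 (iv F39671) D22460 F41974
def n22461 : Q := act 4 n17167
theorem D22461 : act 4 n17167 = n22461 := rfl
theorem F43956 : act 0 n22461 = n17171 := d3_1 D22461 (iv D17171) (iv F30150)
theorem F43957 : act 1 n22461 = n21302 := d8_1 D22461 F41208 F39584
theorem F43958 : act 2 n22461 = n21304 := d12_1 D22461 F41213 (iv F39585)
def n22462 : Q := act 3 n17170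
theorem D22462 : act 3 n17170 = n22462 := rfl
theorem F43959 : act 0 n22462 = n22016 := d2_1 D22462 (iv D22016) F39810
def n22463 : Q := act 4 n17170
theorem D22463 : act 4 n17170 = n22463 := rfl
theorem F43960 : act 0 n22463 = n21304 := d3_1 D22463 F41213 F39810
theorem F43961 : act 2 n22463 = n17171 := d12_1 D22463 (iv D17171) D17170
def n22464 : Q := act 6 n17170
theorem D22464 : act 6 n17170 = n22464 := rfl
theorem F43962 : act 0 n22464 = n22018 := d5_1 D22464 (iv D22018) F39810
theorem F43963 : act 2 n22464 = n17173 := d14_1 D22464 (iv D17173) D17170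
theorem F43964 : act 5 n22464 = n22024 := d20_1 D22464 F42811 (iv D22017) D22018 F42800 (iv F42794) F42793
theorem F43965 : act 2 n19997 = n20657 := d23_5 (iv F43964) F43963 F30157 (iv F37733) (iv F37784) (iv D20657) F26675 D16782 F29600 F29358 (iv F21858) (iv D12402) F17979 (iv F8400) (iv F18017) F18018 (iv F21954) D16756 D22024
theorem F43966 : act 1 n22077 = n19997 := d6_5 F43965 (iv D20657) F26676 D16800 D22077
theorem E10329 : n20665 = n14764 := (c14_4 D19997 F43965 F39200 D20665)
theorem E10330 : n19995 = n15328 := (((iv F37779)).symm.trans (sb E10329 (iv D20665)))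
theorem F43967 : act 2 n15328 = n14764 := (sb E10330 F37779)
theorem E10331 : n20666 = n14762 := ((D20666).symm.trans (sb E10330 (iv D19995)))
theorem E10332 : n20679 = n19992 := (((D19992).symm.trans (sb E10331 (iv F39247)))).symm
theorem F43968 : act 5 n14762 = n15328 := (sb E10331 (iv D20666))
theorem F43969 : act 5 n19992 = n15337 := (sb E10332 (iv D20679))
theorem E10333 : n20678 = n20065 := (c13_2 F43969 D20678 (iv D20065) (iv F37775))
theorem F43970 : act 2 n20065 = n15337 := (sb E10333 (iv D20678))
theorem F43971 : act 6 n20065 = n22455 := (sb E10333 (iv F43946))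
theorem F43972 : act 5 n20664 = n19988 := d4_2 F43968 D20664 F37764
theorem F43973 : act 5 n20662 = n19993 := d16_2 F43968 (iv F39212) (iv D19993)
theorem F43974 : act 5 n20378 = n19994 := d18_2 F43968 (iv F38672) (iv D19994)
theorem F43975 : act 2 n19996 = n20378 := d13_3 F43974 F37778 D19996
theorem F43976 : act 2 n19990 = n20664 := d13_3 F43972 (iv D19988) D19990
theorem F43977 : act 3 n19998 = n22077 := d7_0 F43966 F37783 D19998
def n22465 : Q := act 5 n17171
theorem D22465 : act 5 n17171 = n22465 := rfl
theorem F43978 : act 1 n22465 = n21669 := d9_1 D22465 (iv F43955) F43953 F30148 (iv F30155)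
theorem F43979 : act 4 n22465 = n17172 := d18_1 D22465 (iv D17172) D17171
theorem F43980 : act 6 n21677 = n22465 := d19_0 F43979 (iv F39639) (iv F41991)
def n22466 : Q := act 6 n17171
theorem D22466 : act 6 n17171 = n22466 := rfl
theorem F43981 : act 1 n22466 = n19972 := d10_1 D22466 F37736 F25707 (iv F22331) (iv F30155)
theorem F43982 : act 4 n22466 = n17173 := d19_1 D22466 (iv D17173) D17171
def n22467 : Q := act 4 n17176
theorem D22467 : act 4 n17176 = n22467 := rfl
theorem F43983 : act 1 n22467 = n17177 := d8_1 D22467 (iv D17177) D17176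
def n22468 : Q := act 5 n17176
theorem D22468 : act 5 n17176 = n22468 := rfl
theorem F43984 : act 1 n22468 = n22358 := d9_1 D22468 (iv D22358) F39673 F22416 D17176
theorem F43985 : act 2 n22468 = n21998 := d13_1 D22468 (iv F42741) F42726
theorem F43986 : act 6 n22000 = n22468 := d14_0 F43985 F42740 D22000
def n22469 : Q := act 6 n17176
theorem D22469 : act 6 n17176 = n22469 := rfl
theorem F43987 : act 1 n22469 = n20066 := d10_1 D22469 (iv D20066) (iv D14826) (iv F22330) D17176
def n22470 : Q := act 2 n17179
theorem D22470 : act 2 n17179 = n22470 := rfl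
def n22471 : Q := act 4 n17179
theorem D22471 : act 4 n17179 = n22471 := rfl
theorem F43988 : act 1 n22471 = n17183 := d8_1 D22471 (iv D17183) (iv F30166)
def n22472 : Q := act 5 n17179
theorem D22472 : act 5 n17179 = n22472 := rfl
theorem F43989 : act 1 n22472 = n19267 := d9_1 D22472 F35933 (iv F34131) (iv D17184) (iv F30166)
theorem F43990 : act 3 n22472 = n17180 := d16_1 D22472 (iv D17180) D17179
def n22473 : Q := act 6 n17179
theorem D22473 : act 6 n17179 = n22473 := rfl
theorem F43991 : act 1 n22473 = n21932 := d10_1 D22473 (iv F43860) (iv F43861) (iv D17185) (iv F30166)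
theorem F43992 : act 3 n22473 = n17181 := d17_1 D22473 (iv D17181) D17179
def n22474 : Q := act 1 n17180
theorem D22474 : act 1 n17180 = n22474 := rfl
theorem F43993 : act 0 n22474 = n19257 := d0_1 D22474 (iv D19257) F29212 F29206 (iv F37758) (iv F39142) F39141 D21914 (iv F42508)
theorem F43994 : act 3 n22474 = n19267 := d7_2 F43990 D22474 (iv F43989)
theorem F43995 : act 5 n22474 = n17186 := d9_2 D17180 D22474 (iv D17186) (iv D12739) D12737
theorem F43996 : act 6 n22474 = n22056 := d24_3 (iv D17181) D17180 D22474 (iv D22056) (iv D16786) (iv D12503) (iv D10173) D10171 D12498 D16782 (iv F29603) F29320 D16600 F35579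
theorem F43997 : act 2 n20639 = n22474 := d1_0 F43993 F35910 D20639
def n22475 : Q := act 6 n17180
theorem D22475 : act 6 n17180 = n22475 := rfl
theorem F43998 : act 1 n22475 = n20588 := d10_1 D22475 F39057 (iv F42885) (iv F43996) (iv D22474)
theorem F43999 : act 5 n22475 = n22211 := d22_2 D17180 D22475 (iv D22211) F29810
def n22476 : Q := act 5 n17181
theorem D22476 : act 5 n17181 = n22476 := rfl
theorem F44000 : act 0 n22476 = n22475 := d4_1 D22476 F43999 F43300
theorem F44001 : act 1 n22476 = n21910 := d9_1 D22476 F42499 F29277 D16600 F35579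
theorem F44002 : act 6 n22476 = n21914 := d20_2 D17181 D22476 F42507 D22211 (iv F43999) (iv D22475) (iv D17180)
def n22477 : Q := act 1 n17182
theorem D22477 : act 1 n17182 = n22477 := rfl
def n22478 : Q := act 3 n17182
theorem D22478 : act 3 n17182 = n22478 := rfl
theorem F44003 : act 0 n22478 = n17188 := d2_1 D22478 (iv D17188) (iv F30167)
theorem F44004 : act 2 n22478 = n22462 := d11_1 D22478 (iv D22462) (iv D17170) (iv D12732) F18150 D10287 D12741 D17188 (iv F42796) (iv D22016) (iv F39585) (iv D17167) F22325 D12738 D17182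
def n22479 : Q := act 4 n17182
theorem D22479 : act 4 n17182 = n22479 := rfl
theorem F44005 : act 0 n22479 = n17189 := d3_1 D22479 (iv D17189) (iv F30167)
theorem F44006 : act 2 n22479 = n17183 := d12_1 D22479 (iv D17183) D17182
def n22480 : Q := act 6 n17182
theorem D22480 : act 6 n17182 = n22480 := rfl
theorem F44007 : act 0 n22480 = n17191 := d5_1 D22480 (iv D17191) (iv F30167)
theorem F44008 : act 2 n22480 = n17185 := d14_1 D22480 (iv D17185) D17182
theorem F44009 : act 5 n22480 = n19169 := d22_2 F35715 D22480 (iv D19169) D19167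
def n22481 : Q := act 5 n17183
theorem D22481 : act 5 n17183 = n22481 := rfl
theorem F44010 : act 0 n22481 = n17192 := d4_1 D22481 (iv D17192) (iv F30168)
theorem F44011 : act 4 n22481 = n17184 := d18_1 D22481 (iv D17184) D17183
theorem F44012 : act 1 n18930 = n22481 := d8_3 F44011 F34131 (iv F33901)
def n22482 : Q := act 6 n17183
theorem D22482 : act 6 n17183 = n22482 := rfl
theorem F44013 : act 0 n22482 = n17193 := d5_1 D22482 (iv D17193) (iv F30168)
theorem F44014 : act 4 n22482 = n17185 := d19_1 D22482 (iv D17185) D17183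
def n22483 : Q := act 2 n17186
theorem D22483 : act 2 n17186 = n22483 := rfl
theorem F44015 : act 0 n22483 = n19259 := d1_1 D22483 (iv D19259) (iv F34136)
theorem F44016 : act 5 n22483 = n20639 := d13_2 F43995 D22483 F43997
theorem F44017 : act 6 n22483 = n19200 := d14_2 F42879 D22483 (iv F42880)
theorem F44018 : act 3 n22483 = n19201 := d21_1 D22483 F35795 (iv F31996) F36128 (iv D14080) F19548 (iv F24516) (iv F34136)
def n22484 : Q := act 4 n17188
theorem D22484 : act 4 n17188 = n22484 := rfl
def n22485 : Q := act 6 n17188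
theorem D22485 : act 6 n17188 = n22485 := rfl
theorem F44019 : act 3 n22485 = n17191 := d17_1 D22485 (iv D17191) D17188
def n22486 : Q := act 3 n17189
theorem D22486 : act 3 n17189 = n22486 := rfl
def n22487 : Q := act 6 n17189
theorem D22487 : act 6 n17189 = n22487 := rfl
theorem F44020 : act 2 n22487 = n17193 := d14_1 D22487 (iv D17193) (iv F30173)
theorem F44021 : act 4 n22487 = n17191 := d19_1 D22487 (iv D17191) D17189
def n22488 : Q := act 1 n17191
theorem D22488 : act 1 n17191 = n22488 := rfl
theorem F44022 : act 2 n22488 = n19959 := d6_2 (iv F30175) D22488 (iv D19959) F25690 (iv F22337)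
def n22489 : Q := act 5 n17191
theorem D22489 : act 5 n17191 = n22489 := rfl
theorem F44023 : act 0 n22489 = n19169 := d4_1 D22489 (iv F44009) F44007
theorem F44024 : act 2 n22489 = n17195 := d13_1 D22489 (iv D17195) (iv F30175)
theorem F44025 : act 6 n22489 = n19167 := d20_2 D17191 D22489 F35715 D22480 F44009 (iv D19169) F33243
def n22490 : Q := act 6 n17192
theorem D22490 : act 6 n17192 = n22490 := rfl
theorem F44026 : act 4 n22490 = n17194 := d19_1 D22490 (iv D17194) (iv F30176)
theorem F44027 : act 5 n22490 = n22482 := d22_2 D17192 D22490 (iv D22482) F30168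
def n22491 : Q := act 5 n17193
theorem D22491 : act 5 n17193 = n22491 := rfl
theorem F44028 : act 0 n22491 = n22490 := d4_1 D22491 F44027 F44013
theorem F44029 : act 4 n22491 = n17195 := d18_1 D22491 (iv D17195) (iv F30178)
theorem F44030 : act 6 n22491 = n22481 := d20_2 D17193 D22491 (iv D22481) D22482 (iv F44027) (iv D22490) (iv D17192)
def n22492 : Q := act 1 n17194
theorem D22492 : act 1 n17194 = n22492 := rfl
theorem F44031 : act 3 n22492 = n17196 := d7_2 (iv F30179) D22492 (iv D17196)
theorem F44032 : act 5 n22492 = n22239 := d9_2 (iv F30180) D22492 F43352 D22416 (iv F43861)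
theorem F44033 : act 2 n22241 = n22492 := d13_3 F44032 (iv D22239) D22241
theorem F44034 : act 0 n17196 = n20494 := d21_8 (iv F39118) F39705 F30388 F22443 (iv F29837) (iv F43354) F44033 F44031
def n22493 : Q := act 1 n17195
theorem D22493 : act 1 n17195 = n22493 := rfl
theorem F44035 : act 3 n22493 = n17197 := d7_2 (iv F30182) D22493 (iv D17197)
theorem F44036 : act 5 n22493 = n19961 := d9_2 D17195 D22493 (iv D19961) (iv D14744) (iv F22337)
def n22494 : Q := act 2 n17196
theorem D22494 : act 2 n17196 = n22494 := rfl
theorem F44037 : act 0 n22494 = n20617 := d1_1 D22494 F39118 (iv F44034)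
theorem F44038 : act 1 n22494 = n20570 := d6_1 D22494 (iv F39804) F39642 F30159 D17196
theorem F44039 : act 5 n20560 = n22494 := d9_0 F44038 (iv D20570) (iv D15235) (iv F26519) D20560
def n22495 : Q := act 5 n17196
theorem D22495 : act 5 n17196 = n22495 := rfl
theorem F44040 : act 1 n22495 = n20559 := d9_1 D22495 F39018 (iv D17187) (iv F22339) D17196
theorem F44041 : act 2 n22495 = n20560 := d13_1 D22495 F44039 (iv D22494)
theorem F44042 : act 3 n22495 = n22239 := d16_1 D22495 (iv F44032) F44031
def n22496 : Q := act 0 n17197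
theorem D22496 : act 0 n17197 = n22496 := rfl
theorem F44043 : act 1 n22496 = n19133 := d0_2 D17197 D22496 (iv F43436) F43437 F29898 D20494 (iv F44034) (iv D17196) (iv F22340)
theorem F44044 : act 5 n22496 = n19962 := d4_2 (iv F30184) D22496 (iv D19962)
theorem F44045 : act 3 n19128 = n22496 := d7_0 F44043 (iv D19133) (iv F35637)
theorem F44046 : act 0 n22493 = n19128 := d2_3 F44045 (iv D22496) (iv F44035)
theorem F44047 : act 2 n19127 = n22493 := d1_0 F44046 (iv D19128) D19127
def n22497 : Q := act 2 n17197
theorem D22497 : act 2 n17197 = n22497 := rfl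
theorem F44048 : act 1 n22497 = n21980 := d6_1 D22497 (iv F43030) (iv F43034) F30162 D17197
theorem F44049 : act 5 n22497 = n19963 := d13_2 (iv F30184) D22497 (iv D19963)
theorem F44050 : act 1 n19971 = n19962 := d23_18 (iv F30184) D22497 F44048 (iv D21980) (iv F42683) F42682 F39562 (iv F43001) (iv D22101) (iv D16821) D16820 (iv F42939) (iv D22078) D22077 F43966 F37782 (iv D19973) D19971 (iv D19962)
def n22498 : Q := act 6 n17197
theorem D22498 : act 6 n17197 = n22498 := rfl
theorem F44051 : act 1 n22498 = n22054 := d10_1 D22498 F42879 (iv D17186) (iv F22341) D17197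
def n22499 : Q := act 3 n17199
theorem D22499 : act 3 n17199 = n22499 := rfl
theorem F44052 : act 0 n22499 = n17202 := d2_1 D22499 (iv D17202) (iv F30185)
theorem F44053 : act 1 n22499 = n18305 := d7_1 D22499 F32052 F32408
theorem F44054 : act 4 n22499 = n18351 := d15_2 D17199 D22499 F32411 (iv D17335) F22441
def n22500 : Q := act 5 n17199
theorem D22500 : act 5 n17199 = n22500 := rfl
theorem F44055 : act 0 n22500 = n17203 := d4_1 D22500 (iv D17203) (iv F30185)
theorem F44056 : act 4 n22500 = n17200 := d18_1 D22500 (iv D17200) D17199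
def n22501 : Q := act 6 n17199
theorem D22501 : act 6 n17199 = n22501 := rfl
theorem F44057 : act 0 n22501 = n17204 := d5_1 D22501 (iv D17204) (iv F30185)
theorem F44058 : act 4 n22501 = n17201 := d19_1 D22501 (iv D17201) D17199
def n22502 : Q := act 2 n17202
theorem D22502 : act 2 n17202 = n22502 := rfl
def n22503 : Q := act 5 n17202
theorem D22503 : act 5 n17202 = n22503 := rfl
theorem F44059 : act 3 n22503 = n17203 := d16_1 D22503 (iv D17203) D17202
def n22504 : Q := act 6 n17202
theorem D22504 : act 6 n17202 = n22504 := rfl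
theorem F44060 : act 1 n22504 = n18724 := d10_1 D22504 (iv D18724) (iv F29246) F25818 (iv F30188)
theorem F44061 : act 3 n22504 = n17204 := d17_1 D22504 (iv D17204) D17202
theorem F44062 : act 4 n22504 = n19043 := d19_1 D22504 F34153 F30410
def n22505 : Q := act 6 n17203
theorem D22505 : act 6 n17203 = n22505 := rfl
theorem F44063 : act 4 n22505 = n17205 := d19_1 D22505 (iv D17205) (iv F30189)
theorem F44064 : act 5 n22505 = n22501 := d22_2 D17203 D22505 (iv D22501) F30185
theorem F44065 : act 1 n18372 = n22505 := d8_3 F44063 F33222 (iv F32227)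
def n22506 : Q := act 5 n17204
theorem D22506 : act 5 n17204 = n22506 := rfl
theorem F44066 : act 0 n22506 = n22505 := d4_1 D22506 F44064 F44057
theorem F44067 : act 4 n22506 = n17206 := d18_1 D22506 (iv D17206) (iv F30190)
theorem F44068 : act 6 n22506 = n22500 := d20_2 D17204 D22506 (iv D22500) D22501 (iv F44064) (iv D22505) (iv D17203)
def n22507 : Q := act 5 n17207
theorem D22507 : act 5 n17207 = n22507 := rfl
theorem F44069 : act 3 n22507 = n18350 := d16_1 D22507 F32178 F34578
theorem F44070 : act 4 n22507 = n17215 := d18_1 D22507 (iv D17215) (iv F30194)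
theorem F44071 : act 6 n22507 = n18349 := d22_1 D22507 (iv D18349) (iv F32139) (iv F34588)
def n22508 : Q := act 5 n17213
theorem D22508 : act 5 n17213 = n22508 := rfl
theorem F44072 : act 0 n22508 = n17215 := d4_1 D22508 (iv D17215) D17213
theorem F44073 : act 3 n22508 = n17227 := d16_1 D22508 (iv D17227) (iv F30207)
theorem F44074 : act 6 n22508 = n21948 := d22_1 D22508 (iv D21948) F34842 D17213
def n22509 : Q := act 6 n17215
theorem D22509 : act 6 n17215 = n22509 := rfl
theorem F44075 : act 0 n22509 = n21948 := d5_1 D22509 (iv F44074) F44072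
theorem F44076 : act 2 n22509 = n22508 := d14_1 D22509 F44074 F42612
theorem F44077 : act 3 n22509 = n17232 := d17_1 D22509 (iv D17232) (iv F30208)
theorem F44078 : act 4 n22509 = n18349 := d19_1 D22509 (iv F44071) F44070
theorem F44079 : act 5 n22509 = n18348 := d20_1 D22509 (iv F34596) D22508 F44074 (iv D21948) F34842 D17215
theorem F44080 : act 1 n22001 = n22509 := d24_14 (iv D22509) (iv D17215) (iv D12755) F34618 (iv F34622) D17044 F29993 D17047 F29995 (iv F40582) (iv D21055) F27489 (iv F34815) D22001
def n22510 : Q := act 3 n17246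
theorem D22510 : act 3 n17246 = n22510 := rfl
theorem F44081 : act 0 n22510 = n20472 := d2_1 D22510 F38849 (iv F35353)
theorem F44082 : act 4 n22510 = n20464 := d15_2 D17246 D22510 F38834 F26393 F34609
theorem F44083 : act 6 n22510 = n20462 := d17_2 F35352 D22510 F38830
def n22511 : Q := act 5 n17248
theorem D22511 : act 5 n17248 = n22511 := rfl
theorem F44084 : act 0 n22511 = n22352 := d4_1 D22511 F43675 F35353
theorem F44085 : act 2 n22511 = n22350 := d13_1 D22511 F43670 (iv F35354)
theorem F44086 : act 4 n22511 = n17249 := d18_1 D22511 (iv D17249) (iv F30263)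
theorem F44087 : act 6 n22511 = n22350 := d20_2 D17248 D22511 F43670 F35352 (iv F43675) F43676 F30002
def n22512 : Q := act 1 n17249
theorem D22512 : act 1 n17249 = n22512 := rfl
theorem F44088 : act 3 n22512 = n17250 := d7_2 (iv F30265) D22512 (iv D17250)
theorem F44089 : act 5 n22512 = n20730 := d9_2 D17249 D22512 (iv D20730) (iv D15394) (iv F22364)
def n22513 : Q := act 0 n17250
theorem D22513 : act 0 n17250 = n22513 := rfl
theorem F44090 : act 5 n22513 = n20734 := d4_2 (iv F30267) D22513 (iv D20734)
def n22514 : Q := act 2 n17250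
theorem D22514 : act 2 n17250 = n22514 := rfl
theorem F44091 : act 1 n22514 = n17252 := d6_1 D22514 (iv D17252) (iv D12773) (iv F22367) D17250
theorem F44092 : act 5 n22514 = n20073 := d13_2 (iv F30267) D22514 F39575
def n22515 : Q := act 6 n17250
theorem D22515 : act 6 n17250 = n22515 := rfl
theorem F44093 : act 1 n22515 = n22349 := d10_1 D22515 (iv D22349) (iv D17052) (iv F22368) D17250
def n22516 : Q := act 2 n17251
theorem D22516 : act 2 n17251 = n22516 := rfl
theorem F44094 : act 0 n22516 = n17252 := d1_1 D22516 (iv D17252) D17251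
theorem F44095 : act 5 n22516 = n22516 := d13_2 F30268 D22516 (iv D22516)
theorem F44096 : act 1 n19315 = n20734 := d23_14 F44095 (iv D22516) F43617 (iv F29522) (iv D16729) F34727 F19619 F12390 D11034 F19535 D11036 D14062 (iv F35803) (iv F36048) (iv D20734) (iv F30267) D22514 F44091 (iv F44094)
theorem F44097 : act 3 n20734 = n19326 := d7_2 (iv F36049) F44096 (iv D19326)
theorem F44098 : act 0 n19326 = n20730 := d2_1 F44097 F39351 D20734
theorem F44099 : act 2 n20892 = n19326 := d21_6 (iv F39575) F37925 F36353 F29071 D15655 D20892 (iv F44097) (iv D20734)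
def n22517 : Q := act 3 n17252
theorem D22517 : act 3 n17252 = n22517 := rfl
theorem F44100 : act 5 n22517 = n22517 := d16_2 F30269 D22517 (iv D22517)
def n22518 : Q := act 6 n17252
theorem D22518 : act 6 n17252 = n22518 := rfl
theorem F44101 : act 2 n22518 = n17253 := d14_1 D22518 (iv D17253) D17252
theorem F44102 : act 1 n20508 = n22518 := d6_5 F44101 F30270 F38930 (iv D20507) D20508
def n22519 : Q := act 4 n17255
theorem D22519 : act 4 n17255 = n22519 := rfl
theorem F44103 : act 1 n22519 = n17258 := d8_1 D22519 (iv D17258) (iv F30272)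
theorem F44104 : act 2 n22519 = n21510 := d12_1 D22519 F41633 F39564
theorem F44105 : act 6 n22519 = n21509 := d19_2 (iv F39563) D22519 F41631
def n22520 : Q := act 4 n17260
theorem D22520 : act 4 n17260 = n22520 := rfl
theorem F44106 : act 0 n22520 = n17264 := d3_1 D22520 (iv D17264) (iv F30280)
theorem F44107 : act 1 n22520 = n21263 := d8_1 D22520 F41121 (iv F39630)
theorem F44108 : act 2 n22520 = n21265 := d12_1 D22520 F41126 F39634
def n22521 : Q := act 3 n17263
theorem D22521 : act 3 n17263 = n22521 := rfl
theorem F44109 : act 0 n22521 = n21972 := d2_1 D22521 (iv D21972) (iv F39806)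
def n22522 : Q := act 4 n17263
theorem D22522 : act 4 n17263 = n22522 := rfl
theorem F44110 : act 0 n22522 = n21265 := d3_1 D22522 F41126 (iv F39806)
theorem F44111 : act 2 n22522 = n17264 := d12_1 D22522 (iv D17264) D17263
def n22523 : Q := act 5 n17263
theorem D22523 : act 5 n17263 = n22523 := rfl
theorem F44112 : act 0 n22523 = n21973 := d4_1 D22523 (iv D21973) (iv F39806)
theorem F44113 : act 2 n22523 = n17265 := d13_1 D22523 (iv D17265) D17263
theorem F44114 : act 6 n22523 = n21980 := d20_2 (iv F42684) D22523 F42701 (iv D21974) D21973 F42687 (iv F42683)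
def n22524 : Q := act 5 n17264
theorem D22524 : act 5 n17264 = n22524 := rfl
theorem F44115 : act 1 n22524 = n20026 := d9_1 D22524 F37832 F25752 (iv F22380) (iv F30292)
theorem F44116 : act 4 n22524 = n17265 := d18_1 D22524 (iv D17265) D17264
def n22525 : Q := act 6 n17264
theorem D22525 : act 6 n17264 = n22525 := rfl
theorem F44117 : act 1 n22525 = n21509 := d10_1 D22525 (iv F44105) F44103 F30279 (iv F30292)
theorem F44118 : act 4 n22525 = n17266 := d19_1 D22525 (iv D17266) D17264
theorem F44119 : act 5 n21518 = n22525 := d18_0 F44118 (iv F39569) (iv F41647)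
def n22526 : Q := act 4 n17269
theorem D22526 : act 4 n17269 = n22526 := rfl
theorem F44120 : act 1 n22526 = n17270 := d8_1 D22526 (iv D17270) D17269
def n22527 : Q := act 5 n17269
theorem D22527 : act 5 n17269 = n22527 := rfl
theorem F44121 : act 1 n22527 = n20072 := d9_1 D22527 (iv D20072) (iv D14838) (iv F22379) D17269
def n22528 : Q := act 6 n17269
theorem D22528 : act 6 n17269 = n22528 := rfl
theorem F44122 : act 1 n22528 = n22150 := d10_1 D22528 (iv D22150) F39565 F22495 D17269
theorem F44123 : act 2 n22528 = n22042 := d14_1 D22528 F42859 F42839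
theorem F44124 : act 5 n22044 = n22528 := d13_0 F44123 F42858 D22044
def n22529 : Q := act 2 n17271
theorem D22529 : act 2 n17271 = n22529 := rfl
def n22530 : Q := act 4 n17271
theorem D22530 : act 4 n17271 = n22530 := rfl
theorem F44125 : act 1 n22530 = n17275 := d8_1 D22530 (iv D17275) (iv F30303)
def n22531 : Q := act 5 n17271
theorem D22531 : act 5 n17271 = n22531 := rfl
theorem F44126 : act 1 n22531 = n21938 := d9_1 D22531 (iv F43311) F43312 (iv D17276) (iv F30303)
theorem F44127 : act 3 n22531 = n17272 := d16_1 D22531 (iv D17272) D17271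
def n22532 : Q := act 6 n17271
theorem D22532 : act 6 n17271 = n22532 := rfl
theorem F44128 : act 1 n22532 = n19324 := d10_1 D22532 F36069 F35048 (iv D17277) (iv F30303)
theorem F44129 : act 3 n22532 = n17273 := d17_1 D22532 (iv D17273) D17271
def n22533 : Q := act 6 n17272
theorem D22533 : act 6 n17272 = n22533 := rfl
theorem F44130 : act 1 n22533 = n21911 := d10_1 D22533 F42503 F29307 D16612 (iv F30313)
theorem F44131 : act 2 n22533 = n22476 := d14_1 D22533 F44002 F42506
theorem F44132 : act 5 n22533 = n21917 := d22_2 D17272 D22533 F42512 F30068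
def n22534 : Q := act 1 n17273
theorem D22534 : act 1 n17273 = n22534 := rfl
theorem F44133 : act 0 n22534 = n19314 := d0_1 D22534 (iv D19314) (iv F35247) F35194 (iv F37857) (iv F39064) F39063 D21917 (iv F42513)
theorem F44134 : act 3 n22534 = n19324 := d7_2 F44129 D22534 (iv F44128)
theorem F44135 : act 6 n22534 = n17279 := d10_2 D17273 D22534 (iv D17279) (iv D12785) D12782
theorem F44136 : act 5 n22280 = n22534 := d24_1 D22280 (iv D22534) (iv D17273) D17272 F30313 (iv D16612) (iv F29335) F35251 (iv D16960) (iv D12609) (iv D10223) D10226 D12618 D16975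
theorem F44137 : act 2 n20601 = n22534 := d1_0 F44133 F36044 D20601
def n22535 : Q := act 5 n17273
theorem D22535 : act 5 n17273 = n22535 := rfl
theorem F44138 : act 0 n22535 = n22533 := d4_1 D22535 F44132 (iv F42513)
theorem F44139 : act 1 n22535 = n20626 := d9_1 D22535 F39135 (iv F43440) F44136 (iv D22534)
theorem F44140 : act 2 n22535 = n22475 := d13_1 D22535 F43999 F43301
theorem F44141 : act 6 n22535 = n22411 := d20_2 D17273 D22535 (iv D22411) (iv F42512) (iv F44132) (iv D22533) (iv D17272)
def n22536 : Q := act 1 n17274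
theorem D22536 : act 1 n17274 = n22536 := rfl
def n22537 : Q := act 3 n17274
theorem D22537 : act 3 n17274 = n22537 := rfl
theorem F44142 : act 0 n22537 = n17280 := d2_1 D22537 (iv D17280) (iv F30304)
theorem F44143 : act 2 n22537 = n22521 := d11_1 D22537 (iv D22521) (iv D17263) (iv D12777) F18176 D10308 D12786 D17280 (iv F42686) (iv D21972) F39634 (iv D17260) F22374 D12783 D17274
def n22538 : Q := act 4 n17274
theorem D22538 : act 4 n17274 = n22538 := rfl
theorem F44144 : act 0 n22538 = n17281 := d3_1 D22538 (iv D17281) (iv F30304)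
theorem F44145 : act 2 n22538 = n17275 := d12_1 D22538 (iv D17275) D17274
def n22539 : Q := act 5 n17274
theorem D22539 : act 5 n17274 = n22539 := rfl
theorem F44146 : act 0 n22539 = n17282 := d4_1 D22539 (iv D17282) (iv F30304)
theorem F44147 : act 2 n22539 = n17276 := d13_1 D22539 (iv D17276) D17274
theorem F44148 : act 6 n22539 = n19231 := d22_1 D22539 (iv D19231) F35034 (iv F30304)
def n22540 : Q := act 5 n17275
theorem D22540 : act 5 n17275 = n22540 := rfl
theorem F44149 : act 0 n22540 = n17284 := d4_1 D22540 (iv D17284) (iv F30305)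
theorem F44150 : act 4 n22540 = n17276 := d18_1 D22540 (iv D17276) D17275
def n22541 : Q := act 6 n17275
theorem D22541 : act 6 n17275 = n22541 := rfl
theorem F44151 : act 0 n22541 = n17285 := d5_1 D22541 (iv D17285) (iv F30305)
theorem F44152 : act 4 n22541 = n17277 := d19_1 D22541 (iv D17277) D17275
theorem F44153 : act 1 n18970 = n22541 := d8_3 F44152 (iv F35048) (iv F33975)
def n22542 : Q := act 2 n17279
theorem D22542 : act 2 n17279 = n22542 := rfl
theorem F44154 : act 0 n22542 = n19316 := d1_1 D22542 (iv D19316) F35046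
theorem F44155 : act 5 n22542 = n19133 := d13_2 F43434 D22542 (iv F43435)
theorem F44156 : act 6 n22542 = n20601 := d14_2 F44135 D22542 F44137
theorem F44157 : act 3 n22542 = n19134 := d21_1 D22542 F35646 (iv F31971) F35984 (iv D14033) (iv F19543) (iv F24566) F35046
def n22543 : Q := act 4 n17280
theorem D22543 : act 4 n17280 = n22543 := rfl
def n22544 : Q := act 5 n17280
theorem D22544 : act 5 n17280 = n22544 := rfl
theorem F44158 : act 3 n22544 = n17282 := d16_1 D22544 (iv D17282) D17280
def n22545 : Q := act 3 n17281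
theorem D22545 : act 3 n17281 = n22545 := rfl
def n22546 : Q := act 5 n17281
theorem D22546 : act 5 n17281 = n22546 := rfl
theorem F44159 : act 2 n22546 = n17284 := d13_1 D22546 (iv D17284) (iv F30314)
theorem F44160 : act 4 n22546 = n17282 := d18_1 D22546 (iv D17282) D17281
def n22547 : Q := act 1 n17282
theorem D22547 : act 1 n17282 = n22547 := rfl
theorem F44161 : act 2 n22547 = n20013 := d6_2 (iv F30315) D22547 (iv D20013) F25736 (iv F22385)
def n22548 : Q := act 6 n17282
theorem D22548 : act 6 n17282 = n22548 := rfl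
theorem F44162 : act 0 n22548 = n19231 := d5_1 D22548 (iv F44148) F44146
theorem F44163 : act 2 n22548 = n17286 := d14_1 D22548 (iv D17286) (iv F30315)
theorem F44164 : act 5 n22548 = n19230 := d20_1 D22548 F35854 D22539 F44148 (iv D19231) F35034 D17282
def n22549 : Q := act 6 n17284
theorem D22549 : act 6 n17284 = n22549 := rfl
theorem F44165 : act 4 n22549 = n17286 := d19_1 D22549 (iv D17286) (iv F30318)
theorem F44166 : act 5 n22549 = n22541 := d22_2 D17284 D22549 (iv D22541) F30305
def n22550 : Q := act 5 n17285
theorem D22550 : act 5 n17285 = n22550 := rfl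
theorem F44167 : act 0 n22550 = n22549 := d4_1 D22550 F44166 F44151
theorem F44168 : act 4 n22550 = n17287 := d18_1 D22550 (iv D17287) (iv F30319)
theorem F44169 : act 6 n22550 = n22540 := d20_2 D17285 D22550 (iv D22540) D22541 (iv F44166) (iv D22549) (iv D17284)
def n22551 : Q := act 1 n17286
theorem D22551 : act 1 n17286 = n22551 := rfl
theorem F44170 : act 3 n22551 = n17288 := d7_2 (iv F30320) D22551 (iv D17288)
theorem F44171 : act 6 n22551 = n20015 := d10_2 D17286 D22551 (iv D20015) (iv D14793) (iv F22385)
def n22552 : Q := act 1 n17287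
theorem D22552 : act 1 n17287 = n22552 := rfl
theorem F44172 : act 3 n22552 = n17289 := d7_2 (iv F30323) D22552 (iv D17289)
theorem F44173 : act 6 n22552 = n22215 := d10_2 (iv F30324) D22552 (iv D22215) D22217 F43312
theorem F44174 : act 2 n22228 = n22552 := d14_3 F44173 F43306 D22228
theorem F44175 : act 0 n17289 = n20539 := d21_8 (iv F39195) F39789 F30506 F22521 (iv F30089) (iv F43329) F44174 F44172
def n22553 : Q := act 0 n17288
theorem D22553 : act 0 n17288 = n22553 := rfl
theorem F44176 : act 1 n22553 = n19200 := d0_2 D17288 D22553 (iv F42881) F42882 F29614 D20539 (iv F44175) (iv D17289) F22389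
theorem F44177 : act 6 n22553 = n20016 := d5_2 (iv F30325) D22553 (iv D20016)
theorem F44178 : act 3 n19196 = n22553 := d7_0 F44176 (iv D19200) (iv F35788)
theorem F44179 : act 0 n22551 = n19196 := d2_3 F44178 (iv D22553) (iv F44170)
theorem F44180 : act 2 n19195 = n22551 := d1_0 F44179 (iv D19196) D19195
def n22554 : Q := act 2 n17288
theorem D22554 : act 2 n17288 = n22554 := rfl
theorem F44181 : act 1 n22554 = n22024 := d6_1 D22554 (iv F43574) F43573 F30296 D17288
theorem F44182 : act 6 n22554 = n20017 := d14_2 (iv F30325) D22554 (iv D20017)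
def n22555 : Q := act 5 n17288
theorem D22555 : act 5 n17288 = n22555 := rfl
theorem F44183 : act 1 n22555 = n22278 := d9_1 D22555 F43434 (iv D17279) (iv F22388) D17288
def n22556 : Q := act 2 n17289
theorem D22556 : act 2 n17289 = n22556 := rfl
theorem F44184 : act 0 n22556 = n20655 := d1_1 D22556 F39195 (iv F44175)
theorem F44185 : act 1 n22556 = n20525 := d6_1 D22556 (iv F39556) F39555 F30299 D17289
theorem F44186 : act 6 n20514 = n22556 := d10_0 F44185 (iv D20525) (iv D15202) (iv F26479) D20514
def n22557 : Q := act 6 n17289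
theorem D22557 : act 6 n17289 = n22557 := rfl
theorem F44187 : act 1 n22557 = n20513 := d10_1 D22557 F38940 (iv D17278) (iv F22390) D17289
theorem F44188 : act 2 n22557 = n20514 := d14_1 D22557 F44186 (iv D22556)
theorem F44189 : act 3 n22557 = n22215 := d17_1 D22557 (iv F44173) F44172
def n22558 : Q := act 3 n17291
theorem D22558 : act 3 n17291 = n22558 := rfl
theorem F44190 : act 0 n22558 = n17294 := d2_1 D22558 (iv D17294) (iv F30326)
theorem F44191 : act 1 n22558 = n18299 := d7_1 D22558 F32039 F34990
theorem F44192 : act 4 n22558 = n18338 := d15_2 D17291 D22558 F34995 (iv D17412) F22517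
def n22559 : Q := act 5 n17291
theorem D22559 : act 5 n17291 = n22559 := rfl
theorem F44193 : act 0 n22559 = n17295 := d4_1 D22559 (iv D17295) (iv F30326)
theorem F44194 : act 4 n22559 = n17292 := d18_1 D22559 (iv D17292) D17291
def n22560 : Q := act 6 n17291
theorem D22560 : act 6 n17291 = n22560 := rfl
theorem F44195 : act 0 n22560 = n17296 := d5_1 D22560 (iv D17296) (iv F30326)
theorem F44196 : act 4 n22560 = n17293 := d19_1 D22560 (iv D17293) D17291
def n22561 : Q := act 2 n17294
theorem D22561 : act 2 n17294 = n22561 := rfl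
def n22562 : Q := act 5 n17294
theorem D22562 : act 5 n17294 = n22562 := rfl
theorem F44197 : act 1 n22562 = n18730 := d9_1 D22562 (iv D18730) (iv F34182) F25858 (iv F30329)
theorem F44198 : act 3 n22562 = n17295 := d16_1 D22562 (iv D17295) D17294
theorem F44199 : act 4 n22562 = n19053 := d18_1 D22562 F35509 F30533
def n22563 : Q := act 6 n17294
theorem D22563 : act 6 n17294 = n22563 := rfl
theorem F44200 : act 3 n22563 = n17296 := d17_1 D22563 (iv D17296) D17294
def n22564 : Q := act 6 n17295
theorem D22564 : act 6 n17295 = n22564 := rfl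
theorem F44201 : act 4 n22564 = n17297 := d19_1 D22564 (iv D17297) (iv F30330)
theorem F44202 : act 5 n22564 = n22560 := d22_2 D17295 D22564 (iv D22560) F30326
theorem F44203 : act 1 n22506 = n22564 := d24_14 (iv D22564) (iv D17295) F22391 (iv F20799) (iv D11772) (iv F20796) (iv F34236) (iv F28848) F20763 D11743 F20766 (iv F22342) D17204 D22506
def n22565 : Q := act 5 n17296
theorem D22565 : act 5 n17296 = n22565 := rfl
theorem F44204 : act 0 n22565 = n22564 := d4_1 D22565 F44202 F44195
theorem F44205 : act 4 n22565 = n17298 := d18_1 D22565 (iv D17298) (iv F30331)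
theorem F44206 : act 6 n22565 = n22559 := d20_2 D17296 D22565 (iv D22559) D22560 (iv F44202) (iv D22564) (iv D17295)
theorem F44207 : act 1 n18380 = n22565 := d8_3 F44205 F35066 (iv F32242)
def n22566 : Q := act 0 n17301
theorem D22566 : act 0 n17301 = n22566 := rfl
theorem F44208 : act 1 n22566 = n20573 := d0_2 D17301 D22566 F39033 (iv F30041) F30040 (iv F30012) F39675 (iv D12806) (iv F22399)
theorem F44209 : act 2 n22566 = n19504 := d1_2 (iv F30345) D22566 (iv D19504)
theorem F44210 : act 3 n22566 = n20574 := d2_2 (iv F30346) D22566 (iv F39676)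
theorem F44211 : act 4 n22566 = n19371 := d3_2 (iv F33018) D22566 (iv D19371)
def n22567 : Q := act 5 n17301
theorem D22567 : act 5 n17301 = n22567 := rfl
theorem F44212 : act 1 n22567 = n17311 := d9_1 D22567 (iv D17311) (iv D12806) (iv F22400) D17301
theorem F44213 : act 2 n22567 = n19505 := d13_1 D22567 (iv D19505) (iv F30345)
theorem F44214 : act 3 n22567 = n22468 := d16_1 D22567 (iv D22468) (iv F30346)
theorem F44215 : act 4 n22567 = n19373 := d18_1 D22567 (iv D19373) (iv F33018)
def n22568 : Q := act 6 n17301
theorem D22568 : act 6 n17301 = n22568 := rfl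
theorem F44216 : act 1 n22568 = n19386 := d10_1 D22568 (iv D19386) F24692 F32897 D17301
theorem F44217 : act 2 n22568 = n19447 := d14_1 D22568 F36407 (iv F30345)
theorem F44218 : act 3 n22568 = n22469 := d17_1 D22568 (iv D22469) (iv F30346)
theorem F44219 : act 4 n22568 = n19374 := d19_1 D22568 (iv D19374) (iv F33018)
def n22569 : Q := act 4 n17304
theorem D22569 : act 4 n17304 = n22569 := rfl
theorem F44220 : act 0 n22569 = n20857 := d3_1 D22569 (iv D20857) F32707
theorem F44221 : act 3 n22569 = n20815 := d15_1 D22569 (iv D20815) F26936 F32794 D17304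
theorem F44222 : act 5 n22569 = n21008 := d18_2 F33025 D22569 (iv D21008)
theorem F44223 : act 6 n22569 = n20941 := d19_2 (iv F30514) D22569 F40249
def n22570 : Q := act 5 n17310
theorem D22570 : act 5 n17310 = n22570 := rfl
theorem F44224 : act 0 n22570 = n20812 := d4_1 D22570 (iv F43702) F43699
theorem F44225 : act 1 n22570 = n19373 := d9_1 D22570 (iv D19373) (iv D14128) F32875 (iv F30362)
theorem F44226 : act 2 n22570 = n20859 := d13_1 D22570 (iv D20859) F33024
theorem F44227 : act 4 n22570 = n17311 := d18_1 D22570 (iv D17311) D17310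
theorem F44228 : act 6 n22570 = n20809 := d22_3 D20811 (iv F39890) D22570 (iv D20809)
def n22571 : Q := act 0 n17315
theorem D22571 : act 0 n17315 = n22571 := rfl
theorem F44229 : act 1 n22571 = n17559 := d0_2 D17315 D22571 F35423 F39681 (iv F39020) (iv F39696) (iv D17320) (iv D12812) (iv F22420)
theorem F44230 : act 2 n22571 = n17636 := d1_2 (iv F30369) D22571 F35414
theorem F44231 : act 4 n22571 = n17636 := d3_2 (iv F32693) D22571 F35414
theorem F44232 : act 3 n22459 = n22571 := d21_7 F30369 (iv F30884) (iv F43052) F43053 (iv F43069) F43070 (iv F43951) (iv D22571)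
theorem F44233 : act 5 n22571 = n22458 := d16_2 D22459 F44232 (iv D22458)
theorem F44234 : act 6 n22571 = n17315 := d22_3 F44233 F43950 (iv F44233) D22571
def n22572 : Q := act 3 n17315
theorem D22572 : act 3 n17315 = n22572 := rfl
theorem F44235 : act 0 n22572 = n22459 := d2_1 D22572 F44232 (iv D22571)
theorem F44236 : act 1 n22572 = n17316 := d7_1 D22572 (iv D17316) D17315
theorem F44237 : act 6 n22572 = n22459 := d17_2 F44234 D22572 F44232
theorem F44238 : act 2 n22572 = n22156 := d21_4 F43052 F30884 (iv F30369) D22572 F43628 (iv D22335) (iv F35136) (iv F43051)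
theorem F44239 : act 5 n22457 = n22572 := d13_0 F44238 F43162 D22457
def n22573 : Q := act 5 n17315
theorem D22573 : act 5 n17315 = n22573 := rfl
theorem F44240 : act 0 n22573 = n22458 := d4_1 D22573 (iv F44233) (iv D22571)
theorem F44241 : act 1 n22573 = n20922 := d9_1 D22573 (iv D20922) (iv D15697) (iv F32608) D17315
theorem F44242 : act 2 n22573 = n17654 := d13_1 D22573 (iv D17654) (iv F30369)
theorem F44243 : act 3 n22573 = n22457 := d16_1 D22573 F44239 (iv D22572)
theorem F44244 : act 4 n22573 = n17654 := d18_1 D22573 (iv D17654) (iv F32693)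
theorem F44245 : act 6 n22573 = n22573 := d20_2 F44234 D22573 (iv D22573) (iv F44234) F44233 F43950 (iv F44233)
def n22574 : Q := act 4 n17316
theorem D22574 : act 4 n17316 = n22574 := rfl
theorem F44246 : act 0 n22574 = n17326 := d3_1 D22574 (iv D17326) (iv F30370)
theorem F44247 : act 2 n22574 = n22569 := d12_1 D22574 (iv D22569) (iv F30372)
theorem F44248 : act 3 n22574 = n17651 := d15_1 D22574 F30882 F22762 (iv F32607) D17316
theorem F44249 : act 5 n22574 = n20924 := d18_2 (iv F32690) D22574 (iv D20924)
theorem F44250 : act 6 n22574 = n17562 := d19_2 (iv F30371) D22574 (iv D17562)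
def n22575 : Q := act 5 n17320
theorem D22575 : act 5 n17320 = n22575 := rfl
theorem F44251 : act 0 n22575 = n17323 := d4_1 D22575 (iv D17323) D17320
theorem F44252 : act 1 n22575 = n19899 := d9_1 D22575 F37584 (iv F39646) (iv F39021) (iv F39696)
theorem F44253 : act 2 n22575 = n17336 := d13_1 D22575 (iv D17336) (iv F30384)
theorem F44254 : act 3 n22575 = n22494 := d16_1 D22575 (iv F44039) F39698
theorem F44255 : act 4 n22575 = n19930 := d18_1 D22575 F37660 F33047
def n22576 : Q := act 6 n17320
theorem D22576 : act 6 n17320 = n22576 := rfl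
theorem F44256 : act 0 n22576 = n17324 := d5_1 D22576 (iv D17324) D17320
theorem F44257 : act 2 n22576 = n17337 := d14_1 D22576 (iv D17337) (iv F30384)
theorem F44258 : act 4 n22576 = n20946 := d19_1 D22576 (iv D20946) F33047
def n22577 : Q := act 2 n17321
theorem D22577 : act 2 n17321 = n22577 := rfl
theorem F44259 : act 0 n22577 = n22495 := d1_1 D22577 F44041 (iv F39699)
theorem F44260 : act 1 n22577 = n22185 := d6_1 D22577 (iv F43226) F40014 F32708 (iv F30385)
theorem F44261 : act 5 n22577 = n20494 := d13_2 (iv F39700) D22577 (iv F39118)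
def n22578 : Q := act 4 n17321
theorem D22578 : act 4 n17321 = n22578 := rfl
theorem F44262 : act 1 n22578 = n17326 := d8_1 D22578 (iv D17326) (iv F30385)
theorem F44263 : act 3 n22578 = n20942 := d15_1 D22578 F40252 F27228 (iv F32529) D17321
def n22579 : Q := act 6 n17321
theorem D22579 : act 6 n17321 = n22579 := rfl
theorem F44264 : act 3 n22579 = n17324 := d17_1 D22579 (iv D17324) D17321
def n22580 : Q := act 6 n17323
theorem D22580 : act 6 n17323 = n22580 := rfl
theorem F44265 : act 2 n22580 = n17341 := d14_1 D22580 (iv D17341) (iv F30388)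
theorem F44266 : act 4 n22580 = n20916 := d19_1 D22580 (iv D20916) (iv F33046)
theorem F44267 : act 5 n22580 = n22576 := d22_2 D17323 D22580 (iv D22576) (iv D17320)
def n22581 : Q := act 5 n17324
theorem D22581 : act 5 n17324 = n22581 := rfl
theorem F44268 : act 0 n22581 = n22580 := d4_1 D22581 F44267 F44256
theorem F44269 : act 2 n22581 = n17342 := d13_1 D22581 (iv D17342) (iv F30389)
theorem F44270 : act 4 n22581 = n20947 := d18_1 D22581 (iv D20947) F33048
theorem F44271 : act 6 n22581 = n22575 := d20_2 D17324 D22581 (iv D22575) D22576 (iv F44267) (iv D22580) (iv D17323)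
def n22582 : Q := act 1 n17328
theorem D22582 : act 1 n17328 = n22582 := rfl
theorem F44272 : act 3 n22582 = n17333 := d7_2 (iv F30396) D22582 (iv D17333)
theorem F44273 : act 5 n22582 = n20089 := d9_2 F30483 D22582 F43684 (iv F43718) F43715
def n22583 : Q := act 6 n17335
theorem D22583 : act 6 n17335 = n22583 := rfl
theorem F44274 : act 0 n22583 = n17340 := d5_1 D22583 (iv D17340) (iv F30404)
theorem F44275 : act 1 n22583 = n18544 := d10_1 D22583 (iv D18544) F23786 (iv F34491) F34488
theorem F44276 : act 2 n22583 = n20946 := d14_1 D22583 (iv D20946) (iv F32509)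
theorem F44277 : act 3 n22583 = n18593 := d17_1 D22583 F33264 F32411
theorem F44278 : act 4 n22583 = n17337 := d19_1 D22583 (iv D17337) D17335
def n22584 : Q := act 1 n17337
theorem D22584 : act 1 n17337 = n22584 := rfl
theorem F44279 : act 3 n22584 = n22021 := d7_2 (iv F30408) D22584 F42807
theorem F44280 : act 4 n22584 = n18544 := d8_2 F44278 D22584 (iv F44275)
theorem F44281 : act 5 n22584 = n20577 := d9_2 F30415 D22584 F39778 F35495 F33223
theorem F44282 : act 6 n22584 = n18527 := d10_2 D17337 D22584 F33136 (iv F25570) F32403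
theorem F44283 : act 2 n20579 = n22584 := d14_3 F44282 F39697 (iv F39042)
def n22585 : Q := act 2 n17338
theorem D22585 : act 2 n17338 = n22585 := rfl
theorem F44284 : act 1 n22585 = n18521 := d6_1 D22585 F33119 F32489 (iv F32487) (iv F30409)
theorem F44285 : act 4 n22585 = n22502 := d12_2 (iv F30410) D22585 (iv D22502)
theorem F44286 : act 6 n22585 = n19100 := d14_2 F34153 D22585 F35567
theorem F44287 : act 3 n22585 = n20916 := d21_7 F40262 F40255 (iv D20944) F27228 F32510 D17338 D22585 (iv F40261)
def n22586 : Q := act 5 n17338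
theorem D22586 : act 5 n17338 = n22586 := rfl
theorem F44288 : act 0 n22586 = n19929 := d4_1 D22586 F37657 (iv F32412)
theorem F44289 : act 1 n22586 = n18522 := d9_1 D22586 (iv D18522) F32489 (iv F32488) (iv F30409)
theorem F44290 : act 3 n22586 = n17339 := d16_1 D22586 (iv D17339) D17338
theorem F44291 : act 4 n22586 = n22503 := d18_1 D22586 (iv D22503) (iv F30410)
def n22587 : Q := act 6 n17339
theorem D22587 : act 6 n17339 = n22587 := rfl
theorem F44292 : act 0 n22587 = n19931 := d5_1 D22587 (iv D19931) F35184
theorem F44293 : act 1 n22587 = n20818 := d10_1 D22587 (iv F39921) F40209 (iv D20918) (iv F32507)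
theorem F44294 : act 2 n22587 = n20916 := d14_1 D22587 (iv D20916) (iv F32508)
theorem F44295 : act 4 n22587 = n17341 := d19_1 D22587 (iv D17341) (iv F30411)
theorem F44296 : act 5 n22587 = n22583 := d20_1 D22587 (iv D22583) (iv F35185) D19931 F37663 (iv D17340) D17339
def n22588 : Q := act 3 n17344
theorem D22588 : act 3 n17344 = n22588 := rfl
theorem F44297 : act 1 n22588 = n17567 := d7_1 D22588 (iv D17567) (iv F30419)
theorem F44298 : act 4 n22588 = n20254 := d15_2 (iv F39666) D22588 (iv D20254) F26109 D15232
theorem F44299 : act 5 n22588 = n20261 := d16_2 (iv F39667) D22588 F38394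
def n22589 : Q := act 6 n17344
theorem D22589 : act 6 n17344 = n22589 := rfl
theorem F44300 : act 2 n22589 = n17348 := d14_1 D22589 (iv D17348) D17344
theorem F44301 : act 4 n22589 = n20564 := d19_1 D22589 (iv D20564) (iv F39666)
theorem F44302 : act 5 n22589 = n18538 := d22_2 (iv F39667) D22589 F33164 (iv F39651)
def n22590 : Q := act 6 n17346
theorem D22590 : act 6 n17346 = n22590 := rfl
theorem F44303 : act 0 n22590 = n22584 := d5_1 D22590 F44282 F33135
theorem F44304 : act 2 n22590 = n20564 := d14_1 D22590 (iv D20564) (iv F39656)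
theorem F44305 : act 3 n22590 = n22036 := d17_1 D22590 F42844 F42803
theorem F44306 : act 4 n22590 = n17348 := d19_1 D22590 (iv D17348) D17346
theorem F44307 : act 5 n22590 = n18524 := d20_1 D22590 F33129 D18527 (iv F44282) F44281 (iv D20577) (iv F39657)
def n22591 : Q := act 1 n17348
theorem D22591 : act 1 n17348 = n22591 := rfl
theorem F44308 : act 0 n22591 = n19829 := d0_1 D22591 (iv F39925) F39922 F35003 (iv F25625) (iv F30412) (iv F44274) F44275 F33173
theorem F44309 : act 3 n22591 = n18578 := d7_2 F32400 D22591 (iv D18578)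
theorem F44310 : act 5 n22591 = n18539 := d9_2 (iv F32399) D22591 (iv D18539) (iv D13531) D13530
theorem F44311 : act 6 n22591 = n17357 := d10_2 D17348 D22591 (iv D17357) (iv D12828) D12824
theorem F44312 : act 2 n19828 = n22591 := d14_3 F44311 F37440 (iv F37431)
def n22592 : Q := act 1 n17349
theorem D22592 : act 1 n17349 = n22592 := rfl
theorem F44313 : act 2 n22592 = n22387 := d6_2 D17349 D22592 F43764 F33238 F32405
theorem F44314 : act 3 n22592 = n20796 := d7_2 F32527 D22592 F39849
theorem F44315 : act 5 n22381 = n22592 := d13_0 F44313 (iv D22387) (iv F43756)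
def n22593 : Q := act 4 n17349
theorem D22593 : act 4 n17349 = n22593 := rfl
theorem F44316 : act 0 n22593 = n17359 := d3_1 D22593 (iv D17359) (iv F30422)
theorem F44317 : act 2 n22593 = n17350 := d12_1 D22593 (iv D17350) D17349
def n22594 : Q := act 5 n17349
theorem D22594 : act 5 n17349 = n22594 := rfl
theorem F44318 : act 0 n22594 = n17360 := d4_1 D22594 (iv D17360) (iv F30422)
theorem F44319 : act 2 n22594 = n17351 := d13_1 D22594 (iv D17351) D17349
theorem F44320 : act 6 n22594 = n17444 := d22_1 D22594 F35448 (iv D17361) (iv F30422)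
def n22595 : Q := act 6 n17349
theorem D22595 : act 6 n17349 = n22595 := rfl
theorem F44321 : act 0 n22595 = n17361 := d5_1 D22595 (iv D17361) (iv F30422)
theorem F44322 : act 2 n22595 = n17352 := d14_1 D22595 (iv D17352) D17349
theorem F44323 : act 3 n22595 = n17437 := d17_1 D22595 F35445 F32527
theorem F44324 : act 5 n22595 = n17435 := d20_1 D22595 F35447 (iv D17360) D17361 (iv F35448) (iv F44320) (iv D22594)
def n22596 : Q := act 3 n17350
theorem D22596 : act 3 n17350 = n22596 := rfl
theorem F44325 : act 0 n22596 = n17362 := d2_1 D22596 (iv D17362) (iv F30423)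
theorem F44326 : act 4 n22596 = n17353 := d15_2 D17350 D22596 (iv D17353) (iv D12826) D12825
theorem F44327 : act 5 n17441 = n22596 := d18_0 F44326 F34426 (iv F30566)
def n22597 : Q := act 5 n17350
theorem D22597 : act 5 n17350 = n22597 := rfl
theorem F44328 : act 0 n22597 = n17363 := d4_1 D22597 (iv D17363) (iv F30423)
theorem F44329 : act 3 n22597 = n17441 := d16_1 D22597 F44327 (iv D22596)
theorem F44330 : act 4 n22597 = n17351 := d18_1 D22597 (iv D17351) D17350
theorem F44331 : act 6 n22597 = n17439 := d22_1 D22597 F35484 (iv D17364) (iv F30423)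
def n22598 : Q := act 6 n17350
theorem D22598 : act 6 n17350 = n22598 := rfl
theorem F44332 : act 0 n22598 = n17364 := d5_1 D22598 (iv D17364) (iv F30423)
theorem F44333 : act 4 n22598 = n17352 := d19_1 D22598 (iv D17352) D17350
def n22599 : Q := act 1 n17352
theorem D22599 : act 1 n17352 = n22599 := rfl
theorem F44334 : act 3 n22599 = n17357 := d7_2 (iv F30427) D22599 (iv D17357)
theorem F44335 : act 6 n22599 = n18578 := d10_2 D17352 D22599 (iv D18578) (iv F23817) F32405
theorem F44336 : act 0 n22599 = n19834 := d22_4 (iv F39441) (iv D18581) (iv F33232) (iv F44335)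
def n22600 : Q := act 5 n17357
theorem D22600 : act 5 n17357 = n22600 := rfl
theorem F44337 : act 0 n22600 = n19835 := d4_1 D22600 (iv D19835) (iv F37439)
theorem F44338 : act 2 n22600 = n19833 := d13_1 D22600 (iv D19833) (iv F37440)
theorem F44339 : act 6 n22600 = n20957 := d20_2 F44311 D22600 F40301 F37432 D19835 (iv F39435) (iv F44310)
def n22601 : Q := act 4 n17358
theorem D22601 : act 4 n17358 = n22601 := rfl
theorem F44340 : act 1 n22601 = n22484 := d8_1 D22601 (iv D22484) (iv F30435)
theorem F44341 : act 2 n22601 = n22596 := d12_1 D22601 F44326 F32525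
def n22602 : Q := act 6 n17358
theorem D22602 : act 6 n17358 = n22602 := rfl
theorem F44342 : act 0 n22602 = n17437 := d5_1 D22602 F35445 F32526
theorem F44343 : act 2 n22602 = n17428 := d14_1 D22602 (iv F34427) F32525
theorem F44344 : act 3 n22602 = n17361 := d17_1 D22602 (iv D17361) D17358
theorem F44345 : act 5 n17426 = n22602 := d22_0 (iv D22602) (iv F35443) (iv D17438) (iv F30545)
def n22603 : Q := act 3 n17359
theorem D22603 : act 3 n17359 = n22603 := rfl
theorem F44346 : act 1 n22603 = n22486 := d7_1 D22603 (iv D22486) (iv F30436)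
def n22604 : Q := act 5 n17359
theorem D22604 : act 5 n17359 = n22604 := rfl
theorem F44347 : act 1 n22604 = n18852 := d9_1 D22604 (iv D18852) D18850 (iv F33745) (iv F30436)
theorem F44348 : act 2 n22604 = n17363 := d13_1 D22604 (iv D17363) (iv F30437)
theorem F44349 : act 4 n22604 = n17360 := d18_1 D22604 (iv D17360) D17359
def n22605 : Q := act 6 n17359
theorem D22605 : act 6 n17359 = n22605 := rfl
theorem F44350 : act 2 n22605 = n17364 := d14_1 D22605 (iv D17364) (iv F30437)
theorem F44351 : act 4 n22605 = n17361 := d19_1 D22605 (iv D17361) D17359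
def n22606 : Q := act 1 n17361
theorem D22606 : act 1 n17361 = n22606 := rfl
theorem F44352 : act 2 n22606 = n18226 := d6_2 (iv F30439) D22606 (iv D18226) (iv F23688) F28827
theorem F44353 : act 6 n22606 = n22488 := d10_2 D17361 D22606 (iv D22488) (iv D17191) (iv F22456)
def n22607 : Q := act 2 n17362
theorem D22607 : act 2 n17362 = n22607 := rfl
theorem F44354 : act 0 n22607 = n22601 := d1_1 D22607 F44341 F44325
theorem F44355 : act 4 n22607 = n17367 := d12_2 (iv F30441) D22607 (iv D17367)
def n22608 : Q := act 5 n17362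
theorem D22608 : act 5 n17362 = n22608 := rfl
theorem F44356 : act 0 n22608 = n17441 := d4_1 D22608 F44327 F44325
theorem F44357 : act 3 n22608 = n17363 := d16_1 D22608 (iv D17363) D17362
theorem F44358 : act 4 n22608 = n17368 := d18_1 D22608 (iv D17368) (iv F30441)
theorem F44359 : act 6 n22608 = n17427 := d22_3 D17440 F35481 D22608 F30546
def n22609 : Q := act 6 n17363
theorem D22609 : act 6 n17363 = n22609 := rfl
theorem F44360 : act 0 n22609 = n17439 := d5_1 D22609 (iv F44331) F44328
theorem F44361 : act 3 n22609 = n17427 := d17_1 D22609 (iv F44359) F44357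
theorem F44362 : act 4 n22609 = n17365 := d19_1 D22609 (iv D17365) (iv F30442)
theorem F44363 : act 5 n22609 = n22598 := d20_1 D22609 (iv D22598) D22597 F44331 F35484 (iv D17364) D17363
def n22610 : Q := act 5 n17367
theorem D22610 : act 5 n17367 = n22610 := rfl
theorem F44364 : act 0 n22610 = n17438 := d4_1 D22610 F35443 (iv F32526)
theorem F44365 : act 2 n22610 = n17368 := d13_1 D22610 (iv D17368) D17367
theorem F44366 : act 3 n22610 = n22594 := d16_1 D22610 (iv D22594) (iv F32527)
theorem F44367 : act 6 n22610 = n17426 := d20_2 F35445 D22610 F44345 (iv D22602) (iv F35443) (iv D17438) D17437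
def n22611 : Q := act 5 n17372
theorem D22611 : act 5 n17372 = n22611 := rfl
theorem F44368 : act 1 n22611 = n22600 := d9_1 D22611 (iv D22600) (iv D17357) (iv F22466) D17372
theorem F44369 : act 2 n22611 = n20518 := d13_1 D22611 (iv D20518) (iv F39542)
theorem F44370 : act 3 n22611 = n21992 := d16_1 D22611 F42731 F42693
theorem F44371 : act 4 n22611 = n17424 := d18_1 D22611 (iv D17424) F34338
theorem F44372 : act 6 n22611 = n18530 := d22_1 D22611 F33149 D18534 (iv F33206)
def n22612 : Q := act 0 n17382
theorem D22612 : act 0 n17382 = n22612 := rfl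
theorem F44373 : act 1 n22612 = n20527 := d0_2 D17382 D22612 F38954 (iv F35276) F29784 (iv F29753) F39567 (iv D12847) (iv F22479)
theorem F44374 : act 2 n22612 = n19454 := d1_2 (iv F30476) D22612 (iv D19454)
theorem F44375 : act 3 n22612 = n20528 := d2_2 (iv F30477) D22612 (iv F39568)
theorem F44376 : act 4 n22612 = n19407 := d3_2 F33033 D22612 (iv D19407)
def n22613 : Q := act 5 n17382
theorem D22613 : act 5 n17382 = n22613 := rfl
theorem F44377 : act 1 n22613 = n19421 := d9_1 D22613 (iv D19421) F24801 (iv F32650) D17382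
theorem F44378 : act 2 n22613 = n19456 := d13_1 D22613 (iv D19456) (iv F30476)
theorem F44379 : act 3 n22613 = n22527 := d16_1 D22613 (iv D22527) (iv F30477)
theorem F44380 : act 4 n22613 = n19409 := d18_1 D22613 (iv D19409) F33033
def n22614 : Q := act 6 n17382
theorem D22614 : act 6 n17382 = n22614 := rfl
theorem F44381 : act 1 n22614 = n17391 := d10_1 D22614 (iv D17391) (iv D12847) (iv F22481) D17382
theorem F44382 : act 2 n22614 = n19457 := d14_1 D22614 (iv D19457) (iv F30476)
theorem F44383 : act 3 n22614 = n22528 := d17_1 D22614 (iv D22528) (iv F30477)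
theorem F44384 : act 4 n22614 = n19410 := d19_1 D22614 (iv D19410) F33033
def n22615 : Q := act 4 n17385
theorem D22615 : act 4 n17385 = n22615 := rfl
theorem F44385 : act 0 n22615 = n20808 := d3_1 D22615 (iv D20808) F32547
theorem F44386 : act 3 n22615 = n20813 := d15_1 D22615 (iv D20813) (iv D15512) F32599 D17385
theorem F44387 : act 5 n22615 = n21022 := d18_2 (iv F30483) D22615 F40486
theorem F44388 : act 6 n22615 = n20924 := d19_2 F33028 D22615 (iv D20924)
def n22616 : Q := act 6 n17389
theorem D22616 : act 6 n17389 = n22616 := rfl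
theorem F44389 : act 0 n22616 = n20859 := d5_1 D22616 F43144 F43141
theorem F44390 : act 1 n22616 = n19410 := d10_1 D22616 (iv D19410) (iv D14185) (iv F32685) (iv F30487)
theorem F44391 : act 2 n22616 = n20812 := d14_1 D22616 (iv D20812) F33043
theorem F44392 : act 4 n22616 = n17391 := d19_1 D22616 (iv D17391) D17389
theorem F44393 : act 5 n22616 = n20858 := d24_1 D22616 F40037 (iv D15777) F21104 F17602 D9914 (iv F18528) D13072 D17824 F35213 (iv D14191) F19668 (iv F32684) (iv F30487)
def n22617 : Q := act 0 n17394
theorem D22617 : act 0 n17394 = n22617 := rfl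
theorem F44394 : act 1 n22617 = n17735 := d0_2 D17394 D22617 F35426 F39825 (iv F38941) (iv F39840) (iv D17397) (iv D12852) (iv F22498)
theorem F44395 : act 2 n22617 = n17812 := d1_2 (iv F30494) D22617 F33013
theorem F44396 : act 4 n22617 = n17812 := d3_2 (iv F32741) D22617 F33013
theorem F44397 : act 5 n22617 = n17394 := d23_4 (iv F18243) D12850 D17394 D22617 F30494 (iv D13075) F18529 (iv F18528) (iv D10480) D10479 (iv F32878) F19640 (iv F32097) (iv D13637) F19194 D10822 F19206 (iv F18247) F18246
theorem F44398 : act 3 n22518 = n22617 := d21_7 F30494 (iv F31114) (iv F43597) F43598 (iv F43621) F43622 (iv F44101) (iv D22617)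
theorem F44399 : act 6 n22617 = n22517 := d17_2 D22518 F44398 (iv D22517)
def n22618 : Q := act 3 n17394
theorem D22618 : act 3 n17394 = n22618 := rfl
theorem F44400 : act 0 n22618 = n22518 := d2_1 D22618 F44398 (iv D22617)
theorem F44401 : act 1 n22618 = n17395 := d7_1 D22618 (iv D17395) D17394
theorem F44402 : act 5 n22618 = n22518 := d16_2 F44397 D22618 F44398
theorem F44403 : act 2 n22618 = n22364 := d21_4 F43597 F31114 (iv F30494) D22618 F43720 (iv D22124) (iv F31772) (iv F43595)
theorem F44404 : act 6 n22516 = n22618 := d14_0 F44403 F43722 D22516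
def n22619 : Q := act 6 n17394
theorem D22619 : act 6 n17394 = n22619 := rfl
theorem F44405 : act 0 n22619 = n22517 := d5_1 D22619 (iv F44399) (iv D22617)
theorem F44406 : act 1 n22619 = n21007 := d10_1 D22619 (iv D21007) (iv D15825) F32730 D17394
theorem F44407 : act 2 n22619 = n17828 := d14_1 D22619 (iv D17828) (iv F30494)
theorem F44408 : act 3 n22619 = n22516 := d17_1 D22619 F44404 (iv D22618)
theorem F44409 : act 4 n22619 = n17828 := d19_1 D22619 (iv D17828) (iv F32741)
theorem F44410 : act 5 n22619 = n22619 := d20_1 D22619 (iv D22619) (iv F44397) F44399 F44100 (iv F44399) F44397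
def n22620 : Q := act 4 n17395
theorem D22620 : act 4 n17395 = n22620 := rfl
theorem F44411 : act 0 n22620 = n17403 := d3_1 D22620 (iv D17403) (iv F30495)
theorem F44412 : act 2 n22620 = n22615 := d12_1 D22620 (iv D22615) (iv F30497)
theorem F44413 : act 3 n22620 = n17825 := d15_1 D22620 F31112 F22892 F32704 D17395
theorem F44414 : act 5 n22620 = n17738 := d18_2 (iv F30496) D22620 (iv D17738)
theorem F44415 : act 6 n22620 = n21008 := d19_2 (iv F32688) D22620 (iv D21008)
def n22621 : Q := act 5 n17397
theorem D22621 : act 5 n17397 = n22621 := rfl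
theorem F44416 : act 0 n22621 = n17400 := d4_1 D22621 (iv D17400) D17397
theorem F44417 : act 2 n22621 = n17413 := d13_1 D22621 (iv D17413) (iv F30501)
theorem F44418 : act 4 n22621 = n21027 := d18_1 D22621 (iv D21027) F33016
def n22622 : Q := act 6 n17397
theorem D22622 : act 6 n17397 = n22622 := rfl
theorem F44419 : act 0 n22622 = n17401 := d5_1 D22622 (iv D17401) D17397
theorem F44420 : act 1 n22622 = n19890 := d10_1 D22622 F37552 F39547 (iv F38942) (iv F39840)
theorem F44421 : act 2 n22622 = n17414 := d14_1 D22622 (iv D17414) (iv F30501)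
theorem F44422 : act 3 n22622 = n22556 := d17_1 D22622 (iv F44186) F39842
theorem F44423 : act 4 n22622 = n19910 := d19_1 D22622 F37614 F33016
def n22623 : Q := act 2 n17398
theorem D22623 : act 2 n17398 = n22623 := rfl
theorem F44424 : act 0 n22623 = n22557 := d1_1 D22623 F44188 (iv F39843)
theorem F44425 : act 1 n22623 = n22390 := d6_1 D22623 F43769 F39856 (iv F32605) (iv F30502)
theorem F44426 : act 6 n22623 = n20539 := d14_2 F39749 D22623 (iv F39195)
def n22624 : Q := act 4 n17398
theorem D22624 : act 4 n17398 = n22624 := rfl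
theorem F44427 : act 1 n22624 = n17403 := d8_1 D22624 (iv D17403) (iv F30502)
theorem F44428 : act 3 n22624 = n21023 := d15_1 D22624 F40488 F27389 F32782 D17398
def n22625 : Q := act 5 n17398
theorem D22625 : act 5 n17398 = n22625 := rfl
theorem F44429 : act 3 n22625 = n17400 := d16_1 D22625 (iv D17400) D17398
def n22626 : Q := act 6 n17400
theorem D22626 : act 6 n17400 = n22626 := rfl
theorem F44430 : act 2 n22626 = n17418 := d14_1 D22626 (iv D17418) (iv F30505)
theorem F44431 : act 4 n22626 = n21028 := d19_1 D22626 (iv D21028) F33015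
theorem F44432 : act 5 n22626 = n22622 := d22_2 D17400 D22626 (iv D22622) (iv D17397)
def n22627 : Q := act 5 n17401
theorem D22627 : act 5 n17401 = n22627 := rfl
theorem F44433 : act 0 n22627 = n22626 := d4_1 D22627 F44432 F44419
theorem F44434 : act 2 n22627 = n17419 := d13_1 D22627 (iv D17419) (iv F30506)
theorem F44435 : act 4 n22627 = n21000 := d18_1 D22627 (iv D21000) (iv F33011)
theorem F44436 : act 6 n22627 = n22621 := d20_2 D17401 D22627 (iv D22621) D22622 (iv F44432) (iv D22626) (iv D17400)
def n22628 : Q := act 1 n17404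
theorem D22628 : act 1 n17404 = n22628 := rfl
theorem F44437 : act 3 n22628 = n17409 := d7_2 (iv F30513) D22628 (iv D17409)
theorem F44438 : act 6 n22628 = n20105 := d10_2 F30514 D22628 F43128 (iv F43160) F43157
def n22629 : Q := act 5 n17412
theorem D22629 : act 5 n17412 = n22629 := rfl
theorem F44439 : act 0 n22629 = n17416 := d4_1 D22629 (iv D17416) (iv F30527)
theorem F44440 : act 1 n22629 = n18560 := d9_1 D22629 (iv D18560) F23801 (iv F28811) (iv F34993)
theorem F44441 : act 2 n22629 = n21027 := d13_1 D22629 (iv D21027) (iv F32891)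
theorem F44442 : act 3 n22629 = n18633 := d16_1 D22629 F33333 F34995
theorem F44443 : act 4 n22629 = n17413 := d18_1 D22629 (iv D17413) D17412
def n22630 : Q := act 1 n17413
theorem D22630 : act 1 n17413 = n22630 := rfl
theorem F44444 : act 0 n22630 = n22611 := d0_1 D22630 F44368 F44337 F39433 F39428 (iv D20094) F25840 (iv F22519) (iv F30528)
theorem F44445 : act 3 n22630 = n21977 := d7_2 (iv F30529) D22630 F42697
theorem F44446 : act 4 n22630 = n18560 := d8_2 F44443 D22630 (iv F44440)
theorem F44447 : act 5 n22630 = n18534 := d9_2 D17413 D22630 F33157 (iv F25559) F34988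
theorem F44448 : act 6 n22630 = n20531 := d10_2 F30541 D22630 (iv F39734) (iv F33087) (iv F34985)
theorem F44449 : act 2 n20533 = n22630 := d23_1 (iv F38963) (iv D22630) F30528 (iv D12861) (iv F22504) (iv D12852) (iv F22498) F22499 (iv D10459) (iv D6029) F4559 (iv F4561) (iv F9153) D10457 D13029 F35407 D17607 F39825 (iv F38941)
def n22631 : Q := act 2 n17415
theorem D22631 : act 2 n17415 = n22631 := rfl
theorem F44450 : act 1 n22631 = n18502 := d6_1 D22631 F33100 F34188 F32919 (iv F30532)
theorem F44451 : act 4 n22631 = n22561 := d12_2 (iv F30533) D22631 (iv D22561)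
theorem F44452 : act 5 n22631 = n19076 := d13_2 F35509 D22631 F35536
theorem F44453 : act 3 n22631 = n21000 := d21_7 F40500 F40492 (iv D21025) F27389 (iv F32840) D17415 D22631 (iv F40499)
def n22632 : Q := act 6 n17415
theorem D22632 : act 6 n17415 = n22632 := rfl
theorem F44454 : act 0 n22632 = n19909 := d5_1 D22632 F37611 (iv F34999)
theorem F44455 : act 1 n22632 = n18503 := d10_1 D22632 (iv D18503) F34188 F32920 (iv F30532)
theorem F44456 : act 3 n22632 = n17417 := d17_1 D22632 (iv D17417) D17415
theorem F44457 : act 4 n22632 = n22563 := d19_1 D22632 (iv D22563) (iv F30533)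
def n22633 : Q := act 5 n17417
theorem D22633 : act 5 n17417 = n22633 := rfl
theorem F44458 : act 0 n22633 = n19911 := d4_1 D22633 (iv D19911) (iv F34997)
theorem F44459 : act 1 n22633 = n20763 := d9_1 D22633 (iv F39423) (iv F40437) (iv D21002) F32925
theorem F44460 : act 2 n22633 = n21000 := d13_1 D22633 (iv D21000) (iv F32893)
theorem F44461 : act 4 n22633 = n17419 := d18_1 D22633 (iv D17419) (iv F30536)
theorem F44462 : act 6 n22633 = n22629 := d20_2 D17417 D22633 (iv D22629) (iv F34996) D19911 F37616 (iv D17416)
def n22634 : Q := act 3 n17421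
theorem D22634 : act 3 n17421 = n22634 := rfl
theorem F44463 : act 1 n22634 = n17743 := d7_1 D22634 (iv D17743) (iv F30542)
theorem F44464 : act 4 n22634 = n20220 := d15_2 (iv F39550) D22634 (iv D20220) F26078 D15199
theorem F44465 : act 6 n22634 = n20227 := d17_2 (iv F39551) D22634 F38328
def n22635 : Q := act 5 n17421
theorem D22635 : act 5 n17421 = n22635 := rfl
theorem F44466 : act 2 n22635 = n17424 := d13_1 D22635 (iv D17424) D17421
theorem F44467 : act 4 n22635 = n20518 := d18_1 D22635 (iv D20518) (iv F39550)
theorem F44468 : act 6 n22635 = n18552 := d22_1 D22635 F33192 D18559 (iv F35429)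
def n22636 : Q := act 1 n17424
theorem D22636 : act 1 n17424 = n22636 := rfl
theorem F44469 : act 0 n22636 = n19838 := d0_1 D22636 F39427 F39424 (iv F35369) (iv F25651) F34480 (iv F44439) F44440 (iv F34393)
theorem F44470 : act 3 n22636 = n18619 := d7_2 (iv F34394) D22636 (iv D18619)
theorem F44471 : act 4 n22636 = n22600 := d8_2 F44371 D22636 (iv F44368)
theorem F44472 : act 5 n22636 = n17433 := d9_2 D17424 D22636 (iv D17433) (iv D12867) D12864
theorem F44473 : act 6 n22636 = n18554 := d10_2 (iv F34395) D22636 (iv D18554) (iv D13541) D13540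
theorem F44474 : act 2 n19837 = n22636 := d23_1 (iv F37453) (iv D22636) F34393 (iv D18560) (iv F33208) F34994 (iv D15843) D15844 (iv F32892) (iv F34480) F25651 (iv D14591) (iv D11333) (iv D9062) (iv F13565) (iv F13573) (iv F13577) D11335 D14593
def n22637 : Q := act 1 n17426
theorem D22637 : act 1 n17426 = n22637 := rfl
theorem F44475 : act 2 n22637 = n22182 := d6_2 D17426 D22637 F43212 F33317 F34391
theorem F44476 : act 3 n22637 = n20847 := d7_2 F32974 D22637 F40011
theorem F44477 : act 6 n22174 = n22637 := d14_0 F44475 (iv D22182) (iv F43202)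
def n22638 : Q := act 4 n17426
theorem D22638 : act 4 n17426 = n22638 := rfl
theorem F44478 : act 0 n22638 = n17436 := d3_1 D22638 (iv D17436) (iv F30545)
theorem F44479 : act 2 n22638 = n17427 := d12_1 D22638 (iv D17427) D17426
def n22639 : Q := act 5 n17427
theorem D22639 : act 5 n17427 = n22639 := rfl
theorem F44480 : act 0 n22639 = n17440 := d4_1 D22639 (iv D17440) (iv F30546)
theorem F44481 : act 3 n22639 = n22598 := d16_1 D22639 (iv F44363) F44361
theorem F44482 : act 4 n22639 = n17428 := d18_1 D22639 (iv D17428) D17427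
theorem F44483 : act 6 n22639 = n22596 := d20_2 F44359 D22639 (iv F44327) (iv D17441) D17440 F35481 D22608
def n22640 : Q := act 1 n17428
theorem D22640 : act 1 n17428 = n22640 := rfl
theorem F44484 : act 0 n22640 = n19841 := d0_1 D22640 F37462 (iv F44336) (iv D22599) F30426 (iv F28827) F23687 (iv F34333) (iv F30547)
theorem F44485 : act 3 n22640 = n17433 := d7_2 (iv F30548) D22640 (iv D17433)
theorem F44486 : act 5 n22640 = n18619 := d9_2 D17428 D22640 (iv D18619) (iv F23837) F34391
def n22641 : Q := act 6 n17433
theorem D22641 : act 6 n17433 = n22641 := rfl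
theorem F44487 : act 0 n22641 = n19842 := d5_1 D22641 (iv D19842) (iv F37444)
theorem F44488 : act 1 n22641 = n22590 := d10_1 D22641 (iv D22590) F30421 F34346 D17433
theorem F44489 : act 2 n22641 = n19840 := d14_1 D22641 (iv D19840) F37443
theorem F44490 : act 4 n22641 = n22591 := d19_1 D22641 F44311 F35491
theorem F44491 : act 5 n22641 = n20872 := d20_1 D22641 F40079 F37455 D19842 F39437 (iv F44473) F44472
def n22642 : Q := act 4 n17435
theorem D22642 : act 4 n17435 = n22642 := rfl
theorem F44492 : act 1 n22642 = n22543 := d8_1 D22642 (iv D22543) (iv F30558)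
theorem F44493 : act 2 n22642 = n22609 := d12_1 D22642 F44362 F34202
theorem F44494 : act 6 n22642 = n22604 := d19_2 (iv F35447) D22642 F44349
def n22643 : Q := act 3 n17436
theorem D22643 : act 3 n17436 = n22643 := rfl
theorem F44495 : act 1 n22643 = n22545 := d7_1 D22643 (iv D22545) (iv F30559)
def n22644 : Q := act 5 n17436
theorem D22644 : act 5 n17436 = n22644 := rfl
theorem F44496 : act 2 n22644 = n17440 := d13_1 D22644 (iv D17440) (iv F30560)
theorem F44497 : act 4 n22644 = n17437 := d18_1 D22644 (iv D17437) D17436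
theorem F44498 : act 6 n22607 = n22644 := d19_0 F44497 F35445 (iv F44355)
def n22645 : Q := act 6 n17436
theorem D22645 : act 6 n17436 = n22645 := rfl
theorem F44499 : act 1 n22645 = n18899 := d10_1 D22645 (iv D18899) D18897 (iv F35035) (iv F30559)
theorem F44500 : act 2 n22645 = n17441 := d14_1 D22645 (iv D17441) (iv F30560)
theorem F44501 : act 4 n22645 = n17438 := d19_1 D22645 (iv D17438) D17436
theorem F44502 : act 5 n22601 = n22645 := d22_0 (iv D22645) D22644 (iv F44498) F44354
def n22646 : Q := act 1 n17437
theorem D22646 : act 1 n17437 = n22646 := rfl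
theorem F44503 : act 2 n22646 = n18230 := d6_2 (iv F30561) D22646 (iv D18230) (iv F23684) (iv F34333)
theorem F44504 : act 5 n22646 = n22547 := d9_2 D17437 D22646 (iv D22547) (iv D17282) (iv F22532)
def n22647 : Q := act 2 n17439
theorem D22647 : act 2 n17439 = n22647 := rfl
theorem F44505 : act 0 n22647 = n22642 := d1_1 D22647 F44493 F44360
theorem F44506 : act 4 n22647 = n17444 := d12_2 (iv F30564) D22647 (iv D17444)
theorem F44507 : act 5 n22647 = n22605 := d13_2 (iv F35484) D22647 F44350
def n22648 : Q := act 5 n17531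
theorem D22648 : act 5 n17531 = n22648 := rfl
theorem F44508 : act 1 n22648 = n19875 := d9_1 D22648 F37518 F25535 (iv F26520) (iv F39681)
theorem F44509 : act 2 n22648 = n17533 := d13_1 D22648 (iv D17533) D17531
theorem F44510 : act 3 n22648 = n19871 := d16_1 D22648 F37515 (iv F39682)
theorem F44511 : act 4 n22648 = n17569 := d18_1 D22648 (iv D17569) (iv F32634)
theorem F44512 : act 6 n22648 = n17547 := d22_1 D22648 F30766 D17559 F35423
def n22649 : Q := act 1 n17546
theorem D22649 : act 1 n17546 = n22649 := rfl
theorem F44513 : act 3 n22649 = n17601 := d7_2 (iv F30764) D22649 (iv D17601)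
theorem F44514 : act 4 n22649 = n17601 := d8_2 (iv F32638) D22649 (iv D17601)
def n22650 : Q := act 2 n17546
theorem D22650 : act 2 n17546 = n22650 := rfl
theorem F44515 : act 0 n22650 = n17547 := d1_1 D22650 (iv D17547) D17546
theorem F44516 : act 4 n22650 = n17602 := d12_2 (iv F32638) D22650 (iv D17602)
theorem F44517 : act 5 n22650 = n17556 := d13_2 (iv F30765) D22650 (iv D17556)
def n22651 : Q := act 3 n17547
theorem D22651 : act 3 n17547 = n22651 := rfl
theorem F44518 : act 1 n22651 = n22389 := d7_1 D22651 (iv F43771) F39857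
theorem F44519 : act 5 n22651 = n17558 := d16_2 (iv F30766) D22651 (iv D17558)
theorem F44520 : act 6 n22651 = n19871 := d17_2 F44512 D22651 (iv F44510)
theorem F44521 : act 2 n19872 = n22651 := d14_3 F44520 (iv D19871) D19872
def n22652 : Q := act 0 n17555
theorem D22652 : act 0 n17555 = n22652 := rfl
theorem F44522 : act 1 n22652 = n17625 := d0_2 D17555 D22652 (iv D17625) (iv D12976) (iv D10426) (iv D6006) (iv F9099) D10410 D12944
theorem F44523 : act 3 n22652 = n17625 := d2_2 (iv F30778) D22652 (iv D17625)
theorem F44524 : act 4 n22652 = n17625 := d3_2 (iv F32781) D22652 (iv D17625)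
theorem F44525 : act 6 n22652 = n17759 := d5_2 (iv F35403) D22652 (iv D17759)
theorem F44526 : act 5 n22652 = n17804 := d22_0 (iv D17804) (iv F35413) (iv F35403) D22652
def n22653 : Q := act 2 n17555
theorem D22653 : act 2 n17555 = n22653 := rfl
theorem F44527 : act 4 n22653 = n17626 := d12_2 (iv F32781) D22653 (iv D17626)
theorem F44528 : act 6 n22653 = n17760 := d14_2 (iv F35403) D22653 (iv D17760)
theorem F44529 : act 3 n19649 = n22653 := d17_3 F44528 (iv F37446) F36966
theorem F44530 : act 5 n22653 = n19635 := d16_2 D19649 F44529 F36933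
def n22654 : Q := act 5 n17555
theorem D22654 : act 5 n17555 = n22654 := rfl
theorem F44531 : act 0 n22654 = n17804 := d4_1 D22654 (iv F44526) (iv D22652)
theorem F44532 : act 2 n22654 = n19635 := d13_1 D22654 (iv F44530) (iv D22653)
theorem F44533 : act 3 n22654 = n17627 := d16_1 D22654 (iv D17627) (iv F30778)
theorem F44534 : act 4 n22654 = n17627 := d18_1 D22654 (iv D17627) (iv F32781)
theorem F44535 : act 6 n22654 = n17801 := d20_2 (iv F35403) D22654 F35419 (iv F44525) F44526 (iv D17804) (iv F35413)
def n22655 : Q := act 1 n17556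
theorem D22655 : act 1 n17556 = n22655 := rfl
theorem F44536 : act 3 n22655 = n19610 := d7_2 F39684 D22655 F39014
theorem F44537 : act 4 n22655 = n17629 := d8_2 (iv F32691) D22655 (iv D17629)
theorem F44538 : act 0 n19612 = n22655 := d2_3 F44536 F36850 D19612
def n22656 : Q := act 4 n17558
theorem D22656 : act 4 n17558 = n22656 := rfl
theorem F44539 : act 1 n22656 = n17562 := d8_1 D22656 (iv D17562) (iv F30783)
theorem F44540 : act 3 n22656 = n17634 := d15_1 D22656 (iv D17634) (iv D12979) F32686 D17558
def n22657 : Q := act 5 n17559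
theorem D22657 : act 5 n17559 = n22657 := rfl
theorem F44541 : act 0 n22657 = n22648 := d4_1 D22657 (iv D22648) (iv F35423)
theorem F44542 : act 2 n22657 = n17560 := d13_1 D22657 (iv D17560) (iv F30784)
theorem F44543 : act 4 n22657 = n17637 := d18_1 D22657 (iv D17637) (iv F32692)
theorem F44544 : act 6 n22657 = n22650 := d20_2 D17559 D22657 F44517 (iv F35422) D22648 F44512 F30766
def n22658 : Q := act 1 n17560
theorem D22658 : act 1 n17560 = n22658 := rfl
theorem F44545 : act 3 n22658 = n17638 := d7_2 (iv F30786) D22658 (iv D17638)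
theorem F44546 : act 4 n22658 = n17638 := d8_2 (iv F32713) D22658 (iv D17638)
theorem F44547 : act 5 n22658 = n17638 := d9_2 D17560 D22658 (iv D17638) (iv D12981) (iv F22715)
def n22659 : Q := act 4 n17567
theorem D22659 : act 4 n17567 = n22659 := rfl
theorem F44548 : act 1 n22659 = n20254 := d8_1 D22659 (iv F44298) F44297
theorem F44549 : act 3 n22659 = n20250 := d15_1 D22659 F38375 (iv F39682) F32634 D17567
def n22660 : Q := act 5 n17567
theorem D22660 : act 5 n17567 = n22660 := rfl
theorem F44550 : act 3 n22660 = n17569 := d16_1 D22660 (iv D17569) D17567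
theorem F44551 : act 6 n22660 = n17603 := d22_1 D22660 F30830 D17635 F35424
def n22661 : Q := act 1 n17569
theorem D22661 : act 1 n17569 = n22661 := rfl
theorem F44552 : act 4 n22661 = n19875 := d8_2 F44511 D22661 (iv F44508)
theorem F44553 : act 5 n22661 = n19884 := d9_2 D17569 D22661 F37529 (iv F39667) F30419
theorem F44554 : act 6 n22661 = n19861 := d10_2 (iv F35394) D22661 F39879 (iv D20807) F26921
theorem F44555 : act 2 n19853 = n22661 := d14_3 F44554 (iv D19861) (iv F37485)
def n22662 : Q := act 2 n17574
theorem D22662 : act 2 n17574 = n22662 := rfl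
theorem F44556 : act 1 n22662 = n19853 := d6_1 D22662 F44555 (iv D22661) F30793 D17574
theorem F44557 : act 4 n22662 = n17746 := d12_2 (iv F35390) D22662 F31029
theorem F44558 : act 5 n22662 = n17584 := d13_2 (iv F30798) D22662 (iv D17584)
theorem F44559 : act 6 n22662 = n17607 := d14_2 F35399 D22662 (iv D17607)
theorem F44560 : act 3 n19849 = n22662 := d17_3 F44559 F39826 (iv F37482)
def n22663 : Q := act 1 n17583
theorem D22663 : act 1 n17583 = n22663 := rfl
theorem F44561 : act 3 n22663 = n17780 := d7_2 (iv F34416) D22663 (iv D17780)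
theorem F44562 : act 4 n22663 = n17780 := d8_2 (iv F34417) D22663 (iv D17780)
def n22664 : Q := act 2 n17583
theorem D22664 : act 2 n17583 = n22664 := rfl
theorem F44563 : act 0 n22664 = n17584 := d1_1 D22664 (iv D17584) D17583
theorem F44564 : act 4 n22664 = n17781 := d12_2 (iv F34417) D22664 (iv D17781)
theorem F44565 : act 6 n22664 = n17732 := d14_2 (iv F34419) D22664 (iv D17732)
def n22665 : Q := act 3 n17584
theorem D22665 : act 3 n17584 = n22665 := rfl
theorem F44566 : act 1 n22665 = n22184 := d7_1 D22665 (iv F43224) F40015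
theorem F44567 : act 5 n22665 = n19849 := d16_2 F44558 D22665 F44560
theorem F44568 : act 6 n22665 = n17734 := d17_2 (iv F34421) D22665 (iv D17734)
theorem F44569 : act 2 n19850 = n22665 := d14_3 F44568 (iv F39834) F38928
def n22666 : Q := act 1 n17586
theorem D22666 : act 1 n17586 = n22666 := rfl
theorem F44570 : act 0 n22666 = n22666 := d0_1 D22666 (iv D22666) (iv D17586) (iv D12958) F18425 F9112 (iv F18425) D12958 D17586
def n22667 : Q := act 2 n17586
theorem D22667 : act 2 n17586 = n22667 := rfl
theorem F44571 : act 0 n22667 = n17587 := d1_1 D22667 (iv D17587) D17586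
theorem F44572 : act 3 n19855 = n22667 := d2_0 F44571 F37442 D19855
def n22668 : Q := act 5 n17586
theorem D22668 : act 5 n17586 = n22668 := rfl
theorem F44573 : act 0 n22668 = n17588 := d4_1 D22668 (iv D17588) D17586
theorem F44574 : act 3 n22668 = n17801 := d16_1 D22668 F35419 (iv F35433)
theorem F44575 : act 4 n22668 = n17801 := d18_1 D22668 F35419 (iv F35431)
theorem F44576 : act 6 n22668 = n17627 := d22_1 D22668 (iv D17627) (iv F35415) D17586
theorem F44577 : act 1 n22668 = n17801 := d24_2 F35416 D22668 (iv F44535) (iv D22654) (iv D17555) F35397 D17533 (iv F35385) (iv D13038) (iv F35400) D13061 D17804 (iv F44526) F44522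
def n22669 : Q := act 5 n17587
theorem D22669 : act 5 n17587 = n22669 := rfl
theorem F44578 : act 2 n22669 = n17588 := d13_1 D22669 (iv D17588) D17587
theorem F44579 : act 3 n22669 = n19658 := d16_1 D22669 (iv F36981) (iv F37442)
theorem F44580 : act 4 n22669 = n17802 := d18_1 D22669 F35420 (iv F35432)
theorem F44581 : act 6 n19640 = n22669 := d17_0 F44579 (iv D19658) (iv F36946)
def n22670 : Q := act 6 n17588
theorem D22670 : act 6 n17588 = n22670 := rfl
theorem F44582 : act 0 n22670 = n17627 := d5_1 D22670 (iv F44576) F44573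
theorem F44583 : act 2 n22670 = n19640 := d14_1 D22670 F44581 F44578
theorem F44584 : act 3 n22670 = n17804 := d17_1 D22670 (iv D17804) (iv F35411)
theorem F44585 : act 4 n22670 = n17804 := d19_1 D22670 (iv D17804) (iv F35412)
theorem F44586 : act 5 n22670 = n17625 := d20_1 D22670 F35416 D22668 F44576 (iv D17627) (iv F35415) D17588
def n22671 : Q := act 0 n17601
theorem D22671 : act 0 n17601 = n22671 := rfl
theorem F44587 : act 5 n22671 = n17814 := d23_4 (iv F30829) (iv D17602) D17601 D22671 (iv F36589) (iv D19515) F24987 (iv D11187) (iv F19673) (iv D11105) (iv F19667) (iv F32684) F22496 F32596 (iv D9703) (iv F16935) D6009 (iv F18438) (iv F22745)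
theorem F44588 : act 6 n22649 = n22671 := d24_0 F44587 (iv D17814) (iv D13066) (iv D10475) (iv D6038) (iv D2921) F2336 D2919 D6035 (iv F34414) D12932 (iv F35397) (iv F30765) D22649
def n22672 : Q := act 2 n17601
theorem D22672 : act 2 n17601 = n22672 := rfl
def n22673 : Q := act 5 n17601
theorem D22673 : act 5 n17601 = n22673 := rfl
theorem F44589 : act 0 n22673 = n17814 := d4_1 D22673 (iv F44587) (iv D22671)
theorem F44590 : act 1 n22673 = n17627 := d9_1 D22673 (iv D17627) (iv D12976) (iv F22734) D17601
def n22674 : Q := act 6 n17601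
theorem D22674 : act 6 n17601 = n22674 := rfl
theorem F44591 : act 0 n22674 = n22649 := d5_1 D22674 F44588 (iv D22671)
theorem F44592 : act 3 n22674 = n22671 := d17_1 D22674 (iv F44588) F44513
theorem F44593 : act 4 n22674 = n22671 := d19_1 D22674 (iv F44588) F44514
def n22675 : Q := act 1 n17602
theorem D22675 : act 1 n17602 = n22675 := rfl
theorem F44594 : act 6 n22675 = n19378 := d10_2 F30865 D22675 (iv D19378) D19382 (iv F39861)
def n22676 : Q := act 3 n17602
theorem D22676 : act 3 n17602 = n22676 := rfl
theorem F44595 : act 0 n22676 = n17603 := d2_1 D22676 (iv D17603) (iv F30828)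
theorem F44596 : act 5 n22676 = n17630 := d16_2 (iv F30829) D22676 (iv D17630)
def n22677 : Q := act 2 n17603
theorem D22677 : act 2 n17603 = n22677 := rfl
theorem F44597 : act 5 n22677 = n17633 := d13_2 (iv F30830) D22677 (iv D17633)
theorem F44598 : act 3 n22677 = n20558 := d21_7 F44521 (iv D22651) (iv D17547) F22701 D12966 D17603 D22677 F39015
def n22678 : Q := act 4 n17603
theorem D22678 : act 4 n17603 = n22678 := rfl
theorem F44599 : act 5 n22678 = n17634 := d18_2 (iv F30830) D22678 (iv D17634)
def n22679 : Q := act 2 n17625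
theorem D22679 : act 2 n17625 = n22679 := rfl
theorem F44600 : act 0 n22679 = n17626 := d1_1 D22679 (iv D17626) D17625
theorem F44601 : act 5 n22679 = n19640 := d13_2 F44586 D22679 (iv F44583)
theorem F44602 : act 6 n22679 = n22667 := d14_2 (iv F35416) D22679 (iv D22667)
theorem F44603 : act 3 n19653 = n22679 := d17_3 F44602 (iv F44572) (iv F37487)
theorem F44604 : act 1 n22679 = n19367 := d7_1 F44603 F36205 D19653
def n22680 : Q := act 1 n17626
theorem D22680 : act 1 n17626 = n22680 := rfl
theorem F44605 : act 2 n22680 = n17629 := d6_2 D17626 D22680 (iv D17629) (iv D12977) D12976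
def n22681 : Q := act 5 n17626
theorem D22681 : act 5 n17626 = n22681 := rfl
theorem F44606 : act 0 n22681 = n19640 := d4_1 D22681 (iv F44601) F44600
theorem F44607 : act 2 n22681 = n17627 := d13_1 D22681 (iv D17627) D17626
theorem F44608 : act 3 n22681 = n19656 := d16_1 D22681 (iv F37490) F37489
theorem F44609 : act 4 n22681 = n19635 := d18_1 D22681 (iv F44530) F44527
theorem F44610 : act 1 n22681 = n19626 := d24_2 (iv F35417) D22681 (iv D19626) (iv F36160) F36159 D19355 F36172 D19402 F36305 D19907 F37604 (iv F37438) (iv D19833) (iv F37441)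
def n22682 : Q := act 0 n17629
theorem D22682 : act 0 n17629 = n22682 := rfl
theorem F44611 : act 4 n22682 = n19612 := d3_2 F44537 D22682 F44538
def n22683 : Q := act 3 n17629
theorem D22683 : act 3 n17629 = n22683 := rfl
theorem F44612 : act 1 n22683 = n17630 := d7_1 D22683 (iv D17630) D17629
def n22684 : Q := act 5 n17629
theorem D22684 : act 5 n17629 = n22684 := rfl
def n22685 : Q := act 6 n17629
theorem D22685 : act 6 n17629 = n22685 := rfl
theorem F44613 : act 1 n22685 = n22589 := d10_1 D22685 (iv D22589) F30419 (iv F35409) D17629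
def n22686 : Q := act 2 n17630
theorem D22686 : act 2 n17630 = n22686 := rfl
theorem F44614 : act 0 n22686 = n17633 := d1_1 D22686 (iv D17633) (iv F30856)
theorem F44615 : act 3 n22686 = n20555 := d11_2 D17630 D22686 F39690 (iv D17558) (iv D12945) F18420 D10427 D12979 D17633 F39688 (iv F39013) F39684 (iv D17556) F22713 D12977
theorem F44616 : act 6 n22686 = n20550 := d14_2 F35421 D22686 F39686
def n22687 : Q := act 4 n17630
theorem D22687 : act 4 n17630 = n22687 := rfl
theorem F44617 : act 0 n22687 = n17634 := d3_1 D22687 (iv D17634) (iv F30856)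
theorem F44618 : act 6 n22687 = n22659 := d19_2 F35421 D22687 (iv D22659)
def n22688 : Q := act 4 n17633
theorem D22688 : act 4 n17633 = n22688 := rfl
theorem F44619 : act 2 n22688 = n17634 := d12_1 D22688 (iv D17634) D17633
theorem F44620 : act 6 n22688 = n20549 := d19_2 (iv F39689) D22688 F39002
def n22689 : Q := act 6 n17634
theorem D22689 : act 6 n17634 = n22689 := rfl
theorem F44621 : act 0 n22689 = n22659 := d5_1 D22689 (iv F44618) F44617
theorem F44622 : act 2 n22689 = n20549 := d14_1 D22689 (iv F44620) F44619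
theorem F44623 : act 4 n22689 = n17635 := d19_1 D22689 (iv D17635) D17634
def n22690 : Q := act 1 n17635
theorem D22690 : act 1 n17635 = n22690 := rfl
theorem F44624 : act 2 n22690 = n18170 := d6_2 (iv F39685) D22690 (iv F34441) F26509 D15226
theorem F44625 : act 3 n22690 = n17636 := d7_2 (iv F30861) D22690 (iv D17636)
theorem F44626 : act 6 n22690 = n17652 := d10_2 D17635 D22690 (iv D17652) (iv D12989) (iv F22748)
theorem F44627 : act 5 n18169 = n22690 := d22_0 F44626 F43050 F43048 F43046
theorem F44628 : act 0 n17652 = n22690 := d22_4 (iv F44627) F31766 F44627 F44626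
def n22691 : Q := act 5 n17635
theorem D22691 : act 5 n17635 = n22691 := rfl
theorem F44629 : act 0 n22691 = n22660 := d4_1 D22691 (iv D22660) (iv F35424)
theorem F44630 : act 1 n22691 = n18249 := d9_1 D22691 (iv D18249) (iv F31765) F44627 (iv D22690)
theorem F44631 : act 2 n22691 = n19869 := d13_1 D22691 F37512 (iv F39685)
theorem F44632 : act 3 n22691 = n17637 := d16_1 D22691 (iv D17637) (iv F30861)
theorem F44633 : act 6 n22691 = n22676 := d20_2 D17635 D22691 F44596 (iv F35421) D22660 F44551 F30830
def n22692 : Q := act 5 n17636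
theorem D22692 : act 5 n17636 = n22692 := rfl
theorem F44634 : act 0 n22692 = n17654 := d4_1 D22692 (iv D17654) (iv F35414)
theorem F44635 : act 1 n22692 = n18248 := d9_1 D22692 (iv F36244) (iv F39861) (iv D17637) D17636
theorem F44636 : act 2 n22692 = n22458 := d13_1 D22692 (iv F44233) F44230
theorem F44637 : act 3 n22692 = n18169 := d16_1 D22692 F44627 F44625
theorem F44638 : act 4 n22692 = n22458 := d18_1 D22692 (iv F44233) F44231
theorem F44639 : act 6 n22692 = n22692 := d20_2 (iv F30862) D22692 (iv D22692) F30862 D17654 F35418 (iv D17654)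
def n22693 : Q := act 0 n17638
theorem D22693 : act 0 n17638 = n22693 := rfl
def n22694 : Q := act 6 n17638
theorem D22694 : act 6 n17638 = n22694 := rfl
theorem F44640 : act 1 n22694 = n22674 := d10_1 D22694 (iv D22674) (iv D17601) (iv F22751) D17638
theorem F44641 : act 5 n22694 = n22663 := d24_1 D22694 (iv D22663) F34419 F35407 (iv D12968) (iv D10421) (iv D6002) (iv D2904) F2323 D2906 D6006 D10428 D12981 D17638
theorem F44642 : act 0 n17780 = n22694 := d0_9 F44640 F44591 (iv D22649) (iv D17546) (iv D12939) F34407 D10468 D13051 D17780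
theorem F44643 : act 6 n22693 = n17780 := d5_0 F44642 (iv D22694) D22693
theorem F44644 : act 1 n17804 = n22693 := d10_5 F44643 (iv D17780) F22864 D13061 D17804
def n22695 : Q := act 0 n17646
theorem D22695 : act 0 n17646 = n22695 := rfl
theorem F44645 : act 2 n22695 = n17648 := d1_2 (iv F30879) D22695 (iv D17648)
theorem F44646 : act 3 n22695 = n19977 := d2_2 (iv F33039) D22695 F37744
theorem F44647 : act 4 n22695 = n18667 := d3_2 (iv F33029) D22695 (iv D18667)
theorem F44648 : act 6 n22695 = n19917 := d5_2 F33040 D22695 (iv D19917)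
theorem F44649 : act 5 n22695 = n19901 := d22_0 (iv F37628) F37627 F33040 D22695
def n22696 : Q := act 5 n17646
theorem D22696 : act 5 n17646 = n22696 := rfl
theorem F44650 : act 0 n22696 = n19901 := d4_1 D22696 (iv F44649) (iv D22695)
theorem F44651 : act 2 n22696 = n17649 := d13_1 D22696 (iv D17649) (iv F30879)
theorem F44652 : act 3 n22696 = n19979 := d16_1 D22696 (iv D19979) (iv F33039)
theorem F44653 : act 4 n22696 = n18668 := d18_1 D22696 (iv D18668) (iv F33029)
theorem F44654 : act 6 n22696 = n18670 := d20_2 F33040 D22696 (iv F37633) (iv F44648) F44649 (iv F37628) F37627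
def n22697 : Q := act 1 n17648
theorem D22697 : act 1 n17648 = n22697 := rfl
theorem F44655 : act 6 n22697 = n22697 := d10_2 F36229 D22697 (iv D22697) (iv F36229) F36226
def n22698 : Q := act 5 n17648
theorem D22698 : act 5 n17648 = n22698 := rfl
theorem F44656 : act 0 n22698 = n17649 := d4_1 D22698 (iv D17649) D17648
theorem F44657 : act 2 n22698 = n19901 := d13_1 D22698 (iv F44649) F44645
theorem F44658 : act 4 n22698 = n19938 := d18_1 D22698 (iv F37972) F37971
theorem F44659 : act 6 n22698 = n19376 := d20_2 F36229 D22698 F36224 (iv D17650) D17649 (iv F35209) D19377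
def n22699 : Q := act 1 n17651
theorem D22699 : act 1 n17651 = n22699 := rfl
theorem F44660 : act 4 n22699 = n17652 := d8_2 (iv F30882) D22699 (iv D17652)
def n22700 : Q := act 1 n17732
theorem D22700 : act 1 n17732 = n22700 := rfl
theorem F44661 : act 3 n22700 = n19619 := d7_2 F39828 D22700 F38935
theorem F44662 : act 4 n22700 = n17805 := d8_2 (iv F32850) D22700 (iv D17805)
theorem F44663 : act 0 n19621 = n22700 := d2_3 F44661 F36864 D19621
def n22701 : Q := act 4 n17734
theorem D22701 : act 4 n17734 = n22701 := rfl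
theorem F44664 : act 1 n22701 = n17738 := d8_1 D22701 (iv D17738) (iv F31018)
theorem F44665 : act 3 n22701 = n17810 := d15_1 D22701 (iv D17810) (iv D13064) F32834 D17734
def n22702 : Q := act 6 n17735
theorem D22702 : act 6 n17735 = n22702 := rfl
theorem F44666 : act 0 n22702 = n22662 := d5_1 D22702 F44559 (iv F35426)
theorem F44667 : act 2 n22702 = n17736 := d14_1 D22702 (iv D17736) (iv F31019)
theorem F44668 : act 4 n22702 = n17813 := d19_1 D22702 (iv D17813) (iv F32851)
theorem F44669 : act 5 n22702 = n22664 := d20_1 D22702 F44565 (iv F35425) (iv F44559) F44558 F34421 D17735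
def n22703 : Q := act 1 n17736
theorem D22703 : act 1 n17736 = n22703 := rfl
theorem F44670 : act 3 n22703 = n17814 := d7_2 (iv F31021) D22703 (iv D17814)
theorem F44671 : act 4 n22703 = n17814 := d8_2 (iv F32935) D22703 (iv D17814)
theorem F44672 : act 5 n22703 = n22674 := d9_2 F34418 D22703 (iv F44640) F44641 (iv D22663)
theorem F44673 : act 6 n22703 = n17814 := d10_2 D17736 D22703 (iv D17814) (iv D13066) (iv F22844)
def n22704 : Q := act 4 n17743
theorem D22704 : act 4 n17743 = n22704 := rfl
theorem F44674 : act 1 n22704 = n20220 := d8_1 D22704 (iv F44464) F44463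
theorem F44675 : act 3 n22704 = n20216 := d15_1 D22704 F38309 (iv F39826) F34400 D17743
def n22705 : Q := act 6 n17743
theorem D22705 : act 6 n17743 = n22705 := rfl
theorem F44676 : act 3 n22705 = n17746 := d17_1 D22705 (iv D17746) D17743
theorem F44677 : act 5 n22705 = n17782 := d22_2 (iv F35427) D22705 F31068 (iv F31091)
def n22706 : Q := act 1 n17746
theorem D22706 : act 1 n17746 = n22706 := rfl
theorem F44678 : act 2 n22706 = n19875 := d6_2 (iv F31029) D22706 (iv F44508) F44509 (iv F35385)
theorem F44679 : act 4 n22706 = n19853 := d8_2 F44557 D22706 (iv F44556)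
theorem F44680 : act 5 n22706 = n19883 := d9_2 (iv F35388) D22706 F40032 (iv D20856) F27062
theorem F44681 : act 6 n22706 = n19862 := d10_2 D17746 D22706 F37495 (iv F39551) F30542
def n22707 : Q := act 1 n17759
theorem D22707 : act 1 n17759 = n22707 := rfl
theorem F44682 : act 0 n22707 = n22707 := d0_1 D22707 (iv D22707) (iv D17759) (iv D13042) F18503 F9167 (iv F18503) D13042 D17759
theorem F44683 : act 3 n22707 = n22666 := d7_2 F35433 D22707 (iv D22666)
theorem F44684 : act 4 n22707 = n22666 := d8_2 F35431 D22707 (iv D22666)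
theorem F44685 : act 5 n22707 = n22666 := d9_2 F35419 D22707 (iv D22666) D22668 F44577
theorem F44686 : act 6 n22707 = n22666 := d10_2 F44525 D22707 (iv D22666) (iv F35416) (iv F44522)
def n22708 : Q := act 2 n17759
theorem D22708 : act 2 n17759 = n22708 := rfl
theorem F44687 : act 0 n22708 = n17760 := d1_1 D22708 (iv D17760) D17759
theorem F44688 : act 4 n22708 = n22667 := d12_2 F35431 D22708 (iv D22667)
theorem F44689 : act 1 n22708 = n22667 := d23_2 F35419 D22708 F44571 D22669 F44578 F35410 (iv D13029) D13031 (iv F31019) (iv F44394) (iv D22617) (iv F44397) F44395 (iv D17812) F35405 (iv F35406) (iv D13062) D13061 D17801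
theorem F44690 : act 2 n22707 = n22666 := d6_2 (iv D22708) D22707 (iv D22666) D22667 (iv F44689)
theorem F44691 : act 3 n19877 = n22708 := d7_0 F44689 (iv F44572) (iv F37520)
def n22709 : Q := act 2 n17780
theorem D22709 : act 2 n17780 = n22709 := rfl
def n22710 : Q := act 5 n17780
theorem D22710 : act 5 n17780 = n22710 := rfl
theorem F44692 : act 0 n22710 = n22663 := d4_1 D22710 (iv F44641) (iv F44642)
theorem F44693 : act 1 n22710 = n22671 := d9_1 D22710 F44587 (iv D17814) F22880 D17780
theorem F44694 : act 3 n22710 = n22694 := d16_1 D22710 F44641 F44561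
theorem F44695 : act 4 n22710 = n22694 := d18_1 D22710 F44641 F44562
theorem F44696 : act 6 n22710 = n22658 := d22_1 D22710 F44547 D22694 (iv F44642)
def n22711 : Q := act 1 n17781
theorem D22711 : act 1 n17781 = n22711 := rfl
theorem F44697 : act 5 n22711 = n19414 := d9_2 F31100 D22711 (iv D19414) D19417 F36342
def n22712 : Q := act 3 n17781
theorem D22712 : act 3 n17781 = n22712 := rfl
theorem F44698 : act 0 n22712 = n17782 := d2_1 D22712 (iv D17782) (iv F31066)
theorem F44699 : act 6 n22712 = n17806 := d17_2 (iv F31067) D22712 (iv D17806)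
def n22713 : Q := act 2 n17782
theorem D22713 : act 2 n17782 = n22713 := rfl
theorem F44700 : act 6 n22713 = n17809 := d14_2 (iv F31068) D22713 (iv D17809)
theorem F44701 : act 3 n22713 = n20512 := d21_7 F44569 (iv D22665) (iv D17584) (iv F34412) D13052 D17782 D22713 F38936
def n22714 : Q := act 4 n17782
theorem D22714 : act 4 n17782 = n22714 := rfl
theorem F44702 : act 6 n22714 = n17810 := d19_2 (iv F31068) D22714 (iv D17810)
def n22715 : Q := act 2 n17801
theorem D22715 : act 2 n17801 = n22715 := rfl
theorem F44703 : act 0 n22715 = n17802 := d1_1 D22715 (iv D17802) D17801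
theorem F44704 : act 5 n22715 = n22708 := d13_2 (iv F35419) D22715 (iv D22708)
theorem F44705 : act 6 n22715 = n19635 := d14_2 F44535 D22715 (iv F44532)
theorem F44706 : act 1 n22715 = n19403 := d23_2 (iv F35419) D22715 (iv D19403) (iv F36301) F36299 (iv D14173) F19631 (iv D10822) (iv D7800) F5731 F16581 F4332 D2778 D5758 D10349 D12867 F22529 D13042 D17759
theorem F44707 : act 3 n19645 = n22715 := d7_0 F44706 F36307 D19645
def n22716 : Q := act 1 n17802
theorem D22716 : act 1 n17802 = n22716 := rfl
theorem F44708 : act 2 n22716 = n17805 := d6_2 D17802 D22716 (iv D17805) (iv D13062) D13061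
def n22717 : Q := act 6 n17802
theorem D22717 : act 6 n17802 = n22717 := rfl
theorem F44709 : act 0 n22717 = n19635 := d5_1 D22717 (iv F44705) F44703
theorem F44710 : act 2 n22717 = n17804 := d14_1 D22717 (iv D17804) D17802
theorem F44711 : act 3 n22717 = n19647 := d17_1 D22717 (iv F37524) F37523
theorem F44712 : act 4 n22717 = n19640 := d19_1 D22717 F44581 F44580
theorem F44713 : act 1 n19631 = n22717 := d24_14 (iv D22717) F35420 F37445 D19840 F37461 (iv F37650) (iv D19927) (iv F36203) (iv D19366) (iv F36187) F36186 (iv F36277) F36278 D19631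
def n22718 : Q := act 0 n17805
theorem D22718 : act 0 n17805 = n22718 := rfl
theorem F44714 : act 4 n22718 = n19621 := d3_2 F44662 D22718 F44663
def n22719 : Q := act 3 n17805
theorem D22719 : act 3 n17805 = n22719 := rfl
theorem F44715 : act 1 n22719 = n17806 := d7_1 D22719 (iv D17806) D17805
def n22720 : Q := act 5 n17805
theorem D22720 : act 5 n17805 = n22720 := rfl
theorem F44716 : act 1 n22720 = n22635 := d9_1 D22720 (iv D22635) F30542 (iv F35406) D17805
def n22721 : Q := act 6 n17805
theorem D22721 : act 6 n17805 = n22721 := rfl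
def n22722 : Q := act 2 n17806
theorem D22722 : act 2 n17806 = n22722 := rfl
theorem F44717 : act 0 n22722 = n17809 := d1_1 D22722 (iv D17809) (iv F31091)
theorem F44718 : act 3 n22722 = n20509 := d11_2 D17806 D22722 F39834 (iv D17734) (iv D13030) F18499 D10474 D13064 D17809 F39832 (iv F38934) F39828 (iv D17732) F22842 D13062
theorem F44719 : act 5 n22722 = n20504 := d13_2 F35427 D22722 F39830
def n22723 : Q := act 4 n17806
theorem D22723 : act 4 n17806 = n22723 := rfl
theorem F44720 : act 0 n22723 = n17810 := d3_1 D22723 (iv D17810) (iv F31091)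
theorem F44721 : act 5 n22723 = n22704 := d18_2 F35427 D22723 (iv D22704)
def n22724 : Q := act 4 n17809
theorem D22724 : act 4 n17809 = n22724 := rfl
theorem F44722 : act 2 n22724 = n17810 := d12_1 D22724 (iv D17810) D17809
theorem F44723 : act 5 n22724 = n20503 := d18_2 (iv F39833) D22724 F38923
def n22725 : Q := act 5 n17810
theorem D22725 : act 5 n17810 = n22725 := rfl
theorem F44724 : act 0 n22725 = n22704 := d4_1 D22725 (iv F44721) F44720
theorem F44725 : act 2 n22725 = n20503 := d13_1 D22725 (iv F44723) F44722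
theorem F44726 : act 4 n22725 = n17811 := d18_1 D22725 (iv D17811) D17810
def n22726 : Q := act 1 n17811
theorem D22726 : act 1 n17811 = n22726 := rfl
theorem F44727 : act 2 n22726 = n18173 := d6_2 (iv F39829) D22726 F31771 F26469 D15193
theorem F44728 : act 3 n22726 = n17812 := d7_2 (iv F31096) D22726 (iv D17812)
theorem F44729 : act 5 n22726 = n17826 := d9_2 D17811 D22726 (iv D17826) (iv D13074) (iv F22877)
theorem F44730 : act 0 n17826 = n22726 := d22_4 F44729 F43594 F43592 (iv F43594)
theorem F44731 : act 6 n18172 = n22726 := d22_1 F31770 F44729 F43594 F43590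
def n22727 : Q := act 6 n17811
theorem D22727 : act 6 n17811 = n22727 := rfl
theorem F44732 : act 0 n22727 = n22705 := d5_1 D22727 (iv D22705) (iv F35428)
theorem F44733 : act 1 n22727 = n18262 := d10_1 D22727 (iv D18262) (iv F31769) F44731 (iv D22726)
theorem F44734 : act 2 n22727 = n19847 := d14_1 D22727 F37479 (iv F39829)
theorem F44735 : act 3 n22727 = n17813 := d17_1 D22727 (iv D17813) (iv F31096)
theorem F44736 : act 5 n22727 = n22712 := d20_1 D22727 F44699 (iv F35427) D22705 F44677 F31068 D17811
def n22728 : Q := act 6 n17812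
theorem D22728 : act 6 n17812 = n22728 := rfl
theorem F44737 : act 0 n22728 = n17828 := d5_1 D22728 (iv D17828) (iv F33013)
theorem F44738 : act 1 n22728 = n18261 := d10_1 D22728 (iv F36341) F36342 (iv D17813) D17812
theorem F44739 : act 2 n22728 = n22517 := d14_1 D22728 (iv F44399) F44395
theorem F44740 : act 3 n22728 = n18172 := d17_1 D22728 F44731 F44728
theorem F44741 : act 4 n22728 = n22517 := d19_1 D22728 (iv F44399) F44396
theorem F44742 : act 5 n22728 = n22728 := d20_1 D22728 (iv D22728) F31097 D17828 F33014 (iv D17828) (iv F31097)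
def n22729 : Q := act 0 n17820
theorem D22729 : act 0 n17820 = n22729 := rfl
theorem F44743 : act 2 n22729 = n17822 := d1_2 (iv F31108) D22729 (iv D17822)
theorem F44744 : act 3 n22729 = n20031 := d2_2 (iv F35360) D22729 F37840
theorem F44745 : act 4 n22729 = n18692 := d3_2 F33017 D22729 (iv D18692)
theorem F44746 : act 5 n22729 = n19937 := d4_2 F35361 D22729 (iv D19937)
theorem F44747 : act 6 n19892 = n22729 := d22_3 (iv F35361) (iv F37675) F37674 (iv D22729)
def n22730 : Q := act 6 n17820
theorem D22730 : act 6 n17820 = n22730 := rfl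
theorem F44748 : act 0 n22730 = n19892 := d5_1 D22730 F44747 (iv D22729)
theorem F44749 : act 1 n22730 = n22696 := d10_1 D22730 F44654 F33407 F32916 D17820
theorem F44750 : act 2 n22730 = n17824 := d14_1 D22730 (iv D17824) (iv F31108)
theorem F44751 : act 3 n22730 = n20033 := d17_1 D22730 (iv D20033) (iv F35360)
theorem F44752 : act 4 n22730 = n18693 := d19_1 D22730 (iv D18693) F33017
theorem F44753 : act 5 n22730 = n18695 := d20_1 D22730 (iv F37680) (iv F44746) (iv F44747) (iv F37674) F37675 F35361
def n22731 : Q := act 1 n17822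
theorem D22731 : act 1 n17822 = n22731 := rfl
theorem F44754 : act 5 n22731 = n22731 := d9_2 (iv F36331) D22731 (iv D22731) F36331 F36328
def n22732 : Q := act 6 n17822
theorem D22732 : act 6 n17822 = n22732 := rfl
theorem F44755 : act 0 n22732 = n17824 := d5_1 D22732 (iv D17824) D17822
theorem F44756 : act 2 n22732 = n19892 := d14_1 D22732 F44747 F44743
theorem F44757 : act 4 n22732 = n19918 := d19_1 D22732 (iv F38019) F38018
theorem F44758 : act 5 n22732 = n19412 := d20_1 D22732 (iv F36326) (iv D17823) D17824 F35213 D19413 (iv F36331)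
def n22733 : Q := act 1 n17825
theorem D22733 : act 1 n17825 = n22733 := rfl
theorem F44759 : act 4 n22733 = n17826 := d8_2 (iv F31112) D22733 (iv D17826)
def n22734 : Q := act 2 n18155
theorem D22734 : act 2 n18155 = n22734 := rfl
theorem F44760 : act 1 n22734 = n18202 := d6_1 D22734 (iv D18202) (iv D13317) (iv F23339) D18155
theorem F44761 : act 4 n22734 = n18169 := d12_2 (iv F31736) D22734 (iv D18169)
theorem F44762 : act 6 n22734 = n22734 := d14_2 F31737 D22734 (iv D22734)
theorem F44763 : act 3 n21800 = n22734 := d15_5 F44761 (iv F44637) F44638 (iv D22458) (iv F42269)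
def n22735 : Q := act 5 n18155
theorem D22735 : act 5 n18155 = n22735 := rfl
theorem F44764 : act 1 n22735 = n20548 := d9_1 D22735 (iv D20548) F34440 (iv F23341) D18155
theorem F44765 : act 4 n22735 = n18170 := d18_1 D22735 (iv D18170) (iv F31736)
def n22736 : Q := act 2 n18156
theorem D22736 : act 2 n18156 = n22736 := rfl
theorem F44766 : act 1 n22736 = n18207 := d6_1 D22736 (iv D18207) (iv D13320) (iv F23343) D18156
theorem F44767 : act 4 n22736 = n18172 := d12_2 (iv F31738) D22736 (iv D18172)
theorem F44768 : act 5 n22736 = n22736 := d13_2 F31739 D22736 (iv D22736)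
theorem F44769 : act 3 n21852 = n22736 := d15_5 F44767 (iv F44740) F44741 (iv D22517) (iv F42388)
def n22737 : Q := act 6 n18156
theorem D22737 : act 6 n18156 = n22737 := rfl
theorem F44770 : act 1 n22737 = n20502 := d10_1 D22737 (iv D20502) F29020 (iv F23345) D18156
theorem F44771 : act 4 n22737 = n18173 := d19_1 D22737 (iv D18173) (iv F31738)
def n22738 : Q := act 5 n18174
theorem D22738 : act 5 n18174 = n22738 := rfl
theorem F44772 : act 0 n22738 = n18178 := d4_1 D22738 (iv D18178) (iv F31773)
theorem F44773 : act 2 n22738 = n20123 := d13_1 D22738 (iv D20123) (iv F31776)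
theorem F44774 : act 3 n22738 = n18175 := d16_1 D22738 (iv D18175) D18174
theorem F44775 : act 4 n22738 = n18699 := d18_1 D22738 (iv D18699) (iv F31775)
def n22739 : Q := act 6 n18174
theorem D22739 : act 6 n18174 = n22739 := rfl
theorem F44776 : act 0 n22739 = n18179 := d5_1 D22739 (iv D18179) (iv F31773)
theorem F44777 : act 2 n22739 = n20124 := d14_1 D22739 (iv D20124) (iv F31776)
theorem F44778 : act 3 n22739 = n18176 := d17_1 D22739 (iv D18176) D18174
theorem F44779 : act 4 n22739 = n18700 := d19_1 D22739 (iv D18700) (iv F31775)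
def n22740 : Q := act 6 n18178
theorem D22740 : act 6 n18178 = n22740 := rfl
theorem F44780 : act 2 n22740 = n20126 := d14_1 D22740 (iv D20126) (iv F31787)
theorem F44781 : act 3 n22740 = n18180 := d17_1 D22740 (iv D18180) (iv F31788)
theorem F44782 : act 4 n22740 = n18704 := d19_1 D22740 (iv D18704) (iv F31789)
theorem F44783 : act 5 n22740 = n22739 := d22_2 D18178 D22740 (iv D22739) F31773
def n22741 : Q := act 5 n18179
theorem D22741 : act 5 n18179 = n22741 := rfl
theorem F44784 : act 0 n22741 = n22740 := d4_1 D22741 F44783 F44776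
theorem F44785 : act 2 n22741 = n20128 := d13_1 D22741 (iv D20128) (iv F31790)
theorem F44786 : act 3 n22741 = n18182 := d16_1 D22741 (iv D18182) (iv F31791)
theorem F44787 : act 4 n22741 = n18706 := d18_1 D22741 (iv D18706) (iv F31792)
theorem F44788 : act 6 n22741 = n22738 := d20_2 D18179 D22741 (iv D22738) D22739 (iv F44783) (iv D22740) (iv D18178)
def n22742 : Q := act 1 n18180
theorem D22742 : act 1 n18180 = n22742 := rfl
theorem F44789 : act 4 n22742 = n18226 := d8_2 (iv F31793) D22742 (iv D18226)
def n22743 : Q := act 1 n18182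
theorem D22743 : act 1 n18182 = n22743 := rfl
theorem F44790 : act 4 n22743 = n18230 := d8_2 (iv F31798) D22743 (iv D18230)
def n22744 : Q := act 0 n18183
theorem D22744 : act 0 n18183 = n22744 := rfl
theorem F44791 : act 3 n22744 = n18185 := d2_2 (iv F31800) D22744 (iv D18185)
theorem F44792 : act 4 n22744 = n18715 := d3_2 (iv F31801) D22744 (iv D18715)
def n22745 : Q := act 2 n18183
theorem D22745 : act 2 n18183 = n22745 := rfl
theorem F44793 : act 1 n22745 = n20112 := d6_1 D22745 (iv D20112) (iv D14918) (iv F23376) D18183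
theorem F44794 : act 4 n22745 = n18716 := d12_2 (iv F31801) D22745 (iv D18716)
def n22746 : Q := act 6 n18183
theorem D22746 : act 6 n18183 = n22746 := rfl
theorem F44795 : act 3 n22746 = n18186 := d17_1 D22746 (iv D18186) (iv F31800)
theorem F44796 : act 4 n22746 = n18717 := d19_1 D22746 (iv D18717) (iv F31801)
def n22747 : Q := act 0 n18184
theorem D22747 : act 0 n18184 = n22747 := rfl
theorem F44797 : act 3 n22747 = n18187 := d2_2 (iv F31802) D22747 (iv D18187)
theorem F44798 : act 4 n22747 = n18718 := d3_2 (iv F31803) D22747 (iv D18718)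
def n22748 : Q := act 2 n18184
theorem D22748 : act 2 n18184 = n22748 := rfl
theorem F44799 : act 1 n22748 = n20115 := d6_1 D22748 (iv D20115) (iv D14920) (iv F23380) D18184
theorem F44800 : act 4 n22748 = n18719 := d12_2 (iv F31803) D22748 (iv D18719)
def n22749 : Q := act 5 n18184
theorem D22749 : act 5 n18184 = n22749 := rfl
theorem F44801 : act 3 n22749 = n18189 := d16_1 D22749 (iv D18189) (iv F31802)
theorem F44802 : act 4 n22749 = n18720 := d18_1 D22749 (iv D18720) (iv F31803)
def n22750 : Q := act 1 n18185
theorem D22750 : act 1 n18185 = n22750 := rfl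
theorem F44803 : act 4 n22750 = n18231 := d8_2 (iv F31804) D22750 (iv D18231)
def n22751 : Q := act 6 n18185
theorem D22751 : act 6 n18185 = n22751 := rfl
theorem F44804 : act 0 n22751 = n18186 := d5_1 D22751 (iv D18186) D18185
theorem F44805 : act 2 n22751 = n19960 := d14_1 D22751 F37723 F37474
theorem F44806 : act 4 n22751 = n18232 := d19_1 D22751 (iv D18232) (iv F31804)
theorem F44807 : act 5 n22751 = n19958 := d22_2 F37701 D22751 (iv D19958) (iv F37698)
def n22752 : Q := act 5 n18186
theorem D22752 : act 5 n18186 = n22752 := rfl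
theorem F44808 : act 0 n22752 = n19958 := d4_1 D22752 (iv F44807) F44804
theorem F44809 : act 2 n22752 = n19950 := d13_1 D22752 F37704 F37476
theorem F44810 : act 4 n22752 = n18233 := d18_1 D22752 (iv D18233) (iv F31805)
theorem F44811 : act 6 n22752 = n19949 := d20_2 D18186 D22752 F37701 D22751 F44807 (iv D19958) F29025
theorem F44812 : act 1 n18890 = n22752 := d8_3 F44810 F35728 (iv F33819)
def n22753 : Q := act 1 n18187
theorem D22753 : act 1 n18187 = n22753 := rfl
theorem F44813 : act 4 n22753 = n18234 := d8_2 (iv F31806) D22753 (iv D18234)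
def n22754 : Q := act 5 n18187
theorem D22754 : act 5 n18187 = n22754 := rfl
theorem F44814 : act 0 n22754 = n18189 := d4_1 D22754 (iv D18189) D18187
theorem F44815 : act 2 n22754 = n20014 := d13_1 D22754 F37819 F37507
theorem F44816 : act 4 n22754 = n18236 := d18_1 D22754 (iv D18236) (iv F31806)
theorem F44817 : act 6 n22754 = n20012 := d22_1 D22754 (iv D20012) F34381 D18187
def n22755 : Q := act 6 n18189
theorem D22755 : act 6 n18189 = n22755 := rfl
theorem F44818 : act 0 n22755 = n20012 := d5_1 D22755 (iv F44817) F44814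
theorem F44819 : act 2 n22755 = n20005 := d14_1 D22755 F37803 F37509
theorem F44820 : act 4 n22755 = n18239 := d19_1 D22755 (iv D18239) (iv F31808)
theorem F44821 : act 5 n22755 = n20004 := d20_1 D22755 F37800 D22754 F44817 (iv D20012) F34381 D18189
theorem F44822 : act 1 n18843 = n22755 := d8_3 F44820 F35690 (iv F33732)
def n22756 : Q := act 6 n18190
theorem D22756 : act 6 n18190 = n22756 := rfl
theorem F44823 : act 0 n22756 = n21414 := d5_1 D22756 F41420 F33532
theorem F44824 : act 1 n22756 = n21433 := d10_1 D22756 (iv F41462) (iv D20117) F25954 D18190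
theorem F44825 : act 3 n22756 = n20109 := d17_1 D22756 (iv D20109) (iv F31809)
theorem F44826 : act 4 n22756 = n18734 := d19_1 D22756 (iv D18734) (iv F31810)
def n22757 : Q := act 5 n18191
theorem D22757 : act 5 n18191 = n22757 := rfl
theorem F44827 : act 0 n22757 = n21340 := d4_1 D22757 (iv F41283) F33543
theorem F44828 : act 1 n22757 = n21364 := d9_1 D22757 (iv F41336) (iv D20114) F25946 D18191
theorem F44829 : act 3 n22757 = n20111 := d16_1 D22757 (iv D20111) (iv F31812)
theorem F44830 : act 4 n22757 = n18737 := d18_1 D22757 (iv D18737) (iv F31813)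
def n22758 : Q := act 1 n18194
theorem D22758 : act 1 n18194 = n22758 := rfl
theorem F44831 : act 3 n22758 = n18200 := d7_2 (iv F31823) D22758 (iv D18200)
theorem F44832 : act 4 n22758 = n18739 := d8_2 (iv F31824) D22758 (iv D18739)
theorem F44833 : act 6 n22758 = n18195 := d10_2 D18194 D22758 (iv D18195) (iv D13312) D13311
def n22759 : Q := act 0 n18195
theorem D22759 : act 0 n18195 = n22759 := rfl
theorem F44834 : act 3 n22759 = n18201 := d2_2 (iv F31825) D22759 (iv D18201)
theorem F44835 : act 4 n22759 = n18740 := d3_2 (iv F31826) D22759 (iv D18740)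
def n22760 : Q := act 2 n18195
theorem D22760 : act 2 n18195 = n22760 := rfl
theorem F44836 : act 4 n22760 = n18741 := d12_2 (iv F31826) D22760 (iv D18741)
def n22761 : Q := act 5 n18195
theorem D22761 : act 5 n18195 = n22761 := rfl
theorem F44837 : act 1 n22761 = n22749 := d9_1 D22761 (iv D22749) (iv D18184) (iv F23398) D18195
theorem F44838 : act 3 n22761 = n18203 := d16_1 D22761 (iv D18203) (iv F31825)
theorem F44839 : act 4 n22761 = n18742 := d18_1 D22761 (iv D18742) (iv F31826)
def n22762 : Q := act 1 n18198
theorem D22762 : act 1 n18198 = n22762 := rfl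
theorem F44840 : act 3 n22762 = n18205 := d7_2 (iv F31835) D22762 (iv D18205)
theorem F44841 : act 4 n22762 = n18744 := d8_2 (iv F31836) D22762 (iv D18744)
theorem F44842 : act 5 n22762 = n18199 := d9_2 D18198 D22762 (iv D18199) (iv D13314) D13313
def n22763 : Q := act 0 n18199
theorem D22763 : act 0 n18199 = n22763 := rfl
theorem F44843 : act 3 n22763 = n18206 := d2_2 (iv F31837) D22763 (iv D18206)
theorem F44844 : act 4 n22763 = n18745 := d3_2 (iv F31838) D22763 (iv D18745)
def n22764 : Q := act 2 n18199
theorem D22764 : act 2 n18199 = n22764 := rfl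
theorem F44845 : act 4 n22764 = n18746 := d12_2 (iv F31838) D22764 (iv D18746)
def n22765 : Q := act 6 n18199
theorem D22765 : act 6 n18199 = n22765 := rfl
theorem F44846 : act 1 n22765 = n22746 := d10_1 D22765 (iv D22746) (iv D18183) (iv F23405) D18199
theorem F44847 : act 3 n22765 = n18208 := d17_1 D22765 (iv D18208) (iv F31837)
theorem F44848 : act 4 n22765 = n18747 := d19_1 D22765 (iv D18747) (iv F31838)
def n22766 : Q := act 0 n18200
theorem D22766 : act 0 n18200 = n22766 := rfl
theorem F44849 : act 4 n22766 = n18242 := d3_2 (iv F31839) D22766 (iv D18242)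
theorem F44850 : act 6 n22766 = n18201 := d5_2 (iv F31840) D22766 (iv D18201)
def n22767 : Q := act 2 n18200
theorem D22767 : act 2 n18200 = n22767 := rfl
theorem F44851 : act 1 n22767 = n22767 := d6_1 D22767 (iv D22767) (iv D18200) F23409 D18200
theorem F44852 : act 4 n22767 = n18243 := d12_2 (iv F31839) D22767 (iv D18243)
theorem F44853 : act 6 n22767 = n18202 := d14_2 (iv F31840) D22767 (iv D18202)
theorem F44854 : act 5 n19383 = n22767 := d18_0 F44852 (iv F35980) D19383
def n22768 : Q := act 5 n18200
theorem D22768 : act 5 n18200 = n22768 := rfl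
theorem F44855 : act 2 n22768 = n19383 := d13_1 D22768 F44854 (iv D22767)
theorem F44856 : act 4 n22768 = n18244 := d18_1 D22768 (iv D18244) (iv F31839)
def n22769 : Q := act 1 n18201
theorem D22769 : act 1 n18201 = n22769 := rfl
theorem F44857 : act 4 n22769 = n18245 := d8_2 (iv F31841) D22769 (iv D18245)
theorem F44858 : act 5 n18877 = n22769 := d18_0 F44857 F31930 (iv F33795)
def n22770 : Q := act 2 n18201
theorem D22770 : act 2 n18201 = n22770 := rfl
theorem F44859 : act 0 n22770 = n18202 := d1_1 D22770 (iv D18202) D18201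
theorem F44860 : act 4 n22770 = n18246 := d12_2 (iv F31841) D22770 (iv D18246)
def n22771 : Q := act 5 n18201
theorem D22771 : act 5 n18201 = n22771 := rfl
theorem F44861 : act 0 n22771 = n18203 := d4_1 D22771 (iv D18203) D18201
theorem F44862 : act 1 n22771 = n18779 := d9_1 D22771 F33614 (iv F33794) F44858 (iv D22769)
theorem F44863 : act 4 n22771 = n18247 := d18_1 D22771 (iv D18247) (iv F31841)
theorem F44864 : act 6 n22771 = n22768 := d22_1 D22771 (iv D22768) F31840 D18201
def n22772 : Q := act 3 n18202
theorem D22772 : act 3 n18202 = n22772 := rfl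
theorem F44865 : act 1 n22772 = n21800 := d7_1 D22772 F44763 F44760
theorem F44866 : act 2 n20457 = n22772 := d6_0 F44865 (iv D21800) (iv D16459) (iv F26379) D20457
theorem F44867 : act 4 n22455 = n22772 := d8_0 F44865 F42269 (iv F43945)
def n22773 : Q := act 5 n18202
theorem D22773 : act 5 n18202 = n22773 := rfl
theorem F44868 : act 2 n22773 = n18203 := d13_1 D22773 (iv D18203) D18202
theorem F44869 : act 4 n22773 = n18249 := d18_1 D22773 (iv D18249) (iv F31842)
def n22774 : Q := act 6 n18203
theorem D22774 : act 6 n18203 = n22774 := rfl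
theorem F44870 : act 0 n22774 = n22768 := d5_1 D22774 (iv F44864) F44861
theorem F44871 : act 4 n22774 = n18250 := d19_1 D22774 (iv D18250) (iv F31844)
theorem F44872 : act 5 n22774 = n22766 := d20_1 D22774 F44850 D22771 F44864 (iv D22768) F31840 D18203
def n22775 : Q := act 0 n18205
theorem D22775 : act 0 n18205 = n22775 := rfl
theorem F44873 : act 4 n22775 = n18255 := d3_2 (iv F31846) D22775 (iv D18255)
theorem F44874 : act 5 n22775 = n18206 := d4_2 (iv F31847) D22775 (iv D18206)
def n22776 : Q := act 2 n18205
theorem D22776 : act 2 n18205 = n22776 := rfl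
theorem F44875 : act 1 n22776 = n22776 := d6_1 D22776 (iv D22776) (iv D18205) F23415 D18205
theorem F44876 : act 4 n22776 = n18256 := d12_2 (iv F31846) D22776 (iv D18256)
theorem F44877 : act 5 n22776 = n18207 := d13_2 (iv F31847) D22776 (iv D18207)
theorem F44878 : act 6 n19419 = n22776 := d19_0 F44876 (iv F36126) D19419
def n22777 : Q := act 6 n18205
theorem D22777 : act 6 n18205 = n22777 := rfl
theorem F44879 : act 2 n22777 = n19419 := d14_1 D22777 F44878 (iv D22776)
theorem F44880 : act 4 n22777 = n18257 := d19_1 D22777 (iv D18257) (iv F31846)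
def n22778 : Q := act 1 n18206
theorem D22778 : act 1 n18206 = n22778 := rfl
theorem F44881 : act 4 n22778 = n18258 := d8_2 (iv F31848) D22778 (iv D18258)
theorem F44882 : act 6 n18830 = n22778 := d19_0 F44881 (iv F31951) (iv F33708)
def n22779 : Q := act 2 n18206
theorem D22779 : act 2 n18206 = n22779 := rfl
theorem F44883 : act 0 n22779 = n18207 := d1_1 D22779 (iv D18207) D18206
theorem F44884 : act 4 n22779 = n18259 := d12_2 (iv F31848) D22779 (iv D18259)
def n22780 : Q := act 6 n18206
theorem D22780 : act 6 n18206 = n22780 := rfl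
theorem F44885 : act 0 n22780 = n18208 := d5_1 D22780 (iv D18208) D18206
theorem F44886 : act 1 n22780 = n18761 := d10_1 D22780 F33586 (iv F33707) F44882 (iv D22778)
theorem F44887 : act 4 n22780 = n18260 := d19_1 D22780 (iv D18260) (iv F31848)
theorem F44888 : act 5 n22780 = n22777 := d22_2 F44874 D22780 (iv D22777) D22775
def n22781 : Q := act 3 n18207
theorem D22781 : act 3 n18207 = n22781 := rfl
theorem F44889 : act 1 n22781 = n21852 := d7_1 D22781 F44769 F44766
theorem F44890 : act 2 n20476 = n22781 := d6_0 F44889 (iv D21852) (iv D16492) (iv F26405) D20476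
theorem F44891 : act 4 n22514 = n22781 := d8_0 F44889 F42388 (iv F44091)
def n22782 : Q := act 6 n18207
theorem D22782 : act 6 n18207 = n22782 := rfl
theorem F44892 : act 2 n22782 = n18208 := d14_1 D22782 (iv D18208) D18207
theorem F44893 : act 4 n22782 = n18262 := d19_1 D22782 (iv D18262) (iv F31849)
def n22783 : Q := act 5 n18208
theorem D22783 : act 5 n18208 = n22783 := rfl
theorem F44894 : act 0 n22783 = n22777 := d4_1 D22783 (iv F44888) F44885
theorem F44895 : act 4 n22783 = n18263 := d18_1 D22783 (iv D18263) (iv F31851)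
theorem F44896 : act 6 n22783 = n22775 := d20_2 D18208 D22783 F44874 D22780 F44888 (iv D22777) F31847
def n22784 : Q := act 1 n18209
theorem D22784 : act 1 n18209 = n22784 := rfl
theorem F44897 : act 3 n22784 = n18216 := d7_2 (iv F31854) D22784 (iv D18216)
theorem F44898 : act 4 n22784 = n18785 := d8_2 (iv F31855) D22784 (iv D18785)
def n22785 : Q := act 1 n18210
theorem D22785 : act 1 n18210 = n22785 := rfl
theorem F44899 : act 2 n22785 = n21156 := d6_2 (iv F31858) D22785 (iv F40873) F33668 F24076
theorem F44900 : act 3 n22785 = n19567 := d7_2 (iv F31859) D22785 F36745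
theorem F44901 : act 4 n22785 = n18786 := d8_2 (iv F31860) D22785 (iv D18786)
theorem F44902 : act 5 n22785 = n19566 := d9_2 F38403 D22785 F36742 D19716 F38404
theorem F44903 : act 6 n22785 = n18786 := d10_2 D18210 D22785 (iv D18786) (iv D13698) (iv F23422)
theorem F44904 : act 0 n22785 = n21156 := d22_4 (iv D21156) D21157 (iv F40879) (iv F44903)
def n22786 : Q := act 1 n18211
theorem D22786 : act 1 n18211 = n22786 := rfl
theorem F44905 : act 3 n22786 = n18217 := d7_2 (iv F31862) D22786 (iv D18217)
theorem F44906 : act 4 n22786 = n18790 := d8_2 (iv F31863) D22786 (iv D18790)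
def n22787 : Q := act 1 n18213
theorem D22787 : act 1 n18213 = n22787 := rfl
theorem F44907 : act 3 n22787 = n18222 := d7_2 (iv F31870) D22787 (iv D18222)
theorem F44908 : act 4 n22787 = n18800 := d8_2 (iv F31871) D22787 (iv D18800)
def n22788 : Q := act 1 n18214
theorem D22788 : act 1 n18214 = n22788 := rfl
theorem F44909 : act 2 n22788 = n21147 := d6_2 (iv F31874) D22788 (iv F40858) F33639 F24055
theorem F44910 : act 3 n22788 = n19562 := d7_2 (iv F31875) D22788 F36723
theorem F44911 : act 4 n22788 = n18801 := d8_2 (iv F31876) D22788 (iv D18801)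
theorem F44912 : act 5 n22788 = n18801 := d9_2 D18214 D22788 (iv D18801) (iv D13706) (iv F23453)
theorem F44913 : act 6 n22788 = n19561 := d10_2 F38458 D22788 F36720 D19703 (iv F38459)
theorem F44914 : act 0 n21147 = n22788 := d5_3 F44913 F36719 D21147
def n22789 : Q := act 1 n18215
theorem D22789 : act 1 n18215 = n22789 := rfl
theorem F44915 : act 3 n22789 = n18223 := d7_2 (iv F31878) D22789 (iv D18223)
theorem F44916 : act 4 n22789 = n18805 := d8_2 (iv F31879) D22789 (iv D18805)
def n22790 : Q := act 0 n18216
theorem D22790 : act 0 n18216 = n22790 := rfl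
theorem F44917 : act 4 n22790 = n18267 := d3_2 (iv F31881) D22790 (iv D18267)
def n22791 : Q := act 2 n18216
theorem D22791 : act 2 n18216 = n22791 := rfl
theorem F44918 : act 1 n22791 = n22791 := d6_1 D22791 (iv D22791) (iv D18216) F23460 D18216
theorem F44919 : act 4 n22791 = n18268 := d12_2 (iv F31881) D22791 (iv D18268)
theorem F44920 : act 5 n19283 = n22791 := d18_0 F44919 F35986 D19283
def n22792 : Q := act 5 n18216
theorem D22792 : act 5 n18216 = n22792 := rfl
theorem F44921 : act 1 n22792 = n22768 := d9_1 D22792 (iv D22768) (iv D18200) (iv F23462) D18216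
theorem F44922 : act 2 n22792 = n19283 := d13_1 D22792 F44920 (iv D22791)
theorem F44923 : act 4 n22792 = n18269 := d18_1 D22792 (iv D18269) (iv F31881)
theorem F44924 : act 6 n18777 = n22792 := d19_0 F44923 (iv F31972) (iv F33609)
def n22793 : Q := act 0 n18217
theorem D22793 : act 0 n18217 = n22793 := rfl
theorem F44925 : act 4 n22793 = n18270 := d3_2 (iv F31882) D22793 (iv D18270)
theorem F44926 : act 1 n18731 = n22793 := d8_3 F44925 F35692 (iv F33527)
def n22794 : Q := act 2 n18217
theorem D22794 : act 2 n18217 = n22794 := rfl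
theorem F44927 : act 1 n22794 = n22794 := d6_1 D22794 (iv D22794) (iv D18217) F23464 D18217
theorem F44928 : act 4 n22794 = n18271 := d12_2 (iv F31882) D22794 (iv D18271)
theorem F44929 : act 5 n22794 = n19289 := d13_2 F33844 D22794 F35959
def n22795 : Q := act 6 n18217
theorem D22795 : act 6 n18217 = n22795 := rfl
theorem F44930 : act 1 n22795 = n21527 := d10_1 D22795 (iv D21527) F28185 (iv F23466) D18217
theorem F44931 : act 4 n22795 = n18272 := d19_1 D22795 (iv D18272) (iv F31882)
def n22796 : Q := act 0 n18222
theorem D22796 : act 0 n18222 = n22796 := rfl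
theorem F44932 : act 4 n22796 = n18282 := d3_2 (iv F31889) D22796 (iv D18282)
def n22797 : Q := act 2 n18222
theorem D22797 : act 2 n18222 = n22797 := rfl
theorem F44933 : act 1 n22797 = n22797 := d6_1 D22797 (iv D22797) (iv D18222) F23469 D18222
theorem F44934 : act 4 n22797 = n18283 := d12_2 (iv F31889) D22797 (iv D18283)
theorem F44935 : act 6 n19340 = n22797 := d19_0 F44934 F36132 D19340
def n22798 : Q := act 6 n18222
theorem D22798 : act 6 n18222 = n22798 := rfl
theorem F44936 : act 1 n22798 = n22777 := d10_1 D22798 (iv D22777) (iv D18205) (iv F23471) D18222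
theorem F44937 : act 2 n22798 = n19340 := d14_1 D22798 F44935 (iv D22797)
theorem F44938 : act 4 n22798 = n18284 := d19_1 D22798 (iv D18284) (iv F31889)
theorem F44939 : act 5 n18759 = n22798 := d18_0 F44938 (iv F31997) (iv F33581)
def n22799 : Q := act 0 n18223
theorem D22799 : act 0 n18223 = n22799 := rfl
theorem F44940 : act 4 n22799 = n18285 := d3_2 (iv F31890) D22799 (iv D18285)
theorem F44941 : act 1 n18725 = n22799 := d8_3 F44940 F35723 (iv F33516)
def n22800 : Q := act 2 n18223
theorem D22800 : act 2 n18223 = n22800 := rfl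
theorem F44942 : act 1 n22800 = n22800 := d6_1 D22800 (iv D22800) (iv D18223) F23473 D18223
theorem F44943 : act 4 n22800 = n18286 := d12_2 (iv F31890) D22800 (iv D18286)
theorem F44944 : act 6 n22800 = n19346 := d14_2 F33761 D22800 F36104
def n22801 : Q := act 5 n18223
theorem D22801 : act 5 n18223 = n22801 := rfl
theorem F44945 : act 1 n22801 = n21688 := d9_1 D22801 (iv D21688) F34634 (iv F23475) D18223
theorem F44946 : act 4 n22801 = n18287 := d18_1 D22801 (iv D18287) (iv F31890)
def n22802 : Q := act 6 n18231
theorem D22802 : act 6 n18231 = n22802 := rfl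
theorem F44947 : act 0 n22802 = n19175 := d5_1 D22802 F35747 F34145
theorem F44948 : act 1 n22802 = n19163 := d10_1 D22802 (iv F35712) F35713 (iv D18232) D18231
theorem F44949 : act 3 n22802 = n19040 := d17_1 D22802 (iv D19040) (iv F31899)
theorem F44950 : act 5 n22802 = n19040 := d22_2 (iv F34142) D22802 (iv D19040) D19037
def n22803 : Q := act 5 n18234
theorem D22803 : act 5 n18234 = n22803 := rfl
theorem F44951 : act 0 n22803 = n19107 := d4_1 D22803 F35613 (iv F34671)
theorem F44952 : act 1 n22803 = n19227 := d9_1 D22803 (iv F35851) (iv F35852) (iv D18236) D18234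
theorem F44953 : act 3 n22803 = n19047 := d16_1 D22803 (iv D19047) (iv F31908)
theorem F44954 : act 6 n22803 = n19047 := d22_1 D22803 (iv D19047) D19048 (iv F34671)
def n22804 : Q := act 5 n18241
theorem D22804 : act 5 n18241 = n22804 := rfl
theorem F44955 : act 0 n22804 = n21526 := d4_1 D22804 F41669 F35771
theorem F44956 : act 2 n22804 = n21533 := d13_1 D22804 (iv F42251) F42248
theorem F44957 : act 3 n22804 = n19056 := d16_1 D22804 F35517 (iv F31918)
theorem F44958 : act 4 n22804 = n21521 := d18_1 D22804 (iv F41672) F41671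
theorem F44959 : act 6 n22804 = n19023 := d20_2 D18241 D22804 (iv F34088) (iv F35773) (iv F41669) (iv D21526) (iv F28184)
theorem F44960 : act 1 n22804 = n19170 := d24_2 D18241 D22804 F35719 F35724 (iv D19102) F24382 F24375 D13890 F31972 (iv D18269) (iv D13362) (iv D10675) (iv F18939) D13348
def n22805 : Q := act 1 n18242
theorem D22805 : act 1 n18242 = n22805 := rfl
theorem F44961 : act 0 n22805 = n19033 := d0_1 D22805 (iv D19033) (iv F24350) (iv F35692) (iv D18270) (iv D13363) F18954 D13349 D18242
theorem F44962 : act 3 n22805 = n19063 := d7_2 (iv F31919) D22805 (iv D19063)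
theorem F44963 : act 5 n22805 = n19034 := d9_2 F31934 D22805 (iv F35684) (iv F35687) F35688
theorem F44964 : act 6 n22805 = n18606 := d10_2 (iv F31920) D22805 F35763 (iv F35762) (iv D18245)
theorem F44965 : act 2 n18607 = n22805 := d23_1 F39526 (iv D22805) (iv D18242) D18244 F35983 F24691 F19609 F19525 (iv D11023) (iv F19472) (iv F24420) F35454 F24476 D13986 F35025 (iv D19028) D19027 (iv F34119) (iv F39523)
def n22806 : Q := act 2 n18242
theorem D22806 : act 2 n18242 = n22806 := rfl
theorem F44966 : act 0 n22806 = n18243 := d1_1 D22806 (iv D18243) D18242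
theorem F44967 : act 3 n22806 = n19381 := d11_2 (iv F31919) D22806 F36240 F24926 D15775 F35977 (iv D13870) (iv F23504) D18243 F35979 F24695 F19782 D11954 D15776 F35969
theorem F44968 : act 5 n22806 = n19379 := d13_2 F31934 D22806 F36235
theorem F44969 : act 6 n22806 = n18246 := d14_2 (iv F31920) D22806 (iv D18246)
def n22807 : Q := act 2 n18245
theorem D22807 : act 2 n18245 = n22807 := rfl
theorem F44970 : act 0 n22807 = n20636 := d1_1 D22807 F39172 F35767
theorem F44971 : act 5 n22807 = n19201 := d13_2 (iv F31930) D22807 F35795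
theorem F44972 : act 6 n22807 = n18605 := d14_2 (iv F35762) D22807 (iv F35764)
theorem F44973 : act 3 n22807 = n20639 := d21_5 (iv F24587) (iv F36129) (iv D19068) (iv F31924) D22807 F43997 F43994 (iv D19267)
def n22808 : Q := act 1 n18246
theorem D22808 : act 1 n18246 = n22808 := rfl
def n22809 : Q := act 4 n18248
theorem D22809 : act 4 n18248 = n22809 := rfl
theorem F44974 : act 1 n22809 = n22458 := d8_1 D22809 (iv F44638) F44635
theorem F44975 : act 2 n22809 = n19477 := d12_1 D22809 F36460 (iv F35982)
theorem F44976 : act 3 n22809 = n22455 := d15_1 D22809 F44867 (iv D22772) F31842 D18248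
theorem F44977 : act 6 n22809 = n19385 := d19_2 F35981 D22809 F36252
def n22810 : Q := act 6 n18253
theorem D22810 : act 6 n18253 = n22810 := rfl
theorem F44978 : act 0 n22810 = n21685 := d5_1 D22810 F42013 F35612
theorem F44979 : act 2 n22810 = n21692 := d14_1 D22810 (iv F42370) F42367
theorem F44980 : act 3 n22810 = n19080 := d17_1 D22810 F35547 (iv F31937)
theorem F44981 : act 4 n22810 = n21679 := d19_1 D22810 (iv F42025) F42024
theorem F44982 : act 5 n22810 = n19029 := d20_1 D22810 (iv F34667) F35611 (iv F42013) (iv D21685) F34637 D18253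
theorem F44983 : act 1 n19232 = n22810 := d24_14 (iv D22810) (iv D18253) (iv D13353) F18945 D10678 D13368 D18284 (iv F31997) (iv D13872) (iv F24361) (iv F24368) D19078 (iv F35693) (iv F35857)
def n22811 : Q := act 1 n18255
theorem D22811 : act 1 n18255 = n22811 := rfl
theorem F44984 : act 0 n22811 = n19025 := d0_1 D22811 (iv D19025) (iv F24344) (iv F35723) (iv D18285) (iv D13369) F18963 D13354 D18255
theorem F44985 : act 3 n22811 = n19087 := d7_2 (iv F31940) D22811 (iv D19087)
theorem F44986 : act 5 n22811 = n18567 := d9_2 (iv F31941) D22811 (iv F35617) F35616 (iv D18258)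
theorem F44987 : act 6 n22811 = n19026 := d10_2 F31955 D22811 (iv F35829) (iv F35835) F35833
theorem F44988 : act 2 n18568 = n22811 := d23_1 D18568 (iv D22811) (iv D18255) F23511 D13356 (iv F31769) (iv F43590) F43592 (iv D22328) (iv D17027) F22198 (iv D11713) (iv D9595) F7072 (iv F7095) D9644 (iv F14588) D11856 F35054
def n22812 : Q := act 2 n18255
theorem D22812 : act 2 n18255 = n22812 := rfl
theorem F44989 : act 0 n22812 = n18256 := d1_1 D22812 (iv D18256) D18255
theorem F44990 : act 3 n22812 = n19418 := d11_2 (iv F31940) D22812 F36344 F24990 D15650 F36122 (iv D13888) (iv F23510) D18256 F36124 F24805 F19820 D11894 D15651 F36115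
theorem F44991 : act 5 n22812 = n18259 := d13_2 (iv F31941) D22812 (iv D18259)
theorem F44992 : act 6 n22812 = n19415 := d14_2 F31955 D22812 F36334
def n22813 : Q := act 2 n18258
theorem D22813 : act 2 n18258 = n22813 := rfl
theorem F44993 : act 0 n22813 = n20598 := d1_1 D22813 (iv F39093) F35621
theorem F44994 : act 5 n22813 = n18565 := d13_2 F35616 D22813 F35618
theorem F44995 : act 6 n22813 = n19134 := d14_2 F31951 D22813 F35646
theorem F44996 : act 3 n22813 = n20601 := d21_5 (iv F24573) (iv F35987) (iv D19092) (iv F31945) D22813 F44137 F44134 (iv D19324)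
def n22814 : Q := act 1 n18259
theorem D22814 : act 1 n18259 = n22814 := rfl
def n22815 : Q := act 4 n18261
theorem D22815 : act 4 n18261 = n22815 := rfl
theorem F44997 : act 1 n22815 = n22517 := d8_1 D22815 (iv F44741) F44738
theorem F44998 : act 2 n22815 = n19520 := d12_1 D22815 F36603 (iv F36133)
theorem F44999 : act 3 n22815 = n22514 := d15_1 D22815 F44891 (iv D22781) F31849 D18261
theorem F45000 : act 5 n22815 = n19422 := d18_2 F36125 D22815 F36354
def n22816 : Q := act 1 n18264
theorem D22816 : act 1 n18264 = n22816 := rfl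
theorem F45001 : act 3 n22816 = n19107 := d7_2 (iv F31958) D22816 (iv D19107)
theorem F45002 : act 4 n22816 = n21532 := d8_2 (iv F31959) D22816 (iv D21532)
theorem F45003 : act 5 n22816 = n19045 := d9_2 (iv F31960) D22816 F34155 D19079 F35542
theorem F45004 : act 6 n22816 = n19107 := d10_2 D18264 D22816 (iv D19107) (iv D13898) (iv F23515)
theorem F45005 : act 0 n19047 = n22816 := d5_3 F45004 (iv F44951) F44954
theorem F45006 : act 2 n21916 = n22816 := d14_3 F45004 F43011 F43010
def n22817 : Q := act 2 n18265
theorem D22817 : act 2 n18265 = n22817 := rfl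
theorem F45007 : act 6 n22817 = n18268 := d14_2 (iv F31962) D22817 (iv D18268)
theorem F45008 : act 3 n19286 = n22817 := d17_3 F45007 F35985 D19286
def n22818 : Q := act 1 n18266
theorem D22818 : act 1 n18266 = n22818 := rfl
theorem F45009 : act 0 n22818 = n18284 := d0_1 D22818 F31995 (iv F31953) (iv F35833) F35832 F24469 (iv F35541) F35542 (iv F31963)
theorem F45010 : act 3 n22818 = n19119 := d7_2 (iv F31965) D22818 (iv D19119)
theorem F45011 : act 4 n22818 = n21500 := d8_2 (iv F31966) D22818 (iv D21500)
theorem F45012 : act 5 n22818 = n19067 := d9_2 D18266 D22818 (iv F35558) F35559 (iv D18265)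
theorem F45013 : act 6 n18282 = n22818 := d20_0 F45012 (iv F35528) F31987 D18284 (iv F31997) D19069 (iv F35530)
theorem F45014 : act 6 n21500 = n22796 := d19_2 F45013 F45011 F44932
theorem F45015 : act 0 n22798 = n21500 := d5_3 F45014 (iv D22796) D22798
theorem F45016 : act 1 n22796 = n21499 := d10_1 F45014 (iv D21499) (iv D16269) D16271 D21500
theorem F45017 : act 2 n19336 = n22818 := d21_6 (iv F35795) (iv F44018) (iv D22483) (iv F34137) (iv F24585) D19336 F45010 F35726
def n22819 : Q := act 1 n18267
theorem D22819 : act 1 n18267 = n22819 := rfl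
theorem F45018 : act 0 n22819 = n19022 := d0_1 D22819 (iv F34094) (iv F35025) (iv D13986) F19494 F12224 (iv F18950) D13362 D18267
theorem F45019 : act 3 n22819 = n19130 := d7_2 (iv F31968) D22819 (iv D19130)
theorem F45020 : act 2 n20834 = n22819 := d23_1 (iv F39970) (iv D22819) (iv D18267) D18269 F35984 F24531 F19523 F17251 D11023 D14037 D19288 F40483 F40481 F35692 F24350 (iv D13846) D13845 (iv F34172) F34171
theorem F45021 : act 5 n19020 = n22819 := d24_1 F35746 (iv D22819) (iv F35561) (iv D19093) (iv D13890) D13892 F24379 (iv F24451) (iv D13963) (iv F24437) (iv D13951) D13952 F24438 D19176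
theorem F45022 : act 4 n22819 = n21658 := d18_1 F45021 (iv D21658) (iv F34576)
theorem F45023 : act 6 n22819 = n20832 := d20_2 F35746 F45021 (iv D20832) F34170 D19022 (iv F35639) (iv F35745)
theorem F45024 : act 1 n21658 = n22790 := d8_1 F45022 F44917 D22819
theorem F45025 : act 5 n22790 = n21660 := d9_2 D21658 F45024 (iv D21660) (iv D16374) D16372
theorem F45026 : act 0 n21660 = n22792 := d4_1 F45025 (iv D22792) D22790
def n22820 : Q := act 2 n18267
theorem D22820 : act 2 n18267 = n22820 := rfl
theorem F45027 : act 0 n22820 = n18268 := d1_1 D22820 (iv D18268) D18267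
theorem F45028 : act 3 n22820 = n19280 := d11_2 (iv F31968) D22820 (iv F36072) (iv F43433) F43435 (iv D19133) (iv D13914) (iv F23520) D18268 F35985 (iv F24578) (iv F35282) D22279 F43439 (iv D19131)
theorem F45029 : act 5 n19279 = n22820 := d23_0 (iv D22820) D22819 F45018 (iv D19022) (iv F34173) F34172 (iv F34452) D14705 F35375 (iv F35692) (iv D18270) (iv F24486) (iv F35479) (iv D14037) (iv F19609) F19611 F19610 (iv F24531) (iv F35947)
def n22821 : Q := act 5 n18267
theorem D22821 : act 5 n18267 = n22821 := rfl
theorem F45030 : act 0 n22821 = n18269 := d4_1 D22821 (iv D18269) D18267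
theorem F45031 : act 1 n22821 = n18280 := d9_1 D22821 (iv F34639) F34572 F45021 (iv D22819)
theorem F45032 : act 2 n22821 = n19279 := d13_1 D22821 F45029 (iv D22820)
theorem F45033 : act 3 n22821 = n19132 := d16_1 D22821 (iv D19132) (iv F31968)
theorem F45034 : act 4 n22821 = n21660 := d18_1 D22821 (iv F45025) F44917
theorem F45035 : act 6 n22821 = n19091 := d20_2 F35561 D22821 F35559 F31962 D18269 (iv F31972) D19093
def n22822 : Q := act 5 n18272
theorem D22822 : act 5 n18272 = n22822 := rfl
theorem F45036 : act 0 n22822 = n19233 := d4_1 D22822 F35860 F35694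
theorem F45037 : act 3 n22822 = n19162 := d16_1 D22822 (iv D19162) (iv F31976)
theorem F45038 : act 6 n22822 = n19232 := d20_2 D18272 D22822 F35857 F35693 (iv F35860) (iv D19233) F24486
def n22823 : Q := act 1 n18274
theorem D22823 : act 1 n18274 = n22823 := rfl
theorem F45039 : act 3 n22823 = n19175 := d7_2 (iv F31980) D22823 (iv D19175)
theorem F45040 : act 4 n22823 = n21691 := d8_2 (iv F35347) D22823 (iv D21691)
theorem F45041 : act 5 n22823 = n19175 := d9_2 D18274 D22823 (iv D19175) (iv D13945) (iv F23522)
theorem F45042 : act 6 n22823 = n19037 := d10_2 F34644 D22823 F34140 D19055 (iv F35512)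
theorem F45043 : act 0 n19040 = n22823 := d5_3 F45042 (iv D19037) D19040
theorem F45044 : act 2 n21913 = n22823 := d14_3 F45042 (iv F34141) D21913
def n22824 : Q := act 2 n18279
theorem D22824 : act 2 n18279 = n22824 := rfl
theorem F45045 : act 5 n22824 = n18283 := d13_2 (iv F31987) D22824 (iv D18283)
theorem F45046 : act 3 n19344 = n22824 := d16_3 F45045 F36131 D19344
def n22825 : Q := act 1 n18282
theorem D22825 : act 1 n18282 = n22825 := rfl
theorem F45047 : act 0 n22825 = n19019 := d0_1 D22825 (iv F34127) F34126 (iv D13938) F19470 F12212 (iv F18959) D13368 D18282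
theorem F45048 : act 3 n22825 = n19198 := d7_2 (iv F31993) D22825 (iv D19198)
theorem F45049 : act 4 n22825 = n21499 := d8_2 F44932 D22825 (iv F45016)
theorem F45050 : act 6 n22825 = n19018 := d10_2 (iv F45013) D22825 (iv F34082) (iv F31967) D22818
theorem F45051 : act 5 n20778 = n22825 := d24_1 D20778 (iv D22825) F45013 F45012 (iv F35558) (iv F45035) (iv D22821) D22819 F45023 (iv D20832) F34168 (iv D13334) D13333 (iv F29230)
theorem F45052 : act 2 n22825 = n20781 := d13_1 F45051 (iv D20781) (iv F39474)
def n22826 : Q := act 2 n18282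
theorem D22826 : act 2 n18282 = n22826 := rfl
theorem F45053 : act 0 n22826 = n18283 := d1_1 D22826 (iv D18283) D18282
theorem F45054 : act 3 n22826 = n19338 := d11_2 (iv F31993) D22826 F36092 (iv F42878) F42880 (iv D19200) (iv D13962) (iv F23527) D18283 F36131 F24589 (iv F29611) D22055 F42884 (iv D19199)
theorem F45055 : act 6 n22826 = n19336 := d14_2 (iv F45013) D22826 F45017
def n22827 : Q := act 6 n18287
theorem D22827 : act 6 n18287 = n22827 := rfl
theorem F45056 : act 0 n22827 = n19171 := d5_1 D22827 (iv F35721) F35725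
theorem F45057 : act 1 n22827 = n22822 := d10_1 D22827 F45038 F44983 (iv D22810) (iv F32000)
theorem F45058 : act 3 n22827 = n19225 := d17_1 D22827 (iv D19225) (iv F32001)
theorem F45059 : act 5 n22827 = n19170 := d20_1 D22827 F35719 F35724 F35721 (iv D19171) F24430 D18287
def n22828 : Q := act 6 n18289
theorem D22828 : act 6 n18289 = n22828 := rfl
theorem F45060 : act 0 n22828 = n21792 := d5_1 D22828 (iv D21792) (iv F32007)
theorem F45061 : act 2 n22828 = n18290 := d14_1 D22828 (iv D18290) D18289
theorem F45062 : act 3 n22828 = n21796 := d17_1 D22828 (iv D21796) F32011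
theorem F45063 : act 4 n22828 = n18317 := d19_1 D22828 (iv D18317) (iv F32009)
def n22829 : Q := act 5 n18292
theorem D22829 : act 5 n18292 = n22829 := rfl
theorem F45064 : act 0 n22829 = n21844 := d4_1 D22829 (iv D21844) F34580
theorem F45065 : act 2 n22829 = n18293 := d13_1 D22829 (iv D18293) D18292
theorem F45066 : act 3 n22829 = n21848 := d16_1 D22829 (iv D21848) F34601
theorem F45067 : act 4 n22829 = n18325 := d18_1 D22829 (iv D18325) (iv F32018)
def n22830 : Q := act 6 n18294
theorem D22830 : act 6 n18294 = n22830 := rfl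
theorem F45068 : act 1 n22830 = n22560 := d10_1 D22830 (iv D22560) (iv F34990) (iv D18296) D18294
theorem F45069 : act 3 n22830 = n19908 := d17_1 D22830 (iv D19908) (iv F32022)
theorem F45070 : act 4 n22830 = n18330 := d19_1 D22830 (iv D18330) (iv F32023)
theorem F45071 : act 5 n22830 = n20081 := d22_2 F37933 D22830 (iv D20081) (iv F37930)
def n22831 : Q := act 6 n18295
theorem D22831 : act 6 n18295 = n22831 := rfl
theorem F45072 : act 0 n22831 = n18298 := d5_1 D22831 (iv D18298) (iv F32024)
theorem F45073 : act 2 n22831 = n18296 := d14_1 D22831 (iv D18296) D18295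
theorem F45074 : act 3 n22831 = n21166 := d17_1 D22831 (iv D21166) F32027
theorem F45075 : act 4 n22831 = n18333 := d19_1 D22831 (iv D18333) (iv F32025)
theorem F45076 : act 5 n22831 = n22828 := d20_1 D22831 (iv D22828) F32010 D18298 (iv F42241) (iv D21792) (iv F32026)
def n22832 : Q := act 5 n18300
theorem D22832 : act 5 n18300 = n22832 := rfl
theorem F45077 : act 1 n22832 = n22500 := d9_1 D22832 (iv D22500) (iv F32408) (iv D18302) D18300
theorem F45078 : act 3 n22832 = n19928 := d16_1 D22832 (iv D19928) F35364
theorem F45079 : act 4 n22832 = n18341 := d18_1 D22832 (iv D18341) (iv F32042)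
theorem F45080 : act 6 n22832 = n20097 := d22_1 D22832 (iv D20097) D20098 F37993
def n22833 : Q := act 5 n18301
theorem D22833 : act 5 n18301 = n22833 := rfl
theorem F45081 : act 0 n22833 = n18304 := d4_1 D22833 (iv D18304) (iv F32043)
theorem F45082 : act 2 n22833 = n18302 := d13_1 D22833 (iv D18302) D18301
theorem F45083 : act 3 n22833 = n21178 := d16_1 D22833 (iv D21178) F34844
theorem F45084 : act 4 n22833 = n18345 := d18_1 D22833 (iv D18345) (iv F32044)
theorem F45085 : act 6 n22833 = n22829 := d20_2 F34582 D22833 (iv D22829) F32019 D18304 (iv F42360) (iv D21844)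
def n22834 : Q := act 6 n18309
theorem D22834 : act 6 n18309 = n22834 := rfl
theorem F45086 : act 0 n22834 = n18311 := d5_1 D22834 (iv D18311) D18309
theorem F45087 : act 2 n22834 = n21491 := d14_1 D22834 (iv D21491) (iv F32071)
theorem F45088 : act 3 n22834 = n18523 := d17_1 D22834 (iv D18523) (iv F32068)
theorem F45089 : act 4 n22834 = n18384 := d19_1 D22834 (iv D18384) (iv F32069)
theorem F45090 : act 5 n22834 = n20689 := d20_1 D22834 (iv D20689) F29254 D18311 (iv F40074) (iv D20871) (iv F32070)
theorem F45091 : act 1 n20846 = n22834 := d24_14 (iv D22834) F32070 F27109 D20659 F39207 (iv F33233) (iv D18581) (iv F33232) (iv D18578) (iv F23817) (iv D13564) D13562 D18585 (iv F40010)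
def n22835 : Q := act 6 n18310
theorem D22835 : act 6 n18310 = n22835 := rfl
theorem F45092 : act 0 n22835 = n21491 := d5_1 D22835 (iv D21491) (iv F32072)
theorem F45093 : act 2 n22835 = n18311 := d14_1 D22835 (iv D18311) D18310
theorem F45094 : act 3 n22835 = n22074 := d17_1 D22835 (iv D22074) (iv F32074)
theorem F45095 : act 4 n22835 = n18385 := d19_1 D22835 (iv D18385) (iv F32075)
theorem F45096 : act 1 n22039 = n22835 := d6_5 F45093 (iv F39663) F29581 D16774 D22039
def n22836 : Q := act 5 n18312
theorem D22836 : act 5 n18312 = n22836 := rfl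
theorem F45097 : act 0 n22836 = n18314 := d4_1 D22836 (iv D18314) D18312
theorem F45098 : act 2 n22836 = n21651 := d13_1 D22836 (iv D21651) F32080
theorem F45099 : act 3 n22836 = n18528 := d16_1 D22836 (iv D18528) (iv F32078)
theorem F45100 : act 4 n22836 = n18392 := d18_1 D22836 (iv D18392) (iv F32079)
theorem F45101 : act 6 n22836 = n20743 := d20_2 F35488 D22836 (iv D20743) F34318 D18314 (iv F40296) (iv D20956)
theorem F45102 : act 1 n22836 = n20795 := d24_2 F35488 D22836 F39848 (iv D18625) (iv D13585) D13587 F23837 D18619 F33308 D18622 F33309 (iv F39313) (iv D20713) (iv F27267)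
def n22837 : Q := act 5 n18313
theorem D22837 : act 5 n18313 = n22837 := rfl
theorem F45103 : act 0 n22837 = n21651 := d4_1 D22837 (iv D21651) (iv F32116)
theorem F45104 : act 2 n22837 = n18314 := d13_1 D22837 (iv D18314) D18313
theorem F45105 : act 3 n22837 = n22288 := d16_1 D22837 (iv D22288) (iv F32118)
theorem F45106 : act 4 n22837 = n18393 := d18_1 D22837 (iv D18393) (iv F32119)
theorem F45107 : act 1 n21995 = n22837 := d6_5 F45104 (iv F39534) F29484 D16698 D21995
def n22838 : Q := act 6 n18316
theorem D22838 : act 6 n18316 = n22838 := rfl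
theorem F45108 : act 0 n22838 = n22448 := d5_1 D22838 (iv D22448) (iv F32127)
theorem F45109 : act 2 n22838 = n18336 := d14_1 D22838 (iv D18336) (iv F32131)
theorem F45110 : act 3 n22838 = n18317 := d17_1 D22838 (iv D18317) D18316
theorem F45111 : act 4 n22838 = n22449 := d19_1 D22838 (iv D22449) (iv F32129)
def n22839 : Q := act 5 n18324
theorem D22839 : act 5 n18324 = n22839 := rfl
theorem F45112 : act 0 n22839 = n22507 := d4_1 D22839 (iv D22507) F34588
theorem F45113 : act 2 n22839 = n18349 := d13_1 D22839 (iv D18349) (iv F34590)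
theorem F45114 : act 3 n22839 = n18325 := d16_1 D22839 (iv D18325) D18324
theorem F45115 : act 4 n22839 = n22508 := d18_1 D22839 (iv D22508) (iv F34589)
def n22840 : Q := act 5 n18331
theorem D22840 : act 5 n18331 = n22840 := rfl
theorem F45116 : act 0 n22840 = n20498 := d4_1 D22840 F38910 F32147
theorem F45117 : act 1 n22840 = n21793 := d9_1 D22840 (iv D21793) (iv F32125) F32124 D18331
theorem F45118 : act 2 n22840 = n20496 := d13_1 D22840 F38907 F38888
theorem F45119 : act 3 n22840 = n21927 := d16_1 D22840 F42556 F32148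
theorem F45120 : act 4 n22840 = n21107 := d18_1 D22840 F40742 (iv F32146)
def n22841 : Q := act 6 n18331
theorem D22841 : act 6 n18331 = n22841 := rfl
theorem F45121 : act 0 n22841 = n21173 := d5_1 D22841 (iv D21173) F32147
theorem F45122 : act 3 n22841 = n21940 := d17_1 D22841 (iv D21940) F32148
theorem F45123 : act 4 n22841 = n21168 := d19_1 D22841 (iv D21168) (iv F32146)
def n22842 : Q := act 6 n18332
theorem D22842 : act 6 n18332 = n22842 := rfl
theorem F45124 : act 0 n22842 = n18336 := d5_1 D22842 (iv D18336) (iv F32149)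
theorem F45125 : act 2 n22842 = n22448 := d14_1 D22842 (iv D22448) (iv F32151)
theorem F45126 : act 3 n22842 = n18333 := d17_1 D22842 (iv D18333) D18332
theorem F45127 : act 4 n22842 = n21939 := d19_1 D22842 (iv D21939) (iv F32152)
theorem F45128 : act 5 n22842 = n22838 := d20_1 D22842 (iv D22838) F32130 D18336 (iv F43925) (iv D22448) (iv F32153)
def n22843 : Q := act 1 n18333
theorem D22843 : act 1 n18333 = n22843 := rfl
theorem F45129 : act 2 n22843 = n22425 := d6_2 (iv F32155) D22843 (iv D22425) F30085 F34989
def n22844 : Q := act 1 n18337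
theorem D22844 : act 1 n18337 = n22844 := rfl
def n22845 : Q := act 2 n18338
theorem D22845 : act 2 n18338 = n22845 := rfl
theorem F45130 : act 0 n22845 = n22631 := d1_1 D22845 (iv D22631) F34999
theorem F45131 : act 6 n22845 = n21026 := d14_2 F37611 D22845 F40495
theorem F45132 : act 3 n22845 = n21028 := d21_1 D22845 F40500 F40492 (iv D21025) F27389 (iv F32840) D17415 F34999
def n22846 : Q := act 5 n18343
theorem D22846 : act 5 n18343 = n22846 := rfl
theorem F45133 : act 0 n22846 = n21185 := d4_1 D22846 (iv D21185) (iv F35259)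
theorem F45134 : act 3 n22846 = n21949 := d16_1 D22846 (iv D21949) (iv F35260)
theorem F45135 : act 4 n22846 = n21180 := d18_1 D22846 (iv D21180) F35258
def n22847 : Q := act 6 n18343
theorem D22847 : act 6 n18343 = n22847 := rfl
theorem F45136 : act 0 n22847 = n20544 := d5_1 D22847 F38989 (iv F35259)
theorem F45137 : act 1 n22847 = n21845 := d10_1 D22847 (iv D21845) F34577 F32137 D18343
theorem F45138 : act 2 n22847 = n20542 := d14_1 D22847 F38986 F38967
theorem F45139 : act 3 n22847 = n21933 := d17_1 D22847 F42572 (iv F35260)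
theorem F45140 : act 4 n22847 = n21114 := d19_1 D22847 F40758 F35258
def n22848 : Q := act 5 n18344
theorem D22848 : act 5 n18344 = n22848 := rfl
theorem F45141 : act 0 n22848 = n18349 := d4_1 D22848 (iv D18349) (iv F32169)
theorem F45142 : act 2 n22848 = n22507 := d13_1 D22848 (iv D22507) F34591
theorem F45143 : act 3 n22848 = n18345 := d16_1 D22848 (iv D18345) D18344
theorem F45144 : act 4 n22848 = n21948 := d18_1 D22848 (iv D21948) F34841
theorem F45145 : act 6 n22848 = n22839 := d20_2 (iv F34587) D22848 (iv D22839) F32139 D18349 (iv F44071) (iv D22507)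
def n22849 : Q := act 1 n18345
theorem D22849 : act 1 n18345 = n22849 := rfl
theorem F45146 : act 2 n22849 = n22234 := d6_2 (iv F32171) D22849 (iv D22234) F29833 F32404
def n22850 : Q := act 1 n18350
theorem D22850 : act 1 n18350 = n22850 := rfl
def n22851 : Q := act 2 n18351
theorem D22851 : act 2 n18351 = n22851 := rfl
theorem F45147 : act 0 n22851 = n22585 := d1_1 D22851 (iv D22585) F32412
theorem F45148 : act 5 n22851 = n20945 := d13_2 F37657 D22851 F40257
theorem F45149 : act 3 n22851 = n20947 := d21_1 D22851 F40262 F40255 (iv D20944) F27228 F32510 D17338 F32412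
def n22852 : Q := act 1 n18361
theorem D22852 : act 1 n18361 = n22852 := rfl
theorem F45150 : act 3 n22852 = n18371 := d7_2 (iv F32202) D22852 (iv D18371)
theorem F45151 : act 4 n22852 = n20745 := d8_2 F39255 D22852 F39365
theorem F45152 : act 6 n22852 = n18362 := d10_2 D18361 D22852 (iv D18362) (iv D13413) D13412
def n22853 : Q := act 0 n18362
theorem D22853 : act 0 n18362 = n22853 := rfl
theorem F45153 : act 3 n22853 = n18372 := d2_2 (iv F32203) D22853 (iv D18372)
theorem F45154 : act 4 n22853 = n20744 := d3_2 (iv F35497) D22853 (iv D20744)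
theorem F45155 : act 5 n22853 = n20746 := d4_2 F35498 D22853 (iv D20746)
def n22854 : Q := act 1 n18365
theorem D22854 : act 1 n18365 = n22854 := rfl
theorem F45156 : act 3 n22854 = n18379 := d7_2 (iv F32210) D22854 (iv D18379)
theorem F45157 : act 4 n22854 = n20691 := d8_2 F39362 D22854 (iv F39360)
theorem F45158 : act 5 n22854 = n18366 := d9_2 D18365 D22854 (iv D18366) (iv D13415) D13414
def n22855 : Q := act 0 n18366
theorem D22855 : act 0 n18366 = n22855 := rfl
theorem F45159 : act 3 n22855 = n18380 := d2_2 (iv F32211) D22855 (iv D18380)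
theorem F45160 : act 4 n22855 = n20690 := d3_2 (iv F32212) D22855 (iv D20690)
theorem F45161 : act 6 n22855 = n20692 := d5_2 (iv F32213) D22855 (iv D20692)
def n22856 : Q := act 6 n18367
theorem D22856 : act 6 n18367 = n22856 := rfl
theorem F45162 : act 2 n22856 = n20670 := d14_1 D22856 (iv D20670) F32216
theorem F45163 : act 4 n22856 = n18493 := d19_1 D22856 (iv D18493) (iv F32214)
def n22857 : Q := act 3 n18368
theorem D22857 : act 3 n18368 = n22857 := rfl
theorem F45164 : act 0 n22857 = n18369 := d2_1 D22857 (iv D18369) (iv F32217)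
theorem F45165 : act 1 n22857 = n20444 := d7_1 D22857 F38791 (iv F32218)
theorem F45166 : act 4 n22857 = n20441 := d15_2 (iv F32219) D22857 (iv D20441) F26364 F28920
theorem F45167 : act 5 n22857 = n18401 := d16_2 (iv F32220) D22857 (iv D18401)
def n22858 : Q := act 6 n18369
theorem D22858 : act 6 n18369 = n22858 := rfl
theorem F45168 : act 3 n22858 = n18370 := d17_1 D22858 (iv D18370) D18369
def n22859 : Q := act 1 n18370
theorem D22859 : act 1 n18370 = n22859 := rfl
theorem F45169 : act 4 n22859 = n18494 := d8_2 (iv F32224) D22859 (iv D18494)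
theorem F45170 : act 6 n22859 = n18755 := d10_2 D18370 D22859 (iv D18755) (iv D13683) (iv F23600)
def n22860 : Q := act 0 n18371
theorem D22860 : act 0 n18371 = n22860 := rfl
theorem F45171 : act 4 n22860 = n18495 := d3_2 (iv F32225) D22860 (iv D18495)
theorem F45172 : act 6 n22860 = n18372 := d5_2 (iv F32226) D22860 (iv D18372)
def n22861 : Q := act 2 n18371
theorem D22861 : act 2 n18371 = n22861 := rfl
theorem F45173 : act 4 n22861 = n18496 := d12_2 (iv F32225) D22861 (iv D18496)
theorem F45174 : act 6 n22861 = n18373 := d14_2 (iv F32226) D22861 (iv D18373)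
def n22862 : Q := act 5 n18371
theorem D22862 : act 5 n18371 = n22862 := rfl
theorem F45175 : act 4 n22862 = n18497 := d18_1 D22862 (iv D18497) (iv F32225)
def n22863 : Q := act 2 n18372
theorem D22863 : act 2 n18372 = n22863 := rfl
theorem F45176 : act 0 n22863 = n18373 := d1_1 D22863 (iv D18373) D18372
theorem F45177 : act 4 n22863 = n18499 := d12_2 (iv F32227) D22863 (iv D18499)
def n22864 : Q := act 5 n18372
theorem D22864 : act 5 n18372 = n22864 := rfl
theorem F45178 : act 0 n22864 = n18374 := d4_1 D22864 (iv D18374) D18372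
theorem F45179 : act 3 n22864 = n20746 := d16_1 D22864 (iv F45155) F45153
theorem F45180 : act 4 n22864 = n18500 := d18_1 D22864 (iv D18500) (iv F32227)
theorem F45181 : act 6 n22864 = n22862 := d22_1 D22864 (iv D22862) F32226 D18372
def n22865 : Q := act 5 n18373
theorem D22865 : act 5 n18373 = n22865 := rfl
theorem F45182 : act 2 n22865 = n18374 := d13_1 D22865 (iv D18374) D18373
theorem F45183 : act 4 n22865 = n18502 := d18_1 D22865 (iv D18502) (iv F32229)
theorem F45184 : act 1 n22561 = n22865 := d8_3 F45183 (iv F44450) F44451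
def n22866 : Q := act 6 n18374
theorem D22866 : act 6 n18374 = n22866 := rfl
theorem F45185 : act 0 n22866 = n22862 := d5_1 D22866 (iv F45181) F45178
theorem F45186 : act 1 n22866 = n22563 := d10_1 D22866 (iv D22563) F30329 (iv F26781) F34187
theorem F45187 : act 3 n22866 = n20748 := d17_1 D22866 (iv D20748) (iv F35499)
theorem F45188 : act 4 n22866 = n18503 := d19_1 D22866 (iv D18503) (iv F32231)
theorem F45189 : act 5 n22866 = n22860 := d20_1 D22866 F45172 D22864 F45181 (iv D22862) F32226 D18374
def n22867 : Q := act 5 n18375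
theorem D22867 : act 5 n18375 = n22867 := rfl
theorem F45190 : act 2 n22867 = n20726 := d13_1 D22867 (iv D20726) (iv F35355)
theorem F45191 : act 4 n22867 = n18506 := d18_1 D22867 (iv D18506) (iv F32232)
def n22868 : Q := act 3 n18376
theorem D22868 : act 3 n18376 = n22868 := rfl
theorem F45192 : act 0 n22868 = n18377 := d2_1 D22868 (iv D18377) (iv F32233)
theorem F45193 : act 1 n22868 = n20462 := d7_1 D22868 F38830 (iv F34562)
theorem F45194 : act 4 n22868 = n20459 := d15_2 (iv F32234) D22868 (iv D20459) F26386 (iv F34549)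
theorem F45195 : act 6 n22868 = n18422 := d17_2 (iv F32235) D22868 (iv D18422)
def n22869 : Q := act 5 n18377
theorem D22869 : act 5 n18377 = n22869 := rfl
theorem F45196 : act 3 n22869 = n18378 := d16_1 D22869 (iv D18378) D18377
def n22870 : Q := act 1 n18378
theorem D22870 : act 1 n18378 = n22870 := rfl
theorem F45197 : act 4 n22870 = n18513 := d8_2 (iv F32239) D22870 (iv D18513)
theorem F45198 : act 5 n22870 = n18773 := d9_2 D18378 D22870 (iv D18773) (iv D13691) (iv F23607)
def n22871 : Q := act 0 n18379
theorem D22871 : act 0 n18379 = n22871 := rfl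
theorem F45199 : act 4 n22871 = n18514 := d3_2 (iv F32240) D22871 (iv D18514)
theorem F45200 : act 5 n22871 = n18380 := d4_2 (iv F32241) D22871 (iv D18380)
def n22872 : Q := act 2 n18379
theorem D22872 : act 2 n18379 = n22872 := rfl
theorem F45201 : act 4 n22872 = n18515 := d12_2 (iv F32240) D22872 (iv D18515)
theorem F45202 : act 5 n22872 = n18381 := d13_2 (iv F32241) D22872 (iv D18381)
def n22873 : Q := act 6 n18379
theorem D22873 : act 6 n18379 = n22873 := rfl
theorem F45203 : act 4 n22873 = n18516 := d19_1 D22873 (iv D18516) (iv F32240)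
def n22874 : Q := act 2 n18380
theorem D22874 : act 2 n18380 = n22874 := rfl
theorem F45204 : act 0 n22874 = n18381 := d1_1 D22874 (iv D18381) D18380
theorem F45205 : act 4 n22874 = n18518 := d12_2 (iv F32242) D22874 (iv D18518)
def n22875 : Q := act 6 n18380
theorem D22875 : act 6 n18380 = n22875 := rfl
theorem F45206 : act 0 n22875 = n18382 := d5_1 D22875 (iv D18382) D18380
theorem F45207 : act 3 n22875 = n20692 := d17_1 D22875 (iv F45161) F45159
theorem F45208 : act 4 n22875 = n18519 := d19_1 D22875 (iv D18519) (iv F32242)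
theorem F45209 : act 5 n22875 = n22873 := d22_2 F45200 D22875 (iv D22873) D22871
def n22876 : Q := act 6 n18381
theorem D22876 : act 6 n18381 = n22876 := rfl
theorem F45210 : act 2 n22876 = n18382 := d14_1 D22876 (iv D18382) D18381
theorem F45211 : act 4 n22876 = n18521 := d19_1 D22876 (iv D18521) (iv F32244)
theorem F45212 : act 1 n22502 = n22876 := d8_3 F45211 (iv F44284) F44285
def n22877 : Q := act 5 n18382
theorem D22877 : act 5 n18382 = n22877 := rfl
theorem F45213 : act 0 n22877 = n22873 := d4_1 D22877 (iv F45209) F45206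
theorem F45214 : act 1 n22877 = n22503 := d9_1 D22877 (iv D22503) F30188 (iv F26717) (iv F32245)
theorem F45215 : act 3 n22877 = n20694 := d16_1 D22877 (iv D20694) (iv F32246)
theorem F45216 : act 4 n22877 = n18522 := d18_1 D22877 (iv D18522) (iv F32247)
theorem F45217 : act 6 n22877 = n22871 := d20_2 D18382 D22877 F45200 D22875 F45209 (iv D22873) F32241
def n22878 : Q := act 6 n18383
theorem D22878 : act 6 n18383 = n22878 := rfl
theorem F45218 : act 2 n22878 = n21499 := d14_1 D22878 (iv D21499) (iv F32248)
theorem F45219 : act 3 n22878 = n18399 := d17_1 D22878 (iv D18399) (iv F32249)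
theorem F45220 : act 4 n22878 = n20781 := d19_1 D22878 F39486 (iv F32250)
theorem F45221 : act 5 n22878 = n20774 := d22_2 F39445 D22878 (iv D20774) (iv F39442)
def n22879 : Q := act 1 n18384
theorem D22879 : act 1 n18384 = n22879 := rfl
theorem F45222 : act 3 n22879 = n18403 := d7_2 (iv F32253) D22879 (iv D18403)
theorem F45223 : act 4 n22879 = n20846 := d8_2 F45089 D22879 F45091
theorem F45224 : act 0 n20842 = n22879 := d3_3 F45223 (iv D20846) (iv F39997)
def n22880 : Q := act 1 n18385
theorem D22880 : act 1 n18385 = n22880 := rfl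
theorem F45225 : act 2 n22880 = n22037 := d6_2 (iv F32256) D22880 (iv D22037) (iv F39679) (iv D18386)
theorem F45226 : act 3 n22880 = n21490 := d7_2 (iv F32257) D22880 (iv D21490)
theorem F45227 : act 4 n22880 = n22039 := d8_2 F45095 D22880 F45096
theorem F45228 : act 6 n22880 = n22880 := d10_2 D18385 D22880 (iv D22880) (iv D18385) F23613
def n22881 : Q := act 0 n18386
theorem D22881 : act 0 n18386 = n22881 := rfl
theorem F45229 : act 1 n22881 = n22864 := d0_2 D18386 D22881 F45178 (iv F34187) (iv F27041) D20842 F45224 (iv D22879) F32251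
theorem F45230 : act 2 n22881 = n22032 := d1_2 (iv F39679) D22881 F42834
theorem F45231 : act 3 n22881 = n18408 := d2_2 (iv F32258) D22881 (iv D18408)
theorem F45232 : act 4 n22881 = n22031 := d3_2 F39665 D22881 F42829
theorem F45233 : act 6 n22881 = n18388 := d5_2 (iv F32260) D22881 (iv D18388)
def n22882 : Q := act 5 n18386
theorem D22882 : act 5 n18386 = n22882 := rfl
theorem F45234 : act 2 n22882 = n22038 := d13_1 D22882 (iv D22038) (iv F39679)
theorem F45235 : act 3 n22882 = n18410 := d16_1 D22882 (iv D18410) (iv F32258)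
theorem F45236 : act 4 n22882 = n22036 := d18_1 D22882 (iv D22036) F39665
def n22883 : Q := act 1 n18387
theorem D22883 : act 1 n18387 = n22883 := rfl
theorem F45237 : act 3 n22883 = n18411 := d7_2 (iv F32262) D22883 (iv D18411)
theorem F45238 : act 4 n22883 = n18620 := d8_2 F40073 D22883 F40075
theorem F45239 : act 0 n18432 = n22883 := d3_3 F45238 (iv D18620) (iv F32356)
def n22884 : Q := act 1 n18388
theorem D22884 : act 1 n18388 = n22884 := rfl
theorem F45240 : act 3 n22884 = n18412 := d7_2 (iv F32264) D22884 (iv D18412)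
theorem F45241 : act 4 n22884 = n20845 := d8_2 F39653 D22884 (iv F40008)
theorem F45242 : act 5 n20844 = n22884 := d18_0 F45241 (iv D20845) (iv F40003)
def n22885 : Q := act 5 n18388
theorem D22885 : act 5 n18388 = n22885 := rfl
theorem F45243 : act 0 n22885 = n18390 := d4_1 D22885 (iv D18390) D18388
theorem F45244 : act 1 n22885 = n22596 := d9_1 D22885 (iv F44327) (iv F40001) F45242 (iv D22884)
theorem F45245 : act 2 n22885 = n22020 := d13_1 D22885 F42806 (iv F39677)
theorem F45246 : act 3 n22885 = n18414 := d16_1 D22885 (iv D18414) (iv F32264)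
theorem F45247 : act 4 n22885 = n22019 := d18_1 D22885 F42804 F39653
theorem F45248 : act 6 n22885 = n22882 := d22_1 D22885 (iv D22882) F32260 D18388
def n22886 : Q := act 6 n18390
theorem D22886 : act 6 n18390 = n22886 := rfl
theorem F45249 : act 0 n22886 = n22882 := d5_1 D22886 (iv F45248) F45243
theorem F45250 : act 1 n22886 = n22501 := d10_1 D22886 (iv D22501) (iv F32408) F32047 (iv F32268)
theorem F45251 : act 2 n22886 = n22022 := d14_1 D22886 (iv D22022) (iv F39678)
theorem F45252 : act 3 n22886 = n18417 := d17_1 D22886 (iv D18417) (iv F32269)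
theorem F45253 : act 4 n22886 = n22021 := d19_1 D22886 (iv D22021) F39662
theorem F45254 : act 5 n22886 = n22881 := d20_1 D22886 F45233 D22885 F45248 (iv D22882) F32260 D18390
def n22887 : Q := act 5 n18391
theorem D22887 : act 5 n18391 = n22887 := rfl
theorem F45255 : act 2 n22887 = n21658 := d13_1 D22887 (iv D21658) (iv F32271)
theorem F45256 : act 3 n22887 = n18419 := d16_1 D22887 (iv D18419) (iv F32272)
theorem F45257 : act 4 n22887 = n20834 := d18_1 D22887 F39970 (iv F32273)
theorem F45258 : act 6 n22887 = n20828 := d22_1 D22887 (iv D20828) D20829 F39949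
def n22888 : Q := act 1 n18392
theorem D22888 : act 1 n18392 = n22888 := rfl
theorem F45259 : act 3 n22888 = n18424 := d7_2 (iv F32276) D22888 (iv D18424)
theorem F45260 : act 4 n22888 = n20795 := d8_2 F45100 D22888 (iv F45102)
theorem F45261 : act 0 n20791 = n22888 := d3_3 F45260 (iv D20795) (iv F39516)
def n22889 : Q := act 1 n18393
theorem D22889 : act 1 n18393 = n22889 := rfl
theorem F45262 : act 2 n22889 = n21993 := d6_2 (iv F32279) D22889 (iv D21993) (iv F39845) (iv D18394)
theorem F45263 : act 3 n22889 = n21650 := d7_2 (iv F32280) D22889 (iv D21650)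
theorem F45264 : act 4 n22889 = n21995 := d8_2 F45106 D22889 F45107
theorem F45265 : act 5 n22889 = n22889 := d9_2 D18393 D22889 (iv D22889) (iv D18393) F23618
def n22890 : Q := act 0 n18394
theorem D22890 : act 0 n18394 = n22890 := rfl
theorem F45266 : act 1 n22890 = n22875 := d0_2 D18394 D22890 F45206 F32245 (iv F26900) D20791 F45261 (iv D22888) F32274
theorem F45267 : act 2 n22890 = n21988 := d1_2 (iv F39845) D22890 F42721
theorem F45268 : act 3 n22890 = n18429 := d2_2 (iv F32281) D22890 (iv D18429)
theorem F45269 : act 4 n22890 = n21987 := d3_2 F39536 D22890 F42716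
theorem F45270 : act 5 n22890 = n18396 := d4_2 (iv F32283) D22890 (iv D18396)
def n22891 : Q := act 6 n18394
theorem D22891 : act 6 n18394 = n22891 := rfl
theorem F45271 : act 2 n22891 = n21994 := d14_1 D22891 (iv D21994) (iv F39845)
theorem F45272 : act 3 n22891 = n18431 := d17_1 D22891 (iv D18431) (iv F32281)
theorem F45273 : act 4 n22891 = n21992 := d19_1 D22891 (iv D21992) F39536
def n22892 : Q := act 1 n18395
theorem D22892 : act 1 n18395 = n22892 := rfl
theorem F45274 : act 3 n22892 = n18432 := d7_2 (iv F32285) D22892 (iv D18432)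
theorem F45275 : act 4 n22892 = n18579 := d8_2 F40295 D22892 F40297
theorem F45276 : act 0 n18411 = n22892 := d3_3 F45275 (iv D18579) (iv F32317)
def n22893 : Q := act 1 n18396
theorem D22893 : act 1 n18396 = n22893 := rfl
theorem F45277 : act 3 n22893 = n18433 := d7_2 (iv F32287) D22893 (iv D18433)
theorem F45278 : act 4 n22893 = n20794 := d8_2 F39529 D22893 (iv F39528)
theorem F45279 : act 6 n20793 = n22893 := d19_0 F45278 (iv D20794) (iv F39522)
def n22894 : Q := act 6 n18396
theorem D22894 : act 6 n18396 = n22894 := rfl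
theorem F45280 : act 0 n22894 = n18398 := d5_1 D22894 (iv D18398) D18396
theorem F45281 : act 1 n22894 = n22609 := d10_1 D22894 (iv D22609) (iv F39520) F45279 (iv D22893)
theorem F45282 : act 2 n22894 = n21976 := d14_1 D22894 F42696 (iv F39844)
theorem F45283 : act 3 n22894 = n18435 := d17_1 D22894 (iv D18435) (iv F32287)
theorem F45284 : act 4 n22894 = n21975 := d19_1 D22894 F42694 F39529
theorem F45285 : act 5 n22894 = n22891 := d22_2 F45270 D22894 (iv D22891) D22890
def n22895 : Q := act 5 n18398
theorem D22895 : act 5 n18398 = n22895 := rfl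
theorem F45286 : act 0 n22895 = n22891 := d4_1 D22895 (iv F45285) F45280
theorem F45287 : act 1 n22895 = n22559 := d9_1 D22895 (iv D22559) (iv F34990) F32031 (iv F32291)
theorem F45288 : act 2 n22895 = n21978 := d13_1 D22895 (iv D21978) (iv F39846)
theorem F45289 : act 3 n22895 = n18438 := d16_1 D22895 (iv D18438) (iv F32292)
theorem F45290 : act 4 n22895 = n21977 := d18_1 D22895 (iv D21977) F39539
theorem F45291 : act 6 n22895 = n22890 := d20_2 D18398 D22895 F45270 D22894 F45285 (iv D22891) F32283
def n22896 : Q := act 1 n18399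
theorem D22896 : act 1 n18399 = n22896 := rfl
theorem F45292 : act 4 n22896 = n18561 := d8_2 (iv F32294) D22896 (iv D18561)
theorem F45293 : act 6 n22896 = n18403 := d10_2 D18399 D22896 (iv D18403) (iv D13434) D13432
theorem F45294 : act 0 n20844 = n22896 := d5_3 F45293 F35063 D20844
def n22897 : Q := act 3 n18400
theorem D22897 : act 3 n18400 = n22897 := rfl
theorem F45295 : act 1 n22897 = n18401 := d7_1 D22897 (iv D18401) D18400
def n22898 : Q := act 6 n18400
theorem D22898 : act 6 n18400 = n22898 := rfl
theorem F45296 : act 4 n22898 = n18562 := d19_1 D22898 (iv D18562) (iv F32296)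
def n22899 : Q := act 4 n18401
theorem D22899 : act 4 n18401 = n22899 := rfl
theorem F45297 : act 0 n22899 = n18404 := d3_1 D22899 (iv D18404) (iv F32297)
theorem F45298 : act 3 n22899 = n18563 := d15_1 D22899 (iv D18563) (iv D13550) (iv F23624) D18401
theorem F45299 : act 5 n22899 = n20441 := d18_2 F45167 D22899 (iv F45166)
def n22900 : Q := act 6 n18401
theorem D22900 : act 6 n18401 = n22900 := rfl
theorem F45300 : act 0 n22900 = n18405 := d5_1 D22900 (iv D18405) (iv F32297)
theorem F45301 : act 3 n22900 = n18402 := d17_1 D22900 (iv D18402) D18401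
theorem F45302 : act 5 n22900 = n22858 := d22_2 F45167 D22900 (iv D22858) (iv F45164)
def n22901 : Q := act 1 n18402
theorem D22901 : act 1 n18402 = n22901 := rfl
theorem F45303 : act 4 n22901 = n18565 := d8_2 (iv F32300) D22901 (iv D18565)
def n22902 : Q := act 2 n18403
theorem D22902 : act 2 n18403 = n22902 := rfl
theorem F45304 : act 0 n22902 = n20843 := d1_1 D22902 (iv D20843) (iv F35063)
theorem F45305 : act 4 n22902 = n18567 := d12_2 (iv F32302) D22902 (iv D18567)
def n22903 : Q := act 5 n18403
theorem D22903 : act 5 n18403 = n22903 := rfl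
theorem F45306 : act 0 n22903 = n20830 := d4_1 D22903 F39955 (iv F35063)
theorem F45307 : act 1 n22903 = n22862 := d9_1 D22903 (iv D22862) (iv D18371) (iv F23627) D18403
theorem F45308 : act 4 n22903 = n18568 := d18_1 D22903 (iv D18568) (iv F32302)
theorem F45309 : act 6 n22903 = n22884 := d22_1 D22903 (iv F45242) (iv D20844) (iv F35063)
def n22904 : Q := act 6 n18404
theorem D22904 : act 6 n18404 = n22904 := rfl
theorem F45310 : act 3 n22904 = n18569 := d17_1 D22904 (iv D18569) (iv F32304)
theorem F45311 : act 4 n22904 = n18405 := d19_1 D22904 (iv D18405) D18404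
def n22905 : Q := act 1 n18405
theorem D22905 : act 1 n18405 = n22905 := rfl
theorem F45312 : act 3 n22905 = n18406 := d7_2 (iv F32305) D22905 (iv D18406)
theorem F45313 : act 6 n22905 = n18440 := d10_2 D18405 D22905 (iv D18440) (iv D13453) (iv F23628)
def n22906 : Q := act 5 n18405
theorem D22906 : act 5 n18405 = n22906 := rfl
theorem F45314 : act 0 n22906 = n22858 := d4_1 D22906 (iv F45302) F45300
theorem F45315 : act 3 n22906 = n18407 := d16_1 D22906 (iv D18407) (iv F32305)
theorem F45316 : act 6 n22906 = n22857 := d20_2 D18405 D22906 F45167 D22900 F45302 (iv D22858) F32222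
def n22907 : Q := act 0 n18406
theorem D22907 : act 0 n18406 = n22907 := rfl
theorem F45317 : act 4 n22907 = n18571 := d3_2 (iv F32306) D22907 (iv D18571)
theorem F45318 : act 6 n22907 = n18441 := d5_2 (iv F32307) D22907 (iv D18441)
def n22908 : Q := act 5 n18406
theorem D22908 : act 5 n18406 = n22908 := rfl
theorem F45319 : act 4 n22908 = n18572 := d18_1 D22908 (iv D18572) (iv F32306)
def n22909 : Q := act 2 n18408
theorem D22909 : act 2 n18408 = n22909 := rfl
theorem F45320 : act 0 n22909 = n18409 := d1_1 D22909 (iv D18409) D18408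
theorem F45321 : act 4 n22909 = n18575 := d12_2 (iv F32312) D22909 (iv D18575)
theorem F45322 : act 6 n22909 = n18413 := d14_2 (iv F32313) D22909 (iv D18413)
theorem F45323 : act 1 n22418 = n22909 := d10_5 F45322 F35233 (iv D17122) (iv F30072) D22418
def n22910 : Q := act 3 n18409
theorem D22910 : act 3 n18409 = n22910 := rfl
theorem F45324 : act 6 n22910 = n18415 := d17_2 (iv F32315) D22910 (iv D18415)
def n22911 : Q := act 5 n18409
theorem D22911 : act 5 n18409 = n22911 := rfl
theorem F45325 : act 2 n22911 = n18410 := d13_1 D22911 (iv D18410) D18409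
theorem F45326 : act 4 n22911 = n18577 := d18_1 D22911 (iv D18577) (iv F32314)
def n22912 : Q := act 1 n18410
theorem D22912 : act 1 n18410 = n22912 := rfl
theorem F45327 : act 4 n22912 = n18578 := d8_2 (iv F32316) D22912 (iv D18578)
theorem F45328 : act 5 n22912 = n18411 := d9_2 D18410 D22912 (iv D18411) (iv D13438) D13437
def n22913 : Q := act 6 n18411
theorem D22913 : act 6 n18411 = n22913 := rfl
theorem F45329 : act 1 n22913 = n22856 := d10_1 D22913 (iv D22856) (iv D18367) (iv F23635) D18411
theorem F45330 : act 4 n22913 = n18581 := d19_1 D22913 (iv D18581) (iv F32317)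
def n22914 : Q := act 0 n18412
theorem D22914 : act 0 n18412 = n22914 := rfl
theorem F45331 : act 4 n22914 = n18582 := d3_2 (iv F32318) D22914 (iv D18582)
def n22915 : Q := act 2 n18412
theorem D22915 : act 2 n18412 = n22915 := rfl
theorem F45332 : act 1 n22915 = n22176 := d6_1 D22915 F43205 (iv F35233) (iv D18413) D18412
theorem F45333 : act 4 n22915 = n18583 := d12_2 (iv F32318) D22915 (iv D18583)
def n22916 : Q := act 5 n18412
theorem D22916 : act 5 n18412 = n22916 := rfl
theorem F45334 : act 1 n22916 = n22597 := d9_1 D22916 (iv D22597) F32407 (iv D18414) D18412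
theorem F45335 : act 3 n22916 = n20844 := d16_1 D22916 F45242 F45240
theorem F45336 : act 4 n22916 = n18584 := d18_1 D22916 (iv D18584) (iv F32318)
theorem F45337 : act 6 n20842 = n22916 := d19_0 F45336 F35493 (iv F39997)
def n22917 : Q := act 6 n18412
theorem D22917 : act 6 n18412 = n22917 := rfl
theorem F45338 : act 3 n22917 = n22903 := d17_1 D22917 F45309 F45240
theorem F45339 : act 4 n22917 = n18585 := d19_1 D22917 (iv D18585) (iv F32318)
theorem F45340 : act 5 n22879 = n22917 := d22_0 (iv D22917) D22916 (iv F45337) F45224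
def n22918 : Q := act 3 n18413
theorem D22918 : act 3 n18413 = n22918 := rfl
theorem F45341 : act 0 n22918 = n18415 := d2_1 D22918 (iv D18415) (iv F32319)
theorem F45342 : act 1 n22918 = n21769 := d7_1 D22918 F42194 (iv F35233)
theorem F45343 : act 4 n22918 = n21770 := d15_2 (iv F32320) D22918 F42197 F28491 (iv F35225)
def n22919 : Q := act 5 n18413
theorem D22919 : act 5 n18413 = n22919 := rfl
theorem F45344 : act 0 n22919 = n18416 := d4_1 D22919 (iv D18416) (iv F32319)
theorem F45345 : act 2 n22919 = n18414 := d13_1 D22919 (iv D18414) D18413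
theorem F45346 : act 4 n22919 = n18588 := d18_1 D22919 (iv D18588) (iv F32320)
theorem F45347 : act 6 n22919 = n22911 := d22_1 D22919 (iv D22911) F32315 (iv F32319)
def n22920 : Q := act 2 n18415
theorem D22920 : act 2 n18415 = n22920 := rfl
def n22921 : Q := act 4 n18415
theorem D22921 : act 4 n18415 = n22921 := rfl
theorem F45348 : act 0 n22921 = n21770 := d3_1 D22921 (iv F45343) F45341
theorem F45349 : act 1 n22921 = n18443 := d8_1 D22921 (iv D18443) (iv F32324)
theorem F45350 : act 3 n22921 = n18590 := d15_1 D22921 (iv D18590) (iv D13565) (iv F23638) D18415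
def n22922 : Q := act 5 n18415
theorem D22922 : act 5 n18415 = n22922 := rfl
theorem F45351 : act 1 n22922 = n18953 := d9_1 D22922 (iv D18953) F24199 (iv F23667) (iv F32324)
theorem F45352 : act 3 n22922 = n18416 := d16_1 D22922 (iv D18416) D18415
def n22923 : Q := act 6 n18416
theorem D22923 : act 6 n18416 = n22923 := rfl
theorem F45353 : act 0 n22923 = n22911 := d5_1 D22923 (iv F45347) F45344
theorem F45354 : act 2 n22923 = n18417 := d14_1 D22923 (iv D18417) (iv F32326)
theorem F45355 : act 4 n22923 = n18592 := d19_1 D22923 (iv D18592) (iv F32327)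
theorem F45356 : act 5 n22923 = n22909 := d20_1 D22923 F45322 D22919 F45347 (iv D22911) F32315 D18416
def n22924 : Q := act 1 n18417
theorem D22924 : act 1 n18417 = n22924 := rfl
theorem F45357 : act 3 n22924 = n22501 := d7_2 F45252 D22924 (iv F45250)
theorem F45358 : act 4 n22924 = n18593 := d8_2 (iv F32329) D22924 (iv D18593)
theorem F45359 : act 6 n22924 = n22499 := d10_2 D18417 D22924 F44053 (iv D18305) (iv F23639)
theorem F45360 : act 0 n22504 = n22924 := d5_3 F45359 F44052 D22504
def n22925 : Q := act 1 n18419
theorem D22925 : act 1 n18419 = n22925 := rfl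
theorem F45361 : act 4 n22925 = n18596 := d8_2 (iv F32333) D22925 (iv D18596)
theorem F45362 : act 5 n22925 = n18424 := d9_2 D18419 D22925 (iv D18424) (iv D13444) D13442
theorem F45363 : act 0 n20793 = n22925 := d4_3 F45362 (iv F33257) D20793
def n22926 : Q := act 3 n18421
theorem D22926 : act 3 n18421 = n22926 := rfl
theorem F45364 : act 1 n22926 = n18422 := d7_1 D22926 (iv D18422) D18421
def n22927 : Q := act 5 n18421
theorem D22927 : act 5 n18421 = n22927 := rfl
theorem F45365 : act 4 n22927 = n18600 := d18_1 D22927 (iv D18600) (iv F32335)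
def n22928 : Q := act 4 n18422
theorem D22928 : act 4 n18422 = n22928 := rfl
theorem F45366 : act 0 n22928 = n18425 := d3_1 D22928 (iv D18425) (iv F32336)
theorem F45367 : act 3 n22928 = n18603 := d15_1 D22928 (iv D18603) (iv D13573) (iv F23643) D18422
theorem F45368 : act 6 n22928 = n20459 := d19_2 F45195 D22928 (iv F45194)
def n22929 : Q := act 5 n18422
theorem D22929 : act 5 n18422 = n22929 := rfl
theorem F45369 : act 0 n22929 = n18426 := d4_1 D22929 (iv D18426) (iv F32336)
theorem F45370 : act 3 n22929 = n18423 := d16_1 D22929 (iv D18423) D18422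
theorem F45371 : act 6 n22929 = n22869 := d22_1 D22929 (iv D22869) F32237 (iv F32336)
def n22930 : Q := act 1 n18423
theorem D22930 : act 1 n18423 = n22930 := rfl
theorem F45372 : act 4 n22930 = n18605 := d8_2 (iv F32339) D22930 (iv D18605)
def n22931 : Q := act 2 n18424
theorem D22931 : act 2 n18424 = n22931 := rfl
theorem F45373 : act 0 n22931 = n20792 := d1_1 D22931 (iv D20792) F33257
theorem F45374 : act 4 n22931 = n18606 := d12_2 (iv F32341) D22931 (iv D18606)
def n22932 : Q := act 6 n18424
theorem D22932 : act 6 n18424 = n22932 := rfl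
theorem F45375 : act 0 n22932 = n20776 := d5_1 D22932 F39468 F33257
theorem F45376 : act 1 n22932 = n22873 := d10_1 D22932 (iv D22873) (iv D18379) (iv F23646) D18424
theorem F45377 : act 4 n22932 = n18607 := d19_1 D22932 (iv D18607) (iv F32341)
theorem F45378 : act 5 n22932 = n22893 := d22_2 F45362 D22932 (iv F45279) F45363
def n22933 : Q := act 5 n18425
theorem D22933 : act 5 n18425 = n22933 := rfl
theorem F45379 : act 3 n22933 = n18610 := d16_1 D22933 (iv D18610) (iv F32343)
theorem F45380 : act 4 n22933 = n18426 := d18_1 D22933 (iv D18426) D18425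
def n22934 : Q := act 1 n18426
theorem D22934 : act 1 n18426 = n22934 := rfl
theorem F45381 : act 3 n22934 = n18427 := d7_2 (iv F32344) D22934 (iv D18427)
theorem F45382 : act 5 n22934 = n18445 := d9_2 D18426 D22934 (iv D18445) (iv D13457) (iv F23647)
def n22935 : Q := act 6 n18426
theorem D22935 : act 6 n18426 = n22935 := rfl
theorem F45383 : act 0 n22935 = n22869 := d5_1 D22935 (iv F45371) F45369
theorem F45384 : act 3 n22935 = n18428 := d17_1 D22935 (iv D18428) (iv F32344)
theorem F45385 : act 5 n22935 = n22868 := d20_1 D22935 F45195 D22929 F45371 (iv D22869) F32237 D18426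
def n22936 : Q := act 0 n18427
theorem D22936 : act 0 n18427 = n22936 := rfl
theorem F45386 : act 4 n22936 = n18613 := d3_2 (iv F32345) D22936 (iv D18613)
theorem F45387 : act 5 n22936 = n18446 := d4_2 (iv F32346) D22936 (iv D18446)
def n22937 : Q := act 6 n18427
theorem D22937 : act 6 n18427 = n22937 := rfl
theorem F45388 : act 4 n22937 = n18614 := d19_1 D22937 (iv D18614) (iv F32345)
def n22938 : Q := act 2 n18429
theorem D22938 : act 2 n18429 = n22938 := rfl
theorem F45389 : act 0 n22938 = n18430 := d1_1 D22938 (iv D18430) D18429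
theorem F45390 : act 4 n22938 = n18616 := d12_2 (iv F32351) D22938 (iv D18616)
theorem F45391 : act 5 n22938 = n18434 := d13_2 (iv F32352) D22938 (iv D18434)
theorem F45392 : act 1 n22218 = n22938 := d9_5 F45391 (iv F32360) (iv D16930) (iv F29814) D22218
def n22939 : Q := act 3 n18430
theorem D22939 : act 3 n18430 = n22939 := rfl
theorem F45393 : act 5 n22939 = n18436 := d16_2 (iv F32354) D22939 (iv D18436)
def n22940 : Q := act 6 n18430
theorem D22940 : act 6 n18430 = n22940 := rfl
theorem F45394 : act 2 n22940 = n18431 := d14_1 D22940 (iv D18431) D18430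
theorem F45395 : act 4 n22940 = n18618 := d19_1 D22940 (iv D18618) (iv F32353)
def n22941 : Q := act 1 n18431
theorem D22941 : act 1 n18431 = n22941 := rfl
theorem F45396 : act 4 n22941 = n18619 := d8_2 (iv F32355) D22941 (iv D18619)
theorem F45397 : act 6 n22941 = n18432 := d10_2 D18431 D22941 (iv D18432) (iv D13448) D13447
def n22942 : Q := act 5 n18432
theorem D22942 : act 5 n18432 = n22942 := rfl
theorem F45398 : act 1 n22942 = n22867 := d9_1 D22942 (iv D22867) (iv D18375) (iv F23654) D18432
theorem F45399 : act 4 n22942 = n18622 := d18_1 D22942 (iv D18622) (iv F32356)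
def n22943 : Q := act 0 n18433
theorem D22943 : act 0 n18433 = n22943 := rfl
theorem F45400 : act 1 n22943 = n22914 := d0_2 D18433 D22943 (iv D22914) (iv D18412) (iv D13439) (iv D10718) (iv F11401) D10722 D13449
theorem F45401 : act 4 n22943 = n18623 := d3_2 (iv F32357) D22943 (iv D18623)
def n22944 : Q := act 2 n18433
theorem D22944 : act 2 n18433 = n22944 := rfl
theorem F45402 : act 1 n22944 = n22230 := d6_1 D22944 F43333 F32360 (iv D18434) D18433
theorem F45403 : act 4 n22944 = n18624 := d12_2 (iv F32357) D22944 (iv D18624)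
def n22945 : Q := act 5 n18433
theorem D22945 : act 5 n18433 = n22945 := rfl
theorem F45404 : act 3 n22945 = n22932 := d16_1 D22945 F45378 F45277
theorem F45405 : act 4 n22945 = n18625 := d18_1 D22945 (iv D18625) (iv F32357)
theorem F45406 : act 6 n22888 = n22945 := d19_0 F45405 (iv F39848) (iv F45260)
def n22946 : Q := act 6 n18433
theorem D22946 : act 6 n18433 = n22946 := rfl
theorem F45407 : act 1 n22946 = n22608 := d10_1 D22946 F44359 F34992 (iv D18435) D18433
theorem F45408 : act 3 n22946 = n20793 := d17_1 D22946 F45279 F45277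
theorem F45409 : act 4 n22946 = n18626 := d19_1 D22946 (iv D18626) (iv F32357)
theorem F45410 : act 5 n20791 = n22946 := d22_0 (iv D22946) D22945 (iv F45406) (iv F45261)
def n22947 : Q := act 3 n18434
theorem D22947 : act 3 n18434 = n22947 := rfl
theorem F45411 : act 0 n22947 = n18436 := d2_1 D22947 (iv D18436) (iv F32358)
theorem F45412 : act 1 n22947 = n21610 := d7_1 D22947 F41845 F32360
theorem F45413 : act 4 n22947 = n21611 := d15_2 (iv F32359) D22947 F41848 F28287 (iv F29220)
def n22948 : Q := act 6 n18434
theorem D22948 : act 6 n18434 = n22948 := rfl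
theorem F45414 : act 0 n22948 = n18437 := d5_1 D22948 (iv D18437) (iv F32358)
theorem F45415 : act 2 n22948 = n18435 := d14_1 D22948 (iv D18435) D18434
theorem F45416 : act 4 n22948 = n18627 := d19_1 D22948 (iv D18627) (iv F32359)
theorem F45417 : act 5 n22948 = n22940 := d22_2 F45391 D22948 (iv D22940) (iv F45389)
def n22949 : Q := act 2 n18436
theorem D22949 : act 2 n18436 = n22949 := rfl
def n22950 : Q := act 4 n18436
theorem D22950 : act 4 n18436 = n22950 := rfl
theorem F45418 : act 0 n22950 = n21611 := d3_1 D22950 (iv F45413) F45411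
theorem F45419 : act 1 n22950 = n18448 := d8_1 D22950 (iv D18448) (iv F32364)
theorem F45420 : act 3 n22950 = n18630 := d15_1 D22950 (iv D18630) (iv D13588) (iv F23657) D18436
def n22951 : Q := act 6 n18436
theorem D22951 : act 6 n18436 = n22951 := rfl
theorem F45421 : act 1 n22951 = n18914 := d10_1 D22951 (iv D18914) F24164 (iv F23678) (iv F32364)
theorem F45422 : act 3 n22951 = n18437 := d17_1 D22951 (iv D18437) D18436
def n22952 : Q := act 5 n18437
theorem D22952 : act 5 n18437 = n22952 := rfl
theorem F45423 : act 0 n22952 = n22940 := d4_1 D22952 (iv F45417) F45414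
theorem F45424 : act 2 n22952 = n18438 := d13_1 D22952 (iv D18438) (iv F32366)
theorem F45425 : act 4 n22952 = n18632 := d18_1 D22952 (iv D18632) (iv F32367)
theorem F45426 : act 6 n22952 = n22938 := d20_2 D18437 D22952 F45391 D22948 F45417 (iv D22940) F32354
def n22953 : Q := act 1 n18438
theorem D22953 : act 1 n18438 = n22953 := rfl
theorem F45427 : act 3 n22953 = n22559 := d7_2 F45289 D22953 (iv F45287)
theorem F45428 : act 4 n22953 = n18633 := d8_2 (iv F32369) D22953 (iv D18633)
theorem F45429 : act 5 n22953 = n22558 := d9_2 D18438 D22953 F44191 (iv D18299) (iv F23658)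
theorem F45430 : act 0 n22562 = n22953 := d4_3 F45429 F44190 D22562
def n22954 : Q := act 1 n18439
theorem D22954 : act 1 n18439 = n22954 := rfl
theorem F45431 : act 3 n22954 = n18638 := d7_2 (iv F32372) D22954 (iv D18638)
theorem F45432 : act 4 n22954 = n18440 := d8_2 (iv F32373) D22954 (iv D18440)
def n22955 : Q := act 0 n18440
theorem D22955 : act 0 n18440 = n22955 := rfl
theorem F45433 : act 3 n22955 = n18441 := d2_2 (iv F32374) D22955 (iv D18441)
def n22956 : Q := act 2 n18440
theorem D22956 : act 2 n18440 = n22956 := rfl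
theorem F45434 : act 1 n22956 = n18920 := d6_1 D22956 (iv D18920) (iv D13764) (iv F23663) D18440
def n22957 : Q := act 5 n18440
theorem D22957 : act 5 n18440 = n22957 := rfl
theorem F45435 : act 1 n22957 = n22939 := d9_1 D22957 F45393 F32364 F23677 D18440
theorem F45436 : act 3 n22957 = n18442 := d16_1 D22957 (iv D18442) (iv F32374)
def n22958 : Q := act 1 n18441
theorem D22958 : act 1 n18441 = n22958 := rfl
theorem F45437 : act 0 n22958 = n18847 := d0_1 D22958 (iv F33738) (iv F44010) (iv F44012) (iv D18930) (iv D13769) F19330 D13454 D18441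
theorem F45438 : act 4 n22958 = n18640 := d8_2 (iv F32375) D22958 (iv D18640)
theorem F45439 : act 2 n18846 = n22958 := d12_3 F45438 (iv F34132) (iv F33736)
theorem F45440 : act 5 n20683 = n22958 := d18_0 F45438 (iv F34134) (iv F39249)
def n22959 : Q := act 5 n18441
theorem D22959 : act 5 n18441 = n22959 := rfl
theorem F45441 : act 0 n22959 = n18442 := d4_1 D22959 (iv D18442) D18441
theorem F45442 : act 2 n22959 = n22936 := d13_1 D22959 F45387 F32387
theorem F45443 : act 4 n22959 = n18641 := d18_1 D22959 (iv D18641) (iv F32375)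
theorem F45444 : act 6 n22959 = n22908 := d22_1 D22959 (iv D22908) F32307 D18441
def n22960 : Q := act 6 n18442
theorem D22960 : act 6 n18442 = n22960 := rfl
theorem F45445 : act 0 n22960 = n22908 := d5_1 D22960 (iv F45444) F45441
theorem F45446 : act 2 n22960 = n22937 := d14_1 D22960 (iv D22937) (iv F32377)
theorem F45447 : act 4 n22960 = n18642 := d19_1 D22960 (iv D18642) (iv F32378)
theorem F45448 : act 5 n22960 = n22907 := d20_1 D22960 F45318 D22959 F45444 (iv D22908) F32307 D18442
def n22961 : Q := act 1 n18444
theorem D22961 : act 1 n18444 = n22961 := rfl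
theorem F45449 : act 3 n22961 = n18657 := d7_2 (iv F32383) D22961 (iv D18657)
theorem F45450 : act 4 n22961 = n18445 := d8_2 (iv F32384) D22961 (iv D18445)
def n22962 : Q := act 0 n18445
theorem D22962 : act 0 n18445 = n22962 := rfl
theorem F45451 : act 3 n22962 = n18446 := d2_2 (iv F32386) D22962 (iv D18446)
def n22963 : Q := act 2 n18445
theorem D22963 : act 2 n18445 = n22963 := rfl
theorem F45452 : act 1 n22963 = n18960 := d6_1 D22963 (iv D18960) (iv D13784) (iv F23671) D18445
def n22964 : Q := act 6 n18445
theorem D22964 : act 6 n18445 = n22964 := rfl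
theorem F45453 : act 1 n22964 = n22910 := d10_1 D22964 F45324 F32324 (iv F23673) D18445
theorem F45454 : act 3 n22964 = n18447 := d17_1 D22964 (iv D18447) (iv F32386)
def n22965 : Q := act 1 n18446
theorem D22965 : act 1 n18446 = n22965 := rfl
theorem F45455 : act 0 n22965 = n18894 := d0_1 D22965 (iv F35037) (iv F44151) (iv F44153) (iv D18970) (iv D13789) F19353 D13458 D18446
theorem F45456 : act 2 n22965 = n18893 := d6_2 (iv F32387) D22965 F33823 F45439 (iv D22958)
theorem F45457 : act 4 n22965 = n18661 := d8_2 (iv F32388) D22965 (iv D18661)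
theorem F45458 : act 6 n20737 = n22965 := d19_0 F45457 (iv F35043) (iv F39355)
def n22966 : Q := act 6 n18446
theorem D22966 : act 6 n18446 = n22966 := rfl
theorem F45459 : act 0 n22966 = n18447 := d5_1 D22966 (iv D18447) D18446
theorem F45460 : act 2 n22966 = n22907 := d14_1 D22966 F45318 (iv F32387)
theorem F45461 : act 4 n22966 = n18662 := d19_1 D22966 (iv D18662) (iv F32388)
theorem F45462 : act 5 n22966 = n22937 := d22_2 F45387 D22966 (iv D22937) D22936
def n22967 : Q := act 5 n18447
theorem D22967 : act 5 n18447 = n22967 := rfl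
theorem F45463 : act 0 n22967 = n22937 := d4_1 D22967 (iv F45462) F45459
theorem F45464 : act 2 n22967 = n22908 := d13_1 D22967 (iv D22908) (iv F32390)
theorem F45465 : act 4 n22967 = n18663 := d18_1 D22967 (iv D18663) (iv F32391)
theorem F45466 : act 6 n22967 = n22936 := d20_2 D18447 D22967 F45387 D22966 F45462 (iv D22937) F32346
def n22968 : Q := act 0 n18494
theorem D22968 : act 0 n18494 = n22968 := rfl
theorem F45467 : act 6 n22968 = n19060 := d5_2 (iv F33093) D22968 (iv D19060)
def n22969 : Q := act 2 n18494
theorem D22969 : act 2 n18494 = n22969 := rfl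
theorem F45468 : act 1 n22969 = n18496 := d6_1 D22969 (iv D18496) (iv D13505) (iv F23751) D18494
theorem F45469 : act 6 n22969 = n19061 := d14_2 (iv F33093) D22969 (iv D19061)
def n22970 : Q := act 5 n18494
theorem D22970 : act 5 n18494 = n22970 := rfl
theorem F45470 : act 1 n22970 = n22813 := d9_1 D22970 F44994 (iv D18565) F23806 D18494
theorem F45471 : act 2 n22814 = n22970 := d6_0 F45470 (iv D22813) (iv D18258) D18259 D22814
theorem F45472 : act 5 n22969 = n22814 := d13_0 F45471 (iv D22970) D22969
def n22971 : Q := act 2 n18495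
theorem D22971 : act 2 n18495 = n22971 := rfl
theorem F45473 : act 0 n22971 = n18496 := d1_1 D22971 (iv D18496) D18495
theorem F45474 : act 6 n22971 = n18499 := d14_2 (iv F33094) D22971 (iv D18499)
theorem F45475 : act 3 n22971 = n19443 := d21_1 D22971 (iv D19443) F24893 D14249 F34947 F34980 F33073 D18495
def n22972 : Q := act 3 n18496
theorem D22972 : act 3 n18496 = n22972 := rfl
theorem F45476 : act 0 n22972 = n19443 := d2_1 D22972 (iv F45475) F45473
theorem F45477 : act 2 n22972 = n19442 := d11_1 D22972 F36403 (iv F34944) (iv F27354) (iv F40433) F40434 D22971 F45475 (iv D19443) F24893 D14249 F34947 F34980 F33073 D18496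
theorem F45478 : act 6 n22972 = n18501 := d17_2 (iv F33095) D22972 (iv D18501)
def n22973 : Q := act 5 n18496
theorem D22973 : act 5 n18496 = n22973 := rfl
theorem F45479 : act 1 n22973 = n22812 := d9_1 D22973 F44991 D22814 (iv F45472) F45468
theorem F45480 : act 2 n22973 = n18497 := d13_1 D22973 (iv D18497) D18496
def n22974 : Q := act 5 n18499
theorem D22974 : act 5 n18499 = n22974 := rfl
theorem F45481 : act 0 n22974 = n18502 := d4_1 D22974 (iv D18502) (iv F33096)
theorem F45482 : act 2 n22974 = n18500 := d13_1 D22974 (iv D18500) D18499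
theorem F45483 : act 3 n22974 = n19498 := d16_1 D22974 F40022 (iv F40021)
theorem F45484 : act 6 n22974 = n22973 := d22_1 D22974 (iv D22973) F33095 (iv F33096)
def n22975 : Q := act 5 n18501
theorem D22975 : act 5 n18501 = n22975 := rfl
theorem F45485 : act 0 n22975 = n19498 := d4_1 D22975 F40022 (iv F40020)
theorem F45486 : act 1 n22975 = n21000 := d9_1 D22975 (iv D21000) (iv D15813) (iv F35973) (iv F33099)
theorem F45487 : act 2 n22975 = n19497 := d13_1 D22975 F36540 F36413
theorem F45488 : act 3 n22975 = n18502 := d16_1 D22975 (iv D18502) D18501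
def n22976 : Q := act 6 n18502
theorem D22976 : act 6 n18502 = n22976 := rfl
theorem F45489 : act 0 n22976 = n22973 := d5_1 D22976 (iv F45484) F45481
theorem F45490 : act 2 n22976 = n18503 := d14_1 D22976 (iv D18503) (iv F33100)
theorem F45491 : act 5 n22976 = n22971 := d20_1 D22976 F45474 D22974 F45484 (iv D22973) F33095 D18502
def n22977 : Q := act 0 n18513
theorem D22977 : act 0 n18513 = n22977 := rfl
theorem F45492 : act 5 n22977 = n19084 := d4_2 (iv F33111) D22977 (iv D19084)
def n22978 : Q := act 2 n18513
theorem D22978 : act 2 n18513 = n22978 := rfl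
theorem F45493 : act 1 n22978 = n18515 := d6_1 D22978 (iv D18515) (iv D13513) (iv F23759) D18513
theorem F45494 : act 5 n22978 = n19085 := d13_2 (iv F33111) D22978 (iv D19085)
def n22979 : Q := act 6 n18513
theorem D22979 : act 6 n18513 = n22979 := rfl
theorem F45495 : act 1 n22979 = n22807 := d10_1 D22979 F44972 (iv D18605) F23826 D18513
theorem F45496 : act 2 n22808 = n22979 := d6_0 F45495 (iv D22807) (iv D18245) D18246 D22808
theorem F45497 : act 6 n22978 = n22808 := d14_0 F45496 (iv D22979) D22978
def n22980 : Q := act 2 n18514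
theorem D22980 : act 2 n18514 = n22980 := rfl
theorem F45498 : act 0 n22980 = n18515 := d1_1 D22980 (iv D18515) D18514
theorem F45499 : act 5 n22980 = n18518 := d13_2 (iv F33112) D22980 (iv D18518)
theorem F45500 : act 3 n22980 = n19494 := d21_1 D22980 (iv D19494) F24958 (iv F34935) (iv F27208) F33084 F33082 D18514
def n22981 : Q := act 3 n18515
theorem D22981 : act 3 n18515 = n22981 := rfl
theorem F45501 : act 0 n22981 = n19494 := d2_1 D22981 (iv F45500) F45498
theorem F45502 : act 2 n22981 = n19479 := d11_1 D22981 F36465 F34957 (iv F27199) (iv F40205) F40206 D22980 F45500 (iv D19494) F24958 (iv F34935) (iv F27208) F33084 F33082 D18515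
theorem F45503 : act 5 n22981 = n18520 := d16_2 (iv F33113) D22981 (iv D18520)
def n22982 : Q := act 6 n18515
theorem D22982 : act 6 n18515 = n22982 := rfl
theorem F45504 : act 1 n22982 = n22806 := d10_1 D22982 F44969 D22808 (iv F45497) F45493
theorem F45505 : act 2 n22982 = n18516 := d14_1 D22982 (iv D18516) D18515
def n22983 : Q := act 6 n18518
theorem D22983 : act 6 n18518 = n22983 := rfl
theorem F45506 : act 0 n22983 = n18521 := d5_1 D22983 (iv D18521) (iv F33114)
theorem F45507 : act 2 n22983 = n18519 := d14_1 D22983 (iv D18519) D18518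
theorem F45508 : act 3 n22983 = n19448 := d17_1 D22983 F39866 (iv F39864)
theorem F45509 : act 5 n22983 = n22982 := d22_2 F45499 D22983 (iv D22982) (iv F45498)
def n22984 : Q := act 6 n18520
theorem D22984 : act 6 n18520 = n22984 := rfl
theorem F45510 : act 0 n22984 = n19448 := d5_1 D22984 F39866 (iv F39863)
theorem F45511 : act 1 n22984 = n20916 := d10_1 D22984 (iv D20916) (iv D15685) (iv F36118) (iv F33118)
theorem F45512 : act 2 n22984 = n19446 := d14_1 D22984 (iv F36555) F36551
theorem F45513 : act 3 n22984 = n18521 := d17_1 D22984 (iv D18521) D18520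
def n22985 : Q := act 5 n18521
theorem D22985 : act 5 n18521 = n22985 := rfl
theorem F45514 : act 0 n22985 = n22982 := d4_1 D22985 (iv F45509) F45506
theorem F45515 : act 2 n22985 = n18522 := d13_1 D22985 (iv D18522) (iv F33119)
theorem F45516 : act 6 n22985 = n22980 := d20_2 D18521 D22985 F45499 D22983 F45509 (iv D22982) F33113
def n22986 : Q := act 3 n18538
theorem D22986 : act 3 n18538 = n22986 := rfl
theorem F45517 : act 6 n22986 = n18542 := d17_2 (iv F33164) D22986 (iv D18542)
def n22987 : Q := act 2 n18540
theorem D22987 : act 2 n18540 = n22987 := rfl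
theorem F45518 : act 4 n22987 = n20856 := d12_2 (iv F35061) D22987 F40030
theorem F45519 : act 5 n22987 = n20850 := d13_2 F34303 D22987 F40016
def n22988 : Q := act 5 n18542
theorem D22988 : act 5 n18542 = n22988 := rfl
theorem F45520 : act 0 n22988 = n22588 := d4_1 D22988 F44299 (iv F39793)
theorem F45521 : act 3 n22988 = n18543 := d16_1 D22988 (iv D18543) D18542
theorem F45522 : act 1 n20943 = n22988 := d7_3 F45521 (iv F35378) (iv F40253)
def n22989 : Q := act 6 n18543
theorem D22989 : act 6 n18543 = n22989 := rfl
theorem F45523 : act 0 n22989 = n22589 := d5_1 D22989 (iv D22589) (iv F33171)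
theorem F45524 : act 2 n22989 = n18544 := d14_1 D22989 (iv D18544) (iv F33172)
theorem F45525 : act 4 n22989 = n20579 := d19_1 D22989 F39042 F39680
theorem F45526 : act 5 n22989 = n20578 := d20_1 D22989 (iv D20578) (iv F39667) D22589 F44302 F33164 D18543
def n22990 : Q := act 3 n18552
theorem D22990 : act 3 n18552 = n22990 := rfl
theorem F45527 : act 5 n22990 = n18558 := d16_2 (iv F33192) D22990 (iv D18558)
def n22991 : Q := act 2 n18555
theorem D22991 : act 2 n18555 = n22991 := rfl
theorem F45528 : act 4 n22991 = n20807 := d12_2 (iv F33203) D22991 F39877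
theorem F45529 : act 6 n22991 = n20800 := d14_2 F33202 D22991 F39858
def n22992 : Q := act 6 n18558
theorem D22992 : act 6 n18558 = n22992 := rfl
theorem F45530 : act 0 n22992 = n22634 := d5_1 D22992 F44465 F39816
theorem F45531 : act 3 n22992 = n18559 := d17_1 D22992 (iv D18559) D18558
theorem F45532 : act 1 n21024 = n22992 := d7_3 F45531 F34994 (iv F40489)
def n22993 : Q := act 5 n18559
theorem D22993 : act 5 n18559 = n22993 := rfl
theorem F45533 : act 0 n22993 = n22635 := d4_1 D22993 (iv D22635) F35429
theorem F45534 : act 2 n22993 = n18560 := d13_1 D22993 (iv D18560) (iv F33208)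
theorem F45535 : act 4 n22993 = n20533 := d18_1 D22993 F38963 F39824
theorem F45536 : act 6 n22993 = n20532 := d20_2 D18559 D22993 (iv D20532) (iv F39551) D22635 F44468 F33192
def n22994 : Q := act 5 n18562
theorem D22994 : act 5 n18562 = n22994 := rfl
theorem F45537 : act 0 n22994 = n20079 := d4_1 D22994 (iv F38899) F38896
theorem F45538 : act 2 n22994 = n20076 := d13_1 D22994 (iv F37954) F37952
theorem F45539 : act 3 n22994 = n20493 := d16_1 D22994 F38901 (iv F33214)
theorem F45540 : act 6 n22994 = n20074 := d20_2 D18562 D22994 F37929 D20492 F38899 (iv D20079) F28925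
def n22995 : Q := act 6 n18563
theorem D22995 : act 6 n18563 = n22995 := rfl
theorem F45541 : act 0 n22995 = n18569 := d5_1 D22995 (iv D18569) (iv F33215)
theorem F45542 : act 2 n22995 = n19728 := d14_1 D22995 F37179 F37165
theorem F45543 : act 4 n22995 = n18564 := d19_1 D22995 (iv D18564) D18563
theorem F45544 : act 5 n22995 = n19725 := d20_1 D22995 (iv D19725) F28908 D18569 (iv F38788) (iv D20442) (iv F33216)
def n22996 : Q := act 1 n18564
theorem D22996 : act 1 n18564 = n22996 := rfl
theorem F45545 : act 2 n22996 = n22280 := d6_2 (iv F33218) D22996 F43440 F39126 (iv D19948)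
theorem F45546 : act 3 n22996 = n18565 := d7_2 (iv F33219) D22996 (iv D18565)
theorem F45547 : act 6 n22996 = n22279 := d10_2 D18564 D22996 F43437 F29899 (iv F29168)
theorem F45548 : act 0 n22996 = n20602 := d23_3 D14727 (iv F33218) D22996 (iv D20602) (iv F36044) (iv D19314) (iv F35247) (iv F35804) (iv D19205) (iv D13965) (iv F24447) (iv D13959) F19478 F12216 (iv F12255) (iv F19147) (iv F19627) D14165 F34906
theorem F45549 : act 5 n20601 = n22996 := d4_0 F45548 (iv D20602) D20601
def n22997 : Q := act 3 n18567
theorem D22997 : act 3 n18567 = n22997 := rfl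
theorem F45550 : act 0 n22997 = n19151 := d2_1 D22997 F35677 (iv F35023)
theorem F45551 : act 1 n22997 = n19093 := d7_1 D22997 (iv F35614) F35617
theorem F45552 : act 5 n22997 = n19087 := d16_2 F44986 D22997 (iv F44985)
theorem F45553 : act 6 n22997 = n19148 := d17_2 (iv F34125) D22997 F35672
def n22998 : Q := act 1 n18569
theorem D22998 : act 1 n18569 = n22998 := rfl
theorem F45554 : act 4 n22998 = n18570 := d8_2 (iv F33224) D22998 (iv D18570)
theorem F45555 : act 6 n22998 = n18638 := d10_2 D18569 D22998 (iv D18638) (iv D13599) (iv F23807)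
def n22999 : Q := act 0 n18570
theorem D22999 : act 0 n18570 = n22999 := rfl
theorem F45556 : act 2 n22999 = n22347 := d1_2 F42767 D22999 F43661
theorem F45557 : act 3 n22999 = n18571 := d2_2 (iv F33225) D22999 (iv D18571)
theorem F45558 : act 5 n22999 = n20507 := d4_2 F43531 D22999 (iv F43530)
theorem F45559 : act 6 n22999 = n18639 := d5_2 (iv F33226) D22999 (iv D18639)
def n23000 : Q := act 1 n18571
theorem D23000 : act 1 n18571 = n23000 := rfl
def n23001 : Q := act 1 n18572
theorem D23001 : act 1 n18572 = n23001 := rfl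
theorem F45560 : act 2 n23001 = n22588 := d6_2 F33390 D23001 F44297 (iv F39686) (iv F39011)
theorem F45561 : act 5 n23001 = n18573 := d9_2 D18572 D23001 (iv D18573) (iv D13557) D13556
def n23002 : Q := act 4 n18576
theorem D23002 : act 4 n18576 = n23002 := rfl
theorem F45562 : act 0 n23002 = n21764 := d3_1 D23002 F42181 (iv F35236)
theorem F45563 : act 1 n23002 = n21542 := d8_1 D23002 F41702 F34914
theorem F45564 : act 2 n23002 = n20448 := d12_1 D23002 F38800 (iv F34917)
theorem F45565 : act 6 n23002 = n18590 := d19_2 (iv F33230) D23002 (iv D18590)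
def n23003 : Q := act 1 n18577
theorem D23003 : act 1 n18577 = n23003 := rfl
theorem F45566 : act 3 n23003 = n19870 := d7_2 F43880 D23003 (iv F43878)
theorem F45567 : act 5 n23003 = n20550 := d9_2 D18577 D23003 (iv F39011) (iv D18663) F23877
theorem F45568 : act 0 n23003 = n19869 := d23_3 D13560 (iv F33231) D23003 F37512 (iv F39685) D22690 (iv F44628) F43050 (iv D22117) (iv D16836) F22025 D15266 F26575 D15272 D20599 (iv F39375) (iv D20749) F35062 (iv D13558)
theorem F45569 : act 6 n23003 = n22677 := d24_3 (iv F23814) D18577 D23003 F44597 F39687 (iv D20624) (iv F39123) (iv D20619) F34774 (iv D13606) (iv D10797) F11536 (iv F17171) (iv F19128)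
theorem F45570 : act 2 n22660 = n23003 := d23_1 D22660 (iv D23003) (iv F33261) F33263 (iv D18575) (iv F35062) (iv D15418) (iv F26774) F35167 (iv D15272) F20697 (iv F20686) (iv F22026) D16836 F35130 D18170 (iv F44624) (iv D22690) F35424
def n23004 : Q := act 0 n18578
theorem D23004 : act 0 n18578 = n23004 := rfl
theorem F45571 : act 1 n23004 = n20713 := d0_2 D18578 D23004 F39311 (iv F35018) F34148 D19043 (iv F34154) (iv D18593) F23821
theorem F45572 : act 3 n23004 = n19829 := d2_2 F44309 D23004 (iv F44308)
theorem F45573 : act 5 n23004 = n18579 := d4_2 (iv F33232) D23004 (iv D18579)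
theorem F45574 : act 6 n23004 = n19834 := d5_2 F44335 D23004 (iv F44336)
def n23005 : Q := act 2 n18578
theorem D23005 : act 2 n18578 = n23005 := rfl
theorem F45575 : act 1 n23005 = n22660 := d6_1 D23005 F45570 (iv D23003) F33231 D18578
theorem F45576 : act 5 n23005 = n18580 := d13_2 (iv F33232) D23005 (iv D18580)
theorem F45577 : act 3 n23005 = n22661 := d21_1 D23005 (iv F44555) (iv D19853) (iv D14607) (iv F25482) D19829 (iv F45572) (iv D23004)
def n23006 : Q := act 2 n18579
theorem D23006 : act 2 n18579 = n23006 := rfl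
theorem F45578 : act 0 n23006 = n18580 := d1_1 D23006 (iv D18580) D18579
def n23007 : Q := act 6 n18579
theorem D23007 : act 6 n18579 = n23007 := rfl
theorem F45579 : act 0 n23007 = n18581 := d5_1 D23007 (iv D18581) D18579
theorem F45580 : act 1 n23007 = n21992 := d10_1 D23007 (iv D21992) F39534 (iv F40296) (iv F40297)
theorem F45581 : act 3 n23007 = n22600 := d17_1 D23007 F44339 F40299
theorem F45582 : act 5 n23007 = n22599 := d20_1 D23007 F44335 F33232 D18581 F39441 (iv F45574) F45573
def n23008 : Q := act 6 n18580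
theorem D23008 : act 6 n18580 = n23008 := rfl
theorem F45583 : act 2 n23008 = n18581 := d14_1 D23008 (iv D18581) D18580
def n23009 : Q := act 2 n18582
theorem D23009 : act 2 n18582 = n23009 := rfl
theorem F45584 : act 0 n23009 = n18583 := d1_1 D23009 (iv D18583) D18582
theorem F45585 : act 1 n19272 = n23009 := d0_0 F45584 F35232 F29771 (iv F35163) F24517 F19518 (iv F19519) D14028 D19272
theorem F45586 : act 3 n22172 = n23009 := d2_0 F45584 (iv F35243) D22172
def n23010 : Q := act 5 n18582
theorem D23010 : act 5 n18582 = n23010 := rfl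
theorem F45587 : act 0 n23010 = n18584 := d4_1 D23010 (iv D18584) D18582
theorem F45588 : act 1 n23010 = n20781 := d9_1 D23010 (iv D20781) D20780 (iv F39483) F33310
theorem F45589 : act 3 n23010 = n20785 := d16_1 D23010 (iv F39983) F39981
theorem F45590 : act 6 n23010 = n20846 := d20_2 (iv F39967) D23010 F40010 (iv D18585) D18584 F35493 (iv F39966)
def n23011 : Q := act 5 n18583
theorem D23011 : act 5 n18583 = n23011 := rfl
theorem F45591 : act 2 n23011 = n18584 := d13_1 D23011 (iv D18584) D18583
theorem F45592 : act 3 n23011 = n22174 := d16_1 D23011 (iv D22174) F35243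
theorem F45593 : act 6 n20847 = n23011 := d17_0 F45592 F44477 F44476
def n23012 : Q := act 6 n18583
theorem D23012 : act 6 n18583 = n23012 := rfl
theorem F45594 : act 1 n23012 = n22242 := d10_1 D23012 (iv D22242) F29834 (iv F29773) (iv F35232)
theorem F45595 : act 2 n23012 = n18585 := d14_1 D23012 (iv D18585) D18583
theorem F45596 : act 3 n23012 = n22175 := d17_1 D23012 (iv D22175) F35243
def n23013 : Q := act 4 n18589
theorem D23013 : act 4 n18589 = n23013 := rfl
theorem F45597 : act 0 n23013 = n21771 := d3_1 D23013 F42199 (iv F35249)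
theorem F45598 : act 1 n23013 = n20442 := d8_1 D23013 F38787 (iv F34919)
theorem F45599 : act 2 n23013 = n18590 := d12_1 D23013 (iv D18590) D18589
theorem F45600 : act 6 n23013 = n20448 := d19_2 F34918 D23013 F38800
def n23014 : Q := act 5 n18589
theorem D23014 : act 5 n18589 = n23014 := rfl
theorem F45601 : act 0 n23014 = n20606 := d4_1 D23014 F39105 (iv F35249)
theorem F45602 : act 1 n23014 = n22307 := d9_1 D23014 F43531 (iv D18570) (iv F30128) (iv F34919)
theorem F45603 : act 2 n23014 = n18591 := d13_1 D23014 (iv D18591) D18589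
theorem F45604 : act 3 n23014 = n23001 := d16_1 D23014 F45561 F34920
def n23015 : Q := act 5 n18590
theorem D23015 : act 5 n18590 = n23015 := rfl
theorem F45605 : act 0 n23015 = n21772 := d4_1 D23015 (iv D21772) (iv F35250)
theorem F45606 : act 1 n23015 = n19300 := d9_1 D23015 (iv D19300) F24550 (iv F23860) (iv F33258)
theorem F45607 : act 4 n23015 = n18591 := d18_1 D23015 (iv D18591) D18590
def n23016 : Q := act 1 n18592
theorem D23016 : act 1 n18592 = n23016 := rfl
theorem F45608 : act 5 n23016 = n19942 := d9_2 (iv F33263) D23016 F43871 (iv D22420) (iv F35234)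
theorem F45609 : act 6 n23016 = n19301 := d10_2 D18592 D23016 (iv D19301) (iv D14051) (iv F23819)
theorem F45610 : act 2 n19934 = n23016 := d13_3 F45608 (iv D19942) (iv F37668)
def n23017 : Q := act 2 n18593
theorem D23017 : act 2 n18593 = n23017 := rfl
theorem F45611 : act 0 n23017 = n19100 := d1_1 D23017 F35567 (iv F34154)
theorem F45612 : act 1 n23017 = n19934 := d6_1 D23017 F45610 (iv D23016) F33262 D18593
theorem F45613 : act 6 n23017 = n22851 := d14_2 (iv F33264) D23017 (iv D22851)
theorem F45614 : act 3 n23017 = n19930 := d21_1 D23017 (iv D19930) (iv F37656) (iv F40257) F40258 (iv F32511) (iv F34152) (iv F34154)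
theorem F45615 : act 5 n20943 = n23017 := d23_0 (iv D23017) (iv D18593) F23821 (iv D13560) D13559 (iv F23877) (iv F33386) F33388 (iv F33354) (iv F38932) (iv D20504) (iv F39833) (iv D17809) F22877 (iv F21061) F21149 F21147 D15714 D20943
def n23018 : Q := act 5 n18593
theorem D23018 : act 5 n18593 = n23018 := rfl
theorem F45616 : act 0 n23018 = n20944 := d4_1 D23018 F40254 (iv F34154)
theorem F45617 : act 1 n23018 = n20744 := d9_1 D23018 F39364 F35062 (iv F23822) D18593
theorem F45618 : act 2 n23018 = n20943 := d13_1 D23018 F45615 (iv D23017)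
theorem F45619 : act 3 n23018 = n22587 := d16_1 D23018 F44296 F44277
theorem F45620 : act 6 n23018 = n22586 := d20_2 (iv F33264) D23018 (iv D22586) (iv F34153) (iv F40254) (iv F40256) F37657
def n23019 : Q := act 6 n18600
theorem D23019 : act 6 n18600 = n23019 := rfl
theorem F45621 : act 0 n23019 = n20096 := d5_1 D23019 (iv F38978) F38975
theorem F45622 : act 2 n23019 = n20093 := d14_1 D23019 (iv F38001) F37999
theorem F45623 : act 3 n23019 = n20541 := d17_1 D23019 F38984 (iv F35074)
theorem F45624 : act 5 n23019 = n20091 := d20_1 D23019 F37976 D20538 F38978 (iv D20096) F34631 D18600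
def n23020 : Q := act 5 n18603
theorem D23020 : act 5 n18603 = n23020 := rfl
theorem F45625 : act 0 n23020 = n18610 := d4_1 D23020 (iv D18610) (iv F33279)
theorem F45626 : act 2 n23020 = n19765 := d13_1 D23020 F37259 F37251
theorem F45627 : act 4 n23020 = n18604 := d18_1 D23020 (iv D18604) D18603
theorem F45628 : act 6 n23020 = n19763 := d20_2 F35357 D23020 (iv D19763) F34523 D18610 (iv F38827) (iv D20460)
def n23021 : Q := act 1 n18604
theorem D23021 : act 1 n18604 = n23021 := rfl
theorem F45629 : act 2 n23021 = n22056 := d6_2 F35358 D23021 F42885 F39048 F37708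
theorem F45630 : act 3 n23021 = n18605 := d7_2 (iv F33281) D23021 (iv D18605)
theorem F45631 : act 5 n23021 = n22055 := d9_2 D18604 D23021 F42882 F29615 F35070
theorem F45632 : act 0 n20640 = n23021 := d4_3 F45631 F42881 F39179
theorem F45633 : act 6 n20639 = n23021 := d20_0 F45631 F42883 F35918 D20640 (iv F39179) (iv F44017) F44016
def n23022 : Q := act 3 n18606
theorem D23022 : act 3 n18606 = n23022 := rfl
theorem F45634 : act 0 n23022 = n19216 := d2_1 D23022 F35822 (iv F33283)
theorem F45635 : act 1 n23022 = n19069 := d7_1 D23022 (iv F35760) (iv F35763)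
theorem F45636 : act 5 n23022 = n19214 := d16_2 (iv F34129) D23022 F35819
theorem F45637 : act 6 n23022 = n19063 := d17_2 F44964 D23022 (iv F44962)
def n23023 : Q := act 1 n18610
theorem D23023 : act 1 n18610 = n23023 := rfl
theorem F45638 : act 4 n23023 = n18611 := d8_2 (iv F33292) D23023 (iv D18611)
theorem F45639 : act 5 n23023 = n18657 := d9_2 D18610 D23023 (iv D18657) (iv D13612) (iv F23827)
def n23024 : Q := act 0 n18611
theorem D23024 : act 0 n18611 = n23024 := rfl
theorem F45640 : act 2 n23024 = n22138 := d1_2 F42660 D23024 F43104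
theorem F45641 : act 3 n23024 = n18613 := d2_2 (iv F33293) D23024 (iv D18613)
theorem F45642 : act 5 n23024 = n18658 := d4_2 (iv F33294) D23024 (iv D18658)
theorem F45643 : act 6 n23024 = n20553 := d5_2 F42971 D23024 (iv F42970)
def n23025 : Q := act 1 n18613
theorem D23025 : act 1 n18613 = n23025 := rfl
def n23026 : Q := act 1 n18614
theorem D23026 : act 1 n18614 = n23026 := rfl
theorem F45644 : act 2 n23026 = n22634 := d6_2 F33354 D23026 F44463 (iv F39830) F38932
theorem F45645 : act 6 n23026 = n18615 := d10_2 D18614 D23026 (iv D18615) (iv D13580) D13579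
def n23027 : Q := act 4 n18617
theorem D23027 : act 4 n18617 = n23027 := rfl
theorem F45646 : act 0 n23027 = n21604 := d3_1 D23027 F41830 (iv F33303)
theorem F45647 : act 1 n23027 = n21701 := d8_1 D23027 F42046 (iv F33304)
theorem F45648 : act 2 n23027 = n20465 := d12_1 D23027 F38835 (iv F33306)
theorem F45649 : act 5 n23027 = n18630 := d18_2 (iv F33305) D23027 (iv D18630)
def n23028 : Q := act 1 n18618
theorem D23028 : act 1 n18618 = n23028 := rfl
theorem F45650 : act 3 n23028 = n19848 := d7_2 F43343 D23028 (iv F43342)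
theorem F45651 : act 6 n23028 = n20504 := d10_2 D18618 D23028 F38932 (iv D18642) F23857
theorem F45652 : act 5 n22713 = n23028 := d24_1 (iv F44700) (iv D23028) (iv D18618) F23834 F19138 F17156 (iv F11526) D10790 D13594 F29033 D20581 F39045 D20586 (iv F39831)
theorem F45653 : act 2 n23028 = n22705 := d13_1 F45652 F44677 D22713
theorem F45654 : act 0 n19847 = n23028 := d22_4 (iv F45652) F44700 F39833 (iv F37479)
def n23029 : Q := act 0 n18619
theorem D23029 : act 0 n18619 = n23029 := rfl
theorem F45655 : act 1 n23029 = n20659 := d0_2 D18619 D23029 F39205 (iv F34164) F34157 D19053 (iv F35510) (iv D18633) F23841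
theorem F45656 : act 3 n23029 = n19838 := d2_2 F44470 D23029 (iv F44469)
theorem F45657 : act 5 n23029 = n19841 := d4_2 F44486 D23029 (iv F44484)
theorem F45658 : act 6 n23029 = n18620 := d5_2 (iv F33308) D23029 (iv D18620)
def n23030 : Q := act 2 n18619
theorem D23030 : act 2 n18619 = n23030 := rfl
theorem F45659 : act 1 n23030 = n22705 := d6_1 D23030 (iv F45653) (iv D23028) F33307 D18619
theorem F45660 : act 6 n23030 = n18621 := d14_2 (iv F33308) D23030 (iv D18621)
theorem F45661 : act 3 n23030 = n22706 := d21_1 D23030 F44678 (iv D19875) (iv D14626) (iv F25492) D19838 (iv F45656) (iv D23029)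
def n23031 : Q := act 2 n18620
theorem D23031 : act 2 n18620 = n23031 := rfl
theorem F45662 : act 0 n23031 = n18621 := d1_1 D23031 (iv D18621) D18620
def n23032 : Q := act 5 n18620
theorem D23032 : act 5 n18620 = n23032 := rfl
theorem F45663 : act 0 n23032 = n18622 := d4_1 D23032 (iv D18622) D18620
theorem F45664 : act 1 n23032 = n22036 := d9_1 D23032 (iv D22036) F39663 (iv F40074) (iv F40075)
theorem F45665 : act 3 n23032 = n22641 := d16_1 D23032 F44491 F40077
theorem F45666 : act 6 n23032 = n22640 := d20_2 F45658 D23032 F44486 F33308 D18622 (iv F39440) (iv F45657)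
def n23033 : Q := act 5 n18621
theorem D23033 : act 5 n18621 = n23033 := rfl
theorem F45667 : act 2 n23033 = n18622 := d13_1 D23033 (iv D18622) D18621
def n23034 : Q := act 2 n18623
theorem D23034 : act 2 n18623 = n23034 := rfl
theorem F45668 : act 0 n23034 = n18624 := d1_1 D23034 (iv D18624) D18623
theorem F45669 : act 1 n23034 = n19329 := d6_1 D23034 F36077 F45585 (iv D23009) (iv F33310)
theorem F45670 : act 3 n22378 = n23034 := d2_0 F45668 (iv F33312) D22378
def n23035 : Q := act 6 n18623
theorem D23035 : act 6 n18623 = n23035 := rfl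
theorem F45671 : act 0 n23035 = n18626 := d5_1 D23035 (iv D18626) D18623
theorem F45672 : act 1 n23035 = n20834 := d10_1 D23035 (iv D20834) D20833 (iv F39967) (iv F33310)
theorem F45673 : act 3 n23035 = n20798 := d17_1 D23035 F39855 F39496
theorem F45674 : act 5 n23035 = n20795 := d20_1 D23035 F39848 (iv D18625) D18626 (iv F33315) (iv F39482) (iv F39483)
def n23036 : Q := act 5 n18624
theorem D23036 : act 5 n18624 = n23036 := rfl
theorem F45675 : act 1 n23036 = n22227 := d9_1 D23036 (iv D22227) (iv D16927) D16929 (iv F33311)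
theorem F45676 : act 2 n23036 = n18625 := d13_1 D23036 (iv D18625) D18624
theorem F45677 : act 3 n23036 = n22380 := d16_1 D23036 (iv D22380) F33312
def n23037 : Q := act 6 n18624
theorem D23037 : act 6 n18624 = n23037 := rfl
theorem F45678 : act 2 n23037 = n18626 := d14_1 D23037 (iv D18626) D18624
theorem F45679 : act 3 n23037 = n22381 := d17_1 D23037 (iv D22381) F33312
theorem F45680 : act 5 n20796 = n23037 := d16_0 F45679 F44315 F44314
def n23038 : Q := act 4 n18629
theorem D23038 : act 4 n18629 = n23038 := rfl
theorem F45681 : act 0 n23038 = n21612 := d3_1 D23038 F41850 (iv F33322)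
theorem F45682 : act 1 n23038 = n20460 := d8_1 D23038 F38826 (iv F33323)
theorem F45683 : act 2 n23038 = n18630 := d12_1 D23038 (iv D18630) D18629
theorem F45684 : act 5 n23038 = n20465 := d18_2 (iv F33324) D23038 F38835
def n23039 : Q := act 6 n18629
theorem D23039 : act 6 n18629 = n23039 := rfl
theorem F45685 : act 0 n23039 = n20644 := d5_1 D23039 (iv F39399) (iv F33322)
theorem F45686 : act 1 n23039 = n22089 := d10_1 D23039 F42971 (iv D18611) (iv F34551) (iv F33323)
theorem F45687 : act 2 n23039 = n18631 := d14_1 D23039 (iv D18631) D18629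
theorem F45688 : act 3 n23039 = n23026 := d17_1 D23039 F45645 F35359
def n23040 : Q := act 6 n18630
theorem D23040 : act 6 n18630 = n23040 := rfl
theorem F45689 : act 0 n23040 = n21613 := d5_1 D23040 (iv D21613) (iv F33325)
theorem F45690 : act 1 n23040 = n19243 := d10_1 D23040 (iv D19243) F24500 (iv F23881) (iv F33326)
theorem F45691 : act 4 n23040 = n18631 := d19_1 D23040 (iv D18631) D18630
def n23041 : Q := act 1 n18632
theorem D23041 : act 1 n18632 = n23041 := rfl
theorem F45692 : act 5 n23041 = n19245 := d9_2 D18632 D23041 (iv D19245) (iv D14005) (iv F23839)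
theorem F45693 : act 6 n23041 = n19922 := d10_2 (iv F33332) D23041 F43339 (iv D22220) F33301
theorem F45694 : act 2 n19914 = n23041 := d14_3 F45693 (iv D19922) (iv F37621)
def n23042 : Q := act 2 n18633
theorem D23042 : act 2 n18633 = n23042 := rfl
theorem F45695 : act 0 n23042 = n19076 := d1_1 D23042 F35536 (iv F35510)
theorem F45696 : act 1 n23042 = n19914 := d6_1 D23042 F45694 (iv D23041) F33331 D18633
theorem F45697 : act 5 n23042 = n22845 := d13_2 (iv F33333) D23042 (iv D22845)
theorem F45698 : act 3 n23042 = n19910 := d21_1 D23042 (iv D19910) (iv F37610) (iv F40495) F40496 (iv F32892) (iv F35508) (iv F35510)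
theorem F45699 : act 6 n21024 = n23042 := d17_0 F45698 F37614 (iv F40489)
def n23043 : Q := act 6 n18633
theorem D23043 : act 6 n18633 = n23043 := rfl
theorem F45700 : act 0 n23043 = n21025 := d5_1 D23043 F40491 (iv F35510)
theorem F45701 : act 1 n23043 = n20690 := d10_1 D23043 F39257 (iv F33256) (iv F23842) D18633
theorem F45702 : act 2 n23043 = n21024 := d14_1 D23043 F45699 (iv D23042)
theorem F45703 : act 3 n23043 = n22633 := d17_1 D23043 F44462 F44442
theorem F45704 : act 5 n23043 = n22632 := d20_1 D23043 (iv D22632) (iv F35509) (iv F40491) (iv F40493) F37611 (iv F33333)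
def n23044 : Q := act 6 n18634
theorem D23044 : act 6 n18634 = n23044 := rfl
theorem F45705 : act 2 n23044 = n21173 := d14_1 D23044 (iv D21173) F38889
theorem F45706 : act 3 n23044 = n20501 := d17_1 D23044 (iv D20501) (iv F33334)
theorem F45707 : act 4 n23044 = n21172 := d19_1 D23044 (iv D21172) F38891
def n23045 : Q := act 6 n18635
theorem D23045 : act 6 n18635 = n23045 := rfl
theorem F45708 : act 0 n23045 = n19664 := d5_1 D23045 (iv D19664) (iv F33336)
theorem F45709 : act 2 n23045 = n19362 := d14_1 D23045 (iv D19362) (iv F33338)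
theorem F45710 : act 3 n23045 = n18637 := d17_1 D23045 (iv D18637) (iv F33339)
theorem F45711 : act 4 n23045 = n18636 := d19_1 D23045 (iv D18636) D18635
theorem F45712 : act 5 n23045 = n19362 := d20_1 D23045 (iv D19362) F29009 D19664 F36994 (iv D19251) (iv F33340)
def n23046 : Q := act 0 n18638
theorem D23046 : act 0 n18638 = n23046 := rfl
theorem F45713 : act 1 n23046 = n20392 := d0_2 D18638 D23046 F38692 F26308 (iv F28562) D21824 (iv F42316) (iv D19256) F24511
theorem F45714 : act 4 n23046 = n18639 := d3_2 (iv F33348) D23046 (iv D18639)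
def n23047 : Q := act 1 n18641
theorem D23047 : act 1 n18641 = n23047 := rfl
theorem F45715 : act 3 n23047 = n20685 := d7_2 (iv F43659) D23047 F43660
theorem F45716 : act 5 n23047 = n20684 := d9_2 D18641 D23047 (iv D20684) F34134 (iv D18640)
def n23048 : Q := act 5 n18643
theorem D23048 : act 5 n18643 = n23048 := rfl
theorem F45717 : act 2 n23048 = n21185 := d13_1 D23048 (iv D21185) F38968
theorem F45718 : act 3 n23048 = n20547 := d16_1 D23048 (iv D20547) F35280
theorem F45719 : act 4 n23048 = n21184 := d18_1 D23048 (iv D21184) F38970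
def n23049 : Q := act 5 n18653
theorem D23049 : act 5 n18653 = n23049 := rfl
theorem F45720 : act 0 n23049 = n19680 := d4_1 D23049 (iv D19680) F34541
theorem F45721 : act 2 n23049 = n19399 := d13_1 D23049 (iv D19399) (iv F33371)
theorem F45722 : act 3 n23049 = n18655 := d16_1 D23049 (iv D18655) (iv F33372)
theorem F45723 : act 4 n23049 = n18654 := d18_1 D23049 (iv D18654) D18653
theorem F45724 : act 6 n23049 = n19399 := d20_2 (iv F33373) D23049 (iv D19399) (iv F34544) D19680 F37027 (iv D19308)
def n23050 : Q := act 0 n18657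
theorem D23050 : act 0 n18657 = n23050 := rfl
theorem F45725 : act 1 n23050 = n20427 := d0_2 D18657 D23050 F38755 F26348 (iv F28627) D21877 (iv F42441) (iv D19313) F24561
theorem F45726 : act 4 n23050 = n18658 := d3_2 (iv F33382) D23050 (iv D18658)
def n23051 : Q := act 1 n18662
theorem D23051 : act 1 n18662 = n23051 := rfl
theorem F45727 : act 3 n23051 = n20740 := d7_2 (iv F43103) D23051 F43102
theorem F45728 : act 6 n23051 = n20738 := d10_2 D18662 D23051 (iv D20738) F35043 (iv D18661)
def n23052 : Q := act 1 n18665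
theorem D23052 : act 1 n18665 = n23052 := rfl
theorem F45729 : act 3 n23052 = n19749 := d7_2 F36992 D23052 F37221
theorem F45730 : act 4 n23052 = n18666 := d8_2 (iv F33396) D23052 (iv D18666)
theorem F45731 : act 5 n23052 = n19788 := d9_2 (iv F33397) D23052 F37310 (iv F37225) (iv D19252)
theorem F45732 : act 6 n23052 = n19707 := d10_2 D18665 D23052 (iv D19707) F25295 (iv F29006)
theorem F45733 : act 0 n23052 = n19790 := d22_4 (iv D19790) D19791 (iv F37321) (iv F45732)
theorem F45734 : act 2 n20438 = n23052 := d13_3 F45731 (iv F37312) D20438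
def n23053 : Q := act 1 n18667
theorem D23053 : act 1 n18667 = n23053 := rfl
theorem F45735 : act 0 n23053 = n22680 := d0_1 D23053 (iv D22680) (iv F44600) F44604 (iv D19367) (iv D14116) F19570 D13631 D18667
theorem F45736 : act 3 n23053 = n20021 := d7_2 (iv F33402) D23053 F37826
theorem F45737 : act 5 n23053 = n19932 := d9_2 F33403 D23053 (iv D19932) F25655 D14712
theorem F45738 : act 2 n22682 = n23053 := d1_0 F45735 F44605 D22682
def n23054 : Q := act 1 n18690
theorem D23054 : act 1 n18690 = n23054 := rfl
theorem F45739 : act 3 n23054 = n19787 := d7_2 F37025 D23054 F37308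
theorem F45740 : act 4 n23054 = n18691 := d8_2 (iv F33446) D23054 (iv D18691)
theorem F45741 : act 5 n23054 = n19720 := d9_2 D18690 D23054 (iv D19720) F25309 F34537
theorem F45742 : act 6 n23054 = n19750 := d10_2 (iv F33447) D23054 (iv F37310) (iv F37313) (iv D19309)
theorem F45743 : act 0 n19753 = n23054 := d5_3 F45742 (iv D19750) D19753
theorem F45744 : act 2 n20404 = n23054 := d14_3 F45742 (iv F37224) D20404
def n23055 : Q := act 1 n18692
theorem D23055 : act 1 n18692 = n23055 := rfl
theorem F45745 : act 0 n23055 = n22716 := d0_1 D23055 (iv D22716) (iv F44703) F44706 (iv D19403) (iv D14173) F19631 D13648 D18692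
theorem F45746 : act 3 n23055 = n19968 := d7_2 F35199 D23055 F37732
theorem F45747 : act 6 n23055 = n19912 := d10_2 (iv F35200) D23055 (iv D19912) F25629 D14689
theorem F45748 : act 2 n22718 = n23055 := d1_0 F45745 F44708 D22718
def n23056 : Q := act 6 n18701
theorem D23056 : act 6 n18701 = n23056 := rfl
theorem F45749 : act 0 n23056 = n21499 := d5_1 D23056 (iv D21499) (iv F33488)
theorem F45750 : act 4 n23056 = n19019 := d19_1 D23056 (iv D19019) (iv F33471)
def n23057 : Q := act 5 n18702
theorem D23057 : act 5 n18702 = n23057 := rfl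
theorem F45751 : act 0 n23057 = n21658 := d4_1 D23057 (iv D21658) F34575
theorem F45752 : act 4 n23057 = n19022 := d18_1 D23057 (iv D19022) (iv F33472)
def n23058 : Q := act 0 n18703
theorem D23058 : act 0 n18703 = n23058 := rfl
theorem F45753 : act 1 n23058 = n21519 := d0_2 D18703 D23058 F41648 F28180 F21536 D16167 D21345 (iv F41294) F33465
theorem F45754 : act 3 n23058 = n18707 := d2_2 (iv F33473) D23058 (iv D18707)
theorem F45755 : act 5 n23058 = n18715 := d4_2 (iv F33474) D23058 (iv D18715)
def n23059 : Q := act 2 n18703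
theorem D23059 : act 2 n18703 = n23059 := rfl
theorem F45756 : act 1 n23059 = n21128 := d6_1 D23059 (iv D21128) (iv D15979) (iv F23968) D18703
theorem F45757 : act 5 n23059 = n18716 := d13_2 (iv F33474) D23059 (iv D18716)
def n23060 : Q := act 6 n18703
theorem D23060 : act 6 n18703 = n23060 := rfl
theorem F45758 : act 3 n23060 = n18709 := d17_1 D23060 (iv D18709) (iv F33473)
def n23061 : Q := act 1 n18704
theorem D23061 : act 1 n18704 = n23061 := rfl
theorem F45759 : act 3 n23061 = n18710 := d7_2 (iv F33476) D23061 (iv D18710)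
def n23062 : Q := act 0 n18705
theorem D23062 : act 0 n18705 = n23062 := rfl
theorem F45760 : act 1 n23062 = n21678 := d0_2 D18705 D23062 F41992 F28389 F21625 D16212 D21418 (iv F41427) F33468
theorem F45761 : act 3 n23062 = n18711 := d2_2 (iv F33478) D23062 (iv D18711)
theorem F45762 : act 6 n23062 = n18718 := d5_2 (iv F33479) D23062 (iv D18718)
def n23063 : Q := act 2 n18705
theorem D23063 : act 2 n18705 = n23063 := rfl
theorem F45763 : act 1 n23063 = n21130 := d6_1 D23063 (iv D21130) (iv D15981) (iv F23970) D18705
theorem F45764 : act 6 n23063 = n18719 := d14_2 (iv F33479) D23063 (iv D18719)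
def n23064 : Q := act 5 n18705
theorem D23064 : act 5 n18705 = n23064 := rfl
theorem F45765 : act 3 n23064 = n18713 := d16_1 D23064 (iv D18713) (iv F33478)
def n23065 : Q := act 1 n18706
theorem D23065 : act 1 n18706 = n23065 := rfl
theorem F45766 : act 3 n23065 = n18714 := d7_2 (iv F33482) D23065 (iv D18714)
def n23066 : Q := act 6 n18708
theorem D23066 : act 6 n18708 = n23066 := rfl
theorem F45767 : act 0 n23066 = n19908 := d5_1 D23066 (iv D19908) (iv F33489)
theorem F45768 : act 2 n23066 = n18709 := d14_1 D23066 (iv D18709) D18708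
theorem F45769 : act 4 n23066 = n19024 := d19_1 D23066 (iv D19024) (iv F33490)
theorem F45770 : act 1 n20825 = n23066 := d24_14 (iv D23066) F33491 (iv F29246) F25818 (iv F26717) (iv F32245) (iv D18382) (iv F32241) (iv D18379) (iv F23646) (iv D13444) D13442 (iv F34306) D20825
def n23067 : Q := act 1 n18709
theorem D23067 : act 1 n18709 = n23067 := rfl
theorem F45771 : act 2 n23067 = n20830 := d6_2 F45768 D23067 (iv D20830) (iv F39937) F45770
theorem F45772 : act 4 n23067 = n19025 := d8_2 (iv F33492) D23067 (iv D19025)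
theorem F45773 : act 6 n23067 = n18710 := d10_2 D18709 D23067 (iv D18710) (iv D13659) D13658
theorem F45774 : act 5 n20843 = n23067 := d24_1 F40000 (iv D23067) (iv D18709) F23973 (iv D10836) (iv F11949) (iv D8005) D8004 F11946 D8016 D10875 D13748 (iv F24149) D18900
def n23068 : Q := act 0 n18710
theorem D23068 : act 0 n18710 = n23068 := rfl
theorem F45775 : act 4 n23068 = n19026 := d3_2 (iv F33493) D23068 (iv D19026)
theorem F45776 : act 5 n23068 = n18900 := d22_0 F40000 F45774 F45773 D23068
theorem F45777 : act 2 n22884 = n23068 := d13_3 F45776 (iv F40002) F45242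
def n23069 : Q := act 2 n18710
theorem D23069 : act 2 n18710 = n23069 := rfl
theorem F45778 : act 0 n23069 = n22884 := d1_1 D23069 F45777 (iv D23068)
theorem F45779 : act 4 n23069 = n19027 := d12_2 (iv F33493) D23069 (iv D19027)
theorem F45780 : act 6 n23069 = n20830 := d14_2 F45773 D23069 (iv F45771)
theorem F45781 : act 5 n22896 = n23069 := d20_7 F45780 F39955 D20844 F45242 (iv F45309) (iv D22903) (iv F45293)
theorem F45782 : act 3 n22914 = n23069 := d15_5 F45779 (iv F35056) (iv F39982) F39981 (iv F45331)
def n23070 : Q := act 5 n18710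
theorem D23070 : act 5 n18710 = n23070 := rfl
theorem F45783 : act 0 n23070 = n18900 := d4_1 D23070 (iv F45776) (iv D23068)
theorem F45784 : act 1 n23070 = n23057 := d9_1 D23070 (iv D23057) (iv D18702) (iv F23975) D18710
theorem F45785 : act 2 n23070 = n22896 := d13_1 D23070 F45781 (iv D23069)
theorem F45786 : act 4 n23070 = n19028 := d18_1 D23070 (iv D19028) (iv F33493)
theorem F45787 : act 6 n23070 = n22902 := d22_3 F45774 F45773 D23070 F45304
def n23071 : Q := act 5 n18712
theorem D23071 : act 5 n18712 = n23071 := rfl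
theorem F45788 : act 0 n23071 = n19928 := d4_1 D23071 (iv D19928) (iv F35367)
theorem F45789 : act 2 n23071 = n18713 := d13_1 D23071 (iv D18713) D18712
theorem F45790 : act 4 n23071 = n19032 := d18_1 D23071 (iv D19032) (iv F33496)
theorem F45791 : act 1 n23071 = n20770 := d24_2 (iv F33497) D23071 (iv D20770) (iv F29238) (iv D13432) D13434 F23627 D18371 F32226 D18374 (iv F34187) F26781 (iv F25858) F34182
def n23072 : Q := act 1 n18713
theorem D23072 : act 1 n18713 = n23072 := rfl
theorem F45792 : act 2 n23072 = n20776 := d6_2 F45789 D23072 (iv D20776) (iv F39447) (iv F45791)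
theorem F45793 : act 4 n23072 = n19033 := d8_2 (iv F33498) D23072 (iv D19033)
theorem F45794 : act 5 n23072 = n18714 := d9_2 D18713 D23072 (iv D18714) (iv D13661) D13660
theorem F45795 : act 6 n23072 = n20792 := d24_3 (iv F23977) D18713 D23072 (iv F39519) (iv D18853) F24110 (iv D13726) (iv D10865) (iv D8012) (iv F11942) (iv D8002) D8003 F11944 D10837
def n23073 : Q := act 0 n18714
theorem D23073 : act 0 n18714 = n23073 := rfl
theorem F45796 : act 4 n23073 = n19034 := d3_2 (iv F33499) D23073 (iv D19034)
theorem F45797 : act 6 n18853 = n23073 := d22_3 (iv F45794) F45795 (iv F39519) (iv D23073)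
theorem F45798 : act 2 n23073 = n22893 := d14_1 F45797 (iv F45279) F39521
def n23074 : Q := act 2 n18714
theorem D23074 : act 2 n18714 = n23074 := rfl
theorem F45799 : act 0 n23074 = n22893 := d1_1 D23074 (iv F45798) (iv D23073)
theorem F45800 : act 1 n23074 = n23069 := d6_1 D23074 (iv D23069) (iv D18710) (iv F23979) D18714
theorem F45801 : act 4 n23074 = n19035 := d12_2 (iv F33499) D23074 (iv D19035)
theorem F45802 : act 5 n23074 = n20776 := d13_2 F45794 D23074 (iv F45792)
theorem F45803 : act 6 n22925 = n23074 := d20_0 F45802 F39468 D20793 F45279 (iv F45378) (iv D22932) (iv F45362)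
theorem F45804 : act 3 n22943 = n23074 := d15_5 F45801 (iv F34122) (iv F39497) F39496 (iv F45401)
def n23075 : Q := act 6 n18714
theorem D23075 : act 6 n18714 = n23075 := rfl
theorem F45805 : act 0 n23075 = n18853 := d5_1 D23075 F45797 (iv D23073)
theorem F45806 : act 1 n23075 = n23056 := d10_1 D23075 (iv D23056) (iv D18701) (iv F23981) D18714
theorem F45807 : act 2 n23075 = n22925 := d14_1 D23075 F45803 (iv D23074)
theorem F45808 : act 4 n23075 = n19036 := d19_1 D23075 (iv D19036) (iv F33499)
theorem F45809 : act 5 n22931 = n23075 := d22_0 (iv D23075) (iv F45794) F45795 (iv F45373)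
def n23076 : Q := act 1 n18715
theorem D23076 : act 1 n18715 = n23076 := rfl
theorem F45810 : act 3 n23076 = n18721 := d7_2 (iv F33500) D23076 (iv D18721)
def n23077 : Q := act 2 n18715
theorem D23077 : act 2 n18715 = n23077 := rfl
theorem F45811 : act 0 n23077 = n18716 := d1_1 D23077 (iv D18716) D18715
def n23078 : Q := act 6 n18715
theorem D23078 : act 6 n18715 = n23078 := rfl
theorem F45812 : act 0 n23078 = n18717 := d5_1 D23078 (iv D18717) D18715
theorem F45813 : act 3 n23078 = n18723 := d17_1 D23078 (iv D18723) (iv F33500)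
theorem F45814 : act 5 n23078 = n23060 := d22_2 F45755 D23078 (iv D23060) D23058
def n23079 : Q := act 3 n18716
theorem D23079 : act 3 n18716 = n23079 := rfl
theorem F45815 : act 1 n23079 = n21093 := d7_1 D23079 (iv D21093) (iv F33501)
def n23080 : Q := act 6 n18716
theorem D23080 : act 6 n18716 = n23080 := rfl
theorem F45816 : act 2 n23080 = n18717 := d14_1 D23080 (iv D18717) D18716
def n23081 : Q := act 5 n18717
theorem D23081 : act 5 n18717 = n23081 := rfl
theorem F45817 : act 0 n23081 = n23060 := d4_1 D23081 (iv F45814) F45812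
theorem F45818 : act 3 n23081 = n18725 := d16_1 D23081 (iv D18725) (iv F33502)
theorem F45819 : act 6 n23081 = n23058 := d20_2 D18717 D23081 F45755 D23078 F45814 (iv D23060) F33474
def n23082 : Q := act 1 n18718
theorem D23082 : act 1 n18718 = n23082 := rfl
theorem F45820 : act 3 n23082 = n18726 := d7_2 (iv F33503) D23082 (iv D18726)
def n23083 : Q := act 2 n18718
theorem D23083 : act 2 n18718 = n23083 := rfl
theorem F45821 : act 0 n23083 = n18719 := d1_1 D23083 (iv D18719) D18718
def n23084 : Q := act 5 n18718
theorem D23084 : act 5 n18718 = n23084 := rfl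
theorem F45822 : act 0 n23084 = n18720 := d4_1 D23084 (iv D18720) D18718
theorem F45823 : act 3 n23084 = n18728 := d16_1 D23084 (iv D18728) (iv F33503)
theorem F45824 : act 6 n23084 = n23064 := d22_1 D23084 (iv D23064) F33479 D18718
def n23085 : Q := act 3 n18719
theorem D23085 : act 3 n18719 = n23085 := rfl
theorem F45825 : act 1 n23085 = n21101 := d7_1 D23085 (iv D21101) (iv F33504)
def n23086 : Q := act 5 n18719
theorem D23086 : act 5 n18719 = n23086 := rfl
theorem F45826 : act 2 n23086 = n18720 := d13_1 D23086 (iv D18720) D18719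
def n23087 : Q := act 6 n18720
theorem D23087 : act 6 n18720 = n23087 := rfl
theorem F45827 : act 0 n23087 = n23064 := d5_1 D23087 (iv F45824) F45822
theorem F45828 : act 3 n23087 = n18731 := d17_1 D23087 (iv D18731) (iv F33505)
theorem F45829 : act 5 n23087 = n23062 := d20_1 D23087 F45762 D23084 F45824 (iv D23064) F33479 D18720
def n23088 : Q := act 0 n18721
theorem D23088 : act 0 n18721 = n23088 := rfl
theorem F45830 : act 1 n23088 = n18748 := d0_2 D18721 D23088 (iv D18748) (iv D13680) (iv D10844) (iv D8002) (iv F11935) D10836 D13664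
theorem F45831 : act 4 n23088 = n19037 := d3_2 (iv F33506) D23088 (iv D19037)
theorem F45832 : act 2 n21912 = n23088 := d12_3 F45831 (iv F34141) D21912
theorem F45833 : act 5 n22750 = n23088 := d18_0 F45831 (iv F34142) (iv F44803)
theorem F45834 : act 6 n21691 = n23088 := d19_0 F45831 (iv F45042) F45040
def n23089 : Q := act 2 n18721
theorem D23089 : act 2 n18721 = n23089 := rfl
theorem F45835 : act 0 n23089 = n21912 := d1_1 D23089 F45832 (iv D23088)
theorem F45836 : act 4 n23089 = n19038 := d12_2 (iv F33506) D23089 (iv D19038)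
def n23090 : Q := act 5 n18721
theorem D23090 : act 5 n18721 = n23090 := rfl
theorem F45837 : act 0 n23090 = n22750 := d4_1 D23090 F45833 (iv D23088)
theorem F45838 : act 1 n23090 = n21520 := d9_1 D23090 (iv D21520) F33487 F33485 D18721
theorem F45839 : act 4 n23090 = n19039 := d18_1 D23090 (iv D19039) (iv F33506)
def n23091 : Q := act 6 n18721
theorem D23091 : act 6 n18721 = n23091 := rfl
theorem F45840 : act 0 n23091 = n21691 := d5_1 D23091 F45834 (iv D23088)
theorem F45841 : act 4 n23091 = n19040 := d19_1 D23091 (iv D19040) (iv F33506)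
def n23092 : Q := act 6 n18722
theorem D23092 : act 6 n18722 = n23092 := rfl
theorem F45842 : act 0 n23092 = n18724 := d5_1 D23092 (iv D18724) (iv F33507)
theorem F45843 : act 2 n23092 = n18723 := d14_1 D23092 (iv D18723) D18722
theorem F45844 : act 4 n23092 = n19041 := d19_1 D23092 (iv D19041) (iv F33508)
theorem F45845 : act 5 n23092 = n23066 := d20_1 D23092 (iv D23066) F33491 D18724 (iv F37609) (iv D19908) (iv F33509)
theorem F45846 : act 1 n20722 = n23092 := d24_14 (iv D23092) F33509 F32006 (iv F32041) (iv D18299) (iv F23658) (iv D13451) (iv F23651) (iv D13447) D13448 F23654 D18375 (iv F35356) D20722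
def n23093 : Q := act 1 n18723
theorem D23093 : act 1 n18723 = n23093 := rfl
theorem F45847 : act 2 n23093 = n20724 := d6_2 F45843 D23093 (iv D20724) (iv F39328) F45846
theorem F45848 : act 4 n23093 = n19042 := d8_2 (iv F33511) D23093 (iv D19042)
theorem F45849 : act 5 n23093 = n18896 := d9_2 (iv F33512) D23093 (iv F39998) F45774 (iv D23067)
def n23094 : Q := act 0 n18726
theorem D23094 : act 0 n18726 = n23094 := rfl
theorem F45850 : act 1 n23094 = n18765 := d0_2 D18726 D23094 (iv D18765) (iv D13688) (iv D10848) (iv D8004) (iv F11937) D10837 D13667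
theorem F45851 : act 4 n23094 = n19045 := d3_2 (iv F33518) D23094 (iv D19045)
theorem F45852 : act 2 n21915 = n23094 := d12_3 F45851 F35175 D21915
theorem F45853 : act 5 n21532 = n23094 := d18_0 F45851 (iv F45003) F45002
theorem F45854 : act 6 n22753 = n23094 := d19_0 F45851 F34666 (iv F44813)
def n23095 : Q := act 2 n18726
theorem D23095 : act 2 n18726 = n23095 := rfl
theorem F45855 : act 0 n23095 = n21915 := d1_1 D23095 F45852 (iv D23094)
theorem F45856 : act 4 n23095 = n19046 := d12_2 (iv F33518) D23095 (iv D19046)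
def n23096 : Q := act 5 n18726
theorem D23096 : act 5 n18726 = n23096 := rfl
theorem F45857 : act 0 n23096 = n21532 := d4_1 D23096 F45853 (iv D23094)
theorem F45858 : act 4 n23096 = n19047 := d18_1 D23096 (iv D19047) (iv F33518)
def n23097 : Q := act 6 n18726
theorem D23097 : act 6 n18726 = n23097 := rfl
theorem F45859 : act 0 n23097 = n22753 := d5_1 D23097 F45854 (iv D23094)
theorem F45860 : act 1 n23097 = n21680 := d10_1 D23097 (iv D21680) (iv F34574) F33495 D18726
theorem F45861 : act 4 n23097 = n19048 := d19_1 D23097 (iv D19048) (iv F33518)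
def n23098 : Q := act 5 n18727
theorem D23098 : act 5 n18727 = n23098 := rfl
theorem F45862 : act 0 n23098 = n18730 := d4_1 D23098 (iv D18730) (iv F33519)
theorem F45863 : act 2 n23098 = n18728 := d13_1 D23098 (iv D18728) D18727
theorem F45864 : act 4 n23098 = n19051 := d18_1 D23098 (iv D19051) (iv F33520)
theorem F45865 : act 6 n23098 = n23071 := d20_2 (iv F35368) D23098 (iv D23071) F33497 D18730 (iv F37655) (iv D19928)
theorem F45866 : act 1 n23098 = n20668 := d24_2 (iv F35368) D23098 (iv D20668) (iv F32215) (iv D18367) (iv F23635) (iv D13438) D13437 F23632 D13441 F23639 D18305 F32054 F35365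
def n23099 : Q := act 1 n18728
theorem D23099 : act 1 n18728 = n23099 := rfl
theorem F45867 : act 2 n23099 = n20671 := d6_2 F45863 D23099 (iv D20671) (iv F39222) (iv F45866)
theorem F45868 : act 4 n23099 = n19052 := d8_2 (iv F33522) D23099 (iv D19052)
theorem F45869 : act 6 n23099 = n18848 := d10_2 (iv F33523) D23099 (iv F39517) (iv F45795) (iv D23072)
def n23100 : Q := act 6 n18732
theorem D23100 : act 6 n18732 = n23100 := rfl
theorem F45870 : act 0 n23100 = n18734 := d5_1 D23100 (iv D18734) D18732
theorem F45871 : act 2 n23100 = n22756 := d14_1 D23100 (iv D22756) (iv F33531)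
theorem F45872 : act 3 n23100 = n20349 := d17_1 D23100 F38615 (iv F33529)
theorem F45873 : act 4 n23100 = n21414 := d19_1 D23100 F41420 F33534
theorem F45874 : act 5 n23100 = n22756 := d20_1 D23100 (iv D22756) F31811 D18734 F41421 F41420 F33535
theorem F45875 : act 1 n20289 = n23100 := d24_14 (iv D23100) (iv F33535) F33533 (iv F27969) (iv D16158) D16157 F27965 D16166 F27977 (iv F27771) (iv D16061) D16059 D21216 (iv F41024)
def n23101 : Q := act 5 n18735
theorem D23101 : act 5 n18735 = n23101 := rfl
theorem F45876 : act 0 n23101 = n18737 := d4_1 D23101 (iv D18737) D18735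
theorem F45877 : act 2 n23101 = n22757 := d13_1 D23101 (iv D22757) (iv F33542)
theorem F45878 : act 3 n23101 = n20315 := d16_1 D23101 F38534 (iv F33540)
theorem F45879 : act 4 n23101 = n21340 := d18_1 D23101 (iv F41283) F33545
theorem F45880 : act 6 n23101 = n22757 := d20_2 F33546 D23101 (iv D22757) F31814 D18737 (iv F41285) (iv F41283)
theorem F45881 : act 1 n23101 = n20269 := d24_2 F33546 D23101 (iv F41069) (iv D21240) (iv D16078) D16080 F27793 (iv F28035) (iv D16211) (iv F28021) (iv D16199) D16200 F28024 (iv F33544)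
def n23102 : Q := act 0 n18738
theorem D23102 : act 0 n18738 = n23102 := rfl
theorem F45882 : act 3 n23102 = n18748 := d2_2 (iv F33549) D23102 (iv D18748)
theorem F45883 : act 6 n21690 = n23102 := d17_0 F45882 (iv F35515) (iv F42030)
def n23103 : Q := act 2 n18738
theorem D23103 : act 2 n18738 = n23103 := rfl
theorem F45884 : act 1 n23103 = n21202 := d6_1 D23103 F40992 F27756 F24000 D18738
def n23104 : Q := act 6 n18738
theorem D23104 : act 6 n18738 = n23104 := rfl
theorem F45885 : act 0 n23104 = n21690 := d5_1 D23104 F45883 (iv D23102)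
theorem F45886 : act 3 n23104 = n18751 := d17_1 D23104 (iv D18751) (iv F33549)
def n23105 : Q := act 0 n18739
theorem D23105 : act 0 n18739 = n23105 := rfl
theorem F45887 : act 3 n23105 = n18756 := d2_2 (iv F33550) D23105 (iv D18756)
theorem F45888 : act 6 n23105 = n18740 := d5_2 (iv F33551) D23105 (iv D18740)
def n23106 : Q := act 2 n18739
theorem D23106 : act 2 n18739 = n23106 := rfl
theorem F45889 : act 6 n23106 = n18741 := d14_2 (iv F33551) D23106 (iv D18741)
def n23107 : Q := act 5 n18739
theorem D23107 : act 5 n18739 = n23107 := rfl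
theorem F45890 : act 3 n23107 = n18758 := d16_1 D23107 (iv D18758) (iv F33550)
def n23108 : Q := act 1 n18740
theorem D23108 : act 1 n18740 = n23108 := rfl
theorem F45891 : act 3 n23108 = n18759 := d7_2 (iv F33552) D23108 (iv D18759)
def n23109 : Q := act 2 n18740
theorem D23109 : act 2 n18740 = n23109 := rfl
theorem F45892 : act 0 n23109 = n18741 := d1_1 D23109 (iv D18741) D18740
theorem F45893 : act 3 n23109 = n20301 := d21_1 D23109 (iv D20301) F26169 D15086 F39756 (iv D13686) (iv F24005) D18740
def n23110 : Q := act 5 n18740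
theorem D23110 : act 5 n18740 = n23110 := rfl
theorem F45894 : act 0 n23110 = n18742 := d4_1 D23110 (iv D18742) D18740
theorem F45895 : act 3 n23110 = n18761 := d16_1 D23110 (iv D18761) (iv F33552)
theorem F45896 : act 6 n23110 = n23107 := d22_1 D23110 (iv D23107) F33551 D18740
def n23111 : Q := act 3 n18741
theorem D23111 : act 3 n18741 = n23111 := rfl
theorem F45897 : act 0 n23111 = n20301 := d2_1 D23111 (iv F45893) F45892
theorem F45898 : act 2 n23111 = n20300 := d11_1 D23111 F38486 D20367 (iv F39785) (iv D18760) (iv F33552) D23109 F45893 (iv D20301) F26169 D15086 F39756 (iv D13686) (iv F24005) D18741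
theorem F45899 : act 4 n21446 = n23111 := d12_0 F45898 F38487 D21446
def n23112 : Q := act 5 n18741
theorem D23112 : act 5 n18741 = n23112 := rfl
theorem F45900 : act 2 n23112 = n18742 := d13_1 D23112 (iv D18742) D18741
def n23113 : Q := act 6 n18742
theorem D23113 : act 6 n18742 = n23113 := rfl
theorem F45901 : act 0 n23113 = n23107 := d5_1 D23113 (iv F45896) F45894
theorem F45902 : act 3 n23113 = n18764 := d17_1 D23113 (iv D18764) (iv F33554)
theorem F45903 : act 5 n23113 = n23105 := d20_1 D23113 F45888 D23110 F45896 (iv D23107) F33551 D18742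
def n23114 : Q := act 0 n18743
theorem D23114 : act 0 n18743 = n23114 := rfl
theorem F45904 : act 3 n23114 = n18765 := d2_2 (iv F33555) D23114 (iv D18765)
theorem F45905 : act 5 n21531 = n23114 := d16_0 F45904 F35545 (iv F41686)
def n23115 : Q := act 2 n18743
theorem D23115 : act 2 n18743 = n23115 := rfl
theorem F45906 : act 1 n23115 = n21227 := d6_1 D23115 F41039 F27778 F24008 D18743
def n23116 : Q := act 5 n18743
theorem D23116 : act 5 n18743 = n23116 := rfl
theorem F45907 : act 0 n23116 = n21531 := d4_1 D23116 F45905 (iv D23114)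
theorem F45908 : act 3 n23116 = n18767 := d16_1 D23116 (iv D18767) (iv F33555)
def n23117 : Q := act 0 n18744
theorem D23117 : act 0 n18744 = n23117 := rfl
theorem F45909 : act 3 n23117 = n18774 := d2_2 (iv F33556) D23117 (iv D18774)
theorem F45910 : act 5 n23117 = n18745 := d4_2 (iv F33557) D23117 (iv D18745)
def n23118 : Q := act 2 n18744
theorem D23118 : act 2 n18744 = n23118 := rfl
theorem F45911 : act 5 n23118 = n18746 := d13_2 (iv F33557) D23118 (iv D18746)
def n23119 : Q := act 6 n18744
theorem D23119 : act 6 n18744 = n23119 := rfl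
theorem F45912 : act 3 n23119 = n18776 := d17_1 D23119 (iv D18776) (iv F33556)
def n23120 : Q := act 1 n18745
theorem D23120 : act 1 n18745 = n23120 := rfl
theorem F45913 : act 3 n23120 = n18777 := d7_2 (iv F33558) D23120 (iv D18777)
def n23121 : Q := act 2 n18745
theorem D23121 : act 2 n18745 = n23121 := rfl
theorem F45914 : act 0 n23121 = n18746 := d1_1 D23121 (iv D18746) D18745
theorem F45915 : act 3 n23121 = n20282 := d21_1 D23121 (iv D20282) F26146 D15059 F39712 (iv D13694) (iv F24013) D18745
def n23122 : Q := act 6 n18745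
theorem D23122 : act 6 n18745 = n23122 := rfl
theorem F45916 : act 0 n23122 = n18747 := d5_1 D23122 (iv D18747) D18745
theorem F45917 : act 3 n23122 = n18779 := d17_1 D23122 (iv D18779) (iv F33558)
theorem F45918 : act 5 n23122 = n23119 := d22_2 F45910 D23122 (iv D23119) D23117
def n23123 : Q := act 3 n18746
theorem D23123 : act 3 n18746 = n23123 := rfl
theorem F45919 : act 0 n23123 = n20282 := d2_1 D23123 (iv F45915) F45914
theorem F45920 : act 2 n23123 = n20281 := d11_1 D23123 F38439 D20333 (iv F39741) (iv D18778) (iv F33558) D23121 F45915 (iv D20282) F26146 D15059 F39712 (iv D13694) (iv F24013) D18746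
theorem F45921 : act 4 n21377 = n23123 := d12_0 F45920 F38440 D21377
def n23124 : Q := act 6 n18746
theorem D23124 : act 6 n18746 = n23124 := rfl
theorem F45922 : act 2 n23124 = n18747 := d14_1 D23124 (iv D18747) D18746
def n23125 : Q := act 5 n18747
theorem D23125 : act 5 n18747 = n23125 := rfl
theorem F45923 : act 0 n23125 = n23119 := d4_1 D23125 (iv F45918) F45916
theorem F45924 : act 3 n23125 = n18782 := d16_1 D23125 (iv D18782) (iv F33560)
theorem F45925 : act 6 n23125 = n23117 := d20_2 D18747 D23125 F45910 D23122 F45918 (iv D23119) F33557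
def n23126 : Q := act 3 n18749
theorem D23126 : act 3 n18749 = n23126 := rfl
theorem F45926 : act 0 n23126 = n21523 := d2_1 D23126 F41659 F33564
theorem F45927 : act 4 n23126 = n21519 := d15_2 (iv F33562) D23126 (iv D21519) (iv F34087) F34086
theorem F45928 : act 5 n23126 = n23102 := d16_2 F33563 D23126 F45882
def n23127 : Q := act 6 n18749
theorem D23127 : act 6 n18749 = n23127 := rfl
theorem F45929 : act 0 n23127 = n21686 := d5_1 D23127 F42017 F33564
theorem F45930 : act 2 n23127 = n18751 := d14_1 D23127 (iv D18751) D18749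
theorem F45931 : act 4 n23127 = n19056 := d19_1 D23127 (iv D19056) (iv F33562)
theorem F45932 : act 5 n23127 = n18751 := d20_1 D23127 (iv D18751) D18750 (iv F42017) F42016 F35515 F33563
def n23128 : Q := act 6 n18753
theorem D23128 : act 6 n18753 = n23128 := rfl
theorem F45933 : act 2 n23128 = n18986 := d14_1 D23128 (iv D18986) (iv F33571)
theorem F45934 : act 3 n23128 = n19058 := d17_1 D23128 (iv D19058) (iv F33572)
theorem F45935 : act 4 n23128 = n18754 := d19_1 D23128 (iv D18754) D18753
def n23129 : Q := act 1 n18754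
theorem D23129 : act 1 n18754 = n23129 := rfl
theorem F45936 : act 3 n23129 = n18755 := d7_2 (iv F33574) D23129 (iv D18755)
def n23130 : Q := act 0 n18755
theorem D23130 : act 0 n18755 = n23130 := rfl
theorem F45937 : act 4 n23130 = n19060 := d3_2 (iv F33575) D23130 (iv D19060)
def n23131 : Q := act 2 n18755
theorem D23131 : act 2 n18755 = n23131 := rfl
theorem F45938 : act 1 n23131 = n18757 := d6_1 D23131 (iv D18757) (iv D13684) (iv F24019) D18755
theorem F45939 : act 4 n23131 = n19061 := d12_2 (iv F33575) D23131 (iv D19061)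
theorem F45940 : act 3 n21629 = n23131 := d15_5 F45939 (iv F40331) F43387 (iv D22260) (iv F41876)
def n23132 : Q := act 5 n18755
theorem D23132 : act 5 n18755 = n23132 := rfl
theorem F45941 : act 4 n23132 = n19062 := d18_1 D23132 (iv D19062) (iv F33575)
def n23133 : Q := act 1 n18756
theorem D23133 : act 1 n18756 = n23133 := rfl
theorem F45942 : act 4 n23133 = n19063 := d8_2 (iv F33576) D23133 (iv D19063)
def n23134 : Q := act 0 n18759
theorem D23134 : act 0 n18759 = n23134 := rfl
theorem F45943 : act 4 n23134 = n19067 := d3_2 (iv F33581) D23134 (iv D19067)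
theorem F45944 : act 5 n23134 = n21500 := d4_2 (iv F44939) D23134 (iv F45015)
theorem F45945 : act 6 n21296 = n23134 := d22_3 F44939 (iv D22798) (iv F41195) (iv D23134)
def n23135 : Q := act 2 n18759
theorem D23135 : act 2 n18759 = n23135 := rfl
theorem F45946 : act 4 n23135 = n19068 := d12_2 (iv F33581) D23135 (iv D19068)
theorem F45947 : act 5 n23135 = n19340 := d13_2 (iv F44939) D23135 (iv F44937)
def n23136 : Q := act 6 n18759
theorem D23136 : act 6 n18759 = n23136 := rfl
theorem F45948 : act 0 n23136 = n21296 := d5_1 D23136 F45945 (iv D23134)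
theorem F45949 : act 4 n23136 = n19069 := d19_1 D23136 (iv D19069) (iv F33581)
theorem F45950 : act 5 n23136 = n22796 := d20_1 D23136 (iv F45014) (iv F45944) (iv F45945) F41195 D22798 (iv F44939)
def n23137 : Q := act 1 n18760
theorem D23137 : act 1 n18760 = n23137 := rfl
theorem F45951 : act 4 n23137 = n19070 := d8_2 (iv F33583) D23137 (iv D19070)
def n23138 : Q := act 5 n18760
theorem D23138 : act 5 n18760 = n23138 := rfl
theorem F45952 : act 0 n23138 = n18763 := d4_1 D23138 (iv D18763) (iv F33582)
theorem F45953 : act 2 n23138 = n18761 := d13_1 D23138 (iv D18761) D18760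
theorem F45954 : act 3 n23138 = n21327 := d16_1 D23138 F41255 (iv F39785)
theorem F45955 : act 4 n23138 = n19072 := d18_1 D23138 (iv D19072) (iv F33583)
theorem F45956 : act 6 n23138 = n20995 := d20_2 F40335 D23138 F40421 F33579 D18763 (iv F35994) (iv F40334)
def n23139 : Q := act 1 n18763
theorem D23139 : act 1 n18763 = n23139 := rfl
theorem F45957 : act 2 n23139 = n22562 := d6_2 (iv F33587) D23139 F44197 F33524 (iv F24025)
theorem F45958 : act 4 n23139 = n19076 := d8_2 (iv F33588) D23139 (iv D19076)
theorem F45959 : act 5 n23139 = n22561 := d9_2 D18763 D23139 F45184 (iv D22865) F32228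
theorem F45960 : act 6 n23139 = n21023 := d10_2 F35994 D23139 (iv D21023) (iv D15841) (iv F27345)
def n23140 : Q := act 1 n18764
theorem D23140 : act 1 n18764 = n23140 := rfl
theorem F45961 : act 2 n23140 = n21020 := d6_2 (iv F35995) D23140 F40478 F27384 (iv F27345)
theorem F45962 : act 4 n23140 = n19078 := d8_2 (iv F33590) D23140 (iv D19078)
theorem F45963 : act 6 n23140 = n22793 := d10_2 D18764 D23140 (iv F44926) (iv D18731) (iv F24025)
theorem F45964 : act 0 n22795 = n23140 := d5_3 F45963 (iv D22793) D22795
def n23141 : Q := act 3 n18766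
theorem D23141 : act 3 n18766 = n23141 := rfl
theorem F45965 : act 0 n23141 = n21682 := d2_1 D23141 F42003 (iv F34664)
theorem F45966 : act 4 n23141 = n21678 := d15_2 (iv F33593) D23141 (iv D21678) F34573 F34568
theorem F45967 : act 6 n23141 = n23114 := d17_2 F34668 D23141 F45904
def n23142 : Q := act 5 n18766
theorem D23142 : act 5 n18766 = n23142 := rfl
theorem F45968 : act 0 n23142 = n21528 := d4_1 D23142 (iv F41676) (iv F34664)
theorem F45969 : act 2 n23142 = n18767 := d13_1 D23142 (iv D18767) D18766
theorem F45970 : act 4 n23142 = n19080 := d18_1 D23142 (iv D19080) (iv F33593)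
theorem F45971 : act 6 n23142 = n18767 := d20_2 F34668 D23142 (iv D18767) D18768 F41676 F41675 (iv F35545)
def n23143 : Q := act 5 n18771
theorem D23143 : act 5 n18771 = n23143 := rfl
theorem F45972 : act 2 n23143 = n19004 := d13_1 D23143 (iv D19004) (iv F34796)
theorem F45973 : act 3 n23143 = n19082 := d16_1 D23143 (iv D19082) (iv F33600)
theorem F45974 : act 4 n23143 = n18772 := d18_1 D23143 (iv D18772) D18771
def n23144 : Q := act 1 n18772
theorem D23144 : act 1 n18772 = n23144 := rfl
theorem F45975 : act 3 n23144 = n18773 := d7_2 (iv F33602) D23144 (iv D18773)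
def n23145 : Q := act 0 n18773
theorem D23145 : act 0 n18773 = n23145 := rfl
theorem F45976 : act 4 n23145 = n19084 := d3_2 (iv F33603) D23145 (iv D19084)
def n23146 : Q := act 2 n18773
theorem D23146 : act 2 n18773 = n23146 := rfl
theorem F45977 : act 1 n23146 = n18775 := d6_1 D23146 (iv D18775) (iv D13692) (iv F24032) D18773
theorem F45978 : act 4 n23146 = n19085 := d12_2 (iv F33603) D23146 (iv D19085)
theorem F45979 : act 3 n21788 = n23146 := d15_5 F45978 (iv F40114) F43915 (iv D22444) (iv F42225)
def n23147 : Q := act 6 n18773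
theorem D23147 : act 6 n18773 = n23147 := rfl
theorem F45980 : act 4 n23147 = n19086 := d19_1 D23147 (iv D19086) (iv F33603)
def n23148 : Q := act 1 n18774
theorem D23148 : act 1 n18774 = n23148 := rfl
theorem F45981 : act 4 n23148 = n19087 := d8_2 (iv F33604) D23148 (iv D19087)
def n23149 : Q := act 0 n18777
theorem D23149 : act 0 n18777 = n23149 := rfl
theorem F45982 : act 1 n23149 = n23134 := d0_2 D18777 D23149 (iv D23134) (iv D18759) (iv D13685) (iv D10847) (iv F11947) D10851 D13693
theorem F45983 : act 4 n23149 = n19091 := d3_2 (iv F33609) D23149 (iv D19091)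
theorem F45984 : act 6 n23149 = n21660 := d5_2 (iv F44924) D23149 F45026
theorem F45985 : act 5 n23149 = n21257 := d22_0 F41111 D22792 (iv F44924) D23149
def n23150 : Q := act 2 n18777
theorem D23150 : act 2 n18777 = n23150 := rfl
theorem F45986 : act 4 n23150 = n19092 := d12_2 (iv F33609) D23150 (iv D19092)
theorem F45987 : act 6 n23150 = n19283 := d14_2 (iv F44924) D23150 (iv F44922)
def n23151 : Q := act 5 n18777
theorem D23151 : act 5 n18777 = n23151 := rfl
theorem F45988 : act 0 n23151 = n21257 := d4_1 D23151 (iv F45985) (iv D23149)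
theorem F45989 : act 4 n23151 = n19093 := d18_1 D23151 (iv D19093) (iv F33609)
theorem F45990 : act 6 n23151 = n22790 := d20_2 (iv F44924) D23151 F45025 (iv F45984) F45985 F41111 D22792
def n23152 : Q := act 1 n18778
theorem D23152 : act 1 n18778 = n23152 := rfl
theorem F45991 : act 4 n23152 = n19094 := d8_2 (iv F33611) D23152 (iv D19094)
def n23153 : Q := act 6 n18778
theorem D23153 : act 6 n18778 = n23153 := rfl
theorem F45992 : act 0 n23153 = n18781 := d5_1 D23153 (iv D18781) (iv F33610)
theorem F45993 : act 2 n23153 = n18779 := d14_1 D23153 (iv D18779) D18778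
theorem F45994 : act 3 n23153 = n21288 := d17_1 D23153 F41165 (iv F39741)
theorem F45995 : act 4 n23153 = n19096 := d19_1 D23153 (iv D19096) (iv F33611)
theorem F45996 : act 5 n23153 = n20911 := d20_1 D23153 F40193 F33607 D18781 (iv F36139) (iv F40118) F40117
def n23154 : Q := act 1 n18781
theorem D23154 : act 1 n18781 = n23154 := rfl
theorem F45997 : act 2 n23154 = n22504 := d6_2 (iv F33615) D23154 F44060 F33513 (iv F24038)
theorem F45998 : act 4 n23154 = n19100 := d8_2 (iv F33616) D23154 (iv D19100)
theorem F45999 : act 5 n23154 = n20942 := d9_2 F36139 D23154 (iv D20942) (iv D15713) (iv F27190)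
theorem F46000 : act 6 n23154 = n22502 := d10_2 D18781 D23154 F45212 (iv D22876) F32243
def n23155 : Q := act 1 n18782
theorem D23155 : act 1 n18782 = n23155 := rfl
theorem F46001 : act 2 n23155 = n20939 := d6_2 (iv F36140) D23155 F40243 F27226 (iv F27190)
theorem F46002 : act 4 n23155 = n19102 := d8_2 (iv F33618) D23155 (iv D19102)
theorem F46003 : act 5 n23155 = n22799 := d9_2 D18782 D23155 (iv F44941) (iv D18725) (iv F24038)
theorem F46004 : act 0 n22801 = n23155 := d4_3 F46003 (iv D22799) D22801
def n23156 : Q := act 6 n18783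
theorem D23156 : act 6 n18783 = n23156 := rfl
theorem F46005 : act 0 n23156 = n18784 := d5_1 D23156 (iv D18784) D18783
theorem F46006 : act 2 n23156 = n21207 := d14_1 D23156 (iv D21207) (iv F33621)
theorem F46007 : act 3 n23156 = n18814 := d17_1 D23156 (iv D18814) (iv F33622)
theorem F46008 : act 4 n23156 = n21206 := d19_1 D23156 (iv D21206) (iv F33623)
theorem F46009 : act 5 n23156 = n21530 := d20_1 D23156 (iv D21530) F28192 D18784 (iv F41302) (iv D21348) (iv F33624)
def n23157 : Q := act 1 n18784
theorem D23157 : act 1 n18784 = n23157 := rfl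
theorem F46010 : act 3 n23157 = n18820 := d7_2 (iv F33626) D23157 (iv D18820)
theorem F46011 : act 6 n23157 = n18785 := d10_2 D18784 D23157 (iv D18785) (iv D13697) D13696
def n23158 : Q := act 0 n18785
theorem D23158 : act 0 n18785 = n23158 := rfl
theorem F46012 : act 3 n23158 = n18828 := d2_2 (iv F33627) D23158 (iv D18828)
def n23159 : Q := act 2 n18785
theorem D23159 : act 2 n18785 = n23159 := rfl
theorem F46013 : act 1 n23159 = n21330 := d6_1 D23159 (iv D21330) (iv D16157) (iv F24043) D18785
def n23160 : Q := act 5 n18785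
theorem D23160 : act 5 n18785 = n23160 := rfl
theorem F46014 : act 1 n23160 = n23107 := d9_1 D23160 (iv D23107) (iv D18739) (iv F24045) D18785
theorem F46015 : act 3 n23160 = n18830 := d16_1 D23160 (iv D18830) (iv F33627)
def n23161 : Q := act 0 n18786
theorem D23161 : act 0 n18786 = n23161 := rfl
theorem F46016 : act 3 n23161 = n20149 := d2_2 (iv F33628) D23161 F38135
theorem F46017 : act 4 n23161 = n21156 := d3_2 F44901 D23161 (iv F44904)
theorem F46018 : act 5 n23161 = n20141 := d4_2 (iv F40879) D23161 (iv F40874)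
theorem F46019 : act 6 n23161 = n21156 := d5_2 F44903 D23161 (iv F44904)
theorem F46020 : act 2 n23161 = n18786 := d21_0 F33628 (iv F36750) F36751 F25115 (iv F36751) F36750 (iv F33628) D23161
theorem F46021 : act 1 n18788 = n23161 := d6_5 F46020 (iv D18786) F24047 D13699 D18788
def n23162 : Q := act 1 n18787
theorem D23162 : act 1 n18787 = n23162 := rfl
theorem F46022 : act 3 n23162 = n18838 := d7_2 (iv F33629) D23162 (iv D18838)
def n23163 : Q := act 1 n18789
theorem D23163 : act 1 n18789 = n23163 := rfl
theorem F46023 : act 3 n23163 = n18842 := d7_2 (iv F33632) D23163 (iv D18842)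
theorem F46024 : act 5 n23163 = n18790 := d9_2 D18789 D23163 (iv D18790) (iv D13700) D13699
def n23164 : Q := act 0 n18790
theorem D23164 : act 0 n18790 = n23164 := rfl
theorem F46025 : act 3 n23164 = n18843 := d2_2 (iv F33633) D23164 (iv D18843)
def n23165 : Q := act 2 n18790
theorem D23165 : act 2 n18790 = n23165 := rfl
def n23166 : Q := act 6 n18790
theorem D23166 : act 6 n18790 = n23166 := rfl
theorem F46026 : act 1 n23166 = n23104 := d10_1 D23166 (iv D23104) (iv D18738) (iv F24053) D18790
theorem F46027 : act 3 n23166 = n18845 := d17_1 D23166 (iv D18845) (iv F33633)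
def n23167 : Q := act 0 n18791
theorem D23167 : act 0 n18791 = n23167 := rfl
theorem F46028 : act 2 n23167 = n21453 := d1_2 (iv F37364) D23167 (iv D21453)
theorem F46029 : act 3 n23167 = n18846 := d2_2 (iv F33634) D23167 (iv D18846)
def n23168 : Q := act 5 n18791
theorem D23168 : act 5 n18791 = n23168 := rfl
theorem F46030 : act 2 n23168 = n21455 := d13_1 D23168 (iv D21455) (iv F37364)
theorem F46031 : act 3 n23168 = n18848 := d16_1 D23168 (iv D18848) (iv F33634)
def n23169 : Q := act 6 n18791
theorem D23169 : act 6 n18791 = n23169 := rfl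
theorem F46032 : act 2 n23169 = n21456 := d14_1 D23169 (iv D21456) (iv F37364)
theorem F46033 : act 3 n23169 = n18849 := d17_1 D23169 (iv D18849) (iv F33634)
def n23170 : Q := act 1 n18793
theorem D23170 : act 1 n18793 = n23170 := rfl
theorem F46034 : act 3 n23170 = n18853 := d7_2 (iv F33637) D23170 (iv D18853)
def n23171 : Q := act 1 n18796
theorem D23171 : act 1 n18796 = n23171 := rfl
theorem F46035 : act 3 n23171 = n18858 := d7_2 (iv F33641) D23171 (iv D18858)
theorem F46036 : act 6 n23171 = n22789 := d10_2 D18796 D23171 (iv D22789) (iv D18215) (iv F24055)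
def n23172 : Q := act 5 n18797
theorem D23172 : act 5 n18797 = n23172 := rfl
theorem F46037 : act 0 n23172 = n18798 := d4_1 D23172 (iv D18798) D18797
theorem F46038 : act 2 n23172 = n21231 := d13_1 D23172 (iv D21231) F34680
theorem F46039 : act 3 n23172 = n18860 := d16_1 D23172 (iv D18860) (iv F33644)
theorem F46040 : act 4 n23172 = n21230 := d18_1 D23172 (iv D21230) F34682
theorem F46041 : act 6 n23172 = n21689 := d20_2 (iv F34678) D23172 (iv D21689) F34677 D18798 (iv F41435) (iv D21421)
def n23173 : Q := act 1 n18798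
theorem D23173 : act 1 n18798 = n23173 := rfl
theorem F46042 : act 3 n23173 = n18866 := d7_2 (iv F33646) D23173 (iv D18866)
theorem F46043 : act 5 n23173 = n18800 := d9_2 D18798 D23173 (iv D18800) (iv D13705) D13704
def n23174 : Q := act 0 n18800
theorem D23174 : act 0 n18800 = n23174 := rfl
theorem F46044 : act 3 n23174 = n18875 := d2_2 (iv F33649) D23174 (iv D18875)
def n23175 : Q := act 2 n18800
theorem D23175 : act 2 n18800 = n23175 := rfl
theorem F46045 : act 1 n23175 = n21404 := d6_1 D23175 (iv D21404) (iv D16199) (iv F24060) D18800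
def n23176 : Q := act 6 n18800
theorem D23176 : act 6 n18800 = n23176 := rfl
theorem F46046 : act 1 n23176 = n23119 := d10_1 D23176 (iv D23119) (iv D18744) (iv F24062) D18800
theorem F46047 : act 3 n23176 = n18877 := d17_1 D23176 (iv D18877) (iv F33649)
def n23177 : Q := act 0 n18801
theorem D23177 : act 0 n18801 = n23177 := rfl
theorem F46048 : act 3 n23177 = n20147 := d2_2 (iv F33650) D23177 F38128
theorem F46049 : act 4 n23177 = n21147 := d3_2 F44911 D23177 F44914
theorem F46050 : act 5 n23177 = n21147 := d4_2 F44912 D23177 F44914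
theorem F46051 : act 6 n23177 = n20135 := d5_2 (iv F40856) D23177 (iv F40851)
theorem F46052 : act 2 n23177 = n18801 := d21_0 F33650 (iv F36728) F36729 F25106 (iv F36729) F36728 (iv F33650) D23177
theorem F46053 : act 1 n18803 = n23177 := d6_5 F46052 (iv D18801) F24064 D13707 D18803
def n23178 : Q := act 1 n18802
theorem D23178 : act 1 n18802 = n23178 := rfl
theorem F46054 : act 3 n23178 = n18885 := d7_2 (iv F33651) D23178 (iv D18885)
theorem F46055 : act 4 n23178 = n23170 := d8_2 (iv F33652) D23178 (iv D23170)
def n23179 : Q := act 1 n18804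
theorem D23179 : act 1 n18804 = n23179 := rfl
theorem F46056 : act 3 n23179 = n18889 := d7_2 (iv F33656) D23179 (iv D18889)
theorem F46057 : act 4 n23179 = n23171 := d8_2 (iv F33657) D23179 (iv D23171)
theorem F46058 : act 6 n23179 = n18805 := d10_2 D18804 D23179 (iv D18805) (iv D13708) D13707
def n23180 : Q := act 0 n18805
theorem D23180 : act 0 n18805 = n23180 := rfl
theorem F46059 : act 3 n23180 = n18890 := d2_2 (iv F33658) D23180 (iv D18890)
def n23181 : Q := act 2 n18805
theorem D23181 : act 2 n18805 = n23181 := rfl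
def n23182 : Q := act 5 n18805
theorem D23182 : act 5 n18805 = n23182 := rfl
theorem F46060 : act 1 n23182 = n23116 := d9_1 D23182 (iv D23116) (iv D18743) (iv F24071) D18805
theorem F46061 : act 3 n23182 = n18892 := d16_1 D23182 (iv D18892) (iv F33658)
def n23183 : Q := act 0 n18806
theorem D23183 : act 0 n18806 = n23183 := rfl
theorem F46062 : act 1 n23183 = n23167 := d0_2 D18806 D23183 (iv D23167) (iv D18791) (iv D13701) (iv D10855) (iv F11954) D10859 D13709
theorem F46063 : act 2 n23183 = n21384 := d1_2 F37348 D23183 (iv D21384)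
theorem F46064 : act 3 n23183 = n18893 := d2_2 (iv F33659) D23183 (iv D18893)
theorem F46065 : act 4 n23183 = n23167 := d3_2 (iv F33660) D23183 (iv D23167)
def n23184 : Q := act 5 n18806
theorem D23184 : act 5 n18806 = n23184 := rfl
theorem F46066 : act 2 n23184 = n21386 := d13_1 D23184 (iv D21386) F37348
theorem F46067 : act 3 n23184 = n18895 := d16_1 D23184 (iv D18895) (iv F33659)
theorem F46068 : act 4 n23184 = n23168 := d18_1 D23184 (iv D23168) (iv F33660)
def n23185 : Q := act 6 n18806
theorem D23185 : act 6 n18806 = n23185 := rfl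
theorem F46069 : act 2 n23185 = n21387 := d14_1 D23185 (iv D21387) F37348
theorem F46070 : act 3 n23185 = n18896 := d17_1 D23185 (iv D18896) (iv F33659)
theorem F46071 : act 4 n23185 = n23169 := d19_1 D23185 (iv D23169) (iv F33660)
def n23186 : Q := act 1 n18808
theorem D23186 : act 1 n18808 = n23186 := rfl
theorem F46072 : act 3 n23186 = n18900 := d7_2 (iv F33664) D23186 (iv D18900)
theorem F46073 : act 4 n23186 = n23162 := d8_2 (iv F33665) D23186 (iv D23162)
def n23187 : Q := act 1 n18811
theorem D23187 : act 1 n18811 = n23187 := rfl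
theorem F46074 : act 3 n23187 = n18905 := d7_2 (iv F33671) D23187 (iv D18905)
theorem F46075 : act 4 n23187 = n23163 := d8_2 (iv F33672) D23187 (iv D23163)
theorem F46076 : act 5 n23187 = n22786 := d9_2 D18811 D23187 (iv D22786) (iv D18211) (iv F24076)
def n23188 : Q := act 3 n18812
theorem D23188 : act 3 n18812 = n23188 := rfl
theorem F46077 : act 0 n23188 = n18816 := d2_1 D23188 (iv D18816) (iv F33674)
theorem F46078 : act 1 n23188 = n18908 := d7_1 D23188 (iv D18908) (iv F33675)
def n23189 : Q := act 5 n18812
theorem D23189 : act 5 n18812 = n23189 := rfl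
theorem F46079 : act 0 n23189 = n18817 := d4_1 D23189 (iv D18817) (iv F33674)
theorem F46080 : act 1 n23189 = n20660 := d9_1 D23189 (iv D20660) F33854 (iv D18909) (iv F33675)
theorem F46081 : act 2 n23189 = n18813 := d13_1 D23189 (iv D18813) D18812
theorem F46082 : act 4 n23189 = n19104 := d18_1 D23189 (iv D19104) (iv F33676)
def n23190 : Q := act 6 n18812
theorem D23190 : act 6 n18812 = n23190 := rfl
theorem F46083 : act 0 n23190 = n18818 := d5_1 D23190 (iv D18818) (iv F33674)
theorem F46084 : act 2 n23190 = n18814 := d14_1 D23190 (iv D18814) D18812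
theorem F46085 : act 4 n23190 = n19105 := d19_1 D23190 (iv D19105) (iv F33676)
theorem F46086 : act 1 n21931 = n23190 := d8_3 F46085 (iv F35593) D21931
def n23191 : Q := act 1 n18814
theorem D23191 : act 1 n18814 = n23191 := rfl
theorem F46087 : act 4 n23191 = n19107 := d8_2 (iv F33681) D23191 (iv D19107)
theorem F46088 : act 5 n23191 = n23097 := d9_2 F33690 D23191 F45860 (iv F42021) F42018
theorem F46089 : act 6 n23191 = n21532 := d10_2 D18814 D23191 (iv D21532) F28201 F27824
def n23192 : Q := act 3 n18815
theorem D23192 : act 3 n18815 = n23192 := rfl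
theorem F46090 : act 0 n23192 = n18822 := d2_1 D23192 (iv D18822) (iv F33682)
theorem F46091 : act 1 n23192 = n18816 := d7_1 D23192 (iv D18816) D18815
def n23193 : Q := act 5 n18815
theorem D23193 : act 5 n18815 = n23193 := rfl
theorem F46092 : act 0 n23193 = n18823 := d4_1 D23193 (iv D18823) (iv F33682)
theorem F46093 : act 2 n23193 = n18823 := d13_1 D23193 (iv D18823) (iv F33683)
theorem F46094 : act 4 n23193 = n19108 := d18_1 D23193 (iv D19108) (iv F33684)
def n23194 : Q := act 6 n18815
theorem D23194 : act 6 n18815 = n23194 := rfl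
theorem F46095 : act 0 n23194 = n18824 := d5_1 D23194 (iv D18824) (iv F33682)
theorem F46096 : act 2 n23194 = n18824 := d14_1 D23194 (iv D18824) (iv F33683)
theorem F46097 : act 4 n23194 = n19109 := d19_1 D23194 (iv D19109) (iv F33684)
def n23195 : Q := act 2 n18816
theorem D23195 : act 2 n18816 = n23195 := rfl
def n23196 : Q := act 4 n18816
theorem D23196 : act 4 n18816 = n23196 := rfl
theorem F46098 : act 3 n23196 = n19110 := d15_1 D23196 (iv D19110) (iv D13900) (iv F24080) D18816
def n23197 : Q := act 5 n18816
theorem D23197 : act 5 n18816 = n23197 := rfl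
theorem F46099 : act 3 n23197 = n18817 := d16_1 D23197 (iv D18817) D18816
def n23198 : Q := act 6 n18816
theorem D23198 : act 6 n18816 = n23198 := rfl
theorem F46100 : act 3 n23198 = n18818 := d17_1 D23198 (iv D18818) D18816
def n23199 : Q := act 6 n18817
theorem D23199 : act 6 n18817 = n23199 := rfl
theorem F46101 : act 2 n23199 = n18819 := d14_1 D23199 (iv D18819) (iv F33685)
theorem F46102 : act 4 n23199 = n19112 := d19_1 D23199 (iv D19112) (iv F33686)
theorem F46103 : act 5 n23199 = n23190 := d22_2 D18817 D23199 (iv D23190) F33674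
def n23200 : Q := act 1 n18818
theorem D23200 : act 1 n18818 = n23200 := rfl
theorem F46104 : act 4 n23200 = n19113 := d8_2 (iv F33688) D23200 (iv D19113)
def n23201 : Q := act 5 n18818
theorem D23201 : act 5 n18818 = n23201 := rfl
theorem F46105 : act 0 n23201 = n23199 := d4_1 D23201 F46103 F46083
theorem F46106 : act 2 n23201 = n18821 := d13_1 D23201 (iv D18821) (iv F33687)
theorem F46107 : act 4 n23201 = n19114 := d18_1 D23201 (iv D19114) (iv F33688)
theorem F46108 : act 6 n23201 = n23189 := d20_2 D18818 D23201 (iv D23189) D23190 (iv F46103) (iv D23199) (iv D18817)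
def n23202 : Q := act 0 n18820
theorem D23202 : act 0 n18820 = n23202 := rfl
theorem F46109 : act 4 n23202 = n19116 := d3_2 (iv F33691) D23202 (iv D19116)
theorem F46110 : act 6 n23202 = n18828 := d5_2 (iv F33692) D23202 (iv D18828)
theorem F46111 : act 5 n23202 = n22778 := d22_0 (iv F44882) (iv D18830) (iv F33692) D23202
theorem F46112 : act 1 n23202 = n22902 := d24_2 F44882 (iv F46111) (iv F45787) (iv D23070) (iv D18710) (iv D13659) (iv D10832) (iv D7995) D7998 (iv F11944) D10847 (iv F24022) D18758 (iv F33707)
theorem F46113 : act 2 n22901 = n23202 := d6_0 F46112 (iv D22902) (iv D18403) (iv F32299) D22901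
def n23203 : Q := act 2 n18820
theorem D23203 : act 2 n18820 = n23203 := rfl
theorem F46114 : act 0 n23203 = n22901 := d1_1 D23203 F46113 (iv D23202)
theorem F46115 : act 4 n23203 = n19117 := d12_2 (iv F33691) D23203 (iv D19117)
theorem F46116 : act 6 n23203 = n18829 := d14_2 (iv F33692) D23203 (iv D18829)
def n23204 : Q := act 5 n18820
theorem D23204 : act 5 n18820 = n23204 := rfl
theorem F46117 : act 0 n23204 = n22778 := d4_1 D23204 (iv F46111) (iv D23202)
theorem F46118 : act 4 n23204 = n19118 := d18_1 D23204 (iv D19118) (iv F33691)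
def n23205 : Q := act 1 n18821
theorem D23205 : act 1 n18821 = n23205 := rfl
theorem F46119 : act 0 n23205 = n18877 := d0_1 D23205 F33794 (iv F33617) D23155 (iv F46004) F44945 F42022 F42018 (iv F33693)
theorem F46120 : act 4 n23205 = n19119 := d8_2 (iv F33694) D23205 (iv D19119)
theorem F46121 : act 6 n18875 = n23205 := d19_0 F46120 (iv F35727) (iv F33792)
def n23206 : Q := act 4 n18822
theorem D23206 : act 4 n18822 = n23206 := rfl
theorem F46122 : act 1 n23206 = n18825 := d8_1 D23206 (iv D18825) (iv F33696)
theorem F46123 : act 3 n23206 = n19120 := d15_1 D23206 (iv D19120) (iv D13907) (iv F24083) D18822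
def n23207 : Q := act 5 n18822
theorem D23207 : act 5 n18822 = n23207 := rfl
theorem F46124 : act 3 n23207 = n18823 := d16_1 D23207 (iv D18823) D18822
def n23208 : Q := act 6 n18822
theorem D23208 : act 6 n18822 = n23208 := rfl
theorem F46125 : act 3 n23208 = n18824 := d17_1 D23208 (iv D18824) D18822
def n23209 : Q := act 6 n18823
theorem D23209 : act 6 n18823 = n23209 := rfl
theorem F46126 : act 4 n23209 = n19122 := d19_1 D23209 (iv D19122) (iv F33697)
theorem F46127 : act 5 n23209 = n23194 := d22_2 D18823 D23209 (iv D23194) F33682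
def n23210 : Q := act 1 n18824
theorem D23210 : act 1 n18824 = n23210 := rfl
theorem F46128 : act 4 n23210 = n19123 := d8_2 (iv F33698) D23210 (iv D19123)
theorem F46129 : act 6 n23210 = n18827 := d10_2 D18824 D23210 (iv D18827) (iv D13718) D13716
def n23211 : Q := act 5 n18824
theorem D23211 : act 5 n18824 = n23211 := rfl
theorem F46130 : act 0 n23211 = n23209 := d4_1 D23211 F46127 F46095
theorem F46131 : act 2 n23211 = n23209 := d13_1 D23211 F46127 F46096
theorem F46132 : act 4 n23211 = n19124 := d18_1 D23211 (iv D19124) (iv F33698)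
theorem F46133 : act 6 n23211 = n23193 := d20_2 D18824 D23211 (iv D23193) D23194 (iv F46127) (iv D23209) (iv D18823)
def n23212 : Q := act 6 n18825
theorem D23212 : act 6 n18825 = n23212 := rfl
theorem F46134 : act 0 n23212 = n18831 := d5_1 D23212 (iv D18831) (iv F33699)
theorem F46135 : act 3 n23212 = n19125 := d17_1 D23212 (iv D19125) (iv F33700)
theorem F46136 : act 4 n23212 = n18826 := d19_1 D23212 (iv D18826) D18825
theorem F46137 : act 5 n23212 = n23128 := d22_2 F37183 D23212 (iv D23128) (iv F37180)
def n23213 : Q := act 1 n18826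
theorem D23213 : act 1 n18826 = n23213 := rfl
theorem F46138 : act 3 n23213 = n18827 := d7_2 (iv F33702) D23213 (iv D18827)
def n23214 : Q := act 0 n18827
theorem D23214 : act 0 n18827 = n23214 := rfl
theorem F46139 : act 4 n23214 = n19127 := d3_2 (iv F33704) D23214 (iv D19127)
def n23215 : Q := act 2 n18827
theorem D23215 : act 2 n18827 = n23215 := rfl
theorem F46140 : act 1 n23215 = n18829 := d6_1 D23215 (iv D18829) (iv D13719) (iv F24086) D18827
theorem F46141 : act 4 n23215 = n19128 := d12_2 (iv F33704) D23215 (iv D19128)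
def n23216 : Q := act 5 n18827
theorem D23216 : act 5 n18827 = n23216 := rfl
theorem F46142 : act 1 n23216 = n23132 := d9_1 D23216 (iv D23132) (iv D18755) (iv F24088) D18827
theorem F46143 : act 4 n23216 = n19129 := d18_1 D23216 (iv D19129) (iv F33704)
def n23217 : Q := act 1 n18828
theorem D23217 : act 1 n18828 = n23217 := rfl
theorem F46144 : act 4 n23217 = n19130 := d8_2 (iv F33705) D23217 (iv D19130)
theorem F46145 : act 6 n23217 = n23057 := d10_2 F46110 D23217 (iv F45784) F45787 (iv F46112)
theorem F46146 : act 5 n21659 = n23217 := d24_1 D21659 (iv D23217) (iv F46110) F46111 (iv D22778) D22780 F44888 (iv F44936) (iv D22798) (iv F41195) (iv D21296) (iv F28370) (iv D16374) D16372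
def n23218 : Q := act 2 n18828
theorem D23218 : act 2 n18828 = n23218 := rfl
theorem F46147 : act 0 n23218 = n18829 := d1_1 D23218 (iv D18829) D18828
theorem F46148 : act 4 n23218 = n19131 := d12_2 (iv F33705) D23218 (iv D19131)
theorem F46149 : act 6 n23218 = n22901 := d14_2 F46110 D23218 F46113
theorem F46150 : act 1 n22898 = n23218 := d10_5 F46149 (iv D22901) (iv D18402) D18400 D22898
def n23219 : Q := act 5 n18828
theorem D23219 : act 5 n18828 = n23219 := rfl
theorem F46151 : act 0 n23219 = n18830 := d4_1 D23219 (iv D18830) D18828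
theorem F46152 : act 1 n23219 = n18867 := d9_1 D23219 F33779 (iv F41955) F46146 (iv D23217)
theorem F46153 : act 4 n23219 = n19132 := d18_1 D23219 (iv D19132) (iv F33705)
theorem F46154 : act 6 n23219 = n23204 := d20_2 F46110 D23219 (iv D23204) F33692 D18830 F44882 (iv F46111)
def n23220 : Q := act 3 n18829
theorem D23220 : act 3 n18829 = n23220 := rfl
def n23221 : Q := act 5 n18829
theorem D23221 : act 5 n18829 = n23221 := rfl
theorem F46155 : act 2 n23221 = n18830 := d13_1 D23221 (iv D18830) D18829
theorem F46156 : act 4 n23221 = n19134 := d18_1 D23221 (iv D19134) (iv F33706)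
def n23222 : Q := act 1 n18831
theorem D23222 : act 1 n18831 = n23222 := rfl
theorem F46157 : act 3 n23222 = n19135 := d7_2 (iv F33709) D23222 (iv D19135)
theorem F46158 : act 4 n23222 = n18832 := d8_2 (iv F33710) D23222 (iv D18832)
theorem F46159 : act 6 n23222 = n18917 := d10_2 D18831 D23222 (iv D18917) (iv D13763) (iv F24090)
def n23223 : Q := act 5 n18831
theorem D23223 : act 5 n18831 = n23223 := rfl
theorem F46160 : act 0 n23223 = n23128 := d4_1 D23223 (iv F46137) F46134
theorem F46161 : act 3 n23223 = n19136 := d16_1 D23223 (iv D19136) (iv F33709)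
theorem F46162 : act 4 n23223 = n18833 := d18_1 D23223 (iv D18833) (iv F33710)
theorem F46163 : act 6 n23223 = n19729 := d20_2 D18831 D23223 F37183 D23212 F46137 (iv D23128) F33573
def n23224 : Q := act 0 n18832
theorem D23224 : act 0 n18832 = n23224 := rfl
theorem F46164 : act 3 n23224 = n18834 := d2_2 (iv F33711) D23224 (iv D18834)
theorem F46165 : act 6 n23224 = n18919 := d5_2 (iv F33712) D23224 (iv D18919)
def n23225 : Q := act 2 n18832
theorem D23225 : act 2 n18832 = n23225 := rfl
theorem F46166 : act 6 n23225 = n18920 := d14_2 (iv F33712) D23225 (iv D18920)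
def n23226 : Q := act 5 n18832
theorem D23226 : act 5 n18832 = n23226 := rfl
theorem F46167 : act 3 n23226 = n18836 := d16_1 D23226 (iv D18836) (iv F33711)
def n23227 : Q := act 1 n18833
theorem D23227 : act 1 n18833 = n23227 := rfl
theorem F46168 : act 3 n23227 = n18837 := d7_2 (iv F33714) D23227 (iv D18837)
def n23228 : Q := act 1 n18834
theorem D23228 : act 1 n18834 = n23228 := rfl
theorem F46169 : act 4 n23228 = n19140 := d8_2 (iv F33716) D23228 (iv D19140)
theorem F46170 : act 6 n23228 = n20747 := d10_2 (iv F33717) D23228 F39369 F35156 (iv D18923)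
theorem F46171 : act 2 n20748 = n23228 := d14_3 F46170 (iv D20747) D20748
def n23229 : Q := act 2 n18834
theorem D23229 : act 2 n18834 = n23229 := rfl
theorem F46172 : act 0 n23229 = n18835 := d1_1 D23229 (iv D18835) D18834
theorem F46173 : act 1 n23229 = n22431 := d6_1 D23229 F43891 (iv F39372) F46171 (iv D23228)
theorem F46174 : act 4 n23229 = n19141 := d12_2 (iv F33716) D23229 (iv D19141)
theorem F46175 : act 6 n23229 = n18924 := d14_2 (iv F33717) D23229 (iv D18924)
def n23230 : Q := act 3 n18835
theorem D23230 : act 3 n18835 = n23230 := rfl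
theorem F46176 : act 1 n23230 = n18840 := d7_1 D23230 (iv D18840) (iv F33718)
theorem F46177 : act 6 n23230 = n18926 := d17_2 (iv F33720) D23230 (iv D18926)
def n23231 : Q := act 5 n18835
theorem D23231 : act 5 n18835 = n23231 := rfl
theorem F46178 : act 2 n23231 = n18836 := d13_1 D23231 (iv D18836) D18835
theorem F46179 : act 4 n23231 = n19143 := d18_1 D23231 (iv D19143) (iv F33719)
def n23232 : Q := act 1 n18836
theorem D23232 : act 1 n18836 = n23232 := rfl
theorem F46180 : act 4 n23232 = n19144 := d8_2 (iv F33721) D23232 (iv D19144)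
theorem F46181 : act 5 n23232 = n18837 := d9_2 D18836 D23232 (iv D18837) (iv D13723) D13722
def n23233 : Q := act 0 n18837
theorem D23233 : act 0 n18837 = n23233 := rfl
theorem F46182 : act 4 n23233 = n19145 := d3_2 (iv F33722) D23233 (iv D19145)
def n23234 : Q := act 2 n18837
theorem D23234 : act 2 n18837 = n23234 := rfl
theorem F46183 : act 1 n23234 = n18844 := d6_1 D23234 (iv D18844) (iv D13727) (iv F24096) D18837
theorem F46184 : act 4 n23234 = n19146 := d12_2 (iv F33722) D23234 (iv D19146)
def n23235 : Q := act 6 n18837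
theorem D23235 : act 6 n18837 = n23235 := rfl
theorem F46185 : act 1 n23235 = n19950 := d10_1 D23235 (iv D19950) (iv F29026) (iv F24098) D18837
theorem F46186 : act 4 n23235 = n19147 := d19_1 D23235 (iv D19147) (iv F33722)
def n23236 : Q := act 0 n18838
theorem D23236 : act 0 n18838 = n23236 := rfl
theorem F46187 : act 4 n23236 = n19148 := d3_2 (iv F33723) D23236 (iv D19148)
theorem F46188 : act 5 n22742 = n23236 := d18_0 F46187 (iv F35673) (iv F44789)
def n23237 : Q := act 2 n18838
theorem D23237 : act 2 n18838 = n23237 := rfl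
theorem F46189 : act 4 n23237 = n19149 := d12_2 (iv F33723) D23237 (iv D19149)
def n23238 : Q := act 5 n18838
theorem D23238 : act 5 n18838 = n23238 := rfl
theorem F46190 : act 0 n23238 = n22742 := d4_1 D23238 F46188 (iv D23236)
theorem F46191 : act 4 n23238 = n19150 := d18_1 D23238 (iv D19150) (iv F33723)
theorem F46192 : act 6 n23148 = n23238 := d19_0 F46191 F35722 (iv F45981)
def n23239 : Q := act 6 n18838
theorem D23239 : act 6 n18838 = n23239 := rfl
theorem F46193 : act 1 n23239 = n18849 := d10_1 D23239 (iv D18849) (iv D13728) (iv F24100) D18838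
theorem F46194 : act 4 n23239 = n19151 := d19_1 D23239 (iv D19151) (iv F33723)
def n23240 : Q := act 1 n18839
theorem D23240 : act 1 n18839 = n23240 := rfl
theorem F46195 : act 4 n23240 = n19152 := d8_2 (iv F33725) D23240 (iv D19152)
theorem F46196 : act 5 n23240 = n19321 := d9_2 F35470 D23240 F36062 F24584 (iv F24479)
def n23241 : Q := act 3 n18839
theorem D23241 : act 3 n18839 = n23241 := rfl
theorem F46197 : act 0 n23241 = n18840 := d2_1 D23241 (iv D18840) (iv F33724)
theorem F46198 : act 4 n23241 = n18887 := d15_2 (iv F33725) D23241 (iv D18887) F24140 (iv F35472)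
theorem F46199 : act 5 n23241 = n18902 := d16_2 F35470 D23241 F33836
theorem F46200 : act 6 n23241 = n18851 := d17_2 (iv F33726) D23241 (iv D18851)
def n23242 : Q := act 4 n18840
theorem D23242 : act 4 n18840 = n23242 := rfl
theorem F46201 : act 0 n23242 = n18887 := d3_1 D23242 (iv F46198) F46197
theorem F46202 : act 3 n23242 = n18886 := d15_1 D23242 (iv F35463) (iv D13925) (iv F24101) D18840
theorem F46203 : act 6 n23242 = n18855 := d19_2 (iv F33727) D23242 (iv D18855)
theorem F46204 : act 5 n18898 = n23242 := d22_0 F46203 F35476 (iv D18903) (iv F33829)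
def n23243 : Q := act 5 n18840
theorem D23243 : act 5 n18840 = n23243 := rfl
theorem F46205 : act 0 n23243 = n18902 := d4_1 D23243 (iv F46199) F46197
theorem F46206 : act 3 n23243 = n18841 := d16_1 D23243 (iv D18841) D18840
theorem F46207 : act 4 n23243 = n18898 := d18_1 D23243 F46204 (iv D23242)
def n23244 : Q := act 1 n18841
theorem D23244 : act 1 n18841 = n23244 := rfl
theorem F46208 : act 4 n23244 = n19153 := d8_2 (iv F33729) D23244 (iv D19153)
theorem F46209 : act 6 n23244 = n22543 := d10_2 F33750 D23244 (iv F44492) F44494 F44347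
def n23245 : Q := act 0 n18842
theorem D23245 : act 0 n18842 = n23245 := rfl
theorem F46210 : act 4 n23245 = n19154 := d3_2 (iv F33730) D23245 (iv D19154)
theorem F46211 : act 5 n23245 = n18843 := d4_2 (iv F33731) D23245 (iv D18843)
theorem F46212 : act 1 n23142 = n23245 := d9_5 F46211 F44822 F44821 F37798 D23142
def n23246 : Q := act 2 n18842
theorem D23246 : act 2 n18842 = n23246 := rfl
theorem F46213 : act 4 n23246 = n19155 := d12_2 (iv F33730) D23246 (iv D19155)
theorem F46214 : act 5 n23246 = n18844 := d13_2 (iv F33731) D23246 (iv D18844)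
theorem F46215 : act 6 n21984 = n23246 := d19_0 F46213 (iv F36232) D21984
def n23247 : Q := act 6 n18842
theorem D23247 : act 6 n18842 = n23247 := rfl
theorem F46216 : act 1 n23247 = n23073 := d10_1 D23247 (iv F45797) (iv D18853) F24110 D18842
theorem F46217 : act 2 n23247 = n21984 := d14_1 D23247 F46215 (iv D23246)
theorem F46218 : act 4 n23247 = n19156 := d19_1 D23247 (iv D19156) (iv F33730)
def n23248 : Q := act 2 n18843
theorem D23248 : act 2 n18843 = n23248 := rfl
theorem F46219 : act 0 n23248 = n18844 := d1_1 D23248 (iv D18844) D18843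
theorem F46220 : act 4 n23248 = n19158 := d12_2 (iv F33732) D23248 (iv D19158)
def n23249 : Q := act 6 n18843
theorem D23249 : act 6 n18843 = n23249 := rfl
theorem F46221 : act 0 n23249 = n18845 := d5_1 D23249 (iv D18845) D18843
theorem F46222 : act 1 n23249 = n22774 := d10_1 D23249 (iv D22774) F31843 D22755 (iv F44822)
theorem F46223 : act 4 n23249 = n19159 := d19_1 D23249 (iv D19159) (iv F33732)
theorem F46224 : act 5 n23249 = n23247 := d22_2 F46211 D23249 (iv D23247) D23245
def n23250 : Q := act 3 n18844
theorem D23250 : act 3 n18844 = n23250 := rfl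
def n23251 : Q := act 6 n18844
theorem D23251 : act 6 n18844 = n23251 := rfl
theorem F46225 : act 2 n23251 = n18845 := d14_1 D23251 (iv D18845) D18844
theorem F46226 : act 4 n23251 = n19161 := d19_1 D23251 (iv D19161) (iv F33733)
def n23252 : Q := act 5 n18845
theorem D23252 : act 5 n18845 = n23252 := rfl
theorem F46227 : act 0 n23252 = n23247 := d4_1 D23252 (iv F46224) F46221
theorem F46228 : act 4 n23252 = n19162 := d18_1 D23252 (iv D19162) (iv F33735)
theorem F46229 : act 6 n23252 = n23245 := d20_2 D18845 D23252 F46211 D23249 F46224 (iv D23247) F33731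
def n23253 : Q := act 5 n18846
theorem D23253 : act 5 n18846 = n23253 := rfl
theorem F46230 : act 0 n23253 = n18848 := d4_1 D23253 (iv D18848) D18846
theorem F46231 : act 2 n23253 = n20683 := d13_1 D23253 F45440 (iv F45439)
theorem F46232 : act 4 n23253 = n19163 := d18_1 D23253 (iv D19163) (iv F33736)
def n23254 : Q := act 6 n18846
theorem D23254 : act 6 n18846 = n23254 := rfl
theorem F46233 : act 0 n23254 = n18849 := d5_1 D23254 (iv D18849) D18846
theorem F46234 : act 4 n23254 = n19164 := d19_1 D23254 (iv D19164) (iv F33736)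
theorem F46235 : act 5 n23254 = n23099 := d22_2 (iv D23253) D23254 F45869 (iv F46230)
theorem F46236 : act 1 n23096 = n23254 := d9_5 F46235 (iv D23099) (iv D18728) D18726 D23096
def n23255 : Q := act 6 n18847
theorem D23255 : act 6 n18847 = n23255 := rfl
theorem F46237 : act 2 n23255 = n18849 := d14_1 D23255 (iv D18849) D18847
theorem F46238 : act 4 n23255 = n19165 := d19_1 D23255 (iv D19165) (iv F33737)
def n23256 : Q := act 5 n18849
theorem D23256 : act 5 n18849 = n23256 := rfl
theorem F46239 : act 0 n23256 = n23099 := d4_1 D23256 (iv F46235) F46233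
theorem F46240 : act 4 n23256 = n19166 := d18_1 D23256 (iv D19166) (iv F33742)
theorem F46241 : act 6 n23256 = n23253 := d20_2 D18849 D23256 (iv D23253) D23254 F46235 F45869 (iv D18848)
theorem F46242 : act 1 n23256 = n22751 := d24_2 D18849 D23256 (iv D22751) (iv F37701) F37699 D23127 F45932 (iv F33734) (iv D18845) (iv F33731) (iv D18842) (iv F24110) (iv D13730) D13728
def n23257 : Q := act 0 n18850
theorem D23257 : act 0 n18850 = n23257 := rfl
theorem F46243 : act 2 n23257 = n22481 := d1_2 (iv F33743) D23257 F44010
theorem F46244 : act 4 n23257 = n19167 := d3_2 (iv F33744) D23257 (iv D19167)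
theorem F46245 : act 5 n23257 = n22479 := d4_2 F33745 D23257 F44005
def n23258 : Q := act 3 n18850
theorem D23258 : act 3 n18850 = n23258 := rfl
theorem F46246 : act 1 n23258 = n18851 := d7_1 D23258 (iv D18851) D18850
theorem F46247 : act 5 n23258 = n22486 := d16_2 F33745 D23258 (iv D22486)
def n23259 : Q := act 6 n18850
theorem D23259 : act 6 n18850 = n23259 := rfl
theorem F46248 : act 2 n23259 = n22490 := d14_1 D23259 (iv D22490) (iv F33743)
theorem F46249 : act 4 n23259 = n19169 := d19_1 D23259 (iv D19169) (iv F33744)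
def n23260 : Q := act 4 n18851
theorem D23260 : act 4 n18851 = n23260 := rfl
theorem F46250 : act 0 n23260 = n18855 := d3_1 D23260 (iv D18855) (iv F33746)
theorem F46251 : act 3 n23260 = n18888 := d15_1 D23260 (iv F35453) (iv D13936) (iv F24107) D18851
theorem F46252 : act 6 n23260 = n18887 := d19_2 F46200 D23260 (iv F46198)
def n23261 : Q := act 5 n18851
theorem D23261 : act 5 n18851 = n23261 := rfl
theorem F46253 : act 0 n23261 = n18856 := d4_1 D23261 (iv D18856) (iv F33746)
theorem F46254 : act 3 n23261 = n18852 := d16_1 D23261 (iv D18852) D18851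
theorem F46255 : act 6 n23261 = n23243 := d20_2 F46200 D23261 (iv D23243) F33727 D18856 F35474 (iv F46199)
def n23262 : Q := act 0 n18858
theorem D23262 : act 0 n18858 = n23262 := rfl
theorem F46256 : act 1 n23262 = n21521 := d0_2 D18858 D23262 F41653 D21528 (iv F45968) F46212 (iv D23245) (iv D18842) (iv F24115)
theorem F46257 : act 4 n23262 = n19170 := d3_2 (iv F33760) D23262 (iv D19170)
theorem F46258 : act 6 n23262 = n22799 := d5_2 (iv F33761) D23262 (iv D22799)
def n23263 : Q := act 5 n18858
theorem D23263 : act 5 n18858 = n23263 := rfl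
theorem F46259 : act 1 n23263 = n23238 := d9_1 D23263 (iv D23238) (iv D18838) (iv F24117) D18858
theorem F46260 : act 4 n23263 = n19171 := d18_1 D23263 (iv D19171) (iv F33760)
theorem F46261 : act 6 n23263 = n23155 := d22_1 D23263 F46003 (iv F46258) (iv D23262)
def n23264 : Q := act 3 n18859
theorem D23264 : act 3 n18859 = n23264 := rfl
theorem F46262 : act 0 n23264 = n18863 := d2_1 D23264 (iv D18863) (iv F33762)
theorem F46263 : act 1 n23264 = n18948 := d7_1 D23264 (iv D18948) F33764
def n23265 : Q := act 5 n18859
theorem D23265 : act 5 n18859 = n23265 := rfl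
theorem F46264 : act 0 n23265 = n18864 := d4_1 D23265 (iv D18864) (iv F33762)
theorem F46265 : act 2 n23265 = n18860 := d13_1 D23265 (iv D18860) D18859
theorem F46266 : act 4 n23265 = n19173 := d18_1 D23265 (iv D19173) (iv F33763)
theorem F46267 : act 1 n21937 = n23265 := d8_3 F46266 (iv F35737) D21937
def n23266 : Q := act 6 n18859
theorem D23266 : act 6 n18859 = n23266 := rfl
theorem F46268 : act 0 n23266 = n18865 := d5_1 D23266 (iv D18865) (iv F33762)
theorem F46269 : act 1 n23266 = n20715 := d10_1 D23266 (iv D20715) F35269 (iv D18950) F33764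
theorem F46270 : act 2 n23266 = n18861 := d14_1 D23266 (iv D18861) D18859
theorem F46271 : act 4 n23266 = n19174 := d19_1 D23266 (iv D19174) (iv F33763)
def n23267 : Q := act 1 n18860
theorem D23267 : act 1 n18860 = n23267 := rfl
theorem F46272 : act 4 n23267 = n19175 := d8_2 (iv F33766) D23267 (iv D19175)
theorem F46273 : act 5 n23267 = n21691 := d9_2 D18860 D23267 (iv D21691) F28403 F34651
theorem F46274 : act 6 n23267 = n23090 := d10_2 F33782 D23267 F45838 (iv F41681) F41678
def n23268 : Q := act 3 n18862
theorem D23268 : act 3 n18862 = n23268 := rfl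
theorem F46275 : act 0 n23268 = n18869 := d2_1 D23268 (iv D18869) (iv F33769)
theorem F46276 : act 1 n23268 = n18863 := d7_1 D23268 (iv D18863) D18862
def n23269 : Q := act 5 n18862
theorem D23269 : act 5 n18862 = n23269 := rfl
theorem F46277 : act 0 n23269 = n18870 := d4_1 D23269 (iv D18870) (iv F33769)
theorem F46278 : act 2 n23269 = n18870 := d13_1 D23269 (iv D18870) (iv F33770)
theorem F46279 : act 4 n23269 = n19177 := d18_1 D23269 (iv D19177) (iv F33771)
def n23270 : Q := act 6 n18862
theorem D23270 : act 6 n18862 = n23270 := rfl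
theorem F46280 : act 0 n23270 = n18871 := d5_1 D23270 (iv D18871) (iv F33769)
theorem F46281 : act 2 n23270 = n18871 := d14_1 D23270 (iv D18871) (iv F33770)
theorem F46282 : act 4 n23270 = n19178 := d19_1 D23270 (iv D19178) (iv F33771)
def n23271 : Q := act 2 n18863
theorem D23271 : act 2 n18863 = n23271 := rfl
def n23272 : Q := act 4 n18863
theorem D23272 : act 4 n18863 = n23272 := rfl
theorem F46283 : act 3 n23272 = n19179 := d15_1 D23272 (iv D19179) (iv D13948) (iv F24119) D18863
def n23273 : Q := act 5 n18863
theorem D23273 : act 5 n18863 = n23273 := rfl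
theorem F46284 : act 3 n23273 = n18864 := d16_1 D23273 (iv D18864) D18863
def n23274 : Q := act 6 n18863
theorem D23274 : act 6 n18863 = n23274 := rfl
theorem F46285 : act 3 n23274 = n18865 := d17_1 D23274 (iv D18865) D18863
def n23275 : Q := act 1 n18864
theorem D23275 : act 1 n18864 = n23275 := rfl
theorem F46286 : act 4 n23275 = n19181 := d8_2 (iv F33773) D23275 (iv D19181)
def n23276 : Q := act 6 n18864
theorem D23276 : act 6 n18864 = n23276 := rfl
theorem F46287 : act 2 n23276 = n18867 := d14_1 D23276 (iv D18867) (iv F33772)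
theorem F46288 : act 4 n23276 = n19182 := d19_1 D23276 (iv D19182) (iv F33773)
theorem F46289 : act 5 n23276 = n23266 := d22_2 D18864 D23276 (iv D23266) F33762
def n23277 : Q := act 5 n18865
theorem D23277 : act 5 n18865 = n23277 := rfl
theorem F46290 : act 0 n23277 = n23276 := d4_1 D23277 F46289 F46268
theorem F46291 : act 2 n23277 = n18868 := d13_1 D23277 (iv D18868) (iv F33774)
theorem F46292 : act 4 n23277 = n19183 := d18_1 D23277 (iv D19183) (iv F33775)
theorem F46293 : act 6 n23277 = n23265 := d20_2 D18865 D23277 (iv D23265) D23266 (iv F46289) (iv D23276) (iv D18864)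
def n23278 : Q := act 0 n18866
theorem D23278 : act 0 n18866 = n23278 := rfl
theorem F46294 : act 4 n23278 = n19184 := d3_2 (iv F33776) D23278 (iv D19184)
theorem F46295 : act 5 n23278 = n18875 := d4_2 (iv F33777) D23278 (iv D18875)
theorem F46296 : act 6 n22769 = n23278 := d22_3 F33777 D18877 F44858 (iv D23278)
theorem F46297 : act 1 n22931 = n23278 := d24_14 (iv F46296) (iv F44858) F33794 (iv D18776) F24035 (iv D10851) F11949 (iv D7997) D7995 D10833 D13661 D18714 D23075 (iv F45809)
theorem F46298 : act 2 n23278 = n22930 := d6_2 D22931 F46297 (iv D22930) F32338 D18424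
def n23279 : Q := act 2 n18866
theorem D23279 : act 2 n18866 = n23279 := rfl
theorem F46299 : act 0 n23279 = n22930 := d1_1 D23279 (iv F46298) (iv D23278)
theorem F46300 : act 4 n23279 = n19185 := d12_2 (iv F33776) D23279 (iv D19185)
theorem F46301 : act 5 n23279 = n18876 := d13_2 (iv F33777) D23279 (iv D18876)
def n23280 : Q := act 6 n18866
theorem D23280 : act 6 n18866 = n23280 := rfl
theorem F46302 : act 0 n23280 = n22769 := d5_1 D23280 F46296 (iv D23278)
theorem F46303 : act 1 n23280 = n23204 := d10_1 D23280 (iv F46154) F46152 (iv D18867) D18866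
theorem F46304 : act 4 n23280 = n19186 := d19_1 D23280 (iv D19186) (iv F33776)
theorem F46305 : act 5 n23280 = n23205 := d20_1 D23280 (iv F46121) (iv F46295) (iv F46296) (iv F44858) (iv D18877) (iv F33777)
def n23281 : Q := act 4 n18869
theorem D23281 : act 4 n18869 = n23281 := rfl
theorem F46306 : act 1 n23281 = n18872 := d8_1 D23281 (iv D18872) (iv F33783)
theorem F46307 : act 3 n23281 = n19188 := d15_1 D23281 (iv D19188) (iv D13955) (iv F24122) D18869
def n23282 : Q := act 5 n18869
theorem D23282 : act 5 n18869 = n23282 := rfl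
theorem F46308 : act 3 n23282 = n18870 := d16_1 D23282 (iv D18870) D18869
def n23283 : Q := act 6 n18869
theorem D23283 : act 6 n18869 = n23283 := rfl
theorem F46309 : act 3 n23283 = n18871 := d17_1 D23283 (iv D18871) D18869
def n23284 : Q := act 1 n18870
theorem D23284 : act 1 n18870 = n23284 := rfl
theorem F46310 : act 4 n23284 = n19190 := d8_2 (iv F33784) D23284 (iv D19190)
theorem F46311 : act 5 n23284 = n18874 := d9_2 D18870 D23284 (iv D18874) (iv D13740) D13738
def n23285 : Q := act 6 n18870
theorem D23285 : act 6 n18870 = n23285 := rfl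
theorem F46312 : act 4 n23285 = n19191 := d19_1 D23285 (iv D19191) (iv F33784)
theorem F46313 : act 5 n23285 = n23270 := d22_2 D18870 D23285 (iv D23270) F33769
def n23286 : Q := act 5 n18871
theorem D23286 : act 5 n18871 = n23286 := rfl
theorem F46314 : act 0 n23286 = n23285 := d4_1 D23286 F46313 F46280
theorem F46315 : act 2 n23286 = n23285 := d13_1 D23286 F46313 F46281
theorem F46316 : act 4 n23286 = n19192 := d18_1 D23286 (iv D19192) (iv F33785)
theorem F46317 : act 6 n23286 = n23269 := d20_2 D18871 D23286 (iv D23269) D23270 (iv F46313) (iv D23285) (iv D18870)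
def n23287 : Q := act 5 n18872
theorem D23287 : act 5 n18872 = n23287 := rfl
theorem F46318 : act 0 n23287 = n18878 := d4_1 D23287 (iv D18878) (iv F33786)
theorem F46319 : act 3 n23287 = n19193 := d16_1 D23287 (iv D19193) (iv F33787)
theorem F46320 : act 4 n23287 = n18873 := d18_1 D23287 (iv D18873) D18872
theorem F46321 : act 6 n23287 = n23143 := d22_1 D23287 (iv D23143) F33601 (iv F33786)
def n23288 : Q := act 1 n18873
theorem D23288 : act 1 n18873 = n23288 := rfl
theorem F46322 : act 3 n23288 = n18874 := d7_2 (iv F33789) D23288 (iv D18874)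
def n23289 : Q := act 0 n18874
theorem D23289 : act 0 n18874 = n23289 := rfl
theorem F46323 : act 4 n23289 = n19195 := d3_2 (iv F33791) D23289 (iv D19195)
def n23290 : Q := act 2 n18874
theorem D23290 : act 2 n18874 = n23290 := rfl
theorem F46324 : act 1 n23290 = n18876 := d6_1 D23290 (iv D18876) (iv D13741) (iv F24125) D18874
theorem F46325 : act 4 n23290 = n19196 := d12_2 (iv F33791) D23290 (iv D19196)
def n23291 : Q := act 6 n18874
theorem D23291 : act 6 n18874 = n23291 := rfl
theorem F46326 : act 1 n23291 = n23147 := d10_1 D23291 (iv D23147) (iv D18773) (iv F24127) D18874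
theorem F46327 : act 4 n23291 = n19197 := d19_1 D23291 (iv D19197) (iv F33791)
def n23292 : Q := act 1 n18875
theorem D23292 : act 1 n18875 = n23292 := rfl
theorem F46328 : act 4 n23292 = n19198 := d8_2 (iv F33792) D23292 (iv D19198)
theorem F46329 : act 5 n23292 = n23056 := d9_2 F46295 D23292 (iv F45806) (iv F45809) F46297
theorem F46330 : act 6 n23292 = n21498 := d10_2 (iv F46121) D23292 F41611 (iv F33695) D23205
def n23293 : Q := act 2 n18875
theorem D23293 : act 2 n18875 = n23293 := rfl
theorem F46331 : act 0 n23293 = n18876 := d1_1 D23293 (iv D18876) D18875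
theorem F46332 : act 4 n23293 = n19199 := d12_2 (iv F33792) D23293 (iv D19199)
theorem F46333 : act 5 n23293 = n22930 := d13_2 F46295 D23293 (iv F46298)
theorem F46334 : act 1 n22927 = n23293 := d9_5 F46333 (iv D22930) (iv D18423) D18421 D22927
def n23294 : Q := act 3 n18876
theorem D23294 : act 3 n18876 = n23294 := rfl
def n23295 : Q := act 6 n18876
theorem D23295 : act 6 n18876 = n23295 := rfl
theorem F46335 : act 2 n23295 = n18877 := d14_1 D23295 (iv D18877) D18876
theorem F46336 : act 4 n23295 = n19201 := d19_1 D23295 (iv D19201) (iv F33793)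
def n23296 : Q := act 1 n18878
theorem D23296 : act 1 n18878 = n23296 := rfl
theorem F46337 : act 3 n23296 = n19202 := d7_2 (iv F33796) D23296 (iv D19202)
theorem F46338 : act 4 n23296 = n18879 := d8_2 (iv F33797) D23296 (iv D18879)
theorem F46339 : act 5 n23296 = n18957 := d9_2 D18878 D23296 (iv D18957) (iv D13783) (iv F24129)
def n23297 : Q := act 6 n18878
theorem D23297 : act 6 n18878 = n23297 := rfl
theorem F46340 : act 0 n23297 = n23143 := d5_1 D23297 (iv F46321) F46318
theorem F46341 : act 3 n23297 = n19203 := d17_1 D23297 (iv D19203) (iv F33796)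
theorem F46342 : act 4 n23297 = n18880 := d19_1 D23297 (iv D18880) (iv F33797)
theorem F46343 : act 5 n23297 = n19767 := d20_1 D23297 F37269 D23287 F46321 (iv D23143) F33601 D18878
def n23298 : Q := act 0 n18879
theorem D23298 : act 0 n18879 = n23298 := rfl
theorem F46344 : act 3 n23298 = n18881 := d2_2 (iv F33798) D23298 (iv D18881)
theorem F46345 : act 5 n23298 = n18959 := d4_2 (iv F33799) D23298 (iv D18959)
def n23299 : Q := act 2 n18879
theorem D23299 : act 2 n18879 = n23299 := rfl
theorem F46346 : act 5 n23299 = n18960 := d13_2 (iv F33799) D23299 (iv D18960)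
def n23300 : Q := act 6 n18879
theorem D23300 : act 6 n18879 = n23300 := rfl
theorem F46347 : act 3 n23300 = n18883 := d17_1 D23300 (iv D18883) (iv F33798)
def n23301 : Q := act 1 n18880
theorem D23301 : act 1 n18880 = n23301 := rfl
theorem F46348 : act 3 n23301 = n18884 := d7_2 (iv F33801) D23301 (iv D18884)
def n23302 : Q := act 1 n18881
theorem D23302 : act 1 n18881 = n23302 := rfl
theorem F46349 : act 4 n23302 = n19207 := d8_2 (iv F33803) D23302 (iv D19207)
theorem F46350 : act 5 n23302 = n20693 := d9_2 (iv F33804) D23302 F39261 (iv F35240) (iv D18963)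
theorem F46351 : act 2 n20694 = n23302 := d23_1 D20694 (iv D23302) (iv D18881) F24133 D13787 F24212 (iv F24217) F24219 (iv D10900) (iv F17225) F11981 (iv F17147) D10728 (iv F23656) (iv F32358) (iv F45391) (iv D22938) (iv F39259) (iv D20692)
def n23303 : Q := act 2 n18881
theorem D23303 : act 2 n18881 = n23303 := rfl
theorem F46352 : act 0 n23303 = n18882 := d1_1 D23303 (iv D18882) D18881
theorem F46353 : act 1 n23303 = n22244 := d6_1 D23303 F43357 (iv F39264) F46351 (iv D23302)
theorem F46354 : act 4 n23303 = n19208 := d12_2 (iv F33803) D23303 (iv D19208)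
theorem F46355 : act 5 n23303 = n18964 := d13_2 (iv F33804) D23303 (iv D18964)
def n23304 : Q := act 3 n18882
theorem D23304 : act 3 n18882 = n23304 := rfl
theorem F46356 : act 1 n23304 = n18887 := d7_1 D23304 (iv D18887) (iv F33805)
theorem F46357 : act 5 n23304 = n18966 := d16_2 (iv F33807) D23304 (iv D18966)
def n23305 : Q := act 6 n18882
theorem D23305 : act 6 n18882 = n23305 := rfl
theorem F46358 : act 2 n23305 = n18883 := d14_1 D23305 (iv D18883) D18882
theorem F46359 : act 4 n23305 = n19209 := d19_1 D23305 (iv D19209) (iv F33806)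
def n23306 : Q := act 1 n18883
theorem D23306 : act 1 n18883 = n23306 := rfl
theorem F46360 : act 4 n23306 = n19210 := d8_2 (iv F33808) D23306 (iv D19210)
theorem F46361 : act 6 n23306 = n18884 := d10_2 D18883 D23306 (iv D18884) (iv D13745) D13744
def n23307 : Q := act 0 n18884
theorem D23307 : act 0 n18884 = n23307 := rfl
theorem F46362 : act 4 n23307 = n19211 := d3_2 (iv F33809) D23307 (iv D19211)
def n23308 : Q := act 2 n18884
theorem D23308 : act 2 n18884 = n23308 := rfl
theorem F46363 : act 1 n23308 = n18891 := d6_1 D23308 (iv D18891) (iv D13749) (iv F24135) D18884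
theorem F46364 : act 4 n23308 = n19212 := d12_2 (iv F33809) D23308 (iv D19212)
def n23309 : Q := act 5 n18884
theorem D23309 : act 5 n18884 = n23309 := rfl
theorem F46365 : act 1 n23309 = n20005 := d9_1 D23309 (iv D20005) F34561 (iv F24137) D18884
theorem F46366 : act 4 n23309 = n19213 := d18_1 D23309 (iv D19213) (iv F33809)
def n23310 : Q := act 0 n18885
theorem D23310 : act 0 n18885 = n23310 := rfl
theorem F46367 : act 4 n23310 = n19214 := d3_2 (iv F33810) D23310 (iv D19214)
theorem F46368 : act 6 n22743 = n23310 := d19_0 F46367 (iv F35820) (iv F44790)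
def n23311 : Q := act 2 n18885
theorem D23311 : act 2 n18885 = n23311 := rfl
theorem F46369 : act 4 n23311 = n19215 := d12_2 (iv F33810) D23311 (iv D19215)
def n23312 : Q := act 5 n18885
theorem D23312 : act 5 n18885 = n23312 := rfl
theorem F46370 : act 1 n23312 = n18895 := d9_1 D23312 (iv D18895) (iv D13750) (iv F24139) D18885
theorem F46371 : act 4 n23312 = n19216 := d18_1 D23312 (iv D19216) (iv F33810)
def n23313 : Q := act 6 n18885
theorem D23313 : act 6 n18885 = n23313 := rfl
theorem F46372 : act 0 n23313 = n22743 := d5_1 D23313 F46368 (iv D23310)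
theorem F46373 : act 4 n23313 = n19217 := d19_1 D23313 (iv D19217) (iv F33810)
theorem F46374 : act 5 n23133 = n23313 := d18_0 F46373 (iv F35861) (iv F45942)
def n23314 : Q := act 1 n18886
theorem D23314 : act 1 n18886 = n23314 := rfl
theorem F46375 : act 4 n23314 = n19142 := d8_2 F35463 D23314 F35665
theorem F46376 : act 6 n23314 = n19264 := d10_2 F35460 D23314 F35928 F24530 (iv F24424)
def n23315 : Q := act 1 n18888
theorem D23315 : act 1 n18888 = n23315 := rfl
theorem F46377 : act 4 n23315 = n19168 := d8_2 F35453 D23315 F35716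
theorem F46378 : act 5 n23315 = n22484 := d9_2 F33833 D23315 (iv F44340) F44502 F44499
def n23316 : Q := act 0 n18889
theorem D23316 : act 0 n18889 = n23316 := rfl
theorem F46379 : act 4 n23316 = n19218 := d3_2 (iv F33817) D23316 (iv D19218)
theorem F46380 : act 6 n23316 = n18890 := d5_2 (iv F33818) D23316 (iv D18890)
theorem F46381 : act 1 n23127 = n23316 := d10_5 F46380 F44812 F44811 F37699 D23127
def n23317 : Q := act 2 n18889
theorem D23317 : act 2 n18889 = n23317 := rfl
theorem F46382 : act 4 n23317 = n19219 := d12_2 (iv F33817) D23317 (iv D19219)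
theorem F46383 : act 6 n23317 = n18891 := d14_2 (iv F33818) D23317 (iv D18891)
theorem F46384 : act 5 n22028 = n23317 := d18_0 F46382 (iv F36886) D22028
def n23318 : Q := act 5 n18889
theorem D23318 : act 5 n18889 = n23318 := rfl
theorem F46385 : act 1 n23318 = n23068 := d9_1 D23318 F45776 (iv D18900) F24149 D18889
theorem F46386 : act 2 n23318 = n22028 := d13_1 D23318 F46384 (iv D23317)
theorem F46387 : act 4 n23318 = n19220 := d18_1 D23318 (iv D19220) (iv F33817)
def n23319 : Q := act 2 n18890
theorem D23319 : act 2 n18890 = n23319 := rfl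
theorem F46388 : act 0 n23319 = n18891 := d1_1 D23319 (iv D18891) D18890
theorem F46389 : act 4 n23319 = n19221 := d12_2 (iv F33819) D23319 (iv D19221)
def n23320 : Q := act 5 n18890
theorem D23320 : act 5 n18890 = n23320 := rfl
theorem F46390 : act 0 n23320 = n18892 := d4_1 D23320 (iv D18892) D18890
theorem F46391 : act 1 n23320 = n22783 := d9_1 D23320 (iv D22783) F31850 D22752 (iv F44812)
theorem F46392 : act 4 n23320 = n19222 := d18_1 D23320 (iv D19222) (iv F33819)
theorem F46393 : act 6 n23320 = n23318 := d22_1 D23320 (iv D23318) F33818 D18890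
def n23321 : Q := act 3 n18891
theorem D23321 : act 3 n18891 = n23321 := rfl
def n23322 : Q := act 5 n18891
theorem D23322 : act 5 n18891 = n23322 := rfl
theorem F46394 : act 2 n23322 = n18892 := d13_1 D23322 (iv D18892) D18891
theorem F46395 : act 4 n23322 = n19224 := d18_1 D23322 (iv D19224) (iv F33820)
def n23323 : Q := act 6 n18892
theorem D23323 : act 6 n18892 = n23323 := rfl
theorem F46396 : act 0 n23323 = n23318 := d5_1 D23323 (iv F46393) F46390
theorem F46397 : act 1 n23323 = n23252 := d10_1 D23323 F46229 (iv F46212) F45971 (iv F33821)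
theorem F46398 : act 4 n23323 = n19225 := d19_1 D23323 (iv D19225) (iv F33822)
theorem F46399 : act 5 n23323 = n23316 := d20_1 D23323 F46380 D23320 F46393 (iv D23318) F33818 D18892
def n23324 : Q := act 5 n18893
theorem D23324 : act 5 n18893 = n23324 := rfl
theorem F46400 : act 0 n23324 = n18895 := d4_1 D23324 (iv D18895) D18893
theorem F46401 : act 4 n23324 = n19226 := d18_1 D23324 (iv D19226) (iv F33824)
theorem F46402 : act 6 n23324 = n23093 := d22_1 D23324 F45849 (iv D18896) D18893
theorem F46403 : act 1 n23091 = n23324 := d10_5 F46402 (iv D23093) (iv D18723) D18721 D23091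
def n23325 : Q := act 6 n18893
theorem D23325 : act 6 n18893 = n23325 := rfl
theorem F46404 : act 0 n23325 = n18896 := d5_1 D23325 (iv D18896) D18893
theorem F46405 : act 2 n23325 = n20737 := d14_1 D23325 F45458 F45456
theorem F46406 : act 4 n23325 = n19227 := d19_1 D23325 (iv D19227) (iv F33824)
def n23326 : Q := act 5 n18894
theorem D23326 : act 5 n18894 = n23326 := rfl
theorem F46407 : act 2 n23326 = n18895 := d13_1 D23326 (iv D18895) D18894
theorem F46408 : act 4 n23326 = n19228 := d18_1 D23326 (iv D19228) (iv F33825)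
def n23327 : Q := act 6 n18895
theorem D23327 : act 6 n18895 = n23327 := rfl
theorem F46409 : act 0 n23327 = n23093 := d5_1 D23327 (iv F46402) F46400
theorem F46410 : act 4 n23327 = n19229 := d19_1 D23327 (iv D19229) (iv F33826)
theorem F46411 : act 5 n23327 = n23325 := d20_1 D23327 (iv D23325) D23324 F46402 F45849 (iv D18896) D18895
theorem F46412 : act 1 n22754 = n23327 := d24_14 (iv D23327) (iv D18895) (iv D13750) D13752 F24149 D18889 F33818 D18892 F33821 (iv F45971) (iv D23142) (iv F37798) F37800 D22754
def n23328 : Q := act 0 n18897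
theorem D23328 : act 0 n18897 = n23328 := rfl
theorem F46413 : act 2 n23328 = n22541 := d1_2 (iv F35036) D23328 F44151
theorem F46414 : act 4 n23328 = n19230 := d3_2 (iv F33828) D23328 (iv D19230)
theorem F46415 : act 6 n23328 = n22538 := d5_2 F35035 D23328 F44144
def n23329 : Q := act 3 n18897
theorem D23329 : act 3 n18897 = n23329 := rfl
theorem F46416 : act 1 n23329 = n18898 := d7_1 D23329 (iv D18898) D18897
theorem F46417 : act 6 n23329 = n22545 := d17_2 F35035 D23329 (iv D22545)
def n23330 : Q := act 5 n18897
theorem D23330 : act 5 n18897 = n23330 := rfl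
theorem F46418 : act 2 n23330 = n22550 := d13_1 D23330 (iv D22550) (iv F35036)
theorem F46419 : act 4 n23330 = n19231 := d18_1 D23330 (iv D19231) (iv F33828)
def n23331 : Q := act 6 n18898
theorem D23331 : act 6 n18898 = n23331 := rfl
theorem F46420 : act 0 n23331 = n18903 := d5_1 D23331 (iv D18903) (iv F33829)
theorem F46421 : act 3 n23331 = n18899 := d17_1 D23331 (iv D18899) D18898
theorem F46422 : act 4 n23331 = n23261 := d19_1 D23331 F46255 F46207
theorem F46423 : act 5 n23331 = n23260 := d20_1 D23331 F46252 F33814 D18903 (iv F35476) (iv F46203) (iv F46204)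
def n23332 : Q := act 0 n18905
theorem D23332 : act 0 n18905 = n23332 := rfl
theorem F46424 : act 1 n23332 = n21679 := d0_2 D18905 D23332 F41994 D21686 (iv F45929) F46381 (iv D23316) (iv D18889) (iv F24154)
theorem F46425 : act 4 n23332 = n19232 := d3_2 (iv F33843) D23332 (iv D19232)
theorem F46426 : act 5 n23332 = n22793 := d4_2 (iv F33844) D23332 (iv D22793)
def n23333 : Q := act 6 n18905
theorem D23333 : act 6 n18905 = n23333 := rfl
theorem F46427 : act 1 n23333 = n23313 := d10_1 D23333 (iv D23313) (iv D18885) (iv F24156) D18905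
theorem F46428 : act 4 n23333 = n19233 := d19_1 D23333 (iv D19233) (iv F33843)
theorem F46429 : act 5 n23333 = n23140 := d22_2 (iv F33844) D23333 F45963 (iv D22793)
def n23334 : Q := act 6 n18906
theorem D23334 : act 6 n18906 = n23334 := rfl
theorem F46430 : act 2 n23334 = n18915 := d14_1 D23334 (iv D18915) (iv F33846)
theorem F46431 : act 3 n23334 = n21255 := d17_1 D23334 F41104 F41085
theorem F46432 : act 4 n23334 = n19239 := d19_1 D23334 (iv D19239) (iv F33847)
theorem F46433 : act 5 n23334 = n21253 := d22_2 D18906 D23334 (iv D21253) (iv F27830)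
def n23335 : Q := act 5 n18907
theorem D23335 : act 5 n18907 = n23335 := rfl
theorem F46434 : act 0 n23335 = n23334 := d4_1 D23335 F46433 F41095
theorem F46435 : act 2 n23335 = n18916 := d13_1 D23335 (iv D18916) (iv F33849)
theorem F46436 : act 3 n23335 = n21254 := d16_1 D23335 F41101 F41088
theorem F46437 : act 4 n23335 = n19240 := d18_1 D23335 (iv D19240) (iv F33850)
theorem F46438 : act 6 n23335 = n21252 := d20_2 D18907 D23335 (iv D21252) D21253 (iv F46433) (iv D23334) (iv D18906)
def n23336 : Q := act 4 n18908
theorem D23336 : act 4 n18908 = n23336 := rfl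
theorem F46439 : act 0 n23336 = n18912 := d3_1 D23336 (iv D18912) (iv F33851)
theorem F46440 : act 2 n23336 = n22857 := d12_1 D23336 F45166 F38784
theorem F46441 : act 3 n23336 = n19241 := d15_1 D23336 (iv D19241) (iv D13997) (iv F24163) D18908
theorem F46442 : act 5 n20371 = n23336 := d16_0 F46441 F35882 D20371
def n23337 : Q := act 5 n18908
theorem D23337 : act 5 n18908 = n23337 := rfl
theorem F46443 : act 0 n23337 = n18913 := d4_1 D23337 (iv D18913) (iv F33851)
theorem F46444 : act 2 n23337 = n22899 := d13_1 D23337 F45299 F38784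
theorem F46445 : act 3 n23337 = n18909 := d16_1 D23337 (iv D18909) D18908
theorem F46446 : act 4 n23337 = n20371 := d18_1 D23337 F46442 (iv D23336)
theorem F46447 : act 1 n20374 = n23337 := d8_3 F46446 F38657 D20374
def n23338 : Q := act 6 n18908
theorem D23338 : act 6 n18908 = n23338 := rfl
theorem F46448 : act 0 n23338 = n18914 := d5_1 D23338 (iv D18914) (iv F33851)
theorem F46449 : act 3 n23338 = n18910 := d17_1 D23338 (iv D18910) D18908
def n23339 : Q := act 1 n18910
theorem D23339 : act 1 n18910 = n23339 := rfl
theorem F46450 : act 4 n23339 = n19242 := d8_2 (iv F33856) D23339 (iv D19242)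
theorem F46451 : act 6 n23339 = n21931 := d10_2 D18910 D23339 F46086 (iv D23190) F33675
theorem F46452 : act 0 n22415 = n23339 := d3_3 F46450 (iv F39612) D22415
theorem F46453 : act 2 n22412 = n23339 := d12_3 F46450 F39611 D22412
def n23340 : Q := act 6 n18911
theorem D23340 : act 6 n18911 = n23340 := rfl
theorem F46454 : act 2 n23340 = n18914 := d14_1 D23340 (iv D18914) D18911
theorem F46455 : act 3 n23340 = n19725 := d17_1 D23340 (iv D19725) (iv F33858)
theorem F46456 : act 4 n23340 = n22858 := d19_1 D23340 (iv D22858) F33859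
def n23341 : Q := act 6 n18912
theorem D23341 : act 6 n18912 = n23341 := rfl
theorem F46457 : act 2 n23341 = n22858 := d14_1 D23341 (iv D22858) (iv F33862)
theorem F46458 : act 3 n23341 = n19243 := d17_1 D23341 (iv D19243) (iv F33863)
theorem F46459 : act 4 n23341 = n18914 := d19_1 D23341 (iv D18914) D18912
def n23342 : Q := act 6 n18913
theorem D23342 : act 6 n18913 = n23342 := rfl
theorem F46460 : act 2 n23342 = n22904 := d14_1 D23342 (iv D22904) (iv F33866)
theorem F46461 : act 3 n23342 = n18915 := d17_1 D23342 (iv D18915) (iv F33867)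
theorem F46462 : act 4 n23342 = n21473 := d19_1 D23342 (iv D21473) (iv F33868)
theorem F46463 : act 5 n23342 = n23338 := d22_2 D18913 D23342 (iv D23338) F33851
def n23343 : Q := act 5 n18914
theorem D23343 : act 5 n18914 = n23343 := rfl
theorem F46464 : act 0 n23343 = n23342 := d4_1 D23343 F46463 F46448
theorem F46465 : act 3 n23343 = n18916 := d16_1 D23343 (iv D18916) (iv F33869)
theorem F46466 : act 6 n23343 = n23337 := d20_2 D18914 D23343 (iv D23337) D23338 (iv F46463) (iv D23342) (iv D18913)
def n23344 : Q := act 1 n18915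
theorem D23344 : act 1 n18915 = n23344 := rfl
theorem F46467 : act 4 n23344 = n19244 := d8_2 (iv F33870) D23344 (iv D19244)
theorem F46468 : act 6 n23344 = n22049 := d10_2 D18915 D23344 (iv D22049) (iv D16783) F28992
def n23345 : Q := act 1 n18916
theorem D23345 : act 1 n18916 = n23345 := rfl
theorem F46469 : act 4 n23345 = n19245 := d8_2 (iv F33873) D23345 (iv D19245)
def n23346 : Q := act 0 n18917
theorem D23346 : act 0 n18917 = n23346 := rfl
theorem F46470 : act 1 n23346 = n20399 := d0_2 D18917 D23346 F38706 F26313 (iv F28284) D21611 (iv F45418) F45419 F32392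
theorem F46471 : act 3 n23346 = n19253 := d2_2 (iv F33875) D23346 (iv D19253)
theorem F46472 : act 4 n23346 = n18919 := d3_2 (iv F33876) D23346 (iv D18919)
def n23347 : Q := act 2 n18917
theorem D23347 : act 2 n18917 = n23347 := rfl
theorem F46473 : act 4 n23347 = n18920 := d12_2 (iv F33876) D23347 (iv D18920)
def n23348 : Q := act 5 n18917
theorem D23348 : act 5 n18917 = n23348 := rfl
theorem F46474 : act 3 n23348 = n19255 := d16_1 D23348 (iv D19255) (iv F33875)
theorem F46475 : act 4 n23348 = n18921 := d18_1 D23348 (iv D18921) (iv F33876)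
def n23349 : Q := act 1 n18918
theorem D23349 : act 1 n18918 = n23349 := rfl
theorem F46476 : act 3 n23349 = n19256 := d7_2 (iv F33879) D23349 (iv D19256)
theorem F46477 : act 4 n23349 = n18922 := d8_2 (iv F33880) D23349 (iv D18922)
def n23350 : Q := act 1 n18919
theorem D23350 : act 1 n18919 = n23350 := rfl
theorem F46478 : act 0 n23350 = n20396 := d0_1 D23350 F38701 (iv F41844) (iv F45412) F45411 F32364 F23676 D13764 D18919
theorem F46479 : act 3 n23350 = n18923 := d7_2 (iv F33882) D23350 (iv D18923)
theorem F46480 : act 4 n23350 = n20399 := d8_2 F46472 D23350 (iv F46470)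
theorem F46481 : act 5 n20394 = n23350 := d18_0 F46480 (iv D20399) (iv F38699)
theorem F46482 : act 6 n20753 = n23350 := d19_0 F46480 F38708 (iv F39384)
def n23351 : Q := act 2 n18919
theorem D23351 : act 2 n18919 = n23351 := rfl
theorem F46483 : act 0 n23351 = n18920 := d1_1 D23351 (iv D18920) D18919
def n23352 : Q := act 5 n18919
theorem D23352 : act 5 n18919 = n23352 := rfl
theorem F46484 : act 0 n23352 = n18921 := d4_1 D23352 (iv D18921) D18919
theorem F46485 : act 3 n23352 = n18925 := d16_1 D23352 (iv D18925) (iv F33882)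
theorem F46486 : act 6 n23352 = n23226 := d22_1 D23352 (iv D23226) F33712 D18919
def n23353 : Q := act 3 n18920
theorem D23353 : act 3 n18920 = n23353 := rfl
def n23354 : Q := act 5 n18920
theorem D23354 : act 5 n18920 = n23354 := rfl
theorem F46487 : act 2 n23354 = n18921 := d13_1 D23354 (iv D18921) D18920
def n23355 : Q := act 1 n18921
theorem D23355 : act 1 n18921 = n23355 := rfl
theorem F46488 : act 3 n23355 = n18928 := d7_2 (iv F33883) D23355 (iv D18928)
theorem F46489 : act 5 n23355 = n18922 := d9_2 D18921 D23355 (iv D18922) (iv D13765) D13764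
def n23356 : Q := act 6 n18921
theorem D23356 : act 6 n18921 = n23356 := rfl
theorem F46490 : act 0 n23356 = n23226 := d5_1 D23356 (iv F46486) F46484
theorem F46491 : act 3 n23356 = n18929 := d17_1 D23356 (iv D18929) (iv F33883)
theorem F46492 : act 5 n23356 = n23224 := d20_1 D23356 F46165 D23352 F46486 (iv D23226) F33712 D18921
def n23357 : Q := act 0 n18922
theorem D23357 : act 0 n18922 = n23357 := rfl
theorem F46493 : act 3 n23357 = n18930 := d2_2 (iv F33884) D23357 (iv D18930)
def n23358 : Q := act 2 n18922
theorem D23358 : act 2 n18922 = n23358 := rfl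
theorem F46494 : act 1 n23358 = n22949 := d6_1 D23358 (iv D22949) F32364 (iv F24173) D18922
def n23359 : Q := act 6 n18922
theorem D23359 : act 6 n18922 = n23359 := rfl
theorem F46495 : act 1 n23359 = n18986 := d10_1 D23359 (iv D18986) F24231 (iv F24175) D18922
theorem F46496 : act 3 n23359 = n18931 := d17_1 D23359 (iv D18931) (iv F33884)
def n23360 : Q := act 3 n18924
theorem D23360 : act 3 n18924 = n23360 := rfl
theorem F46497 : act 0 n23360 = n18926 := d2_1 D23360 (iv D18926) (iv F33888)
theorem F46498 : act 1 n23360 = n22435 := d7_1 D23360 F43898 F35162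
def n23361 : Q := act 5 n18924
theorem D23361 : act 5 n18924 = n23361 := rfl
theorem F46499 : act 0 n23361 = n18927 := d4_1 D23361 (iv D18927) (iv F33888)
theorem F46500 : act 2 n23361 = n18925 := d13_1 D23361 (iv D18925) D18924
theorem F46501 : act 4 n23361 = n19261 := d18_1 D23361 (iv D19261) (iv F33889)
theorem F46502 : act 6 n23361 = n23231 := d22_1 D23361 (iv D23231) F33720 (iv F33888)
def n23362 : Q := act 1 n18925
theorem D23362 : act 1 n18925 = n23362 := rfl
theorem F46503 : act 4 n23362 = n19262 := d8_2 (iv F33891) D23362 (iv D19262)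
theorem F46504 : act 5 n23362 = n20698 := d9_2 D18925 D23362 (iv D20698) F33887 (iv D18923)
def n23363 : Q := act 2 n18926
theorem D23363 : act 2 n18926 = n23363 := rfl
def n23364 : Q := act 4 n18926
theorem D23364 : act 4 n18926 = n23364 := rfl
theorem F46505 : act 1 n23364 = n18935 := d8_1 D23364 (iv D18935) (iv F33893)
theorem F46506 : act 3 n23364 = n19264 := d15_1 D23364 (iv D19264) (iv D14022) (iv F24178) D18926
def n23365 : Q := act 5 n18926
theorem D23365 : act 5 n18926 = n23365 := rfl
theorem F46507 : act 3 n23365 = n18927 := d16_1 D23365 (iv D18927) D18926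
def n23366 : Q := act 1 n18927
theorem D23366 : act 1 n18927 = n23366 := rfl
theorem F46508 : act 4 n23366 = n19265 := d8_2 (iv F33895) D23366 (iv D19265)
theorem F46509 : act 5 n23366 = n18932 := d9_2 D18927 D23366 (iv D18932) F24183 (iv F24177)
def n23367 : Q := act 6 n18927
theorem D23367 : act 6 n18927 = n23367 := rfl
theorem F46510 : act 0 n23367 = n23231 := d5_1 D23367 (iv F46502) F46499
theorem F46511 : act 2 n23367 = n18929 := d14_1 D23367 (iv D18929) (iv F33894)
theorem F46512 : act 4 n23367 = n19266 := d19_1 D23367 (iv D19266) (iv F33895)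
theorem F46513 : act 5 n23367 = n23229 := d20_1 D23367 F46175 D23361 F46502 (iv D23231) F33720 D18927
def n23368 : Q := act 0 n18928
theorem D23368 : act 0 n18928 = n23368 := rfl
theorem F46514 : act 4 n23368 = n19267 := d3_2 (iv F33896) D23368 (iv D19267)
theorem F46515 : act 5 n23368 = n18930 := d4_2 (iv F33897) D23368 (iv D18930)
def n23369 : Q := act 6 n18928
theorem D23369 : act 6 n18928 = n23369 := rfl
theorem F46516 : act 4 n23369 = n19268 := d19_1 D23369 (iv D19268) (iv F33896)
def n23370 : Q := act 1 n18929
theorem D23370 : act 1 n18929 = n23370 := rfl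
theorem F46517 : act 4 n23370 = n19269 := d8_2 (iv F33899) D23370 (iv D19269)
def n23371 : Q := act 6 n18930
theorem D23371 : act 6 n18930 = n23371 := rfl
theorem F46518 : act 0 n23371 = n18931 := d5_1 D23371 (iv D18931) D18930
theorem F46519 : act 4 n23371 = n19270 := d19_1 D23371 (iv D19270) (iv F33901)
theorem F46520 : act 5 n23371 = n23369 := d22_2 F46515 D23371 (iv D23369) D23368
def n23372 : Q := act 5 n18931
theorem D23372 : act 5 n18931 = n23372 := rfl
theorem F46521 : act 0 n23372 = n23369 := d4_1 D23372 (iv F46520) F46518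
theorem F46522 : act 4 n23372 = n19271 := d18_1 D23372 (iv D19271) (iv F33903)
theorem F46523 : act 6 n23372 = n23368 := d20_2 D18931 D23372 F46515 D23371 F46520 (iv D23369) F33897
def n23373 : Q := act 0 n18932
theorem D23373 : act 0 n18932 = n23373 := rfl
theorem F46524 : act 4 n23373 = n19272 := d3_2 (iv F33904) D23373 (iv D19272)
def n23374 : Q := act 3 n18932
theorem D23374 : act 3 n18932 = n23374 := rfl
theorem F46525 : act 1 n23374 = n18933 := d7_1 D23374 (iv D18933) D18932
def n23375 : Q := act 6 n18932
theorem D23375 : act 6 n18932 = n23375 := rfl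
theorem F46526 : act 1 n23375 = n18939 := d10_1 D23375 (iv D18939) (iv D13772) (iv F24184) D18932
theorem F46527 : act 4 n23375 = n19274 := d19_1 D23375 (iv D19274) (iv F33904)
def n23376 : Q := act 4 n18933
theorem D23376 : act 4 n18933 = n23376 := rfl
theorem F46528 : act 0 n23376 = n18935 := d3_1 D23376 (iv D18935) (iv F33905)
theorem F46529 : act 3 n23376 = n19275 := d15_1 D23376 (iv D19275) (iv D14029) (iv F24182) D18933
theorem F46530 : act 5 n23376 = n18935 := d18_2 (iv F33906) D23376 (iv D18935)
theorem F46531 : act 6 n23376 = n18940 := d19_2 (iv F33907) D23376 (iv D18940)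
def n23377 : Q := act 1 n18934
theorem D23377 : act 1 n18934 = n23377 := rfl
def n23378 : Q := act 4 n18934
theorem D23378 : act 4 n18934 = n23378 := rfl
theorem F46532 : act 2 n23378 = n18935 := d12_1 D23378 (iv D18935) D18934
theorem F46533 : act 3 n23378 = n21816 := d15_1 D23378 (iv D21816) (iv F28652) (iv F34015) F34018
theorem F46534 : act 6 n23378 = n18942 := d19_2 (iv F33908) D23378 (iv D18942)
def n23379 : Q := act 1 n18936
theorem D23379 : act 1 n18936 = n23379 := rfl
theorem F46535 : act 4 n23379 = n19278 := d8_2 (iv F33911) D23379 (iv D19278)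
def n23380 : Q := act 3 n18936
theorem D23380 : act 3 n18936 = n23380 := rfl
theorem F46536 : act 0 n23380 = n18937 := d2_1 D23380 (iv D18937) D18936
def n23381 : Q := act 5 n18936
theorem D23381 : act 5 n18936 = n23381 := rfl
theorem F46537 : act 0 n23381 = n18938 := d4_1 D23381 (iv D18938) D18936
theorem F46538 : act 4 n23381 = n19280 := d18_1 D23381 (iv D19280) (iv F33911)
def n23382 : Q := act 6 n18936
theorem D23382 : act 6 n18936 = n23382 := rfl
theorem F46539 : act 0 n23382 = n18939 := d5_1 D23382 (iv D18939) D18936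
theorem F46540 : act 4 n23382 = n19281 := d19_1 D23382 (iv D19281) (iv F33911)
def n23383 : Q := act 2 n18937
theorem D23383 : act 2 n18937 = n23383 := rfl
def n23384 : Q := act 4 n18937
theorem D23384 : act 4 n18937 = n23384 := rfl
theorem F46541 : act 1 n23384 = n18940 := d8_1 D23384 (iv D18940) (iv F33912)
theorem F46542 : act 3 n23384 = n19283 := d15_1 D23384 (iv D19283) (iv D14033) (iv F24186) D18937
def n23385 : Q := act 5 n18937
theorem D23385 : act 5 n18937 = n23385 := rfl
theorem F46543 : act 1 n23385 = n23385 := d9_1 D23385 (iv D23385) F33912 F24188 (iv F33912)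
theorem F46544 : act 3 n23385 = n18938 := d16_1 D23385 (iv D18938) D18937
def n23386 : Q := act 6 n18937
theorem D23386 : act 6 n18937 = n23386 := rfl
theorem F46545 : act 3 n23386 = n18939 := d17_1 D23386 (iv D18939) D18937
def n23387 : Q := act 6 n18938
theorem D23387 : act 6 n18938 = n23387 := rfl
theorem F46546 : act 4 n23387 = n19286 := d19_1 D23387 (iv D19286) (iv F33914)
theorem F46547 : act 5 n23387 = n23382 := d22_2 D18938 D23387 (iv D23382) (iv D18936)
def n23388 : Q := act 5 n18939
theorem D23388 : act 5 n18939 = n23388 := rfl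
theorem F46548 : act 0 n23388 = n23387 := d4_1 D23388 F46547 F46539
theorem F46549 : act 4 n23388 = n19287 := d18_1 D23388 (iv D19287) (iv F33915)
theorem F46550 : act 6 n23388 = n23381 := d20_2 D18939 D23388 (iv D23381) D23382 (iv F46547) (iv D23387) (iv D18938)
def n23389 : Q := act 0 n18941
theorem D23389 : act 0 n18941 = n23389 := rfl
def n23390 : Q := act 4 n18941
theorem D23390 : act 4 n18941 = n23390 := rfl
theorem F46551 : act 1 n23390 = n18942 := d8_1 D23390 (iv D18942) D18941
def n23391 : Q := act 5 n18941
theorem D23391 : act 5 n18941 = n23391 := rfl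
theorem F46552 : act 1 n23391 = n23391 := d9_1 D23391 (iv D23391) (iv D18941) F24189 D18941
def n23392 : Q := act 6 n18941
theorem D23392 : act 6 n18941 = n23392 := rfl
def n23393 : Q := act 6 n18945
theorem D23393 : act 6 n18945 = n23393 := rfl
theorem F46553 : act 2 n23393 = n18955 := d14_1 D23393 (iv D18955) (iv F33925)
theorem F46554 : act 3 n23393 = n21294 := d17_1 D23393 F41188 F41167
theorem F46555 : act 4 n23393 = n19296 := d19_1 D23393 (iv D19296) (iv F33926)
theorem F46556 : act 5 n23393 = n21292 := d22_2 D18945 D23393 (iv D21292) F34801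
def n23394 : Q := act 5 n18946
theorem D23394 : act 5 n18946 = n23394 := rfl
theorem F46557 : act 0 n23394 = n23393 := d4_1 D23394 F46556 F41178
theorem F46558 : act 2 n23394 = n18956 := d13_1 D23394 (iv D18956) (iv F33928)
theorem F46559 : act 3 n23394 = n21293 := d16_1 D23394 F41184 F41172
theorem F46560 : act 4 n23394 = n19297 := d18_1 D23394 (iv D19297) (iv F33929)
theorem F46561 : act 6 n23394 = n21291 := d20_2 D18946 D23394 (iv D21291) D21292 (iv F46556) (iv D23393) (iv D18945)
def n23395 : Q := act 4 n18948
theorem D23395 : act 4 n18948 = n23395 := rfl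
theorem F46562 : act 0 n23395 = n18952 := d3_1 D23395 (iv D18952) (iv F33935)
theorem F46563 : act 2 n23395 = n22868 := d12_1 D23395 F45194 F38823
theorem F46564 : act 3 n23395 = n19298 := d15_1 D23395 (iv D19298) (iv D14044) (iv F24198) D18948
theorem F46565 : act 6 n20406 = n23395 := d17_0 F46564 F36016 D20406
def n23396 : Q := act 5 n18948
theorem D23396 : act 5 n18948 = n23396 := rfl
theorem F46566 : act 0 n23396 = n18953 := d4_1 D23396 (iv D18953) (iv F33935)
theorem F46567 : act 3 n23396 = n18949 := d16_1 D23396 (iv D18949) D18948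
def n23397 : Q := act 6 n18948
theorem D23397 : act 6 n18948 = n23397 := rfl
theorem F46568 : act 0 n23397 = n18954 := d5_1 D23397 (iv D18954) (iv F33935)
theorem F46569 : act 2 n23397 = n22928 := d14_1 D23397 F45368 F38823
theorem F46570 : act 3 n23397 = n18950 := d17_1 D23397 (iv D18950) D18948
theorem F46571 : act 4 n23397 = n20406 := d19_1 D23397 F46565 (iv D23395)
theorem F46572 : act 1 n20409 = n23397 := d8_3 F46571 F38720 D20409
def n23398 : Q := act 1 n18949
theorem D23398 : act 1 n18949 = n23398 := rfl
theorem F46573 : act 4 n23398 = n19299 := d8_2 (iv F33937) D23398 (iv D19299)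
theorem F46574 : act 5 n23398 = n21937 := d9_2 D18949 D23398 F46267 (iv D23265) (iv F33764)
theorem F46575 : act 0 n22216 = n23398 := d3_3 F46573 (iv F39633) D22216
theorem F46576 : act 2 n22212 = n23398 := d12_3 F46573 (iv F39631) D22212
def n23399 : Q := act 5 n18951
theorem D23399 : act 5 n18951 = n23399 := rfl
theorem F46577 : act 2 n23399 = n18953 := d13_1 D23399 (iv D18953) D18951
theorem F46578 : act 3 n23399 = n19763 := d16_1 D23399 (iv D19763) F34794
theorem F46579 : act 4 n23399 = n22869 := d18_1 D23399 (iv D22869) (iv F34797)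
def n23400 : Q := act 5 n18952
theorem D23400 : act 5 n18952 = n23400 := rfl
theorem F46580 : act 2 n23400 = n22869 := d13_1 D23400 (iv D22869) (iv F35265)
theorem F46581 : act 3 n23400 = n19300 := d16_1 D23400 (iv D19300) (iv F33941)
theorem F46582 : act 4 n23400 = n18953 := d18_1 D23400 (iv D18953) D18952
def n23401 : Q := act 6 n18953
theorem D23401 : act 6 n18953 = n23401 := rfl
theorem F46583 : act 3 n23401 = n18955 := d17_1 D23401 (iv D18955) (iv F33942)
theorem F46584 : act 5 n23401 = n23397 := d22_2 D18953 D23401 (iv D23397) F33935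
def n23402 : Q := act 5 n18954
theorem D23402 : act 5 n18954 = n23402 := rfl
theorem F46585 : act 0 n23402 = n23401 := d4_1 D23402 F46584 F46568
theorem F46586 : act 2 n23402 = n22933 := d13_1 D23402 (iv D22933) F35262
theorem F46587 : act 3 n23402 = n18956 := d16_1 D23402 (iv D18956) (iv F33943)
theorem F46588 : act 4 n23402 = n21634 := d18_1 D23402 (iv D21634) (iv F35263)
theorem F46589 : act 6 n23402 = n23396 := d20_2 D18954 D23402 (iv D23396) D23397 (iv F46584) (iv D23401) (iv D18953)
def n23403 : Q := act 1 n18955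
theorem D23403 : act 1 n18955 = n23403 := rfl
theorem F46590 : act 4 n23403 = n19301 := d8_2 (iv F33944) D23403 (iv D19301)
def n23404 : Q := act 1 n18956
theorem D23404 : act 1 n18956 = n23404 := rfl
theorem F46591 : act 4 n23404 = n19302 := d8_2 (iv F33947) D23404 (iv D19302)
theorem F46592 : act 5 n23404 = n22266 := d9_2 D18956 D23404 (iv D22266) (iv D16963) (iv F34783)
def n23405 : Q := act 0 n18957
theorem D23405 : act 0 n18957 = n23405 := rfl
theorem F46593 : act 1 n23405 = n20434 := d0_2 D18957 D23405 F38769 F26353 (iv F28488) D21770 (iv F45348) F45349 F32379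
theorem F46594 : act 3 n23405 = n19310 := d2_2 (iv F33949) D23405 (iv D19310)
theorem F46595 : act 4 n23405 = n18959 := d3_2 (iv F33950) D23405 (iv D18959)
def n23406 : Q := act 2 n18957
theorem D23406 : act 2 n18957 = n23406 := rfl
theorem F46596 : act 4 n23406 = n18960 := d12_2 (iv F33950) D23406 (iv D18960)
def n23407 : Q := act 6 n18957
theorem D23407 : act 6 n18957 = n23407 := rfl
theorem F46597 : act 3 n23407 = n19312 := d17_1 D23407 (iv D19312) (iv F33949)
theorem F46598 : act 4 n23407 = n18961 := d19_1 D23407 (iv D18961) (iv F33950)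
def n23408 : Q := act 1 n18958
theorem D23408 : act 1 n18958 = n23408 := rfl
theorem F46599 : act 3 n23408 = n19313 := d7_2 (iv F33953) D23408 (iv D19313)
theorem F46600 : act 4 n23408 = n18962 := d8_2 (iv F33954) D23408 (iv D18962)
def n23409 : Q := act 1 n18959
theorem D23409 : act 1 n18959 = n23409 := rfl
theorem F46601 : act 0 n23409 = n20431 := d0_1 D23409 F38764 (iv F42193) (iv F45342) F45341 F32324 F23666 D13784 D18959
theorem F46602 : act 3 n23409 = n18963 := d7_2 (iv F33956) D23409 (iv D18963)
theorem F46603 : act 4 n23409 = n20434 := d8_2 F46595 D23409 (iv F46593)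
theorem F46604 : act 5 n20700 = n23409 := d18_0 F46603 F38771 (iv F39280)
theorem F46605 : act 6 n20429 = n23409 := d19_0 F46603 (iv D20434) (iv F38762)
def n23410 : Q := act 2 n18959
theorem D23410 : act 2 n18959 = n23410 := rfl
theorem F46606 : act 0 n23410 = n18960 := d1_1 D23410 (iv D18960) D18959
def n23411 : Q := act 6 n18959
theorem D23411 : act 6 n18959 = n23411 := rfl
theorem F46607 : act 0 n23411 = n18961 := d5_1 D23411 (iv D18961) D18959
theorem F46608 : act 3 n23411 = n18965 := d17_1 D23411 (iv D18965) (iv F33956)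
theorem F46609 : act 5 n23411 = n23300 := d22_2 F46345 D23411 (iv D23300) D23298
def n23412 : Q := act 3 n18960
theorem D23412 : act 3 n18960 = n23412 := rfl
def n23413 : Q := act 6 n18960
theorem D23413 : act 6 n18960 = n23413 := rfl
theorem F46610 : act 2 n23413 = n18961 := d14_1 D23413 (iv D18961) D18960
def n23414 : Q := act 1 n18961
theorem D23414 : act 1 n18961 = n23414 := rfl
theorem F46611 : act 3 n23414 = n18968 := d7_2 (iv F33957) D23414 (iv D18968)
theorem F46612 : act 6 n23414 = n18962 := d10_2 D18961 D23414 (iv D18962) (iv D13785) D13784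
def n23415 : Q := act 5 n18961
theorem D23415 : act 5 n18961 = n23415 := rfl
theorem F46613 : act 0 n23415 = n23300 := d4_1 D23415 (iv F46609) F46607
theorem F46614 : act 3 n23415 = n18969 := d16_1 D23415 (iv D18969) (iv F33957)
theorem F46615 : act 6 n23415 = n23298 := d20_2 D18961 D23415 F46345 D23411 F46609 (iv D23300) F33799
def n23416 : Q := act 0 n18962
theorem D23416 : act 0 n18962 = n23416 := rfl
theorem F46616 : act 3 n23416 = n18970 := d2_2 (iv F33958) D23416 (iv D18970)
def n23417 : Q := act 2 n18962
theorem D23417 : act 2 n18962 = n23417 := rfl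
theorem F46617 : act 1 n23417 = n22920 := d6_1 D23417 (iv D22920) F32324 (iv F24208) D18962
def n23418 : Q := act 5 n18962
theorem D23418 : act 5 n18962 = n23418 := rfl
theorem F46618 : act 1 n23418 = n19004 := d9_1 D23418 (iv D19004) F24263 (iv F24210) D18962
theorem F46619 : act 3 n23418 = n18971 := d16_1 D23418 (iv D18971) (iv F33958)
def n23419 : Q := act 3 n18964
theorem D23419 : act 3 n18964 = n23419 := rfl
theorem F46620 : act 0 n23419 = n18966 := d2_1 D23419 (iv D18966) (iv F33960)
theorem F46621 : act 1 n23419 = n22251 := d7_1 D23419 F43371 F35241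
def n23420 : Q := act 6 n18964
theorem D23420 : act 6 n18964 = n23420 := rfl
theorem F46622 : act 0 n23420 = n18967 := d5_1 D23420 (iv D18967) (iv F33960)
theorem F46623 : act 2 n23420 = n18965 := d14_1 D23420 (iv D18965) D18964
theorem F46624 : act 4 n23420 = n19318 := d19_1 D23420 (iv D19318) (iv F33961)
theorem F46625 : act 5 n23420 = n23305 := d22_2 F46355 D23420 (iv D23305) (iv F46352)
def n23421 : Q := act 1 n18965
theorem D23421 : act 1 n18965 = n23421 := rfl
theorem F46626 : act 4 n23421 = n19319 := d8_2 (iv F33963) D23421 (iv D19319)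
theorem F46627 : act 6 n23421 = n20752 := d10_2 D18965 D23421 (iv D20752) (iv F35239) (iv D18963)
def n23422 : Q := act 2 n18966
theorem D23422 : act 2 n18966 = n23422 := rfl
def n23423 : Q := act 4 n18966
theorem D23423 : act 4 n18966 = n23423 := rfl
theorem F46628 : act 1 n23423 = n18975 := d8_1 D23423 (iv D18975) (iv F33965)
theorem F46629 : act 3 n23423 = n19321 := d15_1 D23423 (iv D19321) (iv D14069) (iv F24213) D18966
def n23424 : Q := act 6 n18966
theorem D23424 : act 6 n18966 = n23424 := rfl
theorem F46630 : act 3 n23424 = n18967 := d17_1 D23424 (iv D18967) D18966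
def n23425 : Q := act 1 n18967
theorem D23425 : act 1 n18967 = n23425 := rfl
theorem F46631 : act 2 n23425 = n23375 := d6_2 (iv F33966) D23425 F46526 F33970 (iv D18968)
theorem F46632 : act 4 n23425 = n19322 := d8_2 (iv F33967) D23425 (iv D19322)
theorem F46633 : act 6 n23425 = n18972 := d10_2 D18967 D23425 (iv D18972) F24220 (iv F24212)
def n23426 : Q := act 5 n18967
theorem D23426 : act 5 n18967 = n23426 := rfl
theorem F46634 : act 0 n23426 = n23305 := d4_1 D23426 (iv F46625) F46622
theorem F46635 : act 2 n23426 = n18969 := d13_1 D23426 (iv D18969) (iv F33966)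
theorem F46636 : act 4 n23426 = n19323 := d18_1 D23426 (iv D19323) (iv F33967)
theorem F46637 : act 6 n23426 = n23303 := d20_2 D18967 D23426 F46355 D23420 F46625 (iv D23305) F33807
def n23427 : Q := act 0 n18968
theorem D23427 : act 0 n18968 = n23427 := rfl
theorem F46638 : act 2 n23427 = n23382 := d1_2 F33970 D23427 F46539
theorem F46639 : act 4 n23427 = n19324 := d3_2 (iv F33968) D23427 (iv D19324)
theorem F46640 : act 6 n23427 = n18970 := d5_2 (iv F33969) D23427 (iv D18970)
def n23428 : Q := act 5 n18968
theorem D23428 : act 5 n18968 = n23428 := rfl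
theorem F46641 : act 2 n23428 = n23388 := d13_1 D23428 (iv D23388) F33970
theorem F46642 : act 4 n23428 = n19325 := d18_1 D23428 (iv D19325) (iv F33968)
def n23429 : Q := act 1 n18969
theorem D23429 : act 1 n18969 = n23429 := rfl
theorem F46643 : act 4 n23429 = n19326 := d8_2 (iv F33972) D23429 (iv D19326)
theorem F46644 : act 2 n21573 = n23429 := d12_3 F46643 (iv F44099) (iv F41767)
theorem F46645 : act 5 n23429 = n21577 := d13_2 (iv F41768) F46644 (iv D21577)
theorem F46646 : act 1 n21577 = n23428 := d9_1 F46645 (iv D23428) (iv D18968) D18969 D23429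
def n23430 : Q := act 5 n18970
theorem D23430 : act 5 n18970 = n23430 := rfl
theorem F46647 : act 0 n23430 = n18971 := d4_1 D23430 (iv D18971) D18970
theorem F46648 : act 2 n23430 = n23381 := d13_1 D23430 (iv D23381) (iv F33974)
theorem F46649 : act 4 n23430 = n19327 := d18_1 D23430 (iv D19327) (iv F33975)
theorem F46650 : act 6 n23430 = n23428 := d22_1 D23430 (iv D23428) F33969 D18970
def n23431 : Q := act 6 n18971
theorem D23431 : act 6 n18971 = n23431 := rfl
theorem F46651 : act 0 n23431 = n23428 := d5_1 D23431 (iv F46650) F46647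
theorem F46652 : act 2 n23431 = n23387 := d14_1 D23431 (iv D23387) (iv F33977)
theorem F46653 : act 4 n23431 = n19328 := d19_1 D23431 (iv D19328) (iv F33978)
theorem F46654 : act 5 n23431 = n23427 := d20_1 D23431 F46640 D23430 F46650 (iv D23428) F33969 D18971
def n23432 : Q := act 0 n18972
theorem D23432 : act 0 n18972 = n23432 := rfl
theorem F46655 : act 2 n23432 = n23373 := d1_2 (iv F33979) D23432 (iv D23373)
theorem F46656 : act 4 n23432 = n19329 := d3_2 (iv F33980) D23432 (iv D19329)
def n23433 : Q := act 3 n18972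
theorem D23433 : act 3 n18972 = n23433 := rfl
theorem F46657 : act 1 n23433 = n18973 := d7_1 D23433 (iv D18973) D18972
def n23434 : Q := act 5 n18972
theorem D23434 : act 5 n18972 = n23434 := rfl
theorem F46658 : act 1 n23434 = n18978 := d9_1 D23434 (iv D18978) (iv D13792) (iv F24219) D18972
theorem F46659 : act 2 n23434 = n23366 := d13_1 D23434 F46509 (iv F33979)
theorem F46660 : act 4 n23434 = n19331 := d18_1 D23434 (iv D19331) (iv F33980)
def n23435 : Q := act 4 n18973
theorem D23435 : act 4 n18973 = n23435 := rfl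
theorem F46661 : act 0 n23435 = n18975 := d3_1 D23435 (iv D18975) (iv F33981)
theorem F46662 : act 3 n23435 = n19332 := d15_1 D23435 (iv D19332) (iv D14076) (iv F24218) D18973
theorem F46663 : act 5 n23435 = n18980 := d18_2 (iv F33982) D23435 (iv D18980)
theorem F46664 : act 6 n23435 = n18975 := d19_2 (iv F33983) D23435 (iv D18975)
def n23436 : Q := act 1 n18974
theorem D23436 : act 1 n18974 = n23436 := rfl
def n23437 : Q := act 4 n18974
theorem D23437 : act 4 n18974 = n23437 := rfl
theorem F46665 : act 2 n23437 = n18975 := d12_1 D23437 (iv D18975) D18974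
theorem F46666 : act 3 n23437 = n21868 := d15_1 D23437 (iv D21868) (iv F28670) (iv F34060) F34063
theorem F46667 : act 5 n23437 = n18982 := d18_2 (iv F33984) D23437 (iv D18982)
def n23438 : Q := act 1 n18976
theorem D23438 : act 1 n18976 = n23438 := rfl
theorem F46668 : act 4 n23438 = n19335 := d8_2 (iv F33988) D23438 (iv D19335)
def n23439 : Q := act 3 n18976
theorem D23439 : act 3 n18976 = n23439 := rfl
theorem F46669 : act 0 n23439 = n18977 := d2_1 D23439 (iv D18977) D18976
def n23440 : Q := act 5 n18976
theorem D23440 : act 5 n18976 = n23440 := rfl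
theorem F46670 : act 0 n23440 = n18978 := d4_1 D23440 (iv D18978) D18976
theorem F46671 : act 2 n23440 = n23368 := d13_1 D23440 F46515 (iv F33987)
theorem F46672 : act 4 n23440 = n19337 := d18_1 D23440 (iv D19337) (iv F33988)
def n23441 : Q := act 6 n18976
theorem D23441 : act 6 n18976 = n23441 := rfl
theorem F46673 : act 0 n23441 = n18979 := d5_1 D23441 (iv D18979) D18976
theorem F46674 : act 2 n23441 = n23371 := d14_1 D23441 (iv D23371) (iv F33987)
theorem F46675 : act 4 n23441 = n19338 := d19_1 D23441 (iv D19338) (iv F33988)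
def n23442 : Q := act 2 n18977
theorem D23442 : act 2 n18977 = n23442 := rfl
def n23443 : Q := act 4 n18977
theorem D23443 : act 4 n18977 = n23443 := rfl
theorem F46676 : act 1 n23443 = n18980 := d8_1 D23443 (iv D18980) (iv F33989)
theorem F46677 : act 3 n23443 = n19340 := d15_1 D23443 (iv D19340) (iv D14080) (iv F24223) D18977
def n23444 : Q := act 5 n18977
theorem D23444 : act 5 n18977 = n23444 := rfl
theorem F46678 : act 3 n23444 = n18978 := d16_1 D23444 (iv D18978) D18977
def n23445 : Q := act 6 n18977
theorem D23445 : act 6 n18977 = n23445 := rfl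
theorem F46679 : act 1 n23445 = n23445 := d10_1 D23445 (iv D23445) F33989 F24225 (iv F33989)
theorem F46680 : act 3 n23445 = n18979 := d17_1 D23445 (iv D18979) D18977
def n23446 : Q := act 6 n18978
theorem D23446 : act 6 n18978 = n23446 := rfl
theorem F46681 : act 2 n23446 = n23369 := d14_1 D23446 (iv D23369) (iv F33990)
theorem F46682 : act 4 n23446 = n19343 := d19_1 D23446 (iv D19343) (iv F33991)
theorem F46683 : act 5 n23446 = n23441 := d22_2 D18978 D23446 (iv D23441) (iv D18976)
def n23447 : Q := act 5 n18979
theorem D23447 : act 5 n18979 = n23447 := rfl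
theorem F46684 : act 0 n23447 = n23446 := d4_1 D23447 F46683 F46673
theorem F46685 : act 2 n23447 = n23372 := d13_1 D23447 (iv D23372) (iv F33993)
theorem F46686 : act 4 n23447 = n19344 := d18_1 D23447 (iv D19344) (iv F33994)
theorem F46687 : act 6 n23447 = n23440 := d20_2 D18979 D23447 (iv D23440) D23441 (iv F46683) (iv D23446) (iv D18978)
def n23448 : Q := act 0 n18981
theorem D23448 : act 0 n18981 = n23448 := rfl
def n23449 : Q := act 4 n18981
theorem D23449 : act 4 n18981 = n23449 := rfl
theorem F46688 : act 1 n23449 = n18982 := d8_1 D23449 (iv D18982) D18981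
def n23450 : Q := act 5 n18981
theorem D23450 : act 5 n18981 = n23450 := rfl
def n23451 : Q := act 6 n18981
theorem D23451 : act 6 n18981 = n23451 := rfl
theorem F46689 : act 1 n23451 = n23451 := d10_1 D23451 (iv D23451) (iv D18981) F24226 D18981
def n23452 : Q := act 6 n18984
theorem D23452 : act 6 n18984 = n23452 := rfl
theorem F46690 : act 0 n23452 = n18986 := d5_1 D23452 (iv D18986) (iv F34001)
theorem F46691 : act 2 n23452 = n23223 := d14_1 D23452 F46163 F37184
theorem F46692 : act 3 n23452 = n18985 := d17_1 D23452 (iv D18985) D18984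
theorem F46693 : act 4 n23452 = n21479 := d19_1 D23452 F41569 F38501
theorem F46694 : act 5 n23452 = n21476 := d22_2 (iv F38497) D23452 (iv D21476) (iv F38493)
def n23453 : Q := act 1 n18985
theorem D23453 : act 1 n18985 = n23453 := rfl
theorem F46695 : act 4 n23453 = n22053 := d8_2 (iv F34004) D23453 (iv D22053)
def n23454 : Q := act 5 n18986
theorem D23454 : act 5 n18986 = n23454 := rfl
theorem F46696 : act 0 n23454 = n21476 := d4_1 D23454 (iv F46694) F46690
theorem F46697 : act 2 n23454 = n23212 := d13_1 D23454 F46137 F45933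
theorem F46698 : act 3 n23454 = n18987 := d16_1 D23454 (iv D18987) (iv F34006)
theorem F46699 : act 4 n23454 = n20305 := d18_1 D23454 (iv F41564) F41563
theorem F46700 : act 6 n23454 = n20303 := d20_2 D18986 D23454 (iv F38497) D23452 F46694 (iv D21476) (iv F29017)
def n23455 : Q := act 1 n18987
theorem D23455 : act 1 n18987 = n23455 := rfl
theorem F46701 : act 4 n23455 = n20581 := d8_2 (iv F34009) D23455 (iv D20581)
theorem F46702 : act 6 n23455 = n20583 := d10_2 (iv F34010) D23455 (iv D20583) (iv D15249) (iv F26541)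
def n23456 : Q := act 2 n18988
theorem D23456 : act 2 n18988 = n23456 := rfl
theorem F46703 : act 0 n23456 = n23456 := d1_1 D23456 (iv D23456) F34011
theorem F46704 : act 4 n23456 = n21896 := d12_2 (iv F34013) D23456 (iv D21896)
def n23457 : Q := act 1 n18989
theorem D23457 : act 1 n18989 = n23457 := rfl
theorem F46705 : act 3 n23457 = n23377 := d7_2 (iv F34018) D23457 (iv D23377)
theorem F46706 : act 4 n23457 = n21897 := d8_2 (iv F34015) D23457 (iv D21897)
def n23458 : Q := act 0 n18990
theorem D23458 : act 0 n18990 = n23458 := rfl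
theorem F46707 : act 4 n23458 = n21898 := d3_2 (iv F34019) D23458 (iv D21898)
theorem F46708 : act 3 n21600 = n23458 := d21_7 (iv F34070) F34071 (iv F41802) (iv D21587) F28263 D16330 D21600 (iv D23458)
def n23459 : Q := act 3 n18990
theorem D23459 : act 3 n18990 = n23459 := rfl
theorem F46709 : act 0 n23459 = n21600 := d2_1 D23459 F46708 (iv D23458)
theorem F46710 : act 1 n23459 = n18991 := d7_1 D23459 (iv D18991) D18990
theorem F46711 : act 2 n23459 = n21597 := d21_6 (iv F28263) D21587 F41802 (iv F34071) F34070 D23459 (iv D21597) (iv D16329)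
def n23460 : Q := act 5 n18990
theorem D23460 : act 5 n18990 = n23460 := rfl
theorem F46712 : act 4 n23460 = n21900 := d18_1 D23460 (iv D21900) (iv F34019)
def n23461 : Q := act 6 n18990
theorem D23461 : act 6 n18990 = n23461 := rfl
theorem F46713 : act 1 n23461 = n18996 := d10_1 D23461 (iv D18996) (iv D13807) (iv F24246) D18990
theorem F46714 : act 4 n23461 = n21901 := d19_1 D23461 (iv D21901) (iv F34019)
def n23462 : Q := act 4 n18991
theorem D23462 : act 4 n18991 = n23462 := rfl
theorem F46715 : act 0 n23462 = n23378 := d3_1 D23462 (iv D23378) (iv F34020)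
theorem F46716 : act 2 n23462 = n23376 := d12_1 D23462 (iv D23376) (iv F34021)
theorem F46717 : act 3 n23462 = n21902 := d15_1 D23462 (iv D21902) (iv D16519) (iv F32964) D18991
theorem F46718 : act 5 n23462 = n23378 := d18_2 (iv F34022) D23462 (iv D23378)
theorem F46719 : act 6 n23462 = n18997 := d19_2 (iv F34023) D23462 (iv D18997)
def n23463 : Q := act 0 n18992
theorem D23463 : act 0 n18992 = n23463 := rfl
theorem F46720 : act 3 n23463 = n23389 := d2_2 (iv F34024) D23463 (iv D23389)
def n23464 : Q := act 5 n18992
theorem D23464 : act 5 n18992 = n23464 := rfl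
theorem F46721 : act 1 n23464 = n23464 := d9_1 D23464 (iv D23464) (iv D18992) F24250 D18992
theorem F46722 : act 3 n23464 = n23391 := d16_1 D23464 (iv D23391) (iv F34024)
def n23465 : Q := act 6 n18992
theorem D23465 : act 6 n18992 = n23465 := rfl
theorem F46723 : act 3 n23465 = n23392 := d17_1 D23465 (iv D23392) (iv F34024)
def n23466 : Q := act 1 n18993
theorem D23466 : act 1 n18993 = n23466 := rfl
def n23467 : Q := act 3 n18993
theorem D23467 : act 3 n18993 = n23467 := rfl
theorem F46724 : act 0 n23467 = n18994 := d2_1 D23467 (iv D18994) D18993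
def n23468 : Q := act 5 n18993
theorem D23468 : act 5 n18993 = n23468 := rfl
theorem F46725 : act 0 n23468 = n18995 := d4_1 D23468 (iv D18995) D18993
theorem F46726 : act 2 n23468 = n23468 := d13_1 D23468 (iv D23468) F34025
def n23469 : Q := act 6 n18993
theorem D23469 : act 6 n18993 = n23469 := rfl
theorem F46727 : act 0 n23469 = n18996 := d5_1 D23469 (iv D18996) D18993
def n23470 : Q := act 2 n18994
theorem D23470 : act 2 n18994 = n23470 := rfl
theorem F46729 : act 1 n23470 = n23383 := d6_1 D23470 (iv D23383) F33912 (iv F24257) (iv F34026)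
def n23471 : Q := act 4 n18994
theorem D23471 : act 4 n18994 = n23471 := rfl
theorem F46730 : act 1 n23471 = n18997 := d8_1 D23471 (iv D18997) (iv F34026)
def n23472 : Q := act 5 n18994
theorem D23472 : act 5 n18994 = n23472 := rfl
theorem F46731 : act 1 n23472 = n23472 := d9_1 D23472 (iv D23472) F34026 F24258 (iv F34026)
theorem F46732 : act 3 n23472 = n18995 := d16_1 D23472 (iv D18995) D18994
def n23473 : Q := act 6 n18994
theorem D23473 : act 6 n18994 = n23473 := rfl
theorem F46733 : act 3 n23473 = n18996 := d17_1 D23473 (iv D18996) D18994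
def n23474 : Q := act 6 n18995
theorem D23474 : act 6 n18995 = n23474 := rfl
theorem F46735 : act 5 n23474 = n23469 := d22_2 D18995 D23474 (iv D23469) (iv D18993)
def n23475 : Q := act 5 n18996
theorem D23475 : act 5 n18996 = n23475 := rfl
theorem F46738 : act 6 n23475 = n23468 := d20_2 D18996 D23475 (iv D23468) D23469 (iv F46735) (iv D23474) (iv D18995)
def n23476 : Q := act 5 n18999
theorem D23476 : act 5 n18999 = n23476 := rfl
theorem F46739 : act 0 n23476 = n19004 := d4_1 D23476 (iv D19004) (iv F34034)
theorem F46740 : act 2 n23476 = n23297 := d13_1 D23476 F46343 F37270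
theorem F46741 : act 3 n23476 = n19000 := d16_1 D23476 (iv D19000) D18999
theorem F46742 : act 4 n23476 = n21639 := d18_1 D23476 F41909 F38585
theorem F46743 : act 6 n23476 = n21637 := d22_1 D23476 (iv D21637) F34788 (iv F34034)
def n23477 : Q := act 1 n19000
theorem D23477 : act 1 n19000 = n23477 := rfl
theorem F46744 : act 4 n23477 = n22270 := d8_2 F34769 D23477 (iv D22270)
def n23478 : Q := act 6 n19004
theorem D23478 : act 6 n19004 = n23478 := rfl
theorem F46745 : act 0 n23478 = n21637 := d5_1 D23478 (iv F46743) F46739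
theorem F46746 : act 2 n23478 = n23287 := d14_1 D23478 F46321 F45972
theorem F46747 : act 3 n23478 = n19006 := d17_1 D23478 (iv D19006) (iv F34044)
theorem F46748 : act 4 n23478 = n20338 := d19_1 D23478 (iv F41914) F41913
theorem F46749 : act 5 n23478 = n20337 := d20_1 D23478 (iv F38578) D23476 F46743 (iv D21637) F34788 D19004
def n23479 : Q := act 1 n19006
theorem D23479 : act 1 n19006 = n23479 := rfl
theorem F46750 : act 4 n23479 = n20619 := d8_2 F34773 D23479 (iv D20619)
theorem F46751 : act 5 n23479 = n20621 := d9_2 F34785 D23479 (iv D20621) (iv D15288) (iv F26603)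
def n23480 : Q := act 2 n19008
theorem D23480 : act 2 n19008 = n23480 := rfl
theorem F46752 : act 0 n23480 = n23480 := d1_1 D23480 (iv D23480) F34054
theorem F46753 : act 4 n23480 = n21903 := d12_2 (iv F34056) D23480 (iv D21903)
theorem F46754 : act 5 n23480 = n23456 := d13_2 (iv F34057) D23480 (iv D23456)
theorem F46755 : act 6 n23480 = n23456 := d14_2 (iv F34058) D23480 (iv D23456)
def n23481 : Q := act 1 n19009
theorem D23481 : act 1 n19009 = n23481 := rfl
theorem F46756 : act 3 n23481 = n23436 := d7_2 (iv F34063) D23481 (iv D23436)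
theorem F46757 : act 4 n23481 = n21904 := d8_2 (iv F34060) D23481 (iv D21904)
def n23482 : Q := act 0 n19010
theorem D23482 : act 0 n19010 = n23482 := rfl
theorem F46758 : act 2 n23482 = n23463 := d1_2 (iv F34064) D23482 (iv D23463)
theorem F46759 : act 4 n23482 = n21905 := d3_2 (iv F34065) D23482 (iv D21905)
theorem F46760 : act 3 n21759 = n23482 := d21_7 F34064 F34024 (iv F42145) (iv D21746) F28467 D16433 D21759 (iv D23482)
def n23483 : Q := act 3 n19010
theorem D23483 : act 3 n19010 = n23483 := rfl
theorem F46761 : act 0 n23483 = n21759 := d2_1 D23483 F46760 (iv D23482)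
theorem F46762 : act 1 n23483 = n19011 := d7_1 D23483 (iv D19011) D19010
theorem F46763 : act 2 n23483 = n21756 := d21_6 (iv F28467) D21746 F42145 (iv F34024) (iv F34064) D23483 (iv D21756) (iv D16432)
def n23484 : Q := act 5 n19010
theorem D23484 : act 5 n19010 = n23484 := rfl
theorem F46764 : act 1 n23484 = n19015 := d9_1 D23484 (iv D19015) (iv D13821) (iv F24281) D19010
theorem F46765 : act 2 n23484 = n23464 := d13_1 D23484 (iv D23464) (iv F34064)
theorem F46766 : act 4 n23484 = n21907 := d18_1 D23484 (iv D21907) (iv F34065)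
def n23485 : Q := act 6 n19010
theorem D23485 : act 6 n19010 = n23485 := rfl
theorem F46767 : act 2 n23485 = n23465 := d14_1 D23485 (iv D23465) (iv F34064)
theorem F46768 : act 4 n23485 = n21908 := d19_1 D23485 (iv D21908) (iv F34065)
def n23486 : Q := act 4 n19011
theorem D23486 : act 4 n19011 = n23486 := rfl
theorem F46769 : act 0 n23486 = n23437 := d3_1 D23486 (iv D23437) (iv F34066)
theorem F46770 : act 2 n23486 = n23435 := d12_1 D23486 (iv D23435) (iv F34067)
theorem F46771 : act 3 n23486 = n21909 := d15_1 D23486 (iv D21909) (iv D16525) (iv F32979) D19011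
theorem F46772 : act 5 n23486 = n19017 := d18_2 (iv F34068) D23486 (iv D19017)
theorem F46773 : act 6 n23486 = n23437 := d19_2 (iv F34069) D23486 (iv D23437)
def n23487 : Q := act 0 n19012
theorem D23487 : act 0 n19012 = n23487 := rfl
theorem F46774 : act 2 n23487 = n23458 := d1_2 (iv F34070) D23487 (iv D23458)
theorem F46775 : act 3 n23487 = n23448 := d2_2 (iv F34071) D23487 (iv D23448)
def n23488 : Q := act 5 n19012
theorem D23488 : act 5 n19012 = n23488 := rfl
theorem F46776 : act 2 n23488 = n23460 := d13_1 D23488 (iv D23460) (iv F34070)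
theorem F46777 : act 3 n23488 = n23450 := d16_1 D23488 (iv D23450) (iv F34071)
def n23489 : Q := act 6 n19012
theorem D23489 : act 6 n19012 = n23489 := rfl
theorem F46778 : act 1 n23489 = n23489 := d10_1 D23489 (iv D23489) (iv D19012) F24286 D19012
theorem F46779 : act 2 n23489 = n23461 := d14_1 D23489 (iv D23461) (iv F34070)
theorem F46780 : act 3 n23489 = n23451 := d17_1 D23489 (iv D23451) (iv F34071)
def n23490 : Q := act 1 n19013
theorem D23490 : act 1 n19013 = n23490 := rfl
def n23491 : Q := act 3 n19013
theorem D23491 : act 3 n19013 = n23491 := rfl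
theorem F46781 : act 0 n23491 = n19014 := d2_1 D23491 (iv D19014) D19013
def n23492 : Q := act 5 n19013
theorem D23492 : act 5 n19013 = n23492 := rfl
def n23493 : Q := act 6 n19013
theorem D23493 : act 6 n19013 = n23493 := rfl
def n23494 : Q := act 2 n19014
theorem D23494 : act 2 n19014 = n23494 := rfl
theorem F46786 : act 1 n23494 = n23442 := d6_1 D23494 (iv D23442) F33989 (iv F24294) (iv F34073)
def n23495 : Q := act 4 n19014
theorem D23495 : act 4 n19014 = n23495 := rfl
theorem F46787 : act 1 n23495 = n19017 := d8_1 D23495 (iv D19017) (iv F34073)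
def n23496 : Q := act 5 n19014
theorem D23496 : act 5 n19014 = n23496 := rfl
theorem F46788 : act 3 n23496 = n19015 := d16_1 D23496 (iv D19015) D19014
def n23497 : Q := act 6 n19014
theorem D23497 : act 6 n19014 = n23497 := rfl
theorem F46790 : act 3 n23497 = n19016 := d17_1 D23497 (iv D19016) D19014
def n23498 : Q := act 6 n19015
theorem D23498 : act 6 n19015 = n23498 := rfl
theorem F46792 : act 5 n23498 = n23493 := d22_2 D19015 D23498 (iv D23493) (iv D19013)
def n23499 : Q := act 5 n19016
theorem D23499 : act 5 n19016 = n23499 := rfl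
theorem F46795 : act 6 n23499 = n23492 := d20_2 D19016 D23499 (iv D23492) D23493 (iv F46792) (iv D23498) (iv D19015)
def n23500 : Q := act 6 n19038
theorem D23500 : act 6 n19038 = n23500 := rfl
theorem F46796 : act 0 n23500 = n21913 := d5_1 D23500 (iv D21913) (iv F34143)
theorem F46797 : act 2 n23500 = n19040 := d14_1 D23500 (iv D19040) D19038
theorem F46798 : act 3 n23500 = n20628 := d17_1 D23500 F39144 F34144
def n23501 : Q := act 5 n19046
theorem D23501 : act 5 n19046 = n23501 := rfl
theorem F46799 : act 0 n23501 = n21916 := d4_1 D23501 (iv D21916) F35176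
theorem F46800 : act 2 n23501 = n19047 := d13_1 D23501 (iv D19047) D19046
theorem F46801 : act 3 n23501 = n20590 := d16_1 D23501 F39065 (iv F35177)
def n23502 : Q := act 1 n19058
theorem D23502 : act 1 n19058 = n23502 := rfl
theorem F46802 : act 4 n23502 = n19059 := d8_2 (iv F35521) D23502 (iv D19059)
def n23503 : Q := act 0 n19059
theorem D23503 : act 0 n19059 = n23503 := rfl
theorem F46803 : act 3 n23503 = n19060 := d2_2 (iv F35522) D23503 (iv D19060)
def n23504 : Q := act 2 n19059
theorem D23504 : act 2 n19059 = n23504 := rfl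
theorem F46804 : act 6 n23504 = n20587 := d14_2 F37694 D23504 F39054
theorem F46805 : act 5 n23504 = n19059 := d24_1 (iv F46804) (iv D19059) (iv D13867) F19446 F12206 D8231 D11014 D14018 (iv F29612) D22056 F42885 (iv F39057) (iv D20588) D20587
theorem F46806 : act 3 n19062 = n23504 := d16_3 F46805 F35522 D19062
def n23505 : Q := act 1 n19060
theorem D23505 : act 1 n19060 = n23505 := rfl
def n23506 : Q := act 2 n19060
theorem D23506 : act 2 n19060 = n23506 := rfl
theorem F46807 : act 0 n23506 = n19061 := d1_1 D23506 (iv D19061) D19060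
def n23507 : Q := act 5 n19060
theorem D23507 : act 5 n19060 = n23507 := rfl
theorem F46808 : act 0 n23507 = n19062 := d4_1 D23507 (iv D19062) D19060
theorem F46809 : act 6 n23507 = n22970 := d22_1 D23507 (iv D22970) F33093 D19060
theorem E10334 : n23505 = n22213 := (c24_3 (iv F46809) (iv D23507) D23505 (iv D22213) (iv F42582) (iv F43555) F43557 F42865 (iv F37927) (iv F45540) (iv D22994) F35642 F35641 (iv F44994) (iv F45470))
theorem F46810 : act 1 n22213 = n19060 := (sb E10334 (iv D23505))
theorem E10335 : n23503 = n22214 := (c7_3 (iv F43305) F46810 (iv F46803) (iv D22214))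
theorem F46811 : act 0 n22214 = n19059 := (sb E10335 (iv D23503))
theorem F46812 : act 3 n22214 = n19060 := (sb E10335 F46803)
def n23508 : Q := act 5 n19061
theorem D23508 : act 5 n19061 = n23508 := rfl
theorem F46813 : act 2 n23508 = n19062 := d13_1 D23508 (iv D19062) D19061
def n23509 : Q := act 6 n19062
theorem D23509 : act 6 n19062 = n23509 := rfl
theorem F46814 : act 0 n23509 = n22970 := d5_1 D23509 (iv F46809) F46808
theorem F46815 : act 3 n23509 = n20587 := d17_1 D23509 (iv F46804) (iv F46806)
theorem F46816 : act 5 n23509 = n22968 := d20_1 D23509 F45467 D23507 F46809 (iv D22970) F33093 D19062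
theorem F46817 : act 1 n20584 = n23509 := d7_3 F46815 (iv D20587) (iv F39050)
def n23510 : Q := act 2 n19063
theorem D23510 : act 2 n19063 = n23510 := rfl
theorem F46818 : act 0 n23510 = n22547 := d1_1 D23510 F44161 F37813
def n23511 : Q := act 2 n19067
theorem D23511 : act 2 n19067 = n23511 := rfl
theorem F46819 : act 0 n23511 = n19068 := d1_1 D23511 (iv D19068) D19067
theorem F46820 : act 3 n23511 = n19337 := d11_2 F35769 D23511 F36090 (iv F43994) (iv F43997) (iv F44973) (iv D22807) F31924 D19068 F36129 F24587 (iv F35911) F35910 (iv F39173) F39172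
theorem F46821 : act 5 n23511 = n19336 := d13_2 F45012 D23511 F45017
theorem F46822 : act 6 n23511 = n22824 := d14_2 F35528 D23511 (iv D22824)
def n23512 : Q := act 1 n19068
theorem D23512 : act 1 n19068 = n23512 := rfl
theorem F46823 : act 2 n23512 = n19070 := d6_2 D19068 D23512 (iv D19070) (iv D13873) D13872
theorem F46824 : act 3 n23512 = n19331 := d7_2 (iv F36129) D23512 F36079
theorem F46825 : act 5 n23512 = n19330 := d9_2 (iv F36130) D23512 F36078 F24581 (iv F24586)
def n23513 : Q := act 6 n19068
theorem D23513 : act 6 n19068 = n23513 := rfl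
theorem F46826 : act 0 n23513 = n22824 := d5_1 D23513 (iv F46822) F46819
theorem F46827 : act 2 n23513 = n19069 := d14_1 D23513 (iv D19069) D19068
theorem F46828 : act 3 n23513 = n19343 := d17_1 D23513 (iv D19343) (iv F36129)
theorem F46829 : act 5 n23513 = n22826 := d20_1 D23513 F45055 (iv F46821) F46822 F45045 F36132 (iv F36130)
def n23514 : Q := act 5 n19070
theorem D23514 : act 5 n19070 = n23514 := rfl
theorem F46830 : act 2 n23514 = n19330 := d13_1 D23514 (iv F46825) F46823
theorem F46831 : act 3 n23514 = n22616 := d16_1 D23514 F44393 F40038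
theorem F46832 : act 6 n19333 = n23514 := d24_0 (iv D23514) (iv D19070) (iv F35970) F27306 F21121 D11985 (iv F21149) D15711 F36107 (iv D19347) (iv D14084) F19551 (iv F24583) D19333
def n23515 : Q := act 6 n19070
theorem D23515 : act 6 n19070 = n23515 := rfl
def n23516 : Q := act 1 n19072
theorem D23516 : act 1 n19072 = n23516 := rfl
theorem F46833 : act 3 n23516 = n20996 := d7_2 (iv F35991) D23516 (iv D20996)
def n23517 : Q := act 1 n19082
theorem D23517 : act 1 n19082 = n23517 := rfl
theorem F46834 : act 4 n23517 = n19083 := d8_2 (iv F35551) D23517 (iv D19083)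
def n23518 : Q := act 2 n19083
theorem D23518 : act 2 n19083 = n23518 := rfl
theorem F46835 : act 5 n23518 = n20625 := d13_2 F37793 D23518 F39132
theorem F46836 : act 6 n19083 = n23518 := d24_0 F46835 (iv D20625) D20626 F39135 (iv F43440) (iv D22280) (iv F35283) (iv D14065) (iv D11037) (iv D8254) (iv F12216) (iv F19452) D13885 D19083
theorem F46837 : act 3 n23518 = n19086 := d17_1 F46836 (iv D19086) (iv F35552)
def n23519 : Q := act 2 n19084
theorem D23519 : act 2 n19084 = n23519 := rfl
theorem F46838 : act 0 n23519 = n19085 := d1_1 D23519 (iv D19085) D19084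
def n23520 : Q := act 6 n19084
theorem D23520 : act 6 n19084 = n23520 := rfl
theorem F46839 : act 0 n23520 = n19086 := d5_1 D23520 (iv D19086) D19084
theorem F46840 : act 5 n23520 = n22979 := d22_2 F45492 D23520 (iv D22979) D22977
def n23521 : Q := act 6 n19085
theorem D23521 : act 6 n19085 = n23521 := rfl
theorem F46841 : act 2 n23521 = n19086 := d14_1 D23521 (iv D19086) D19085
def n23522 : Q := act 5 n19086
theorem D23522 : act 5 n19086 = n23522 := rfl
theorem F46842 : act 0 n23522 = n22979 := d4_1 D23522 (iv F46840) F46839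
theorem F46843 : act 3 n23522 = n20625 := d16_1 D23522 (iv F46835) F46837
theorem F46844 : act 6 n23522 = n22977 := d20_2 D19086 D23522 F45492 D23520 F46840 (iv D22979) F33111
theorem F46845 : act 1 n20622 = n23522 := d7_3 F46843 (iv D20625) (iv F39128)
def n23523 : Q := act 2 n19087
theorem D23523 : act 2 n19087 = n23523 := rfl
theorem F46846 : act 0 n23523 = n22488 := d1_1 D23523 F44022 F37717
def n23524 : Q := act 2 n19091
theorem D23524 : act 2 n19091 = n23524 := rfl
theorem F46847 : act 0 n23524 = n19092 := d1_1 D23524 (iv D19092) D19091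
theorem F46848 : act 3 n23524 = n19281 := d11_2 F35622 D23524 (iv F36068) (iv F44134) (iv F44137) (iv F44996) (iv D22813) F31945 D19092 F35987 F24573 (iv F36045) F36044 (iv F39092) (iv F39093)
theorem F46849 : act 5 n23524 = n22817 := d13_2 (iv F35559) D23524 (iv D22817)
theorem F46850 : act 6 n23524 = n19279 := d14_2 F45035 D23524 (iv F45032)
def n23525 : Q := act 1 n19092
theorem D23525 : act 1 n19092 = n23525 := rfl
theorem F46851 : act 2 n23525 = n19094 := d6_2 D19092 D23525 (iv D19094) (iv D13891) D13890
theorem F46852 : act 3 n23525 = n19274 := d7_2 (iv F35987) D23525 F35939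
theorem F46853 : act 6 n23525 = n19273 := d10_2 (iv F35988) D23525 F35938 F24528 (iv F24531)
def n23526 : Q := act 5 n19092
theorem D23526 : act 5 n19092 = n23526 := rfl
theorem F46854 : act 0 n23526 = n22817 := d4_1 D23526 (iv F46849) F46847
theorem F46855 : act 2 n23526 = n19093 := d13_1 D23526 (iv D19093) D19092
theorem F46856 : act 3 n23526 = n19287 := d16_1 D23526 (iv D19287) (iv F35987)
theorem F46857 : act 6 n23526 = n22820 := d20_2 (iv F35988) D23526 (iv F45029) (iv F46850) F46849 F45007 F35986
def n23527 : Q := act 5 n19094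
theorem D23527 : act 5 n19094 = n23527 := rfl
def n23528 : Q := act 6 n19094
theorem D23528 : act 6 n19094 = n23528 := rfl
theorem F46858 : act 2 n23528 = n19273 := d14_1 D23528 (iv F46853) F46851
theorem F46859 : act 3 n23528 = n22570 := d17_1 D23528 F44228 (iv F39885)
theorem F46860 : act 5 n23528 = n19276 := d24_1 D23528 (iv D19276) F24529 F19525 D14037 D19290 (iv F35962) (iv D15839) (iv F21146) (iv D11924) (iv F21039) (iv F27152) F36116 D19094
def n23529 : Q := act 1 n19096
theorem D23529 : act 1 n19096 = n23529 := rfl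
theorem F46861 : act 3 n23529 = n20912 := d7_2 (iv F36136) D23529 (iv D20912)
def n23530 : Q := act 4 n19103
theorem D23530 : act 4 n19103 = n23530 := rfl
theorem F46862 : act 0 n23530 = n19110 := d3_1 D23530 (iv D19110) (iv F35572)
theorem F46863 : act 1 n23530 = n19241 := d8_1 D23530 (iv D19241) (iv F35573)
theorem F46864 : act 2 n23530 = n21083 := d12_1 D23530 F40676 (iv F35574)
theorem F46865 : act 5 n23530 = n20377 := d18_2 F35575 D23530 F38670
theorem F46866 : act 6 n23530 = n21085 := d19_2 F35576 D23530 F40684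
def n23531 : Q := act 6 n19110
theorem D23531 : act 6 n19110 = n23531 := rfl
theorem F46867 : act 0 n23531 = n21085 := d5_1 D23531 (iv F46866) F46862
theorem F46868 : act 2 n23531 = n21084 := d14_1 D23531 F40682 (iv F36608)
theorem F46869 : act 4 n23531 = n19111 := d19_1 D23531 (iv D19111) D19110
def n23532 : Q := act 1 n19112
theorem D23532 : act 1 n19112 = n23532 := rfl
theorem F46870 : act 3 n23532 = n22476 := d7_2 F42498 D23532 F44001
theorem F46871 : act 5 n23532 = n22473 := d9_2 (iv F35606) D23532 F43991 (iv D21932) F35593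
def n23533 : Q := act 2 n19113
theorem D23533 : act 2 n19113 = n23533 := rfl
theorem F46872 : act 1 n23533 = n19117 := d6_1 D23533 (iv D19117) (iv D13904) (iv F24388) D19113
theorem F46873 : act 5 n20705 = n23533 := d23_0 (iv D23533) (iv D19113) (iv F35590) (iv F35606) F35605 D19115 F35612 (iv D18253) (iv F34624) F28590 (iv F42361) F42365 F42034 (iv D19115) (iv F24391) (iv D13905) (iv F24388) D19113 (iv F39301)
theorem F46874 : act 3 n23533 = n20710 := d16_1 F46873 (iv D20710) (iv F39289)
def n23534 : Q := act 5 n19113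
theorem D23534 : act 5 n19113 = n23534 := rfl
theorem F46875 : act 0 n23534 = n23533 := d4_1 D23534 (iv F46873) F39301
theorem F46876 : act 2 n23534 = n20705 := d13_1 D23534 F46873 (iv D23533)
theorem F46877 : act 3 n23534 = n22262 := d16_1 D23534 F43390 (iv F39300)
theorem F46878 : act 6 n23534 = n22257 := d22_1 D23534 (iv D22257) (iv F39290) F39301
theorem E10336 : n22257 = n22256 := (c14_1 F46878 (iv D22256) (iv F39290) (iv F46876))
theorem F46879 : act 1 n22256 = n22168 := (sb E10336 F43380)
theorem F46880 : act 3 n22256 = n16949 := (sb E10336 F43381)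
theorem F46881 : act 5 n22256 = n16946 := (sb E10336 (iv D22257))
theorem F46882 : act 6 n22256 = n23534 := (sb E10336 (iv F46878))
theorem F46883 : act 2 n22168 = n22253 := d6_2 D22256 F46879 (iv D22253) F29847 D16946
theorem F46884 : act 5 n22253 = n22166 := d13_2 D22168 F46883 (iv D22166)
theorem F46885 : act 2 n22437 = n22376 := d21_2 F46883 (iv F43903) F43751 (iv F43734) F43735 (iv D22063) (iv F42877) (iv F43192)
theorem E10337 : n22441 = n22440 := (c6_2 F46885 (iv F43908) (iv D22440) (iv D17137) (iv F30093) D22437)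
theorem F46886 : act 1 n22440 = n22376 := (sb E10337 F43908)
theorem F46887 : act 3 n22440 = n17140 := (sb E10337 F43909)
theorem F46888 : act 6 n22440 = n17137 := (sb E10337 (iv D22441))
theorem F46889 : act 6 n22373 = n22437 := d14_0 F46885 (iv D22376) D22373
theorem F46890 : act 1 n20754 = n23534 := d6_5 F46876 (iv D20705) F35151 D15424 D20754
theorem F46891 : act 0 n23000 = n20754 := d0_9 F46890 F46875 F46872 F35619 (iv D18565) F23804 D13556 D18571 D23000
theorem F46892 : act 2 n20035 = n23000 := d1_0 F46891 (iv D20754) (iv F37854)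
def n23535 : Q := act 1 n19114
theorem D23535 : act 1 n19114 = n23535 := rfl
theorem F46893 : act 3 n23535 = n20682 := d7_2 F39215 D23535 F39248
theorem F46894 : act 5 n23535 = n20754 := d9_2 D19114 D23535 F46890 (iv D23534) (iv D19113)
theorem F46895 : act 6 n23535 = n20676 := d10_2 (iv F35609) D23535 (iv D20676) F26694 (iv F35587)
theorem F46896 : act 2 n20755 = n23535 := d13_3 F46894 (iv D20754) D20755
def n23536 : Q := act 2 n19119
theorem D23536 : act 2 n19119 = n23536 := rfl
theorem F46897 : act 0 n23536 = n19201 := d1_1 D23536 F35795 (iv F35726)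
theorem F46898 : act 1 n23536 = n20755 := d6_1 D23536 F46896 (iv D23535) F35608 D19119
theorem F46899 : act 3 n23536 = n19259 := d11_2 F45010 D23536 (iv D19259) F24516 (iv F19548) D14080 (iv F36128) F31996 (iv F35795) (iv F44018) (iv D22483) (iv F34137) (iv F24585) D19336 F45017
theorem F46900 : act 5 n23536 = n20636 := d13_2 F35770 D23536 F39172
theorem F46901 : act 6 n23536 = n19199 := d14_2 F35727 D23536 (iv D19199)
def n23537 : Q := act 6 n19120
theorem D23537 : act 6 n19120 = n23537 := rfl
theorem F46902 : act 2 n23537 = n19247 := d14_1 D23537 (iv D19247) (iv F35624)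
theorem F46903 : act 4 n23537 = n19121 := d19_1 D23537 (iv D19121) D19120
def n23538 : Q := act 1 n19121
theorem D23538 : act 1 n19121 = n23538 := rfl
theorem F46904 : act 0 n23538 = n22183 := d0_1 D23538 (iv D22183) (iv D16886) (iv D12563) (iv F18069) D12597 D16947 F39299 F36789
theorem F46905 : act 3 n23538 = n19123 := d7_2 (iv F35626) D23538 (iv D19123)
theorem F46906 : act 6 n23538 = n19126 := d10_2 D19121 D23538 (iv D19126) (iv D13911) (iv F24393)
def n23539 : Q := act 5 n19121
theorem D23539 : act 5 n19121 = n23539 := rfl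
theorem F46907 : act 0 n23539 = n19844 := d4_1 D23539 F37471 F36789
theorem F46908 : act 2 n23539 = n19250 := d13_1 D23539 (iv D19250) (iv F35625)
theorem F46909 : act 3 n23539 = n19124 := d16_1 D23539 (iv D19124) (iv F35626)
theorem F46910 : act 6 n23539 = n19577 := d20_2 D19121 D23539 F36770 D19582 (iv F37471) (iv D19844) (iv F29161)
def n23540 : Q := act 1 n19122
theorem D23540 : act 1 n19122 = n23540 := rfl
theorem F46911 : act 3 n23540 = n19964 := d7_2 F37470 D23540 F37727
theorem F46912 : act 6 n23540 = n19961 := d10_2 D19122 D23540 (iv D19961) F25694 (iv F29163)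
def n23541 : Q := act 0 n19123
theorem D23541 : act 0 n19123 = n23541 := rfl
theorem F46913 : act 1 n23541 = n22181 := d0_2 D19123 D23541 (iv D22181) (iv D16885) (iv F22120) D16946 D22255 (iv F43379) F35600
theorem F46914 : act 3 n23541 = n22183 := d2_2 F46905 D23541 (iv F46904)
theorem F46915 : act 6 n23541 = n19127 := d5_2 (iv F35628) D23541 (iv D19127)
def n23542 : Q := act 2 n19123
theorem D23542 : act 2 n19123 = n23542 := rfl
theorem F46916 : act 6 n23542 = n19128 := d14_2 (iv F35628) D23542 (iv D19128)
theorem F46917 : act 5 n23540 = n23542 := d22_2 F44036 (iv F46912) F46916 (iv F44046)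
def n23543 : Q := act 5 n19123
theorem D23543 : act 5 n19123 = n23543 := rfl
theorem F46918 : act 2 n23543 = n23540 := d13_1 D23543 F46917 (iv D23542)
def n23544 : Q := act 1 n19124
theorem D23544 : act 1 n19124 = n23544 := rfl
def n23545 : Q := act 1 n19125
theorem D23545 : act 1 n19125 = n23545 := rfl
theorem F46919 : act 4 n23545 = n19126 := d8_2 (iv F35634) D23545 (iv D19126)
def n23546 : Q := act 0 n19126
theorem D23546 : act 0 n19126 = n23546 := rfl
theorem F46920 : act 3 n23546 = n19127 := d2_2 (iv F35636) D23546 (iv D19127)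
theorem F46921 : act 6 n23546 = n22183 := d5_2 F46906 D23546 (iv F46904)
theorem F46922 : act 5 n23546 = n20680 := d24_1 (iv F46921) (iv D20680) F26695 D15346 (iv F34135) (iv F45559) F45558 (iv D20507) (iv F37480) (iv F38937) (iv F43233) F43232 F43121 D22183
def n23547 : Q := act 2 n19126
theorem D23547 : act 2 n19126 = n23547 := rfl
theorem F46923 : act 1 n23547 = n19138 := d6_1 D23547 (iv D19138) (iv D13917) (iv F24400) D19126
theorem F46924 : act 3 n19144 = n23547 := d7_0 F46923 (iv F35656) D19144
theorem F46925 : act 5 n19139 = n23547 := d9_0 F46923 (iv F35657) (iv D13917) D13918 D19139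
def n23548 : Q := act 5 n19126
theorem D23548 : act 5 n19126 = n23548 := rfl
theorem F46926 : act 0 n23548 = n20680 := d4_1 D23548 (iv F46922) (iv D23546)
theorem F46927 : act 1 n23548 = n23504 := d9_1 D23548 F46805 (iv D19059) (iv F24402) D19126
theorem F46928 : act 2 n23548 = n19139 := d13_1 D23548 F46925 (iv D23547)
theorem F46929 : act 3 n23548 = n19129 := d16_1 D23548 (iv D19129) (iv F35636)
theorem F46930 : act 6 n23548 = n19952 := d22_1 D23548 (iv F43214) (iv F46921) (iv D23546)
theorem F46931 : act 1 n19258 = n20677 := d23_6 (iv D23548) D23547 F46923 (iv F35913) F35916 (iv F35914) (iv D20677) (iv F43969) F37775 (iv D14826) (iv F20265) F20267 F20266 (iv F25770) (iv F37889) (iv F37917) F37915 D20680 (iv F46926)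
theorem F46932 : act 3 n20677 = n19269 := d7_2 (iv F35915) F46931 (iv D19269)
theorem F46933 : act 0 n19269 = n20673 := d2_1 F46932 F39236 D20677
theorem F46934 : act 2 n20974 = n19269 := d21_6 (iv F43970) F37912 F36251 F34348 D15780 D20974 (iv F46932) (iv D20677)
theorem F46935 : act 2 n23370 = n21732 := d12_3 F42108 F46934 (iv F46517)
theorem F46936 : act 6 n21736 = n23370 := d14_0 F46935 F42109 D21736
theorem F46937 : act 1 n23369 = n21736 := d10_5 F46936 (iv D23370) (iv D18929) D18928 D23369
def n23549 : Q := act 1 n19127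
theorem D23549 : act 1 n19127 = n23549 := rfl
def n23550 : Q := act 5 n19127
theorem D23550 : act 5 n19127 = n23550 := rfl
theorem F46938 : act 0 n23550 = n19129 := d4_1 D23550 (iv D19129) D19127
theorem F46939 : act 2 n23550 = n19961 := d13_1 D23550 (iv F44036) (iv F44047)
theorem F46940 : act 3 n23550 = n20680 := d16_1 D23550 (iv F46922) F46920
theorem F46941 : act 6 n23550 = n23543 := d22_1 D23550 (iv D23543) F35628 D19127
theorem F46942 : act 1 n20674 = n23550 := d24_14 F46941 (iv D23543) (iv D19123) (iv D13909) D13908 F29163 (iv F25694) (iv D14744) (iv F22337) (iv D12744) D12743 (iv F33244) D19165 (iv F39240)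
def n23551 : Q := act 5 n19128
theorem D23551 : act 5 n19128 = n23551 := rfl
theorem F46943 : act 0 n23551 = n19961 := d4_1 D23551 (iv F44036) F44046
theorem F46944 : act 2 n23551 = n19129 := d13_1 D23551 (iv D19129) D19128
theorem F46945 : act 3 n23551 = n19962 := d16_1 D23551 (iv F44044) (iv F44045)
def n23552 : Q := act 6 n19129
theorem D23552 : act 6 n19129 = n23552 := rfl
theorem F46946 : act 0 n23552 = n23543 := d5_1 D23552 (iv F46941) F46938
theorem F46947 : act 1 n23552 = n19955 := d10_1 D23552 (iv F39051) F46817 (iv D23509) (iv F35638)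
theorem F46948 : act 3 n23552 = n19952 := d17_1 D23552 (iv F46930) F46929
theorem F46949 : act 5 n23552 = n23541 := d20_1 D23552 F46915 D23550 F46941 (iv D23543) F35628 D19129
def n23553 : Q := act 5 n19131
theorem D23553 : act 5 n19131 = n23553 := rfl
theorem F46950 : act 0 n23553 = n19134 := d4_1 D23553 (iv D19134) (iv F35640)
theorem F46951 : act 2 n23553 = n19132 := d13_1 D23553 (iv D19132) D19131
theorem F46952 : act 3 n23553 = n19316 := d16_1 D23553 (iv F43438) F43439
theorem F46953 : act 6 n23553 = n20598 := d20_2 (iv F35641) D23553 F39094 F35620 D19134 (iv F44995) F44994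
theorem F46954 : act 1 n23553 = n20703 := d24_2 (iv F35641) D23553 (iv D20703) (iv F35925) (iv D19262) F24519 (iv D13921) (iv D10968) (iv D8205) (iv F12200) (iv F19098) D13504 (iv F23806) D18565
def n23554 : Q := act 4 n19133
theorem D23554 : act 4 n19133 = n23554 := rfl
def n23555 : Q := act 1 n19134
theorem D23555 : act 1 n19134 = n23555 := rfl
theorem F46955 : act 2 n23555 = n20994 := d6_2 (iv F35646) D23555 F40417 F35965 (iv F24403)
theorem F46956 : act 0 n23555 = n19245 := d23_3 D13915 (iv F35646) D23555 (iv F45692) (iv F45694) (iv F45696) F45695 (iv F44452) (iv D22631) F30532 F22522 F20965 (iv D11857) (iv F20944) (iv F27008) D20826 F39941 (iv D19130) (iv D13913)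
def n23556 : Q := act 0 n19135
theorem D23556 : act 0 n19135 = n23556 := rfl
theorem F46957 : act 4 n23556 = n19137 := d3_2 (iv F35647) D23556 (iv D19137)
theorem F46958 : act 6 n23556 = n19253 := d5_2 (iv F35648) D23556 (iv D19253)
def n23557 : Q := act 2 n19135
theorem D23557 : act 2 n19135 = n23557 := rfl
theorem F46959 : act 4 n23557 = n19138 := d12_2 (iv F35647) D23557 (iv D19138)
theorem F46960 : act 6 n23557 = n19254 := d14_2 (iv F35648) D23557 (iv D19254)
theorem F46961 : act 5 n19135 = n23557 := d22_0 F46960 (iv F35905) (iv F46958) (iv D23556)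
def n23558 : Q := act 1 n19136
theorem D23558 : act 1 n19136 = n23558 := rfl
theorem F46962 : act 4 n23558 = n19139 := d8_2 (iv F35651) D23558 (iv D19139)
theorem F46963 : act 6 n23558 = n19733 := d10_2 (iv F35652) D23558 (iv D19733) (iv D14502) D14500
def n23559 : Q := act 0 n19139
theorem D23559 : act 0 n19139 = n23559 := rfl
theorem F46964 : act 1 n23559 = n22165 := d0_2 D19139 D23559 F43190 F29765 (iv F29813) D22214 F46811 (iv D19059) (iv F24407)
theorem F46965 : act 2 n23559 = n20680 := d1_2 F46928 D23559 (iv F46926)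
theorem F46966 : act 3 n23559 = n19145 := d2_2 (iv F35658) D23559 (iv D19145)
theorem F46967 : act 6 n23559 = n19951 := d5_2 (iv F35659) D23559 (iv D19951)
def n23560 : Q := act 0 n19140
theorem D23560 : act 0 n19140 = n23560 := rfl
theorem F46968 : act 2 n23560 = n20750 := d1_2 F35661 D23560 F39377
theorem F46969 : act 3 n23560 = n20611 := d2_2 F39104 D23560 F39112
theorem F46970 : act 6 n23560 = n20749 := d5_2 (iv F35660) D23560 F39374
theorem F46971 : act 5 n23560 = n20600 := d22_0 (iv D20600) F35166 (iv F35660) D23560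
def n23561 : Q := act 5 n19140
theorem D23561 : act 5 n19140 = n23561 := rfl
theorem F46972 : act 0 n23561 = n20600 := d4_1 D23561 (iv F46971) (iv D23560)
theorem F46973 : act 2 n23561 = n20751 := d13_1 D23561 (iv D20751) F35661
theorem F46974 : act 3 n23561 = n20608 := d16_1 D23561 F39109 F39104
theorem F46975 : act 6 n23561 = n20599 := d20_2 (iv F35660) D23561 (iv F39375) (iv F46970) F46971 (iv D20600) F35166
def n23562 : Q := act 3 n19141
theorem D23562 : act 3 n19141 = n23562 := rfl
theorem F46976 : act 0 n23562 = n19142 := d2_1 D23562 (iv D19142) (iv F35662)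
theorem F46977 : act 1 n23562 = n22228 := d7_1 D23562 F43329 (iv F35663)
theorem F46978 : act 6 n23562 = n19260 := d17_2 (iv F35664) D23562 (iv D19260)
def n23563 : Q := act 2 n19142
theorem D23563 : act 2 n19142 = n23563 := rfl
theorem F46979 : act 1 n23563 = n19215 := d6_1 D23563 (iv D19215) (iv D13971) (iv F35462) (iv F35665)
theorem F46980 : act 6 n23563 = n19263 := d14_2 (iv F35666) D23563 (iv D19263)
theorem F46981 : act 3 n23563 = n19266 := d21_1 D23563 F35931 (iv F35915) F35914 F35653 D19141 D23562 F46976
theorem F46982 : act 5 n23562 = n23563 := d23_0 (iv D23563) F35665 F35461 F19490 (iv D8219) (iv D3924) F3034 F3033 F2643 F17167 F1452 D932 (iv F3035) D3924 D8218 (iv F19489) (iv F35462) (iv F35665) (iv F46976)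
def n23564 : Q := act 5 n19142
theorem D23564 : act 5 n19142 = n23564 := rfl
theorem F46983 : act 0 n23564 = n23563 := d4_1 D23564 (iv F46982) F46976
theorem F46984 : act 1 n23564 = n19231 := d9_1 D23564 (iv D19231) (iv D13983) (iv F35464) (iv F35665)
theorem F46985 : act 2 n23564 = n23562 := d13_1 D23564 F46982 (iv D23563)
theorem F46986 : act 3 n23564 = n19143 := d16_1 D23564 (iv D19143) D19142
def n23565 : Q := act 1 n19143
theorem D23565 : act 1 n19143 = n23565 := rfl
theorem F46987 : act 3 n23565 = n19231 := d7_2 F46986 D23565 (iv F46984)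
theorem F46988 : act 5 n23565 = n19153 := d9_2 D19143 D23565 (iv D19153) (iv D13926) (iv F24412)
def n23566 : Q := act 0 n19144
theorem D23566 : act 0 n19144 = n23566 := rfl
theorem F46989 : act 5 n23566 = n19145 := d4_2 (iv F35668) D23566 (iv D19145)
def n23567 : Q := act 2 n19144
theorem D23567 : act 2 n19144 = n23567 := rfl
theorem F46990 : act 5 n23567 = n19146 := d13_2 (iv F35668) D23567 (iv D19146)
theorem F46991 : act 3 n23567 = n22497 := d21_3 D23547 (iv F46924) D23567 (iv D22497) (iv F44035) (iv F44047) (iv F46920) (iv D23546)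
def n23568 : Q := act 6 n19144
theorem D23568 : act 6 n19144 = n23568 := rfl
def n23569 : Q := act 1 n19145
theorem D23569 : act 1 n19145 = n23569 := rfl
theorem F46992 : act 0 n23569 = n22169 := d0_1 D23569 F43194 (iv F43303) F46810 (iv D19060) (iv D13868) (iv F19464) D13922 D19145
theorem F46993 : act 3 n23569 = n22165 := d7_2 F46966 D23569 (iv F46964)
theorem F46994 : act 6 n22164 = n23569 := d17_0 F46993 (iv D22165) D22164
def n23570 : Q := act 2 n19145
theorem D23570 : act 2 n19145 = n23570 := rfl
theorem F46995 : act 0 n23570 = n19146 := d1_1 D23570 (iv D19146) D19145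
def n23571 : Q := act 6 n19145
theorem D23571 : act 6 n19145 = n23571 := rfl
theorem F46996 : act 0 n23571 = n19147 := d5_1 D23571 (iv D19147) D19145
theorem F46997 : act 3 n23571 = n19951 := d17_1 D23571 (iv F46967) F46966
theorem F46998 : act 5 n23571 = n23568 := d22_2 F46989 D23571 (iv D23568) D23566
def n23572 : Q := act 6 n19146
theorem D23572 : act 6 n19146 = n23572 := rfl
theorem F46999 : act 2 n23572 = n19147 := d14_1 D23572 (iv D19147) D19146
theorem F47000 : act 1 n19221 = n23572 := d6_5 F46999 F35670 (iv F31905) F35728 D19221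
def n23573 : Q := act 5 n19147
theorem D23573 : act 5 n19147 = n23573 := rfl
theorem F47001 : act 0 n23573 = n23568 := d4_1 D23573 (iv F46998) F46996
theorem F47002 : act 3 n23573 = n19953 := d16_1 D23573 (iv D19953) (iv F35671)
theorem F47003 : act 6 n23573 = n23566 := d20_2 D19147 D23573 F46989 D23571 F46998 (iv D23568) F35668
def n23574 : Q := act 2 n19148
theorem D23574 : act 2 n19148 = n23574 := rfl
theorem F47004 : act 0 n23574 = n19149 := d1_1 D23574 (iv D19149) D19148
theorem F47005 : act 5 n23574 = n22606 := d13_2 F35673 D23574 F44352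
def n23575 : Q := act 1 n19149
theorem D23575 : act 1 n19149 = n23575 := rfl
theorem F47006 : act 2 n23575 = n19152 := d6_2 D19149 D23575 (iv D19152) (iv D13924) D13923
theorem F47007 : act 5 n19320 = n23575 := d13_0 F47006 F35679 D19320
theorem F47008 : act 3 n19323 = n23575 := d21_1 (iv F36066) F47006 F35678 (iv D13968) (iv F24453) D19205 (iv F35805) (iv F24574)
def n23576 : Q := act 3 n19149
theorem D23576 : act 3 n19149 = n23576 := rfl
theorem F47009 : act 1 n23576 = n19323 := d7_1 D23576 F47008 (iv D23575)
def n23577 : Q := act 5 n19149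
theorem D23577 : act 5 n19149 = n23577 := rfl
theorem F47010 : act 0 n23577 = n22606 := d4_1 D23577 (iv F47005) F47004
theorem F47011 : act 2 n23577 = n19150 := d13_1 D23577 (iv D19150) D19149
theorem F47012 : act 6 n23523 = n23577 := d14_0 F47011 F35722 D23523
def n23578 : Q := act 6 n19149
theorem D23578 : act 6 n19149 = n23578 := rfl
theorem F47013 : act 2 n23578 = n19151 := d14_1 D23578 (iv D19151) D19149
theorem F47014 : act 5 n23578 = n22488 := d22_2 (iv D23577) D23578 (iv F44353) (iv F47010)
def n23579 : Q := act 0 n19152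
theorem D23579 : act 0 n19152 = n23579 := rfl
theorem F47015 : act 3 n23579 = n19208 := d2_2 (iv F35678) D23579 F35811
theorem F47016 : act 5 n23579 = n19317 := d4_2 (iv F35679) D23579 F36053
theorem F47017 : act 6 n23575 = n23579 := d22_3 F35679 F36061 F47007 (iv D23579)
theorem F47018 : act 1 n22241 = n23579 := d9_5 F47016 F36054 (iv D16940) (iv F29834) D22241
def n23580 : Q := act 6 n19152
theorem D23580 : act 6 n19152 = n23580 := rfl
theorem F47019 : act 0 n23580 = n23575 := d5_1 D23580 F47017 (iv D23579)
theorem F47020 : act 1 n23580 = n19169 := d10_1 D23580 (iv D19169) (iv D13935) (iv F24415) D19152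
theorem F47021 : act 2 n23580 = n23579 := d14_1 D23580 (iv F47017) F47006
theorem F47022 : act 3 n23580 = n19209 := d17_1 D23580 (iv D19209) (iv F35678)
def n23581 : Q := act 0 n19153
theorem D23581 : act 0 n19153 = n23581 := rfl
theorem F47023 : act 3 n23581 = n19230 := d2_2 (iv F35680) D23581 (iv D19230)
theorem F47024 : act 6 n23581 = n22537 := d5_2 (iv F35681) D23581 F44142
def n23582 : Q := act 2 n19153
theorem D23582 : act 2 n19153 = n23582 := rfl
theorem F47025 : act 1 n23582 = n19155 := d6_1 D23582 (iv D19155) (iv D13927) (iv F24417) D19153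
theorem F47026 : act 6 n23582 = n21972 := d14_2 (iv F35681) D23582 F42686
theorem F47027 : act 3 n23582 = n21974 := d21_1 D23582 F42690 (iv F39637) F30291 (iv F30309) (iv F35853) (iv F47023) (iv D23581)
def n23583 : Q := act 2 n19154
theorem D23583 : act 2 n19154 = n23583 := rfl
theorem F47028 : act 0 n23583 = n19155 := d1_1 D23583 (iv D19155) D19154
theorem F47029 : act 1 n23583 = n19224 := d6_1 D23583 F35836 F24469 (iv F35546) (iv F35691)
theorem F47030 : act 3 n23583 = n21983 := d11_2 F35856 D23583 F42707 F37738 F33408 F24686 F35479 F24485 D19155 F36231 F29472 (iv F37625) (iv F37629) F36222 F35957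
theorem F47031 : act 5 n23583 = n19158 := d13_2 (iv F35682) D23583 (iv D19158)
theorem F47032 : act 6 n23583 = n21982 := d14_2 F35697 D23583 (iv F42705)
def n23584 : Q := act 1 n19158
theorem D23584 : act 1 n19158 = n23584 := rfl
theorem F47033 : act 2 n23584 = n19213 := d6_2 D19158 D23584 F35817 (iv F35376) F35690
theorem F47034 : act 5 n23584 = n19212 := d9_2 F47031 D23584 F35816 D19224 (iv F47029)
def n23585 : Q := act 1 n19161
theorem D23585 : act 1 n19161 = n23585 := rfl
theorem F47035 : act 2 n23585 = n19218 := d6_2 (iv F35695) D23585 (iv F35827) F35516 (iv F24419)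
theorem F47036 : act 3 n23585 = n22027 := d7_2 F37750 D23585 F42820
theorem F47037 : act 6 n23585 = n19221 := d10_2 D19161 D23585 F47000 (iv D23572) F35669
theorem F47038 : act 0 n23585 = n19219 := d23_3 (iv D19162) (iv F35695) D23585 (iv F36886) (iv F36887) F35829 (iv D19026) D19028 F34124 (iv D18561) F28931 F26879 F26865 D15480 (iv F33284) (iv F39526) F39524 (iv F35684) (iv F35696)
theorem F47039 : act 5 n22026 = n23585 := d4_0 F47038 (iv F36886) (iv F42816)
def n23586 : Q := act 1 n19165
theorem D23586 : act 1 n19165 = n23586 := rfl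
theorem F47040 : act 3 n23586 = n20687 := d7_2 (iv F35704) D23586 (iv D20687)
theorem F47041 : act 5 n23586 = n23549 := d9_2 F39240 D23586 (iv D23549) D23550 (iv F46942)
theorem F47042 : act 6 n23586 = n22492 := d10_2 D19165 D23586 (iv D22492) (iv D17194) (iv F33244)
def n23587 : Q := act 1 n19167
theorem D23587 : act 1 n19167 = n23587 := rfl
theorem F47043 : act 0 n23587 = n19278 := d0_1 D23587 (iv D19278) (iv D14032) (iv D11021) F12244 (iv F12211) (iv F19469) D13935 D19167
theorem F47044 : act 2 n23587 = n19335 := d6_2 (iv F35714) D23587 (iv D19335) F24585 (iv F34131)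
def n23588 : Q := act 3 n19167
theorem D23588 : act 3 n19167 = n23588 := rfl
theorem F47045 : act 0 n23588 = n19168 := d2_1 D23588 (iv D19168) D19167
theorem F47046 : act 5 n23588 = n22478 := d16_2 (iv F35715) D23588 (iv D22478)
def n23589 : Q := act 2 n19168
theorem D23589 : act 2 n19168 = n23589 := rfl
theorem F47047 : act 1 n23589 = n19219 := d6_1 D23589 (iv D19219) (iv D13975) (iv F35452) (iv F35716)
theorem F47048 : act 5 n23589 = n22016 := d13_2 (iv F35717) D23589 F42796
theorem F47049 : act 3 n23589 = n22017 := d21_1 D23589 F42799 F39571 F30152 (iv F30170) (iv F35714) D23588 F47045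
def n23590 : Q := act 6 n19168
theorem D23590 : act 6 n19168 = n23590 := rfl
theorem F47050 : act 1 n23590 = n19209 := d10_1 D23590 (iv D19209) F24460 (iv F35455) (iv F35716)
theorem F47051 : act 3 n23590 = n19169 := d17_1 D23590 (iv D19169) D19168
def n23591 : Q := act 4 n19172
theorem D23591 : act 4 n19172 = n23591 := rfl
theorem F47052 : act 0 n23591 = n19179 := d3_1 D23591 (iv D19179) (iv F35729)
theorem F47053 : act 1 n23591 = n19298 := d8_1 D23591 (iv D19298) (iv F35730)
theorem F47054 : act 2 n23591 = n21088 := d12_1 D23591 F40697 (iv F35731)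
theorem F47055 : act 5 n23591 = n21090 := d18_2 F35732 D23591 F40705
theorem F47056 : act 6 n23591 = n20413 := d19_2 F35733 D23591 F38734
def n23592 : Q := act 5 n19179
theorem D23592 : act 5 n19179 = n23592 := rfl
theorem F47057 : act 0 n23592 = n21090 := d4_1 D23592 (iv F47055) F47052
theorem F47058 : act 2 n23592 = n21089 := d13_1 D23592 F40703 (iv F36612)
theorem F47059 : act 4 n23592 = n19180 := d18_1 D23592 (iv D19180) D19179
def n23593 : Q := act 2 n19181
theorem D23593 : act 2 n19181 = n23593 := rfl
theorem F47060 : act 1 n23593 = n19185 := d6_1 D23593 (iv D19185) (iv D13951) (iv F24435) D19181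
theorem F47061 : act 3 n20760 = n23593 := d7_0 F47060 (iv F39178) (iv F39403)
theorem F47062 : act 6 n20704 = n23593 := d10_0 F47060 F39174 (iv D20636) (iv F35145) D20704
def n23594 : Q := act 6 n19181
theorem D23594 : act 6 n19181 = n23594 := rfl
theorem F47063 : act 0 n23594 = n23593 := d5_1 D23594 (iv F47062) (iv F39398)
theorem F47064 : act 2 n23594 = n20704 := d14_1 D23594 F47062 (iv D23593)
theorem F47065 : act 3 n23594 = n22446 := d17_1 D23594 F43918 F39396
theorem F47066 : act 5 n23594 = n22440 := d22_2 F43906 D23594 F46888 D22439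
theorem F47067 : act 1 n20702 = n23594 := d6_5 F47064 (iv D20704) (iv D15367) D15366 D20702
theorem F47068 : act 0 n23025 = n20702 := d0_9 F47067 F47063 F47060 F35765 (iv D18605) F23824 D13579 D18613 D23025
theorem F47069 : act 2 n19981 = n23025 := d1_0 F47068 (iv D20702) (iv F37757)
def n23595 : Q := act 1 n19182
theorem D23595 : act 1 n19182 = n23595 := rfl
theorem F47070 : act 2 n23595 = n20703 := d6_2 (iv F35755) D23595 (iv F46954) F46951 (iv F35645)
theorem F47071 : act 3 n23595 = n20733 := d7_2 F39322 D23595 F39352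
theorem F47072 : act 5 n23595 = n20729 := d9_2 (iv F35756) D23595 (iv D20729) F26755 (iv F35739)
theorem F47073 : act 6 n23595 = n20702 := d10_2 D19182 D23595 F47067 (iv D23594) (iv D19181)
def n23596 : Q := act 1 n19183
theorem D23596 : act 1 n19183 = n23596 := rfl
theorem F47074 : act 3 n23596 = n22533 := d7_2 F42502 D23596 F44130
theorem F47075 : act 6 n23596 = n22531 := d10_2 (iv F35759) D23596 F44126 (iv D21938) F35737
def n23597 : Q := act 5 n19188
theorem D23597 : act 5 n19188 = n23597 := rfl
theorem F47076 : act 2 n23597 = n19304 := d13_1 D23597 (iv D19304) (iv F35775)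
theorem F47077 : act 4 n23597 = n19189 := d18_1 D23597 (iv D19189) D19188
def n23598 : Q := act 1 n19189
theorem D23598 : act 1 n19189 = n23598 := rfl
theorem F47078 : act 0 n23598 = n22388 := d0_1 D23598 (iv D22388) (iv D17082) (iv D12674) (iv F18126) D12705 D17138 F39397 F36792
theorem F47079 : act 3 n23598 = n19190 := d7_2 (iv F35777) D23598 (iv D19190)
theorem F47080 : act 5 n23598 = n19194 := d9_2 D19189 D23598 (iv D19194) (iv D13959) (iv F24441)
def n23599 : Q := act 6 n19189
theorem D23599 : act 6 n19189 = n23599 := rfl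
theorem F47081 : act 0 n23599 = n19866 := d5_1 D23599 F37504 F36792
theorem F47082 : act 2 n23599 = n19306 := d14_1 D23599 (iv D19306) (iv F35776)
theorem F47083 : act 3 n23599 = n19191 := d17_1 D23599 (iv D19191) (iv F35777)
theorem F47084 : act 5 n23599 = n19578 := d20_1 D23599 F36774 D19583 (iv F37504) (iv D19866) (iv F34566) D19189
def n23600 : Q := act 0 n19190
theorem D23600 : act 0 n19190 = n23600 := rfl
theorem F47085 : act 1 n23600 = n22386 := d0_2 D19190 D23600 (iv D22386) (iv D17081) (iv F22285) D17137 D22439 (iv F43907) F35748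
theorem F47086 : act 3 n23600 = n22388 := d2_2 F47079 D23600 (iv F47078)
theorem F47087 : act 5 n23600 = n19195 := d4_2 (iv F35778) D23600 (iv D19195)
def n23601 : Q := act 2 n19190
theorem D23601 : act 2 n19190 = n23601 := rfl
theorem F47088 : act 5 n23601 = n19196 := d13_2 (iv F35778) D23601 (iv D19196)
def n23602 : Q := act 6 n19190
theorem D23602 : act 6 n19190 = n23602 := rfl
def n23603 : Q := act 1 n19191
theorem D23603 : act 1 n19191 = n23603 := rfl
def n23604 : Q := act 1 n19192
theorem D23604 : act 1 n19192 = n23604 := rfl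
theorem F47089 : act 3 n23604 = n20018 := d7_2 F37503 D23604 F37823
theorem F47090 : act 5 n23604 = n20015 := d9_2 D19192 D23604 (iv D20015) F25740 (iv F34564)
theorem F47091 : act 6 n23604 = n23601 := d24_3 D13957 D19192 D23604 F47088 F35788 D19201 (iv F44971) (iv F45495) (iv D22979) F33111 (iv D13886) (iv F19481) (iv D10986) D10984
theorem F47092 : act 2 n23602 = n23604 := d14_3 F47091 (iv D23601) D23602
def n23605 : Q := act 1 n19193
theorem D23605 : act 1 n19193 = n23605 := rfl
theorem F47093 : act 4 n23605 = n19194 := d8_2 (iv F35785) D23605 (iv D19194)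
def n23606 : Q := act 0 n19194
theorem D23606 : act 0 n19194 = n23606 := rfl
theorem F47094 : act 3 n23606 = n19195 := d2_2 (iv F35787) D23606 (iv D19195)
theorem F47095 : act 5 n23606 = n22388 := d4_2 F47080 D23606 (iv F47078)
theorem F47096 : act 6 n20731 = n23606 := d24_0 F47095 (iv D22388) (iv F43677) (iv F43782) (iv F43783) F39016 F37513 D20553 (iv F45643) F45642 (iv F35045) (iv D15404) (iv F26759) D20731
def n23607 : Q := act 2 n19194
theorem D23607 : act 2 n19194 = n23607 := rfl
theorem F47097 : act 1 n23607 = n19205 := d6_1 D23607 (iv D19205) (iv D13965) (iv F24448) D19194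
theorem F47098 : act 3 n19210 = n23607 := d7_0 F47097 (iv F35805) D19210
theorem F47099 : act 6 n19206 = n23607 := d10_0 F47097 (iv F35806) (iv D13965) D13966 D19206
def n23608 : Q := act 6 n19194
theorem D23608 : act 6 n19194 = n23608 := rfl
theorem F47100 : act 0 n23608 = n20731 := d5_1 D23608 F47096 (iv D23606)
theorem F47101 : act 1 n23608 = n23518 := d10_1 D23608 (iv F46836) (iv D19083) (iv F24450) D19194
theorem F47102 : act 2 n23608 = n19206 := d14_1 D23608 F47099 (iv D23607)
theorem F47103 : act 3 n23608 = n19197 := d17_1 D23608 (iv D19197) (iv F35787)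
theorem F47104 : act 5 n23608 = n20007 := d22_2 F47080 D23608 F43785 (iv F47078)
def n23609 : Q := act 1 n19195
theorem D23609 : act 1 n19195 = n23609 := rfl
def n23610 : Q := act 6 n19195
theorem D23610 : act 6 n19195 = n23610 := rfl
theorem F47105 : act 0 n23610 = n19197 := d5_1 D23610 (iv D19197) D19195
theorem F47106 : act 2 n23610 = n20015 := d14_1 D23610 (iv F44171) (iv F44180)
theorem F47107 : act 3 n23610 = n20731 := d17_1 D23610 F47096 F47094
theorem F47108 : act 5 n23610 = n23602 := d22_2 F47087 D23610 (iv D23602) D23600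
theorem F47109 : act 1 n23610 = n20727 := d24_2 D23602 (iv F47108) (iv F39345) (iv D19228) F35038 (iv D12789) D12788 F22385 D14793 F25740 (iv F34564) (iv D13957) D13956 D19190
def n23611 : Q := act 6 n19196
theorem D23611 : act 6 n19196 = n23611 := rfl
theorem F47110 : act 0 n23611 = n20015 := d5_1 D23611 (iv F44171) F44179
theorem F47111 : act 2 n23611 = n19197 := d14_1 D23611 (iv D19197) D19196
theorem F47112 : act 3 n23611 = n20016 := d17_1 D23611 (iv F44177) (iv F44178)
def n23612 : Q := act 5 n19197
theorem D23612 : act 5 n19197 = n23612 := rfl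
theorem F47113 : act 0 n23612 = n23602 := d4_1 D23612 (iv F47108) F47105
theorem F47114 : act 1 n23612 = n20009 := d9_1 D23612 (iv F39129) F46845 (iv D23522) (iv F35789)
theorem F47115 : act 3 n23612 = n20007 := d16_1 D23612 (iv F47104) F47103
theorem F47116 : act 6 n23612 = n23600 := d20_2 D19197 D23612 F47087 D23610 F47108 (iv D23602) F35778
def n23613 : Q := act 4 n19200
theorem D23613 : act 4 n19200 = n23613 := rfl
def n23614 : Q := act 1 n19201
theorem D23614 : act 1 n19201 = n23614 := rfl
theorem F47117 : act 2 n23614 = n20910 := d6_2 (iv F35795) D23614 F40189 F36110 (iv F24451)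
theorem F47118 : act 0 n19301 = n23614 := d21_8 F47117 (iv D20910) F37577 F25666 (iv F25756) (iv F37880) (iv F39581) F39305
def n23615 : Q := act 0 n19202
theorem D23615 : act 0 n19202 = n23615 := rfl
theorem F47119 : act 4 n23615 = n19204 := d3_2 (iv F35796) D23615 (iv D19204)
theorem F47120 : act 5 n23615 = n19310 := d4_2 (iv F35797) D23615 (iv D19310)
def n23616 : Q := act 2 n19202
theorem D23616 : act 2 n19202 = n23616 := rfl
theorem F47121 : act 4 n23616 = n19205 := d12_2 (iv F35796) D23616 (iv D19205)
theorem F47122 : act 5 n23616 = n19311 := d13_2 (iv F35797) D23616 (iv D19311)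
theorem F47123 : act 6 n19202 = n23616 := d22_1 (iv F35797) F47122 (iv F36039) (iv D19310)
def n23617 : Q := act 1 n19203
theorem D23617 : act 1 n19203 = n23617 := rfl
theorem F47124 : act 4 n23617 = n19206 := d8_2 (iv F35800) D23617 (iv D19206)
theorem F47125 : act 5 n23617 = n19771 := d9_2 (iv F35801) D23617 (iv D19771) (iv D14524) D14522
def n23618 : Q := act 0 n19206
theorem D23618 : act 0 n19206 = n23618 := rfl
theorem F47126 : act 1 n23618 = n22372 := d0_2 D19206 D23618 F43746 F30024 (iv F30070) D22414 F43853 (iv D19083) (iv F24455)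
theorem F47127 : act 2 n23618 = n20731 := d1_2 F47102 D23618 (iv F47100)
theorem F47128 : act 3 n23618 = n19211 := d2_2 (iv F35807) D23618 (iv D19211)
theorem F47129 : act 5 n23618 = n20006 := d4_2 (iv F35808) D23618 (iv D20006)
def n23619 : Q := act 0 n19207
theorem D23619 : act 0 n19207 = n23619 := rfl
theorem F47130 : act 2 n23619 = n20696 := d1_2 F35810 D23619 F39269
theorem F47131 : act 3 n23619 = n20649 := d2_2 F39183 D23619 F39189
theorem F47132 : act 5 n23619 = n20695 := d4_2 (iv F35809) D23619 F39266
theorem F47133 : act 6 n20638 = n23619 := d22_3 F35809 (iv F35139) D20638 (iv D23619)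
def n23620 : Q := act 6 n19207
theorem D23620 : act 6 n19207 = n23620 := rfl
theorem F47134 : act 0 n23620 = n20638 := d5_1 D23620 F47133 (iv D23619)
theorem F47135 : act 2 n23620 = n20697 := d14_1 D23620 (iv D20697) F35810
theorem F47136 : act 3 n23620 = n20646 := d17_1 D23620 F39186 F39183
theorem F47137 : act 5 n23620 = n20637 := d20_1 D23620 (iv F39267) (iv F47132) (iv F47133) (iv D20638) F35139 (iv F35809)
def n23621 : Q := act 0 n19210
theorem D23621 : act 0 n19210 = n23621 := rfl
theorem F47138 : act 6 n23621 = n19211 := d5_2 (iv F35815) D23621 (iv D19211)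
def n23622 : Q := act 2 n19210
theorem D23622 : act 2 n19210 = n23622 := rfl
theorem F47139 : act 6 n23622 = n19212 := d14_2 (iv F35815) D23622 (iv D19212)
theorem F47140 : act 3 n23622 = n22554 := d21_3 D23607 (iv F47098) D23622 (iv D22554) (iv F44170) (iv F44180) (iv F47094) (iv D23606)
def n23623 : Q := act 5 n19210
theorem D23623 : act 5 n19210 = n23623 := rfl
def n23624 : Q := act 1 n19211
theorem D23624 : act 1 n19211 = n23624 := rfl
theorem F47141 : act 0 n23624 = n22375 := d0_1 D23624 F43748 (iv F43850) F43855 (iv D19084) (iv D13886) (iv F19485) D13970 D19211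
theorem F47142 : act 3 n23624 = n22372 := d7_2 F47128 D23624 (iv F47126)
theorem F47143 : act 5 n22371 = n23624 := d16_0 F47142 (iv D22372) D22371
def n23625 : Q := act 2 n19211
theorem D23625 : act 2 n19211 = n23625 := rfl
theorem F47144 : act 0 n23625 = n19212 := d1_1 D23625 (iv D19212) D19211
def n23626 : Q := act 5 n19211
theorem D23626 : act 5 n19211 = n23626 := rfl
theorem F47145 : act 0 n23626 = n19213 := d4_1 D23626 (iv D19213) D19211
theorem F47146 : act 3 n23626 = n20006 := d16_1 D23626 (iv F47129) F47128
theorem F47147 : act 6 n23626 = n23623 := d22_1 D23626 (iv D23623) F35815 D19211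
def n23627 : Q := act 6 n19213
theorem D23627 : act 6 n19213 = n23627 := rfl
theorem F47148 : act 0 n23627 = n23623 := d5_1 D23627 (iv F47147) F47145
theorem F47149 : act 3 n23627 = n20008 := d17_1 D23627 (iv D20008) (iv F35818)
theorem F47150 : act 5 n23627 = n23621 := d20_1 D23627 F47138 D23626 F47147 (iv D23623) F35815 D19213
def n23628 : Q := act 2 n19214
theorem D23628 : act 2 n19214 = n23628 := rfl
theorem F47151 : act 0 n23628 = n19215 := d1_1 D23628 (iv D19215) D19214
theorem F47152 : act 6 n23628 = n22646 := d14_2 F35820 D23628 F44503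
def n23629 : Q := act 3 n19215
theorem D23629 : act 3 n19215 = n23629 := rfl
theorem F47153 : act 1 n23629 = n19266 := d7_1 D23629 (iv F46981) F46979
def n23630 : Q := act 5 n19215
theorem D23630 : act 5 n19215 = n23630 := rfl
theorem F47154 : act 2 n23630 = n19216 := d13_1 D23630 (iv D19216) D19215
theorem F47155 : act 6 n23630 = n22547 := d22_1 D23630 (iv F44504) (iv F47152) F47151
def n23631 : Q := act 6 n19215
theorem D23631 : act 6 n19215 = n23631 := rfl
theorem F47156 : act 0 n23631 = n22646 := d5_1 D23631 (iv F47152) F47151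
theorem F47157 : act 2 n23631 = n19217 := d14_1 D23631 (iv D19217) D19215
theorem F47158 : act 5 n23510 = n23631 := d22_0 (iv D23631) D23630 F47155 (iv F46818)
def n23632 : Q := act 1 n19228
theorem D23632 : act 1 n19228 = n23632 := rfl
theorem F47159 : act 3 n23632 = n20741 := d7_2 (iv F35848) D23632 (iv D20741)
theorem F47160 : act 5 n23632 = n22552 := d9_2 D19228 D23632 (iv D22552) (iv D17287) (iv F35038)
theorem F47161 : act 6 n23632 = n23609 := d10_2 (iv F39345) D23632 (iv D23609) D23610 F47109
def n23633 : Q := act 1 n19230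
theorem D23633 : act 1 n19230 = n23633 := rfl
theorem F47162 : act 0 n23633 = n19335 := d0_1 D23633 (iv D19335) (iv D14079) (iv D11044) F12270 (iv F12223) (iv F19493) D13983 D19230
theorem F47163 : act 2 n23633 = n19278 := d6_2 (iv F35853) D23633 (iv D19278) (iv F24576) F35048
def n23634 : Q := act 1 n19235
theorem D23634 : act 1 n19235 = n23634 := rfl
theorem F47164 : act 2 n23634 = n22410 := d6_2 (iv F35865) D23634 F43846 (iv F39611) (iv D19242)
theorem F47165 : act 3 n23634 = n22129 := d7_2 F42654 D23634 F43077
theorem F47166 : act 4 n23634 = n21540 := d8_2 F41098 D23634 F41699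
theorem F47167 : act 6 n23634 = n21535 := d10_2 D19235 D23634 (iv D21535) F28208 (iv F27828)
theorem F47168 : act 0 n22529 = n23634 := d1_3 F47164 F43845 D22529
def n23635 : Q := act 6 n19236
theorem D23635 : act 6 n19236 = n23635 := rfl
theorem F47169 : act 2 n23635 = n19238 := d14_1 D23635 (iv D19238) D19236
theorem F47170 : act 3 n23635 = n22083 := d17_1 D23635 F42957 F42919
theorem F47171 : act 4 n23635 = n21036 := d19_1 D23635 (iv D21036) (iv F35867)
theorem F47172 : act 5 n23635 = n22079 := d22_2 F35868 D23635 (iv D22079) F29640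
def n23636 : Q := act 6 n19237
theorem D23636 : act 6 n19237 = n23636 := rfl
theorem F47173 : act 2 n23636 = n21035 := d14_1 D23636 (iv D21035) (iv F35870)
theorem F47174 : act 3 n23636 = n19239 := d17_1 D23636 (iv D19239) (iv F35871)
theorem F47175 : act 4 n23636 = n21034 := d19_1 D23636 (iv D21034) (iv F35872)
theorem F47176 : act 5 n23636 = n21960 := d22_2 D19237 D23636 (iv D21960) F29428
def n23637 : Q := act 5 n19238
theorem D23637 : act 5 n19238 = n23637 := rfl
theorem F47177 : act 0 n23637 = n23636 := d4_1 D23637 F47176 F42653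
theorem F47178 : act 2 n23637 = n22079 := d13_1 D23637 (iv F47172) F47169
theorem F47179 : act 3 n23637 = n19240 := d16_1 D23637 (iv D19240) (iv F35874)
theorem F47180 : act 4 n23637 = n21961 := d18_1 D23637 F42659 F42642
theorem F47181 : act 6 n23637 = n21959 := d20_2 D19238 D23637 (iv D21959) D21960 (iv F47176) (iv D23636) (iv D19237)
def n23638 : Q := act 1 n19239
theorem D23638 : act 1 n19239 = n23638 := rfl
theorem F47182 : act 6 n23638 = n23638 := d10_2 D19239 D23638 (iv D23638) (iv D19239) F24489
def n23639 : Q := act 1 n19240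
theorem D23639 : act 1 n19240 = n23639 := rfl
theorem F47183 : act 5 n23639 = n22844 := d9_2 D19240 D23639 (iv D22844) (iv D18337) (iv F24491)
def n23640 : Q := act 0 n19244
theorem D23640 : act 0 n19244 = n23640 := rfl
theorem F47184 : act 3 n23640 = n22046 := d2_2 (iv F35887) D23640 (iv D22046)
theorem F47185 : act 6 n23640 = n22050 := d5_2 (iv F35888) D23640 (iv D22050)
def n23641 : Q := act 2 n19244
theorem D23641 : act 2 n19244 = n23641 := rfl
theorem F47186 : act 6 n23641 = n22051 := d14_2 (iv F35888) D23641 (iv D22051)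
def n23642 : Q := act 5 n19244
theorem D23642 : act 5 n19244 = n23642 := rfl
theorem F47187 : act 1 n23642 = n22409 := d9_1 D23642 F43843 (iv D19242) (iv F24503) D19244
theorem F47188 : act 3 n23642 = n22048 := d16_1 D23642 (iv D22048) (iv F35887)
def n23643 : Q := act 2 n19245
theorem D23643 : act 2 n19245 = n23643 := rfl
theorem F47189 : act 0 n23643 = n20994 := d1_1 D23643 (iv F46955) F46956
theorem F47190 : act 5 n23643 = n19914 := d13_2 F45692 D23643 F45694
theorem F47191 : act 3 n23643 = n19915 := d21_3 F43965 F39199 D23643 F37623 F25631 (iv F25698) (iv F37737) (iv F37782)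
def n23644 : Q := act 6 n19246
theorem D23644 : act 6 n19246 = n23644 := rfl
theorem F47192 : act 3 n23644 = n19247 := d17_1 D23644 (iv D19247) D19246
theorem F47193 : act 4 n23644 = n19248 := d19_1 D23644 (iv D19248) (iv F35890)
theorem F47194 : act 5 n23644 = n19540 := d22_2 F35891 D23644 (iv D19540) (iv F29164)
theorem F47195 : act 1 n19785 = n23644 := d8_3 F47193 (iv F37682) (iv F37306)
def n23645 : Q := act 1 n19247
theorem D23645 : act 1 n19247 = n23645 := rfl
theorem F47196 : act 3 n23645 = n19785 := d7_2 F47192 D23645 F47195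
theorem F47197 : act 4 n23645 = n19249 := d8_2 (iv F35892) D23645 (iv D19249)
theorem F47198 : act 6 n23645 = n19252 := d10_2 D19247 D23645 (iv D19252) (iv D14011) (iv F24506)
theorem F47199 : act 5 n19753 = n23645 := d24_1 D19753 (iv D23645) (iv D19247) F35891 F35889 D19251 (iv F36994) (iv F37221) (iv D19749) (iv F37217) (iv D19746) (iv F25344) (iv D14514) D14512
theorem F47200 : act 0 n23645 = n19720 := d4_1 F47199 (iv F45741) (iv F45743)
def n23646 : Q := act 5 n19247
theorem D23646 : act 5 n19247 = n23646 := rfl
theorem F47201 : act 0 n23646 = n23644 := d4_1 D23646 F47194 F36663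
theorem F47202 : act 3 n23646 = n19540 := d16_1 D23646 (iv F47194) F47192
theorem F47203 : act 4 n23646 = n19250 := d18_1 D23646 (iv D19250) (iv F35892)
theorem F47204 : act 6 n23646 = n19537 := d20_2 D19247 D23646 F36654 D19540 (iv F47194) (iv D23644) (iv F35891)
def n23647 : Q := act 1 n19251
theorem D23647 : act 1 n19251 = n23647 := rfl
theorem F47205 : act 3 n23647 = n19252 := d7_2 (iv F35899) D23647 (iv D19252)
theorem F47206 : act 4 n23647 = n20029 := d8_2 (iv F35900) D23647 (iv F37836)
theorem F47207 : act 6 n23647 = n19785 := d10_2 D19251 D23647 F47195 (iv D23644) F35889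
theorem F47208 : act 0 n19784 = n23647 := d5_3 F47207 (iv D19785) (iv F37305)
def n23648 : Q := act 3 n19254
theorem D23648 : act 3 n19254 = n23648 := rfl
theorem F47209 : act 0 n23648 = n23348 := d2_1 D23648 F46474 F35906
theorem F47210 : act 4 n23648 = n23352 := d15_2 (iv F35904) D23648 F46485 F33891 (iv F29213)
theorem F47211 : act 5 n23648 = n23346 := d16_2 F35905 D23648 F46471
def n23649 : Q := act 1 n19255
theorem D23649 : act 1 n19255 = n23649 := rfl
theorem F47212 : act 2 n23649 = n20362 := d6_2 (iv F35907) D23649 (iv D20362) (iv F26317) (iv F35902)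
theorem F47213 : act 4 n23649 = n19257 := d8_2 (iv F35908) D23649 (iv D19257)
theorem F47214 : act 5 n23649 = n19256 := d9_2 D19255 D23649 (iv D19256) (iv D14014) D14013
def n23650 : Q := act 6 n19255
theorem D23650 : act 6 n19255 = n23650 := rfl
theorem F47215 : act 0 n23650 = n23557 := d5_1 D23650 F46960 (iv F35906)
theorem F47216 : act 2 n23650 = n23556 := d14_1 D23650 F46958 (iv F35907)
theorem F47217 : act 4 n23650 = n19258 := d19_1 D23650 (iv D19258) (iv F35908)
theorem F47218 : act 5 n23650 = n23556 := d20_1 D23650 F46958 F35905 (iv F46960) (iv F46961) F35648 D19255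
def n23651 : Q := act 2 n19256
theorem D23651 : act 2 n19256 = n23651 := rfl
theorem F47219 : act 1 n23651 = n20438 := d6_1 D23651 F45734 (iv D23052) F33395 D19256
theorem F47220 : act 4 n23651 = n19259 := d12_2 (iv F35909) D23651 (iv D19259)
theorem F47221 : act 5 n23651 = n20362 := d13_2 F47214 D23651 (iv F47212)
def n23652 : Q := act 6 n19257
theorem D23652 : act 6 n19257 = n23652 := rfl
theorem F47222 : act 0 n23652 = n22056 := d5_1 D23652 (iv F43996) F43993
theorem F47223 : act 1 n23652 = n22454 := d10_1 D23652 F43944 (iv F46931) (iv D19258) D19257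
theorem F47224 : act 2 n23652 = n20640 := d14_1 D23652 (iv D20640) (iv F35910)
theorem F47225 : act 3 n23652 = n19268 := d17_1 D23652 (iv D19268) (iv F35911)
theorem F47226 : act 5 n23652 = n22054 := d20_1 D23652 F42879 (iv F43995) F43996 (iv D22056) F29612 (iv F35912)
def n23653 : Q := act 2 n19260
theorem D23653 : act 2 n19260 = n23653 := rfl
theorem F47227 : act 0 n23653 = n19263 := d1_1 D23653 (iv D19263) (iv F35919)
theorem F47228 : act 1 n23653 = n22166 := d6_1 D23653 (iv D22166) F29764 D16878 (iv F35920)
theorem F47229 : act 3 n23653 = n19261 := d11_2 D19260 D23653 F35922 (iv F29213) (iv D14016) F19514 D11016 D14022 D19263 F35926 F24521 (iv F24515) (iv F29210) F24514 D14020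
theorem F47230 : act 6 n23653 = n23564 := d14_2 F46978 D23653 F46985
theorem F47231 : act 5 n19260 = n23653 := d20_7 F47230 (iv D23564) F35666 F35927 (iv F46980) (iv F46982) F46978
def n23654 : Q := act 4 n19260
theorem D23654 : act 4 n19260 = n23654 := rfl
theorem F47232 : act 0 n23654 = n19264 := d3_1 D23654 (iv D19264) (iv F35919)
theorem F47233 : act 1 n23654 = n22171 := d8_1 D23654 (iv D22171) (iv F35920)
def n23655 : Q := act 1 n19261
theorem D23655 : act 1 n19261 = n23655 := rfl
theorem F47234 : act 3 n23655 = n22166 := d7_2 F47229 D23655 (iv F47228)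
theorem F47235 : act 5 n23655 = n22437 := d9_2 D19261 D23655 (iv D22437) (iv D17135) (iv F35163)
def n23656 : Q := act 0 n19262
theorem D23656 : act 0 n19262 = n23656 := rfl
theorem F47236 : act 3 n23656 = n19982 := d2_2 (iv F35924) D23656 F37758
theorem F47237 : act 5 n23656 = n19981 := d4_2 (iv F35925) D23656 F37757
theorem F47238 : act 1 n23500 = n23656 := d7_3 F47236 (iv F39142) (iv F46798)
def n23657 : Q := act 2 n19262
theorem D23657 : act 2 n19262 = n23657 := rfl
theorem F47239 : act 5 n23657 = n20702 := d13_2 (iv F35925) D23657 (iv D20702)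
def n23658 : Q := act 6 n19262
theorem D23658 : act 6 n19262 = n23658 := rfl
theorem F47240 : act 1 n23658 = n23568 := d10_1 D23658 (iv D23568) (iv D19144) (iv F24519) D19262
theorem F47241 : act 3 n23658 = n20706 := d17_1 D23658 (iv D20706) (iv F35924)
def n23659 : Q := act 1 n19263
theorem D23659 : act 1 n19263 = n23659 := rfl
theorem F47242 : act 2 n23659 = n19276 := d6_2 D19263 D23659 (iv D19276) (iv D14030) (iv F24520)
theorem F47243 : act 3 n23659 = n19265 := d7_2 (iv F35926) D23659 (iv D19265)
theorem F47244 : act 5 n23659 = n19273 := d9_2 F35927 D23659 F35938 F24527 (iv F24520)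
def n23660 : Q := act 4 n19263
theorem D23660 : act 4 n19263 = n23660 := rfl
theorem F47245 : act 2 n23660 = n19264 := d12_1 D23660 (iv D19264) D19263
theorem F47246 : act 5 n23660 = n19264 := d18_2 F35927 D23660 (iv D19264)
def n23661 : Q := act 0 n19265
theorem D23661 : act 0 n19265 = n23661 := rfl
theorem F47247 : act 5 n23661 = n19272 := d4_2 (iv F35929) D23661 (iv D19272)
theorem F47248 : act 1 n23513 = n23661 := d23_2 F35530 (iv F46827) (iv D23661) F35929 (iv F24579) (iv D14075) F19544 F12266 (iv D3943) (iv D1892) F1645 F1643 (iv F2643) D3308 D6867 D10678 F18960 D13368 D18282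
def n23662 : Q := act 6 n19265
theorem D23662 : act 6 n19265 = n23662 := rfl
def n23663 : Q := act 1 n19268
theorem D23663 : act 1 n19268 = n23663 := rfl
theorem F47249 : act 3 n23663 = n22454 := d7_2 F47225 D23663 (iv F47223)
theorem F47250 : act 4 n23663 = n21736 := d8_2 F46516 D23663 (iv F46937)
theorem F47251 : act 6 n23663 = n19269 := d10_2 D19268 D23663 (iv D19269) (iv D14025) D14024
theorem F47252 : act 0 n22453 = n23663 := d5_3 F47251 F46933 (iv F43943)
theorem F47253 : act 2 n21737 = n23663 := d14_3 F47251 (iv F46934) (iv F42119)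
def n23664 : Q := act 5 n19269
theorem D23664 : act 5 n19269 = n23664 := rfl
theorem F47254 : act 1 n23664 = n23561 := d9_1 D23664 (iv D23561) (iv D19140) (iv F24524) D19269
def n23665 : Q := act 1 n19270
theorem D23665 : act 1 n19270 = n23665 := rfl
theorem F47255 : act 3 n23665 = n22498 := d7_2 F42878 D23665 F44051
theorem F47256 : act 6 n23665 = n22493 := d10_2 D19270 D23665 (iv D22493) F30183 F34131
theorem F47257 : act 0 n23542 = n23665 := d5_3 F47256 F44046 (iv F46916)
theorem F47258 : act 2 n23541 = n23665 := d14_3 F47256 (iv F44047) (iv F46915)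
def n23666 : Q := act 1 n19271
theorem D23666 : act 1 n19271 = n23666 := rfl
theorem F47259 : act 3 n23666 = n20582 := d7_2 F42886 D23666 (iv F42885)
theorem F47260 : act 5 n23666 = n20581 := d9_2 D19271 D23666 (iv D20581) (iv F29033) (iv F24525)
def n23667 : Q := act 3 n19272
theorem D23667 : act 3 n19272 = n23667 := rfl
theorem F47261 : act 0 n23667 = n19273 := d2_1 D23667 (iv D19273) D19272
theorem F47262 : act 1 n23667 = n22172 := d7_1 D23667 F45586 (iv F45585)
def n23668 : Q := act 6 n19272
theorem D23668 : act 6 n19272 = n23668 := rfl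
theorem F47263 : act 0 n23668 = n19274 := d5_1 D23668 (iv D19274) D19272
theorem F47264 : act 5 n23668 = n23662 := d22_2 F47247 D23668 (iv D23662) D23661
def n23669 : Q := act 4 n19273
theorem D23669 : act 4 n19273 = n23669 := rfl
theorem F47265 : act 1 n23669 = n19275 := d8_1 D23669 (iv D19275) (iv F35938)
def n23670 : Q := act 5 n19274
theorem D23670 : act 5 n19274 = n23670 := rfl
theorem F47266 : act 0 n23670 = n23662 := d4_1 D23670 (iv F47264) F47263
theorem F47267 : act 6 n23670 = n23661 := d20_2 D19274 D23670 F47247 D23668 F47264 (iv D23662) F35929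
def n23671 : Q := act 0 n19276
theorem D23671 : act 0 n19276 = n23671 := rfl
theorem F47268 : act 3 n23671 = n22360 := d2_2 (iv F35943) D23671 F43699
theorem F47269 : act 6 n23527 = n23671 := d22_3 (iv F46860) (iv D23528) D23527 (iv D23671)
theorem F47270 : act 1 n21737 = n23671 := d7_3 F47268 F43700 (iv F42118)
theorem F47271 : act 4 n21708 = n23671 := d15_0 F47268 (iv D22360) (iv D17064) (iv F28420) D21708
def n23672 : Q := act 4 n19276
theorem D23672 : act 4 n19276 = n23672 := rfl
theorem F47272 : act 0 n23672 = n21708 := d3_1 D23672 F47271 (iv D23671)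
theorem F47273 : act 1 n23672 = n19277 := d8_1 D23672 (iv D19277) D19276
theorem F47274 : act 3 n23672 = n21706 := d15_1 D23672 F42057 F39674 D17310 (iv F35943)
def n23673 : Q := act 6 n19276
theorem D23673 : act 6 n19276 = n23673 := rfl
theorem F47275 : act 0 n23673 = n23527 := d5_1 D23673 F47269 (iv D23671)
theorem F47276 : act 1 n23673 = n19290 := d10_1 D23673 (iv D19290) (iv D14037) (iv F24529) D19276
theorem F47277 : act 3 n23673 = n20811 := d17_1 D23673 (iv F39890) (iv F35943)
theorem F47278 : act 5 n23673 = n20810 := d24_1 D23673 F39887 F26933 F22763 D17652 (iv F44626) (iv F44627) F31765 (iv F31922) (iv F35980) F24691 (iv F24677) F24676 D19276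
def n23674 : Q := act 3 n19278
theorem D23674 : act 3 n19278 = n23674 := rfl
theorem F47279 : act 1 n23674 = n19279 := d7_1 D23674 (iv D19279) D19278
theorem F47280 : act 2 n21661 = n23674 := d6_0 F47279 (iv F45032) F45031 (iv F35349) D21661
theorem F47281 : act 4 n23674 = n21663 := d12_2 (iv F41961) F47280 (iv D21663)
def n23675 : Q := act 5 n19278
theorem D23675 : act 5 n19278 = n23675 := rfl
def n23676 : Q := act 6 n19278
theorem D23676 : act 6 n19278 = n23676 := rfl
def n23677 : Q := act 4 n19279
theorem D23677 : act 4 n19279 = n23677 := rfl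
theorem F47282 : act 0 n23677 = n19283 := d3_1 D23677 (iv D19283) (iv F35947)
theorem F47283 : act 1 n23677 = n21663 := d8_1 D23677 (iv F47281) F47279
theorem F47284 : act 2 n23677 = n21660 := d12_1 D23677 (iv F45034) F45032
def n23678 : Q := act 1 n19280
theorem D23678 : act 1 n19280 = n23678 := rfl
theorem F47285 : act 0 n23678 = n22381 := d23_3 D19327 F36072 D23678 F44315 F44313 F43764 F33237 (iv D13566) (iv D10778) (iv D7754) (iv F5699) (iv D3714) F2905 D1794 D3719 (iv F6011) (iv F12262) D11041 D14073
theorem F47286 : act 2 n22386 = n23678 := d1_0 F47285 F43756 D22386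
theorem F47287 : act 6 n22378 = n23678 := d5_0 F47285 (iv D22381) D22378
def n23679 : Q := act 1 n19281
theorem D23679 : act 1 n19281 = n23679 := rfl
def n23680 : Q := act 1 n19286
theorem D23680 : act 1 n19286 = n23680 := rfl
theorem F47288 : act 6 n23680 = n23680 := d10_2 D19286 D23680 (iv D23680) (iv D19286) F24532
def n23681 : Q := act 1 n19287
theorem D23681 : act 1 n19287 = n23681 := rfl
def n23682 : Q := act 1 n19288
theorem D23682 : act 1 n19288 = n23682 := rfl
def n23683 : Q := act 4 n19288
theorem D23683 : act 4 n19288 = n23683 := rfl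
theorem F47289 : act 0 n23683 = n19289 := d3_1 D23683 (iv D19289) D19288
theorem F47290 : act 2 n23683 = n23332 := d12_1 D23683 F46425 (iv F35957)
def n23684 : Q := act 6 n19288
theorem D23684 : act 6 n19288 = n23684 := rfl
theorem F47291 : act 0 n23684 = n19290 := d5_1 D23684 (iv D19290) D19288
theorem F47292 : act 2 n23684 = n22822 := d14_1 D23684 F45038 (iv F35957)
theorem F47293 : act 3 n23684 = n22698 := d17_1 D23684 F44659 F36222
theorem F47294 : act 5 n23684 = n21019 := d20_1 D23684 (iv F40477) F35480 D19290 (iv F35962) D21021 (iv F40483)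
def n23685 : Q := act 6 n19289
theorem D23685 : act 6 n19289 = n23685 := rfl
theorem F47295 : act 2 n23685 = n23333 := d14_1 D23685 (iv D23333) (iv F35959)
theorem F47296 : act 4 n23685 = n19290 := d19_1 D23685 (iv D19290) D19289
theorem F47297 : act 5 n21020 = n23685 := d18_0 F47296 (iv F35962) D21020
def n23686 : Q := act 1 n19291
theorem D23686 : act 1 n19291 = n23686 := rfl
theorem F47298 : act 2 n23686 = n22210 := d6_2 (iv F35997) D23686 F43299 F39631 (iv D19299)
theorem F47299 : act 3 n23686 = n22340 := d7_2 F42755 D23686 F43635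
theorem F47300 : act 4 n23686 = n21699 := d8_2 F41177 D23686 F42043
theorem F47301 : act 5 n23686 = n21694 := d9_2 D19291 D23686 (iv D21694) F28410 F34648
theorem F47302 : act 0 n23686 = n22470 := d21_8 (iv D22470) (iv D17179) (iv F30288) D22410 (iv F47164) F47165 (iv F43636) (iv F47299)
def n23687 : Q := act 5 n19293
theorem D23687 : act 5 n19293 = n23687 := rfl
theorem F47303 : act 2 n23687 = n19294 := d13_1 D23687 (iv D19294) D19293
theorem F47304 : act 3 n23687 = n22297 := d16_1 D23687 F43498 F43465
theorem F47305 : act 4 n23687 = n21058 := d18_1 D23687 (iv D21058) (iv F36001)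
theorem F47306 : act 6 n23687 = n22294 := d22_1 D23687 (iv D22294) (iv F42752) F42749
def n23688 : Q := act 6 n19294
theorem D23688 : act 6 n19294 = n23688 := rfl
theorem F47307 : act 2 n23688 = n22294 := d14_1 D23688 (iv F47306) F47303
theorem F47308 : act 3 n23688 = n19296 := d17_1 D23688 (iv D19296) (iv F36004)
theorem F47309 : act 4 n23688 = n22005 := d19_1 D23688 F42765 F42748
theorem F47310 : act 5 n23688 = n22004 := d22_2 D19294 D23688 (iv D22004) F34805
def n23689 : Q := act 5 n19295
theorem D23689 : act 5 n19295 = n23689 := rfl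
theorem F47311 : act 0 n23689 = n23688 := d4_1 D23689 F47310 F42757
theorem F47312 : act 2 n23689 = n21056 := d13_1 D23689 (iv D21056) (iv F36006)
theorem F47313 : act 3 n23689 = n19297 := d16_1 D23689 (iv D19297) (iv F36007)
theorem F47314 : act 4 n23689 = n21055 := d18_1 D23689 (iv D21055) (iv F36008)
theorem F47315 : act 6 n23689 = n22003 := d20_2 D19295 D23689 (iv D22003) D22004 (iv F47310) (iv D23688) (iv D19294)
def n23690 : Q := act 1 n19296
theorem D23690 : act 1 n19296 = n23690 := rfl
theorem F47316 : act 6 n23690 = n22850 := d10_2 D19296 D23690 (iv D22850) (iv D18350) (iv F24539)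
def n23691 : Q := act 1 n19297
theorem D23691 : act 1 n19297 = n23691 := rfl
theorem F47317 : act 5 n23691 = n23691 := d9_2 D19297 D23691 (iv D23691) (iv D19297) F24541
def n23692 : Q := act 2 n19301
theorem D23692 : act 2 n19301 = n23692 := rfl
theorem F47318 : act 0 n23692 = n20910 := d1_1 D23692 (iv F47117) (iv F47118)
theorem F47319 : act 6 n23692 = n19934 := d14_2 F45609 D23692 F45610
theorem F47320 : act 3 n23692 = n19935 := d21_3 (iv F39581) F39305 D23692 F37670 F25657 (iv F25744) (iv F37833) (iv F37879)
def n23693 : Q := act 0 n19302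
theorem D23693 : act 0 n19302 = n23693 := rfl
theorem F47321 : act 3 n23693 = n22265 := d2_2 (iv F36021) D23693 (iv D22265)
theorem F47322 : act 5 n23693 = n22267 := d4_2 (iv F36022) D23693 (iv D22267)
theorem F47323 : act 2 n23693 = n22719 := d23_1 (iv F47322) F44715 F31091 D17811 F39829 (iv D15193) (iv F20697) (iv D11684) (iv F20693) F34438 (iv F22198) (iv D12646) F18094 (iv F20719) F23436 D12613 F23448 D16965 D22267
def n23694 : Q := act 2 n19302
theorem D23694 : act 2 n19302 = n23694 := rfl
theorem F47324 : act 0 n23694 = n22719 := d1_1 D23694 (iv F47323) (iv D23693)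
theorem F47325 : act 5 n23694 = n22268 := d13_2 (iv F36022) D23694 (iv D22268)
theorem F47326 : act 3 n22718 = n23694 := d2_0 F47324 (iv D22719) D22718
def n23695 : Q := act 6 n19302
theorem D23695 : act 6 n19302 = n23695 := rfl
theorem F47327 : act 1 n23695 = n22209 := d10_1 D23695 F43297 (iv D19299) (iv F24555) D19302
theorem F47328 : act 3 n23695 = n22207 := d17_1 D23695 (iv F43292) (iv F36021)
def n23696 : Q := act 5 n19303
theorem D23696 : act 5 n19303 = n23696 := rfl
theorem F47329 : act 3 n23696 = n19304 := d16_1 D23696 (iv D19304) D19303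
theorem F47330 : act 4 n23696 = n19307 := d18_1 D23696 (iv D19307) (iv F36024)
theorem F47331 : act 6 n23696 = n19542 := d22_1 D23696 (iv D19542) (iv F36658) (iv F36659)
theorem F47332 : act 1 n19747 = n23696 := d8_3 F47330 (iv F37635) (iv F37219)
def n23697 : Q := act 1 n19304
theorem D23697 : act 1 n19304 = n23697 := rfl
theorem F47333 : act 3 n23697 = n19747 := d7_2 F47329 D23697 F47332
theorem F47334 : act 4 n23697 = n19305 := d8_2 (iv F36026) D23697 (iv D19305)
theorem F47335 : act 5 n23697 = n19309 := d9_2 D19304 D23697 (iv D19309) (iv D14058) (iv F24556)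
theorem F47336 : act 6 n23697 = n19790 := d24_3 (iv F36025) D19304 D23697 (iv D19790) (iv D14534) D14536 F25382 D19784 F37305 D19787 F37308 F37027 (iv D19308) (iv F36023)
theorem F47337 : act 0 n19707 = n23697 := d5_3 F47336 (iv F45733) F45732
def n23698 : Q := act 6 n19304
theorem D23698 : act 6 n19304 = n23698 := rfl
theorem F47338 : act 0 n23698 = n23696 := d5_1 D23698 F47331 F36668
theorem F47339 : act 3 n23698 = n19542 := d17_1 D23698 (iv F47331) F47329
theorem F47340 : act 4 n23698 = n19306 := d19_1 D23698 (iv D19306) (iv F36026)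
theorem F47341 : act 5 n23698 = n19538 := d20_1 D23698 F36658 D19542 (iv F47331) (iv D23696) (iv F36025) D19304
def n23699 : Q := act 1 n19308
theorem D23699 : act 1 n19308 = n23699 := rfl
theorem F47342 : act 3 n23699 = n19309 := d7_2 (iv F36033) D23699 (iv D19309)
theorem F47343 : act 4 n23699 = n19975 := d8_2 (iv F36034) D23699 (iv F37740)
theorem F47344 : act 5 n23699 = n19747 := d9_2 D19308 D23699 F47332 (iv D23696) F36023
theorem F47345 : act 0 n19746 = n23699 := d4_3 F47344 (iv D19747) (iv F37217)
def n23700 : Q := act 3 n19311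
theorem D23700 : act 3 n19311 = n23700 := rfl
theorem F47346 : act 0 n23700 = n23407 := d2_1 D23700 F46597 F36040
theorem F47347 : act 4 n23700 = n23411 := d15_2 (iv F36038) D23700 F46608 F33963 (iv F35248)
theorem F47348 : act 6 n23700 = n23405 := d17_2 F36039 D23700 F46594
def n23701 : Q := act 1 n19312
theorem D23701 : act 1 n19312 = n23701 := rfl
theorem F47349 : act 2 n23701 = n20328 := d6_2 (iv F36041) D23701 (iv D20328) (iv F26357) (iv F36036)
theorem F47350 : act 4 n23701 = n19314 := d8_2 (iv F36042) D23701 (iv D19314)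
theorem F47351 : act 6 n23701 = n19313 := d10_2 D19312 D23701 (iv D19313) (iv D14061) D14060
def n23702 : Q := act 5 n19312
theorem D23702 : act 5 n19312 = n23702 := rfl
theorem F47352 : act 0 n23702 = n23616 := d4_1 D23702 F47122 (iv F36040)
theorem F47353 : act 2 n23702 = n23615 := d13_1 D23702 F47120 (iv F36041)
theorem F47354 : act 4 n23702 = n19315 := d18_1 D23702 (iv D19315) (iv F36042)
theorem F47355 : act 6 n23702 = n23615 := d20_2 D19312 D23702 F47120 F36039 (iv F47122) (iv F47123) F35797
def n23703 : Q := act 2 n19313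
theorem D23703 : act 2 n19313 = n23703 := rfl
theorem F47356 : act 1 n23703 = n20404 := d6_1 D23703 F45744 (iv D23054) F33445 D19313
theorem F47357 : act 4 n23703 = n19316 := d12_2 (iv F36043) D23703 (iv D19316)
theorem F47358 : act 6 n23703 = n20328 := d14_2 F47351 D23703 (iv F47349)
def n23704 : Q := act 5 n19314
theorem D23704 : act 5 n19314 = n23704 := rfl
theorem F47359 : act 0 n23704 = n22280 := d4_1 D23704 F44136 F44133
theorem F47360 : act 1 n23704 = n22513 := d9_1 D23704 F44090 (iv F44096) (iv D19315) D19314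
theorem F47361 : act 2 n23704 = n20602 := d13_1 D23704 (iv D20602) (iv F36044)
theorem F47362 : act 3 n23704 = n19325 := d16_1 D23704 (iv D19325) (iv F36045)
theorem F47363 : act 6 n23704 = n22278 := d20_2 (iv F36046) D23704 F43434 (iv F44135) (iv F44136) (iv D22280) (iv F35283)
def n23705 : Q := act 2 n19317
theorem D23705 : act 2 n19317 = n23705 := rfl
theorem F47364 : act 0 n23705 = n19320 := d1_1 D23705 (iv D19320) (iv F36053)
theorem F47365 : act 1 n23705 = n22373 := d6_1 D23705 (iv D22373) F30023 (iv F29842) (iv F36054)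
theorem F47366 : act 3 n23705 = n19318 := d11_2 D19317 D23705 F36056 (iv F35248) (iv D14063) F19538 D11039 D14069 D19320 F36060 F24571 (iv F24565) (iv F35245) F24564 D14067
theorem F47367 : act 5 n23705 = n23580 := d13_2 F47016 D23705 F47021
theorem F47368 : act 6 n19317 = n23705 := d20_0 F47367 (iv D23580) F35679 F36061 F47007 F47017 F47016
def n23706 : Q := act 4 n19317
theorem D23706 : act 4 n19317 = n23706 := rfl
theorem F47369 : act 0 n23706 = n19321 := d3_1 D23706 (iv D19321) (iv F36053)
theorem F47370 : act 1 n23706 = n22249 := d8_1 D23706 F43370 (iv F36054)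
def n23707 : Q := act 1 n19318
theorem D23707 : act 1 n19318 = n23707 := rfl
theorem F47371 : act 3 n23707 = n22373 := d7_2 F47366 D23707 (iv F47365)
theorem F47372 : act 6 n23707 = n22253 := d10_2 D19318 D23707 (iv D22253) (iv D16944) (iv F35242)
def n23708 : Q := act 0 n19319
theorem D23708 : act 0 n19319 = n23708 := rfl
theorem F47373 : act 3 n23708 = n20037 := d2_2 (iv F36058) D23708 F37857
theorem F47374 : act 6 n23708 = n20035 := d5_2 (iv F36059) D23708 F37854
theorem F47375 : act 1 n23501 = n23708 := d7_3 F47373 (iv F39064) (iv F46801)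
def n23709 : Q := act 2 n19319
theorem D23709 : act 2 n19319 = n23709 := rfl
theorem F47376 : act 6 n23709 = n20754 := d14_2 (iv F36059) D23709 (iv D20754)
def n23710 : Q := act 5 n19319
theorem D23710 : act 5 n19319 = n23710 := rfl
theorem F47377 : act 1 n23710 = n23623 := d9_1 D23710 (iv D23623) (iv D19210) (iv F24569) D19319
theorem F47378 : act 3 n23710 = n20757 := d16_1 D23710 (iv D20757) (iv F36058)
def n23711 : Q := act 1 n19320
theorem D23711 : act 1 n19320 = n23711 := rfl
theorem F47379 : act 2 n23711 = n19333 := d6_2 D19320 D23711 (iv D19333) (iv D14077) (iv F24570)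
theorem F47380 : act 3 n23711 = n19322 := d7_2 (iv F36060) D23711 (iv D19322)
theorem F47381 : act 6 n23711 = n19330 := d10_2 F36061 D23711 F36078 F24582 (iv F24570)
def n23712 : Q := act 4 n19320
theorem D23712 : act 4 n19320 = n23712 := rfl
theorem F47382 : act 2 n23712 = n19321 := d12_1 D23712 (iv D19321) D19320
theorem F47383 : act 6 n23712 = n19321 := d19_2 F36061 D23712 (iv D19321)
def n23713 : Q := act 0 n19322
theorem D23713 : act 0 n19322 = n23713 := rfl
theorem F47384 : act 2 n23713 = n23668 := d1_2 (iv F36063) D23713 F47263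
theorem F47385 : act 6 n23713 = n19329 := d5_2 (iv F36064) D23713 (iv D19329)
def n23714 : Q := act 5 n19322
theorem D23714 : act 5 n19322 = n23714 := rfl
theorem F47386 : act 2 n23714 = n23670 := d13_1 D23714 (iv D23670) (iv F36063)
def n23715 : Q := act 1 n19325
theorem D23715 : act 1 n19325 = n23715 := rfl
theorem F47387 : act 3 n23715 = n22513 := d7_2 F47362 D23715 (iv F47360)
theorem F47388 : act 4 n23715 = n21577 := d8_2 F46642 D23715 F46646
theorem F47389 : act 5 n23715 = n19326 := d9_2 D19325 D23715 (iv D19326) (iv D14072) D14071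
theorem F47390 : act 0 n22512 = n23715 := d4_3 F47389 F44098 (iv F44089)
theorem F47391 : act 2 n21578 = n23715 := d13_3 F47389 (iv F44099) (iv F41778)
def n23716 : Q := act 6 n19326
theorem D23716 : act 6 n19326 = n23716 := rfl
theorem F47392 : act 1 n23716 = n23620 := d10_1 D23716 (iv D23620) (iv D19207) (iv F24575) D19326
def n23717 : Q := act 1 n19327
theorem D23717 : act 1 n19327 = n23717 := rfl
theorem F47393 : act 2 n23717 = n23600 := d6_2 (iv F36072) D23717 F47085 F47286 (iv D23678)
theorem F47394 : act 3 n23717 = n22555 := d7_2 F43433 D23717 F44183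
theorem F47395 : act 5 n23717 = n22551 := d9_2 D19327 D23717 (iv D22551) F30321 (iv F35048)
theorem F47396 : act 0 n23717 = n23601 := d23_3 D19280 (iv F36072) D23717 F47088 (iv D19196) (iv D13960) F19479 (iv D8215) (iv D3922) (iv D1883) (iv F2642) (iv F3033) F3032 D1888 D3932 F17142 D8239 D11021 D14032
def n23718 : Q := act 1 n19328
theorem D23718 : act 1 n19328 = n23718 := rfl
theorem F47397 : act 3 n23718 = n20620 := d7_2 F43441 D23718 (iv F43440)
theorem F47398 : act 6 n23718 = n20619 := d10_2 D19328 D23718 (iv D20619) F34774 (iv F24577)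
def n23719 : Q := act 3 n19329
theorem D23719 : act 3 n19329 = n23719 := rfl
theorem F47399 : act 0 n23719 = n19330 := d2_1 D23719 (iv D19330) D19329
theorem F47400 : act 1 n23719 = n22378 := d7_1 D23719 F45670 F45669
theorem F47401 : act 6 n23681 = n23719 := d10_0 F47400 F47287 (iv D23678) (iv F35956) D23681
theorem F47402 : act 0 n23711 = n23681 := d5_3 F47401 F47399 (iv F47381)
theorem F47403 : act 3 n23713 = n23681 := d17_3 F47401 (iv D23719) (iv F47385)
theorem F47404 : act 1 n23526 = n23713 := d7_3 F47403 (iv D23681) (iv F46856)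
def n23720 : Q := act 5 n19329
theorem D23720 : act 5 n19329 = n23720 := rfl
theorem F47405 : act 0 n23720 = n19331 := d4_1 D23720 (iv D19331) D19329
theorem F47406 : act 2 n23720 = n23661 := d13_1 D23720 F47247 (iv F36077)
theorem F47407 : act 6 n23720 = n23714 := d22_1 D23720 (iv D23714) F36064 D19329
def n23721 : Q := act 4 n19330
theorem D23721 : act 4 n19330 = n23721 := rfl
theorem F47408 : act 1 n23721 = n19332 := d8_1 D23721 (iv D19332) (iv F36078)
def n23722 : Q := act 6 n19331
theorem D23722 : act 6 n19331 = n23722 := rfl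
theorem F47409 : act 0 n23722 = n23714 := d5_1 D23722 (iv F47407) F47405
theorem F47410 : act 2 n23722 = n23662 := d14_1 D23722 (iv D23662) (iv F36080)
theorem F47411 : act 5 n23722 = n23713 := d20_1 D23722 F47385 D23720 F47407 (iv D23714) F36064 D19331
def n23723 : Q := act 0 n19333
theorem D23723 : act 0 n19333 = n23723 := rfl
theorem F47412 : act 2 n23723 = n23681 := d1_2 F47379 D23723 (iv F47402)
theorem F47413 : act 3 n23723 = n22152 := d2_2 (iv F36084) D23723 F43141
theorem F47414 : act 5 n23723 = n23515 := d22_0 (iv D23515) D23514 (iv F46832) D23723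
theorem F47415 : act 1 n21578 = n23723 := d7_3 F47413 F43142 (iv F41777)
theorem F47416 : act 4 n21549 = n23723 := d15_0 F47413 (iv D22152) (iv D16866) (iv F28218) D21549
def n23724 : Q := act 4 n19333
theorem D23724 : act 4 n19333 = n23724 := rfl
theorem F47417 : act 0 n23724 = n21549 := d3_1 D23724 F47416 (iv D23723)
theorem F47418 : act 1 n23724 = n19334 := d8_1 D23724 (iv D19334) D19333
theorem F47419 : act 3 n23724 = n21547 := d15_1 D23724 F41713 F39566 D17389 (iv F36084)
def n23725 : Q := act 5 n19333
theorem D23725 : act 5 n19333 = n23725 := rfl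
theorem F47420 : act 0 n23725 = n23515 := d4_1 D23725 (iv F47414) (iv D23723)
theorem F47421 : act 1 n23725 = n19347 := d9_1 D23725 (iv D19347) (iv D14084) (iv F24583) D19333
theorem F47422 : act 3 n23725 = n20860 := d16_1 D23725 (iv F40043) (iv F36084)
theorem F47423 : act 6 n23725 = n20814 := d22_3 D23514 (iv F46832) D23725 (iv F40025)
def n23726 : Q := act 3 n19335
theorem D23726 : act 3 n19335 = n23726 := rfl
theorem F47424 : act 1 n23726 = n19336 := d7_1 D23726 (iv D19336) D19335
theorem F47425 : act 2 n23726 = n21501 := d21_2 F47044 D23726 F41617 F35117 (iv F41960) F47280 (iv D23674) (iv F47043)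
theorem F47426 : act 4 n21503 = n23726 := d12_0 F47425 F41618 D21503
def n23727 : Q := act 5 n19335
theorem D23727 : act 5 n19335 = n23727 := rfl
def n23728 : Q := act 6 n19335
theorem D23728 : act 6 n19335 = n23728 := rfl
def n23729 : Q := act 4 n19336
theorem D23729 : act 4 n19336 = n23729 := rfl
theorem F47427 : act 0 n23729 = n19340 := d3_1 D23729 (iv D19340) (iv F36088)
theorem F47428 : act 1 n23729 = n21503 := d8_1 D23729 F47426 F47424
theorem F47429 : act 2 n23729 = n21500 := d12_1 D23729 (iv F45011) (iv F45017)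
def n23730 : Q := act 1 n19337
theorem D23730 : act 1 n19337 = n23730 := rfl
def n23731 : Q := act 1 n19338
theorem D23731 : act 1 n19338 = n23731 := rfl
theorem F47430 : act 2 n23731 = n22181 := d6_2 (iv F36092) D23731 (iv F46913) F47258 (iv D23665)
theorem F47431 : act 0 n22174 = n23731 := d1_3 F47430 (iv D22181) (iv F43202)
theorem F47432 : act 5 n22172 = n23731 := d23_0 F47430 (iv F46913) (iv D23541) D23543 F46918 (iv D23540) (iv F35629) (iv D19124) (iv F35601) F43379 (iv D22255) (iv F46881) (iv D22256) (iv D16946) F22120 (iv D12562) D12560 D16880 D22172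
def n23732 : Q := act 1 n19343
theorem D23732 : act 1 n19343 = n23732 := rfl
theorem F47433 : act 2 n23732 = n23671 := d6_2 (iv F36097) D23732 (iv F47270) F47253 (iv D23663)
theorem F47434 : act 3 n23732 = n23661 := d7_2 F46828 D23732 (iv F47248)
theorem F47435 : act 5 n23732 = n23667 := d9_2 (iv F36098) D23732 F47262 F47432 (iv D23731)
theorem F47436 : act 0 n23659 = n23732 := d4_3 F47435 F47261 (iv F47244)
def n23733 : Q := act 1 n19344
theorem D23733 : act 1 n19344 = n23733 := rfl
theorem F47437 : act 5 n23733 = n23733 := d9_2 D19344 D23733 (iv D23733) (iv D19344) F24588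
def n23734 : Q := act 1 n19345
theorem D23734 : act 1 n19345 = n23734 := rfl
def n23735 : Q := act 4 n19345
theorem D23735 : act 4 n19345 = n23735 := rfl
theorem F47438 : act 0 n23735 = n19346 := d3_1 D23735 (iv D19346) D19345
theorem F47439 : act 2 n23735 = n23262 := d12_1 D23735 F46257 (iv F36102)
def n23736 : Q := act 5 n19345
theorem D23736 : act 5 n19345 = n23736 := rfl
theorem F47440 : act 0 n23736 = n19347 := d4_1 D23736 (iv D19347) D19345
theorem F47441 : act 2 n23736 = n22827 := d13_1 D23736 F45059 (iv F36102)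
theorem F47442 : act 3 n23736 = n22732 := d16_1 D23736 F44758 F36324
theorem F47443 : act 6 n23736 = n20938 := d20_2 F40247 D23736 F40242 F35478 D19347 (iv F36107) D20940
def n23737 : Q := act 5 n19346
theorem D23737 : act 5 n19346 = n23737 := rfl
theorem F47444 : act 2 n23737 = n23263 := d13_1 D23737 (iv D23263) (iv F36104)
theorem F47445 : act 4 n23737 = n19347 := d18_1 D23737 (iv D19347) D19346
theorem F47446 : act 6 n20939 = n23737 := d19_0 F47445 (iv F36107) D20939
def n23738 : Q := act 1 n19351
theorem D23738 : act 1 n19351 = n23738 := rfl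
theorem F47447 : act 3 n23738 = n20484 := d7_2 (iv F36155) D23738 F38876
theorem F47448 : act 4 n23738 = n19605 := d8_2 (iv F36156) D23738 F36845
theorem F47449 : act 5 n23738 = n23055 := d9_2 D19351 D23738 (iv D23055) (iv F35201) F33459
theorem F47450 : act 6 n23738 = n19597 := d10_2 (iv F36157) D23738 (iv D19597) F25165 (iv F36142)
def n23739 : Q := act 6 n19353
theorem D23739 : act 6 n19353 = n23739 := rfl
theorem F47451 : act 0 n23739 = n19358 := d5_1 D23739 (iv D19358) (iv F36162)
theorem F47452 : act 2 n23739 = n21255 := d14_1 D23739 F41104 F41084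
theorem F47453 : act 3 n23739 = n19728 := d17_1 D23739 F37179 F37166
theorem F47454 : act 4 n23739 = n19354 := d19_1 D23739 (iv D19354) D19353
theorem F47455 : act 5 n23739 = n19699 := d22_2 F37082 D23739 (iv D19699) D19698
def n23740 : Q := act 1 n19355
theorem D23740 : act 1 n19355 = n23740 := rfl
theorem F47456 : act 3 n23740 = n19948 := d7_2 (iv F36170) D23740 (iv D19948)
theorem F47457 : act 4 n23740 = n19357 := d8_2 (iv F36171) D23740 (iv D19357)
theorem F47458 : act 6 n23740 = n19926 := d10_2 D19355 D23740 (iv F37649) F36910 F36159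
theorem F47459 : act 0 n19927 = n23740 := d5_3 F47458 (iv D19926) D19927
theorem F47460 : act 2 n20875 = n23740 := d14_3 F47458 F37646 (iv F40090)
def n23741 : Q := act 0 n19357
theorem D23741 : act 0 n19357 = n23741 := rfl
theorem F47461 : act 2 n23741 = n20873 := d1_2 F40185 D23741 (iv F40184)
theorem F47462 : act 3 n23741 = n19865 := d2_2 F36969 D23741 (iv F37501)
theorem F47463 : act 4 n23741 = n19927 := d3_2 F47457 D23741 F47459
theorem F47464 : act 6 n23741 = n19897 := d5_2 F36941 D23741 (iv F37572)
theorem F47465 : act 5 n23741 = n20907 := d22_0 (iv D20907) F37574 F36941 D23741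
theorem F47466 : act 1 n23741 = n19836 := d24_2 D20907 (iv F47465) (iv D19836) (iv D14587) (iv D11331) (iv D9061) (iv D4379) F3344 D2107 D4394 D9092 D11387 D14717 F37575
def n23742 : Q := act 5 n19357
theorem D23742 : act 5 n19357 = n23742 := rfl
theorem F47467 : act 0 n23742 = n20907 := d4_1 D23742 (iv F47465) (iv D23741)
theorem F47468 : act 2 n23742 = n20906 := d13_1 D23742 (iv F40187) F40185
theorem F47469 : act 6 n23742 = n19398 := d20_2 F36941 D23742 (iv F37571) (iv F47464) F47465 (iv D20907) F37574
def n23743 : Q := act 5 n19358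
theorem D23743 : act 5 n19358 = n23743 := rfl
theorem F47470 : act 0 n23743 = n19699 := d4_1 D23743 (iv F47455) F47451
theorem F47471 : act 1 n23743 = n19399 := d9_1 D23743 (iv D19399) (iv F34531) D19766 F37265
theorem F47472 : act 2 n23743 = n21251 := d13_1 D23743 (iv F41101) F41099
theorem F47473 : act 3 n23743 = n19400 := d16_1 D23743 (iv F37173) F37171
theorem F47474 : act 4 n23743 = n19359 := d18_1 D23743 (iv D19359) (iv F36177)
theorem F47475 : act 6 n23743 = n19698 := d20_2 D19358 D23743 F37082 D23739 F47455 (iv D19699) F29005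
def n23744 : Q := act 5 n19360
theorem D23744 : act 5 n19360 = n23744 := rfl
theorem F47476 : act 0 n23744 = n20991 := d4_1 D23744 (iv D20991) (iv F36505)
theorem F47477 : act 1 n23744 = n23742 := d9_1 D23744 (iv D23742) (iv D19357) (iv F24622) D19360
theorem F47478 : act 2 n23744 = n20990 := d13_1 D23744 (iv D20990) F36504
theorem F47479 : act 6 n23744 = n19395 := d22_1 D23744 (iv F36954) (iv F37542) (iv F36505)
def n23745 : Q := act 1 n19361
theorem D23745 : act 1 n19361 = n23745 := rfl
theorem F47480 : act 0 n23745 = n19907 := d0_1 D23745 F37604 (iv F37448) (iv F47466) (iv D23741) (iv D19357) F24610 D14104 D19361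
theorem F47481 : act 3 n23745 = n19954 := d7_2 (iv F36184) D23745 F37708
theorem F47482 : act 4 n23745 = n19395 := d8_2 (iv F36185) D23745 (iv D19395)
theorem F47483 : act 5 n23745 = n19906 := d9_2 (iv F36186) D23745 (iv F37603) F36928 F36277
theorem F47484 : act 2 n20959 = n23745 := d23_1 (iv F40308) (iv D23745) (iv D19361) F34512 F19621 F12753 (iv F15785) (iv F17601) F17599 F32844 F7195 (iv D2272) D2270 D4723 D9750 D11843 F20938 D11945 D15756
def n23746 : Q := act 1 n19362
theorem D23746 : act 1 n19362 = n23746 := rfl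
theorem F47485 : act 3 n23746 = n19363 := d7_2 (iv F36189) D23746 (iv D19363)
theorem F47486 : act 4 n23746 = n19364 := d8_2 (iv F36190) D23746 (iv D19364)
theorem F47487 : act 6 n23746 = n19397 := d10_2 D19362 D23746 F37174 (iv D19726) F29008
theorem F47488 : act 2 n21289 = n23746 := d23_1 D21289 (iv D23746) F36188 (iv F36994) F36991 D23647 (iv F47208) F37304 F37110 (iv D16147) F21424 (iv F21421) (iv D12139) (iv D9995) (iv F7893) F7895 D9992 D12132 D16125
theorem F47489 : act 5 n19711 = n23746 := d24_1 (iv F37124) (iv D23746) (iv D19362) F29009 (iv D14455) (iv F20026) (iv D11288) D11287 F20023 D11291 F20030 D14370 F25117 (iv F36281)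
theorem F47490 : act 0 n23746 = n19712 := d4_1 F47489 (iv D19712) D19711
def n23747 : Q := act 0 n19365
theorem D23747 : act 0 n19365 = n23747 := rfl
theorem F47491 : act 2 n23747 = n19367 := d1_2 (iv F36199) D23747 (iv D19367)
theorem F47492 : act 3 n23747 = n19654 := d2_2 F36976 D23747 (iv F36973)
theorem F47493 : act 4 n23747 = n19367 := d3_2 (iv F36200) D23747 (iv D19367)
theorem F47494 : act 5 n23747 = n19629 := d4_2 F36289 D23747 F36911
theorem F47495 : act 6 n23747 = n19367 := d5_2 (iv F36201) D23747 (iv D19367)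
def n23748 : Q := act 6 n19366
theorem D23748 : act 6 n19366 = n23748 := rfl
theorem F47496 : act 2 n23748 = n20878 := d14_1 D23748 (iv D20878) F36204
theorem F47497 : act 3 n23748 = n20003 := d17_1 D23748 (iv D20003) (iv F36202)
theorem F47498 : act 4 n23748 = n23742 := d19_1 D23748 F47469 F36292
theorem F47499 : act 5 n23748 = n23740 := d22_2 (iv F36203) D23748 F47458 (iv D19926)
def n23749 : Q := act 4 n19369
theorem D23749 : act 4 n19369 = n23749 := rfl
theorem F47500 : act 0 n23749 = n19370 := d3_1 D23749 (iv D19370) (iv F36209)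
theorem F47501 : act 2 n23749 = n19506 := d12_1 D23749 F36563 (iv F36210)
theorem F47502 : act 3 n23749 = n20929 := d15_1 D23749 (iv D20929) (iv D15705) (iv F32664) D19369
theorem F47503 : act 5 n23749 = n20929 := d18_2 (iv F36211) D23749 (iv D20929)
theorem F47504 : act 6 n23749 = n19458 := d19_2 (iv F36212) D23749 (iv D19458)
def n23750 : Q := act 3 n19371
theorem D23750 : act 3 n19371 = n23750 := rfl
theorem F47505 : act 0 n23750 = n19372 := d2_1 D23750 (iv D19372) D19371
theorem F47506 : act 1 n23750 = n22986 := d7_1 D23750 (iv D22986) (iv F36419)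
def n23751 : Q := act 5 n19371
theorem D23751 : act 5 n19371 = n23751 := rfl
theorem F47507 : act 0 n23751 = n19373 := d4_1 D23751 (iv D19373) D19371
theorem F47508 : act 2 n23751 = n20885 := d13_1 D23751 F40113 F36418
theorem F47509 : act 6 n23751 = n20884 := d20_2 F37691 D23751 F40110 (iv D19374) D19373 (iv F40197) F40194
def n23752 : Q := act 2 n19372
theorem D23752 : act 2 n19372 = n23752 := rfl
theorem F47510 : act 1 n23752 = n23528 := d6_1 D23752 F46858 F35938 (iv F24675) (iv F36215)
theorem F47511 : act 3 n19373 = n23752 := d7_0 F47510 F46859 F44225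
theorem F47512 : act 5 n19372 = n23752 := d9_0 F47510 F46860 (iv D19276) (iv F24676) (iv F36215)
theorem F47513 : act 6 n23529 = n23752 := d10_0 F47510 (iv D23528) (iv D19094) D19096 D23529
def n23753 : Q := act 4 n19372
theorem D23753 : act 4 n19372 = n23753 := rfl
theorem F47514 : act 1 n23753 = n19375 := d8_1 D23753 (iv D19375) (iv F36215)
theorem F47515 : act 3 n23753 = n22467 := d15_1 D23753 (iv D22467) (iv F30346) F33018 D19372
def n23754 : Q := act 6 n19372
theorem D23754 : act 6 n19372 = n23754 := rfl
theorem F47516 : act 1 n23754 = n19384 := d10_1 D23754 (iv D19384) F24691 (iv F24677) (iv F36215)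
theorem F47517 : act 2 n23754 = n23529 := d14_1 D23754 F47513 (iv D23752)
theorem F47518 : act 3 n23754 = n19374 := d17_1 D23754 (iv D19374) D19372
def n23755 : Q := act 1 n19376
theorem D23755 : act 1 n19376 = n23755 := rfl
theorem F47519 : act 3 n23755 = n23682 := d7_2 (iv F36222) D23755 (iv D23682)
theorem F47520 : act 4 n23755 = n20083 := d8_2 (iv F36223) D23755 (iv D20083)
def n23756 : Q := act 0 n19378
theorem D23756 : act 0 n19378 = n23756 := rfl
def n23757 : Q := act 2 n19378
theorem D23757 : act 2 n19378 = n23757 := rfl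
theorem F47521 : act 1 n23757 = n19436 := d6_1 D23757 F36511 (iv D14268) (iv F24690) D19378
theorem F47522 : act 5 n19459 = n23757 := d23_0 (iv D23757) (iv D19378) (iv D14136) D14139 F24695 F19781 (iv F21069) (iv D11930) F17571 D11928 D15720 F34351 (iv F40574) F40573 F40508 (iv F40505) F40503 D21041 F40535
theorem F47523 : act 3 n23757 = n19505 := d16_1 F47522 (iv D19505) (iv F36428)
def n23758 : Q := act 3 n19378
theorem D23758 : act 3 n19378 = n23758 := rfl
theorem F47524 : act 1 n23758 = n19379 := d7_1 D23758 (iv D19379) D19378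
def n23759 : Q := act 4 n19378
theorem D23759 : act 4 n19378 = n23759 := rfl
theorem F47525 : act 1 n23759 = n19380 := d8_1 D23759 (iv D19380) D19378
def n23760 : Q := act 5 n19378
theorem D23760 : act 5 n19378 = n23760 := rfl
theorem F47526 : act 2 n23760 = n19459 := d13_1 D23760 F47522 (iv D23757)
theorem F47527 : act 1 n19448 = n23760 := d6_5 F47526 (iv D19459) (iv D14264) (iv F24901) D19448
def n23761 : Q := act 4 n19379
theorem D23761 : act 4 n19379 = n23761 := rfl
theorem F47528 : act 0 n23761 = n19383 := d3_1 D23761 (iv D19383) (iv F36234)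
theorem F47529 : act 2 n23761 = n22774 := d12_1 D23761 F44871 (iv F36235)
theorem F47530 : act 6 n23761 = n22773 := d19_2 F36236 D23761 F44869
def n23762 : Q := act 5 n19380
theorem D23762 : act 5 n19380 = n23762 := rfl
theorem F47531 : act 0 n23762 = n19385 := d4_1 D23762 (iv D19385) (iv F36237)
theorem F47532 : act 2 n23762 = n19471 := d13_1 D23762 (iv D19471) (iv F36238)
theorem F47533 : act 4 n23762 = n19381 := d18_1 D23762 (iv D19381) D19380
def n23763 : Q := act 6 n19380
theorem D23763 : act 6 n19380 = n23763 := rfl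
theorem F47534 : act 0 n23763 = n19386 := d5_1 D23763 (iv D19386) (iv F36237)
theorem F47535 : act 2 n23763 = n19472 := d14_1 D23763 (iv D19472) (iv F36238)
theorem F47536 : act 4 n23763 = n19382 := d19_1 D23763 (iv D19382) D19380
theorem F47537 : act 5 n23763 = n22809 := d22_2 (iv D23762) D23763 F44977 (iv F47531)
theorem F47538 : act 1 n22657 = n23763 := d9_5 F47537 F44974 (iv F44233) F44229 D22657
def n23764 : Q := act 1 n19381
theorem D23764 : act 1 n19381 = n23764 := rfl
theorem F47539 : act 3 n23764 = n22982 := d7_2 F44967 D23764 F45504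
theorem F47540 : act 5 n23764 = n19448 := d9_2 D19381 D23764 F47527 (iv D23760) (iv D19378)
theorem F47541 : act 6 n23764 = n22981 := d24_3 (iv D19382) D19381 D23764 F45503 F33118 F36118 (iv D11908) F17555 (iv F14492) F17447 (iv F18438) D12980 D17637 F39861
theorem F47542 : act 2 n19450 = n23764 := d23_1 D19450 (iv D23764) F36239 (iv D14139) F19608 (iv D8531) F6208 (iv D2363) (iv D1149) (iv F1908) (iv F3589) D4719 (iv F14562) D11836 D15537 (iv F39911) (iv F40392) F40391 F36406
def n23765 : Q := act 6 n19383
theorem D23765 : act 6 n19383 = n23765 := rfl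
theorem F47543 : act 0 n23765 = n22773 := d5_1 D23765 (iv F47530) F47528
theorem F47544 : act 2 n23765 = n22771 := d14_1 D23765 F44864 F44855
theorem F47545 : act 4 n23765 = n19384 := d19_1 D23765 (iv D19384) D19383
theorem F47546 : act 5 n22770 = n23765 := d22_0 (iv D23765) F44854 F44853 (iv F44859)
def n23766 : Q := act 5 n19386
theorem D23766 : act 5 n19386 = n23766 := rfl
theorem F47547 : act 0 n23766 = n22809 := d4_1 D23766 (iv F47537) F47534
theorem F47548 : act 2 n23766 = n19478 := d13_1 D23766 (iv D19478) (iv F36253)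
theorem F47549 : act 4 n23766 = n19387 := d18_1 D23766 (iv D19387) (iv F36254)
theorem F47550 : act 6 n23766 = n23762 := d20_2 D19386 D23766 (iv D23762) D23763 F47537 F44977 (iv D19385)
def n23767 : Q := act 1 n19387
theorem D23767 : act 1 n19387 = n23767 := rfl
theorem F47551 : act 3 n23767 = n22808 := d7_2 (iv F36257) D23767 (iv D22808)
def n23768 : Q := act 1 n19391
theorem D23768 : act 1 n19391 = n23768 := rfl
theorem F47552 : act 3 n23768 = n20482 := d7_2 (iv F36273) D23768 F38872
theorem F47553 : act 4 n23768 = n19601 := d8_2 (iv F36274) D23768 F36840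
theorem F47554 : act 5 n23768 = n19595 := d9_2 (iv F36275) D23768 (iv D19595) F25158 (iv F36260)
theorem F47555 : act 6 n23768 = n23053 := d10_2 D19391 D23768 (iv D23053) (iv F34886) F33409
def n23769 : Q := act 5 n19393
theorem D23769 : act 5 n19393 = n23769 := rfl
theorem F47556 : act 0 n23769 = n19397 := d4_1 D23769 (iv D19397) (iv F36280)
theorem F47557 : act 2 n23769 = n21293 := d13_1 D23769 F41184 F41171
theorem F47558 : act 3 n23769 = n19765 := d16_1 D23769 F37259 F37252
theorem F47559 : act 4 n23769 = n19394 := d18_1 D23769 (iv D19394) D19393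
theorem F47560 : act 6 n23769 = n19712 := d20_2 F37124 D23769 (iv D19712) (iv F35285) D19397 (iv F47487) (iv F47489)
def n23770 : Q := act 0 n19395
theorem D23770 : act 0 n19395 = n23770 := rfl
theorem F47561 : act 1 n23770 = n19843 := d0_2 D19395 D23770 F37465 (iv F37650) F47459 (iv D23740) F36168 F34875 (iv F24715)
theorem F47562 : act 2 n23770 = n20958 := d1_2 F40410 D23770 (iv F40409)
theorem F47563 : act 3 n23770 = n19887 := d2_2 F36984 D23770 (iv F37535)
theorem F47564 : act 4 n23770 = n19907 := d3_2 F47482 D23770 (iv F47480)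
theorem F47565 : act 5 n23770 = n19888 := d4_2 F36954 D23770 (iv F37540)
theorem F47566 : act 6 n23770 = n20991 := d5_2 F47479 D23770 (iv F47476)
def n23771 : Q := act 0 n19401
theorem D23771 : act 0 n19401 = n23771 := rfl
theorem F47567 : act 2 n23771 = n19403 := d1_2 (iv F36299) D23771 (iv D19403)
theorem F47568 : act 3 n23771 = n19646 := d2_2 F36957 D23771 F36960
theorem F47569 : act 4 n23771 = n19403 := d3_2 (iv F36300) D23771 (iv D19403)
theorem F47570 : act 5 n23771 = n19403 := d4_2 (iv F36301) D23771 (iv D19403)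
theorem F47571 : act 6 n23771 = n19624 := d5_2 (iv F36302) D23771 F36893
def n23772 : Q := act 5 n19402
theorem D23772 : act 5 n19402 = n23772 := rfl
theorem F47572 : act 1 n23772 = n23748 := d9_1 D23772 F47499 (iv D23740) F36172 D19402
theorem F47573 : act 2 n23772 = n20926 := d13_1 D23772 (iv F40223) F36306
theorem F47574 : act 3 n23772 = n19947 := d16_1 D23772 (iv D19947) (iv F36303)
theorem F47575 : act 4 n23772 = n23744 := d18_1 D23772 (iv D23744) (iv F36304)
theorem F47576 : act 6 n23772 = n23745 := d22_1 D23772 F47483 (iv F39061) F39058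
def n23773 : Q := act 4 n19405
theorem D23773 : act 4 n19405 = n23773 := rfl
theorem F47577 : act 0 n23773 = n19406 := d3_1 D23773 (iv D19406) (iv F36311)
theorem F47578 : act 2 n23773 = n19461 := d12_1 D23773 F36433 (iv F36312)
theorem F47579 : act 3 n23773 = n21011 := d15_1 D23773 (iv D21011) (iv D15833) (iv F32785) D19405
theorem F47580 : act 5 n23773 = n19460 := d18_2 (iv F36313) D23773 (iv D19460)
theorem F47581 : act 6 n23773 = n21011 := d19_2 (iv F36314) D23773 (iv D21011)
def n23774 : Q := act 3 n19407
theorem D23774 : act 3 n19407 = n23774 := rfl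
theorem F47582 : act 0 n23774 = n19408 := d2_1 D23774 (iv D19408) D19407
theorem F47583 : act 1 n23774 = n22990 := d7_1 D23774 (iv D22990) (iv F36489)
def n23775 : Q := act 6 n19407
theorem D23775 : act 6 n19407 = n23775 := rfl
theorem F47584 : act 0 n23775 = n19410 := d5_1 D23775 (iv D19410) D19407
theorem F47585 : act 2 n23775 = n20967 := d14_1 D23775 F40330 F36486
theorem F47586 : act 5 n23775 = n20966 := d20_1 D23775 F40327 (iv D19409) D19410 (iv F40425) F40422 F37644
def n23776 : Q := act 2 n19408
theorem D23776 : act 2 n19408 = n23776 := rfl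
theorem F47587 : act 1 n23776 = n23514 := d6_1 D23776 F46830 F36078 (iv F24783) (iv F36317)
theorem F47588 : act 3 n19410 = n23776 := d7_0 F47587 F46831 F44390
theorem F47589 : act 5 n23516 = n23776 := d9_0 F47587 (iv D23514) (iv D19070) D19072 D23516
theorem F47590 : act 6 n19408 = n23776 := d10_0 F47587 (iv F46832) (iv D19333) (iv F24785) (iv F36317)
def n23777 : Q := act 4 n19408
theorem D23777 : act 4 n19408 = n23777 := rfl
theorem F47591 : act 1 n23777 = n19411 := d8_1 D23777 (iv D19411) (iv F36317)
theorem F47592 : act 3 n23777 = n22526 := d15_1 D23777 (iv D22526) (iv F30477) (iv F33033) D19408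
def n23778 : Q := act 5 n19408
theorem D23778 : act 5 n19408 = n23778 := rfl
theorem F47593 : act 1 n23778 = n19420 := d9_1 D23778 (iv D19420) F24800 (iv F24784) (iv F36317)
theorem F47594 : act 2 n23778 = n23516 := d13_1 D23778 F47589 (iv D23776)
theorem F47595 : act 3 n23778 = n19409 := d16_1 D23778 (iv D19409) D19408
def n23779 : Q := act 1 n19412
theorem D23779 : act 1 n19412 = n23779 := rfl
theorem F47596 : act 3 n23779 = n23734 := d7_2 (iv F36324) D23779 (iv D23734)
theorem F47597 : act 4 n23779 = n20100 := d8_2 (iv F36325) D23779 (iv D20100)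
def n23780 : Q := act 0 n19414
theorem D23780 : act 0 n19414 = n23780 := rfl
def n23781 : Q := act 2 n19414
theorem D23781 : act 2 n19414 = n23781 := rfl
theorem F47598 : act 1 n23781 = n19491 := d6_1 D23781 F36520 (iv D14317) (iv F24799) D19414
theorem F47599 : act 3 n19457 = n23781 := d7_0 F47598 (iv F40622) F40626
theorem F47600 : act 6 n19455 = n23781 := d10_0 F47598 (iv F40349) F40346 F36212 (iv F36422)
def n23782 : Q := act 3 n19414
theorem D23782 : act 3 n19414 = n23782 := rfl
theorem F47601 : act 1 n23782 = n19415 := d7_1 D23782 (iv D19415) D19414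
def n23783 : Q := act 4 n19414
theorem D23783 : act 4 n19414 = n23783 := rfl
theorem F47602 : act 1 n23783 = n19416 := d8_1 D23783 (iv D19416) D19414
def n23784 : Q := act 6 n19414
theorem D23784 : act 6 n19414 = n23784 := rfl
theorem F47603 : act 2 n23784 = n19455 := d14_1 D23784 F47600 (iv D23781)
theorem F47604 : act 1 n19498 = n23784 := d6_5 F47603 F36422 F24915 (iv F24967) D19498
def n23785 : Q := act 4 n19415
theorem D23785 : act 4 n19415 = n23785 := rfl
theorem F47605 : act 0 n23785 = n19419 := d3_1 D23785 (iv D19419) (iv F36333)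
theorem F47606 : act 2 n23785 = n22783 := d12_1 D23785 F44895 (iv F36334)
theorem F47607 : act 5 n23785 = n22782 := d18_2 F36335 D23785 F44893
def n23786 : Q := act 5 n19416
theorem D23786 : act 5 n19416 = n23786 := rfl
theorem F47608 : act 0 n23786 = n19421 := d4_1 D23786 (iv D19421) (iv F36336)
theorem F47609 : act 2 n23786 = n19513 := d13_1 D23786 (iv D19513) (iv F36337)
theorem F47610 : act 4 n23786 = n19417 := d18_1 D23786 (iv D19417) D19416
theorem F47611 : act 6 n23786 = n22815 := d22_1 D23786 F45000 (iv D19422) (iv F36336)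
theorem F47612 : act 1 n22702 = n23786 := d10_5 F47611 F44997 (iv F44399) F44394 D22702
def n23787 : Q := act 6 n19416
theorem D23787 : act 6 n19416 = n23787 := rfl
theorem F47613 : act 0 n23787 = n19422 := d5_1 D23787 (iv D19422) (iv F36336)
theorem F47614 : act 2 n23787 = n19514 := d14_1 D23787 (iv D19514) (iv F36337)
theorem F47615 : act 4 n23787 = n19418 := d19_1 D23787 (iv D19418) D19416
def n23788 : Q := act 1 n19418
theorem D23788 : act 1 n19418 = n23788 := rfl
theorem F47616 : act 3 n23788 = n22973 := d7_2 F44990 D23788 F45479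
theorem F47617 : act 6 n23788 = n19498 := d10_2 D19418 D23788 F47604 (iv D23784) (iv D19414)
theorem F47618 : act 5 n22972 = n23788 := d24_1 (iv F45478) (iv D23788) (iv D19418) D19417 F36342 (iv D17813) (iv D13065) F18517 (iv F17490) F14604 (iv F17602) D11969 (iv F35973) (iv F33099)
theorem F47619 : act 2 n23788 = n19500 := d13_1 F47618 F36545 (iv F45477)
def n23789 : Q := act 5 n19419
theorem D23789 : act 5 n19419 = n23789 := rfl
theorem F47620 : act 0 n23789 = n22782 := d4_1 D23789 (iv F47607) F47605
theorem F47621 : act 2 n23789 = n22780 := d13_1 D23789 F44888 F44879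
theorem F47622 : act 4 n23789 = n19420 := d18_1 D23789 (iv D19420) D19419
theorem F47623 : act 6 n23789 = n22779 := d22_3 (iv F44877) (iv F44878) D23789 F44883
def n23790 : Q := act 6 n19421
theorem D23790 : act 6 n19421 = n23790 := rfl
theorem F47624 : act 0 n23790 = n22815 := d5_1 D23790 (iv F47611) F47608
theorem F47625 : act 2 n23790 = n19519 := d14_1 D23790 (iv D19519) (iv F36350)
theorem F47626 : act 4 n23790 = n19423 := d19_1 D23790 (iv D19423) (iv F36351)
theorem F47627 : act 5 n23790 = n23787 := d20_1 D23790 (iv D23787) D23786 F47611 F45000 (iv D19422) D19421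
def n23791 : Q := act 1 n19423
theorem D23791 : act 1 n19423 = n23791 := rfl
theorem F47628 : act 3 n23791 = n22814 := d7_2 (iv F36357) D23791 (iv D22814)
def n23792 : Q := act 1 n19425
theorem D23792 : act 1 n19425 = n23792 := rfl
def n23793 : Q := act 1 n19426
theorem D23793 : act 1 n19426 = n23793 := rfl
theorem F47629 : act 3 n23793 = n19636 := d7_2 (iv F36365) D23793 (iv D19636)
theorem F47630 : act 4 n23793 = n19427 := d8_2 (iv F36366) D23793 (iv D19427)
theorem F47631 : act 6 n23793 = n19429 := d10_2 D19426 D23793 (iv D19429) (iv D14233) (iv F24874)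
def n23794 : Q := act 0 n19427
theorem D23794 : act 0 n19427 = n23794 := rfl
theorem F47632 : act 6 n23794 = n19430 := d5_2 (iv F36368) D23794 (iv D19430)
def n23795 : Q := act 2 n19427
theorem D23795 : act 2 n19427 = n23795 := rfl
theorem F47633 : act 6 n23795 = n19431 := d14_2 (iv F36368) D23795 (iv D19431)
theorem F47634 : act 5 n19427 = n23795 := d22_0 F47633 (iv F36375) (iv F47632) (iv D23794)
def n23796 : Q := act 1 n19428
theorem D23796 : act 1 n19428 = n23796 := rfl
theorem F47635 : act 4 n23796 = n23792 := d8_2 (iv F36371) D23796 (iv D23792)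
def n23797 : Q := act 2 n19429
theorem D23797 : act 2 n19429 = n23797 := rfl
theorem F47636 : act 1 n23797 = n20875 := d6_1 D23797 F47460 (iv D23740) F36169 D19429
theorem F47637 : act 4 n23797 = n19431 := d12_2 (iv F36374) D23797 (iv D19431)
theorem F47638 : act 3 n23797 = n19508 := d21_1 D23797 F36568 F47511 (iv D23752) (iv D19372) (iv F24984) (iv F36565) F36564
theorem F47639 : act 5 n19507 = n23797 := d23_0 (iv D23797) (iv D19429) F24878 (iv F34898) (iv D14171) (iv D11089) (iv F19181) F19182 (iv D8321) F16900 F6059 D3978 (iv F12393) D11089 D14170 (iv F36172) F36169 D19429 (iv F36564)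
def n23798 : Q := act 5 n19429
theorem D23798 : act 5 n19429 = n23798 := rfl
theorem F47640 : act 0 n23798 = n23797 := d4_1 D23798 (iv F47639) F36564
theorem F47641 : act 1 n23798 = n19511 := d9_1 D23798 F36580 (iv D19434) F24884 D19429
theorem F47642 : act 2 n23798 = n19507 := d13_1 D23798 F47639 (iv D23797)
theorem F47643 : act 3 n23798 = n20885 := d16_1 D23798 F40113 (iv F36373)
theorem F47644 : act 4 n23798 = n19432 := d18_1 D23798 (iv D19432) (iv F36374)
theorem F47645 : act 6 n19516 = n23798 := d24_0 (iv D23798) (iv D19429) (iv D14233) D14232 F29113 (iv F19764) (iv D11145) D11144 F19762 D11150 (iv F19817) D14324 F24998 D19516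
def n23799 : Q := act 3 n19431
theorem D23799 : act 3 n19431 = n23799 := rfl
theorem F47646 : act 0 n23799 = n21046 := d2_1 D23799 F40548 F36376
theorem F47647 : act 4 n23799 = n23757 := d15_2 F47637 D23799 F47523 (iv F36569) (iv F47638)
theorem F47648 : act 5 n23799 = n21044 := d16_2 F36375 D23799 F40546
theorem F47649 : act 2 n23799 = n23759 := d23_1 (iv F47648) F47525 F36237 D19385 F36251 F24931 F34304 (iv D11936) F17577 (iv F17672) (iv F21233) (iv F21236) (iv F27495) F34325 F27439 F27437 F27430 D15888 D21044
def n23800 : Q := act 6 n19432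
theorem D23800 : act 6 n19432 = n23800 := rfl
theorem F47650 : act 0 n23800 = n23795 := d5_1 D23800 F47633 (iv F36376)
theorem F47651 : act 1 n23800 = n19514 := d10_1 D23800 (iv D19514) (iv F36571) (iv F36573) F36392
theorem F47652 : act 2 n23800 = n23794 := d14_1 D23800 F47632 (iv F36377)
theorem F47653 : act 3 n23800 = n20890 := d17_1 D23800 F40549 F40548
theorem F47654 : act 4 n23800 = n19516 := d19_1 D23800 F47645 F47644
theorem F47655 : act 5 n23800 = n23794 := d20_1 D23800 F47632 F36375 (iv F47633) (iv F47634) F36368 D19432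
def n23801 : Q := act 0 n19434
theorem D23801 : act 0 n19434 = n23801 := rfl
theorem F47656 : act 1 n23801 = n23799 := d0_2 D19434 D23801 F47646 (iv F40562) F40561 (iv D19404) F24762 (iv F24749) F34895
theorem F47657 : act 2 n23801 = n19467 := d1_2 (iv F36381) D23801 (iv F36506)
theorem F47658 : act 3 n23801 = n20909 := d2_2 F40081 D23801 F40184
theorem F47659 : act 4 n23801 = n19436 := d3_2 (iv F36382) D23801 (iv D19436)
theorem F47660 : act 6 n23801 = n19510 := d5_2 (iv F36383) D23801 F36574
def n23802 : Q := act 5 n19437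
theorem D23802 : act 5 n19437 = n23802 := rfl
theorem F47661 : act 0 n23802 = n19468 := d4_1 D23802 (iv D19468) (iv F36497)
theorem F47662 : act 1 n23802 = n23749 := d9_1 D23802 F47503 (iv F40404) (iv D20990) (iv F36498)
theorem F47663 : act 2 n23802 = n19438 := d13_1 D23802 (iv D19438) D19437
theorem F47664 : act 3 n23802 = n20990 := d16_1 D23802 (iv D20990) (iv F36499)
theorem F47665 : act 4 n23802 = n20976 := d18_1 D23802 (iv D20976) (iv F36390)
def n23803 : Q := act 5 n19443
theorem D23803 : act 5 n19443 = n23803 := rfl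
theorem F47666 : act 0 n23803 = n23788 := d4_1 D23803 (iv F47618) F45476
theorem F47667 : act 2 n23803 = n19444 := d13_1 D23803 (iv D19444) D19443
theorem F47668 : act 3 n23803 = n22976 := d16_1 D23803 F45491 F45475
theorem F47669 : act 6 n23803 = n22975 := d20_2 F40019 D23803 (iv D22975) (iv F45478) F47618 F47617 F40022
def n23804 : Q := act 0 n19447
theorem D23804 : act 0 n19447 = n23804 := rfl
theorem F47670 : act 4 n23804 = n19636 := d3_2 F36547 D23804 (iv F36935)
theorem F47671 : act 6 n23804 = n19504 := d5_2 (iv F36407) D23804 (iv D19504)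
theorem F47672 : act 1 n19627 = n23804 := d10_5 F47671 (iv F36560) (iv F29078) (iv F25182) D19627
def n23805 : Q := act 4 n19448
theorem D23805 : act 4 n19448 = n23805 := rfl
theorem F47673 : act 2 n23805 = n19449 := d12_1 D23805 (iv D19449) D19448
def n23806 : Q := act 5 n19449
theorem D23806 : act 5 n19449 = n23806 := rfl
theorem F47674 : act 0 n23806 = n20979 := d4_1 D23806 (iv F40440) (iv F40442)
theorem F47675 : act 3 n23806 = n20987 := d16_1 D23806 (iv F40400) F40398
theorem F47676 : act 4 n23806 = n19450 := d18_1 D23806 (iv D19450) D19449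
theorem F47677 : act 6 n23806 = n20977 := d20_2 F40318 D23806 F40353 (iv F40441) F40440 (iv D20979) (iv F40317)
def n23807 : Q := act 1 n19450
theorem D23807 : act 1 n19450 = n23807 := rfl
theorem F47678 : act 2 n23807 = n19473 := d6_2 (iv F47542) D23807 (iv D19473) (iv F36240) D23764
theorem F47679 : act 3 n23807 = n19451 := d7_2 (iv F36409) D23807 (iv D19451)
theorem F47680 : act 5 n23807 = n19462 := d9_2 D19450 D23807 (iv D19462) (iv D14266) (iv F24901)
theorem F47681 : act 6 n23807 = n19473 := d10_2 F36466 D23807 (iv D19473) (iv F24938) D19479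
def n23808 : Q := act 5 n19454
theorem D23808 : act 5 n19454 = n23808 := rfl
theorem F47682 : act 0 n23808 = n19456 := d4_1 D23808 (iv D19456) D19454
theorem F47683 : act 1 n23808 = n19632 := d9_1 D23808 (iv D19632) F25186 (iv F34434) (iv F36488)
theorem F47684 : act 4 n23808 = n19641 := d18_1 D23808 F36947 F36487
def n23809 : Q := act 6 n19454
theorem D23809 : act 6 n19454 = n23809 := rfl
theorem F47685 : act 0 n23809 = n19457 := d5_1 D23809 (iv D19457) D19454
theorem F47686 : act 1 n23809 = n20960 := d10_1 D23809 (iv D20960) (iv D15747) D15748 (iv F36488)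
theorem F47687 : act 4 n23809 = n20967 := d19_1 D23809 F40330 F36487
theorem F47688 : act 5 n23809 = n20964 := d22_2 (iv D23808) D23809 F40324 (iv F47682)
def n23810 : Q := act 5 n19457
theorem D23810 : act 5 n19457 = n23810 := rfl
theorem F47689 : act 0 n23810 = n20964 := d4_1 D23810 (iv F47688) F47685
theorem F47690 : act 4 n23810 = n20965 := d18_1 D23810 F40326 F36438
theorem F47691 : act 6 n23810 = n23808 := d20_2 D19457 D23810 (iv D23808) D23809 F47688 F40324 (iv D19456)
def n23811 : Q := act 2 n19462
theorem D23811 : act 2 n19462 = n23811 := rfl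
theorem F47692 : act 1 n23811 = n19468 := d6_1 D23811 (iv F40105) F40104 F36312 D19462
theorem F47693 : act 4 n23811 = n19488 := d12_2 F36490 D23811 F40416
theorem F47694 : act 5 n23811 = n19473 := d13_2 F47680 D23811 (iv F47678)
theorem F47695 : act 3 n23811 = n20967 := d21_7 F36437 F47588 (iv D23776) (iv D19408) (iv F24922) (iv F36434) D23811 F40328
theorem F47696 : act 6 n19485 = n23811 := d17_0 F47695 F40330 (iv F36483)
def n23812 : Q := act 6 n19462
theorem D23812 : act 6 n19462 = n23812 := rfl
theorem F47697 : act 0 n23812 = n23811 := d5_1 D23812 (iv F47696) F36482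
theorem F47698 : act 1 n23812 = n20959 := d10_1 D23812 (iv F40309) F40222 F27220 D19462
theorem F47699 : act 2 n23812 = n19485 := d14_1 D23812 F47696 (iv D23811)
theorem F47700 : act 3 n23812 = n19464 := d17_1 D23812 (iv D19464) (iv F36434)
theorem F47701 : act 4 n23812 = n19487 := d19_1 D23812 (iv F40415) F36490
def n23813 : Q := act 3 n19467
theorem D23813 : act 3 n19467 = n23813 := rfl
theorem F47702 : act 0 n23813 = n20954 := d2_1 D23813 F40285 F36506
theorem F47703 : act 1 n23813 = n19470 := d7_1 D23813 (iv D19470) (iv F36441)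
theorem F47704 : act 4 n23813 = n20980 := d15_2 D19467 D23813 F40359 F27322 (iv F24923)
theorem F47705 : act 5 n23813 = n21070 := d16_2 F36532 D23813 F40636
theorem F47706 : act 6 n23813 = n20952 := d17_2 (iv F36509) D23813 F40277
def n23814 : Q := act 1 n19469
theorem D23814 : act 1 n19469 = n23814 := rfl
theorem F47707 : act 3 n23814 = n20992 := d7_2 (iv F36443) D23814 (iv D20992)
theorem F47708 : act 4 n23814 = n20975 := d8_2 F36510 D23814 (iv D20975)
theorem F47709 : act 6 n23814 = n19474 := d10_2 D19469 D23814 (iv D19474) (iv D14271) D14268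
theorem F47710 : act 2 n22694 = n23814 := d14_3 F47709 F39862 D22694
theorem F47711 : act 0 n23814 = n22709 := d1_1 F47710 (iv D22709) F44642
theorem F47712 : act 2 n20881 = n22674 := d6_4 F47710 (iv D23814) F36512 D20881 (iv F44640)
theorem F47713 : act 2 n20975 = n22710 := d12_3 F44695 F47710 F47708
theorem F47714 : act 5 n22709 = n20975 := d13_0 F47713 (iv D22710) D22709
theorem F47715 : act 6 n22672 = n20881 := d14_0 F47712 (iv D22674) D22672
def n23815 : Q := act 5 n19469
theorem D23815 : act 5 n19469 = n23815 := rfl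
theorem F47716 : act 0 n23815 = n19489 := d4_1 D23815 F36494 (iv F36496)
theorem F47717 : act 2 n23815 = n19509 := d13_1 D23815 (iv F36572) (iv F36512)
theorem F47718 : act 3 n23815 = n20993 := d16_1 D23815 (iv D20993) (iv F36443)
theorem F47719 : act 4 n23815 = n19491 := d18_1 D23815 F36515 F36510
theorem F47720 : act 6 n23815 = n23802 := d20_2 D19469 D23815 (iv D23802) F36391 (iv F36494) F36495 (iv D19468)
def n23816 : Q := act 2 n19470
theorem D23816 : act 2 n19470 = n23816 := rfl
theorem F47721 : act 0 n23816 = n19475 := d1_1 D23816 (iv D19475) (iv F36444)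
theorem F47722 : act 4 n23816 = n20981 := d12_2 (iv F36445) D23816 (iv D20981)
theorem F47723 : act 5 n23816 = n20973 := d13_2 F36446 D23816 (iv D20973)
theorem F47724 : act 6 n23816 = n22398 := d14_2 F40343 D23816 F43805
def n23817 : Q := act 1 n19471
theorem D23817 : act 1 n19471 = n23817 := rfl
theorem F47725 : act 3 n23817 = n20972 := d7_2 (iv F36448) D23817 (iv D20972)
theorem F47726 : act 4 n23817 = n19473 := d8_2 (iv F36449) D23817 (iv D19473)
theorem F47727 : act 5 n23817 = n19488 := d9_2 D19471 D23817 (iv F36530) F36532 F36441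
def n23818 : Q := act 1 n19472
theorem D23818 : act 1 n19472 = n23818 := rfl
theorem F47728 : act 2 n23818 = n22658 := d6_2 F47535 D23818 (iv D22658) (iv F44542) F47538
theorem F47729 : act 3 n23818 = n20999 := d7_2 F40342 D23818 F40429
theorem F47730 : act 4 n23818 = n19474 := d8_2 (iv F36451) D23818 (iv D19474)
theorem F47731 : act 5 n23818 = n19474 := d9_2 F36461 D23818 (iv D19474) (iv F24935) (iv F36458)
theorem F47732 : act 6 n23818 = n20975 := d10_2 D19472 D23818 (iv D20975) (iv F36509) F36441
def n23819 : Q := act 0 n19473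
theorem D23819 : act 0 n19473 = n23819 := rfl
theorem F47733 : act 3 n23819 = n20965 := d2_2 (iv F36452) D23819 (iv D20965)
theorem F47734 : act 5 n23819 = n23812 := d4_2 F47694 D23819 F47697
def n23820 : Q := act 0 n19474
theorem D23820 : act 0 n19474 = n23820 := rfl
theorem F47735 : act 2 n23820 = n22693 := d1_2 (iv F39862) D23820 (iv D22693)
theorem F47736 : act 3 n23820 = n20997 := d2_2 (iv F36453) D23820 (iv D20997)
theorem F47737 : act 6 n23820 = n22709 := d5_2 F47709 D23820 (iv F47711)
def n23821 : Q := act 3 n19475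
theorem D23821 : act 3 n19475 = n23821 := rfl
theorem F47738 : act 1 n23821 = n22980 := d7_1 D23821 F45500 F36533
theorem F47739 : act 5 n23821 = n20974 := d16_2 (iv F36455) D23821 (iv D20974)
theorem F47740 : act 2 n23664 = n23821 := d13_3 F47739 F46934 D23664
def n23822 : Q := act 6 n19475
theorem D23822 : act 6 n19475 = n23822 := rfl
theorem F47741 : act 0 n23822 = n22398 := d5_1 D23822 (iv F47724) F47721
theorem F47742 : act 2 n23822 = n19476 := d14_1 D23822 (iv D19476) D19475
theorem F47743 : act 4 n23822 = n20983 := d19_1 D23822 (iv D20983) (iv F36454)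
theorem F47744 : act 5 n23822 = n22396 := d20_1 D23822 F43800 (iv F47723) F47724 (iv D22398) F39767 (iv F36455)
def n23823 : Q := act 1 n19481
theorem D23823 : act 1 n19481 = n23823 := rfl
def n23824 : Q := act 1 n19482
theorem D23824 : act 1 n19482 = n23824 := rfl
theorem F47745 : act 3 n23824 = n19641 := d7_2 (iv F36474) D23824 (iv D19641)
theorem F47746 : act 4 n23824 = n19483 := d8_2 (iv F36475) D23824 (iv D19483)
theorem F47747 : act 5 n23824 = n19485 := d9_2 D19482 D23824 (iv D19485) (iv D14283) (iv F24939)
theorem F47748 : act 0 n23824 = n23807 := d23_3 (iv F36481) F36479 D23824 F47680 D23811 F47692 (iv F47661) (iv D23802) (iv D19437) (iv D14242) (iv F19763) (iv D11145) (iv F19562) D14104 D19361 F36186 F24714 (iv F24939) (iv F36468)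
theorem F47749 : act 6 n23824 = n23819 := d24_3 (iv F35088) D19482 D23824 F47734 F47698 (iv F40309) (iv F40223) (iv F27310) (iv D15784) (iv F24957) (iv D14297) F19797 (iv D11165) D11163
theorem F47750 : act 2 n23819 = n23824 := d23_1 (iv F47734) (iv D23824) (iv F36478) F36481 F36469 F24939 F19787 D11168 (iv F34510) (iv D14104) (iv F24610) (iv F24622) F24621 D14242 D19436 (iv F40107) F40105 (iv F47692) (iv F47697)
def n23825 : Q := act 0 n19483
theorem D23825 : act 0 n19483 = n23825 := rfl
theorem F47751 : act 4 n23825 = n23807 := d3_2 F47746 D23825 (iv F47748)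
theorem F47752 : act 5 n23825 = n19486 := d4_2 (iv F36477) D23825 (iv D19486)
theorem F47753 : act 6 n23817 = n23825 := d22_3 F36477 D19488 (iv F47727) (iv D23825)
theorem F47754 : act 1 n23825 = n23806 := d10_1 F47753 F47677 F40350 F36464 D23817
theorem F47755 : act 2 n23817 = n23825 := d13_3 F47752 (iv F40416) (iv F47727)
def n23826 : Q := act 2 n19483
theorem D23826 : act 2 n19483 = n23826 := rfl
theorem F47756 : act 0 n23826 = n23817 := d1_1 D23826 F47755 (iv D23825)
theorem F47757 : act 4 n23826 = n23819 := d12_2 F47746 D23826 F47750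
theorem F47758 : act 5 n23826 = n19487 := d13_2 (iv F36477) D23826 (iv D19487)
theorem F47759 : act 6 n19483 = n23826 := d20_0 F47758 (iv F40415) (iv F47752) (iv F47753) F47727 (iv D19488) (iv F36477)
def n23827 : Q := act 1 n19484
theorem D23827 : act 1 n19484 = n23827 := rfl
theorem F47760 : act 0 n23827 = n20999 := d0_1 D23827 F40429 F40341 (iv F36535) F36534 D23807 (iv F47748) (iv D23824) (iv F36478)
theorem F47761 : act 4 n23827 = n23823 := d8_2 (iv F36480) D23827 (iv D23823)
theorem F47762 : act 5 n20997 = n23827 := d4_0 F47760 (iv D20999) D20997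
def n23828 : Q := act 3 n19487
theorem D23828 : act 3 n19487 = n23828 := rfl
theorem F47763 : act 0 n23828 = n21067 := d2_1 D23828 F40620 F40414
theorem F47764 : act 1 n23828 = n23815 := d7_1 D23828 F47718 (iv F40413)
theorem F47765 : act 4 n23828 = n23781 := d15_2 F47701 D23828 (iv F47599) (iv F36438) (iv F47700)
theorem F47766 : act 6 n23828 = n21065 := d17_2 F40415 D23828 F40618
theorem F47767 : act 2 n23783 = n23828 := d12_3 F47765 (iv D23781) D23783
def n23829 : Q := act 6 n19492
theorem D23829 : act 6 n19492 = n23829 := rfl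
theorem F47768 : act 0 n23829 = n19511 := d5_1 D23829 (iv D19511) F36518
theorem F47769 : act 1 n23829 = n23773 := d10_1 D23829 F47581 F40461 (iv D20906) (iv F36519)
theorem F47770 : act 2 n23829 = n19493 := d14_1 D23829 (iv D19493) D19492
theorem F47771 : act 3 n23829 = n20906 := d17_1 D23829 (iv D20906) (iv F36521)
theorem F47772 : act 4 n23829 = n20882 := d19_1 D23829 (iv D20882) (iv F36516)
theorem F47773 : act 5 n23829 = n23801 := d20_1 D23829 F47660 (iv D19510) D19511 F36580 F36383 (iv F36517)
def n23830 : Q := act 6 n19494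
theorem D23830 : act 6 n19494 = n23830 := rfl
theorem F47774 : act 0 n23830 = n23764 := d5_1 D23830 F47541 F45501
theorem F47775 : act 2 n23830 = n19495 := d14_1 D23830 (iv D19495) D19494
theorem F47776 : act 3 n23830 = n22985 := d17_1 D23830 F45516 F45500
theorem F47777 : act 5 n23830 = n22984 := d20_1 D23830 (iv D22984) (iv F45503) (iv F47541) F47540 F39866 (iv F39865)
def n23831 : Q := act 4 n19498
theorem D23831 : act 4 n19498 = n23831 := rfl
theorem F47778 : act 2 n23831 = n19499 := d12_1 D23831 (iv D19499) D19498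
def n23832 : Q := act 6 n19499
theorem D23832 : act 6 n19499 = n23832 := rfl
theorem F47779 : act 0 n23832 = n20895 := d5_1 D23832 (iv F40213) F40214
theorem F47780 : act 1 n23832 = n23794 := d10_1 D23832 F47632 (iv F36567) (iv D19506) (iv F36542)
theorem F47781 : act 3 n23832 = n20903 := d17_1 D23832 (iv F40176) F40174
theorem F47782 : act 4 n23832 = n19500 := d19_1 D23832 (iv D19500) D19499
theorem F47783 : act 5 n23832 = n20893 := d20_1 D23832 F40131 (iv F40212) F40213 (iv D20895) (iv F40089) F40088
def n23833 : Q := act 1 n19500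
theorem D23833 : act 1 n19500 = n23833 := rfl
theorem F47784 : act 2 n23833 = n19516 := d6_2 F47619 D23833 (iv D19516) (iv F36344) D23788
theorem F47785 : act 3 n23833 = n19501 := d7_2 (iv F36544) D23833 (iv D19501)
theorem F47786 : act 4 n23833 = n23794 := d8_2 F47782 D23833 (iv F47780)
theorem F47787 : act 5 n23833 = n19516 := d9_2 (iv F36545) D23833 (iv D19516) (iv F24998) F36404
theorem F47788 : act 6 n23833 = n19507 := d10_2 D19500 D23833 (iv D19507) (iv D14315) (iv F24967)
theorem F47789 : act 0 n23793 = n23833 := d5_3 F47788 F36564 (iv F47631)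
theorem F47790 : act 0 n20915 = n23796 := d0_7 D23793 F47789 (iv D23833) F36543 (iv F36595) (iv F40124) (iv F40201) (iv D23796) F36369
theorem F47791 : act 6 n23796 = n20913 := d5_2 D20915 F47790 (iv D20913)
def n23834 : Q := act 5 n19504
theorem D23834 : act 5 n19504 = n23834 := rfl
theorem F47792 : act 0 n23834 = n19505 := d4_1 D23834 (iv D19505) D19504
theorem F47793 : act 1 n23834 = n20876 := d9_1 D23834 (iv D20876) (iv D15621) D15622 F36560
theorem F47794 : act 4 n23834 = n20885 := d18_1 D23834 F40113 (iv F36559)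
theorem F47795 : act 6 n23834 = n20880 := d22_1 D23834 F40102 F36407 D19504
def n23835 : Q := act 6 n19505
theorem D23835 : act 6 n19505 = n23835 := rfl
theorem F47796 : act 0 n23835 = n20880 := d5_1 D23835 (iv F47795) F47792
theorem F47797 : act 4 n23835 = n20883 := d19_1 D23835 (iv F40109) F36569
theorem F47798 : act 5 n23835 = n23804 := d20_1 D23835 F47671 D23834 F47795 F40102 F36407 D19505
def n23836 : Q := act 3 n19509
theorem D23836 : act 3 n19509 = n23836 := rfl
theorem F47799 : act 0 n23836 = n20869 := d2_1 D23836 F40063 (iv F36570)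
theorem F47800 : act 1 n23836 = n19512 := d7_1 D23836 (iv D19512) (iv F36571)
theorem F47801 : act 4 n23836 = n20896 := d15_2 D19509 D23836 F40137 F27167 (iv F24985)
theorem F47802 : act 5 n23836 = n20867 := d16_2 F36572 D23836 F40057
theorem F47803 : act 6 n23836 = n21049 := d17_2 F36573 D23836 F40564
def n23837 : Q := act 1 n19510
theorem D23837 : act 1 n19510 = n23837 := rfl
theorem F47804 : act 2 n23837 = n22671 := d6_2 (iv F36575) D23837 (iv F44693) (iv F47713) (iv D20975)
theorem F47805 : act 3 n23837 = n20908 := d7_2 (iv F36576) D23837 (iv D20908)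
theorem F47806 : act 4 n23837 = n20881 := d8_2 (iv F36577) D23837 (iv D20881)
theorem F47807 : act 5 n23837 = n19515 := d9_2 D19510 D23837 (iv D19515) (iv D14319) D14317
theorem F47808 : act 0 n22672 = n23837 := d1_3 F47804 (iv D22671) D22672
def n23838 : Q := act 2 n19512
theorem D23838 : act 2 n19512 = n23838 := rfl
theorem F47809 : act 0 n23838 = n19517 := d1_1 D23838 (iv D19517) (iv F36581)
theorem F47810 : act 4 n23838 = n20897 := d12_2 (iv F36582) D23838 (iv D20897)
theorem F47811 : act 5 n23838 = n22193 := d13_2 F40126 D23838 F43252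
theorem F47812 : act 6 n23838 = n20891 := d14_2 F36583 D23838 (iv D20891)
def n23839 : Q := act 1 n19513
theorem D23839 : act 1 n19513 = n23839 := rfl
theorem F47813 : act 2 n23839 = n22703 := d6_2 F47609 D23839 (iv D22703) (iv F44667) F47612
theorem F47814 : act 3 n23839 = n20915 := d7_2 F40125 D23839 F40201
theorem F47815 : act 4 n23839 = n19515 := d8_2 (iv F36585) D23839 (iv D19515)
theorem F47816 : act 5 n23839 = n20881 := d9_2 D19513 D23839 (iv D20881) F36572 F36571
theorem F47817 : act 6 n23839 = n19515 := d10_2 F36604 D23839 (iv D19515) (iv F25001) (iv F36601)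
def n23840 : Q := act 0 n19515
theorem D23840 : act 0 n19515 = n23840 := rfl
theorem F47818 : act 2 n23840 = n22673 := d1_2 (iv F36589) D23840 F44589
theorem F47819 : act 3 n23840 = n20913 := d2_2 (iv F36590) D23840 (iv D20913)
theorem F47820 : act 5 n23840 = n22672 := d4_2 F47807 D23840 F47808
def n23841 : Q := act 0 n19516
theorem D23841 : act 0 n19516 = n23841 := rfl
theorem F47821 : act 2 n23841 = n23793 := d1_2 F47784 D23841 F47789
theorem F47822 : act 3 n23841 = n20883 := d2_2 (iv F36591) D23841 (iv D20883)
theorem F47823 : act 4 n23841 = n23795 := d3_2 F47654 D23841 (iv F47650)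
theorem F47824 : act 5 n23841 = n23793 := d4_2 F47787 D23841 F47789
theorem F47825 : act 6 n23841 = n23797 := d5_2 (iv F47645) D23841 (iv F47640)
def n23842 : Q := act 3 n19517
theorem D23842 : act 3 n19517 = n23842 := rfl
theorem F47826 : act 1 n23842 = n22971 := d7_1 D23842 F45475 (iv F36592)
theorem F47827 : act 6 n23842 = n20892 := d17_2 (iv F36594) D23842 (iv D20892)
theorem F47828 : act 2 n23716 = n23842 := d14_3 F47827 F44099 D23716
def n23843 : Q := act 5 n19517
theorem D23843 : act 5 n19517 = n23843 := rfl
theorem F47829 : act 0 n23843 = n22193 := d4_1 D23843 (iv F47811) F47809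
theorem F47830 : act 2 n23843 = n19518 := d13_1 D23843 (iv D19518) D19517
theorem F47831 : act 4 n23843 = n20899 := d18_1 D23843 (iv D20899) (iv F36593)
theorem F47832 : act 6 n23843 = n22191 := d20_2 (iv F36594) D23843 F43247 (iv F47812) F47811 (iv D22193) F39723
def n23844 : Q := act 0 n19523
theorem D23844 : act 0 n19523 = n23844 := rfl
theorem F47833 : act 3 n23844 = n22116 := d2_2 (iv F36613) D23844 (iv F43045)
theorem F47834 : act 4 n23844 = n19531 := d3_2 (iv F36614) D23844 (iv D19531)
theorem F47835 : act 6 n23844 = n23844 := d5_2 F36615 D23844 (iv D23844)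
theorem F47836 : act 1 n22115 = n23844 := d8_3 F47834 (iv F36642) (iv F43041)
def n23845 : Q := act 2 n19523
theorem D23845 : act 2 n19523 = n23845 := rfl
theorem F47837 : act 1 n23845 = n19551 := d6_1 D23845 (iv D19551) (iv D14353) (iv F25014) D19523
theorem F47838 : act 4 n23845 = n19532 := d12_2 (iv F36614) D23845 (iv D19532)
theorem F47839 : act 6 n23845 = n23845 := d14_2 F36615 D23845 (iv D23845)
def n23846 : Q := act 5 n19523
theorem D23846 : act 5 n19523 = n23846 := rfl
theorem F47840 : act 1 n23846 = n21089 := d9_1 D23846 F40703 (iv D19522) (iv F25017) D19523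
theorem F47841 : act 3 n23846 = n22735 := d16_1 D23846 (iv D22735) (iv F36613)
theorem F47842 : act 4 n23846 = n19533 := d18_1 D23846 (iv D19533) (iv F36614)
def n23847 : Q := act 0 n19524
theorem D23847 : act 0 n19524 = n23847 := rfl
theorem F47843 : act 1 n23847 = n22326 := d0_2 D19524 D23847 F43583 F39157 (iv F43039) F47836 (iv D23844) (iv D19523) (iv F25018)
theorem F47844 : act 3 n23847 = n22327 := d2_2 (iv F36616) D23847 F43587
theorem F47845 : act 4 n23847 = n19534 := d3_2 (iv F36617) D23847 (iv D19534)
theorem F47846 : act 5 n23847 = n23847 := d4_2 F36618 D23847 (iv D23847)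
def n23848 : Q := act 2 n19524
theorem D23848 : act 2 n19524 = n23848 := rfl
theorem F47847 : act 1 n23848 = n19555 := d6_1 D23848 (iv D19555) (iv D14356) (iv F25019) D19524
theorem F47848 : act 4 n23848 = n19535 := d12_2 (iv F36617) D23848 (iv D19535)
theorem F47849 : act 5 n23848 = n23848 := d13_2 F36618 D23848 (iv D23848)
def n23849 : Q := act 6 n19524
theorem D23849 : act 6 n19524 = n23849 := rfl
theorem F47850 : act 1 n23849 = n21084 := d10_1 D23849 F40682 (iv D19521) (iv F25022) D19524
theorem F47851 : act 3 n23849 = n22737 := d17_1 D23849 (iv D22737) (iv F36616)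
theorem F47852 : act 4 n23849 = n19536 := d19_1 D23849 (iv D19536) (iv F36617)
def n23850 : Q := act 6 n19525
theorem D23850 : act 6 n19525 = n23850 := rfl
theorem F47853 : act 1 n23850 = n22072 := d10_1 D23850 (iv D22072) F29625 (iv F33052) F36621
theorem F47854 : act 2 n23850 = n19589 := d14_1 D23850 F36817 F36783
theorem F47855 : act 3 n23850 = n19527 := d17_1 D23850 (iv D19527) (iv F36619)
theorem F47856 : act 4 n23850 = n20762 := d19_1 D23850 (iv D20762) (iv F36620)
theorem F47857 : act 5 n23850 = n19585 := d22_2 D19525 D23850 (iv D19585) F25135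
def n23851 : Q := act 5 n19526
theorem D23851 : act 5 n19526 = n23851 := rfl
theorem F47858 : act 0 n23851 = n23850 := d4_1 D23851 F47857 F36800
theorem F47859 : act 1 n23851 = n22286 := d9_1 D23851 (iv D22286) F29902 (iv F32994) F36624
theorem F47860 : act 2 n23851 = n19588 := d13_1 D23851 F36814 F36787
theorem F47861 : act 3 n23851 = n19528 := d16_1 D23851 (iv D19528) (iv F36622)
theorem F47862 : act 4 n23851 = n20817 := d18_1 D23851 (iv D20817) (iv F36623)
theorem F47863 : act 6 n23851 = n19584 := d20_2 D19526 D23851 (iv D19584) D19585 (iv F47857) (iv D23850) (iv D19525)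
def n23852 : Q := act 2 n19529
theorem D23852 : act 2 n19529 = n23852 := rfl
theorem F47864 : act 0 n23852 = n22119 := d1_1 D23852 (iv D22119) F36635
theorem F47865 : act 1 n23852 = n23636 := d6_1 D23852 F47173 F40518 F36625 D19529
theorem F47866 : act 4 n23852 = n22122 := d12_2 (iv F36633) D23852 (iv D22122)
theorem F47867 : act 6 n23852 = n23852 := d14_2 F36634 D23852 (iv D23852)
theorem F47868 : act 3 n23638 = n23852 := d7_0 F47865 F47174 D23638
def n23853 : Q := act 2 n19530
theorem D23853 : act 2 n19530 = n23853 := rfl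
theorem F47869 : act 0 n23853 = n22330 := d1_1 D23853 (iv D22330) (iv F36636)
theorem F47870 : act 1 n23853 = n23689 := d6_1 D23853 F47312 F40583 F36629 D19530
theorem F47871 : act 4 n23853 = n22333 := d12_2 (iv F36638) D23853 (iv D22333)
theorem F47872 : act 5 n23853 = n23853 := d13_2 F36639 D23853 (iv D23853)
theorem F47873 : act 3 n23691 = n23853 := d7_0 F47870 F47313 D23691
def n23854 : Q := act 2 n19531
theorem D23854 : act 2 n19531 = n23854 := rfl
theorem F47874 : act 0 n23854 = n19532 := d1_1 D23854 (iv D19532) D19531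
theorem F47875 : act 6 n23854 = n23854 := d14_2 F36641 D23854 (iv D23854)
def n23855 : Q := act 5 n19531
theorem D23855 : act 5 n19531 = n23855 := rfl
theorem F47876 : act 0 n23855 = n19533 := d4_1 D23855 (iv D19533) D19531
theorem F47877 : act 3 n23855 = n22120 := d16_1 D23855 (iv D22120) (iv F36640)
theorem F47878 : act 6 n23855 = n19533 := d22_1 D23855 (iv D19533) F25043 D19531
def n23856 : Q := act 3 n19532
theorem D23856 : act 3 n19532 = n23856 := rfl
theorem F47879 : act 1 n23856 = n19612 := d7_1 D23856 (iv D19612) (iv F36643)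
theorem F47880 : act 6 n23856 = n23856 := d17_2 F36644 D23856 (iv D23856)
theorem F47881 : act 2 n23856 = n22697 := d25_4 (iv F36633) F36632 D19532 D23856 (iv D22697) (iv F40476) F40475 F31976 (iv F35695) D23585 F47036 F42821 F37834 F33454 (iv D14191) F19669 (iv D11046) (iv D8264) (iv D3943) (iv D1892) F1646 F912 F496 (iv F912) D940 F1657 (iv F1638) D1876 F32842 (iv D2098) (iv D1030) F997 (iv F883) (iv F1586) F1585 D1783 F2897 D1810 D3755 (iv F16727) F32865 (iv F6172) F16727 (iv D3755) (iv D1810) (iv D897) (iv F1580) (iv F1585) F1586 F883 D535 (iv F1824) (iv F3365) D4417 D9144 D11442 D14838 (iv F32647) F24802 D14321 D19517 F36592 (iv F45475) (iv D22971) (iv F40434) F40433 F36399 (iv F36552) F36551 (iv D18520) (iv D13515) (iv D10757) (iv F19095) (iv F23726) (iv F31751) F31750 (iv F35131)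
def n23857 : Q := act 5 n19532
theorem D23857 : act 5 n19532 = n23857 := rfl
theorem F47882 : act 2 n23857 = n19533 := d13_1 D23857 (iv D19533) D19532
def n23858 : Q := act 2 n19534
theorem D23858 : act 2 n19534 = n23858 := rfl
theorem F47883 : act 0 n23858 = n19535 := d1_1 D23858 (iv D19535) D19534
theorem F47884 : act 5 n23858 = n23858 := d13_2 F36648 D23858 (iv D23858)
def n23859 : Q := act 6 n19534
theorem D23859 : act 6 n19534 = n23859 := rfl
theorem F47885 : act 0 n23859 = n19536 := d5_1 D23859 (iv D19536) D19534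
theorem F47886 : act 1 n23859 = n23855 := d10_1 D23859 F47878 F36645 F35113 (iv F36646)
theorem F47887 : act 3 n23859 = n22331 := d17_1 D23859 (iv D22331) (iv F36647)
theorem F47888 : act 5 n23859 = n19536 := d22_2 F36648 D23859 (iv D19536) D19534
def n23860 : Q := act 3 n19535
theorem D23860 : act 3 n19535 = n23860 := rfl
theorem F47889 : act 1 n23860 = n19621 := d7_1 D23860 (iv D19621) (iv F36649)
theorem F47890 : act 5 n23860 = n23860 := d16_2 F36650 D23860 (iv D23860)
theorem F47891 : act 2 n23860 = n22731 := d25_4 (iv F36638) F36637 D19535 D23860 (iv D22731) (iv F40241) F40240 F32001 (iv F35836) (iv F47029) F47030 F42707 F37738 F33408 (iv D14134) F19604 (iv D11023) (iv D8241) (iv D3933) (iv D1888) F1642 F907 F489 (iv F907) D936 F1652 (iv F1635) D1866 F32903 (iv D2090) (iv D1026) F991 (iv F879) (iv F1580) (iv F1585) D1787 F2902 D1818 D3774 (iv F17097) (iv F32710) (iv F6122) F17097 (iv D3774) (iv D1818) (iv D901) (iv F1586) F1585 F1580 F879 D531 (iv F1818) (iv F3360) D4409 D9127 D11436 D14826 (iv F32937) F24693 D14272 D19475 (iv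 F36533) (iv F45500) (iv D22980) (iv F40206) F40205 F36388 (iv F36414) F36413 (iv D18501) (iv D13507) (iv D10753) (iv F19090) (iv F23723) (iv F31757) F31756 (iv F35126)
def n23861 : Q := act 6 n19535
theorem D23861 : act 6 n19535 = n23861 := rfl
theorem F47892 : act 2 n23861 = n19536 := d14_1 D23861 (iv D19536) D19535
def n23862 : Q := act 2 n19537
theorem D23862 : act 2 n19537 = n23862 := rfl
theorem F47893 : act 0 n23862 = n19665 := d1_1 D23862 F36995 (iv F36655)
theorem F47894 : act 1 n23862 = n20108 := d6_1 D23862 (iv D20108) (iv D14916) (iv F25046) D19537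
theorem F47895 : act 4 n23862 = n19577 := d12_2 (iv F36653) D23862 (iv D19577)
theorem F47896 : act 5 n23862 = n19539 := d13_2 (iv F36654) D23862 (iv D19539)
def n23863 : Q := act 2 n19538
theorem D23863 : act 2 n19538 = n23863 := rfl
theorem F47897 : act 0 n23863 = n19681 := d1_1 D23863 F37028 F36659
theorem F47898 : act 1 n23863 = n20110 := d6_1 D23863 (iv D20110) (iv D14917) (iv F25050) D19538
theorem F47899 : act 4 n23863 = n19578 := d12_2 (iv F36657) D23863 (iv D19578)
theorem F47900 : act 6 n23863 = n19541 := d14_2 (iv F36658) D23863 (iv D19541)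
def n23864 : Q := act 3 n19539
theorem D23864 : act 3 n19539 = n23864 := rfl
theorem F47901 : act 0 n23864 = n23206 := d2_1 D23864 F46123 (iv F36660)
theorem F47902 : act 1 n23864 = n23196 := d7_1 D23864 F46098 (iv F36661)
theorem F47903 : act 4 n23864 = n23192 := d15_2 (iv F36662) D23864 (iv D23192) F33684 (iv F29142)
def n23865 : Q := act 6 n19539
theorem D23865 : act 6 n19539 = n23865 := rfl
theorem F47904 : act 0 n23865 = n23537 := d5_1 D23865 (iv D23537) (iv F36660)
theorem F47905 : act 2 n23865 = n19540 := d14_1 D23865 (iv D19540) D19539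
theorem F47906 : act 4 n23865 = n19582 := d19_1 D23865 (iv D19582) (iv F36662)
theorem F47907 : act 1 n21628 = n23865 := d8_3 F47906 (iv F39299) (iv F41874)
def n23866 : Q := act 3 n19541
theorem D23866 : act 3 n19541 = n23866 := rfl
theorem F47908 : act 0 n23866 = n23281 := d2_1 D23866 F46307 (iv F36665)
theorem F47909 : act 1 n23866 = n23272 := d7_1 D23866 F46283 (iv F36666)
theorem F47910 : act 4 n23866 = n23268 := d15_2 (iv F36667) D23866 (iv D23268) F33771 F35173
def n23867 : Q := act 5 n19541
theorem D23867 : act 5 n19541 = n23867 := rfl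
theorem F47911 : act 0 n23867 = n23597 := d4_1 D23867 (iv D23597) (iv F36665)
theorem F47912 : act 2 n23867 = n19542 := d13_1 D23867 (iv D19542) D19541
theorem F47913 : act 4 n23867 = n19583 := d18_1 D23867 (iv D19583) (iv F36667)
theorem F47914 : act 1 n21787 = n23867 := d8_3 F47913 (iv F39397) (iv F42223)
def n23868 : Q := act 1 n19544
theorem D23868 : act 1 n19544 = n23868 := rfl
theorem F47915 : act 0 n23868 = n19780 := d0_1 D23868 (iv D19780) (iv D14530) (iv D11297) (iv F20035) D14525 D19772 (iv F37282) F36727
theorem F47916 : act 3 n23868 = n19549 := d7_2 (iv F36674) D23868 (iv D19549)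
theorem F47917 : act 4 n23868 = n20019 := d8_2 (iv F36675) D23868 F37824
theorem F47918 : act 6 n23868 = n19545 := d10_2 D19544 D23868 (iv D19545) (iv D14348) D14347
def n23869 : Q := act 0 n19545
theorem D23869 : act 0 n19545 = n23869 := rfl
theorem F47919 : act 3 n23869 = n19550 := d2_2 (iv F36676) D23869 (iv D19550)
theorem F47920 : act 4 n23869 = n20022 := d3_2 (iv F36677) D23869 F37827
theorem F47921 : act 6 n23869 = n19780 := d5_2 F47918 D23869 (iv F47915)
def n23870 : Q := act 2 n19545
theorem D23870 : act 2 n19545 = n23870 := rfl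
theorem F47922 : act 1 n23870 = n20119 := d6_1 D23870 (iv D20119) (iv D14923) (iv F25058) D19545
theorem F47923 : act 4 n23870 = n20481 := d12_2 (iv F36677) D23870 (iv D20481)
def n23871 : Q := act 5 n19545
theorem D23871 : act 5 n19545 = n23871 := rfl
theorem F47924 : act 1 n23871 = n23698 := d9_1 D23871 F47341 (iv D19538) (iv F25061) D19545
theorem F47925 : act 3 n23871 = n19552 := d16_1 D23871 (iv D19552) (iv F36676)
theorem F47926 : act 4 n23871 = n20482 := d18_1 D23871 (iv D20482) (iv F36677)
def n23872 : Q := act 1 n19547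
theorem D23872 : act 1 n19547 = n23872 := rfl
theorem F47927 : act 0 n23872 = n19742 := d0_1 D23872 (iv D19742) (iv D14508) (iv D11287) (iv F20016) D14503 D19734 (iv F37196) F36749
theorem F47928 : act 3 n23872 = n19553 := d7_2 (iv F36682) D23872 (iv D19553)
theorem F47929 : act 4 n23872 = n19965 := d8_2 (iv F36683) D23872 F37728
theorem F47930 : act 5 n23872 = n19548 := d9_2 D19547 D23872 (iv D19548) (iv D14350) D14349
def n23873 : Q := act 0 n19548
theorem D23873 : act 0 n19548 = n23873 := rfl
theorem F47931 : act 3 n23873 = n19554 := d2_2 (iv F36684) D23873 (iv D19554)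
theorem F47932 : act 4 n23873 = n19967 := d3_2 (iv F36685) D23873 F37730
theorem F47933 : act 5 n23873 = n19742 := d4_2 F47930 D23873 (iv F47927)
def n23874 : Q := act 2 n19548
theorem D23874 : act 2 n19548 = n23874 := rfl
theorem F47934 : act 1 n23874 = n20121 := d6_1 D23874 (iv D20121) (iv D14927) (iv F25066) D19548
theorem F47935 : act 4 n23874 = n20483 := d12_2 (iv F36685) D23874 (iv D20483)
def n23875 : Q := act 6 n19548
theorem D23875 : act 6 n19548 = n23875 := rfl
theorem F47936 : act 1 n23875 = n23646 := d10_1 D23875 F47204 (iv D19537) (iv F25069) D19548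
theorem F47937 : act 3 n23875 = n19556 := d17_1 D23875 (iv D19556) (iv F36684)
theorem F47938 : act 4 n23875 = n20484 := d19_1 D23875 (iv D20484) (iv F36685)
def n23876 : Q := act 0 n19549
theorem D23876 : act 0 n19549 = n23876 := rfl
theorem F47939 : act 1 n23876 = n19717 := d0_2 D19549 D23876 (iv D19717) (iv D14491) (iv F25301) D19713 (iv F37130) (iv D19572) F25105
theorem F47940 : act 3 n23876 = n19780 := d2_2 F47916 D23876 (iv F47915)
theorem F47941 : act 4 n23876 = n19606 := d3_2 (iv F36686) D23876 (iv D19606)
theorem F47942 : act 6 n23876 = n19550 := d5_2 (iv F36687) D23876 (iv D19550)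
def n23877 : Q := act 2 n19549
theorem D23877 : act 2 n19549 = n23877 := rfl
theorem F47943 : act 1 n23877 = n23877 := d6_1 D23877 (iv D23877) (iv D19549) F25073 D19549
theorem F47944 : act 4 n23877 = n19607 := d12_2 (iv F36686) D23877 (iv D19607)
theorem F47945 : act 6 n23877 = n19551 := d14_2 (iv F36687) D23877 (iv D19551)
def n23878 : Q := act 5 n19549
theorem D23878 : act 5 n19549 = n23878 := rfl
theorem F47946 : act 4 n23878 = n19608 := d18_1 D23878 (iv D19608) (iv F36686)
def n23879 : Q := act 1 n19550
theorem D23879 : act 1 n19550 = n23879 := rfl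
theorem F47947 : act 4 n23879 = n19609 := d8_2 (iv F36688) D23879 (iv D19609)
theorem F47948 : act 6 n23879 = n20347 := d10_2 F47942 D23879 F38607 F37140 (iv F47939)
theorem F47949 : act 2 n20348 = n23879 := d14_3 F47948 (iv D20347) D20348
theorem F47950 : act 5 n19774 = n23879 := d22_2 F37257 D19774 F47948 F38606
def n23880 : Q := act 2 n19550
theorem D23880 : act 2 n19550 = n23880 := rfl
theorem F47951 : act 0 n23880 = n19551 := d1_1 D23880 (iv D19551) D19550
theorem F47952 : act 4 n23880 = n19610 := d12_2 (iv F36688) D23880 (iv D19610)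
def n23881 : Q := act 5 n19550
theorem D23881 : act 5 n19550 = n23881 := rfl
theorem F47953 : act 0 n23881 = n19552 := d4_1 D23881 (iv D19552) D19550
theorem F47954 : act 1 n23881 = n19692 := d9_1 D23881 F37054 (iv F37284) F47950 (iv D23879)
theorem F47955 : act 4 n23881 = n19611 := d18_1 D23881 (iv D19611) (iv F36688)
theorem F47956 : act 6 n23881 = n23878 := d22_1 D23881 (iv D23878) F36687 D19550
def n23882 : Q := act 3 n19551
theorem D23882 : act 3 n19551 = n23882 := rfl
def n23883 : Q := act 5 n19551
theorem D23883 : act 5 n19551 = n23883 := rfl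
theorem F47957 : act 2 n23883 = n19552 := d13_1 D23883 (iv D19552) D19551
theorem F47958 : act 4 n23883 = n19613 := d18_1 D23883 (iv D19613) (iv F36689)
def n23884 : Q := act 6 n19552
theorem D23884 : act 6 n19552 = n23884 := rfl
theorem F47959 : act 0 n23884 = n23878 := d5_1 D23884 (iv F47956) F47953
theorem F47960 : act 4 n23884 = n19614 := d19_1 D23884 (iv D19614) (iv F36691)
theorem F47961 : act 5 n23884 = n23876 := d20_1 D23884 F47942 D23881 F47956 (iv D23878) F36687 D19552
def n23885 : Q := act 0 n19553
theorem D23885 : act 0 n19553 = n23885 := rfl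
theorem F47962 : act 1 n23885 = n19704 := d0_2 D19553 D23885 (iv D19704) (iv D14481) (iv F25282) D19700 (iv F37088) (iv D19576) F25114
theorem F47963 : act 3 n23885 = n19742 := d2_2 F47928 D23885 (iv F47927)
theorem F47964 : act 4 n23885 = n19615 := d3_2 (iv F36692) D23885 (iv D19615)
theorem F47965 : act 5 n23885 = n19554 := d4_2 (iv F36693) D23885 (iv D19554)
def n23886 : Q := act 2 n19553
theorem D23886 : act 2 n19553 = n23886 := rfl
theorem F47966 : act 1 n23886 = n23886 := d6_1 D23886 (iv D23886) (iv D19553) F25079 D19553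
theorem F47967 : act 4 n23886 = n19616 := d12_2 (iv F36692) D23886 (iv D19616)
theorem F47968 : act 5 n23886 = n19555 := d13_2 (iv F36693) D23886 (iv D19555)
def n23887 : Q := act 6 n19553
theorem D23887 : act 6 n19553 = n23887 := rfl
theorem F47969 : act 4 n23887 = n19617 := d19_1 D23887 (iv D19617) (iv F36692)
def n23888 : Q := act 1 n19554
theorem D23888 : act 1 n19554 = n23888 := rfl
theorem F47970 : act 4 n23888 = n19618 := d8_2 (iv F36694) D23888 (iv D19618)
theorem F47971 : act 5 n23888 = n20313 := d9_2 F47965 D23888 F38526 (iv F37098) (iv F47962)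
theorem F47972 : act 2 n20314 = n23888 := d13_3 F47971 (iv D20313) D20314
theorem F47973 : act 6 n19736 = n23888 := d22_1 D19736 F47971 F38528 (iv D19734)
def n23889 : Q := act 2 n19554
theorem D23889 : act 2 n19554 = n23889 := rfl
theorem F47974 : act 0 n23889 = n19555 := d1_1 D23889 (iv D19555) D19554
theorem F47975 : act 4 n23889 = n19619 := d12_2 (iv F36694) D23889 (iv D19619)
def n23890 : Q := act 6 n19554
theorem D23890 : act 6 n19554 = n23890 := rfl
theorem F47976 : act 0 n23890 = n19556 := d5_1 D23890 (iv D19556) D19554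
theorem F47977 : act 1 n23890 = n19676 := d10_1 D23890 F37017 (iv F37198) F47973 (iv D23888)
theorem F47978 : act 4 n23890 = n19620 := d19_1 D23890 (iv D19620) (iv F36694)
theorem F47979 : act 5 n23890 = n23887 := d22_2 F47965 D23890 (iv D23887) D23885
def n23891 : Q := act 3 n19555
theorem D23891 : act 3 n19555 = n23891 := rfl
theorem F47980 : act 4 n23891 = n23694 := d15_2 (iv F36695) D23891 (iv F47326) F44714 (iv D19621)
theorem F47981 : act 2 n23404 = n23891 := d12_3 F47980 (iv D23694) (iv F46591)
def n23892 : Q := act 6 n19555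
theorem D23892 : act 6 n19555 = n23892 := rfl
theorem F47982 : act 2 n23892 = n19556 := d14_1 D23892 (iv D19556) D19555
theorem F47983 : act 4 n23892 = n19622 := d19_1 D23892 (iv D19622) (iv F36695)
def n23893 : Q := act 5 n19556
theorem D23893 : act 5 n19556 = n23893 := rfl
theorem F47984 : act 0 n23893 = n23887 := d4_1 D23893 (iv F47979) F47976
theorem F47985 : act 4 n23893 = n19623 := d18_1 D23893 (iv D19623) (iv F36697)
theorem F47986 : act 6 n23893 = n23885 := d20_2 D19556 D23893 F47965 D23890 F47979 (iv D23887) F36693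
def n23894 : Q := act 6 n19559
theorem D23894 : act 6 n19559 = n23894 := rfl
theorem F47987 : act 2 n23894 = n21166 := d14_1 D23894 (iv D21166) (iv F36710)
theorem F47988 : act 3 n23894 = n19570 := d17_1 D23894 (iv D19570) (iv F36711)
theorem F47989 : act 4 n23894 = n19646 := d19_1 D23894 F36962 (iv F36712)
theorem F47990 : act 5 n23894 = n19570 := d22_2 F36713 D23894 (iv D19570) (iv F29242)
def n23895 : Q := act 1 n19560
theorem D23895 : act 1 n19560 = n23895 := rfl
theorem F47991 : act 0 n23895 = n19575 := d0_1 D23895 (iv D19575) F25110 (iv F20030) (iv F25342) (iv F37160) F37155 F25312 (iv F36714)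
theorem F47992 : act 3 n23895 = n19571 := d7_2 (iv F36716) D23895 (iv D19571)
theorem F47993 : act 4 n23895 = n19656 := d8_2 (iv F36717) D23895 F36978
def n23896 : Q := act 5 n19564
theorem D23896 : act 5 n19564 = n23896 := rfl
theorem F47994 : act 2 n23896 = n21178 := d13_1 D23896 (iv D21178) (iv F36732)
theorem F47995 : act 3 n23896 = n19573 := d16_1 D23896 (iv D19573) (iv F36733)
theorem F47996 : act 4 n23896 = n19654 := d18_1 D23896 F36972 (iv F36734)
theorem F47997 : act 6 n23896 = n19573 := d22_1 D23896 (iv D19573) D19574 F36762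
def n23897 : Q := act 1 n19565
theorem D23897 : act 1 n19565 = n23897 := rfl
theorem F47998 : act 0 n23897 = n19571 := d0_1 D23897 (iv D19571) F25101 (iv F20049) (iv F25380) F37118 F37113 F25297 (iv F36736)
theorem F47999 : act 3 n23897 = n19575 := d7_2 (iv F36738) D23897 (iv D19575)
theorem F48000 : act 4 n23897 = n19647 := d8_2 (iv F36739) D23897 F36963
def n23898 : Q := act 6 n19569
theorem D23898 : act 6 n19569 = n23898 := rfl
theorem F48001 : act 0 n23898 = n23894 := d5_1 D23898 (iv D23894) (iv F36754)
theorem F48002 : act 1 n23898 = n23049 := d10_1 D23898 F45724 (iv F47471) F47475 F37078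
theorem F48003 : act 2 n23898 = n21798 := d14_1 D23898 F42265 (iv F36755)
theorem F48004 : act 3 n23898 = n21797 := d17_1 D23898 (iv D21797) (iv F36756)
theorem F48005 : act 4 n23898 = n19644 := d19_1 D23898 (iv D19644) (iv F36757)
theorem F48006 : act 5 n23898 = n21797 := d20_1 D23898 (iv D21797) F36713 D23894 F47990 (iv D19570) D19569
def n23899 : Q := act 1 n19570
theorem D23899 : act 1 n19570 = n23899 := rfl
theorem F48007 : act 4 n23899 = n19645 := d8_2 (iv F36758) D23899 (iv D19645)
theorem F48008 : act 6 n23899 = n19571 := d10_2 D19570 D23899 (iv D19571) (iv D14366) D14365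
def n23900 : Q := act 2 n19571
theorem D23900 : act 2 n19571 = n23900 := rfl
theorem F48009 : act 1 n23900 = n23900 := d6_1 D23900 (iv D23900) (iv D19571) F25102 D19571
theorem F48010 : act 4 n23900 = n19648 := d12_2 (iv F36759) D23900 (iv D19648)
def n23901 : Q := act 5 n19571
theorem D23901 : act 5 n19571 = n23901 := rfl
theorem F48011 : act 1 n23901 = n23878 := d9_1 D23901 (iv D23878) (iv D19549) (iv F25104) D19571
theorem F48012 : act 4 n23901 = n19649 := d18_1 D23901 (iv D19649) (iv F36759)
theorem F48013 : act 6 n19690 = n23901 := d19_0 F48012 (iv F36966) (iv F37048)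
def n23902 : Q := act 2 n19572
theorem D23902 : act 2 n19572 = n23902 := rfl
theorem F48014 : act 0 n23902 = n21739 := d1_1 D23902 F42121 (iv F37130)
theorem F48015 : act 1 n23902 = n23902 := d6_1 D23902 (iv D23902) (iv D19572) F25106 D19572
theorem F48016 : act 4 n23902 = n19651 := d12_2 (iv F36760) D23902 (iv D19651)
def n23903 : Q := act 6 n19572
theorem D23903 : act 6 n19572 = n23903 := rfl
theorem F48017 : act 1 n23903 = n23739 := d10_1 D23903 (iv D23739) F36163 (iv F25108) D19572
theorem F48018 : act 4 n23903 = n19652 := d19_1 D23903 (iv D19652) (iv F36760)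
def n23904 : Q := act 1 n19573
theorem D23904 : act 1 n19573 = n23904 := rfl
theorem F48019 : act 4 n23904 = n19653 := d8_2 (iv F36761) D23904 (iv D19653)
theorem F48020 : act 5 n23904 = n19575 := d9_2 D19573 D23904 (iv D19575) (iv D14369) D14368
def n23905 : Q := act 5 n19574
theorem D23905 : act 5 n19574 = n23905 := rfl
theorem F48021 : act 0 n23905 = n23896 := d4_1 D23905 (iv D23896) (iv F36762)
theorem F48022 : act 1 n23905 = n23045 := d9_1 D23905 F45712 D23746 (iv F47489) F37120
theorem F48023 : act 2 n23905 = n21850 := d13_1 D23905 F42384 (iv F36763)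
theorem F48024 : act 3 n23905 = n21849 := d16_1 D23905 (iv D21849) (iv F36764)
theorem F48025 : act 4 n23905 = n19655 := d18_1 D23905 (iv D19655) (iv F36765)
theorem F48026 : act 6 n23905 = n21849 := d20_2 D19574 D23905 (iv D21849) F36735 D23896 F47997 (iv D19573)
def n23906 : Q := act 2 n19575
theorem D23906 : act 2 n19575 = n23906 := rfl
theorem F48027 : act 1 n23906 = n23906 := d6_1 D23906 (iv D23906) (iv D19575) F25111 D19575
theorem F48028 : act 4 n23906 = n19657 := d12_2 (iv F36766) D23906 (iv D19657)
def n23907 : Q := act 6 n19575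
theorem D23907 : act 6 n19575 = n23907 := rfl
theorem F48029 : act 1 n23907 = n23887 := d10_1 D23907 (iv D23887) (iv D19553) (iv F25113) D19575
theorem F48030 : act 4 n23907 = n19658 := d19_1 D23907 (iv D19658) (iv F36766)
theorem F48031 : act 5 n19674 = n23907 := d18_0 F48030 (iv F36981) (iv F37012)
def n23908 : Q := act 2 n19576
theorem D23908 : act 2 n19576 = n23908 := rfl
theorem F48032 : act 0 n23908 = n21580 := d1_1 D23908 F41780 (iv F37088)
theorem F48033 : act 1 n23908 = n23908 := d6_1 D23908 (iv D23908) (iv D19576) F25115 D19576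
theorem F48034 : act 4 n23908 = n19660 := d12_2 (iv F36767) D23908 (iv D19660)
def n23909 : Q := act 5 n19576
theorem D23909 : act 5 n19576 = n23909 := rfl
theorem F48035 : act 1 n23909 = n23769 := d9_1 D23909 (iv D23769) F36281 (iv F25117) D19576
theorem F48036 : act 4 n23909 = n19661 := d18_1 D23909 (iv D19661) (iv F36767)
def n23910 : Q := act 6 n19586
theorem D23910 : act 6 n19586 = n23910 := rfl
theorem F48037 : act 2 n23910 = n20817 := d14_1 D23910 F39908 (iv F36805)
theorem F48038 : act 3 n23910 = n21920 := d17_1 D23910 F42527 (iv F36806)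
theorem F48039 : act 4 n23910 = n19588 := d19_1 D23910 (iv D19588) (iv F36807)
theorem F48040 : act 5 n23910 = n20816 := d22_2 D19586 D23910 F39905 F28753
theorem F48041 : act 1 n22010 = n23910 := d7_3 F48038 (iv F42528) D22010
def n23911 : Q := act 5 n19587
theorem D23911 : act 5 n19587 = n23911 := rfl
theorem F48042 : act 0 n23911 = n23910 := d4_1 D23911 F48040 F39901
theorem F48043 : act 2 n23911 = n20762 := d13_1 D23911 F39410 (iv F36809)
theorem F48044 : act 3 n23911 = n21919 := d16_1 D23911 F42522 (iv F36810)
theorem F48045 : act 4 n23911 = n19589 := d18_1 D23911 (iv D19589) (iv F36811)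
theorem F48046 : act 6 n23911 = n20761 := d20_2 D19587 D23911 F39408 (iv F39905) (iv F48040) (iv D23910) (iv D19586)
theorem F48047 : act 1 n21966 = n23911 := d7_3 F48044 (iv F42523) D21966
def n23912 : Q := act 1 n19588
theorem D23912 : act 1 n19588 = n23912 := rfl
theorem F48048 : act 2 n23912 = n22290 := d6_2 F47860 D23912 (iv D22290) (iv F43459) (iv F47859)
theorem F48049 : act 3 n23912 = n19592 := d7_2 (iv F36813) D23912 (iv D19592)
theorem F48050 : act 4 n23912 = n22010 := d8_2 F48039 D23912 F48041
theorem F48051 : act 5 n23912 = n23912 := d9_2 (iv F36814) D23912 (iv D23912) F36814 F36786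
def n23913 : Q := act 1 n19589
theorem D23913 : act 1 n19589 = n23913 := rfl
theorem F48052 : act 2 n23913 = n22075 := d6_2 F47854 D23913 (iv D22075) (iv F42922) (iv F47853)
theorem F48053 : act 3 n23913 = n19593 := d7_2 (iv F36816) D23913 (iv D19593)
theorem F48054 : act 4 n23913 = n21966 := d8_2 F48045 D23913 F48047
theorem F48055 : act 6 n23913 = n23913 := d10_2 (iv F36817) D23913 (iv D23913) F36817 F36782
def n23914 : Q := act 1 n19590
theorem D23914 : act 1 n19590 = n23914 := rfl
theorem F48056 : act 3 n23914 = n21922 := d7_2 (iv F36819) D23914 (iv D21922)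
theorem F48057 : act 4 n23914 = n19592 := d8_2 (iv F36820) D23914 (iv D19592)
theorem F48058 : act 5 n23914 = n23914 := d9_2 (iv F36821) D23914 (iv D23914) F36821 F29715
def n23915 : Q := act 1 n19591
theorem D23915 : act 1 n19591 = n23915 := rfl
theorem F48059 : act 3 n23915 = n21921 := d7_2 (iv F36824) D23915 (iv D21921)
theorem F48060 : act 4 n23915 = n19593 := d8_2 (iv F36825) D23915 (iv D19593)
theorem F48061 : act 6 n23915 = n23915 := d10_2 (iv F36826) D23915 (iv D23915) F36826 F28798
def n23916 : Q := act 0 n19592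
theorem D23916 : act 0 n19592 = n23916 := rfl
def n23917 : Q := act 2 n19592
theorem D23917 : act 2 n19592 = n23917 := rfl
theorem F48063 : act 1 n23917 = n19600 := d6_1 D23917 (iv D19600) (iv D14404) (iv F25147) D19592
theorem F48064 : act 5 n23917 = n23917 := d13_2 F36827 D23917 (iv D23917)
def n23918 : Q := act 0 n19593
theorem D23918 : act 0 n19593 = n23918 := rfl
def n23919 : Q := act 2 n19593
theorem D23919 : act 2 n19593 = n23919 := rfl
theorem F48066 : act 1 n23919 = n19604 := d6_1 D23919 (iv D19604) (iv D14408) (iv F25151) D19593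
theorem F48067 : act 6 n23919 = n23919 := d14_2 F36828 D23919 (iv D23919)
def n23920 : Q := act 1 n19594
theorem D23920 : act 1 n19594 = n23920 := rfl
theorem F48068 : act 0 n23920 = n19932 := d0_1 D23920 (iv D19932) (iv D14708) (iv D11383) (iv F20177) D14702 D19926 (iv F37649) F36907
theorem F48069 : act 3 n23920 = n20019 := d7_2 (iv F36829) D23920 F37824
theorem F48070 : act 4 n23920 = n19598 := d8_2 (iv F36830) D23920 (iv D19598)
theorem F48071 : act 5 n23920 = n22680 := d9_2 F36904 D23920 (iv D22680) D22681 F44610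
theorem F48072 : act 6 n23920 = n19595 := d10_2 D19594 D23920 (iv D19595) (iv D14398) D14397
theorem F48073 : act 2 n22684 = n23920 := d13_3 F48071 F44605 D22684
def n23921 : Q := act 0 n19595
theorem D23921 : act 0 n19595 = n23921 := rfl
theorem F48074 : act 3 n23921 = n20022 := d2_2 (iv F36831) D23921 F37827
theorem F48075 : act 4 n23921 = n19599 := d3_2 (iv F36832) D23921 (iv D19599)
theorem F48076 : act 6 n23921 = n19932 := d5_2 F48072 D23921 (iv F48068)
theorem F48077 : act 1 n20907 = n23921 := d10_5 F48076 (iv D19932) (iv F25667) F37575 D20907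
def n23922 : Q := act 2 n19595
theorem D23922 : act 2 n19595 = n23922 := rfl
theorem F48078 : act 4 n23922 = n19600 := d12_2 (iv F36832) D23922 (iv D19600)
theorem F48079 : act 6 n23922 = n22684 := d14_2 F48072 D23922 F48073
def n23923 : Q := act 1 n19596
theorem D23923 : act 1 n19596 = n23923 := rfl
theorem F48080 : act 0 n23923 = n19912 := d0_1 D23923 (iv D19912) (iv D14685) (iv D11373) (iv F20163) D14679 D19906 (iv F37603) F36925
theorem F48081 : act 3 n23923 = n19965 := d7_2 (iv F36833) D23923 F37728
theorem F48082 : act 4 n23923 = n19602 := d8_2 (iv F36834) D23923 (iv D19602)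
theorem F48083 : act 5 n23923 = n19597 := d9_2 D19596 D23923 (iv D19597) (iv D14400) D14399
theorem F48084 : act 6 n23923 = n22716 := d10_2 F36922 D23923 (iv D22716) D22717 (iv F44713)
theorem F48085 : act 2 n22721 = n23923 := d14_3 F48084 F44708 D22721
def n23924 : Q := act 0 n19597
theorem D23924 : act 0 n19597 = n23924 := rfl
theorem F48086 : act 1 n23924 = n20991 := d0_2 D19597 D23924 (iv F47476) F47477 F47467 F48077 (iv D23921) (iv D19595) (iv F25162)
theorem F48087 : act 3 n23924 = n19967 := d2_2 (iv F36835) D23924 F37730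
theorem F48088 : act 4 n23924 = n19603 := d3_2 (iv F36836) D23924 (iv D19603)
theorem F48089 : act 5 n23924 = n19912 := d4_2 F48083 D23924 (iv F48080)
def n23925 : Q := act 2 n19597
theorem D23925 : act 2 n19597 = n23925 := rfl
theorem F48090 : act 4 n23925 = n19604 := d12_2 (iv F36836) D23925 (iv D19604)
theorem F48091 : act 5 n23925 = n22721 := d13_2 F48083 D23925 F48085
def n23926 : Q := act 0 n19598
theorem D23926 : act 0 n19598 = n23926 := rfl
theorem F48092 : act 1 n23926 = n19898 := d0_2 D19598 D23926 (iv D19898) (iv D14667) (iv F25600) D19897 (iv F37572) (iv D19638) F25196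
theorem F48093 : act 3 n23926 = n19606 := d2_2 (iv F36837) D23926 (iv D19606)
theorem F48094 : act 4 n23926 = n19932 := d3_2 F48070 D23926 (iv F48068)
theorem F48095 : act 6 n23926 = n19599 := d5_2 (iv F36838) D23926 (iv D19599)
def n23927 : Q := act 2 n19598
theorem D23927 : act 2 n19598 = n23927 := rfl
theorem F48096 : act 4 n23927 = n22684 := d12_2 F48070 D23927 F48073
theorem F48097 : act 6 n23927 = n19600 := d14_2 (iv F36838) D23927 (iv D19600)
theorem F48098 : act 5 n22655 = n23927 := d18_0 F48096 (iv D22684) (iv F44537)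
def n23928 : Q := act 5 n19598
theorem D23928 : act 5 n19598 = n23928 := rfl
theorem F48099 : act 1 n23928 = n22653 := d9_1 D23928 F44530 (iv D19635) F25193 D19598
theorem F48100 : act 2 n23928 = n22655 := d13_1 D23928 F48098 (iv D23927)
theorem F48101 : act 3 n23928 = n19608 := d16_1 D23928 (iv D19608) (iv F36837)
theorem F48102 : act 4 n23928 = n22680 := d18_1 D23928 (iv F48071) F48070
def n23929 : Q := act 1 n19599
theorem D23929 : act 1 n19599 = n23929 := rfl
theorem F48103 : act 3 n23929 = n19609 := d7_2 (iv F36839) D23929 (iv D19609)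
theorem F48104 : act 4 n23929 = n20907 := d8_2 F48075 D23929 F48077
theorem F48105 : act 6 n23929 = n20627 := d10_2 F48095 D23929 F39137 F37582 (iv F48092)
theorem F48106 : act 0 n23748 = n23929 := d5_3 F48105 F39136 D23748
theorem F48107 : act 2 n20876 = n23929 := d14_3 F48105 (iv F39140) (iv F40092)
theorem F48108 : act 5 n19927 = n23929 := d20_7 F48105 F39139 (iv F47458) (iv F47499) (iv D23748) F36203 D19927
def n23930 : Q := act 2 n19599
theorem D23930 : act 2 n19599 = n23930 := rfl
theorem F48109 : act 0 n23930 = n19600 := d1_1 D23930 (iv D19600) D19599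
def n23931 : Q := act 5 n19599
theorem D23931 : act 5 n19599 = n23931 := rfl
theorem F48110 : act 0 n23931 = n19601 := d4_1 D23931 (iv D19601) D19599
theorem F48111 : act 1 n23931 = n19840 := d9_1 D23931 F37461 (iv F37650) F48108 (iv D23929)
theorem F48112 : act 3 n23931 = n19611 := d16_1 D23931 (iv D19611) (iv F36839)
theorem F48113 : act 6 n23931 = n23928 := d22_1 D23931 (iv D23928) F36838 D19599
def n23932 : Q := act 3 n19600
theorem D23932 : act 3 n19600 = n23932 := rfl
theorem F48114 : act 2 n23932 = n19608 := d21_2 D19600 D23932 (iv F48101) F48100 F44536 (iv D19610) (iv F36839) (iv D19599)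
theorem F48115 : act 5 n19607 = n23932 := d13_0 F48114 (iv D19608) D19607
def n23933 : Q := act 5 n19600
theorem D23933 : act 5 n19600 = n23933 := rfl
theorem F48116 : act 1 n23933 = n23933 := d9_1 D23933 (iv D23933) (iv F48063) F48064 F48063
theorem F48117 : act 2 n23933 = n19601 := d13_1 D23933 (iv D19601) D19600
theorem F48118 : act 3 n23933 = n19607 := d16_1 D23933 F48115 (iv D23932)
theorem F48119 : act 6 n23933 = n19612 := d22_3 F48098 F48097 D23933 F44538
def n23934 : Q := act 6 n19601
theorem D23934 : act 6 n19601 = n23934 := rfl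
theorem F48120 : act 0 n23934 = n23928 := d5_1 D23934 (iv F48113) F48110
theorem F48121 : act 1 n23934 = n22695 := d10_1 D23934 F44648 (iv F37634) F36270 (iv F36840)
theorem F48122 : act 2 n23934 = n19612 := d14_1 D23934 (iv F48119) F48117
theorem F48123 : act 3 n23934 = n19614 := d17_1 D23934 (iv D19614) (iv F36841)
theorem F48124 : act 4 n23934 = n23053 := d19_1 D23934 (iv F47555) F47553
theorem F48125 : act 5 n23934 = n23926 := d20_1 D23934 F48095 D23931 F48113 (iv D23928) F36838 D19601
def n23935 : Q := act 0 n19602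
theorem D23935 : act 0 n19602 = n23935 := rfl
theorem F48126 : act 1 n23935 = n19889 := d0_2 D19602 D23935 (iv D19889) (iv D14657) (iv F25581) D19888 (iv F37540) (iv D19643) F25206
theorem F48127 : act 3 n23935 = n19615 := d2_2 (iv F36842) D23935 (iv D19615)
theorem F48128 : act 4 n23935 = n19912 := d3_2 F48082 D23935 (iv F48080)
theorem F48129 : act 5 n23935 = n19603 := d4_2 (iv F36843) D23935 (iv D19603)
def n23936 : Q := act 2 n19602
theorem D23936 : act 2 n19602 = n23936 := rfl
theorem F48130 : act 4 n23936 = n22721 := d12_2 F48082 D23936 F48085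
theorem F48131 : act 5 n23936 = n19604 := d13_2 (iv F36843) D23936 (iv D19604)
theorem F48132 : act 6 n22700 = n23936 := d19_0 F48130 (iv D22721) (iv F44662)
def n23937 : Q := act 6 n19602
theorem D23937 : act 6 n19602 = n23937 := rfl
theorem F48133 : act 1 n23937 = n22669 := d10_1 D23937 (iv F44581) (iv D19640) F25203 D19602
theorem F48134 : act 2 n23937 = n22700 := d14_1 D23937 F48132 (iv D23936)
theorem F48135 : act 3 n23937 = n19617 := d17_1 D23937 (iv D19617) (iv F36842)
theorem F48136 : act 4 n23937 = n22716 := d19_1 D23937 (iv F48084) F48082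
def n23938 : Q := act 1 n19603
theorem D23938 : act 1 n19603 = n23938 := rfl
theorem F48137 : act 0 n23938 = n23772 := d0_1 D23938 F47572 F48106 (iv D23929) (iv D19599) (iv D14404) (iv F19943) D14408 D19603
theorem F48138 : act 3 n23938 = n19618 := d7_2 (iv F36844) D23938 (iv D19618)
theorem F48139 : act 4 n23938 = n20991 := d8_2 F48088 D23938 (iv F48086)
theorem F48140 : act 5 n23938 = n20589 := d9_2 F48129 D23938 F39059 (iv F37550) (iv F48126)
theorem F48141 : act 2 n20960 = n23938 := d13_3 F48140 (iv F39062) (iv F40313)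
theorem F48142 : act 6 n19907 = n23938 := d20_0 F48140 F39061 (iv F47483) (iv F47576) (iv D23772) F36305 D19907
def n23939 : Q := act 2 n19603
theorem D23939 : act 2 n19603 = n23939 := rfl
theorem F48143 : act 0 n23939 = n19604 := d1_1 D23939 (iv D19604) D19603
def n23940 : Q := act 6 n19603
theorem D23940 : act 6 n19603 = n23940 := rfl
theorem F48144 : act 0 n23940 = n19605 := d5_1 D23940 (iv D19605) D19603
theorem F48145 : act 1 n23940 = n19833 := d10_1 D23940 F37438 (iv F37604) F48142 (iv D23938)
theorem F48146 : act 3 n23940 = n19620 := d17_1 D23940 (iv D19620) (iv F36844)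
theorem F48147 : act 5 n23940 = n23937 := d22_2 F48129 D23940 (iv D23937) D23935
def n23941 : Q := act 3 n19604
theorem D23941 : act 3 n19604 = n23941 := rfl
theorem F48148 : act 2 n23941 = n19617 := d21_2 D19604 D23941 (iv F48135) F48134 F44661 (iv D19619) (iv F36844) (iv D19603)
theorem F48149 : act 6 n19616 = n23941 := d14_0 F48148 (iv D19617) D19616
def n23942 : Q := act 6 n19604
theorem D23942 : act 6 n19604 = n23942 := rfl
theorem F48150 : act 1 n23942 = n23942 := d10_1 D23942 (iv D23942) (iv F48066) F48067 F48066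
theorem F48151 : act 2 n23942 = n19605 := d14_1 D23942 (iv D19605) D19604
theorem F48152 : act 3 n23942 = n19616 := d17_1 D23942 F48149 (iv D23941)
theorem F48153 : act 5 n19621 = n23942 := d22_0 (iv D23942) (iv F48131) (iv F48132) (iv F44663)
def n23943 : Q := act 5 n19605
theorem D23943 : act 5 n19605 = n23943 := rfl
theorem F48154 : act 0 n23943 = n23937 := d4_1 D23943 (iv F48147) F48144
theorem F48155 : act 1 n23943 = n22729 := d9_1 D23943 F44746 (iv F37681) F36152 (iv F36845)
theorem F48156 : act 2 n23943 = n19621 := d13_1 D23943 F48153 F48151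
theorem F48157 : act 3 n23943 = n19623 := d16_1 D23943 (iv D19623) (iv F36846)
theorem F48158 : act 4 n23943 = n23055 := d18_1 D23943 (iv F47449) F47448
theorem F48159 : act 6 n23943 = n23935 := d20_2 D19605 D23943 F48129 D23940 F48147 (iv D23937) F36843
def n23944 : Q := act 5 n19610
theorem D23944 : act 5 n19610 = n23944 := rfl
theorem F48160 : act 0 n23944 = n19613 := d4_1 D23944 (iv D19613) (iv F36850)
theorem F48161 : act 2 n23944 = n19611 := d13_1 D23944 (iv D19611) D19610
theorem F48162 : act 3 n23944 = n23927 := d16_1 D23944 (iv F48098) F44536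
theorem F48163 : act 6 n23944 = n23932 := d22_1 D23944 (iv F48115) F36849 (iv F36850)
def n23945 : Q := act 5 n19612
theorem D23945 : act 5 n19612 = n23945 := rfl
theorem F48164 : act 0 n23945 = n23927 := d4_1 D23945 (iv F48098) (iv F44538)
theorem F48165 : act 2 n23945 = n23926 := d13_1 D23945 (iv F48125) F48122
theorem F48166 : act 3 n23945 = n19613 := d16_1 D23945 (iv D19613) D19612
theorem F48167 : act 6 n23945 = n23930 := d22_3 D23933 F48119 D23945 F48109
def n23946 : Q := act 6 n19613
theorem D23946 : act 6 n19613 = n23946 := rfl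
theorem F48168 : act 0 n23946 = n23932 := d5_1 D23946 (iv F48163) F48160
theorem F48169 : act 2 n23946 = n19614 := d14_1 D23946 (iv D19614) (iv F36858)
theorem F48170 : act 3 n23946 = n23930 := d17_1 D23946 (iv F48167) F48166
theorem F48171 : act 5 n23946 = n20565 := d20_1 D23946 F39026 D23944 F48163 (iv F48115) F36849 D19613
def n23947 : Q := act 6 n19619
theorem D23947 : act 6 n19619 = n23947 := rfl
theorem F48172 : act 0 n23947 = n19622 := d5_1 D23947 (iv D19622) (iv F36864)
theorem F48173 : act 2 n23947 = n19620 := d14_1 D23947 (iv D19620) D19619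
theorem F48174 : act 3 n23947 = n23936 := d17_1 D23947 (iv F48132) F44661
theorem F48175 : act 5 n23947 = n23941 := d22_2 F38947 D23947 (iv F48149) (iv F38948)
def n23948 : Q := act 6 n19621
theorem D23948 : act 6 n19621 = n23948 := rfl
theorem F48176 : act 0 n23948 = n23936 := d5_1 D23948 (iv F48132) (iv F44663)
theorem F48177 : act 2 n23948 = n23935 := d14_1 D23948 (iv F48159) F48156
theorem F48178 : act 3 n23948 = n19622 := d17_1 D23948 (iv D19622) D19621
theorem F48179 : act 5 n23939 = n23948 := d22_0 (iv D23948) F48153 (iv D23942) (iv F48143)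
def n23949 : Q := act 5 n19622
theorem D23949 : act 5 n19622 = n23949 := rfl
theorem F48180 : act 0 n23949 = n23941 := d4_1 D23949 (iv F48175) F48172
theorem F48181 : act 2 n23949 = n19623 := d13_1 D23949 (iv D19623) (iv F36890)
theorem F48182 : act 3 n23949 = n23939 := d16_1 D23949 F48179 F48178
theorem F48183 : act 6 n23949 = n20519 := d20_2 D19622 D23949 F38947 D23947 F48175 (iv F48149) F36863
def n23950 : Q := act 6 n19625
theorem D23950 : act 6 n19625 = n23950 := rfl
theorem F48184 : act 0 n23950 = n19627 := d5_1 D23950 (iv D19627) (iv F36898)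
theorem F48185 : act 2 n23950 = n19626 := d14_1 D23950 (iv D19626) D19625
theorem F48186 : act 4 n23950 = n19634 := d19_1 D23950 (iv D19634) (iv F36900)
theorem F48187 : act 5 n23950 = n21040 := d22_2 F40531 D23950 (iv D21040) D21039
theorem F48188 : act 1 n23840 = n23950 := d24_14 (iv D23950) (iv F40531) F40527 (iv F36372) (iv D19428) D19427 F36368 D19432 (iv F36392) F36573 (iv F36572) D20881 (iv F47715) (iv F47820)
def n23951 : Q := act 5 n19627
theorem D23951 : act 5 n19627 = n23951 := rfl
theorem F48189 : act 0 n23951 = n21040 := d4_1 D23951 (iv F48187) F48184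
theorem F48190 : act 2 n23951 = n19628 := d13_1 D23951 (iv D19628) (iv F36905)
theorem F48191 : act 3 n23951 = n23950 := d16_1 D23951 F48187 F40533
theorem F48192 : act 4 n23951 = n19637 := d18_1 D23951 (iv D19637) (iv F36906)
theorem F48193 : act 6 n23951 = n21039 := d20_2 D19627 D23951 F40531 D23950 F48187 (iv D21040) (iv F29174)
theorem F48194 : act 1 n20913 = n23951 := d10_5 F48193 F40527 (iv F36372) D23796 F47791
def n23952 : Q := act 5 n19630
theorem D23952 : act 5 n19630 = n23952 := rfl
theorem F48195 : act 0 n23952 = n19632 := d4_1 D23952 (iv D19632) (iv F36916)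
theorem F48196 : act 2 n23952 = n19631 := d13_1 D23952 (iv D19631) D19630
theorem F48197 : act 4 n23952 = n19639 := d18_1 D23952 (iv D19639) (iv F36918)
theorem F48198 : act 6 n23952 = n21061 := d22_1 D23952 (iv D21061) F35089 (iv F36916)
theorem F48199 : act 1 n23952 = n23820 := d24_2 F40602 D23952 F47737 F47714 (iv D20975) (iv F36509) (iv F36532) F36530 (iv D19488) (iv F36477) (iv D19483) D19484 F36481 (iv F40598)
def n23953 : Q := act 6 n19632
theorem D23953 : act 6 n19632 = n23953 := rfl
theorem F48200 : act 0 n23953 = n21061 := d5_1 D23953 (iv F48198) F48195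
theorem F48201 : act 2 n23953 = n19633 := d14_1 D23953 (iv D19633) (iv F36923)
theorem F48202 : act 3 n23953 = n23952 := d17_1 D23953 F48198 F40604
theorem F48203 : act 4 n23953 = n19642 := d19_1 D23953 (iv D19642) (iv F36924)
theorem F48204 : act 5 n23953 = n21060 := d20_1 D23953 F40602 D23952 F48198 (iv D21061) F35089 D19632
theorem F48205 : act 1 n20997 = n23953 := d9_5 F48204 F40598 (iv F36481) D23827 (iv F47762)
def n23954 : Q := act 1 n19634
theorem D23954 : act 1 n19634 = n23954 := rfl
theorem F48206 : act 0 n23954 = n23839 := d0_1 D23954 (iv D23839) F36584 F24993 F34941 D19501 F36935 (iv D19636) (iv F36929)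
theorem F48207 : act 3 n23954 = n23796 := d7_2 (iv F36931) D23954 (iv D23796)
theorem F48208 : act 4 n23954 = n23840 := d8_2 F48186 D23954 F48188
theorem F48209 : act 6 n23954 = n23840 := d10_2 D19634 D23954 F48188 (iv D23950) F36899
def n23955 : Q := act 1 n19637
theorem D23955 : act 1 n19637 = n23955 := rfl
theorem F48210 : act 2 n23955 = n20908 := d6_2 (iv F36937) D23955 (iv D20908) F37573 (iv D19638)
theorem F48211 : act 3 n23955 = n23792 := d7_2 (iv F36938) D23955 (iv D23792)
theorem F48212 : act 4 n23955 = n20913 := d8_2 F48192 D23955 F48194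
theorem F48213 : act 5 n23955 = n20914 := d9_2 D19637 D23955 F40198 F40108 (iv D19636)
theorem F48214 : act 6 n23955 = n23792 := d10_2 (iv F36939) D23955 (iv D23792) (iv D19425) (iv F27458)
theorem F48215 : act 0 n23955 = n20901 := d23_3 D14430 (iv F36937) D23955 F40158 (iv F40200) F48194 F48189 (iv F48187) F48185 (iv F44610) F44606 (iv F44601) (iv D22679) (iv F44522) (iv D22652) D22654 F44532 (iv D19635) F25191
def n23956 : Q := act 1 n19639
theorem D23956 : act 1 n19639 = n23956 := rfl
theorem F48216 : act 0 n23956 = n23818 := d0_1 D23956 (iv D23818) F36450 (iv F24962) (iv F34952) D19451 F36948 (iv D19641) (iv F36942)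
theorem F48217 : act 3 n23956 = n23827 := d7_2 (iv F36944) D23956 (iv D23827)
theorem F48218 : act 4 n23956 = n23820 := d8_2 F48197 D23956 (iv F48199)
theorem F48219 : act 5 n23956 = n23820 := d9_2 D19639 D23956 (iv F48199) (iv D23952) F36917
def n23957 : Q := act 1 n19642
theorem D23957 : act 1 n19642 = n23957 := rfl
theorem F48220 : act 2 n23957 = n20992 := d6_2 (iv F36950) D23957 (iv D20992) F37541 (iv D19643)
theorem F48221 : act 3 n23957 = n23823 := d7_2 (iv F36951) D23957 (iv D23823)
theorem F48222 : act 4 n23957 = n20997 := d8_2 F48203 D23957 F48205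
theorem F48223 : act 5 n23957 = n23823 := d9_2 (iv F36952) D23957 (iv D23823) (iv D19481) (iv F27516)
theorem F48224 : act 6 n23957 = n20998 := d10_2 D19642 D23957 F40426 F40325 (iv D19641)
theorem F48225 : act 0 n20985 = n23957 := d5_3 F48224 (iv F40427) (iv F40382)
def n23958 : Q := act 2 n19645
theorem D23958 : act 2 n19645 = n23958 := rfl
theorem F48226 : act 6 n23958 = n19648 := d14_2 (iv F36959) D23958 (iv D19648)
def n23959 : Q := act 1 n19646
theorem D23959 : act 1 n19646 = n23959 := rfl
theorem F48227 : act 0 n23959 = n19658 := d0_1 D23959 F36980 (iv F36891) (iv F37841) F37840 F25746 F34545 (iv F36955) (iv F36960)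
theorem F48228 : act 5 n23959 = n19855 := d9_2 D19646 D23959 (iv F37520) F37521 (iv D19645)
theorem F48229 : act 6 n23959 = n19656 := d10_2 (iv F36962) D23959 F36978 (iv D16615) D16614
def n23960 : Q := act 5 n19647
theorem D23960 : act 5 n19647 = n23960 := rfl
theorem F48230 : act 0 n23960 = n19649 := d4_1 D23960 (iv D19649) D19647
theorem F48231 : act 1 n23960 = n19654 := d9_1 D23960 F36972 (iv D16630) D16632 (iv F36963)
theorem F48232 : act 6 n23960 = n19877 := d20_2 F37524 D23960 F37521 F36959 D19649 (iv F36966) D19879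
def n23961 : Q := act 5 n19648
theorem D23961 : act 5 n19648 = n23961 := rfl
theorem F48233 : act 2 n23961 = n19649 := d13_1 D23961 (iv D19649) D19648
theorem F48234 : act 6 n19878 = n23961 := d14_0 F48233 (iv F36966) D19878
def n23962 : Q := act 6 n19651
theorem D23962 : act 6 n19651 = n23962 := rfl
theorem F48235 : act 0 n23962 = n22400 := d5_1 D23962 (iv D22400) (iv F37077)
theorem F48236 : act 2 n23962 = n19652 := d14_1 D23962 (iv D19652) D19651
theorem F48237 : act 3 n23962 = n20922 := d17_1 D23962 F40282 F40281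
theorem F48238 : act 5 n23962 = n20921 := d22_2 F37886 D23962 F43713 (iv F43712)
theorem F48239 : act 1 n22457 = n23962 := d9_5 F48238 F40216 (iv F32690) (iv F44236) (iv F44239)
def n23963 : Q := act 5 n19652
theorem D23963 : act 5 n19652 = n23963 := rfl
theorem F48240 : act 0 n23963 = n20055 := d4_1 D23963 F37888 (iv F37501)
theorem F48241 : act 2 n23963 = n20921 := d13_1 D23963 (iv F48238) F48236
theorem F48242 : act 3 n23963 = n23742 := d16_1 D23963 (iv D23742) (iv F36969)
theorem F48243 : act 6 n23963 = n20053 := d20_2 D19652 D23963 F37885 (iv F37500) (iv F37888) (iv D20055) F25758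
def n23964 : Q := act 2 n19653
theorem D23964 : act 2 n19653 = n23964 := rfl
theorem F48244 : act 5 n23964 = n19657 := d13_2 (iv F36970) D23964 (iv D19657)
theorem F48245 : act 3 n23964 = n23961 := d21_1 D23964 F48233 F44529 (iv D22653) F30778 D17626 (iv F37489) F37488
def n23965 : Q := act 6 n19657
theorem D23965 : act 6 n19657 = n23965 := rfl
theorem F48246 : act 2 n23965 = n19658 := d14_1 D23965 (iv D19658) D19657
theorem F48247 : act 3 n23965 = n23958 := d17_1 D23965 F48226 F43821
theorem F48248 : act 5 n19856 = n23965 := d13_0 F48246 (iv F36981) D19856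
def n23966 : Q := act 5 n19660
theorem D23966 : act 5 n19660 = n23966 := rfl
theorem F48249 : act 0 n23966 = n22195 := d4_1 D23966 (iv D22195) (iv F37069)
theorem F48250 : act 2 n23966 = n19661 := d13_1 D23966 (iv D19661) D19660
theorem F48251 : act 3 n23966 = n21007 := d16_1 D23966 (iv F40448) F40061
theorem F48252 : act 6 n23966 = n21005 := d22_1 D23966 F43155 F43153 (iv F37069)
theorem F48253 : act 1 n22516 = n23966 := d10_5 F48252 F40444 (iv F32688) (iv F44401) (iv F44404)
def n23967 : Q := act 6 n19661
theorem D23967 : act 6 n19661 = n23967 := rfl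
theorem F48254 : act 0 n23967 = n20001 := d5_1 D23967 F37791 (iv F37535)
theorem F48255 : act 1 n23967 = n23963 := d10_1 D23967 F48243 F37883 (iv F36285) (iv F36983)
theorem F48256 : act 2 n23967 = n21005 := d14_1 D23967 (iv F48252) F48250
theorem F48257 : act 3 n23967 = n23744 := d17_1 D23967 F47479 (iv F36984)
theorem F48258 : act 5 n23967 = n19999 := d20_1 D23967 F37788 (iv F37534) (iv F37791) (iv D20001) F25713 D19661
def n23968 : Q := act 2 n19662
theorem D23968 : act 2 n19662 = n23968 := rfl
theorem F48259 : act 0 n23968 = n21202 := d1_1 D23968 F40992 (iv F36985)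
theorem F48260 : act 5 n23968 = n19701 := d13_2 (iv F36987) D23968 (iv D19701)
def n23969 : Q := act 2 n19663
theorem D23969 : act 2 n19663 = n23969 := rfl
theorem F48261 : act 0 n23969 = n21227 := d1_1 D23969 F41039 (iv F36988)
theorem F48262 : act 6 n23969 = n19714 := d14_2 (iv F36990) D23969 (iv D19714)
def n23970 : Q := act 3 n19665
theorem D23970 : act 3 n19665 = n23970 := rfl
theorem F48263 : act 1 n23970 = n19666 := d7_1 D23970 (iv D19666) D19665
theorem F48264 : act 4 n23970 = n23207 := d15_2 (iv F36996) D23970 F46124 F33697 (iv F29162)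
theorem F48265 : act 5 n23970 = n23206 := d16_2 (iv F36997) D23970 F46123
def n23971 : Q := act 6 n19665
theorem D23971 : act 6 n19665 = n23971 := rfl
theorem F48266 : act 2 n23971 = n23644 := d14_1 D23971 (iv D23644) (iv F36995)
theorem F48267 : act 4 n23971 = n19844 := d19_1 D23971 (iv D19844) (iv F36996)
theorem F48268 : act 5 n23971 = n23865 := d22_2 (iv F36997) D23971 (iv D23865) F36660
def n23972 : Q := act 2 n19666
theorem D23972 : act 2 n19666 = n23972 := rfl
theorem F48269 : act 0 n23972 = n19667 := d1_1 D23972 (iv D19667) (iv F36998)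
theorem F48270 : act 3 n23972 = n23968 := d11_2 D19666 D23972 (iv D23968) (iv D19662) (iv D14450) F19972 D11263 D14457 D19667 (iv F40993) F40992 F27757 F25216 F25213 D14456
theorem F48271 : act 5 n23972 = n19730 := d13_2 (iv F36999) D23972 (iv D19730)
def n23973 : Q := act 4 n19666
theorem D23973 : act 4 n19666 = n23973 := rfl
theorem F48272 : act 0 n23973 = n19668 := d3_1 D23973 (iv D19668) (iv F36998)
theorem F48273 : act 1 n23973 = n23207 := d8_1 D23973 (iv F48264) F48263
theorem F48274 : act 3 n23973 = n19845 := d15_1 D23973 (iv D19845) (iv D14601) (iv F25233) D19666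
theorem F48275 : act 5 n23973 = n19731 := d18_2 (iv F36999) D23973 (iv D19731)
def n23974 : Q := act 1 n19667
theorem D23974 : act 1 n19667 = n23974 := rfl
theorem F48276 : act 2 n23974 = n20209 := d6_2 D19667 D23974 (iv D20209) (iv D14978) (iv F25235)
theorem F48277 : act 3 n23974 = n23103 := d7_2 F40993 D23974 F45884
theorem F48278 : act 5 n23974 = n20209 := d9_2 (iv F37000) D23974 (iv D20209) F26071 (iv F25325)
def n23975 : Q := act 4 n19667
theorem D23975 : act 4 n19667 = n23975 := rfl
theorem F48279 : act 2 n23975 = n19668 := d12_1 D23975 (iv D19668) D19667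
theorem F48280 : act 5 n23975 = n19737 := d18_2 (iv F37000) D23975 (iv D19737)
def n23976 : Q := act 6 n19667
theorem D23976 : act 6 n19667 = n23976 := rfl
theorem F48281 : act 2 n23976 = n19669 := d14_1 D23976 (iv D19669) D19667
def n23977 : Q := act 6 n19668
theorem D23977 : act 6 n19668 = n23977 := rfl
theorem F48282 : act 3 n23977 = n19846 := d17_1 D23977 (iv D19846) (iv F37002)
theorem F48283 : act 4 n23977 = n19669 := d19_1 D23977 (iv D19669) D19668
def n23978 : Q := act 1 n19669
theorem D23978 : act 1 n19669 = n23978 := rfl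
theorem F48284 : act 3 n23978 = n19670 := d7_2 (iv F37004) D23978 (iv D19670)
theorem F48285 : act 6 n23978 = n20214 := d10_2 D19669 D23978 (iv D20214) (iv D14980) (iv F25235)
def n23979 : Q := act 0 n19670
theorem D23979 : act 0 n19670 = n23979 := rfl
theorem F48286 : act 4 n23979 = n19848 := d3_2 (iv F37005) D23979 (iv D19848)
theorem F48287 : act 6 n23979 = n20215 := d5_2 (iv F37006) D23979 (iv D20215)
def n23980 : Q := act 2 n19670
theorem D23980 : act 2 n19670 = n23980 := rfl
theorem F48288 : act 1 n23980 = n19672 := d6_1 D23980 (iv D19672) (iv D14459) (iv F25237) D19670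
theorem F48289 : act 4 n23980 = n19849 := d12_2 (iv F37005) D23980 (iv D19849)
theorem F48290 : act 6 n23980 = n20216 := d14_2 (iv F37006) D23980 (iv D20216)
def n23981 : Q := act 5 n19670
theorem D23981 : act 5 n19670 = n23981 := rfl
theorem F48291 : act 4 n23981 = n19850 := d18_1 D23981 (iv D19850) (iv F37005)
def n23982 : Q := act 1 n19671
theorem D23982 : act 1 n19671 = n23982 := rfl
theorem F48292 : act 0 n23982 = n23871 := d0_1 D23982 F47924 F47338 (iv F47332) (iv D19747) (iv D14511) F20024 D14459 D19671
theorem F48293 : act 3 n23982 = n23881 := d7_2 F37052 D23982 F47954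
theorem F48294 : act 4 n23982 = n19851 := d8_2 (iv F37007) D23982 (iv D19851)
theorem F48295 : act 5 n23869 = n23982 := d24_1 (iv F47921) (iv D23982) F37008 D19676 (iv F47977) (iv D23890) (iv F47965) F47962 F37097 D19709 (iv F37118) (iv D14536) (iv F25372) D19780
def n23983 : Q := act 2 n19671
theorem D23983 : act 2 n19671 = n23983 := rfl
theorem F48296 : act 0 n23983 = n19672 := d1_1 D23983 (iv D19672) D19671
theorem F48297 : act 4 n23983 = n19852 := d12_2 (iv F37007) D23983 (iv D19852)
theorem F48298 : act 6 n23983 = n19675 := d14_2 (iv F37008) D23983 (iv D19675)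
def n23984 : Q := act 3 n19672
theorem D23984 : act 3 n19672 = n23984 := rfl
theorem F48299 : act 4 n23984 = n23030 := d15_2 (iv F37009) D23984 F45661 F44679 (iv D19853)
theorem F48300 : act 6 n23984 = n19677 := d17_2 (iv F37010) D23984 (iv D19677)
theorem F48301 : act 2 n22941 = n23984 := d14_3 F48300 (iv F39821) (iv F45397)
def n23985 : Q := act 5 n19672
theorem D23985 : act 5 n19672 = n23985 := rfl
theorem F48302 : act 2 n23985 = n19673 := d13_1 D23985 (iv D19673) D19672
theorem F48303 : act 4 n23985 = n19854 := d18_1 D23985 (iv D19854) (iv F37009)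
def n23986 : Q := act 0 n19674
theorem D23986 : act 0 n19674 = n23986 := rfl
theorem F48304 : act 4 n23986 = n19855 := d3_2 (iv F37012) D23986 (iv D19855)
theorem F48305 : act 6 n23904 = n23986 := d22_3 F48031 (iv D23907) (iv F48020) (iv D23986)
def n23987 : Q := act 2 n19674
theorem D23987 : act 2 n19674 = n23987 := rfl
theorem F48306 : act 4 n23987 = n19856 := d12_2 (iv F37012) D23987 (iv D19856)
def n23988 : Q := act 6 n19674
theorem D23988 : act 6 n19674 = n23988 := rfl
theorem F48307 : act 0 n23988 = n23904 := d5_1 D23988 F48305 (iv D23986)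
theorem F48308 : act 3 n23988 = n23901 := d17_1 D23988 (iv F48013) F37047
theorem F48309 : act 4 n23988 = n19857 := d19_1 D23988 (iv D19857) (iv F37012)
theorem F48310 : act 5 n23988 = n23895 := d24_1 D23988 (iv D23895) (iv D19560) (iv F36673) (iv F37164) (iv F37179) (iv D19728) D19727 F37176 D19736 F37198 (iv F37017) (iv D19676) D19674
def n23989 : Q := act 1 n19675
theorem D23989 : act 1 n19675 = n23989 := rfl
theorem F48311 : act 4 n23989 = n19858 := d8_2 (iv F37014) D23989 (iv D19858)
def n23990 : Q := act 3 n19675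
theorem D23990 : act 3 n19675 = n23990 := rfl
theorem F48312 : act 0 n23990 = n19677 := d2_1 D23990 (iv D19677) (iv F37013)
theorem F48313 : act 2 n23990 = n22883 := d21_2 D19675 D23990 F45237 F39798 (iv D19693) (iv D14469) F19991 D14460
theorem F48314 : act 4 n23031 = n23990 := d12_0 F48313 F45238 D23031
def n23991 : Q := act 5 n19675
theorem D23991 : act 5 n19675 = n23991 := rfl
theorem F48315 : act 0 n23991 = n19678 := d4_1 D23991 (iv D19678) (iv F37013)
theorem F48316 : act 2 n23991 = n19676 := d13_1 D23991 (iv D19676) D19675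
theorem F48317 : act 4 n23991 = n19860 := d18_1 D23991 (iv D19860) (iv F37014)
theorem F48318 : act 6 n23991 = n23985 := d22_1 D23991 (iv D23985) F37010 (iv F37013)
def n23992 : Q := act 5 n19677
theorem D23992 : act 5 n19677 = n23992 := rfl
theorem F48319 : act 2 n23992 = n22942 := d13_1 D23992 (iv D22942) F39821
theorem F48320 : act 3 n23992 = n19678 := d16_1 D23992 (iv D19678) D19677
theorem F48321 : act 4 n23992 = n23033 := d18_1 D23992 (iv D23033) (iv F39822)
def n23993 : Q := act 6 n19678
theorem D23993 : act 6 n19678 = n23993 := rfl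
theorem F48322 : act 0 n23993 = n23985 := d5_1 D23993 (iv F48318) F48315
theorem F48323 : act 2 n23993 = n19679 := d14_1 D23993 (iv D19679) (iv F37019)
theorem F48324 : act 4 n23993 = n19864 := d19_1 D23993 (iv D19864) (iv F37020)
theorem F48325 : act 5 n23993 = n23983 := d20_1 D23993 F48298 D23991 F48318 (iv D23985) F37010 D19678
def n23994 : Q := act 1 n19679
theorem D23994 : act 1 n19679 = n23994 := rfl
theorem F48326 : act 3 n23994 = n19774 := d7_2 F37045 D23994 F37284
theorem F48327 : act 4 n23994 = n19865 := d8_2 (iv F37022) D23994 (iv D19865)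
theorem F48328 : act 6 n23994 = n19713 := d10_2 D19679 D23994 (iv D19713) F25303 (iv F25244)
theorem F48329 : act 0 n23903 = n23994 := d5_3 F48328 (iv F37130) D23903
def n23995 : Q := act 3 n19681
theorem D23995 : act 3 n19681 = n23995 := rfl
theorem F48330 : act 1 n23995 = n19682 := d7_1 D23995 (iv D19682) D19681
theorem F48331 : act 4 n23995 = n23283 := d15_2 (iv F37029) D23995 F46309 F33785 (iv F34565)
theorem F48332 : act 6 n23995 = n23281 := d17_2 (iv F37030) D23995 F46307
def n23996 : Q := act 5 n19681
theorem D23996 : act 5 n19681 = n23996 := rfl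
theorem F48333 : act 2 n23996 = n23696 := d13_1 D23996 (iv D23696) (iv F37028)
theorem F48334 : act 4 n23996 = n19866 := d18_1 D23996 (iv D19866) (iv F37029)
theorem F48335 : act 6 n23996 = n23867 := d22_1 D23996 (iv D23867) (iv F47900) F47897
def n23997 : Q := act 2 n19682
theorem D23997 : act 2 n19682 = n23997 := rfl
theorem F48336 : act 0 n23997 = n19683 := d1_1 D23997 (iv D19683) (iv F37031)
theorem F48337 : act 3 n23997 = n23969 := d11_2 D19682 D23997 (iv D23969) (iv D19663) (iv D14453) F19975 D11267 D14465 D19683 (iv F41040) F41039 F27779 (iv F34699) F25223 D14464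
theorem F48338 : act 6 n23997 = n19768 := d14_2 (iv F37032) D23997 (iv D19768)
def n23998 : Q := act 4 n19682
theorem D23998 : act 4 n19682 = n23998 := rfl
theorem F48339 : act 0 n23998 = n19684 := d3_1 D23998 (iv D19684) (iv F37031)
theorem F48340 : act 1 n23998 = n23283 := d8_1 D23998 (iv F48331) F48330
theorem F48341 : act 3 n23998 = n19867 := d15_1 D23998 (iv D19867) (iv D14620) (iv F25248) D19682
theorem F48342 : act 6 n23998 = n19769 := d19_2 (iv F37032) D23998 (iv D19769)
def n23999 : Q := act 1 n19683
theorem D23999 : act 1 n19683 = n23999 := rfl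
theorem F48343 : act 2 n23999 = n20243 := d6_2 D19683 D23999 (iv D20243) (iv D14997) (iv F25250)
theorem F48344 : act 3 n23999 = n23115 := d7_2 F41040 D23999 F45906
theorem F48345 : act 6 n23999 = n20243 := d10_2 (iv F37033) D23999 (iv D20243) F26102 (iv F25363)
def n24000 : Q := act 4 n19683
theorem D24000 : act 4 n19683 = n24000 := rfl
theorem F48346 : act 2 n24000 = n19684 := d12_1 D24000 (iv D19684) D19683
theorem F48347 : act 6 n24000 = n19775 := d19_2 (iv F37033) D24000 (iv D19775)
def n24001 : Q := act 5 n19683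
theorem D24001 : act 5 n19683 = n24001 := rfl
theorem F48348 : act 2 n24001 = n19685 := d13_1 D24001 (iv D19685) D19683
def n24002 : Q := act 5 n19684
theorem D24002 : act 5 n19684 = n24002 := rfl
theorem F48349 : act 3 n24002 = n19868 := d16_1 D24002 (iv D19868) (iv F37035)
theorem F48350 : act 4 n24002 = n19685 := d18_1 D24002 (iv D19685) D19684
def n24003 : Q := act 1 n19685
theorem D24003 : act 1 n19685 = n24003 := rfl
theorem F48351 : act 3 n24003 = n19686 := d7_2 (iv F37037) D24003 (iv D19686)
theorem F48352 : act 5 n24003 = n20248 := d9_2 D19685 D24003 (iv D20248) (iv D14999) (iv F25250)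
def n24004 : Q := act 0 n19686
theorem D24004 : act 0 n19686 = n24004 := rfl
theorem F48353 : act 4 n24004 = n19870 := d3_2 (iv F37038) D24004 (iv D19870)
theorem F48354 : act 5 n24004 = n20249 := d4_2 (iv F37039) D24004 (iv D20249)
def n24005 : Q := act 2 n19686
theorem D24005 : act 2 n19686 = n24005 := rfl
theorem F48355 : act 1 n24005 = n19688 := d6_1 D24005 (iv D19688) (iv D14467) (iv F25252) D19686
theorem F48356 : act 4 n24005 = n19871 := d12_2 (iv F37038) D24005 (iv D19871)
theorem F48357 : act 5 n24005 = n20250 := d13_2 (iv F37039) D24005 (iv D20250)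
def n24006 : Q := act 6 n19686
theorem D24006 : act 6 n19686 = n24006 := rfl
theorem F48358 : act 4 n24006 = n19872 := d19_1 D24006 (iv D19872) (iv F37038)
def n24007 : Q := act 1 n19687
theorem D24007 : act 1 n19687 = n24007 := rfl
theorem F48359 : act 0 n24007 = n23875 := d0_1 D24007 F47936 F47201 (iv F47195) (iv D19785) (iv D14533) F20043 D14467 D19687
theorem F48360 : act 3 n24007 = n23890 := d7_2 (iv F37040) D24007 F47977
theorem F48361 : act 4 n24007 = n19873 := d8_2 (iv F37041) D24007 (iv D19873)
theorem F48362 : act 6 n24007 = n23873 := d24_3 (iv D19692) (iv F37042) D24007 F47933 (iv D19742) F25334 D14514 (iv F37160) (iv D19722) (iv F37139) (iv F47939) F47942 D23881 F47954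
def n24008 : Q := act 2 n19687
theorem D24008 : act 2 n19687 = n24008 := rfl
theorem F48363 : act 0 n24008 = n19688 := d1_1 D24008 (iv D19688) D19687
theorem F48364 : act 4 n24008 = n19874 := d12_2 (iv F37041) D24008 (iv D19874)
theorem F48365 : act 5 n24008 = n19691 := d13_2 (iv F37042) D24008 (iv D19691)
def n24009 : Q := act 3 n19688
theorem D24009 : act 3 n19688 = n24009 := rfl
theorem F48366 : act 4 n24009 = n23005 := d15_2 (iv F37043) D24009 F45577 F44552 (iv D19875)
theorem F48367 : act 5 n24009 = n19693 := d16_2 (iv F37044) D24009 (iv D19693)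
theorem F48368 : act 2 n22912 = n24009 := d13_3 F48367 (iv F39798) (iv F45328)
def n24010 : Q := act 6 n19688
theorem D24010 : act 6 n19688 = n24010 := rfl
theorem F48369 : act 2 n24010 = n19689 := d14_1 D24010 (iv D19689) D19688
theorem F48370 : act 4 n24010 = n19876 := d19_1 D24010 (iv D19876) (iv F37043)
def n24011 : Q := act 0 n19690
theorem D24011 : act 0 n19690 = n24011 := rfl
theorem F48371 : act 1 n24011 = n23986 := d0_2 D19690 D24011 (iv D23986) (iv D19674) (iv D14460) (iv D11265) (iv F13360) D11269 D14468
theorem F48372 : act 3 n24011 = n23986 := d2_2 (iv F37047) D24011 (iv D23986)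
theorem F48373 : act 4 n24011 = n19877 := d3_2 (iv F37048) D24011 (iv D19877)
theorem F48374 : act 5 n24011 = n23899 := d22_0 F48008 D23901 (iv F48013) D24011
def n24012 : Q := act 2 n19690
theorem D24012 : act 2 n19690 = n24012 := rfl
theorem F48375 : act 4 n24012 = n19878 := d12_2 (iv F37048) D24012 (iv D19878)
def n24013 : Q := act 5 n19690
theorem D24013 : act 5 n19690 = n24013 := rfl
theorem F48376 : act 0 n24013 = n23899 := d4_1 D24013 (iv F48374) (iv D24011)
theorem F48377 : act 3 n24013 = n23907 := d16_1 D24013 (iv F48031) (iv F37047)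
theorem F48378 : act 4 n24013 = n19879 := d18_1 D24013 (iv D19879) (iv F37048)
theorem F48379 : act 6 n24013 = n23897 := d22_3 D23901 (iv F48013) D24013 F47998
def n24014 : Q := act 1 n19691
theorem D24014 : act 1 n19691 = n24014 := rfl
theorem F48380 : act 4 n24014 = n19880 := d8_2 (iv F37050) D24014 (iv D19880)
def n24015 : Q := act 3 n19691
theorem D24015 : act 3 n19691 = n24015 := rfl
theorem F48381 : act 0 n24015 = n19693 := d2_1 D24015 (iv D19693) (iv F37049)
theorem F48382 : act 2 n24015 = n22892 := d11_1 D24015 F45274 F39821 (iv D19677) (iv D14461) (iv F19991) D14469 D19693 (iv F39798) (iv F45237) (iv F48313) (iv D23990) (iv D19675) (iv F25257) D19691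
theorem F48383 : act 4 n23006 = n24015 := d12_0 F48382 F45275 D23006
def n24016 : Q := act 6 n19691
theorem D24016 : act 6 n19691 = n24016 := rfl
theorem F48384 : act 0 n24016 = n19694 := d5_1 D24016 (iv D19694) (iv F37049)
theorem F48385 : act 2 n24016 = n19692 := d14_1 D24016 (iv D19692) D19691
theorem F48386 : act 4 n24016 = n19882 := d19_1 D24016 (iv D19882) (iv F37050)
theorem F48387 : act 5 n24016 = n24010 := d22_2 F48365 D24016 (iv D24010) (iv F48363)
def n24017 : Q := act 6 n19693
theorem D24017 : act 6 n19693 = n24017 := rfl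
theorem F48388 : act 2 n24017 = n22913 := d14_1 D24017 (iv D22913) F39798
theorem F48389 : act 3 n24017 = n19694 := d17_1 D24017 (iv D19694) D19693
theorem F48390 : act 4 n24017 = n23008 := d19_1 D24017 (iv D23008) (iv F39799)
def n24018 : Q := act 5 n19694
theorem D24018 : act 5 n19694 = n24018 := rfl
theorem F48391 : act 0 n24018 = n24010 := d4_1 D24018 (iv F48387) F48384
theorem F48392 : act 2 n24018 = n19695 := d13_1 D24018 (iv D19695) (iv F37056)
theorem F48393 : act 4 n24018 = n19886 := d18_1 D24018 (iv D19886) (iv F37057)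
theorem F48394 : act 6 n24018 = n24008 := d20_2 D19694 D24018 F48365 D24016 F48387 (iv D24010) F37044
def n24019 : Q := act 1 n19695
theorem D24019 : act 1 n19695 = n24019 := rfl
theorem F48395 : act 3 n24019 = n19736 := d7_2 (iv F37059) D24019 F37198
theorem F48396 : act 4 n24019 = n19887 := d8_2 (iv F37060) D24019 (iv D19887)
theorem F48397 : act 5 n24019 = n19700 := d9_2 D19695 D24019 (iv D19700) F25286 (iv F25261)
theorem F48398 : act 0 n23909 = n24019 := d4_3 F48397 (iv F37088) D23909
def n24020 : Q := act 1 n19699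
theorem D24020 : act 1 n19699 = n24020 := rfl
theorem F48399 : act 0 n24020 = n19761 := d0_1 D24020 (iv D19761) F25349 D19746 F47345 (iv D23699) (iv F36293) (iv F47471) F47470
theorem F48400 : act 3 n24020 = n19727 := d7_2 (iv F37084) D24020 (iv D19727)
theorem F48401 : act 4 n24020 = n19999 := d8_2 (iv F37085) D24020 F37786
theorem F48402 : act 6 n24020 = n19700 := d10_2 D19699 D24020 (iv D19700) (iv D14478) D14477
def n24021 : Q := act 4 n19701
theorem D24021 : act 4 n19701 = n24021 := rfl
theorem F48403 : act 0 n24021 = n20161 := d3_1 D24021 F38176 (iv F37089)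
theorem F48404 : act 1 n24021 = n20136 := d8_1 D24021 F38100 (iv F37090)
theorem F48405 : act 2 n24021 = n19702 := d12_1 D24021 (iv D19702) D19701
def n24022 : Q := act 6 n19701
theorem D24022 : act 6 n19701 = n24022 := rfl
theorem F48406 : act 0 n24022 = n21203 := d5_1 D24022 (iv D21203) (iv F37089)
theorem F48407 : act 2 n24022 = n19703 := d14_1 D24022 (iv D19703) D19701
def n24023 : Q := act 3 n19705
theorem D24023 : act 3 n19705 = n24023 := rfl
theorem F48408 : act 0 n24023 = n20271 := d2_1 D24023 F38422 (iv F37100)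
theorem F48409 : act 1 n24023 = n20285 := d7_1 D24023 F38451 (iv F37101)
theorem F48410 : act 4 n24023 = n21342 := d15_2 (iv F37102) D24023 F41289 F28174 (iv F26563)
theorem F48411 : act 5 n24023 = n20269 := d16_2 F37104 D24023 F38418
theorem F48412 : act 6 n24023 = n19710 := d17_2 (iv F37103) D24023 (iv D19710)
def n24024 : Q := act 2 n19707
theorem D24024 : act 2 n19707 = n24024 := rfl
theorem F48413 : act 4 n24024 = n20756 := d12_2 F37422 D24024 F39387
theorem F48414 : act 6 n24024 = n20438 := d14_2 F45732 D24024 F45734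
def n24025 : Q := act 0 n19708
theorem D24025 : act 0 n19708 = n24025 := rfl
theorem F48415 : act 2 n24025 = n21310 := d1_2 (iv F37110) D24025 (iv D21310)
theorem F48416 : act 3 n24025 = n19750 := d2_2 (iv F37111) D24025 (iv D19750)
theorem F48417 : act 4 n24025 = n20033 := d3_2 (iv F37112) D24025 F37848
theorem F48418 : act 5 n24025 = n23647 := d4_2 F37304 D24025 (iv F47208)
theorem F48419 : act 6 n19787 = n24025 := d22_3 (iv F37304) F37305 D19787 (iv D24025)
def n24026 : Q := act 6 n19708
theorem D24026 : act 6 n19708 = n24026 := rfl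
theorem F48420 : act 0 n24026 = n19787 := d5_1 D24026 F48419 (iv D24025)
theorem F48421 : act 1 n24026 = n23893 := d10_1 D24026 F47986 F47962 F37097 D19708
theorem F48422 : act 2 n24026 = n21313 := d14_1 D24026 (iv D21313) (iv F37110)
theorem F48423 : act 3 n24026 = n19753 := d17_1 D24026 (iv D19753) (iv F37111)
theorem F48424 : act 4 n24026 = n20031 := d19_1 D24026 F37843 (iv F37112)
theorem F48425 : act 5 n24026 = n19785 := d20_1 D24026 (iv F47207) (iv F48418) (iv F48419) (iv D19787) (iv F37305) F37304
def n24027 : Q := act 2 n19710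
theorem D24027 : act 2 n19710 = n24027 := rfl
theorem F48426 : act 0 n24027 = n21239 := d1_1 D24027 (iv D21239) (iv F37119)
def n24028 : Q := act 1 n19712
theorem D24028 : act 1 n19712 = n24028 := rfl
theorem F48427 : act 0 n24028 = n19799 := d0_1 D24028 (iv D19799) F25387 D19784 F47208 (iv D23647) (iv F36188) D23746 F47490
theorem F48428 : act 3 n24028 = n19764 := d7_2 (iv F37126) D24028 (iv D19764)
theorem F48429 : act 4 n24028 = n20053 := d8_2 (iv F37127) D24028 F37883
theorem F48430 : act 5 n24028 = n19713 := d9_2 D19712 D24028 (iv D19713) (iv D14488) D14486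
def n24029 : Q := act 4 n19714
theorem D24029 : act 4 n19714 = n24029 := rfl
theorem F48431 : act 0 n24029 = n20178 := d3_1 D24029 F38225 (iv F37131)
theorem F48432 : act 1 n24029 = n20142 := d8_1 D24029 F38116 (iv F37132)
theorem F48433 : act 2 n24029 = n19715 := d12_1 D24029 (iv D19715) D19714
def n24030 : Q := act 5 n19714
theorem D24030 : act 5 n19714 = n24030 := rfl
theorem F48434 : act 0 n24030 = n21226 := d4_1 D24030 (iv D21226) (iv F37131)
theorem F48435 : act 2 n24030 = n19716 := d13_1 D24030 (iv D19716) D19714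
def n24031 : Q := act 3 n19718
theorem D24031 : act 3 n19718 = n24031 := rfl
theorem F48436 : act 0 n24031 = n20291 := d2_1 D24031 F38468 (iv F37142)
theorem F48437 : act 1 n24031 = n20266 := d7_1 D24031 F38411 (iv F37143)
theorem F48438 : act 4 n24031 = n21332 := d15_2 (iv F37144) D24031 F41269 F28133 (iv F26537)
theorem F48439 : act 5 n24031 = n19723 := d16_2 (iv F37145) D24031 (iv D19723)
theorem F48440 : act 6 n24031 = n20289 := d17_2 F37146 D24031 F38464
def n24032 : Q := act 2 n19720
theorem D24032 : act 2 n19720 = n24032 := rfl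
theorem F48441 : act 4 n24032 = n20707 := d12_2 F37427 D24032 F39294
theorem F48442 : act 5 n24032 = n20404 := d13_2 F45741 D24032 F45744
def n24033 : Q := act 0 n19721
theorem D24033 : act 0 n19721 = n24033 := rfl
theorem F48443 : act 1 n24033 = n24025 := d0_2 D19721 D24033 (iv D24025) (iv D19708) (iv D14483) (iv D11277) (iv F13372) D11281 D14493
theorem F48444 : act 2 n24033 = n21271 := d1_2 (iv F37152) D24033 (iv D21271)
theorem F48445 : act 3 n24033 = n19788 := d2_2 (iv F37153) D24033 (iv D19788)
theorem F48446 : act 4 n24033 = n19979 := d3_2 (iv F37154) D24033 F37752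
theorem F48447 : act 6 n24033 = n23699 := d5_2 F37218 D24033 (iv F47345)
theorem F48448 : act 5 n24033 = n19749 := d22_0 (iv D19749) (iv F37217) F37218 D24033
def n24034 : Q := act 5 n19721
theorem D24034 : act 5 n19721 = n24034 := rfl
theorem F48449 : act 0 n24034 = n19749 := d4_1 D24034 (iv F48448) (iv D24033)
theorem F48450 : act 1 n24034 = n23884 := d9_1 D24034 F47961 F47939 F37139 D19721
theorem F48451 : act 2 n24034 = n21273 := d13_1 D24034 (iv D21273) (iv F37152)
theorem F48452 : act 3 n24034 = n19790 := d16_1 D24034 (iv D19790) (iv F37153)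
theorem F48453 : act 4 n24034 = n19977 := d18_1 D24034 F37747 (iv F37154)
theorem F48454 : act 6 n24034 = n19747 := d20_2 F37218 D24034 (iv F47344) (iv F48447) F48448 (iv D19749) (iv F37217)
def n24035 : Q := act 2 n19723
theorem D24035 : act 2 n19723 = n24035 := rfl
theorem F48455 : act 0 n24035 = n21215 := d1_1 D24035 (iv D21215) (iv F37161)
def n24036 : Q := act 1 n19725
theorem D24036 : act 1 n19725 = n24036 := rfl
theorem F48456 : act 4 n24036 = n19946 := d8_2 (iv F37169) D24036 (iv D19946)
theorem F48457 : act 6 n24036 = n23502 := d10_2 D19725 D24036 (iv D23502) (iv D19058) F28909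
def n24037 : Q := act 5 n19727
theorem D24037 : act 5 n19727 = n24037 := rfl
theorem F48458 : act 0 n24037 = n23888 := d4_1 D24037 F47971 F38525
theorem F48459 : act 4 n24037 = n19947 := d18_1 D24037 (iv D19947) (iv F37175)
def n24038 : Q := act 1 n19728
theorem D24038 : act 1 n19728 = n24038 := rfl
theorem F48460 : act 0 n24038 = n19774 := d0_1 D24038 F37284 (iv F37058) D24019 (iv F48398) F48035 F47556 F37174 (iv F37177)
theorem F48461 : act 3 n24038 = n23903 := d7_2 F47453 D24038 F48017
theorem F48462 : act 4 n24038 = n19948 := d8_2 (iv F37178) D24038 (iv D19948)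
theorem F48463 : act 6 n24038 = n19772 := d10_2 (iv F37179) D24038 (iv F37282) F36731 (iv F37164)
def n24039 : Q := act 4 n19730
theorem D24039 : act 4 n19730 = n24039 := rfl
theorem F48464 : act 0 n24039 = n19737 := d3_1 D24039 (iv D19737) (iv F37185)
theorem F48465 : act 2 n24039 = n19731 := d12_1 D24039 (iv D19731) D19730
def n24040 : Q := act 6 n19730
theorem D24040 : act 6 n19730 = n24040 := rfl
theorem F48466 : act 0 n24040 = n19738 := d5_1 D24040 (iv D19738) (iv F37185)
theorem F48467 : act 2 n24040 = n19732 := d14_1 D24040 (iv D19732) D19730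
theorem F48468 : act 3 n24040 = n24022 := d17_1 D24040 (iv D24022) (iv F37186)
theorem F48469 : act 5 n24040 = n23976 := d22_2 F48271 D24040 (iv D23976) (iv F48269)
def n24041 : Q := act 6 n19731
theorem D24041 : act 6 n19731 = n24041 := rfl
theorem F48470 : act 0 n24041 = n19739 := d5_1 D24041 (iv D19739) (iv F37187)
theorem F48471 : act 3 n24041 = n19950 := d17_1 D24041 (iv D19950) (iv F37189)
theorem F48472 : act 4 n24041 = n19732 := d19_1 D24041 (iv D19732) D19731
theorem F48473 : act 5 n24041 = n23977 := d22_2 F48275 D24041 (iv D23977) (iv F48272)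
def n24042 : Q := act 1 n19732
theorem D24042 : act 1 n19732 = n24042 := rfl
theorem F48474 : act 3 n24042 = n19733 := d7_2 (iv F37191) D24042 (iv D19733)
def n24043 : Q := act 0 n19733
theorem D24043 : act 0 n19733 = n24043 := rfl
theorem F48475 : act 4 n24043 = n19951 := d3_2 (iv F37193) D24043 (iv D19951)
def n24044 : Q := act 2 n19733
theorem D24044 : act 2 n19733 = n24044 := rfl
theorem F48476 : act 1 n24044 = n19735 := d6_1 D24044 (iv D19735) (iv D14503) (iv F25321) D19733
theorem F48477 : act 4 n24044 = n19952 := d12_2 (iv F37193) D24044 (iv D19952)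
def n24045 : Q := act 5 n19733
theorem D24045 : act 5 n19733 = n24045 := rfl
theorem F48478 : act 1 n24045 = n23981 := d9_1 D24045 (iv D23981) (iv D19670) (iv F25323) D19733
theorem F48479 : act 4 n24045 = n19953 := d18_1 D24045 (iv D19953) (iv F37193)
def n24046 : Q := act 5 n19734
theorem D24046 : act 5 n19734 = n24046 := rfl
theorem F48480 : act 0 n24046 = n19736 := d4_1 D24046 (iv D19736) D19734
theorem F48481 : act 1 n24046 = n19765 := d9_1 D24046 F37259 F37250 (iv F36753) F37196
theorem F48482 : act 3 n24046 = n23909 := d16_1 D24046 (iv D23909) (iv F37194)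
theorem F48483 : act 4 n24046 = n19954 := d18_1 D24046 (iv D19954) (iv F37195)
theorem F48484 : act 6 n24046 = n24037 := d20_2 F38528 D24046 (iv D24037) F37176 D19736 F47973 F47971
def n24047 : Q := act 3 n19735
theorem D24047 : act 3 n19735 = n24047 := rfl
def n24048 : Q := act 5 n19735
theorem D24048 : act 5 n19735 = n24048 := rfl
theorem F48485 : act 2 n24048 = n19736 := d13_1 D24048 (iv D19736) D19735
theorem F48486 : act 4 n24048 = n19956 := d18_1 D24048 (iv D19956) (iv F37197)
theorem F48487 : act 6 n24048 = n20314 := d22_1 D24048 (iv D20314) (iv F38507) (iv F38508)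
def n24049 : Q := act 3 n19737
theorem D24049 : act 3 n19737 = n24049 := rfl
theorem F48488 : act 1 n24049 = n20318 := d7_1 D24049 (iv D20318) (iv F37200)
def n24050 : Q := act 6 n19737
theorem D24050 : act 6 n19737 = n24050 := rfl
theorem F48489 : act 2 n24050 = n19739 := d14_1 D24050 (iv D19739) (iv F37201)
theorem F48490 : act 4 n24050 = n19738 := d19_1 D24050 (iv D19738) D19737
def n24051 : Q := act 1 n19738
theorem D24051 : act 1 n19738 = n24051 := rfl
theorem F48491 : act 6 n24051 = n20320 := d10_2 D19738 D24051 (iv D20320) (iv D15051) (iv F25325)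
def n24052 : Q := act 5 n19738
theorem D24052 : act 5 n19738 = n24052 := rfl
theorem F48492 : act 0 n24052 = n23976 := d4_1 D24052 (iv F48469) F48466
theorem F48493 : act 2 n24052 = n19740 := d13_1 D24052 (iv D19740) (iv F37202)
theorem F48494 : act 6 n24052 = n23972 := d20_2 D19738 D24052 F48271 D24040 F48469 (iv D23976) F37000
def n24053 : Q := act 5 n19739
theorem D24053 : act 5 n19739 = n24053 := rfl
theorem F48495 : act 0 n24053 = n23977 := d4_1 D24053 (iv F48473) F48470
theorem F48496 : act 3 n24053 = n19960 := d16_1 D24053 (iv D19960) (iv F37203)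
theorem F48497 : act 4 n24053 = n19740 := d18_1 D24053 (iv D19740) (iv F37204)
theorem F48498 : act 6 n24053 = n23973 := d20_2 D19739 D24053 F48275 D24041 F48473 (iv D23977) F37003
def n24054 : Q := act 1 n19740
theorem D24054 : act 1 n19740 = n24054 := rfl
theorem F48499 : act 3 n24054 = n19741 := d7_2 (iv F37206) D24054 (iv D19741)
def n24055 : Q := act 0 n19741
theorem D24055 : act 0 n19741 = n24055 := rfl
theorem F48500 : act 4 n24055 = n19962 := d3_2 (iv F37208) D24055 (iv D19962)
def n24056 : Q := act 2 n19741
theorem D24056 : act 2 n19741 = n24056 := rfl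
theorem F48501 : act 1 n24056 = n19748 := d6_1 D24056 (iv D19748) (iv D14511) (iv F25330) D19741
theorem F48502 : act 4 n24056 = n19963 := d12_2 (iv F37208) D24056 (iv D19963)
def n24057 : Q := act 6 n19741
theorem D24057 : act 6 n19741 = n24057 := rfl
theorem F48503 : act 1 n24057 = n23971 := d10_1 D24057 (iv D23971) (iv D19665) (iv F25332) D19741
theorem F48504 : act 4 n24057 = n19964 := d19_1 D24057 (iv D19964) (iv F37208)
def n24058 : Q := act 2 n19742
theorem D24058 : act 2 n19742 = n24058 := rfl
theorem F48505 : act 4 n24058 = n19966 := d12_2 (iv F37209) D24058 (iv D19966)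
def n24059 : Q := act 6 n19742
theorem D24059 : act 6 n19742 = n24059 := rfl
theorem F48506 : act 1 n24059 = n19753 := d10_1 D24059 (iv D19753) (iv D14512) (iv F25334) D19742
theorem F48507 : act 3 n24059 = n23893 := d17_1 D24059 F47986 F47963
theorem F48508 : act 4 n24059 = n19968 := d19_1 D24059 (iv D19968) (iv F37209)
theorem F48509 : act 5 n24059 = n23875 := d22_2 F47933 D24059 (iv D23875) D23873
def n24060 : Q := act 1 n19743
theorem D24060 : act 1 n19743 = n24060 := rfl
theorem F48510 : act 4 n24060 = n19969 := d8_2 (iv F37211) D24060 (iv D19969)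
def n24061 : Q := act 3 n19743
theorem D24061 : act 3 n19743 = n24061 := rfl
theorem F48511 : act 0 n24061 = n19744 := d2_1 D24061 (iv D19744) (iv F37210)
theorem F48512 : act 6 n24061 = n19755 := d17_2 (iv F37212) D24061 (iv D19755)
def n24062 : Q := act 2 n19744
theorem D24062 : act 2 n19744 = n24062 := rfl
theorem F48513 : act 6 n24062 = n19757 := d14_2 (iv F37213) D24062 (iv D19757)
def n24063 : Q := act 4 n19744
theorem D24063 : act 4 n19744 = n24063 := rfl
theorem F48514 : act 3 n24063 = n19972 := d15_1 D24063 (iv D19972) (iv D14748) (iv F25335) D19744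
theorem F48515 : act 6 n24063 = n19758 := d19_2 (iv F37213) D24063 (iv D19758)
def n24064 : Q := act 5 n19744
theorem D24064 : act 5 n19744 = n24064 := rfl
theorem F48516 : act 3 n24064 = n19745 := d16_1 D24064 (iv D19745) D19744
def n24065 : Q := act 1 n19745
theorem D24065 : act 1 n19745 = n24065 := rfl
theorem F48517 : act 4 n24065 = n19974 := d8_2 (iv F37215) D24065 (iv D19974)
theorem F48518 : act 0 n22525 = n24065 := d3_3 F48517 (iv F39636) (iv F44118)
theorem F48519 : act 6 n22520 = n24065 := d19_0 F48517 F39635 D22520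
def n24066 : Q := act 2 n19747
theorem D24066 : act 2 n19747 = n24066 := rfl
theorem F48520 : act 0 n24066 = n19748 := d1_1 D24066 (iv D19748) D19747
theorem F48521 : act 4 n24066 = n19976 := d12_2 (iv F37219) D24066 (iv D19976)
theorem F48522 : act 6 n24066 = n21273 := d14_2 F48454 D24066 (iv F48451)
def n24067 : Q := act 3 n19748
theorem D24067 : act 3 n19748 = n24067 := rfl
theorem F48523 : act 4 n24067 = n23250 := d15_2 (iv F37220) D24067 (iv D23250) F33733 (iv F36230)
def n24068 : Q := act 6 n19748
theorem D24068 : act 6 n19748 = n24068 := rfl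
theorem F48524 : act 0 n24068 = n21273 := d5_1 D24068 (iv F48522) F48520
theorem F48525 : act 2 n24068 = n19749 := d14_1 D24068 (iv D19749) D19748
theorem F48526 : act 4 n24068 = n19978 := d19_1 D24068 (iv D19978) (iv F37220)
theorem F48527 : act 5 n21271 = n24068 := d22_0 (iv D24068) F41139 (iv D21274) D21271
def n24069 : Q := act 1 n19751
theorem D24069 : act 1 n19751 = n24069 := rfl
theorem F48528 : act 0 n24069 = n20391 := d0_1 D24069 (iv D20391) (iv D15099) (iv D11581) F13979 D9354 D11584 D15105 (iv F37226)
theorem F48529 : act 2 n24069 = n19754 := d6_2 D19751 D24069 (iv D19754) (iv D14513) D14512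
theorem F48530 : act 4 n24069 = n19980 := d8_2 (iv F37227) D24069 (iv D19980)
def n24070 : Q := act 3 n19751
theorem D24070 : act 3 n19751 = n24070 := rfl
theorem F48531 : act 0 n24070 = n20397 := d2_1 D24070 F38704 (iv F37226)
def n24071 : Q := act 5 n19751
theorem D24071 : act 5 n19751 = n24071 := rfl
theorem F48532 : act 0 n24071 = n20403 := d4_1 D24071 (iv D20403) (iv F37226)
theorem F48533 : act 2 n24071 = n19752 := d13_1 D24071 (iv D19752) D19751
theorem F48534 : act 4 n24071 = n19982 := d18_1 D24071 (iv D19982) (iv F37227)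
theorem F48535 : act 6 n24071 = n24032 := d22_1 D24071 F48442 (iv D20404) (iv F37226)
def n24072 : Q := act 6 n19751
theorem D24072 : act 6 n19751 = n24072 := rfl
theorem F48536 : act 0 n24072 = n20404 := d5_1 D24072 (iv D20404) (iv F37226)
theorem F48537 : act 2 n24072 = n19753 := d14_1 D24072 (iv D19753) D19751
theorem F48538 : act 4 n24072 = n19983 := d19_1 D24072 (iv D19983) (iv F37227)
def n24073 : Q := act 0 n19754
theorem D24073 : act 0 n19754 = n24073 := rfl
theorem F48539 : act 2 n24073 = n20391 := d1_2 F48529 D24073 (iv F48528)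
theorem F48540 : act 4 n24073 = n19984 := d3_2 (iv F37233) D24073 (iv D19984)
def n24074 : Q := act 3 n19754
theorem D24074 : act 3 n19754 = n24074 := rfl
theorem F48541 : act 1 n24074 = n19755 := d7_1 D24074 (iv D19755) D19754
def n24075 : Q := act 5 n19754
theorem D24075 : act 5 n19754 = n24075 := rfl
theorem F48542 : act 4 n24075 = n19986 := d18_1 D24075 (iv D19986) (iv F37233)
theorem F48543 : act 1 n21711 = n24075 := d8_3 F48542 F37774 (iv F42070)
def n24076 : Q := act 6 n19754
theorem D24076 : act 6 n19754 = n24076 := rfl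
theorem F48544 : act 4 n24076 = n19987 := d19_1 D24076 (iv D19987) (iv F37233)
def n24077 : Q := act 2 n19755
theorem D24077 : act 2 n19755 = n24077 := rfl
theorem F48545 : act 0 n24077 = n19757 := d1_1 D24077 (iv D19757) (iv F37234)
theorem F48546 : act 3 n24077 = n24027 := d11_2 D19755 D24077 (iv D24027) (iv D19710) (iv D14484) F20009 D11290 D14515 D19757 (iv F41066) (iv D21239) F27789 (iv F35321) F25296 D14513
theorem F48547 : act 3 n24069 = n23363 := d25_18 (iv F13480) D11311 D14553 F25419 (iv D14546) (iv F25383) (iv D14537) (iv D11300) (iv F20012) D14494 F25311 D19710 D24027 (iv F48546) (iv D24077) (iv F48541) (iv D24074) (iv F48529) (iv D23363) F33893 (iv D13771) (iv D10888) F11978 D8052 (iv F17219) F12075 F32800 (iv D4370) F3339 (iv F32642) F3118 (iv D978) (iv D496) F511 F263 (iv F255) (iv F508) (iv F948) (iv F1706) (iv F15734) D1178 F1988 (iv F1290) F32672 (iv F2363) (iv D1440) (iv F32756) F702 F367 (iv F390) (iv F392) F370 F32749 (iv D185) (iv F358) D358 F32551 (iv D682) (iv D344) (iv F630) F16706 F16590 F1029 (iv F1058)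 (iv F1932) F16469 F32758 F32700 (iv F4495) (iv F32671) F16699 (iv F32788) (iv D2818) (iv D1363) (iv F2131) D2594 F17083
theorem F48548 : act 0 n23363 = n21836 := d2_1 F48547 F42339 (iv F48528)
theorem F48549 : act 1 n23363 = n24070 := d7_1 F48547 (iv D24070) D24069
theorem E10338 : n24073 = n23353 := ((c21_8 (iv F48529) F48547 (iv D23363) (iv D18926) (iv D13767) (iv F24171) D18920 D23353 (iv D24073))).symm
theorem F48550 : act 0 n23353 = n19754 := (sb E10338 (iv D24073))
theorem F48551 : act 2 n23353 = n20391 := (sb E10338 F48539)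
theorem F48552 : act 4 n23353 = n19984 := (sb E10338 F48540)
theorem E10339 : n24074 = n23351 := ((c21_1 D23351 (iv D24074) (iv F48529) F48547 (iv D23363) (iv D18926) (iv D13767) (iv F24171) D18919)).symm
theorem F48553 : act 1 n23351 = n19755 := (sb E10339 F48541)
theorem F48554 : act 3 n23351 = n19754 := (sb E10339 (iv D24074))
theorem F48555 : act 2 n21836 = n23360 := d21_0 (iv D23360) (iv D18924) (iv F33882) D23351 F48554 (iv F48529) F48547 F48548
theorem F48556 : act 2 n24070 = n23377 := d6_2 D23363 F48549 (iv D23377) (iv D18934) (iv F33893)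
def n24078 : Q := act 4 n19755
theorem D24078 : act 4 n19755 = n24078 := rfl
theorem F48557 : act 0 n24078 = n19758 := d3_1 D24078 (iv D19758) (iv F37234)
theorem F48558 : act 3 n24078 = n19989 := d15_1 D24078 (iv D19989) (iv D14759) (iv F25341) D19755
def n24079 : Q := act 5 n19755
theorem D24079 : act 5 n19755 = n24079 := rfl
theorem F48559 : act 0 n24079 = n19759 := d4_1 D24079 (iv D19759) (iv F37234)
theorem F48560 : act 3 n24079 = n19756 := d16_1 D24079 (iv D19756) D19755
theorem F48561 : act 6 n24079 = n24064 := d22_1 D24079 (iv D24064) F37213 (iv F37234)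
def n24080 : Q := act 1 n19756
theorem D24080 : act 1 n19756 = n24080 := rfl
theorem F48562 : act 2 n24080 = n21264 := d6_2 (iv F37236) D24080 F41123 (iv F37156) F37160
theorem F48563 : act 4 n24080 = n19991 := d8_2 (iv F37237) D24080 (iv D19991)
theorem F48564 : act 5 n24080 = n21711 := d9_2 D19756 D24080 F48543 (iv D24075) (iv D19754)
theorem F48565 : act 6 n24080 = n21263 := d10_2 (iv F37238) D24080 (iv F44107) F48519 (iv D24065)
theorem F48566 : act 0 n24080 = n21714 := d23_3 D14514 (iv F37236) D24080 (iv D21714) (iv D16406) (iv D12275) (iv D10055) F7892 D5191 F7897 (iv F7975) F16768 (iv D4321) (iv D2074) (iv F3249) (iv F3297) (iv F6570) D8937 D11289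
def n24081 : Q := act 1 n19757
theorem D24081 : act 1 n19757 = n24081 := rfl
theorem F48567 : act 2 n24081 = n19805 := d6_2 D19757 D24081 (iv D19805) (iv D14542) (iv F25345)
def n24082 : Q := act 4 n19757
theorem D24082 : act 4 n19757 = n24082 := rfl
theorem F48568 : act 2 n24082 = n19758 := d12_1 D24082 (iv D19758) D19757
def n24083 : Q := act 5 n19757
theorem D24083 : act 5 n19757 = n24083 := rfl
theorem F48569 : act 2 n24083 = n19759 := d13_1 D24083 (iv D19759) D19757
def n24084 : Q := act 5 n19758
theorem D24084 : act 5 n19758 = n24084 := rfl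
theorem F48570 : act 1 n24084 = n24084 := d9_1 D24084 (iv D24084) F37239 F25396 (iv F37239)
theorem F48571 : act 3 n24084 = n19996 := d16_1 D24084 (iv D19996) (iv F37240)
theorem F48572 : act 4 n24084 = n19759 := d18_1 D24084 (iv D19759) D19758
def n24085 : Q := act 6 n19759
theorem D24085 : act 6 n19759 = n24085 := rfl
theorem F48573 : act 0 n24085 = n24064 := d5_1 D24085 (iv F48561) F48559
theorem F48574 : act 3 n24085 = n19760 := d17_1 D24085 (iv D19760) (iv F37242)
theorem F48575 : act 5 n24085 = n24061 := d20_1 D24085 F48512 D24079 F48561 (iv D24064) F37213 D19759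
def n24086 : Q := act 1 n19760
theorem D24086 : act 1 n19760 = n24086 := rfl
theorem F48576 : act 4 n24086 = n19998 := d8_2 (iv F37245) D24086 (iv D19998)
theorem F48577 : act 6 n24086 = n24086 := d10_2 D19760 D24086 (iv D24086) (iv D19760) F25346
def n24087 : Q := act 2 n19761
theorem D24087 : act 2 n19761 = n24087 := rfl
theorem F48578 : act 4 n24087 = n20000 := d12_2 (iv F37247) D24087 (iv D20000)
theorem F48579 : act 6 n24087 = n23908 := d14_2 (iv F37248) D24087 (iv D23908)
def n24088 : Q := act 5 n19761
theorem D24088 : act 5 n19761 = n24088 := rfl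
theorem F48580 : act 1 n24088 = n23873 := d9_1 D24088 F47933 (iv D19742) (iv F25351) D19761
theorem F48581 : act 3 n24088 = n23888 := d16_1 D24088 F47971 (iv F38529)
theorem F48582 : act 4 n24088 = n20001 := d18_1 D24088 (iv D20001) (iv F37247)
theorem F48583 : act 6 n24088 = n24019 := d22_1 D24088 F48397 (iv F48402) F48399
def n24089 : Q := act 1 n19763
theorem D24089 : act 1 n19763 = n24089 := rfl
theorem F48584 : act 4 n24089 = n20002 := d8_2 (iv F37255) D24089 (iv D20002)
theorem F48585 : act 5 n24089 = n23517 := d9_2 D19763 D24089 (iv D23517) (iv D19082) (iv F34522)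
def n24090 : Q := act 6 n19764
theorem D24090 : act 6 n19764 = n24090 := rfl
theorem F48586 : act 0 n24090 = n23879 := d5_1 D24090 F47948 F38606
theorem F48587 : act 1 n24090 = n24037 := d10_1 D24090 (iv F48484) F48481 (iv D19765) D19764
theorem F48588 : act 4 n24090 = n20003 := d19_1 D24090 (iv D20003) (iv F37256)
theorem F48589 : act 5 n24090 = n24038 := d20_1 D24090 F48463 (iv F38609) (iv F47948) (iv F47950) (iv D19774) (iv F37257)
def n24091 : Q := act 4 n19768
theorem D24091 : act 4 n19768 = n24091 := rfl
theorem F48590 : act 0 n24091 = n19775 := d3_1 D24091 (iv D19775) (iv F37271)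
theorem F48591 : act 2 n24091 = n19769 := d12_1 D24091 (iv D19769) D19768
def n24092 : Q := act 5 n19768
theorem D24092 : act 5 n19768 = n24092 := rfl
theorem F48592 : act 0 n24092 = n19776 := d4_1 D24092 (iv D19776) (iv F37271)
theorem F48593 : act 2 n24092 = n19770 := d13_1 D24092 (iv D19770) D19768
theorem F48594 : act 3 n24092 = n24030 := d16_1 D24092 (iv D24030) (iv F37272)
theorem F48595 : act 6 n24092 = n24001 := d22_1 D24092 (iv D24001) F37033 (iv F37271)
def n24093 : Q := act 5 n19769
theorem D24093 : act 5 n19769 = n24093 := rfl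
theorem F48596 : act 0 n24093 = n19777 := d4_1 D24093 (iv D19777) (iv F37273)
theorem F48597 : act 3 n24093 = n20005 := d16_1 D24093 (iv D20005) (iv F37275)
theorem F48598 : act 4 n24093 = n19770 := d18_1 D24093 (iv D19770) D19769
theorem F48599 : act 6 n24093 = n24002 := d22_1 D24093 (iv D24002) F37036 (iv F37273)
def n24094 : Q := act 1 n19770
theorem D24094 : act 1 n19770 = n24094 := rfl
theorem F48600 : act 3 n24094 = n19771 := d7_2 (iv F37277) D24094 (iv D19771)
def n24095 : Q := act 0 n19771
theorem D24095 : act 0 n19771 = n24095 := rfl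
theorem F48601 : act 4 n24095 = n20006 := d3_2 (iv F37279) D24095 (iv D20006)
def n24096 : Q := act 2 n19771
theorem D24096 : act 2 n19771 = n24096 := rfl
theorem F48602 : act 1 n24096 = n19773 := d6_1 D24096 (iv D19773) (iv D14525) (iv F25359) D19771
theorem F48603 : act 4 n24096 = n20007 := d12_2 (iv F37279) D24096 (iv D20007)
def n24097 : Q := act 6 n19771
theorem D24097 : act 6 n19771 = n24097 := rfl
theorem F48604 : act 1 n24097 = n24006 := d10_1 D24097 (iv D24006) (iv D19686) (iv F25361) D19771
theorem F48605 : act 4 n24097 = n20008 := d19_1 D24097 (iv D20008) (iv F37279)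
def n24098 : Q := act 3 n19773
theorem D24098 : act 3 n19773 = n24098 := rfl
def n24099 : Q := act 6 n19773
theorem D24099 : act 6 n19773 = n24099 := rfl
theorem F48606 : act 2 n24099 = n19774 := d14_1 D24099 (iv D19774) D19773
theorem F48607 : act 4 n24099 = n20010 := d19_1 D24099 (iv D20010) (iv F37283)
theorem F48608 : act 5 n24099 = n20348 := d22_2 F38604 D24099 (iv D20348) D20346
def n24100 : Q := act 3 n19775
theorem D24100 : act 3 n19775 = n24100 := rfl
theorem F48609 : act 1 n24100 = n20352 := d7_1 D24100 (iv D20352) (iv F37286)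
def n24101 : Q := act 5 n19775
theorem D24101 : act 5 n19775 = n24101 := rfl
theorem F48610 : act 2 n24101 = n19777 := d13_1 D24101 (iv D19777) (iv F37287)
theorem F48611 : act 4 n24101 = n19776 := d18_1 D24101 (iv D19776) D19775
def n24102 : Q := act 1 n19776
theorem D24102 : act 1 n19776 = n24102 := rfl
theorem F48612 : act 5 n24102 = n20354 := d9_2 D19776 D24102 (iv D20354) (iv D15078) (iv F25363)
def n24103 : Q := act 6 n19776
theorem D24103 : act 6 n19776 = n24103 := rfl
theorem F48613 : act 0 n24103 = n24001 := d5_1 D24103 (iv F48595) F48592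
theorem F48614 : act 2 n24103 = n19778 := d14_1 D24103 (iv D19778) (iv F37288)
theorem F48615 : act 5 n24103 = n23997 := d20_1 D24103 F48338 D24092 F48595 (iv D24001) F37033 D19776
def n24104 : Q := act 6 n19777
theorem D24104 : act 6 n19777 = n24104 := rfl
theorem F48616 : act 0 n24104 = n24002 := d5_1 D24104 (iv F48599) F48596
theorem F48617 : act 3 n24104 = n20014 := d17_1 D24104 (iv D20014) (iv F37289)
theorem F48618 : act 4 n24104 = n19778 := d19_1 D24104 (iv D19778) (iv F37290)
theorem F48619 : act 5 n24104 = n23998 := d20_1 D24104 F48342 D24093 F48599 (iv D24002) F37036 D19777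
def n24105 : Q := act 1 n19778
theorem D24105 : act 1 n19778 = n24105 := rfl
theorem F48620 : act 3 n24105 = n19779 := d7_2 (iv F37292) D24105 (iv D19779)
def n24106 : Q := act 0 n19779
theorem D24106 : act 0 n19779 = n24106 := rfl
theorem F48621 : act 4 n24106 = n20016 := d3_2 (iv F37294) D24106 (iv D20016)
def n24107 : Q := act 2 n19779
theorem D24107 : act 2 n19779 = n24107 := rfl
theorem F48622 : act 1 n24107 = n19786 := d6_1 D24107 (iv D19786) (iv D14533) (iv F25368) D19779
theorem F48623 : act 4 n24107 = n20017 := d12_2 (iv F37294) D24107 (iv D20017)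
def n24108 : Q := act 5 n19779
theorem D24108 : act 5 n19779 = n24108 := rfl
theorem F48624 : act 1 n24108 = n23996 := d9_1 D24108 (iv D23996) (iv D19681) (iv F25370) D19779
theorem F48625 : act 4 n24108 = n20018 := d18_1 D24108 (iv D20018) (iv F37294)
def n24109 : Q := act 2 n19780
theorem D24109 : act 2 n19780 = n24109 := rfl
theorem F48626 : act 4 n24109 = n20020 := d12_2 (iv F37295) D24109 (iv D20020)
def n24110 : Q := act 5 n19780
theorem D24110 : act 5 n19780 = n24110 := rfl
theorem F48627 : act 1 n24110 = n19790 := d9_1 D24110 (iv D19790) (iv D14534) (iv F25372) D19780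
theorem F48628 : act 3 n24110 = n23884 := d16_1 D24110 F47961 F47940
theorem F48629 : act 4 n24110 = n20021 := d18_1 D24110 (iv D20021) (iv F37295)
theorem F48630 : act 6 n24110 = n23871 := d22_1 D24110 (iv D23871) (iv F47918) F47915
def n24111 : Q := act 1 n19781
theorem D24111 : act 1 n19781 = n24111 := rfl
theorem F48631 : act 4 n24111 = n20023 := d8_2 (iv F37297) D24111 (iv D20023)
def n24112 : Q := act 3 n19781
theorem D24112 : act 3 n19781 = n24112 := rfl
theorem F48632 : act 0 n24112 = n19782 := d2_1 D24112 (iv D19782) (iv F37296)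
theorem F48633 : act 5 n24112 = n19793 := d16_2 (iv F37298) D24112 (iv D19793)
def n24113 : Q := act 2 n19782
theorem D24113 : act 2 n19782 = n24113 := rfl
theorem F48634 : act 5 n24113 = n19795 := d13_2 (iv F37299) D24113 (iv D19795)
def n24114 : Q := act 4 n19782
theorem D24114 : act 4 n19782 = n24114 := rfl
theorem F48635 : act 3 n24114 = n20026 := d15_1 D24114 (iv D20026) (iv D14797) (iv F25373) D19782
theorem F48636 : act 5 n24114 = n19796 := d18_2 (iv F37299) D24114 (iv D19796)
def n24115 : Q := act 6 n19782
theorem D24115 : act 6 n19782 = n24115 := rfl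
theorem F48637 : act 3 n24115 = n19783 := d17_1 D24115 (iv D19783) D19782
def n24116 : Q := act 1 n19783
theorem D24116 : act 1 n19783 = n24116 := rfl
theorem F48638 : act 4 n24116 = n20028 := d8_2 (iv F37301) D24116 (iv D20028)
theorem F48639 : act 0 n22465 = n24116 := d3_3 F48638 (iv F39582) (iv F43979)
theorem F48640 : act 5 n22461 = n24116 := d18_0 F48638 (iv F39583) D22461
def n24117 : Q := act 2 n19785
theorem D24117 : act 2 n19785 = n24117 := rfl
theorem F48641 : act 0 n24117 = n19786 := d1_1 D24117 (iv D19786) D19785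
theorem F48642 : act 4 n24117 = n20030 := d12_2 (iv F37306) D24117 (iv D20030)
theorem F48643 : act 5 n24117 = n21313 := d13_2 F48425 D24117 (iv F48422)
def n24118 : Q := act 3 n19786
theorem D24118 : act 3 n19786 = n24118 := rfl
theorem F48644 : act 4 n24118 = n23321 := d15_2 (iv F37307) D24118 (iv D23321) F33820 (iv F36332)
def n24119 : Q := act 5 n19786
theorem D24119 : act 5 n19786 = n24119 := rfl
theorem F48645 : act 0 n24119 = n21313 := d4_1 D24119 (iv F48643) F48641
theorem F48646 : act 2 n24119 = n19787 := d13_1 D24119 (iv D19787) D19786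
theorem F48647 : act 4 n24119 = n20032 := d18_1 D24119 (iv D20032) (iv F37307)
theorem F48648 : act 6 n24119 = n21310 := d22_3 D21312 (iv F41225) D24119 (iv D21310)
def n24120 : Q := act 1 n19789
theorem D24120 : act 1 n19789 = n24120 := rfl
theorem F48649 : act 0 n24120 = n20426 := d0_1 D24120 (iv D20426) (iv D15119) (iv D11591) F14004 D9368 D11594 D15125 (iv F37314)
theorem F48650 : act 2 n24120 = n19792 := d6_2 D19789 D24120 (iv D19792) (iv D14535) D14534
theorem F48651 : act 4 n24120 = n20034 := d8_2 (iv F37315) D24120 (iv D20034)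
def n24121 : Q := act 3 n19789
theorem D24121 : act 3 n19789 = n24121 := rfl
theorem F48652 : act 0 n24121 = n20432 := d2_1 D24121 F38767 (iv F37314)
def n24122 : Q := act 5 n19789
theorem D24122 : act 5 n19789 = n24122 := rfl
theorem F48653 : act 0 n24122 = n20438 := d4_1 D24122 (iv D20438) (iv F37314)
theorem F48654 : act 2 n24122 = n19790 := d13_1 D24122 (iv D19790) D19789
theorem F48655 : act 4 n24122 = n20036 := d18_1 D24122 (iv D20036) (iv F37315)
def n24123 : Q := act 6 n19789
theorem D24123 : act 6 n19789 = n24123 := rfl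
theorem F48656 : act 0 n24123 = n20439 := d5_1 D24123 (iv D20439) (iv F37314)
theorem F48657 : act 2 n24123 = n19791 := d14_1 D24123 (iv D19791) D19789
theorem F48658 : act 4 n24123 = n20037 := d19_1 D24123 (iv D20037) (iv F37315)
theorem F48659 : act 5 n24123 = n24024 := d22_2 (iv D24122) D24123 F48414 (iv F48653)
def n24124 : Q := act 0 n19792
theorem D24124 : act 0 n19792 = n24124 := rfl
theorem F48660 : act 2 n24124 = n20426 := d1_2 F48650 D24124 (iv F48649)
theorem F48661 : act 4 n24124 = n20038 := d3_2 (iv F37322) D24124 (iv D20038)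
def n24125 : Q := act 3 n19792
theorem D24125 : act 3 n19792 = n24125 := rfl
theorem F48662 : act 1 n24125 = n19793 := d7_1 D24125 (iv D19793) D19792
def n24126 : Q := act 5 n19792
theorem D24126 : act 5 n19792 = n24126 := rfl
theorem F48663 : act 4 n24126 = n20040 := d18_1 D24126 (iv D20040) (iv F37322)
def n24127 : Q := act 6 n19792
theorem D24127 : act 6 n19792 = n24127 := rfl
theorem F48664 : act 4 n24127 = n20041 := d19_1 D24127 (iv D20041) (iv F37322)
theorem F48665 : act 1 n21552 = n24127 := d8_3 F48664 F37871 (iv F41726)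
def n24128 : Q := act 2 n19793
theorem D24128 : act 2 n19793 = n24128 := rfl
theorem F48666 : act 0 n24128 = n19795 := d1_1 D24128 (iv D19795) (iv F37323)
theorem F48667 : act 3 n24128 = n24035 := d11_2 D19793 D24128 (iv D24035) (iv D19723) (iv D14494) F20012 D11300 D14537 D19795 (iv F41021) (iv D21215) F27767 (iv F35323) F25310 D14535
theorem F48668 : act 3 n24120 = n23422 := d25_18 (iv F13446) D11308 D14548 F25406 (iv D14542) (iv F25345) (iv D14515) (iv D11290) (iv F20009) D14484 (iv F25311) D19723 D24035 (iv F48667) (iv D24128) (iv F48662) (iv D24125) (iv F48650) (iv D23422) F33965 (iv D13791) (iv D10899) F12001 D8075 F17226 F12040 F32928 (iv D4353) F3327 (iv F32846) F3098 (iv D971) (iv D492) F501 (iv F15708) F255 (iv F500) (iv F942) (iv F1698) F1697 D1162 F1971 (iv F1299) F32699 F2363 (iv D1426) (iv F32694) F694 F362 (iv F379) (iv F15759) F382 F32901 (iv D189) (iv F363) D362 (iv F32810) (iv D696) (iv D350) (iv F635) (iv F16555) (iv F16590) F1026 (iv F1051) (iv F1921) (iv F16980) (iv F32553) (iv F32610) (iv F4412) (iv F32737) (iv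 F16699) (iv F32734) (iv D2873) (iv D1393) (iv F2157) D2637 (iv F16772)
theorem F48669 : act 0 n23422 = n21888 := d2_1 F48668 F42460 (iv F48649)
theorem F48670 : act 1 n23422 = n24121 := d7_1 F48668 (iv D24121) D24120
theorem E10340 : n24124 = n23412 := ((c21_8 (iv F48650) F48668 (iv D23422) (iv D18966) (iv D13787) (iv F24206) D18960 D23412 (iv D24124))).symm
theorem F48671 : act 0 n23412 = n19792 := (sb E10340 (iv D24124))
theorem F48672 : act 2 n23412 = n20426 := (sb E10340 F48660)
theorem F48673 : act 4 n23412 = n20038 := (sb E10340 F48661)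
theorem E10341 : n24125 = n23410 := ((c21_1 D23410 (iv D24125) (iv F48650) F48668 (iv D23422) (iv D18966) (iv D13787) (iv F24206) D18959)).symm
theorem F48674 : act 1 n23410 = n19793 := (sb E10341 F48662)
theorem F48675 : act 3 n23410 = n19792 := (sb E10341 (iv D24125))
theorem F48676 : act 2 n21888 = n23419 := d21_0 (iv D23419) (iv D18964) (iv F33956) D23410 F48675 (iv F48650) F48668 F48669
theorem F48677 : act 2 n24121 = n23436 := d6_2 D23422 F48670 (iv D23436) (iv D18974) (iv F33965)
def n24129 : Q := act 4 n19793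
theorem D24129 : act 4 n19793 = n24129 := rfl
theorem F48678 : act 0 n24129 = n19796 := d3_1 D24129 (iv D19796) (iv F37323)
theorem F48679 : act 3 n24129 = n20043 := d15_1 D24129 (iv D20043) (iv D14808) (iv F25379) D19793
def n24130 : Q := act 6 n19793
theorem D24130 : act 6 n19793 = n24130 := rfl
theorem F48680 : act 0 n24130 = n19797 := d5_1 D24130 (iv D19797) (iv F37323)
theorem F48681 : act 3 n24130 = n19794 := d17_1 D24130 (iv D19794) D19793
theorem F48682 : act 5 n24130 = n24115 := d22_2 F48633 D24130 (iv D24115) (iv F48632)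
def n24131 : Q := act 1 n19794
theorem D24131 : act 1 n19794 = n24131 := rfl
theorem F48683 : act 2 n24131 = n21303 := d6_2 (iv F37325) D24131 F41210 (iv F37114) (iv F37118)
theorem F48684 : act 4 n24131 = n20045 := d8_2 (iv F37326) D24131 (iv D20045)
theorem F48685 : act 5 n24131 = n21302 := d9_2 (iv F37327) D24131 (iv F43957) F48640 (iv D24116)
theorem F48686 : act 6 n24131 = n21552 := d10_2 D19794 D24131 F48665 (iv D24127) (iv D19792)
theorem F48687 : act 0 n21556 = n24131 := d5_3 F48686 F41725 D21556
def n24132 : Q := act 1 n19795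
theorem D24132 : act 1 n19795 = n24132 := rfl
theorem F48688 : act 2 n24132 = n19812 := d6_2 D19795 D24132 (iv D19812) (iv D14546) (iv F25383)
def n24133 : Q := act 4 n19795
theorem D24133 : act 4 n19795 = n24133 := rfl
theorem F48689 : act 2 n24133 = n19796 := d12_1 D24133 (iv D19796) D19795
def n24134 : Q := act 6 n19795
theorem D24134 : act 6 n19795 = n24134 := rfl
theorem F48690 : act 2 n24134 = n19797 := d14_1 D24134 (iv D19797) D19795
def n24135 : Q := act 6 n19796
theorem D24135 : act 6 n19796 = n24135 := rfl
theorem F48691 : act 1 n24135 = n24135 := d10_1 D24135 (iv D24135) F37328 F25403 (iv F37328)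
theorem F48692 : act 3 n24135 = n20050 := d17_1 D24135 (iv D20050) (iv F37329)
theorem F48693 : act 4 n24135 = n19797 := d19_1 D24135 (iv D19797) D19796
def n24136 : Q := act 5 n19797
theorem D24136 : act 5 n19797 = n24136 := rfl
theorem F48694 : act 0 n24136 = n24115 := d4_1 D24136 (iv F48682) F48680
theorem F48695 : act 3 n24136 = n19798 := d16_1 D24136 (iv D19798) (iv F37331)
theorem F48696 : act 6 n24136 = n24112 := d20_2 D19797 D24136 F48633 D24130 F48682 (iv D24115) F37299
def n24137 : Q := act 1 n19798
theorem D24137 : act 1 n19798 = n24137 := rfl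
theorem F48697 : act 4 n24137 = n20052 := d8_2 (iv F37334) D24137 (iv D20052)
theorem F48698 : act 5 n24137 = n24137 := d9_2 D19798 D24137 (iv D24137) (iv D19798) F25384
def n24138 : Q := act 2 n19799
theorem D24138 : act 2 n19799 = n24138 := rfl
theorem F48699 : act 4 n24138 = n20054 := d12_2 (iv F37336) D24138 (iv D20054)
theorem F48700 : act 5 n24138 = n23902 := d13_2 (iv F37337) D24138 (iv D23902)
def n24139 : Q := act 6 n19799
theorem D24139 : act 6 n19799 = n24139 := rfl
theorem F48701 : act 1 n24139 = n23869 := d10_1 D24139 F47921 (iv D19780) (iv F25389) D19799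
theorem F48702 : act 3 n24139 = n23879 := d17_1 D24139 F47948 (iv F38610)
theorem F48703 : act 4 n24139 = n20055 := d19_1 D24139 (iv D20055) (iv F37336)
theorem F48704 : act 5 n24139 = n23994 := d22_2 (iv F37337) D24139 F48328 (iv F37130)
def n24140 : Q := act 1 n19800
theorem D24140 : act 1 n19800 = n24140 := rfl
theorem F48705 : act 4 n24140 = n20056 := d8_2 (iv F37339) D24140 (iv D20056)
def n24141 : Q := act 3 n19800
theorem D24141 : act 3 n19800 = n24141 := rfl
theorem F48706 : act 0 n24141 = n19801 := d2_1 D24141 (iv D19801) D19800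
def n24142 : Q := act 5 n19800
theorem D24142 : act 5 n19800 = n24142 := rfl
theorem F48707 : act 0 n24142 = n19802 := d4_1 D24142 (iv D19802) D19800
theorem F48708 : act 2 n24142 = n20422 := d13_1 D24142 F38749 (iv F37338)
theorem F48709 : act 4 n24142 = n20058 := d18_1 D24142 (iv D20058) (iv F37339)
def n24143 : Q := act 6 n19800
theorem D24143 : act 6 n19800 = n24143 := rfl
theorem F48710 : act 0 n24143 = n19803 := d5_1 D24143 (iv D19803) D19800
theorem F48711 : act 2 n24143 = n20427 := d14_1 D24143 (iv D20427) (iv F37338)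
theorem F48712 : act 4 n24143 = n20059 := d19_1 D24143 (iv D20059) (iv F37339)
theorem F48713 : act 5 n24143 = n20069 := d22_2 (iv D24142) D24143 F37919 (iv F48707)
def n24144 : Q := act 2 n19801
theorem D24144 : act 2 n19801 = n24144 := rfl
def n24145 : Q := act 4 n19801
theorem D24145 : act 4 n19801 = n24145 := rfl
theorem F48714 : act 1 n24145 = n19804 := d8_1 D24145 (iv D19804) (iv F37340)
theorem F48715 : act 3 n24145 = n20060 := d15_1 D24145 (iv D20060) (iv D14822) (iv F25391) D19801
def n24146 : Q := act 5 n19801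
theorem D24146 : act 5 n19801 = n24146 := rfl
theorem F48716 : act 1 n24146 = n24146 := d9_1 D24146 (iv D24146) F37340 F25393 (iv F37340)
theorem F48717 : act 3 n24146 = n19802 := d16_1 D24146 (iv D19802) D19801
def n24147 : Q := act 6 n19801
theorem D24147 : act 6 n19801 = n24147 := rfl
theorem F48718 : act 3 n24147 = n19803 := d17_1 D24147 (iv D19803) D19801
def n24148 : Q := act 5 n19803
theorem D24148 : act 5 n19803 = n24148 := rfl
theorem F48719 : act 0 n24148 = n20069 := d4_1 D24148 (iv F48713) F48710
theorem F48720 : act 2 n24148 = n20428 := d13_1 D24148 (iv D20428) (iv F37368)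
theorem F48721 : act 4 n24148 = n20062 := d18_1 D24148 (iv D20062) (iv F37369)
theorem F48722 : act 6 n24148 = n24142 := d20_2 D19803 D24148 (iv D24142) D24143 F48713 F37919 (iv D19802)
def n24149 : Q := act 0 n19805
theorem D24149 : act 0 n19805 = n24149 := rfl
def n24150 : Q := act 4 n19805
theorem D24150 : act 4 n19805 = n24150 := rfl
theorem F48723 : act 1 n24150 = n19806 := d8_1 D24150 (iv D19806) D19805
theorem F48724 : act 3 n24150 = n23390 := d15_1 D24150 (iv D23390) (iv F34024) (iv F37392) F37391
def n24151 : Q := act 5 n19805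
theorem D24151 : act 5 n19805 = n24151 := rfl
theorem F48725 : act 1 n24151 = n24151 := d9_1 D24151 (iv D24151) (iv D19805) F25394 D19805
def n24152 : Q := act 6 n19805
theorem D24152 : act 6 n19805 = n24152 := rfl
def n24153 : Q := act 1 n19807
theorem D24153 : act 1 n19807 = n24153 := rfl
theorem F48726 : act 4 n24153 = n20067 := d8_2 (iv F37377) D24153 (iv D20067)
def n24154 : Q := act 3 n19807
theorem D24154 : act 3 n19807 = n24154 := rfl
theorem F48727 : act 0 n24154 = n19808 := d2_1 D24154 (iv D19808) D19807
def n24155 : Q := act 5 n19807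
theorem D24155 : act 5 n19807 = n24155 := rfl
theorem F48728 : act 0 n24155 = n19809 := d4_1 D24155 (iv D19809) D19807
theorem F48729 : act 2 n24155 = n20392 := d13_1 D24155 (iv D20392) (iv F37376)
theorem F48730 : act 4 n24155 = n20061 := d18_1 D24155 (iv F37903) (iv F37377)
theorem F48731 : act 6 n24155 = n20060 := d22_1 D24155 F37899 (iv D19810) D19807
def n24156 : Q := act 6 n19807
theorem D24156 : act 6 n19807 = n24156 := rfl
theorem F48732 : act 0 n24156 = n19810 := d5_1 D24156 (iv D19810) D19807
theorem F48733 : act 2 n24156 = n20388 := d14_1 D24156 F38687 (iv F37376)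
theorem F48734 : act 4 n24156 = n20068 := d19_1 D24156 (iv D20068) (iv F37377)
def n24157 : Q := act 2 n19808
theorem D24157 : act 2 n19808 = n24157 := rfl
def n24158 : Q := act 4 n19808
theorem D24158 : act 4 n19808 = n24158 := rfl
theorem F48735 : act 1 n24158 = n19811 := d8_1 D24158 (iv D19811) (iv F37378)
theorem F48736 : act 3 n24158 = n20069 := d15_1 D24158 (iv D20069) (iv D14834) (iv F25398) D19808
theorem F48737 : act 6 n24146 = n24158 := d17_0 F48736 F37919 (iv F48717)
def n24159 : Q := act 5 n19808
theorem D24159 : act 5 n19808 = n24159 := rfl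
theorem F48738 : act 3 n24159 = n19809 := d16_1 D24159 (iv D19809) D19808
def n24160 : Q := act 6 n19808
theorem D24160 : act 6 n19808 = n24160 := rfl
theorem F48739 : act 1 n24160 = n24160 := d10_1 D24160 (iv D24160) F37378 F25400 (iv F37378)
theorem F48740 : act 3 n24160 = n19810 := d17_1 D24160 (iv D19810) D19808
theorem F48741 : act 4 n24160 = n24146 := d19_1 D24160 F48737 (iv D24158)
theorem F48742 : act 5 n24145 = n24160 := d18_0 F48741 (iv D24146) D24145
def n24161 : Q := act 6 n19809
theorem D24161 : act 6 n19809 = n24161 := rfl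
theorem F48743 : act 0 n24161 = n20060 := d5_1 D24161 (iv F48731) F48728
theorem F48744 : act 2 n24161 = n20393 := d14_1 D24161 (iv D20393) (iv F37379)
theorem F48745 : act 4 n24161 = n20057 := d19_1 D24161 (iv F37891) (iv F37380)
theorem F48746 : act 5 n24161 = n24156 := d20_1 D24161 (iv D24156) D24155 F48731 F37899 (iv D19810) D19809
def n24162 : Q := act 0 n19812
theorem D24162 : act 0 n19812 = n24162 := rfl
def n24163 : Q := act 4 n19812
theorem D24163 : act 4 n19812 = n24163 := rfl
theorem F48747 : act 1 n24163 = n19813 := d8_1 D24163 (iv D19813) D19812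
theorem F48748 : act 3 n24163 = n23449 := d15_1 D24163 (iv D23449) (iv F34071) (iv F37407) F37406
def n24164 : Q := act 5 n19812
theorem D24164 : act 5 n19812 = n24164 := rfl
def n24165 : Q := act 6 n19812
theorem D24165 : act 6 n19812 = n24165 := rfl
theorem F48749 : act 1 n24165 = n24165 := d10_1 D24165 (iv D24165) (iv D19812) F25401 D19812
def n24166 : Q := act 0 n19814
theorem D24166 : act 0 n19814 = n24166 := rfl
theorem F48750 : act 2 n24166 = n21905 := d1_2 (iv F37390) D24166 (iv D21905)
theorem F48751 : act 3 n24166 = n24149 := d2_2 (iv F37391) D24166 (iv D24149)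
theorem F48752 : act 4 n24166 = n23463 := d3_2 (iv F37392) D24166 (iv D23463)
def n24167 : Q := act 5 n19814
theorem D24167 : act 5 n19814 = n24167 := rfl
theorem F48753 : act 1 n24167 = n24167 := d9_1 D24167 (iv D24167) (iv D19814) F25405 D19814
theorem F48754 : act 2 n24167 = n21907 := d13_1 D24167 (iv D21907) (iv F37390)
theorem F48755 : act 3 n24167 = n24151 := d16_1 D24167 (iv D24151) (iv F37391)
theorem F48756 : act 4 n24167 = n23464 := d18_1 D24167 (iv D23464) (iv F37392)
def n24168 : Q := act 6 n19814
theorem D24168 : act 6 n19814 = n24168 := rfl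
theorem F48757 : act 2 n24168 = n21908 := d14_1 D24168 (iv D21908) (iv F37390)
theorem F48758 : act 3 n24168 = n24152 := d17_1 D24168 (iv D24152) (iv F37391)
theorem F48759 : act 4 n24168 = n23465 := d19_1 D24168 (iv D23465) (iv F37392)
def n24170 : Q := act 3 n19815
theorem D24170 : act 3 n19815 = n24170 := rfl
theorem F48761 : act 0 n24170 = n19816 := d2_1 D24170 (iv D19816) D19815
def n24171 : Q := act 5 n19815
theorem D24171 : act 5 n19815 = n24171 := rfl
theorem F48762 : act 0 n24171 = n19817 := d4_1 D24171 (iv D19817) D19815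
theorem F48763 : act 2 n24171 = n24171 := d13_1 D24171 (iv D24171) F37393
theorem F48764 : act 4 n24171 = n23468 := d18_1 D24171 (iv D23468) (iv F37394)
def n24172 : Q := act 6 n19815
theorem D24172 : act 6 n19815 = n24172 := rfl
theorem F48765 : act 0 n24172 = n19818 := d5_1 D24172 (iv D19818) D19815
def n24173 : Q := act 2 n19816
theorem D24173 : act 2 n19816 = n24173 := rfl
theorem F48768 : act 1 n24173 = n24144 := d6_1 D24173 (iv D24144) F37340 (iv F25413) (iv F37395)
def n24174 : Q := act 4 n19816
theorem D24174 : act 4 n19816 = n24174 := rfl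
theorem F48769 : act 1 n24174 = n19819 := d8_1 D24174 (iv D19819) (iv F37395)
theorem F48770 : act 3 n24174 = n23471 := d15_1 D24174 (iv D23471) (iv D18994) (iv F32993) D19816
def n24175 : Q := act 5 n19816
theorem D24175 : act 5 n19816 = n24175 := rfl
theorem F48771 : act 1 n24175 = n24175 := d9_1 D24175 (iv D24175) F37395 F25414 (iv F37395)
theorem F48772 : act 3 n24175 = n19817 := d16_1 D24175 (iv D19817) D19816
def n24176 : Q := act 6 n19816
theorem D24176 : act 6 n19816 = n24176 := rfl
theorem F48773 : act 3 n24176 = n19818 := d17_1 D24176 (iv D19818) D19816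
def n24177 : Q := act 6 n19817
theorem D24177 : act 6 n19817 = n24177 := rfl
theorem F48776 : act 5 n24177 = n24172 := d22_2 D19817 D24177 (iv D24172) (iv D19815)
def n24178 : Q := act 5 n19818
theorem D24178 : act 5 n19818 = n24178 := rfl
theorem F48780 : act 6 n24178 = n24171 := d20_2 D19818 D24178 (iv D24171) D24172 (iv F48776) (iv D24177) (iv D19817)
def n24179 : Q := act 0 n19820
theorem D24179 : act 0 n19820 = n24179 := rfl
theorem F48781 : act 2 n24179 = n21898 := d1_2 (iv F37405) D24179 (iv D21898)
theorem F48782 : act 3 n24179 = n24162 := d2_2 (iv F37406) D24179 (iv D24162)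
theorem F48783 : act 4 n24179 = n23487 := d3_2 (iv F37407) D24179 (iv D23487)
def n24180 : Q := act 5 n19820
theorem D24180 : act 5 n19820 = n24180 := rfl
theorem F48784 : act 2 n24180 = n21900 := d13_1 D24180 (iv D21900) (iv F37405)
theorem F48785 : act 3 n24180 = n24164 := d16_1 D24180 (iv D24164) (iv F37406)
theorem F48786 : act 4 n24180 = n23488 := d18_1 D24180 (iv D23488) (iv F37407)
def n24181 : Q := act 6 n19820
theorem D24181 : act 6 n19820 = n24181 := rfl
theorem F48787 : act 1 n24181 = n24181 := d10_1 D24181 (iv D24181) (iv D19820) F25418 D19820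
theorem F48788 : act 2 n24181 = n21901 := d14_1 D24181 (iv D21901) (iv F37405)
theorem F48789 : act 3 n24181 = n24165 := d17_1 D24181 (iv D24165) (iv F37406)
theorem F48790 : act 4 n24181 = n23489 := d19_1 D24181 (iv D23489) (iv F37407)
def n24183 : Q := act 3 n19821
theorem D24183 : act 3 n19821 = n24183 := rfl
theorem F48792 : act 0 n24183 = n19822 := d2_1 D24183 (iv D19822) D19821
def n24184 : Q := act 5 n19821
theorem D24184 : act 5 n19821 = n24184 := rfl
def n24185 : Q := act 6 n19821
theorem D24185 : act 6 n19821 = n24185 := rfl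
theorem F48796 : act 0 n24185 = n19824 := d5_1 D24185 (iv D19824) D19821
def n24186 : Q := act 2 n19822
theorem D24186 : act 2 n19822 = n24186 := rfl
theorem F48799 : act 1 n24186 = n24157 := d6_1 D24186 (iv D24157) F37378 (iv F25426) (iv F37410)
def n24187 : Q := act 4 n19822
theorem D24187 : act 4 n19822 = n24187 := rfl
theorem F48800 : act 1 n24187 = n19825 := d8_1 D24187 (iv D19825) (iv F37410)
theorem F48801 : act 3 n24187 = n23495 := d15_1 D24187 (iv D23495) (iv D19014) (iv F33005) D19822
def n24188 : Q := act 5 n19822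
theorem D24188 : act 5 n19822 = n24188 := rfl
theorem F48802 : act 3 n24188 = n19823 := d16_1 D24188 (iv D19823) D19822
def n24189 : Q := act 6 n19822
theorem D24189 : act 6 n19822 = n24189 := rfl
theorem F48804 : act 3 n24189 = n19824 := d17_1 D24189 (iv D19824) D19822
def n24190 : Q := act 6 n19823
theorem D24190 : act 6 n19823 = n24190 := rfl
theorem F48806 : act 4 n24190 = n23498 := d19_1 D24190 (iv D23498) (iv F37412)
theorem F48807 : act 5 n24190 = n24185 := d22_2 D19823 D24190 (iv D24185) (iv D19821)
def n24191 : Q := act 5 n19824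
theorem D24191 : act 5 n19824 = n24191 := rfl
theorem F48808 : act 0 n24191 = n24190 := d4_1 D24191 F48807 F48796
theorem F48810 : act 4 n24191 = n23499 := d18_1 D24191 (iv D23499) (iv F37415)
theorem F48811 : act 6 n24191 = n24184 := d20_2 D19824 D24191 (iv D24184) D24185 (iv F48807) (iv D24190) (iv D19823)
def n24192 : Q := act 1 n19828
theorem D24192 : act 1 n19828 = n24192 := rfl
theorem F48812 : act 0 n24192 = n23768 := d0_1 D24192 (iv D23768) F36271 F37634 (iv D19917) (iv D14688) F20169 D14584 D19828
theorem F48813 : act 2 n24192 = n22685 := d6_2 (iv F44312) D24192 F44613 F44300 D22591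
theorem F48814 : act 3 n24192 = n19851 := d7_2 (iv F37430) D24192 (iv D19851)
theorem F48815 : act 4 n24192 = n23931 := d8_2 F37460 D24192 F48111
theorem F48816 : act 5 n24192 = n23921 := d9_2 F37450 D24192 (iv F48077) (iv F47465) F47466
theorem F48817 : act 6 n24192 = n22680 := d10_2 (iv F37431) D24192 (iv D22680) F35417 F37441
def n24193 : Q := act 2 n19834
theorem D24193 : act 2 n19834 = n24193 := rfl
theorem F48818 : act 5 n24193 = n23008 := d13_2 F39441 D24193 F45583
def n24194 : Q := act 4 n19834
theorem D24194 : act 4 n19834 = n24194 := rfl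
theorem F48819 : act 5 n24194 = n22913 := d18_2 F39441 D24194 F45330
def n24195 : Q := act 1 n19837
theorem D24195 : act 1 n19837 = n24195 := rfl
theorem F48820 : act 0 n24195 = n23738 := d0_1 D24195 (iv D23738) F36153 F37681 (iv D19937) (iv D14711) F20183 D14592 D19837
theorem F48821 : act 2 n24195 = n22720 := d6_2 (iv F44474) D24195 F44716 F44466 D22636
theorem F48822 : act 3 n24195 = n19873 := d7_2 (iv F37451) D24195 (iv D19873)
theorem F48823 : act 4 n24195 = n23940 := d8_2 (iv F37452) D24195 F48145
theorem F48824 : act 5 n24195 = n22716 := d9_2 (iv F37453) D24195 (iv D22716) F35420 F37445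
theorem F48825 : act 6 n24195 = n23924 := d10_2 F37468 D24195 F48086 (iv F47566) F47561
def n24196 : Q := act 2 n19841
theorem D24196 : act 2 n19841 = n24196 := rfl
theorem F48826 : act 6 n24196 = n23033 := d14_2 (iv F39440) D24196 F45667
def n24197 : Q := act 4 n19841
theorem D24197 : act 4 n19841 = n24197 := rfl
theorem F48827 : act 1 n24197 = n24194 := d8_1 D24197 (iv D24194) (iv F37462)
theorem F48828 : act 3 n24197 = n24194 := d15_1 D24197 (iv D24194) (iv D19834) (iv F25498) D19841
theorem F48829 : act 6 n24197 = n22942 := d19_2 (iv F39440) D24197 F45399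
def n24198 : Q := act 1 n19846
theorem D24198 : act 1 n19846 = n24198 := rfl
theorem F48830 : act 4 n24198 = n19847 := d8_2 (iv F37477) D24198 (iv D19847)
theorem F48831 : act 6 n24198 = n20503 := d10_2 D19846 D24198 (iv D20503) (iv D15192) (iv F25509)
def n24199 : Q := act 5 n19847
theorem D24199 : act 5 n19847 = n24199 := rfl
theorem F48832 : act 0 n24199 = n22713 := d4_1 D24199 F45652 (iv F45654)
theorem F48833 : act 1 n24199 = n23573 := d9_1 D24199 (iv D23573) F35670 F25684 D19847
theorem F48834 : act 2 n24199 = n22712 := d13_1 D24199 (iv F44736) F44734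
theorem F48835 : act 3 n24199 = n19850 := d16_1 D24199 (iv D19850) (iv F37478)
theorem F48836 : act 6 n24199 = n22722 := d20_2 (iv F37479) D24199 F44719 (iv F45651) (iv F45652) F44700 F39833
def n24200 : Q := act 2 n19848
theorem D24200 : act 2 n19848 = n24200 := rfl
theorem F48837 : act 0 n24200 = n19849 := d1_1 D24200 (iv D19849) D19848
theorem F48838 : act 3 n24200 = n22702 := d11_2 F45650 D24200 F44667 F31021 (iv F31099) (iv F44735) F44734 F37478 D19849 F44560 (iv D22662) F35389 (iv F31029) (iv F44676) (iv F45653)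
theorem F48839 : act 6 n24200 = n20508 := d14_2 (iv F37480) D24200 (iv D20508)
def n24201 : Q := act 6 n19851
theorem D24201 : act 6 n19851 = n24201 := rfl
theorem F48840 : act 0 n24201 = n20021 := d5_1 D24201 (iv F38873) F38871
theorem F48841 : act 1 n24201 = n19857 := d10_1 D24201 (iv D19857) (iv D14609) (iv F25513) D19851
theorem F48842 : act 3 n24201 = n22680 := d17_1 D24201 (iv F48817) F48814
theorem F48843 : act 5 n24201 = n20019 := d20_1 D24201 (iv F37825) D20482 F38873 (iv D20021) D20022 F37828
def n24202 : Q := act 3 n19852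
theorem D24202 : act 3 n19852 = n24202 := rfl
theorem F48844 : act 0 n24202 = n19853 := d2_1 D24202 (iv D19853) (iv F37483)
theorem F48845 : act 6 n24202 = n19859 := d17_2 (iv F37484) D24202 (iv D19859)
def n24203 : Q := act 5 n19853
theorem D24203 : act 5 n19853 = n24203 := rfl
theorem F48846 : act 1 n24203 = n22987 := d9_1 D24203 F45519 F40015 (iv F44558) F44556
theorem F48847 : act 2 n24203 = n19884 := d13_1 D24203 (iv F44553) (iv F44555)
theorem F48848 : act 3 n24203 = n19854 := d16_1 D24203 (iv D19854) D19853
theorem F48849 : act 4 n24203 = n19883 := d18_1 D24203 (iv F44680) F44679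
def n24204 : Q := act 1 n19854
theorem D24204 : act 1 n19854 = n24204 := rfl
theorem F48850 : act 2 n24204 = n22145 := d6_2 (iv F37486) D24204 (iv F43122) F37710 F25685
theorem F48851 : act 3 n24204 = n22987 := d7_2 F48848 D24204 (iv F48846)
theorem F48852 : act 5 n24204 = n22184 := d9_2 D19854 D24204 (iv F44566) F44567 F37481
theorem F48853 : act 0 n22146 = n24204 := d4_3 F48852 F43216 (iv F43124)
def n24205 : Q := act 2 n19855
theorem D24205 : act 2 n19855 = n24205 := rfl
theorem F48854 : act 0 n24205 = n19856 := d1_1 D24205 (iv D19856) D19855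
theorem F48855 : act 6 n24205 = n23964 := d14_2 F37487 D24205 (iv D23964)
theorem F48856 : act 3 n24205 = n19878 := d21_1 D24205 (iv D19878) F37446 (iv D17760) F34445 D17587 F37442 D19855
def n24206 : Q := act 1 n19856
theorem D24206 : act 1 n19856 = n24206 := rfl
theorem F48857 : act 2 n24206 = n19858 := d6_2 D19856 D24206 (iv D19858) (iv D14610) D14609
def n24207 : Q := act 3 n19856
theorem D24207 : act 3 n19856 = n24207 := rfl
theorem F48858 : act 0 n24207 = n19878 := d2_1 D24207 (iv F48856) F48854
theorem F48859 : act 2 n24207 = n19877 := d11_1 D24207 F44691 (iv D22708) (iv F35433) D22667 (iv F44572) D24205 F48856 (iv D19878) F37446 (iv D17760) F34445 D17587 F37442 D19856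
theorem F48860 : act 5 n24207 = n23958 := d16_2 (iv F48248) D24207 (iv F48247)
def n24208 : Q := act 6 n19856
theorem D24208 : act 6 n19856 = n24208 := rfl
theorem F48861 : act 0 n24208 = n23964 := d5_1 D24208 (iv F48855) F48854
theorem F48862 : act 2 n24208 = n19857 := d14_1 D24208 (iv D19857) D19856
theorem F48863 : act 5 n22403 = n24208 := d22_0 (iv D24208) F48248 (iv D23965) F43820
theorem F48864 : act 1 n24208 = n22402 := d9_1 F48863 (iv D22402) (iv D17095) D17097 D22403
def n24209 : Q := act 0 n19858
theorem D24209 : act 0 n19858 = n24209 := rfl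
def n24210 : Q := act 3 n19858
theorem D24210 : act 3 n19858 = n24210 := rfl
theorem F48865 : act 1 n24210 = n19859 := d7_1 D24210 (iv D19859) D19858
def n24211 : Q := act 5 n19858
theorem D24211 : act 5 n19858 = n24211 := rfl
def n24212 : Q := act 2 n19859
theorem D24212 : act 2 n19859 = n24212 := rfl
theorem F48866 : act 0 n24212 = n19861 := d1_1 D24212 (iv D19861) (iv F37491)
theorem F48867 : act 3 n24212 = n24193 := d21_1 D24212 (iv D24193) (iv D19834) (iv D14586) F20117 D11342 D14612 (iv F37491)
def n24213 : Q := act 4 n19859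
theorem D24213 : act 4 n19859 = n24213 := rfl
theorem F48868 : act 0 n24213 = n19862 := d3_1 D24213 (iv D19862) (iv F37491)
theorem F48869 : act 3 n24213 = n23031 := d15_1 D24213 F48314 (iv D23990) F37014 D19859
def n24214 : Q := act 5 n19859
theorem D24214 : act 5 n19859 = n24214 := rfl
theorem F48870 : act 0 n24214 = n19863 := d4_1 D24214 (iv D19863) (iv F37491)
theorem F48871 : act 3 n24214 = n19860 := d16_1 D24214 (iv D19860) D19859
theorem F48872 : act 6 n24214 = n24203 := d22_1 D24214 (iv D24203) F37485 (iv F37491)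
def n24215 : Q := act 1 n19860
theorem D24215 : act 1 n19860 = n24215 := rfl
def n24216 : Q := act 3 n19861
theorem D24216 : act 3 n19861 = n24216 := rfl
theorem F48873 : act 0 n24216 = n24193 := d2_1 D24216 (iv F48867) F48866
theorem F48874 : act 2 n24216 = n22599 := d11_1 D24216 F44334 F37440 F25484 D14610 D19859 D24212 F48867 (iv D24193) (iv D19834) (iv D14586) F20117 D11342 D14612 D19861
theorem F48875 : act 6 n24216 = n23005 := d17_2 F44554 D24216 F45577
def n24217 : Q := act 4 n19861
theorem D24217 : act 4 n19861 = n24217 := rfl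
theorem F48876 : act 1 n24217 = n22991 := d8_1 D24217 F45528 (iv F39879)
theorem F48877 : act 2 n24217 = n19862 := d12_1 D24217 (iv D19862) D19861
theorem F48878 : act 6 n24217 = n19875 := d19_2 F44554 D24217 (iv F44552)
theorem F48879 : act 3 n19876 = n24217 := d17_3 F48878 (iv D19875) D19876
def n24218 : Q := act 5 n19861
theorem D24218 : act 5 n19861 = n24218 := rfl
theorem F48880 : act 2 n24218 = n19863 := d13_1 D24218 (iv D19863) D19861
def n24219 : Q := act 5 n19862
theorem D24219 : act 5 n19862 = n24219 := rfl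
theorem F48881 : act 1 n24219 = n20891 := d9_1 D24219 (iv F43247) F43245 (iv D20532) (iv F37495)
theorem F48882 : act 3 n24219 = n23033 := d16_1 D24219 (iv D23033) F39823
theorem F48883 : act 4 n24219 = n19863 := d18_1 D24219 (iv D19863) D19862
def n24220 : Q := act 6 n19863
theorem D24220 : act 6 n19863 = n24220 := rfl
theorem F48884 : act 0 n24220 = n24203 := d5_1 D24220 (iv F48872) F48870
theorem F48885 : act 3 n24220 = n19864 := d17_1 D24220 (iv D19864) (iv F37496)
theorem F48886 : act 5 n24220 = n24202 := d20_1 D24220 F48845 D24214 F48872 (iv D24203) F37485 D19863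
def n24221 : Q := act 1 n19864
theorem D24221 : act 1 n19864 = n24221 := rfl
theorem F48887 : act 6 n24221 = n22196 := d10_2 D19864 D24221 (iv D22196) F29792 F35278
def n24222 : Q := act 1 n19868
theorem D24222 : act 1 n19868 = n24222 := rfl
theorem F48888 : act 4 n24222 = n19869 := d8_2 (iv F37510) D24222 (iv D19869)
theorem F48889 : act 5 n24222 = n20549 := d9_2 D19868 D24222 (iv D20549) (iv D15225) (iv F25526)
def n24223 : Q := act 6 n19869
theorem D24223 : act 6 n19869 = n24223 := rfl
theorem F48890 : act 0 n24223 = n22677 := d5_1 D24223 (iv F45569) F45568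
theorem F48891 : act 1 n24223 = n23627 := d10_1 D24223 (iv D23627) F35817 F25730 D19869
theorem F48892 : act 2 n24223 = n22676 := d14_1 D24223 (iv F44633) F44631
theorem F48893 : act 3 n24223 = n19872 := d17_1 D24223 (iv D19872) (iv F37511)
theorem F48894 : act 5 n24223 = n22686 := d20_1 D24223 F44616 (iv F45567) F45569 F44597 F39689 (iv F37512)
def n24224 : Q := act 2 n19870
theorem D24224 : act 2 n19870 = n24224 := rfl
theorem F48895 : act 0 n24224 = n19871 := d1_1 D24224 (iv D19871) D19870
theorem F48896 : act 3 n24224 = n22657 := d11_2 F45566 D24224 F44542 F30786 (iv F30864) (iv F44632) F44631 F37511 D19871 (iv F44510) F44509 F30741 (iv F30793) (iv F44550) F45570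
theorem F48897 : act 5 n24224 = n20554 := d13_2 (iv F37513) D24224 (iv D20554)
def n24225 : Q := act 5 n19873
theorem D24225 : act 5 n19873 = n24225 := rfl
theorem F48898 : act 0 n24225 = n19968 := d4_1 D24225 (iv F38877) F38875
theorem F48899 : act 1 n24225 = n19879 := d9_1 D24225 (iv D19879) (iv D14628) (iv F25530) D19873
theorem F48900 : act 3 n24225 = n22716 := d16_1 D24225 (iv F48824) F48822
theorem F48901 : act 6 n24225 = n19965 := d20_2 (iv F37731) D24225 (iv F37729) D20484 F38877 (iv D19968) D19967
def n24226 : Q := act 3 n19874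
theorem D24226 : act 3 n19874 = n24226 := rfl
theorem F48902 : act 0 n24226 = n19875 := d2_1 D24226 (iv D19875) (iv F37516)
theorem F48903 : act 5 n24226 = n19881 := d16_2 (iv F37517) D24226 (iv D19881)
def n24227 : Q := act 1 n19876
theorem D24227 : act 1 n19876 = n24227 := rfl
theorem F48904 : act 2 n24227 = n22353 := d6_2 (iv F37519) D24227 F43784 F37806 F25731
theorem F48905 : act 3 n24227 = n22991 := d7_2 (iv F48879) D24227 (iv F48876)
theorem F48906 : act 6 n24227 = n22389 := d10_2 D19876 D24227 (iv F44518) F44520 F37514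
theorem F48907 : act 0 n24227 = n22354 := d23_3 F25534 (iv F37519) D24227 (iv F43921) F43919 F43680 (iv F38982) (iv D20541) F26495 F20640 (iv F20707) (iv F20715) (iv F23451) F21873 F21872 D12422 F21879 (iv F20139) (iv F25533)
def n24228 : Q := act 1 n19878
theorem D24228 : act 1 n19878 = n24228 := rfl
theorem F48908 : act 2 n24228 = n19880 := d6_2 D19878 D24228 (iv D19880) (iv D14629) D14628
def n24229 : Q := act 5 n19878
theorem D24229 : act 5 n19878 = n24229 := rfl
theorem F48909 : act 0 n24229 = n23958 := d4_1 D24229 (iv F48860) F48858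
theorem F48910 : act 2 n24229 = n19879 := d13_1 D24229 (iv D19879) D19878
theorem F48911 : act 6 n24229 = n22199 := d22_3 D23961 (iv F48234) D24229 (iv F43268)
theorem F48912 : act 1 n22197 = n24229 := d10_5 F48911 (iv D22199) (iv D16903) D16900 D22197
def n24230 : Q := act 0 n19880
theorem D24230 : act 0 n19880 = n24230 := rfl
def n24231 : Q := act 3 n19880
theorem D24231 : act 3 n19880 = n24231 := rfl
theorem F48913 : act 1 n24231 = n19881 := d7_1 D24231 (iv D19881) D19880
def n24232 : Q := act 6 n19880
theorem D24232 : act 6 n19880 = n24232 := rfl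
def n24233 : Q := act 2 n19881
theorem D24233 : act 2 n19881 = n24233 := rfl
theorem F48914 : act 0 n24233 = n19883 := d1_1 D24233 (iv D19883) (iv F37525)
theorem F48915 : act 3 n24233 = n24196 := d21_1 D24233 (iv D24196) (iv D19841) (iv D14594) F20122 D11350 D14631 (iv F37525)
theorem F48916 : act 6 n24219 = n24233 := d17_0 F48915 F48826 (iv F48882)
theorem F48917 : act 4 n24233 = n24220 := d19_1 F48916 (iv D24220) (iv F48883)
def n24234 : Q := act 4 n19881
theorem D24234 : act 4 n19881 = n24234 := rfl
theorem F48918 : act 0 n24234 = n19884 := d3_1 D24234 (iv D19884) (iv F37525)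
theorem F48919 : act 2 n24234 = n24220 := d12_1 D24234 (iv F48917) (iv D24233)
theorem F48920 : act 3 n24234 = n23006 := d15_1 D24234 F48383 (iv D24015) F37050 D19881
theorem F48921 : act 6 n24218 = n24234 := d14_0 F48919 (iv D24220) (iv F48880)
def n24235 : Q := act 6 n19881
theorem D24235 : act 6 n19881 = n24235 := rfl
theorem F48922 : act 0 n24235 = n19885 := d5_1 D24235 (iv D19885) (iv F37525)
theorem F48923 : act 2 n24235 = n24219 := d14_1 D24235 F48916 (iv D24233)
theorem F48924 : act 3 n24235 = n19882 := d17_1 D24235 (iv D19882) D19881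
theorem F48925 : act 4 n24235 = n24218 := d19_1 D24235 F48921 (iv D24234)
theorem F48926 : act 5 n24235 = n24217 := d22_2 F48903 D24235 F48878 (iv F48902)
def n24236 : Q := act 1 n19882
theorem D24236 : act 1 n19882 = n24236 := rfl
def n24237 : Q := act 3 n19883
theorem D24237 : act 3 n19883 = n24237 := rfl
theorem F48927 : act 0 n24237 = n24196 := d2_1 D24237 (iv F48915) F48914
theorem F48928 : act 2 n24237 = n22640 := d11_1 D24237 F44485 (iv F37443) F25495 D14629 D19881 D24233 F48915 (iv D24196) (iv D19841) (iv D14594) F20122 D11350 D14631 D19883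
theorem F48929 : act 5 n24237 = n23030 := d16_2 F44680 D24237 F45661
def n24238 : Q := act 6 n19883
theorem D24238 : act 6 n19883 = n24238 := rfl
theorem F48930 : act 0 n24238 = n24219 := d5_1 D24238 F48916 F48914
theorem F48931 : act 2 n24238 = n19885 := d14_1 D24238 (iv D19885) D19883
theorem F48932 : act 4 n24238 = n24214 := d19_1 D24238 F48872 F48849
theorem F48933 : act 5 n24213 = n24238 := d22_0 (iv D24238) (iv F44680) F44681 (iv F48868)
def n24239 : Q := act 6 n19884
theorem D24239 : act 6 n19884 = n24239 := rfl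
theorem F48934 : act 0 n24239 = n24218 := d5_1 D24239 F48921 F48918
theorem F48935 : act 1 n24239 = n20973 := d10_1 D24239 (iv F43800) F43798 (iv D20578) (iv F37529)
theorem F48936 : act 2 n24239 = n24214 := d14_1 D24239 F48872 F48847
theorem F48937 : act 3 n24239 = n23008 := d17_1 D24239 (iv D23008) F39800
theorem F48938 : act 4 n24239 = n19885 := d19_1 D24239 (iv D19885) D19884
theorem F48939 : act 5 n24212 = n24239 := d22_0 (iv D24239) (iv F44553) F44554 (iv F48866)
def n24240 : Q := act 5 n19885
theorem D24240 : act 5 n19885 = n24240 := rfl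
theorem F48940 : act 0 n24240 = n24217 := d4_1 D24240 (iv F48926) F48922
theorem F48941 : act 2 n24240 = n24213 := d13_1 D24240 F48933 F48931
theorem F48942 : act 3 n24240 = n19886 := d16_1 D24240 (iv D19886) (iv F37530)
theorem F48943 : act 4 n24240 = n24212 := d18_1 D24240 F48939 F48938
theorem F48944 : act 6 n24240 = n24226 := d20_2 D19885 D24240 F48903 D24235 F48926 F48878 F37518
def n24241 : Q := act 1 n19886
theorem D24241 : act 1 n19886 = n24241 := rfl
theorem F48945 : act 5 n24241 = n22401 := d9_2 D19886 D24241 (iv D22401) F30049 F30036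
def n24242 : Q := act 2 n19889
theorem D24242 : act 2 n19889 = n24242 := rfl
theorem F48946 : act 0 n24242 = n19890 := d1_1 D24242 (iv D19890) D19889
theorem F48947 : act 4 n24242 = n19913 := d12_2 (iv F37548) D24242 (iv D19913)
theorem F48948 : act 5 n24242 = n20591 := d13_2 (iv F37550) D24242 (iv D20591)
theorem F48949 : act 6 n24242 = n19893 := d14_2 (iv F37549) D24242 (iv D19893)
def n24243 : Q := act 1 n19893
theorem D24243 : act 1 n19893 = n24243 := rfl
theorem F48950 : act 4 n24243 = n19919 := d8_2 (iv F37560) D24243 (iv D19919)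
def n24244 : Q := act 5 n19893
theorem D24244 : act 5 n19893 = n24244 := rfl
theorem F48951 : act 0 n24244 = n19896 := d4_1 D24244 (iv D19896) (iv F37559)
theorem F48952 : act 2 n24244 = n19894 := d13_1 D24244 (iv D19894) D19893
theorem F48953 : act 3 n24244 = n22066 := d16_1 D24244 (iv F42909) (iv F39811)
theorem F48954 : act 4 n24244 = n19921 := d18_1 D24244 (iv D19921) (iv F37560)
theorem F48955 : act 6 n24244 = n22110 := d20_2 F48949 D24244 F43025 F37552 D19896 (iv F39069) (iv F48948)
theorem F48956 : act 1 n24202 = n24244 := d7_3 F48953 F42907 D24202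
def n24245 : Q := act 1 n19896
theorem D24245 : act 1 n19896 = n24245 := rfl
theorem F48957 : act 0 n24245 = n22613 := d0_1 D24245 F44377 (iv F47608) (iv F47612) F44666 F44556 (iv F48844) F48956 F48951
theorem F48958 : act 2 n24245 = n23808 := d6_2 (iv F37566) D24245 F47683 F36923 (iv F25595)
theorem F48959 : act 4 n24245 = n19925 := d8_2 (iv F37567) D24245 (iv D19925)
theorem F48960 : act 5 n24245 = n22612 := d9_2 D19896 D24245 F44373 (iv D20527) (iv F39547)
def n24246 : Q := act 2 n19898
theorem D24246 : act 2 n19898 = n24246 := rfl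
theorem F48961 : act 0 n24246 = n19899 := d1_1 D24246 (iv D19899) D19898
theorem F48962 : act 4 n24246 = n19933 := d12_2 (iv F37580) D24246 (iv D19933)
theorem F48963 : act 5 n24246 = n19902 := d13_2 (iv F37581) D24246 (iv D19902)
theorem F48964 : act 6 n24246 = n20629 := d14_2 F37582 D24246 (iv D20629)
def n24247 : Q := act 1 n19902
theorem D24247 : act 1 n19902 = n24247 := rfl
theorem F48965 : act 4 n24247 = n19939 := d8_2 (iv F37592) D24247 (iv D19939)
def n24248 : Q := act 6 n19902
theorem D24248 : act 6 n19902 = n24248 := rfl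
theorem F48966 : act 0 n24248 = n19905 := d5_1 D24248 (iv D19905) (iv F37591)
theorem F48967 : act 2 n24248 = n19903 := d14_1 D24248 (iv D19903) D19902
theorem F48968 : act 3 n24248 = n22282 := d17_1 D24248 F43451 F39801
theorem F48969 : act 4 n24248 = n19941 := d19_1 D24248 (iv D19941) (iv F37592)
theorem F48970 : act 5 n24248 = n22321 := d20_1 D24248 F43568 F37584 D19905 (iv F39147) (iv F48964) F48963
theorem F48971 : act 1 n24226 = n24248 := d7_3 F48968 F43449 D24226
def n24249 : Q := act 1 n19905
theorem D24249 : act 1 n19905 = n24249 := rfl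
theorem F48972 : act 0 n24249 = n22568 := d0_1 D24249 F44216 (iv F47534) (iv F47538) F44541 F44508 (iv F48902) F48971 F48966
theorem F48973 : act 2 n24249 = n23804 := d6_2 (iv F37598) D24249 (iv F47672) F36905 (iv F25614)
theorem F48974 : act 4 n24249 = n19945 := d8_2 (iv F37599) D24249 (iv D19945)
theorem F48975 : act 6 n24249 = n22566 := d10_2 D19905 D24249 F44208 (iv D20573) F39646
def n24250 : Q := act 1 n19908
theorem D24250 : act 1 n19908 = n24250 := rfl
theorem F48976 : act 0 n24250 = n22563 := d0_1 D24250 (iv F45186) F45185 (iv F45307) F45306 (iv D20830) (iv F39936) F45770 F45767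
theorem F48977 : act 3 n24250 = n22560 := d7_2 F45069 D24250 (iv F45068)
theorem F48978 : act 4 n24250 = n19909 := d8_2 (iv F37608) D24250 (iv D19909)
theorem F48979 : act 6 n24250 = n22558 := d10_2 D19908 D24250 F44191 F32041 (iv F32006)
def n24251 : Q := act 2 n19912
theorem D24251 : act 2 n19912 = n24251 := rfl
theorem F48980 : act 0 n24251 = n22721 := d1_1 D24251 F48085 F48080
theorem F48981 : act 4 n24251 = n23948 := d12_2 F48128 D24251 F48177
theorem F48982 : act 6 n24251 = n22718 := d14_2 F45747 D24251 F45748
def n24252 : Q := act 1 n19913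
theorem D24252 : act 1 n19913 = n24252 := rfl
theorem F48983 : act 5 n24252 = n20968 := d9_2 (iv F37619) D24252 (iv D20968) F27305 D15806
theorem F48984 : act 3 n23508 = n24252 := d16_3 F48983 F40331 D23508
def n24253 : Q := act 3 n19913
theorem D24253 : act 3 n19913 = n24253 := rfl
theorem F48985 : act 0 n24253 = n19914 := d2_1 D24253 (iv D19914) (iv F37618)
theorem F48986 : act 1 n24253 = n23508 := d7_1 D24253 F48984 (iv D24252)
theorem F48987 : act 5 n24253 = n20994 := d16_2 (iv F37619) D24253 (iv D20994)
theorem F48988 : act 6 n24253 = n19920 := d17_2 (iv F37620) D24253 (iv D19920)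
def n24254 : Q := act 4 n19914
theorem D24254 : act 4 n19914 = n24254 := rfl
theorem F48989 : act 6 n24254 = n19923 := d19_2 (iv F37621) D24254 (iv D19923)
def n24255 : Q := act 1 n19915
theorem D24255 : act 1 n19915 = n24255 := rfl
theorem F48990 : act 0 n24255 = n21012 := d0_1 D24255 (iv D21012) (iv D15834) (iv D11981) F17613 (iv F17602) (iv F21118) D15806 (iv F37622)
theorem F48991 : act 2 n24255 = n23755 := d6_2 (iv F37623) D24255 (iv D23755) F37629 (iv D19916)
def n24256 : Q := act 1 n19918
theorem D24256 : act 1 n19918 = n24256 := rfl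
theorem F48992 : act 2 n24256 = n19919 := d6_2 D19918 D24256 (iv D19919) (iv D14690) D14689
def n24257 : Q := act 3 n19918
theorem D24257 : act 3 n19918 = n24257 := rfl
theorem F48993 : act 0 n24257 = n20105 := d2_1 D24257 F38012 (iv F37636)
theorem F48994 : act 5 n24257 = n20101 := d16_2 (iv F37637) D24257 (iv D20101)
def n24258 : Q := act 0 n19919
theorem D24258 : act 0 n19919 = n24258 := rfl
def n24259 : Q := act 3 n19919
theorem D24259 : act 3 n19919 = n24259 := rfl
theorem F48995 : act 1 n24259 = n19920 := d7_1 D24259 (iv D19920) D19919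
def n24260 : Q := act 5 n19919
theorem D24260 : act 5 n19919 = n24260 := rfl
def n24261 : Q := act 6 n19919
theorem D24261 : act 6 n19919 = n24261 := rfl
def n24262 : Q := act 4 n19920
theorem D24262 : act 4 n19920 = n24262 := rfl
theorem F48996 : act 0 n24262 = n19923 := d3_1 D24262 (iv D19923) (iv F37638)
def n24263 : Q := act 5 n19920
theorem D24263 : act 5 n19920 = n24263 := rfl
theorem F48997 : act 0 n24263 = n19924 := d4_1 D24263 (iv D19924) (iv F37638)
theorem F48998 : act 2 n24263 = n20662 := d13_1 D24263 F43973 F37777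
theorem F48999 : act 3 n24263 = n19921 := d16_1 D24263 (iv D19921) D19920
theorem F49000 : act 6 n24263 = n23643 := d20_2 F48988 D24263 F47190 F37621 D19924 (iv F40418) (iv F48987)
def n24264 : Q := act 1 n19921
theorem D24264 : act 1 n19921 = n24264 := rfl
theorem F49001 : act 0 n24264 = n22706 := d0_1 D24264 (iv D22706) F35387 (iv F36342) F36338 (iv F36318) (iv F37645) (iv D19925) (iv F37639)
theorem F49002 : act 2 n24264 = n24226 := d6_2 (iv F37640) D24264 F48971 F48967 (iv F37597)
theorem F49003 : act 4 n24264 = n24202 := d8_2 F48954 D24264 F48956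
theorem F49004 : act 5 n24233 = n24264 := d18_0 F49003 (iv F48886) (iv F48917)
theorem F49005 : act 6 n24213 = n24264 := d19_0 F49003 F48845 D24213
theorem F49006 : act 1 n24260 = n24233 := d9_5 F49004 (iv D24264) (iv D19921) D19919 D24260
def n24265 : Q := act 4 n19922
theorem D24265 : act 4 n19922 = n24265 := rfl
theorem F49007 : act 2 n24265 = n19923 := d12_1 D24265 (iv D19923) D19922
def n24266 : Q := act 5 n19922
theorem D24266 : act 5 n19922 = n24266 := rfl
theorem F49008 : act 0 n24266 = n20662 := d4_1 D24266 F43973 F37776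
theorem F49009 : act 1 n24266 = n23507 := d9_1 D24266 (iv D23507) (iv F46810) (iv F43317) (iv F43339)
theorem F49010 : act 2 n24266 = n19924 := d13_1 D24266 (iv D19924) D19922
theorem F49011 : act 3 n24266 = n20664 := d16_1 D24266 F43972 F37765
theorem F49012 : act 6 n24266 = n23555 := d22_3 (iv F45692) F45693 D24266 F46956
def n24267 : Q := act 5 n19923
theorem D24267 : act 5 n19923 = n24267 := rfl
theorem F49013 : act 4 n24267 = n19924 := d18_1 D24267 (iv D19924) D19923
def n24268 : Q := act 1 n19924
theorem D24268 : act 1 n19924 = n24268 := rfl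
theorem F49014 : act 3 n24268 = n19925 := d7_2 (iv F37642) D24268 (iv D19925)
theorem F49015 : act 5 n24268 = n23774 := d9_2 D19924 D24268 F47583 F45527 F33207
theorem F49016 : act 6 n24268 = n23516 := d10_2 F40418 D24268 (iv D23516) (iv F35967) (iv F40417)
theorem F49017 : act 0 n24268 = n23778 := d22_4 (iv D23778) F47590 (iv F47589) (iv F49016)
def n24269 : Q := act 1 n19928
theorem D24269 : act 1 n19928 = n24269 := rfl
theorem F49018 : act 0 n24269 = n22503 := d0_1 D24269 (iv F45214) F45213 (iv F45376) F45375 (iv D20776) (iv F39446) (iv F45791) F45788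
theorem F49019 : act 3 n24269 = n22500 := d7_2 F45078 D24269 (iv F45077)
theorem F49020 : act 4 n24269 = n19929 := d8_2 (iv F37654) D24269 (iv D19929)
theorem F49021 : act 5 n24269 = n22499 := d9_2 D19928 D24269 F44053 F32054 F35365
def n24270 : Q := act 2 n19932
theorem D24270 : act 2 n19932 = n24270 := rfl
theorem F49022 : act 0 n24270 = n22684 := d1_1 D24270 F48073 F48068
theorem F49023 : act 4 n24270 = n23945 := d12_2 F48094 D24270 F48165
theorem F49024 : act 5 n24270 = n22682 := d13_2 F45737 D24270 F45738
def n24271 : Q := act 1 n19933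
theorem D24271 : act 1 n19933 = n24271 := rfl
theorem F49025 : act 6 n24271 = n20886 := d10_2 (iv F37667) D24271 (iv D20886) F27151 D15678
theorem F49026 : act 3 n23521 = n24271 := d17_3 F49025 F40114 D23521
def n24272 : Q := act 3 n19933
theorem D24272 : act 3 n19933 = n24272 := rfl
theorem F49027 : act 0 n24272 = n19934 := d2_1 D24272 (iv D19934) (iv F37665)
theorem F49028 : act 1 n24272 = n23521 := d7_1 D24272 F49026 (iv D24271)
theorem F49029 : act 5 n24272 = n19940 := d16_2 (iv F37666) D24272 (iv D19940)
theorem F49030 : act 6 n24272 = n20910 := d17_2 (iv F37667) D24272 (iv D20910)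
def n24273 : Q := act 4 n19934
theorem D24273 : act 4 n19934 = n24273 := rfl
theorem F49031 : act 5 n24273 = n19943 := d18_2 (iv F37668) D24273 (iv D19943)
def n24274 : Q := act 1 n19935
theorem D24274 : act 1 n19935 = n24274 := rfl
theorem F49032 : act 0 n24274 = n20930 := d0_1 D24274 (iv D20930) (iv D15706) (iv D11920) F17566 (iv F17555) (iv F21036) D15678 (iv F37669)
theorem F49033 : act 2 n24274 = n23779 := d6_2 (iv F37670) D24274 (iv D23779) F37676 (iv D19936)
def n24275 : Q := act 1 n19938
theorem D24275 : act 1 n19938 = n24275 := rfl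
theorem F49034 : act 2 n24275 = n19939 := d6_2 D19938 D24275 (iv D19939) (iv D14713) D14712
def n24276 : Q := act 3 n19938
theorem D24276 : act 3 n19938 = n24276 := rfl
theorem F49035 : act 0 n24276 = n20089 := d2_1 D24276 F37968 (iv F37683)
theorem F49036 : act 6 n24276 = n20084 := d17_2 (iv F37684) D24276 (iv D20084)
def n24277 : Q := act 0 n19939
theorem D24277 : act 0 n19939 = n24277 := rfl
def n24278 : Q := act 3 n19939
theorem D24278 : act 3 n19939 = n24278 := rfl
theorem F49037 : act 1 n24278 = n19940 := d7_1 D24278 (iv D19940) D19939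
def n24279 : Q := act 5 n19939
theorem D24279 : act 5 n19939 = n24279 := rfl
def n24280 : Q := act 6 n19939
theorem D24280 : act 6 n19939 = n24280 := rfl
def n24281 : Q := act 4 n19940
theorem D24281 : act 4 n19940 = n24281 := rfl
theorem F49038 : act 0 n24281 = n19943 := d3_1 D24281 (iv D19943) (iv F37685)
def n24282 : Q := act 6 n19940
theorem D24282 : act 6 n19940 = n24282 := rfl
theorem F49039 : act 0 n24282 = n19944 := d5_1 D24282 (iv D19944) (iv F37685)
theorem F49040 : act 2 n24282 = n20716 := d14_1 D24282 F39577 F37874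
theorem F49041 : act 3 n24282 = n19941 := d17_1 D24282 (iv D19941) D19940
theorem F49042 : act 5 n24282 = n23692 := d20_1 D24282 F47319 F37668 D19944 (iv F40190) (iv F49030) F49029
def n24283 : Q := act 1 n19941
theorem D24283 : act 1 n19941 = n24283 := rfl
theorem F49043 : act 0 n24283 = n22661 := d0_1 D24283 (iv D22661) F35393 F39861 F36241 (iv F36216) F37692 (iv D19945) (iv F37686)
theorem F49044 : act 2 n24283 = n24202 := d6_2 (iv F37687) D24283 F48956 F48952 (iv F37565)
theorem F49045 : act 4 n24283 = n24226 := d8_2 F48969 D24283 F48971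
theorem F49046 : act 5 n24234 = n24283 := d18_0 F49045 F48903 D24234
theorem F49047 : act 6 n24212 = n24283 := d19_0 F49045 (iv F48944) F48943
theorem F49048 : act 1 n24280 = n24212 := d10_5 F49047 (iv D24283) (iv D19941) D19939 D24280
def n24284 : Q := act 4 n19942
theorem D24284 : act 4 n19942 = n24284 := rfl
theorem F49049 : act 2 n24284 = n19943 := d12_1 D24284 (iv D19943) D19942
def n24285 : Q := act 6 n19942
theorem D24285 : act 6 n19942 = n24285 := rfl
theorem F49050 : act 0 n24285 = n20716 := d5_1 D24285 F39577 F37873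
theorem F49051 : act 1 n24285 = n23520 := d10_1 D24285 (iv D23520) (iv F43855) (iv F43870) (iv F43871)
theorem F49052 : act 2 n24285 = n19944 := d14_1 D24285 (iv D19944) D19942
theorem F49053 : act 3 n24285 = n20717 := d17_1 D24285 F39576 F37862
theorem F49054 : act 5 n24285 = n23614 := d24_1 D24285 (iv D23614) (iv D19201) (iv F35766) (iv F47060) (iv F47062) F39288 (iv D17137) F22287 F22233 (iv F22276) D17118 D22420 (iv F43871)
def n24286 : Q := act 6 n19943
theorem D24286 : act 6 n19943 = n24286 := rfl
theorem F49055 : act 4 n24286 = n19944 := d19_1 D24286 (iv D19944) D19943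
def n24287 : Q := act 1 n19944
theorem D24287 : act 1 n19944 = n24287 := rfl
theorem F49056 : act 3 n24287 = n19945 := d7_2 (iv F37689) D24287 (iv D19945)
theorem F49057 : act 5 n24287 = n23529 := d9_2 F40190 D24287 (iv D23529) (iv F36111) (iv F40189)
theorem F49058 : act 6 n24287 = n23750 := d10_2 D19944 D24287 F47506 F45517 F33170
theorem F49059 : act 0 n23754 = n24287 := d5_3 F49058 F47505 D23754
def n24288 : Q := act 0 n19946
theorem D24288 : act 0 n19946 = n24288 := rfl
theorem F49060 : act 1 n24288 = n22211 := d0_2 D19946 D24288 F43300 (iv F35579) F29323 (iv F30083) (iv F35249) F34919 F30125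
theorem F49061 : act 3 n24288 = n22968 := d2_2 (iv F37693) D24288 (iv D22968)
theorem F49062 : act 6 n24288 = n22214 := d5_2 (iv F37694) D24288 F46811
theorem F49063 : act 5 n24288 = n20587 := d22_0 (iv F46804) F46805 (iv F37694) D24288
def n24289 : Q := act 5 n19946
theorem D24289 : act 5 n19946 = n24289 := rfl
theorem F49064 : act 0 n24289 = n20587 := d4_1 D24289 (iv F49063) (iv D24288)
theorem F49065 : act 1 n24289 = n20601 := d9_1 D24289 F45549 (iv D22996) F33220 D19946
theorem F49066 : act 2 n24289 = n24288 := d13_1 D24289 F49063 F39054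
theorem F49067 : act 3 n24289 = n22970 := d16_1 D24289 (iv D22970) (iv F37693)
def n24290 : Q := act 3 n19949
theorem D24290 : act 3 n19949 = n24290 := rfl
theorem F49068 : act 0 n24290 = n19957 := d2_1 D24290 (iv D19957) (iv F37698)
theorem F49069 : act 1 n24290 = n23126 := d7_1 D24290 (iv D23126) (iv F37699)
theorem F49070 : act 4 n24290 = n23058 := d15_2 D19949 D24290 F45754 F33484 F28817
theorem F49071 : act 5 n24290 = n22744 := d16_2 (iv F37701) D24290 F44791
def n24291 : Q := act 2 n19951
theorem D24291 : act 2 n19951 = n24291 := rfl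
theorem F49072 : act 0 n24291 = n19952 := d1_1 D24291 (iv D19952) D19951
theorem F49073 : act 6 n24291 = n20680 := d14_2 F46967 D24291 (iv F46965)
theorem F49074 : act 5 n23538 = n24291 := d23_0 (iv D24291) F42897 F42895 (iv D22048) D22047 F42867 (iv F42976) F42978 (iv F39564) (iv F29678) (iv D12551) (iv F22050) D16863 (iv F43123) F48853 F48852 (iv D22184) D22183 (iv F46904)
theorem F49075 : act 3 n24291 = n23543 := d16_1 F49074 (iv D23543) (iv F46905)
theorem F49076 : act 1 n24291 = n20686 := d24_2 (iv F46906) F49074 (iv D20686) D20685 F43660 F43658 F43531 (iv D18570) (iv D13555) F28900 F28897 D13867 (iv F24402) D19126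
def n24292 : Q := act 5 n19951
theorem D24292 : act 5 n19951 = n24292 := rfl
theorem F49077 : act 0 n24292 = n19953 := d4_1 D24292 (iv D19953) D19951
theorem F49078 : act 1 n24292 = n20706 := d9_1 D24292 F39292 F42872 (iv F42896) (iv F42897)
theorem F49079 : act 2 n24292 = n23538 := d13_1 D24292 F49074 (iv D24291)
theorem F49080 : act 3 n24292 = n23568 := d16_1 D24292 (iv F46998) F46997
theorem F49081 : act 6 n24292 = n23547 := d22_1 D24292 (iv F46925) F35659 D19951
def n24293 : Q := act 6 n19953
theorem D24293 : act 6 n19953 = n24293 := rfl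
theorem F49082 : act 0 n24293 = n23547 := d5_1 D24293 (iv F49081) F49077
theorem F49083 : act 2 n24293 = n23546 := d14_1 D24293 F46921 (iv F43215)
theorem F49084 : act 3 n24293 = n23566 := d17_1 D24293 (iv F47003) F47002
theorem F49085 : act 5 n24293 = n23559 := d20_1 D24293 F46967 D24292 F49081 (iv F46925) F35659 D19953
theorem F49086 : act 1 n20681 = n24293 := d0_0 F49082 F46923 (iv F35913) F46931 (iv D20677) (iv D15337) (iv F20755) D15340 D20681
def n24294 : Q := act 2 n19955
theorem D24294 : act 2 n19955 = n24294 := rfl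
theorem F49087 : act 3 n24294 = n20937 := d21_1 D24294 (iv F40274) F40275 (iv F37600) F37601 F36875 (iv F39044) (iv F39046)
theorem F49088 : act 5 n20935 = n24294 := d16_0 F49087 (iv D20937) (iv F40234)
def n24295 : Q := act 4 n19955
theorem D24295 : act 4 n19955 = n24295 := rfl
theorem F49089 : act 0 n24295 = n23455 := d3_1 D24295 F46701 (iv F39046)
def n24296 : Q := act 5 n19955
theorem D24296 : act 5 n19955 = n24296 := rfl
theorem F49090 : act 0 n24296 = n23666 := d4_1 D24296 F47260 (iv F39046)
theorem F49091 : act 2 n24296 = n20935 := d13_1 D24296 F49088 (iv D24294)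
theorem F49092 : act 3 n24296 = n19956 := d16_1 D24296 (iv D19956) D19955
theorem F49093 : act 6 n24296 = n20586 := d22_1 D24296 (iv D20586) (iv F39045) (iv F39046)
def n24297 : Q := act 2 n19957
theorem D24297 : act 2 n19957 = n24297 := rfl
theorem F49094 : act 4 n24297 = n23059 := d12_2 (iv F37713) D24297 (iv D23059)
theorem F49095 : act 5 n24297 = n22745 := d13_2 (iv F37714) D24297 (iv D22745)
def n24298 : Q := act 6 n19957
theorem D24298 : act 6 n19957 = n24298 := rfl
theorem F49096 : act 3 n24298 = n19958 := d17_1 D24298 (iv D19958) D19957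
theorem F49097 : act 4 n24298 = n23060 := d19_1 D24298 (iv D23060) (iv F37713)
def n24299 : Q := act 1 n19958
theorem D24299 : act 1 n19958 = n24299 := rfl
theorem F49098 : act 0 n24299 = n23148 := d0_1 D24299 (iv D23148) (iv D18774) (iv D13692) (iv F19313) D13749 D18890 F44812 F44808
theorem F49099 : act 4 n24299 = n19959 := d8_2 (iv F37716) D24299 (iv D19959)
theorem F49100 : act 5 n24299 = n23239 := d9_2 F44807 D24299 F46193 D23256 F46242
theorem F49101 : act 6 n24299 = n22742 := d10_2 D19958 D24299 (iv D22742) (iv D18180) F29027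
def n24300 : Q := act 1 n19960
theorem D24300 : act 1 n19960 = n24300 := rfl
theorem F49102 : act 4 n24300 = n19961 := d8_2 (iv F37722) D24300 (iv D19961)
def n24301 : Q := act 2 n19962
theorem D24301 : act 2 n19962 = n24301 := rfl
theorem F49103 : act 0 n24301 = n19963 := d1_1 D24301 (iv D19963) D19962
theorem F49104 : act 1 n24301 = n22464 := d6_1 D24301 F43963 F30157 D19971 F44050
theorem F49105 : act 3 n24301 = n23570 := d11_2 F46945 D24301 (iv D23570) (iv F46966) F46965 (iv F46940) F46939 F37724 D19963 (iv F37726) (iv D19146) (iv F35658) (iv F46928) F46929 (iv F46944)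
def n24302 : Q := act 6 n19962
theorem D24302 : act 6 n19962 = n24302 := rfl
theorem F49106 : act 0 n24302 = n19964 := d5_1 D24302 (iv D19964) D19962
theorem F49107 : act 5 n24302 = n22498 := d22_2 F44044 D24302 (iv D22498) D22496
def n24303 : Q := act 6 n19963
theorem D24303 : act 6 n19963 = n24303 := rfl
theorem F49108 : act 1 n24303 = n20030 := d10_1 D24303 (iv F42822) F42820 (iv D19978) (iv F37725)
theorem F49109 : act 2 n24303 = n19964 := d14_1 D24303 (iv D19964) D19963
theorem F49110 : act 3 n24303 = n23572 := d17_1 D24303 (iv D23572) F37726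
def n24304 : Q := act 5 n19964
theorem D24304 : act 5 n19964 = n24304 := rfl
theorem F49111 : act 0 n24304 = n22498 := d4_1 D24304 (iv F49107) F49106
theorem F49112 : act 1 n24304 = n22259 := d9_1 D24304 (iv D22259) F39299 (iv F37471) (iv F37727)
theorem F49113 : act 3 n24304 = n23542 := d16_1 D24304 (iv F46917) F46911
theorem F49114 : act 6 n24304 = n22496 := d20_2 D19964 D24304 F44044 D24302 F49107 (iv D22498) F30184
def n24305 : Q := act 1 n19966
theorem D24305 : act 1 n19966 = n24305 := rfl
theorem F49115 : act 2 n24305 = n19969 := d6_2 D19966 D24305 (iv D19969) (iv D14747) D14746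
def n24306 : Q := act 5 n19966
theorem D24306 : act 5 n19966 = n24306 := rfl
theorem F49116 : act 0 n24306 = n20483 := d4_1 D24306 (iv F43288) (iv F43289)
theorem F49117 : act 2 n24306 = n19967 := d13_1 D24306 (iv D19967) D19966
theorem F49118 : act 3 n24306 = n22275 := d16_1 D24306 (iv F43425) F43290
theorem F49119 : act 6 n22274 = n24306 := d17_0 F49118 (iv D22275) D22274
def n24307 : Q := act 6 n19966
theorem D24307 : act 6 n19966 = n24307 := rfl
theorem F49120 : act 2 n24307 = n19968 := d14_1 D24307 (iv D19968) D19966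
def n24308 : Q := act 0 n19969
theorem D24308 : act 0 n19969 = n24308 := rfl
theorem F49121 : act 1 n24308 = n22058 := d0_2 D19969 D24308 F42890 F29613 (iv F29616) (iv F35581) F30153 F22328 (iv F25695)
def n24309 : Q := act 3 n19969
theorem D24309 : act 3 n19969 = n24309 := rfl
theorem F49122 : act 1 n24309 = n19970 := d7_1 D24309 (iv D19970) D19969
theorem F49123 : act 6 n24309 = n20040 := d24_3 D19997 F37784 (iv F49122) (iv D20040) (iv D14807) D14809 F25751 D20028 (iv F43576) F43577 F30157 F25697 D14764 F25708
def n24310 : Q := act 5 n19969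
theorem D24310 : act 5 n19969 = n24310 := rfl
def n24311 : Q := act 6 n19969
theorem D24311 : act 6 n19969 = n24311 := rfl
theorem F49124 : act 1 n24311 = n19987 := d10_1 D24311 (iv D19987) (iv D14758) (iv F25696) D19969
theorem F49125 : act 3 n24311 = n20040 := d17_1 D24311 (iv F49123) (iv D24309)
theorem F49126 : act 5 n24311 = n20039 := d24_1 D24311 F37860 D20044 F37866 (iv F39570) (iv F30163) (iv D17175) F22328 F20199 D11408 F20204 D14765 F25712 D19969
theorem F49127 : act 2 n24308 = n24311 := d6_0 F49124 F42889 (iv D22057) D22058 (iv F49121)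
theorem F49128 : act 0 n24311 = n24305 := d1_1 F49127 F49115 D24308
theorem F49129 : act 6 n24305 = n24308 := d14_0 F49127 (iv D24311) (iv F49115)
def n24312 : Q := act 2 n19970
theorem D24312 : act 2 n19970 = n24312 := rfl
theorem F49130 : act 0 n24312 = n19971 := d1_1 D24312 (iv D19971) (iv F37733)
theorem F49131 : act 5 n24312 = n20657 := d13_2 F37784 D24312 (iv F43965)
theorem F49132 : act 6 n24312 = n19988 := d14_2 (iv F37734) D24312 (iv D19988)
theorem F49133 : act 3 n24312 = n23041 := d21_1 D24312 (iv F45694) (iv D19914) (iv D14686) F20167 D11401 D14748 (iv F37733)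
theorem F49134 : act 1 n22223 = n24312 := d7_3 F49133 (iv D23041) (iv F43324)
def n24313 : Q := act 4 n19970
theorem D24313 : act 4 n19970 = n24313 := rfl
theorem F49135 : act 0 n24313 = n19972 := d3_1 D24313 (iv D19972) (iv F37733)
theorem F49136 : act 6 n24313 = n19989 := d19_2 (iv F37734) D24313 (iv D19989)
def n24314 : Q := act 3 n19971
theorem D24314 : act 3 n19971 = n24314 := rfl
theorem F49137 : act 0 n24314 = n23041 := d2_1 D24314 (iv F49133) F49130
theorem F49138 : act 1 n24314 = n23551 := d7_1 D24314 F46945 (iv F44050)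
theorem F49139 : act 2 n24314 = n24253 := d11_1 D24314 (iv D24253) (iv D19913) F25628 D14747 D19970 D24312 F49133 (iv F45694) (iv D19914) (iv D14686) F20167 D11401 D14748 D19971
theorem F49140 : act 6 n24314 = n19993 := d17_2 (iv F37735) D24314 (iv D19993)
theorem F49141 : act 5 n23555 = n24314 := d20_7 F49140 (iv F43973) F39213 (iv F45692) F45693 D24266 F49012
def n24315 : Q := act 4 n19971
theorem D24315 : act 4 n19971 = n24315 := rfl
theorem F49142 : act 1 n24315 = n24055 := d8_1 D24315 F48500 (iv F44050)
theorem F49143 : act 2 n24315 = n19972 := d12_1 D24315 (iv D19972) D19971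
theorem F49144 : act 6 n24315 = n19994 := d19_2 (iv F37735) D24315 (iv D19994)
def n24316 : Q := act 5 n19971
theorem D24316 : act 5 n19971 = n24316 := rfl
theorem F49145 : act 0 n24316 = n20657 := d4_1 D24316 (iv F49131) F49130
theorem F49146 : act 1 n24316 = n22542 := d9_1 D24316 F44155 (iv F44043) F44044 (iv F44050)
theorem F49147 : act 2 n24316 = n19973 := d13_1 D24316 (iv D19973) D19971
theorem F49148 : act 3 n24316 = n23555 := d16_1 D24316 F49141 (iv D24314)
theorem F49149 : act 6 n24316 = n20664 := d20_2 (iv F37735) D24316 F43972 (iv F49132) F49131 F39200 (iv F43968)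
def n24317 : Q := act 5 n19972
theorem D24317 : act 5 n19972 = n24317 := rfl
theorem F49150 : act 4 n24317 = n19973 := d18_1 D24317 (iv D19973) D19972
theorem F49151 : act 1 n24317 = n21860 := d24_2 (iv F37736) D24317 (iv D21860) D21859 F42405 F41925 F38321 D21677 F43980 (iv D22465) F30155 F22331 F20235 (iv F25707)
def n24318 : Q := act 1 n19976
theorem D24318 : act 1 n19976 = n24318 := rfl
theorem F49152 : act 2 n24318 = n20018 := d6_2 D19976 D24318 F37823 F37502 (iv F37635)
theorem F49153 : act 3 n24318 = n23584 := d7_2 (iv F37742) D24318 (iv D23584)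
theorem F49154 : act 5 n24318 = n20017 := d9_2 F42708 D24318 F37821 D20032 F42709
def n24319 : Q := act 3 n19980
theorem D24319 : act 3 n19980 = n24319 := rfl
theorem F49155 : act 0 n24319 = n20684 := d2_1 D24319 F39250 (iv F37755)
theorem F49156 : act 1 n24319 = n19981 := d7_1 D24319 (iv D19981) D19980
theorem F49157 : act 2 n23047 = n24319 := d6_0 F49156 F47069 (iv D23025) (iv F33351) D23047
def n24320 : Q := act 5 n19980
theorem D24320 : act 5 n19980 = n24320 := rfl
theorem F49158 : act 0 n24320 = n20685 := d4_1 D24320 (iv D20685) (iv F37755)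
theorem F49159 : act 1 n24320 = n20478 := d9_1 D24320 (iv F39143) F39142 (iv D19982) D19980
theorem F49160 : act 2 n24320 = n19986 := d13_1 D24320 (iv D19986) (iv F37756)
def n24321 : Q := act 4 n19981
theorem D24321 : act 4 n19981 = n24321 := rfl
theorem F49161 : act 0 n24321 = n20698 := d3_1 D24321 F39275 (iv F37757)
def n24322 : Q := act 6 n19981
theorem D24322 : act 6 n19981 = n24322 := rfl
theorem F49162 : act 0 n24322 = n20703 := d5_1 D24322 (iv D20703) (iv F37757)
theorem F49163 : act 3 n24322 = n19983 := d17_1 D24322 (iv D19983) D19981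
theorem F49164 : act 5 n24322 = n23658 := d22_2 F47237 D24322 (iv D23658) D23656
theorem F49165 : act 1 n23640 = n24322 := d7_3 F49163 F42872 (iv F47184)
def n24323 : Q := act 1 n19984
theorem D24323 : act 1 n19984 = n24323 := rfl
theorem F49166 : act 0 n24323 = n20056 := d0_1 D24323 (iv D20056) (iv D14821) (iv D11434) F13652 (iv F13622) (iv F20200) D14758 D19984
theorem F49167 : act 2 n24323 = n20067 := d6_2 (iv F37762) D24323 (iv D20067) F25788 D15345
def n24324 : Q := act 3 n19984
theorem D24324 : act 3 n19984 = n24324 := rfl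
theorem F49168 : act 0 n24324 = n19985 := d2_1 D24324 (iv D19985) D19984
def n24325 : Q := act 5 n19984
theorem D24325 : act 5 n19984 = n24325 := rfl
theorem F49169 : act 0 n24325 = n19986 := d4_1 D24325 (iv D19986) D19984
theorem F49170 : act 2 n24325 = n20685 := d13_1 D24325 (iv D20685) (iv F37762)
def n24326 : Q := act 6 n19984
theorem D24326 : act 6 n19984 = n24326 := rfl
theorem F49171 : act 0 n24326 = n19987 := d5_1 D24326 (iv D19987) D19984
theorem F49172 : act 2 n24326 = n20686 := d14_1 D24326 (iv D20686) (iv F37762)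
theorem F49173 : act 1 n22408 = n24326 := d6_5 F49172 (iv F49076) (iv D24291) F42897 (iv F43840)
def n24327 : Q := act 2 n19985
theorem D24327 : act 2 n19985 = n24327 := rfl
theorem F49174 : act 1 n24327 = n22203 := d6_1 D24327 F43281 (iv F43340) (iv D19988) (iv F37763)
theorem F49175 : act 3 n24327 = n19986 := d21_7 F49170 (iv F45715) F49157 (iv D24319) F37756 D19985 D24327 (iv F49169)
theorem F49176 : act 5 n19985 = n24327 := d16_0 F49175 (iv D19986) D19985
def n24328 : Q := act 4 n19985
theorem D24328 : act 4 n19985 = n24328 := rfl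
theorem F49177 : act 1 n24328 = n19989 := d8_1 D24328 (iv D19989) (iv F37763)
def n24329 : Q := act 6 n19985
theorem D24329 : act 6 n19985 = n24329 := rfl
theorem F49178 : act 1 n24329 = n20040 := d10_1 D24329 (iv F49123) F49122 F37734 (iv F37763)
theorem F49179 : act 3 n24329 = n19987 := d17_1 D24329 (iv D19987) D19985
theorem F49180 : act 5 n24329 = n20023 := d24_1 D24329 (iv D20023) (iv F25757) (iv D14814) F20223 (iv D11430) (iv F20218) (iv F22376) D17267 F30297 (iv F39638) (iv F37769) (iv D19990) (iv F37763)
def n24330 : Q := act 6 n19986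
theorem D24330 : act 6 n19986 = n24330 := rfl
theorem F49181 : act 5 n24330 = n24326 := d22_2 D19986 D24330 (iv D24326) (iv D19984)
def n24331 : Q := act 5 n19987
theorem D24331 : act 5 n19987 = n24331 := rfl
theorem F49182 : act 0 n24331 = n24330 := d4_1 D24331 F49181 F49171
theorem F49183 : act 1 n24331 = n20024 := d9_1 D24331 F37830 (iv F37860) (iv F49126) F49124
theorem F49184 : act 3 n24331 = n20023 := d16_1 D24331 (iv F49180) F49179
theorem F49185 : act 6 n24331 = n24325 := d20_2 D19987 D24331 (iv D24325) D24326 (iv F49181) (iv D24330) (iv D19986)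
def n24332 : Q := act 4 n19988
theorem D24332 : act 4 n19988 = n24332 := rfl
theorem F49186 : act 0 n24332 = n19994 := d3_1 D24332 (iv D19994) (iv F37764)
theorem F49187 : act 1 n24332 = n21605 := d8_1 D24332 F41832 (iv F43340)
theorem F49188 : act 2 n24332 = n19989 := d12_1 D24332 (iv D19989) D19988
def n24333 : Q := act 5 n19989
theorem D24333 : act 5 n19989 = n24333 := rfl
theorem F49189 : act 0 n24333 = n19996 := d4_1 D24333 (iv D19996) (iv F37766)
theorem F49190 : act 4 n24333 = n19990 := d18_1 D24333 (iv D19990) D19989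
theorem F49191 : act 6 n24333 = n24317 := d22_1 D24333 (iv D24317) F37736 (iv F37766)
def n24334 : Q := act 0 n19992
theorem D24334 : act 0 n19992 = n24334 := rfl
theorem F49192 : act 1 n24334 = n20608 := d0_2 D19992 D24334 F39108 F26590 (iv F38908) F38909 F29819 (iv F43340) F37764
theorem F49193 : act 2 n24334 = n20063 := d1_2 (iv F37775) D24334 (iv D20063)
theorem F49194 : act 5 n24334 = n20677 := d4_2 (iv F43969) D24334 (iv D20677)
theorem F49195 : act 3 n23664 = n24334 := d21_7 F37775 (iv F32937) F24693 D14272 D19475 D23821 (iv F47740) (iv D24334)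
theorem F49196 : act 6 n22456 = n24334 := d22_3 F43969 (iv F30140) D22456 (iv D24334)
def n24335 : Q := act 3 n19992
theorem D24335 : act 3 n19992 = n24335 := rfl
theorem F49197 : act 0 n24335 = n23664 := d2_1 D24335 F49195 (iv D24334)
theorem F49198 : act 1 n24335 = n19993 := d7_1 D24335 (iv D19993) D19992
theorem F49199 : act 5 n24335 = n20673 := d16_2 (iv F43969) D24335 F39236
def n24336 : Q := act 4 n19992
theorem D24336 : act 4 n19992 = n24336 := rfl
theorem F49200 : act 1 n24336 = n19994 := d8_1 D24336 (iv D19994) D19992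
theorem F49201 : act 2 n24336 = n20064 := d12_1 D24336 (iv D20064) (iv F37775)
theorem F49202 : act 5 n24336 = n20387 := d18_2 (iv F43969) D24336 F38685
def n24337 : Q := act 6 n19992
theorem D24337 : act 6 n19992 = n24337 := rfl
theorem F49203 : act 0 n24337 = n22456 := d5_1 D24337 F49196 (iv D24334)
theorem F49204 : act 1 n24337 = n24302 := d10_1 D24337 (iv D24302) (iv F44050) F37735 D19992
theorem F49205 : act 2 n24337 = n20066 := d14_1 D24337 (iv D20066) (iv F37775)
theorem F49206 : act 5 n24337 = n22454 := d20_1 D24337 F43944 (iv F49194) (iv F49196) (iv D22456) F30140 (iv F43969)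
def n24338 : Q := act 4 n19993
theorem D24338 : act 4 n19993 = n24338 := rfl
theorem F49207 : act 0 n24338 = n24265 := d3_1 D24338 (iv D24265) (iv F37776)
theorem F49208 : act 2 n24338 = n24262 := d12_1 D24338 (iv D24262) (iv F37777)
def n24339 : Q := act 3 n19994
theorem D24339 : act 3 n19994 = n24339 := rfl
def n24340 : Q := act 6 n19996
theorem D24340 : act 6 n19996 = n24340 := rfl
theorem F49209 : act 0 n24340 = n24317 := d5_1 D24340 (iv F49191) F49189
theorem F49210 : act 4 n24340 = n19997 := d19_1 D24340 (iv D19997) (iv F37781)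
theorem F49211 : act 5 n24340 = n24313 := d20_1 D24340 F49136 D24333 F49191 (iv D24317) F37736 D19996
def n24341 : Q := act 0 n19998
theorem D24341 : act 0 n19998 = n24341 := rfl
theorem F49212 : act 6 n24341 = n24341 := d5_2 F37785 D24341 (iv D24341)
def n24342 : Q := act 2 n19998
theorem D24342 : act 2 n19998 = n24342 := rfl
theorem F49213 : act 1 n24342 = n20000 := d6_1 D24342 (iv D20000) (iv D14766) (iv F25711) D19998
theorem F49214 : act 6 n24342 = n24342 := d14_2 F37785 D24342 (iv D24342)
def n24343 : Q := act 5 n19998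
theorem D24343 : act 5 n19998 = n24343 := rfl
theorem F49215 : act 1 n24343 = n24310 := d9_1 D24343 (iv D24310) (iv D19969) (iv F25712) D19998
def n24344 : Q := act 5 n20000
theorem D24344 : act 5 n20000 = n24344 := rfl
theorem F49216 : act 0 n24344 = n21005 := d4_1 D24344 F43155 (iv F43154)
theorem F49217 : act 2 n24344 = n20001 := d13_1 D24344 (iv D20001) D20000
theorem F49218 : act 3 n24344 = n21004 := d16_1 D24344 F40560 F40559
theorem F49219 : act 6 n24344 = n22195 := d20_2 (iv F37789) D24344 (iv D22195) (iv F43153) (iv F43155) (iv F48252) (iv D23966)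
def n24345 : Q := act 0 n20002
theorem D24345 : act 0 n20002 = n24345 := rfl
theorem F49220 : act 1 n24345 = n22411 := d0_2 D20002 D24345 F43847 F30313 F29338 (iv F29831) (iv F33322) F33323 F30246
theorem F49221 : act 3 n24345 = n22977 := d2_2 (iv F37792) D24345 (iv D22977)
theorem F49222 : act 5 n24345 = n22414 := d4_2 (iv F37793) D24345 F43853
theorem F49223 : act 6 n20625 = n24345 := d22_3 F37793 F46836 F46835 (iv D24345)
def n24346 : Q := act 6 n20002
theorem D24346 : act 6 n20002 = n24346 := rfl
theorem F49224 : act 0 n24346 = n20625 := d5_1 D24346 F49223 (iv D24345)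
theorem F49225 : act 1 n24346 = n20639 := d10_1 D24346 F45633 (iv D23021) (iv F34525) D20002
theorem F49226 : act 2 n24346 = n24345 := d14_1 D24346 (iv F49223) F39132
theorem F49227 : act 3 n24346 = n22979 := d17_1 D24346 (iv D22979) (iv F37792)
def n24347 : Q := act 3 n20004
theorem D24347 : act 3 n20004 = n24347 := rfl
theorem F49228 : act 0 n24347 = n20011 := d2_1 D24347 (iv D20011) (iv F37797)
theorem F49229 : act 1 n24347 = n23141 := d7_1 D24347 (iv D23141) (iv F37798)
theorem F49230 : act 4 n24347 = n23062 := d15_2 D20004 D24347 F45761 F33494 F34443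
theorem F49231 : act 6 n24347 = n22747 := d17_2 (iv F37800) D24347 F44797
def n24348 : Q := act 2 n20006
theorem D24348 : act 2 n20006 = n24348 := rfl
theorem F49232 : act 0 n24348 = n20007 := d1_1 D24348 (iv D20007) D20006
theorem F49233 : act 5 n24348 = n20731 := d13_2 F47129 D24348 (iv F47127)
theorem F49234 : act 3 n24348 = n23602 := d21_1 D24348 F47092 F47089 (iv F49152) F49153 F47033 F35818 D20006
theorem F49235 : act 1 n24348 = n20739 := d23_2 F47129 D24348 F43408 F43407 F37853 (iv D14807) F20219 (iv F20218) (iv D11423) (iv D9108) (iv F13625) (iv D9105) D9104 D11414 F34554 D13885 (iv F24456) D19206 D23618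
theorem F49236 : act 6 n24348 = n23598 := d24_3 (iv D20740) D20739 (iv F49235) F47080 (iv D19194) F24450 (iv D13885) F34520 (iv F34527) D13578 D18611 (iv F42971) (iv F43100) (iv F43102)
def n24349 : Q := act 6 n20006
theorem D24349 : act 6 n20006 = n24349 := rfl
theorem F49237 : act 0 n24349 = n20008 := d5_1 D24349 (iv D20008) D20006
theorem F49238 : act 1 n24349 = n20757 := d10_1 D24349 F39392 F43401 (iv F43428) (iv F43429)
theorem F49239 : act 2 n24349 = n23598 := d14_1 D24349 (iv F49236) (iv D24348)
theorem F49240 : act 3 n24349 = n23623 := d17_1 D24349 (iv F47147) F47146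
theorem F49241 : act 5 n24349 = n23607 := d22_2 F47129 D24349 (iv F47099) D23618
def n24350 : Q := act 5 n20008
theorem D24350 : act 5 n20008 = n24350 := rfl
theorem F49242 : act 0 n24350 = n23607 := d4_1 D24350 (iv F49241) F49237
theorem F49243 : act 2 n24350 = n23606 := d13_1 D24350 F47095 F43786
theorem F49244 : act 3 n24350 = n23621 := d16_1 D24350 (iv F47150) F47149
theorem F49245 : act 6 n24350 = n23618 := d20_2 D20008 D24350 F47129 D24349 F49241 (iv F47099) F35808
theorem F49246 : act 1 n20732 = n24350 := d0_0 F49242 F47097 (iv F36047) F44096 (iv D20734) (iv D15398) F20788 D15397 D20732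
def n24351 : Q := act 2 n20009
theorem D24351 : act 2 n20009 = n24351 := rfl
theorem F49247 : act 3 n24351 = n21018 := d21_1 D24351 F40473 F40051 (iv F37646) F37647 F26618 (iv F39122) (iv F39124)
theorem F49248 : act 6 n21017 = n24351 := d17_0 F49247 (iv D21018) (iv F40471)
def n24352 : Q := act 4 n20009
theorem D24352 : act 4 n20009 = n24352 := rfl
theorem F49249 : act 0 n24352 = n23479 := d3_1 D24352 F46750 (iv F39124)
def n24353 : Q := act 6 n20009
theorem D24353 : act 6 n20009 = n24353 := rfl
theorem F49250 : act 0 n24353 = n23718 := d5_1 D24353 F47398 (iv F39124)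
theorem F49251 : act 2 n24353 = n21017 := d14_1 D24353 F49248 (iv D24351)
theorem F49252 : act 3 n24353 = n20010 := d17_1 D24353 (iv D20010) D20009
theorem F49253 : act 5 n24353 = n20624 := d22_2 F39129 D24353 (iv D20624) D20622
def n24354 : Q := act 2 n20011
theorem D24354 : act 2 n20011 = n24354 := rfl
theorem F49254 : act 4 n24354 = n23063 := d12_2 (iv F37809) D24354 (iv D23063)
theorem F49255 : act 6 n24354 = n22748 := d14_2 (iv F37810) D24354 (iv D22748)
def n24355 : Q := act 5 n20011
theorem D24355 : act 5 n20011 = n24355 := rfl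
theorem F49256 : act 3 n24355 = n20012 := d16_1 D24355 (iv D20012) D20011
theorem F49257 : act 4 n24355 = n23064 := d18_1 D24355 (iv D23064) (iv F37809)
def n24356 : Q := act 1 n20012
theorem D24356 : act 1 n20012 = n24356 := rfl
theorem F49258 : act 0 n24356 = n23133 := d0_1 D24356 (iv D23133) (iv D18756) (iv D13684) (iv F19294) D13727 D18843 F44822 F44818
theorem F49259 : act 4 n24356 = n20013 := d8_2 (iv F37812) D24356 (iv D20013)
theorem F49260 : act 5 n24356 = n22743 := d9_2 D20012 D24356 (iv D22743) (iv D18182) (iv F34380)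
theorem F49261 : act 6 n24356 = n23312 := d10_2 F44817 D24356 F46370 D23327 (iv F46412)
def n24357 : Q := act 1 n20014
theorem D24357 : act 1 n20014 = n24357 := rfl
theorem F49262 : act 4 n24357 = n20015 := d8_2 (iv F37818) D24357 (iv D20015)
def n24358 : Q := act 1 n20016
theorem D24358 : act 1 n20016 = n24358 := rfl
def n24359 : Q := act 2 n20016
theorem D24359 : act 2 n20016 = n24359 := rfl
theorem F49263 : act 0 n24359 = n20017 := d1_1 D24359 (iv D20017) D20016
theorem F49264 : act 3 n24359 = n23625 := d11_2 F47112 D24359 (iv D23625) (iv F47128) F47127 (iv F47107) F47106 F37820 D20017 (iv F37822) (iv D19212) (iv F35807) (iv F47102) F47103 (iv F47111)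
theorem F49265 : act 1 n22523 = n24359 := d23_2 D17265 (iv F44113) F49263 (iv F49154) F49152 F37823 (iv F47081) F47084 (iv D19578) (iv D14374) F19921 D11611 F20586 D11617 (iv F22230) (iv F22294) D16674 (iv F39630) F30280
theorem E10342 : n24358 = n20025 := (c6_4 (iv F44113) F49265 (iv D24359) D24358 (iv D20025) (iv F30293))
theorem F49266 : act 1 n20025 = n20016 := (sb E10342 (iv D24358))
def n24360 : Q := act 5 n20016
theorem D24360 : act 5 n20016 = n24360 := rfl
theorem F49267 : act 0 n24360 = n20018 := d4_1 D24360 (iv D20018) D20016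
theorem F49268 : act 6 n24360 = n22555 := d22_1 D24360 (iv D22555) F30325 D20016
def n24361 : Q := act 6 n20018
theorem D24361 : act 6 n20018 = n24361 := rfl
theorem F49269 : act 0 n24361 = n22555 := d5_1 D24361 (iv F49268) F49267
theorem F49270 : act 1 n24361 = n22443 := d10_1 D24361 (iv D22443) F39397 (iv F37504) (iv F37823)
theorem F49271 : act 3 n24361 = n23601 := d17_1 D24361 (iv F47091) F47089
theorem F49272 : act 5 n24361 = n22553 := d20_1 D24361 F44177 D24360 F49268 (iv D22555) F30325 D20018
def n24362 : Q := act 1 n20020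
theorem D24362 : act 1 n20020 = n24362 := rfl
theorem F49273 : act 2 n24362 = n20023 := d6_2 D20020 D24362 (iv D20023) (iv D14796) D14795
theorem F49274 : act 3 n24362 = n24326 := d7_2 F43841 D24362 (iv F49173)
theorem F49275 : act 0 n24329 = n24362 := d2_3 F49274 F49171 (iv F49179)
theorem F49276 : act 6 n24324 = n24362 := d17_0 F49274 (iv D24326) D24324
def n24363 : Q := act 5 n20020
theorem D24363 : act 5 n20020 = n24363 := rfl
theorem F49277 : act 2 n24363 = n20021 := d13_1 D24363 (iv D20021) D20020
def n24364 : Q := act 6 n20020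
theorem D24364 : act 6 n20020 = n24364 := rfl
theorem F49278 : act 0 n24364 = n20481 := d5_1 D24364 (iv F43265) (iv F43266)
theorem F49279 : act 2 n24364 = n20022 := d14_1 D24364 (iv D20022) D20020
theorem F49280 : act 3 n24364 = n22061 := d17_1 D24364 (iv F43842) F43841
theorem F49281 : act 5 n22060 = n24364 := d16_0 F49280 (iv D22061) D22060
def n24365 : Q := act 0 n20023
theorem D24365 : act 0 n20023 = n24365 := rfl
theorem F49282 : act 1 n24365 = n22272 := d0_2 D20023 D24365 F43410 F29890 (iv F29891) (iv F30283) F30281 F22376 (iv F25741)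
theorem F49283 : act 2 n24365 = n24329 := d1_2 F49273 D24365 F49275
theorem F49284 : act 3 n24365 = n24330 := d2_2 F49184 D24365 (iv F49182)
theorem F49285 : act 5 n24365 = n24362 := d4_2 F49180 D24365 (iv F49275)
theorem F49286 : act 6 n24327 = n24365 := d22_3 (iv F49180) (iv D24329) F49176 (iv D24365)
def n24366 : Q := act 6 n20023
theorem D24366 : act 6 n20023 = n24366 := rfl
theorem F49287 : act 0 n24366 = n24327 := d5_1 D24366 F49286 (iv D24365)
theorem F49288 : act 2 n24366 = n24324 := d14_1 D24366 F49276 F49273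
theorem F49289 : act 3 n24366 = n24325 := d17_1 D24366 (iv F49185) F49184
theorem F49290 : act 5 n24366 = n24324 := d20_1 D24366 F49276 (iv F49285) (iv F49286) (iv F49176) D24329 F49180
def n24367 : Q := act 2 n20024
theorem D24367 : act 2 n20024 = n24367 := rfl
theorem F49291 : act 0 n24367 = n20025 := d1_1 D24367 (iv D20025) (iv F37829)
theorem F49292 : act 5 n24367 = n20042 := d13_2 (iv F37830) D24367 (iv D20042)
theorem F49293 : act 6 n24367 = n20711 := d14_2 F37881 D24367 F39581
theorem F49294 : act 3 n24367 = n23016 := d21_1 D24367 (iv F45610) (iv D19934) (iv D14709) F20181 D11423 D14797 (iv F37829)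
theorem F49295 : act 1 n24367 = n22421 := d23_2 (iv F37830) D24367 (iv F43877) F43881 F34917 (iv D16857) F22045 D12549 F22049 D12550 D16862 F29747 D16864 F39565 F22492 F22379 (iv D11442) (iv F20222) (iv F25748)
def n24368 : Q := act 4 n20024
theorem D24368 : act 4 n20024 = n24368 := rfl
theorem F49296 : act 0 n24368 = n20026 := d3_1 D24368 (iv D20026) (iv F37829)
theorem F49297 : act 5 n24368 = n20043 := d18_2 (iv F37830) D24368 (iv D20043)
def n24369 : Q := act 3 n20025
theorem D24369 : act 3 n20025 = n24369 := rfl
theorem F49298 : act 0 n24369 = n23016 := d2_1 D24369 (iv F49294) F49291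
theorem F49299 : act 1 n24369 = n23611 := d7_1 D24369 F47112 (iv F49266)
theorem F49300 : act 2 n24369 = n24272 := d11_1 D24369 (iv D24272) (iv D19933) F25654 D14796 D20024 D24367 F49294 (iv F45610) (iv D19934) (iv D14709) F20181 D11423 D14797 D20025
theorem F49301 : act 5 n24369 = n20047 := d16_2 (iv F37831) D24369 (iv D20047)
theorem F49302 : act 6 n23614 = n24369 := d20_0 F49301 (iv F39577) F39319 (iv F45609) F45608 D24285 F49054
def n24370 : Q := act 4 n20025
theorem D24370 : act 4 n20025 = n24370 := rfl
theorem F49303 : act 1 n24370 = n24106 := d8_1 D24370 F48621 (iv F49266)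
theorem F49304 : act 2 n24370 = n20026 := d12_1 D24370 (iv D20026) D20025
theorem F49305 : act 5 n24370 = n20048 := d18_2 (iv F37831) D24370 (iv D20048)
def n24371 : Q := act 6 n20025
theorem D24371 : act 6 n20025 = n24371 := rfl
theorem F49306 : act 0 n24371 = n20711 := d5_1 D24371 (iv F49293) F49291
theorem F49307 : act 1 n24371 = n22483 := d10_1 D24371 F44017 (iv F44176) F44177 (iv F49266)
theorem F49308 : act 2 n24371 = n20027 := d14_1 D24371 (iv D20027) D20025
theorem F49309 : act 3 n24371 = n23614 := d17_1 D24371 F49302 (iv D24369)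
theorem F49310 : act 5 n24371 = n20717 := d20_1 D24371 F39576 (iv F49292) F49293 F39306 (iv F39573) (iv F37831)
def n24372 : Q := act 6 n20026
theorem D24372 : act 6 n20026 = n24372 := rfl
theorem F49311 : act 4 n24372 = n20027 := d19_1 D24372 (iv D20027) D20026
theorem F49312 : act 1 n21807 = n24372 := d24_14 (iv D24372) F37832 F25752 F20244 (iv F22380) (iv F30292) D22525 (iv F44119) (iv D21518) (iv F38387) (iv F41582) (iv F42287) (iv D21808) D21807
def n24373 : Q := act 3 n20034
theorem D24373 : act 3 n20034 = n24373 := rfl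
theorem F49313 : act 0 n24373 = n20738 := d2_1 D24373 F39356 (iv F37852)
theorem F49314 : act 1 n24373 = n20035 := d7_1 D24373 (iv D20035) D20034
theorem F49315 : act 2 n23051 = n24373 := d6_0 F49314 F46892 (iv D23000) (iv F33387) D23051
def n24374 : Q := act 6 n20034
theorem D24374 : act 6 n20034 = n24374 := rfl
theorem F49316 : act 0 n24374 = n20740 := d5_1 D24374 (iv D20740) (iv F37852)
theorem F49317 : act 1 n24374 = n20480 := d10_1 D24374 (iv F39066) F39064 (iv D20037) D20034
theorem F49318 : act 2 n24374 = n20041 := d14_1 D24374 (iv D20041) (iv F37853)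
def n24375 : Q := act 4 n20035
theorem D24375 : act 4 n20035 = n24375 := rfl
theorem F49319 : act 0 n24375 = n20752 := d3_1 D24375 F39383 (iv F37854)
def n24376 : Q := act 5 n20035
theorem D24376 : act 5 n20035 = n24376 := rfl
theorem F49320 : act 0 n24376 = n20755 := d4_1 D24376 (iv D20755) (iv F37854)
theorem F49321 : act 3 n24376 = n20036 := d16_1 D24376 (iv D20036) D20035
theorem F49322 : act 6 n24376 = n23710 := d22_1 D24376 (iv D23710) F36059 (iv F37854)
theorem F49323 : act 1 n23693 = n24376 := d7_3 F49321 F43401 (iv F47321)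
def n24377 : Q := act 1 n20038
theorem D24377 : act 1 n20038 = n24377 := rfl
theorem F49324 : act 0 n24377 = n20067 := d0_1 D24377 (iv D20067) (iv D14833) (iv D11440) F13676 (iv F13632) (iv F20219) D14807 D20038
theorem F49325 : act 2 n24377 = n20056 := d6_2 (iv F37859) D24377 (iv D20056) F25769 D15403
def n24378 : Q := act 3 n20038
theorem D24378 : act 3 n20038 = n24378 := rfl
theorem F49326 : act 0 n24378 = n20039 := d2_1 D24378 (iv D20039) D20038
theorem F49327 : act 5 n24305 = n24378 := d4_0 F49326 (iv F49126) F49128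
theorem F49328 : act 6 n24310 = n24378 := d22_3 (iv F49126) (iv D24311) D24310 F49326
theorem F49329 : act 2 n24378 = n24310 := d13_1 F49327 (iv D24310) (iv F49115)
def n24379 : Q := act 5 n20038
theorem D24379 : act 5 n20038 = n24379 := rfl
theorem F49330 : act 0 n24379 = n20040 := d4_1 D24379 (iv D20040) D20038
theorem F49331 : act 2 n24379 = n20739 := d13_1 D24379 (iv D20739) (iv F37859)
theorem F49332 : act 3 n24379 = n24305 := d16_1 D24379 F49327 (iv D24378)
theorem F49333 : act 1 n22206 = n24379 := d7_3 F49332 (iv D24305) (iv F43290)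
def n24380 : Q := act 6 n20038
theorem D24380 : act 6 n20038 = n24380 := rfl
theorem F49334 : act 0 n24380 = n20041 := d5_1 D24380 (iv D20041) D20038
theorem F49335 : act 2 n24380 = n20740 := d14_1 D24380 (iv D20740) (iv F37859)
theorem F49336 : act 3 n24380 = n24310 := d17_1 D24380 F49328 (iv D24378)
theorem F49337 : act 5 n24380 = n24309 := d22_2 (iv D24379) D24380 F49123 (iv F49330)
def n24381 : Q := act 2 n20039
theorem D24381 : act 2 n20039 = n24381 := rfl
theorem F49338 : act 0 n24381 = n24310 := d1_1 D24381 (iv F49329) F49326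
theorem F49339 : act 1 n24381 = n22157 := d6_1 D24381 (iv F43166) F43167 (iv D20042) (iv F37860)
theorem F49340 : act 5 n24381 = n24308 := d13_2 F49126 D24381 F49127
theorem F49341 : act 3 n24381 = n20041 := d21_7 F49335 (iv F45727) F49315 (iv D24373) F37853 D20039 D24381 (iv F49334)
theorem F49342 : act 6 n20039 = n24381 := d17_0 F49341 (iv D20041) D20039
def n24382 : Q := act 4 n20039
theorem D24382 : act 4 n20039 = n24382 := rfl
theorem F49343 : act 1 n24382 = n20043 := d8_1 D24382 (iv D20043) (iv F37860)
def n24383 : Q := act 5 n20041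
theorem D24383 : act 5 n20041 = n24383 := rfl
theorem F49344 : act 0 n24383 = n24309 := d4_1 D24383 (iv F49337) F49334
theorem F49345 : act 3 n24383 = n24308 := d16_1 D24383 (iv F49340) F49341
theorem F49346 : act 6 n24383 = n24379 := d20_2 D20041 D24383 (iv D24379) D24380 F49337 F49123 (iv D20040)
def n24384 : Q := act 4 n20042
theorem D24384 : act 4 n20042 = n24384 := rfl
theorem F49347 : act 0 n24384 = n20048 := d3_1 D24384 (iv D20048) (iv F37861)
theorem F49348 : act 1 n24384 = n21765 := d8_1 D24384 F42184 F43167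
theorem F49349 : act 2 n24384 = n20043 := d12_1 D24384 (iv D20043) D20042
def n24385 : Q := act 6 n20043
theorem D24385 : act 6 n20043 = n24385 := rfl
theorem F49350 : act 0 n24385 = n20050 := d5_1 D24385 (iv D20050) (iv F37863)
theorem F49351 : act 4 n24385 = n20044 := d19_1 D24385 (iv D20044) D20043
theorem F49352 : act 5 n24385 = n24372 := d22_2 F49297 D24385 (iv D24372) (iv F49296)
def n24386 : Q := act 0 n20046
theorem D24386 : act 0 n20046 = n24386 := rfl
theorem F49353 : act 1 n24386 = n20646 := d0_2 D20046 D24386 F39185 F26664 (iv F38987) F38988 (iv F30077) F43167 F37861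
theorem F49354 : act 2 n24386 = n20070 := d1_2 (iv F37872) D24386 (iv D20070)
theorem F49355 : act 6 n24386 = n20734 := d5_2 (iv F39574) D24386 (iv D20734)
theorem F49356 : act 5 n24386 = n22515 := d22_0 (iv D22515) F30267 (iv F39574) D24386
theorem F49357 : act 3 n23716 = n24386 := d21_7 F37872 (iv F32647) F24802 D14321 D19517 D23842 (iv F47828) (iv D24386)
def n24387 : Q := act 3 n20046
theorem D24387 : act 3 n20046 = n24387 := rfl
theorem F49358 : act 0 n24387 = n23716 := d2_1 D24387 F49357 (iv D24386)
theorem F49359 : act 1 n24387 = n20047 := d7_1 D24387 (iv D20047) D20046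
theorem F49360 : act 6 n24387 = n20730 := d17_2 (iv F39574) D24387 F39351
def n24388 : Q := act 4 n20046
theorem D24388 : act 4 n20046 = n24388 := rfl
theorem F49361 : act 1 n24388 = n20048 := d8_1 D24388 (iv D20048) D20046
theorem F49362 : act 2 n24388 = n20071 := d12_1 D24388 (iv D20071) (iv F37872)
theorem F49363 : act 6 n24388 = n20425 := d19_2 (iv F39574) D24388 F38753
def n24389 : Q := act 5 n20046
theorem D24389 : act 5 n20046 = n24389 := rfl
theorem F49364 : act 0 n24389 = n22515 := d4_1 D24389 (iv F49356) (iv D24386)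
theorem F49365 : act 1 n24389 = n24360 := d9_1 D24389 (iv D24360) (iv F49266) F37831 D20046
theorem F49366 : act 2 n24389 = n20072 := d13_1 D24389 (iv D20072) (iv F37872)
theorem F49367 : act 6 n24389 = n22513 := d20_2 (iv F39574) D24389 F44090 (iv F49355) F49356 (iv D22515) F30267
def n24390 : Q := act 4 n20047
theorem D24390 : act 4 n20047 = n24390 := rfl
theorem F49368 : act 0 n24390 = n24284 := d3_1 D24390 (iv D24284) (iv F37873)
theorem F49369 : act 2 n24390 = n24281 := d12_1 D24390 (iv D24281) (iv F37874)
def n24391 : Q := act 3 n20048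
theorem D24391 : act 3 n20048 = n24391 := rfl
def n24392 : Q := act 5 n20050
theorem D24392 : act 5 n20050 = n24392 := rfl
theorem F49370 : act 0 n24392 = n24372 := d4_1 D24392 (iv F49352) F49350
theorem F49371 : act 4 n24392 = n20051 := d18_1 D24392 (iv D20051) (iv F37878)
theorem F49372 : act 6 n24392 = n24368 := d20_2 D20050 D24392 F49297 D24385 F49352 (iv D24372) F37832
def n24393 : Q := act 0 n20052
theorem D24393 : act 0 n20052 = n24393 := rfl
theorem F49373 : act 5 n24393 = n24393 := d4_2 F37882 D24393 (iv D24393)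
def n24394 : Q := act 2 n20052
theorem D24394 : act 2 n20052 = n24394 := rfl
theorem F49374 : act 1 n24394 = n20054 := d6_1 D24394 (iv D20054) (iv D14815) (iv F25756) D20052
theorem F49375 : act 5 n24394 = n24394 := d13_2 F37882 D24394 (iv D24394)
theorem F49376 : act 1 n23961 = n24393 := d23_18 F37882 D24394 F49374 F43712 F43711 F30046 (iv D16716) (iv F34717) (iv D14475) (iv F34709) (iv F21861) (iv D12404) D12406 (iv F29381) (iv F36963) (iv D19647) D19649 (iv F48233) (iv D24393)
def n24395 : Q := act 6 n20052
theorem D24395 : act 6 n20052 = n24395 := rfl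
theorem F49377 : act 1 n24395 = n24366 := d10_1 D24395 (iv D24366) (iv D20023) (iv F25757) D20052
def n24396 : Q := act 6 n20054
theorem D24396 : act 6 n20054 = n24396 := rfl
theorem F49378 : act 0 n24396 = n20921 := d5_1 D24396 F43713 (iv F43712)
theorem F49379 : act 2 n24396 = n20055 := d14_1 D24396 (iv D20055) D20054
theorem F49380 : act 3 n24396 = n20920 := d17_1 D24396 (iv F40632) F40631
theorem F49381 : act 5 n24396 = n22400 := d20_1 D24396 (iv D22400) (iv F43711) (iv F43713) (iv F48238) (iv D23962) (iv F37886)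
def n24397 : Q := act 3 n20056
theorem D24397 : act 3 n20056 = n24397 := rfl
theorem F49382 : act 1 n24397 = n20057 := d7_1 D24397 (iv D20057) D20056
def n24398 : Q := act 5 n20056
theorem D24398 : act 5 n20056 = n24398 := rfl
theorem F49383 : act 1 n24398 = n22365 := d24_2 F42997 D24398 (iv F43724) F43171 F43170 F39617 (iv D17101) (iv D12686) D12689 (iv F29361) (iv F42593) (iv F43003) (iv D22101) D22099
theorem F49384 : act 6 n22069 = n24398 := d24_0 (iv D24398) (iv D20056) D20059 F37897 F25789 F20242 (iv F22372) (iv F30272) F39563 (iv D16824) F22015 (iv F21990) D16794 D22069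
def n24399 : Q := act 1 n20058
theorem D24399 : act 1 n20058 = n24399 := rfl
theorem F49385 : act 2 n24399 = n22372 := d6_2 (iv F37893) D24399 (iv F47126) F47127 (iv D20731)
theorem F49386 : act 5 n24399 = n22365 := d9_2 D20058 D24399 (iv F49383) (iv D24398) (iv D20056)
theorem F49387 : act 0 n24399 = n22367 := d23_3 (iv F26759) (iv F37893) D24399 (iv D22367) F30018 (iv D12669) F18108 F8432 (iv D2682) (iv D1299) F1199 F1198 F1035 D551 D1095 D2244 (iv F7097) D9645 D11765
def n24400 : Q := act 1 n20062
theorem D24400 : act 1 n20062 = n24400 := rfl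
theorem F49388 : act 3 n24400 = n20067 := d7_2 (iv F37906) D24400 (iv D20067)
def n24401 : Q := act 1 n20063
theorem D24401 : act 1 n20063 = n24401 := rfl
theorem F49389 : act 3 n24401 = n23759 := d7_2 (iv F37908) D24401 F47525
def n24402 : Q := act 4 n20063
theorem D24402 : act 4 n20063 = n24402 := rfl
theorem F49390 : act 0 n24402 = n20064 := d3_1 D24402 (iv D20064) D20063
theorem F49391 : act 3 n24402 = n23761 := d15_1 D24402 (iv D23761) (iv D19379) D19380 (iv F37908)
def n24403 : Q := act 5 n20063
theorem D24403 : act 5 n20063 = n24403 := rfl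
theorem F49392 : act 0 n24403 = n20065 := d4_1 D24403 (iv D20065) D20063
theorem F49393 : act 2 n24403 = n20677 := d13_1 D24403 (iv F49194) F49193
theorem F49394 : act 3 n24403 = n23762 := d16_1 D24403 (iv D23762) (iv F37908)
def n24404 : Q := act 6 n20063
theorem D24404 : act 6 n20063 = n24404 := rfl
theorem F49395 : act 0 n24404 = n20066 := d5_1 D24404 (iv D20066) D20063
theorem F49396 : act 2 n24404 = n22456 := d14_1 D24404 F49196 F49193
theorem F49397 : act 3 n24404 = n23763 := d17_1 D24404 (iv D23763) (iv F37908)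
theorem F49398 : act 5 n24404 = n22455 := d22_2 (iv D24403) D24404 (iv F43971) (iv F49392)
theorem F49399 : act 1 n24224 = n24404 := d9_5 F49398 F43945 D22459 (iv F43952) (iv F48897)
def n24405 : Q := act 5 n20064
theorem D24405 : act 5 n20064 = n24405 := rfl
theorem F49400 : act 1 n24405 = n24405 := d9_1 D24405 (iv D24405) F37909 F25777 (iv F37909)
theorem F49401 : act 2 n24405 = n20387 := d13_1 D24405 (iv F49202) F49201
theorem F49402 : act 3 n24405 = n22767 := d16_1 D24405 (iv F44854) (iv F37910)
theorem F49403 : act 4 n24405 = n20065 := d18_1 D24405 (iv D20065) D20064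
theorem F49404 : act 6 n22772 = n24405 := d19_0 F49403 F43971 F44867
def n24406 : Q := act 6 n20064
theorem D24406 : act 6 n20064 = n24406 := rfl
theorem F49405 : act 3 n24406 = n23765 := d17_1 D24406 (iv D23765) (iv F37910)
theorem F49406 : act 4 n24406 = n20066 := d19_1 D24406 (iv D20066) D20064
def n24407 : Q := act 5 n20066
theorem D24407 : act 5 n20066 = n24407 := rfl
theorem F49407 : act 0 n24407 = n22455 := d4_1 D24407 (iv F49398) F49395
theorem F49408 : act 2 n24407 = n22454 := d13_1 D24407 (iv F49206) F49205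
theorem F49409 : act 3 n24407 = n23766 := d16_1 D24407 (iv D23766) (iv F37913)
theorem F49410 : act 6 n24407 = n24403 := d20_2 D20066 D24407 (iv D24403) D24404 F49398 (iv F43971) (iv D20065)
def n24408 : Q := act 6 n20067
theorem D24408 : act 6 n20067 = n24408 := rfl
theorem F49411 : act 5 n24408 = n22285 := d24_1 D24408 (iv D22285) (iv D16978) F22159 (iv F22189) D17016 (iv F39671) F30144 F22324 F20233 (iv F25770) D20061 (iv F37903) D20067
theorem F49412 : act 1 n22158 = n24408 := d24_14 (iv D24408) (iv F43549) (iv D22314) D22315 F43552 F42620 F29391 (iv D12578) D12576 D16907 F39623 (iv F43725) (iv F43727) (iv F43169)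
def n24409 : Q := act 1 n20068
theorem D24409 : act 1 n20068 = n24409 := rfl
theorem F49413 : act 2 n24409 = n22165 := d6_2 (iv F37915) D24409 (iv F46964) F46965 (iv D20680)
theorem F49414 : act 3 n24409 = n24399 := d7_2 (iv F37916) D24409 (iv D24399)
theorem F49415 : act 6 n24409 = n22158 := d10_2 D20068 D24409 F49412 (iv D24408) (iv D20067)
theorem F49416 : act 0 n22161 = n24409 := d5_3 F49415 (iv D22158) D22161
def n24410 : Q := act 1 n20070
theorem D24410 : act 1 n20070 = n24410 := rfl
theorem F49417 : act 3 n24410 = n23783 := d7_2 (iv F37920) D24410 F47602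
def n24411 : Q := act 4 n20070
theorem D24411 : act 4 n20070 = n24411 := rfl
theorem F49418 : act 0 n24411 = n20071 := d3_1 D24411 (iv D20071) D20070
theorem F49419 : act 3 n24411 = n23785 := d15_1 D24411 (iv D23785) (iv D19415) D19416 (iv F37920)
def n24412 : Q := act 5 n20070
theorem D24412 : act 5 n20070 = n24412 := rfl
theorem F49420 : act 0 n24412 = n20072 := d4_1 D24412 (iv D20072) D20070
theorem F49421 : act 2 n24412 = n22515 := d13_1 D24412 (iv F49356) F49354
theorem F49422 : act 3 n24412 = n23786 := d16_1 D24412 (iv D23786) (iv F37920)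
theorem F49423 : act 6 n24412 = n22514 := d22_1 D24412 F44092 (iv D20073) D20070
theorem F49424 : act 1 n24200 = n24412 := d10_5 F49423 F44091 D22518 (iv F44102) (iv F48839)
def n24413 : Q := act 6 n20070
theorem D24413 : act 6 n20070 = n24413 := rfl
theorem F49425 : act 0 n24413 = n20073 := d5_1 D24413 (iv D20073) D20070
theorem F49426 : act 2 n24413 = n20734 := d14_1 D24413 (iv F49355) F49354
theorem F49427 : act 3 n24413 = n23787 := d17_1 D24413 (iv D23787) (iv F37920)
def n24414 : Q := act 5 n20071
theorem D24414 : act 5 n20071 = n24414 := rfl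
theorem F49428 : act 3 n24414 = n23789 := d16_1 D24414 (iv D23789) (iv F37922)
theorem F49429 : act 4 n24414 = n20072 := d18_1 D24414 (iv D20072) D20071
def n24415 : Q := act 6 n20071
theorem D24415 : act 6 n20071 = n24415 := rfl
theorem F49430 : act 1 n24415 = n24415 := d10_1 D24415 (iv D24415) F37921 F25796 (iv F37921)
theorem F49431 : act 2 n24415 = n20425 := d14_1 D24415 (iv F49363) F49362
theorem F49432 : act 3 n24415 = n22776 := d17_1 D24415 (iv F44878) (iv F37922)
theorem F49433 : act 4 n24415 = n20073 := d19_1 D24415 (iv D20073) D20071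
theorem F49434 : act 5 n22781 = n24415 := d18_0 F49433 (iv F44092) F44891
def n24416 : Q := act 6 n20072
theorem D24416 : act 6 n20072 = n24416 := rfl
theorem F49435 : act 0 n24416 = n22514 := d5_1 D24416 (iv F49423) F49420
theorem F49436 : act 2 n24416 = n22513 := d14_1 D24416 (iv F49367) F49366
theorem F49437 : act 3 n24416 = n23790 := d17_1 D24416 (iv D23790) (iv F37923)
theorem F49438 : act 5 n24416 = n24413 := d20_1 D24416 (iv D24413) D24412 F49423 F44092 (iv D20073) D20072
def n24417 : Q := act 4 n20074
theorem D24417 : act 4 n20074 = n24417 := rfl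
theorem F49439 : act 0 n24417 = n20078 := d3_1 D24417 (iv D20078) (iv F37926)
theorem F49440 : act 1 n24417 = n23089 := d8_1 D24417 F45836 (iv F37927)
theorem F49441 : act 2 n24417 = n20075 := d12_1 D24417 (iv D20075) D20074
theorem F49442 : act 5 n24417 = n20491 := d18_2 (iv F37929) D24417 (iv D20491)
def n24418 : Q := act 6 n20075
theorem D24418 : act 6 n20075 = n24418 := rfl
theorem F49443 : act 0 n24418 = n20081 := d5_1 D24418 (iv D20081) (iv F37930)
theorem F49444 : act 3 n24418 = n23092 := d17_1 D24418 (iv D23092) (iv F37932)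
theorem F49445 : act 4 n24418 = n20076 := d19_1 D24418 (iv D20076) D20075
def n24419 : Q := act 3 n20078
theorem D24419 : act 3 n20078 = n24419 := rfl
theorem F49446 : act 1 n24419 = n22451 := d7_1 D24419 (iv D22451) (iv F37939)
theorem F49447 : act 5 n24419 = n22897 := d16_2 (iv F37941) D24419 (iv D22897)
def n24420 : Q := act 6 n20078
theorem D24420 : act 6 n20078 = n24420 := rfl
theorem F49448 : act 2 n24420 = n20081 := d14_1 D24420 (iv D20081) (iv F37940)
theorem F49449 : act 4 n24420 = n20079 := d19_1 D24420 (iv D20079) D20078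
def n24421 : Q := act 1 n20079
theorem D24421 : act 1 n20079 = n24421 := rfl
theorem F49450 : act 2 n24421 = n22175 := d6_2 (iv F37942) D24421 F43203 F29838 (iv F25805)
theorem F49451 : act 3 n24421 = n22147 := d7_2 F38904 D24421 F43125
theorem F49452 : act 6 n24421 = n22143 := d10_2 D20079 D24421 (iv D22143) F29741 (iv F25801)
def n24422 : Q := act 6 n20080
theorem D24422 : act 6 n20080 = n24422 := rfl
theorem F49453 : act 0 n24422 = n22830 := d5_1 D24422 (iv D22830) (iv F37943)
theorem F49454 : act 2 n24422 = n22898 := d14_1 D24422 (iv D22898) (iv F37945)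
theorem F49455 : act 3 n24422 = n23066 := d17_1 D24422 (iv D23066) (iv F37946)
theorem F49456 : act 4 n24422 = n20082 := d19_1 D24422 (iv D20082) (iv F37947)
theorem F49457 : act 5 n24422 = n24418 := d20_1 D24422 (iv D24418) F37933 D22830 F45071 (iv D20081) D20080
def n24423 : Q := act 0 n20083
theorem D24423 : act 0 n20083 = n24423 := rfl
def n24424 : Q := act 2 n20083
theorem D24424 : act 2 n20083 = n24424 := rfl
theorem F49458 : act 1 n24424 = n22110 := d6_1 D24424 F43024 F37554 F33406 D20083
theorem F49459 : act 4 n24424 = n24255 := d12_2 F47520 D24424 F48991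
theorem F49460 : act 3 n22109 = n24424 := d7_0 F49458 (iv D22110) D22109
theorem F49461 : act 6 n24210 = n24424 := d10_0 F49458 (iv F48955) (iv F48956) F48845 (iv F48865)
def n24425 : Q := act 3 n20083
theorem D24425 : act 3 n20083 = n24425 := rfl
theorem F49462 : act 1 n24425 = n20084 := d7_1 D24425 (iv D20084) D20083
def n24426 : Q := act 5 n20083
theorem D24426 : act 5 n20083 = n24426 := rfl
theorem F49463 : act 1 n24426 = n22581 := d9_1 D24426 (iv D22581) F37960 (iv D20085) D20083
def n24427 : Q := act 6 n20083
theorem D24427 : act 6 n20083 = n24427 := rfl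
theorem F49464 : act 2 n24427 = n24210 := d14_1 D24427 F49461 (iv D24424)
def n24428 : Q := act 2 n20084
theorem D24428 : act 2 n20084 = n24428 := rfl
theorem F49465 : act 0 n24428 = n20086 := d1_1 D24428 (iv D20086) (iv F37955)
theorem F49466 : act 3 n24428 = n23709 := d21_1 D24428 (iv D23709) F36058 F35193 F24559 F23912 D14861 (iv F37955)
theorem F49467 : act 5 n20681 = n24428 := d4_0 F49465 (iv F37962) D20681
theorem F49468 : act 1 n24428 = n22170 := d9_1 F49467 F43197 (iv F46964) (iv F49085) (iv F49086)
def n24429 : Q := act 4 n20084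
theorem D24429 : act 4 n20084 = n24429 := rfl
theorem F49469 : act 0 n24429 = n20087 := d3_1 D24429 (iv D20087) (iv F37955)
theorem F49470 : act 3 n24429 = n23683 := d15_1 D24429 (iv D23683) (iv F36222) F36223 D20084
def n24430 : Q := act 5 n20084
theorem D24430 : act 5 n20084 = n24430 := rfl
theorem F49471 : act 0 n24430 = n20088 := d4_1 D24430 (iv D20088) (iv F37955)
theorem F49472 : act 2 n24430 = n20681 := d13_1 D24430 F49467 (iv D24428)
theorem F49473 : act 3 n24430 = n20085 := d16_1 D24430 (iv D20085) D20084
theorem F49474 : act 6 n24430 = n22582 := d22_1 D24430 F44273 (iv D20089) (iv F37955)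
theorem F49475 : act 1 n22579 = n24430 := d10_5 F49474 (iv D22582) (iv D17328) (iv F30385) D22579
def n24431 : Q := act 3 n20086
theorem D24431 : act 3 n20086 = n24431 := rfl
theorem F49476 : act 0 n24431 = n23709 := d2_1 D24431 (iv F49466) F49465
theorem F49477 : act 1 n24431 = n20675 := d7_1 D24431 F39243 (iv F37961)
theorem F49478 : act 2 n24431 = n23708 := d11_1 D24431 F47373 F37858 (iv F35204) F33406 D20084 D24428 F49466 (iv D23709) F36058 F35193 F24559 F23912 D14861 D20086
theorem F49479 : act 5 n24431 = n20676 := d16_2 F37962 D24431 F39245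
theorem F49480 : act 6 n23000 = n24431 := d24_0 F49479 (iv D20676) F26694 (iv D15325) (iv F28994) (iv F24505) (iv D14005) (iv F23839) (iv D13589) (iv F23834) (iv F23857) D18642 F33355 D23000
def n24432 : Q := act 4 n20086
theorem D24432 : act 4 n20086 = n24432 := rfl
theorem F49481 : act 1 n24432 = n20389 := d8_1 D24432 F38689 (iv F37961)
theorem F49482 : act 2 n24432 = n20087 := d12_1 D24432 (iv D20087) D20086
theorem F49483 : act 5 n24432 = n20390 := d18_2 F37962 D24432 F38690
def n24433 : Q := act 6 n20086
theorem D24433 : act 6 n20086 = n24433 := rfl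
theorem F49484 : act 1 n24433 = n22999 := d10_1 D24433 F45559 F34135 F26701 (iv F37961)
theorem F49485 : act 2 n24433 = n20089 := d14_1 D24433 (iv D20089) D20086
theorem F49486 : act 3 n24433 = n23000 := d17_1 D24433 F49480 (iv D24431)
def n24434 : Q := act 5 n20087
theorem D24434 : act 5 n20087 = n24434 := rfl
theorem F49487 : act 1 n24434 = n24434 := d9_1 D24434 (iv D24434) F37963 F25836 (iv F37963)
theorem F49488 : act 2 n24434 = n20390 := d13_1 D24434 (iv F49483) F49482
theorem F49489 : act 3 n24434 = n22794 := d16_1 D24434 F44929 (iv F37964)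
theorem F49490 : act 4 n24434 = n20088 := d18_1 D24434 (iv D20088) D20087
def n24435 : Q := act 6 n20087
theorem D24435 : act 6 n20087 = n24435 := rfl
theorem F49491 : act 3 n24435 = n23685 := d17_1 D24435 (iv D23685) (iv F37964)
theorem F49492 : act 4 n24435 = n20089 := d19_1 D24435 (iv D20089) D20087
def n24436 : Q := act 6 n20088
theorem D24436 : act 6 n20088 = n24436 := rfl
theorem F49493 : act 0 n24436 = n22582 := d5_1 D24436 (iv F49474) F49471
theorem F49494 : act 2 n24436 = n20682 := d14_1 D24436 (iv D20682) (iv F37966)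
theorem F49495 : act 3 n24436 = n20090 := d17_1 D24436 (iv D20090) (iv F37967)
theorem F49496 : act 5 n24436 = n24276 := d20_1 D24436 F49036 D24430 F49474 F44273 (iv D20089) D20088
theorem F49497 : act 1 n23854 = n24436 := d6_5 F49494 F39248 F39214 F36642 D23854
def n24437 : Q := act 1 n20090
theorem D24437 : act 1 n20090 = n24437 := rfl
theorem F49498 : act 0 n24437 = n23856 := d0_1 D24437 F47879 F44538 (iv D22655) F30779 F22714 (iv F22433) D17333 (iv F37969)
theorem F49499 : act 3 n24437 = n23854 := d7_2 F49495 D24437 F49497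
theorem F49500 : act 4 n24437 = n22697 := d8_2 (iv F37971) D24437 (iv D22697)
theorem F49501 : act 6 n24437 = n24437 := d10_2 D20090 D24437 (iv D24437) (iv D20090) F25833
def n24438 : Q := act 4 n20091
theorem D24438 : act 4 n20091 = n24438 := rfl
theorem F49502 : act 0 n24438 = n20095 := d3_1 D24438 (iv D20095) (iv F37973)
theorem F49503 : act 1 n24438 = n23095 := d8_1 D24438 F45856 (iv F37974)
theorem F49504 : act 2 n24438 = n20092 := d12_1 D24438 (iv D20092) D20091
theorem F49505 : act 6 n24438 = n20537 := d19_2 (iv F37976) D24438 (iv D20537)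
def n24439 : Q := act 5 n20092
theorem D24439 : act 5 n20092 = n24439 := rfl
theorem F49506 : act 0 n24439 = n20097 := d4_1 D24439 (iv D20097) (iv F37977)
theorem F49507 : act 3 n24439 = n23098 := d16_1 D24439 (iv D23098) (iv F37979)
theorem F49508 : act 4 n24439 = n20093 := d18_1 D24439 (iv D20093) D20092
def n24440 : Q := act 3 n20095
theorem D24440 : act 3 n20095 = n24440 := rfl
theorem F49509 : act 1 n24440 = n22510 := d7_1 D24440 (iv D22510) (iv F37986)
theorem F49510 : act 6 n24440 = n22926 := d17_2 (iv F37988) D24440 (iv D22926)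
def n24441 : Q := act 5 n20095
theorem D24441 : act 5 n20095 = n24441 := rfl
theorem F49511 : act 2 n24441 = n20097 := d13_1 D24441 (iv D20097) (iv F37987)
theorem F49512 : act 4 n24441 = n20096 := d18_1 D24441 (iv D20096) D20095
def n24442 : Q := act 1 n20096
theorem D24442 : act 1 n20096 = n24442 := rfl
theorem F49513 : act 2 n24442 = n22380 := d6_2 (iv F37989) D24442 F43755 F30088 (iv F25844)
theorem F49514 : act 3 n24442 = n22355 := d7_2 F38980 D24442 F43680
theorem F49515 : act 5 n24442 = n22351 := d9_2 D20096 D24442 (iv D22351) F30000 (iv F25842)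
def n24443 : Q := act 5 n20098
theorem D24443 : act 5 n20098 = n24443 := rfl
theorem F49516 : act 0 n24443 = n22832 := d4_1 D24443 (iv D22832) (iv F37993)
theorem F49517 : act 2 n24443 = n22927 := d13_1 D24443 (iv D22927) (iv F37995)
theorem F49518 : act 3 n24443 = n23071 := d16_1 D24443 (iv D23071) (iv F37996)
theorem F49519 : act 4 n24443 = n20099 := d18_1 D24443 (iv D20099) (iv F37997)
theorem F49520 : act 6 n24443 = n24439 := d20_2 D20098 D24443 (iv D24439) F37980 D22832 F45080 (iv D20097)
def n24444 : Q := act 0 n20100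
theorem D24444 : act 0 n20100 = n24444 := rfl
def n24445 : Q := act 2 n20100
theorem D24445 : act 2 n20100 = n24445 := rfl
theorem F49521 : act 1 n24445 = n22321 := d6_1 D24445 F43567 F37586 F33450 D20100
theorem F49522 : act 4 n24445 = n24274 := d12_2 F47597 D24445 F49033
theorem F49523 : act 3 n22320 = n24445 := d7_0 F49521 (iv D22321) D22320
theorem F49524 : act 5 n24231 = n24445 := d9_0 F49521 (iv F48970) (iv F48971) F48903 (iv F48913)
theorem F49525 : act 6 n24426 = n24445 := d10_0 F49521 F43568 (iv F44252) (iv F44271) (iv F49463)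
theorem F49526 : act 6 n24231 = n24423 := d22_3 D24426 F49525 (iv F49524) (iv D24423)
theorem F49527 : act 0 n24427 = n24231 := d22_4 F49524 (iv F49525) (iv D24426) D24427
theorem F49528 : act 3 n24230 = n24427 := d2_0 F49527 (iv D24231) D24230
theorem F49529 : act 6 n24425 = n24230 := d17_0 F49528 (iv D24427) D24425
theorem F49530 : act 0 n24232 = n24425 := d5_3 F49529 (iv D24230) D24232
theorem F49531 : act 3 n24423 = n24232 := d2_0 F49530 (iv D24425) D24423
def n24446 : Q := act 3 n20100
theorem D24446 : act 3 n20100 = n24446 := rfl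
theorem F49532 : act 1 n24446 = n20101 := d7_1 D24446 (iv D20101) D20100
def n24447 : Q := act 5 n20100
theorem D24447 : act 5 n20100 = n24447 := rfl
theorem F49533 : act 2 n24447 = n24231 := d13_1 D24447 F49524 (iv D24445)
theorem F49534 : act 0 n24210 = n24447 := d1_3 F49533 (iv F49527) F49464
theorem F49535 : act 3 n24447 = n24209 := d2_2 D24210 F49534 (iv D24209)
theorem F49536 : act 5 n24444 = n24210 := d4_0 F49534 (iv D24447) D24444
theorem F49537 : act 3 n24211 = n24444 := d16_3 F49536 (iv D24210) D24211
theorem F49538 : act 0 n24446 = n24211 := d2_3 F49537 (iv D24444) D24446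
theorem F49539 : act 5 n24209 = n24446 := d4_0 F49538 (iv D24211) D24209
def n24448 : Q := act 6 n20100
theorem D24448 : act 6 n20100 = n24448 := rfl
theorem F49540 : act 1 n24448 = n22626 := d10_1 D24448 (iv D22626) F38007 (iv D20102) D20100
theorem F49541 : act 2 n24448 = n24426 := d14_1 D24448 F49525 (iv D24445)
theorem F49542 : act 5 n24448 = n24424 := d22_2 (iv D24447) D24448 (iv F49461) F49534
def n24449 : Q := act 2 n20101
theorem D24449 : act 2 n20101 = n24449 := rfl
theorem F49543 : act 0 n24449 = n20103 := d1_1 D24449 (iv D20103) (iv F38002)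
theorem F49544 : act 3 n24449 = n23657 := d21_1 D24449 (iv D23657) F35924 F29205 F24509 F23947 D14888 (iv F38002)
theorem F49545 : act 1 n24449 = n22377 := d23_2 F48994 D24449 F43752 (iv D22277) (iv F43021) (iv D22108) F29681 (iv D12533) (iv D10187) (iv D5532) F4173 D2670 (iv F8409) D10198 D12551 (iv F29747) D22148 (iv F43128) (iv F48993)
theorem F49546 : act 6 n20732 = n24449 := d10_0 F49545 F43753 (iv F47126) (iv F49245) (iv F49246)
def n24450 : Q := act 4 n20101
theorem D24450 : act 4 n20101 = n24450 := rfl
theorem F49547 : act 0 n24450 = n20104 := d3_1 D24450 (iv D20104) (iv F38002)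
theorem F49548 : act 3 n24450 = n23735 := d15_1 D24450 (iv D23735) (iv F36324) F36325 D20101
def n24451 : Q := act 6 n20101
theorem D24451 : act 6 n20101 = n24451 := rfl
theorem F49549 : act 0 n24451 = n20106 := d5_1 D24451 (iv D20106) (iv F38002)
theorem F49550 : act 2 n24451 = n20732 := d14_1 D24451 F49546 (iv D24449)
theorem F49551 : act 3 n24451 = n20102 := d17_1 D24451 (iv D20102) D20101
theorem F49552 : act 5 n24451 = n22628 := d22_2 F48994 D24451 F44438 (iv F48993)
theorem F49553 : act 1 n22625 = n24451 := d9_5 F49552 (iv D22628) (iv D17404) (iv F30502) D22625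
def n24452 : Q := act 3 n20103
theorem D24452 : act 3 n20103 = n24452 := rfl
theorem F49554 : act 0 n24452 = n23657 := d2_1 D24452 (iv F49544) F49543
theorem F49555 : act 1 n24452 = n20728 := d7_1 D24452 F39348 (iv F38008)
theorem F49556 : act 2 n24452 = n23656 := d11_1 D24452 F47236 F37759 (iv F33451) F33450 D20101 D24449 F49544 (iv D23657) F35924 F29205 F24509 F23947 D14888 D20103
theorem F49557 : act 6 n24452 = n20729 := d17_2 F38009 D24452 F39350
theorem F49558 : act 5 n23025 = n24452 := d22_0 F49557 (iv F47072) F47073 (iv F47068)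
def n24453 : Q := act 4 n20103
theorem D24453 : act 4 n20103 = n24453 := rfl
theorem F49559 : act 1 n24453 = n20423 := d8_1 D24453 F38751 (iv F38008)
theorem F49560 : act 2 n24453 = n20104 := d12_1 D24453 (iv D20104) D20103
theorem F49561 : act 6 n24453 = n20424 := d19_2 F38009 D24453 F38752
def n24454 : Q := act 5 n20103
theorem D24454 : act 5 n20103 = n24454 := rfl
theorem F49562 : act 1 n24454 = n23024 := d9_1 D24454 F45642 (iv F35045) F26765 (iv F38008)
theorem F49563 : act 2 n24454 = n20105 := d13_1 D24454 (iv D20105) D20103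
theorem F49564 : act 3 n24454 = n23025 := d16_1 D24454 F49558 (iv D24452)
def n24455 : Q := act 5 n20104
theorem D24455 : act 5 n20104 = n24455 := rfl
theorem F49565 : act 3 n24455 = n23737 := d16_1 D24455 (iv D23737) (iv F38011)
theorem F49566 : act 4 n24455 = n20105 := d18_1 D24455 (iv D20105) D20104
def n24456 : Q := act 6 n20104
theorem D24456 : act 6 n20104 = n24456 := rfl
theorem F49567 : act 1 n24456 = n24456 := d10_1 D24456 (iv D24456) F38010 F25877 (iv F38010)
theorem F49568 : act 2 n24456 = n20424 := d14_1 D24456 (iv F49561) F49560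
theorem F49569 : act 3 n24456 = n22800 := d17_1 D24456 F44944 (iv F38011)
theorem F49570 : act 4 n24456 = n20106 := d19_1 D24456 (iv D20106) D20104
def n24457 : Q := act 5 n20106
theorem D24457 : act 5 n20106 = n24457 := rfl
theorem F49571 : act 0 n24457 = n22628 := d4_1 D24457 (iv F49552) F49549
theorem F49572 : act 2 n24457 = n20733 := d13_1 D24457 (iv D20733) (iv F38014)
theorem F49573 : act 3 n24457 = n20107 := d16_1 D24457 (iv D20107) (iv F38015)
theorem F49574 : act 6 n24457 = n24257 := d20_2 D20106 D24457 F48994 D24451 F49552 F44438 (iv D20105)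
theorem F49575 : act 1 n23858 = n24457 := d6_5 F49572 F39352 F39321 (iv F36646) D23858
def n24458 : Q := act 1 n20107
theorem D24458 : act 1 n20107 = n24458 := rfl
theorem F49576 : act 0 n24458 = n23860 := d0_1 D24458 F47889 F44663 (iv D22700) F31014 F22843 (iv F22506) D17409 (iv F38016)
theorem F49577 : act 3 n24458 = n23858 := d7_2 F49573 D24458 F49575
theorem F49578 : act 4 n24458 = n22731 := d8_2 (iv F38018) D24458 (iv D22731)
theorem F49579 : act 5 n24458 = n24458 := d9_2 D20107 D24458 (iv D24458) (iv D20107) F25874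
def n24459 : Q := act 3 n20108
theorem D24459 : act 3 n20108 = n24459 := rfl
theorem F49580 : act 5 n24459 = n21072 := d16_2 (iv F38021) D24459 (iv D21072)
theorem F49581 : act 2 n24459 = n21072 := d21_2 D20108 D24459 (iv D21072) (iv D15931) (iv F23990) D18733 (iv F33538) F28093
def n24460 : Q := act 6 n20108
theorem D24460 : act 6 n20108 = n24460 := rfl
theorem F49582 : act 0 n24460 = n21671 := d5_1 D24460 F41981 F41545
theorem F49583 : act 2 n24460 = n20109 := d14_1 D24460 (iv D20109) D20108
theorem F49584 : act 4 n24460 = n20478 := d19_1 D24460 (iv D20478) (iv F38020)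
def n24461 : Q := act 3 n20110
theorem D24461 : act 3 n20110 = n24461 := rfl
theorem F49585 : act 6 n24461 = n21075 := d17_2 (iv F38026) D24461 (iv D21075)
theorem F49586 : act 2 n24461 = n21075 := d21_2 D20110 D24461 (iv D21075) (iv D15934) (iv F23991) D18736 (iv F33547) F28309
def n24462 : Q := act 5 n20110
theorem D24462 : act 5 n20110 = n24462 := rfl
theorem F49587 : act 0 n24462 = n21511 := d4_1 D24462 (iv F41892) F41889
theorem F49588 : act 2 n24462 = n20111 := d13_1 D24462 (iv D20111) D20110
theorem F49589 : act 4 n24462 = n20480 := d18_1 D24462 (iv D20480) (iv F38025)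
def n24463 : Q := act 3 n20112
theorem D24463 : act 3 n20112 = n24463 := rfl
theorem F49590 : act 5 n24463 = n20138 := d16_2 (iv F38031) D24463 (iv D20138)
theorem F49591 : act 2 n24463 = n20138 := d21_2 D20112 D24463 (iv D20138) (iv D14934) F20366 D11504 D14941 F25990
def n24464 : Q := act 6 n20112
theorem D24464 : act 6 n20112 = n24464 := rfl
theorem F49592 : act 2 n24464 = n20113 := d14_1 D24464 (iv D20113) D20112
theorem F49593 : act 4 n24464 = n21094 := d19_1 D24464 (iv D21094) (iv F38030)
def n24465 : Q := act 1 n20113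
theorem D24465 : act 1 n20113 = n24465 := rfl
theorem F49594 : act 0 n24465 = n21235 := d0_1 D24465 (iv D21235) (iv D16075) (iv D12107) (iv F17795) D12186 D16227 F38111 F38107
theorem F49595 : act 3 n24465 = n20118 := d7_2 (iv F38032) D24465 (iv D20118)
theorem F49596 : act 4 n24465 = n21095 := d8_2 (iv F38033) D24465 (iv D21095)
theorem F49597 : act 5 n24465 = n21367 := d9_2 F38104 D24465 F41341 D21383 F41372
theorem F49598 : act 6 n24465 = n20114 := d10_2 D20113 D24465 (iv D20114) (iv D14919) D14918
def n24466 : Q := act 2 n20114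
theorem D24466 : act 2 n20114 = n24466 := rfl
theorem F49599 : act 1 n24466 = n22764 := d6_1 D24466 (iv D22764) (iv D18199) (iv F25943) D20114
theorem F49600 : act 4 n24466 = n21097 := d12_2 (iv F38035) D24466 (iv D21097)
def n24467 : Q := act 3 n20115
theorem D24467 : act 3 n20115 = n24467 := rfl
theorem F49601 : act 6 n24467 = n20144 := d17_2 (iv F38037) D24467 (iv D20144)
theorem F49602 : act 2 n24467 = n20144 := d21_2 D20115 D24467 (iv D20144) (iv D14937) F20368 D11507 D14946 (iv F35288)
def n24468 : Q := act 5 n20115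
theorem D24468 : act 5 n20115 = n24468 := rfl
theorem F49603 : act 2 n24468 = n20116 := d13_1 D24468 (iv D20116) D20115
theorem F49604 : act 4 n24468 = n21102 := d18_1 D24468 (iv D21102) (iv F38036)
def n24469 : Q := act 1 n20116
theorem D24469 : act 1 n20116 = n24469 := rfl
theorem F49605 : act 0 n24469 = n21211 := d0_1 D24469 (iv D21211) (iv D16056) (iv D12099) (iv F17778) D12163 D16182 F38127 F38123
theorem F49606 : act 3 n24469 = n20120 := d7_2 (iv F38038) D24469 (iv D20120)
theorem F49607 : act 4 n24469 = n21103 := d8_2 (iv F38039) D24469 (iv D21103)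
theorem F49608 : act 5 n24469 = n20117 := d9_2 D20116 D24469 (iv D20117) (iv D14921) D14920
theorem F49609 : act 6 n24469 = n21435 := d10_2 F38120 D24469 F41464 D21451 (iv F41504)
def n24470 : Q := act 2 n20117
theorem D24470 : act 2 n20117 = n24470 := rfl
theorem F49610 : act 1 n24470 = n22760 := d6_1 D24470 (iv D22760) (iv D18195) (iv F25951) D20117
theorem F49611 : act 4 n24470 = n21105 := d12_2 (iv F38041) D24470 (iv D21105)
def n24471 : Q := act 3 n20119
theorem D24471 : act 3 n20119 = n24471 := rfl
def n24472 : Q := act 3 n20121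
theorem D24472 : act 3 n20121 = n24472 := rfl
def n24473 : Q := act 2 n20125
theorem D24473 : act 2 n20125 = n24473 := rfl
theorem F49612 : act 1 n24473 = n24297 := d6_1 D24473 (iv D24297) F37712 F31787 D20125
theorem F49613 : act 4 n24473 = n21128 := d12_2 (iv F38067) D24473 (iv D21128)
theorem F49614 : act 5 n24473 = n20130 := d13_2 (iv F38068) D24473 (iv D20130)
def n24474 : Q := act 1 n20126
theorem D24474 : act 1 n20126 = n24474 := rfl
theorem F49615 : act 3 n24474 = n24474 := d7_2 F38069 D24474 (iv D24474)
theorem F49616 : act 4 n24474 = n21129 := d8_2 (iv F38070) D24474 (iv D21129)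
theorem F49617 : act 5 n24474 = n24474 := d9_2 (iv F38071) D24474 (iv D24474) F38071 F38063
def n24475 : Q := act 2 n20127
theorem D24475 : act 2 n20127 = n24475 := rfl
theorem F49618 : act 1 n24475 = n24354 := d6_1 D24475 (iv D24354) F37808 F31790 D20127
theorem F49619 : act 4 n24475 = n21130 := d12_2 (iv F38073) D24475 (iv D21130)
theorem F49620 : act 6 n24475 = n20133 := d14_2 (iv F38074) D24475 (iv D20133)
def n24476 : Q := act 1 n20128
theorem D24476 : act 1 n20128 = n24476 := rfl
theorem F49621 : act 3 n24476 = n24476 := d7_2 F38076 D24476 (iv D24476)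
theorem F49622 : act 4 n24476 = n21131 := d8_2 (iv F38077) D24476 (iv D21131)
theorem F49623 : act 6 n24476 = n24476 := d10_2 (iv F38078) D24476 (iv D24476) F38078 F38059
def n24477 : Q := act 2 n20129
theorem D24477 : act 2 n20129 = n24477 := rfl
theorem F49624 : act 0 n24477 = n20130 := d1_1 D24477 (iv D20130) D20129
theorem F49625 : act 4 n24477 = n21138 := d12_2 (iv F38081) D24477 (iv D21138)
def n24478 : Q := act 6 n20129
theorem D24478 : act 6 n20129 = n24478 := rfl
theorem F49626 : act 0 n24478 = n20131 := d5_1 D24478 (iv D20131) D20129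
theorem F49627 : act 3 n24478 = n24478 := d17_1 D24478 (iv D24478) F38080
theorem F49628 : act 4 n24478 = n21139 := d19_1 D24478 (iv D21139) (iv F38081)
theorem F49629 : act 5 n24478 = n20154 := d20_1 D24478 F38156 F38068 D20131 (iv F38086) (iv F38151) (iv F38152)
def n24479 : Q := act 3 n20130
theorem D24479 : act 3 n20130 = n24479 := rfl
theorem F49630 : act 1 n24479 = n20138 := d7_1 D24479 (iv D20138) (iv F38082)
def n24480 : Q := act 6 n20130
theorem D24480 : act 6 n20130 = n24480 := rfl
theorem F49631 : act 2 n24480 = n20131 := d14_1 D24480 (iv D20131) D20130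
theorem F49632 : act 4 n24480 = n21141 := d19_1 D24480 (iv D21141) (iv F38083)
theorem F49633 : act 5 n20155 = n24480 := d18_0 F49632 (iv F40844) (iv F38158)
def n24481 : Q := act 2 n20132
theorem D24481 : act 2 n20132 = n24481 := rfl
theorem F49634 : act 0 n24481 = n20133 := d1_1 D24481 (iv D20133) D20132
theorem F49635 : act 4 n24481 = n21142 := d12_2 (iv F38089) D24481 (iv D21142)
def n24482 : Q := act 5 n20132
theorem D24482 : act 5 n20132 = n24482 := rfl
theorem F49636 : act 0 n24482 = n20134 := d4_1 D24482 (iv D20134) D20132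
theorem F49637 : act 3 n24482 = n24482 := d16_1 D24482 (iv D24482) F38088
theorem F49638 : act 4 n24482 = n21143 := d18_1 D24482 (iv D21143) (iv F38089)
theorem F49639 : act 6 n24482 = n20159 := d20_2 F38170 D24482 F38173 F38074 D20134 (iv F38095) (iv F38168)
def n24483 : Q := act 3 n20133
theorem D24483 : act 3 n20133 = n24483 := rfl
theorem F49640 : act 1 n24483 = n20144 := d7_1 D24483 (iv D20144) (iv F38090)
def n24484 : Q := act 5 n20133
theorem D24484 : act 5 n20133 = n24484 := rfl
theorem F49641 : act 2 n24484 = n20134 := d13_1 D24484 (iv D20134) D20133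
theorem F49642 : act 4 n24484 = n21145 := d18_1 D24484 (iv D21145) (iv F38091)
theorem F49643 : act 6 n20160 = n24484 := d19_0 F49642 (iv F40850) (iv F38175)
def n24485 : Q := act 3 n20136
theorem D24485 : act 3 n20136 = n24485 := rfl
theorem F49644 : act 0 n24485 = n20138 := d2_1 D24485 (iv D20138) (iv F38099)
def n24486 : Q := act 6 n20136
theorem D24486 : act 6 n20136 = n24486 := rfl
theorem F49645 : act 0 n24486 = n20139 := d5_1 D24486 (iv D20139) (iv F38099)
theorem F49646 : act 2 n24486 = n20137 := d14_1 D24486 (iv D20137) D20136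
theorem F49647 : act 4 n24486 = n21149 := d19_1 D24486 (iv D21149) (iv F38100)
theorem F49648 : act 5 n24486 = n24464 := d22_2 F38134 D24486 (iv D24464) (iv F38133)
def n24487 : Q := act 4 n20138
theorem D24487 : act 4 n20138 = n24487 := rfl
theorem F49649 : act 3 n24487 = n21152 := d15_1 D24487 (iv D21152) (iv D15994) (iv F25975) D20138
def n24488 : Q := act 6 n20138
theorem D24488 : act 6 n20138 = n24488 := rfl
theorem F49650 : act 3 n24488 = n20139 := d17_1 D24488 (iv D20139) D20138
def n24489 : Q := act 1 n20139
theorem D24489 : act 1 n20139 = n24489 := rfl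
theorem F49651 : act 4 n24489 = n21154 := d8_2 (iv F38106) D24489 (iv D21154)
def n24490 : Q := act 5 n20139
theorem D24490 : act 5 n20139 = n24490 := rfl
theorem F49652 : act 0 n24490 = n24464 := d4_1 D24490 (iv F49648) F49645
theorem F49653 : act 2 n24490 = n20140 := d13_1 D24490 (iv D20140) (iv F38105)
theorem F49654 : act 4 n24490 = n21155 := d18_1 D24490 (iv D21155) (iv F38106)
theorem F49655 : act 6 n24490 = n20148 := d20_2 D20139 D24490 F38134 D24486 F49648 (iv D24464) F38031
def n24491 : Q := act 3 n20142
theorem D24491 : act 3 n20142 = n24491 := rfl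
theorem F49656 : act 0 n24491 = n20144 := d2_1 D24491 (iv D20144) (iv F38115)
def n24492 : Q := act 5 n20142
theorem D24492 : act 5 n20142 = n24492 := rfl
theorem F49657 : act 0 n24492 = n20145 := d4_1 D24492 (iv D20145) (iv F38115)
theorem F49658 : act 2 n24492 = n20143 := d13_1 D24492 (iv D20143) D20142
theorem F49659 : act 4 n24492 = n21159 := d18_1 D24492 (iv D21159) (iv F38116)
theorem F49660 : act 6 n24492 = n24468 := d22_1 D24492 (iv D24468) F38037 (iv F38115)
def n24493 : Q := act 4 n20144
theorem D24493 : act 4 n20144 = n24493 := rfl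
theorem F49661 : act 3 n24493 = n21162 := d15_1 D24493 (iv D21162) (iv D16000) (iv F25980) D20144
def n24494 : Q := act 5 n20144
theorem D24494 : act 5 n20144 = n24494 := rfl
theorem F49662 : act 3 n24494 = n20145 := d16_1 D24494 (iv D20145) D20144
def n24495 : Q := act 1 n20145
theorem D24495 : act 1 n20145 = n24495 := rfl
theorem F49663 : act 4 n24495 = n21164 := d8_2 (iv F38122) D24495 (iv D21164)
def n24496 : Q := act 6 n20145
theorem D24496 : act 6 n20145 = n24496 := rfl
theorem F49664 : act 0 n24496 = n24468 := d5_1 D24496 (iv F49660) F49657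
theorem F49665 : act 2 n24496 = n20146 := d14_1 D24496 (iv D20146) (iv F38121)
theorem F49666 : act 4 n24496 = n21165 := d19_1 D24496 (iv D21165) (iv F38122)
theorem F49667 : act 5 n24496 = n20150 := d20_1 D24496 F38141 D24492 F49660 (iv D24468) F38037 D20145
def n24497 : Q := act 1 n20148
theorem D24497 : act 1 n20148 = n24497 := rfl
def n24498 : Q := act 3 n20148
theorem D24498 : act 3 n20148 = n24498 := rfl
theorem F49668 : act 0 n24498 = n24463 := d2_1 D24498 (iv D24463) (iv F38133)
theorem F49669 : act 2 n24498 = n24485 := d11_1 D24498 (iv D24485) (iv D20136) F25973 (iv F20371) (iv F25940) D20112 D24463 F49591 (iv D20138) (iv D14934) F20366 D11504 D14941 D20148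
theorem F49670 : act 5 n24498 = n24485 := d16_2 (iv F38134) D24498 (iv D24485)
def n24499 : Q := act 1 n20150
theorem D24499 : act 1 n20150 = n24499 := rfl
def n24500 : Q := act 3 n20150
theorem D24500 : act 3 n20150 = n24500 := rfl
theorem F49671 : act 0 n24500 = n24467 := d2_1 D24500 (iv D24467) (iv F38140)
theorem F49672 : act 2 n24500 = n24491 := d11_1 D24500 (iv D24491) (iv D20142) F25978 F34735 (iv F25947) D20115 D24467 F49602 (iv D20144) (iv D14937) F20368 D11507 D14946 D20150
theorem F49673 : act 6 n24500 = n24491 := d17_2 (iv F38141) D24500 (iv D24491)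
def n24501 : Q := act 2 n20153
theorem D24501 : act 2 n20153 = n24501 := rfl
theorem F49674 : act 0 n24501 = n24473 := d1_1 D24501 (iv D24473) (iv F38153)
theorem F49675 : act 1 n24501 = n20166 := d6_1 D24501 (iv D20166) (iv F38143) F38191 D20153
theorem F49676 : act 4 n24501 = n21193 := d12_2 (iv F38150) D24501 (iv D21193)
theorem F49677 : act 5 n24501 = n24477 := d13_2 F38152 D24501 (iv D24477)
theorem F49678 : act 6 n24501 = n20155 := d14_2 (iv F38151) D24501 (iv D20155)
def n24502 : Q := act 1 n20154
theorem D24502 : act 1 n20154 = n24502 := rfl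
theorem F49679 : act 3 n24502 = n24502 := d7_2 F38154 D24502 (iv D24502)
theorem F49680 : act 4 n24502 = n21194 := d8_2 (iv F38155) D24502 (iv D21194)
theorem F49681 : act 6 n24502 = n24474 := d10_2 (iv F38156) D24502 (iv D24474) (iv D20126) D20125
def n24503 : Q := act 2 n20154
theorem D24503 : act 2 n20154 = n24503 := rfl
theorem F49682 : act 0 n24503 = n20155 := d1_1 D24503 (iv D20155) D20154
theorem F49683 : act 4 n24503 = n21195 := d12_2 (iv F38155) D24503 (iv D21195)
theorem F49684 : act 6 n24503 = n24473 := d14_2 (iv F38156) D24503 (iv D24473)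
def n24504 : Q := act 3 n20155
theorem D24504 : act 3 n20155 = n24504 := rfl
theorem F49685 : act 1 n24504 = n20175 := d7_1 D24504 (iv D20175) (iv F38157)
def n24505 : Q := act 2 n20158
theorem D24505 : act 2 n20158 = n24505 := rfl
theorem F49686 : act 0 n24505 = n24475 := d1_1 D24505 (iv D24475) F38169
theorem F49687 : act 1 n24505 = n20183 := d6_1 D24505 (iv D20183) (iv F38160) F40978 D20158
theorem F49688 : act 4 n24505 = n21198 := d12_2 (iv F38167) D24505 (iv D21198)
theorem F49689 : act 5 n24505 = n20160 := d13_2 (iv F38168) D24505 (iv D20160)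
theorem F49690 : act 6 n24505 = n24481 := d14_2 (iv F38170) D24505 (iv D24481)
def n24506 : Q := act 1 n20159
theorem D24506 : act 1 n20159 = n24506 := rfl
theorem F49691 : act 3 n24506 = n24506 := d7_2 F38171 D24506 (iv D24506)
theorem F49692 : act 4 n24506 = n21199 := d8_2 (iv F38172) D24506 (iv D21199)
theorem F49693 : act 5 n24506 = n24476 := d9_2 (iv F38173) D24506 (iv D24476) (iv D20128) D20127
def n24507 : Q := act 2 n20159
theorem D24507 : act 2 n20159 = n24507 := rfl
theorem F49694 : act 0 n24507 = n20160 := d1_1 D24507 (iv D20160) D20159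
theorem F49695 : act 4 n24507 = n21200 := d12_2 (iv F38172) D24507 (iv D21200)
theorem F49696 : act 5 n24507 = n24475 := d13_2 (iv F38173) D24507 (iv D24475)
def n24508 : Q := act 3 n20160
theorem D24508 : act 3 n20160 = n24508 := rfl
theorem F49697 : act 1 n24508 = n20193 := d7_1 D24508 (iv D20193) (iv F38174)
def n24509 : Q := act 3 n20161
theorem D24509 : act 3 n20161 = n24509 := rfl
theorem F49698 : act 4 n24509 = n24049 := d15_2 (iv F38176) D24509 (iv D24049) (iv D19737) (iv F27750)
def n24510 : Q := act 5 n20161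
theorem D24510 : act 5 n20161 = n24510 := rfl
theorem F49699 : act 2 n24510 = n20162 := d13_1 D24510 (iv D20162) D20161
theorem F49700 : act 4 n24510 = n21202 := d18_1 D24510 (iv D21202) (iv F38176)
def n24511 : Q := act 6 n20161
theorem D24511 : act 6 n20161 = n24511 := rfl
theorem F49701 : act 2 n24511 = n20163 := d14_1 D24511 (iv D20163) D20161
theorem F49702 : act 4 n24511 = n21203 := d19_1 D24511 (iv D21203) (iv F38176)
def n24512 : Q := act 6 n20162
theorem D24512 : act 6 n20162 = n24512 := rfl
theorem F49703 : act 1 n24512 = n21229 := d10_1 D24512 F41045 F38404 (iv D20264) (iv F38177)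
theorem F49704 : act 3 n24512 = n20201 := d17_1 D24512 (iv D20201) (iv F38178)
theorem F49705 : act 4 n24512 = n21204 := d19_1 D24512 (iv D21204) (iv F38179)
theorem F49706 : act 5 n24512 = n21406 := d22_2 D20162 D24512 F41407 F37091
def n24513 : Q := act 5 n20163
theorem D24513 : act 5 n20163 = n24513 := rfl
theorem F49707 : act 0 n24513 = n24512 := d4_1 D24513 F49706 F41404
theorem F49708 : act 3 n24513 = n20202 := d16_1 D24513 (iv D20202) (iv F38180)
theorem F49709 : act 4 n24513 = n21205 := d18_1 D24513 (iv D21205) (iv F38181)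
theorem F49710 : act 6 n24513 = n21091 := d20_2 D20163 D24513 (iv F40709) (iv F41407) (iv F49706) (iv D24512) (iv D20162)
theorem F49711 : act 1 n24513 = n21400 := d24_2 D20163 D24513 F41389 (iv F41080) (iv D21249) F27797 F27786 D16078 (iv F38424) (iv D20271) (iv D15015) (iv D11539) (iv F20396) D14956
def n24514 : Q := act 4 n20166
theorem D24514 : act 4 n20166 = n24514 := rfl
theorem F49712 : act 0 n24514 = n21333 := d3_1 D24514 F41271 F38298
theorem F49713 : act 1 n24514 = n21193 := d8_1 D24514 (iv F49676) F49675
theorem F49714 : act 2 n24514 = n20167 := d12_1 D24514 (iv D20167) D20166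
theorem F49715 : act 5 n24514 = n20273 := d18_2 (iv F38190) D24514 (iv D20273)
theorem F49716 : act 6 n21209 = n24514 := d14_0 F49714 (iv F38198) D21209
theorem F49717 : act 3 n23195 = n24514 := d21_1 D23195 F49714 F38196 (iv F33621) F33622 D18812 D23188 F46077
def n24515 : Q := act 6 n20166
theorem D24515 : act 6 n20166 = n24515 := rfl
theorem F49718 : act 1 n24515 = n20170 := d10_1 D24515 F38206 (iv F38157) (iv F49678) F49675
theorem F49719 : act 2 n24515 = n20168 := d14_1 D24515 (iv D20168) D20166
theorem F49720 : act 3 n24515 = n20321 := d17_1 D24515 F38546 F38294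
theorem F49721 : act 4 n24515 = n21209 := d19_1 D24515 F49716 (iv D24514)
theorem F49722 : act 5 n24515 = n20317 := d22_2 (iv F38190) D24515 (iv D20317) F26207
def n24516 : Q := act 1 n20169
theorem D24516 : act 1 n20169 = n24516 := rfl
theorem F49723 : act 0 n24516 = n21103 := d0_1 D24516 (iv D21103) (iv F27663) F38441 (iv D20281) (iv D15021) F20449 D14960 D20169
theorem F49724 : act 3 n24516 = n20218 := d7_2 (iv F38202) D24516 (iv D20218)
theorem F49725 : act 4 n24516 = n21211 := d8_2 (iv F38203) D24516 (iv D21211)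
theorem F49726 : act 5 n24516 = n21104 := d9_2 F38224 D24516 (iv F41352) (iv F41359) F41356
def n24517 : Q := act 2 n20169
theorem D24517 : act 2 n20169 = n24517 := rfl
theorem F49727 : act 0 n24517 = n20170 := d1_1 D24517 (iv D20170) D20169
theorem F49728 : act 4 n24517 = n21212 := d12_2 (iv F38203) D24517 (iv D21212)
theorem F49729 : act 6 n24517 = n20173 := d14_2 (iv F38204) D24517 (iv D20173)
def n24518 : Q := act 3 n20170
theorem D24518 : act 3 n20170 = n24518 := rfl
theorem F49730 : act 1 n24518 = n20321 := d7_1 D24518 (iv F49720) F49718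
theorem F49731 : act 6 n24518 = n20175 := d17_2 (iv F38206) D24518 (iv D20175)
def n24519 : Q := act 5 n20170
theorem D24519 : act 5 n20170 = n24519 := rfl
theorem F49732 : act 2 n24519 = n20171 := d13_1 D24519 (iv D20171) D20170
theorem F49733 : act 4 n24519 = n21214 := d18_1 D24519 (iv D21214) (iv F38205)
def n24520 : Q := act 2 n20172
theorem D24520 : act 2 n20172 = n24520 := rfl
theorem F49734 : act 4 n24520 = n21215 := d12_2 (iv F38210) D24520 (iv D21215)
theorem F49735 : act 5 n24520 = n21417 := d13_2 F38211 D24520 F41424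
def n24521 : Q := act 1 n20173
theorem D24521 : act 1 n20173 = n24521 := rfl
theorem F49736 : act 4 n24521 = n21217 := d8_2 (iv F38213) D24521 (iv D21217)
def n24522 : Q := act 3 n20173
theorem D24522 : act 3 n20173 = n24522 := rfl
theorem F49737 : act 0 n24522 = n20175 := d2_1 D24522 (iv D20175) (iv F38212)
def n24523 : Q := act 5 n20173
theorem D24523 : act 5 n20173 = n24523 := rfl
theorem F49738 : act 0 n24523 = n20176 := d4_1 D24523 (iv D20176) (iv F38212)
theorem F49739 : act 2 n24523 = n20174 := d13_1 D24523 (iv D20174) D20173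
theorem F49740 : act 4 n24523 = n21219 := d18_1 D24523 (iv D21219) (iv F38213)
theorem F49741 : act 6 n24523 = n24519 := d22_1 D24523 (iv D24519) F38206 (iv F38212)
def n24524 : Q := act 2 n20175
theorem D24524 : act 2 n20175 = n24524 := rfl
def n24525 : Q := act 4 n20175
theorem D24525 : act 4 n20175 = n24525 := rfl
theorem F49742 : act 3 n24525 = n21221 := d15_1 D24525 (iv D21221) (iv D16062) (iv F26042) D20175
def n24526 : Q := act 5 n20175
theorem D24526 : act 5 n20175 = n24526 := rfl
theorem F49743 : act 3 n24526 = n20176 := d16_1 D24526 (iv D20176) D20175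
def n24527 : Q := act 1 n20176
theorem D24527 : act 1 n20176 = n24527 := rfl
theorem F49744 : act 2 n24527 = n24495 := d6_2 (iv F38219) D24527 (iv D24495) F38121 (iv F26043)
theorem F49745 : act 4 n24527 = n21223 := d8_2 (iv F38220) D24527 (iv D21223)
def n24528 : Q := act 6 n20176
theorem D24528 : act 6 n20176 = n24528 := rfl
theorem F49746 : act 0 n24528 = n24519 := d5_1 D24528 (iv F49741) F49738
theorem F49747 : act 2 n24528 = n20177 := d14_1 D24528 (iv D20177) (iv F38219)
theorem F49748 : act 4 n24528 = n21224 := d19_1 D24528 (iv D21224) (iv F38220)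
theorem F49749 : act 5 n24528 = n24517 := d20_1 D24528 F49729 D24523 F49741 (iv D24519) F38206 D20176
def n24529 : Q := act 3 n20178
theorem D24529 : act 3 n20178 = n24529 := rfl
theorem F49750 : act 4 n24529 = n24100 := d15_2 (iv F38225) D24529 (iv D24100) (iv D19775) F34693
def n24530 : Q := act 5 n20178
theorem D24530 : act 5 n20178 = n24530 := rfl
theorem F49751 : act 2 n24530 = n20179 := d13_1 D24530 (iv D20179) D20178
theorem F49752 : act 4 n24530 = n21226 := d18_1 D24530 (iv D21226) (iv F38225)
def n24531 : Q := act 6 n20178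
theorem D24531 : act 6 n20178 = n24531 := rfl
theorem F49753 : act 2 n24531 = n20180 := d14_1 D24531 (iv D20180) D20178
theorem F49754 : act 4 n24531 = n21227 := d19_1 D24531 (iv D21227) (iv F38225)
def n24532 : Q := act 6 n20179
theorem D24532 : act 6 n20179 = n24532 := rfl
theorem F49755 : act 3 n24532 = n20235 := d17_1 D24532 (iv D20235) (iv F38226)
theorem F49756 : act 4 n24532 = n21228 := d19_1 D24532 (iv D21228) (iv F38227)
theorem F49757 : act 5 n24532 = n21099 := d22_2 D20179 D24532 (iv F40726) F37133
theorem F49758 : act 1 n21469 = n24532 := d24_14 (iv D24532) (iv D20179) (iv D14964) F20405 D11545 D15027 D20291 (iv F38470) (iv D16059) (iv F27764) (iv F27775) D21225 F41035 (iv F41538)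
def n24533 : Q := act 5 n20180
theorem D24533 : act 5 n20180 = n24533 := rfl
theorem F49759 : act 0 n24533 = n24532 := d4_1 D24533 F49757 F40723
theorem F49760 : act 1 n24533 = n21204 := d9_1 D24533 F40997 (iv F38459) (iv D20286) (iv F38228)
theorem F49761 : act 3 n24533 = n20236 := d16_1 D24533 (iv D20236) (iv F38229)
theorem F49762 : act 4 n24533 = n21229 := d18_1 D24533 (iv D21229) (iv F38230)
theorem F49763 : act 6 n24533 = n21328 := d20_2 D20180 D24533 F41258 F40726 (iv F49757) (iv D24532) (iv D20179)
def n24534 : Q := act 4 n20183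
theorem D24534 : act 4 n20183 = n24534 := rfl
theorem F49764 : act 0 n24534 = n21407 := d3_1 D24534 F41408 F38364
theorem F49765 : act 1 n24534 = n21198 := d8_1 D24534 (iv F49688) F49687
theorem F49766 : act 2 n24534 = n20184 := d12_1 D24534 (iv D20184) D20183
theorem F49767 : act 6 n24534 = n20293 := d19_2 (iv F38239) D24534 (iv D20293)
theorem F49768 : act 5 n21233 = n24534 := d13_0 F49766 F40981 D21233
theorem F49769 : act 3 n23271 = n24534 := d21_1 D23271 F49766 F38241 F34680 F33644 D18859 D23264 F46262
def n24535 : Q := act 5 n20183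
theorem D24535 : act 5 n20183 = n24535 := rfl
theorem F49770 : act 1 n24535 = n20188 := d9_1 D24535 F38249 (iv F38174) (iv F49689) F49687
theorem F49771 : act 2 n24535 = n20185 := d13_1 D24535 (iv D20185) D20183
theorem F49772 : act 3 n24535 = n20355 := d16_1 D24535 F38627 F38360
theorem F49773 : act 4 n24535 = n21233 := d18_1 D24535 F49768 (iv D24534)
theorem F49774 : act 6 n24535 = n20351 := d22_1 D24535 (iv D20351) (iv F38366) F38364
def n24536 : Q := act 1 n20187
theorem D24536 : act 1 n20187 = n24536 := rfl
theorem F49775 : act 0 n24536 = n21095 := d0_1 D24536 (iv D21095) (iv F27654) F38488 (iv D20300) (iv D15033) F20464 D14968 D20187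
theorem F49776 : act 3 n24536 = n20252 := d7_2 (iv F38245) D24536 (iv D20252)
theorem F49777 : act 4 n24536 = n21235 := d8_2 (iv F38246) D24536 (iv D21235)
theorem F49778 : act 6 n24536 = n21096 := d10_2 F38267 D24536 (iv F41485) (iv F41493) F41490
def n24537 : Q := act 2 n20187
theorem D24537 : act 2 n20187 = n24537 := rfl
theorem F49779 : act 0 n24537 = n20188 := d1_1 D24537 (iv D20188) D20187
theorem F49780 : act 4 n24537 = n21236 := d12_2 (iv F38246) D24537 (iv D21236)
theorem F49781 : act 5 n24537 = n20191 := d13_2 (iv F38247) D24537 (iv D20191)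
def n24538 : Q := act 3 n20188
theorem D24538 : act 3 n20188 = n24538 := rfl
theorem F49782 : act 1 n24538 = n20355 := d7_1 D24538 (iv F49772) F49770
theorem F49783 : act 5 n24538 = n20193 := d16_2 (iv F38249) D24538 (iv D20193)
def n24539 : Q := act 6 n20188
theorem D24539 : act 6 n20188 = n24539 := rfl
theorem F49784 : act 2 n24539 = n20189 := d14_1 D24539 (iv D20189) D20188
theorem F49785 : act 4 n24539 = n21238 := d19_1 D24539 (iv D21238) (iv F38248)
def n24540 : Q := act 2 n20190
theorem D24540 : act 2 n20190 = n24540 := rfl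
theorem F49786 : act 4 n24540 = n21239 := d12_2 (iv F38253) D24540 (iv D21239)
theorem F49787 : act 6 n24540 = n21344 := d14_2 F38254 D24540 F41291
def n24541 : Q := act 1 n20191
theorem D24541 : act 1 n20191 = n24541 := rfl
theorem F49788 : act 4 n24541 = n21241 := d8_2 (iv F38256) D24541 (iv D21241)
def n24542 : Q := act 3 n20191
theorem D24542 : act 3 n20191 = n24542 := rfl
theorem F49789 : act 0 n24542 = n20193 := d2_1 D24542 (iv D20193) (iv F38255)
def n24543 : Q := act 6 n20191
theorem D24543 : act 6 n20191 = n24543 := rfl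
theorem F49790 : act 0 n24543 = n20194 := d5_1 D24543 (iv D20194) (iv F38255)
theorem F49791 : act 2 n24543 = n20192 := d14_1 D24543 (iv D20192) D20191
theorem F49792 : act 4 n24543 = n21243 := d19_1 D24543 (iv D21243) (iv F38256)
theorem F49793 : act 5 n24543 = n24539 := d22_2 F49781 D24543 (iv D24539) (iv F49779)
def n24544 : Q := act 2 n20193
theorem D24544 : act 2 n20193 = n24544 := rfl
def n24545 : Q := act 4 n20193
theorem D24545 : act 4 n20193 = n24545 := rfl
theorem F49794 : act 3 n24545 = n21245 := d15_1 D24545 (iv D21245) (iv D16081) (iv F26059) D20193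
def n24546 : Q := act 6 n20193
theorem D24546 : act 6 n20193 = n24546 := rfl
theorem F49795 : act 3 n24546 = n20194 := d17_1 D24546 (iv D20194) D20193
def n24547 : Q := act 1 n20194
theorem D24547 : act 1 n20194 = n24547 := rfl
theorem F49796 : act 2 n24547 = n24489 := d6_2 (iv F38262) D24547 (iv D24489) F38105 (iv F26060)
theorem F49797 : act 4 n24547 = n21247 := d8_2 (iv F38263) D24547 (iv D21247)
def n24548 : Q := act 5 n20194
theorem D24548 : act 5 n20194 = n24548 := rfl
theorem F49798 : act 0 n24548 = n24539 := d4_1 D24548 (iv F49793) F49790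
theorem F49799 : act 2 n24548 = n20195 := d13_1 D24548 (iv D20195) (iv F38262)
theorem F49800 : act 4 n24548 = n21248 := d18_1 D24548 (iv D21248) (iv F38263)
theorem F49801 : act 6 n24548 = n24537 := d20_2 D20194 D24548 F49781 D24543 F49793 (iv D24539) F38249
def n24549 : Q := act 3 n20196
theorem D24549 : act 3 n20196 = n24549 := rfl
theorem F49802 : act 0 n24549 = n20198 := d2_1 D24549 (iv D20198) (iv F38268)
theorem F49803 : act 1 n24549 = n22899 := d7_1 D24549 F45298 (iv F38269)
theorem F49804 : act 4 n24549 = n22897 := d15_2 (iv F38270) D24549 (iv D22897) F32296 (iv F29169)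
def n24550 : Q := act 3 n20197
theorem D24550 : act 3 n20197 = n24550 := rfl
theorem F49805 : act 1 n24550 = n20198 := d7_1 D24550 (iv D20198) D20197
theorem F49806 : act 4 n24550 = n21151 := d15_2 (iv F38272) D24550 (iv F40897) F40896 (iv D20489)
theorem F49807 : act 2 n21152 = n24550 := d12_3 F49806 (iv D21151) D21152
def n24551 : Q := act 6 n20197
theorem D24551 : act 6 n20197 = n24551 := rfl
theorem F49808 : act 2 n24551 = n20206 := d14_1 D24551 (iv D20206) (iv F38271)
theorem F49809 : act 4 n24551 = n20490 := d19_1 D24551 (iv D20490) (iv F38272)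
theorem F49810 : act 5 n24551 = n20206 := d22_2 F38285 D24551 (iv D20206) D20203
def n24552 : Q := act 2 n20198
theorem D24552 : act 2 n20198 = n24552 := rfl
def n24553 : Q := act 4 n20198
theorem D24553 : act 4 n20198 = n24553 := rfl
theorem F49811 : act 0 n24553 = n22897 := d3_1 D24553 (iv F49804) F49802
theorem F49812 : act 1 n24553 = n21151 := d8_1 D24553 (iv F49806) F49805
theorem F49813 : act 3 n24553 = n20491 := d15_1 D24553 (iv D20491) (iv D15179) (iv F26064) D20198
def n24554 : Q := act 5 n20198
theorem D24554 : act 5 n20198 = n24554 := rfl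
theorem F49814 : act 3 n24554 = n20199 := d16_1 D24554 (iv D20199) D20198
def n24555 : Q := act 6 n20198
theorem D24555 : act 6 n20198 = n24555 := rfl
theorem F49815 : act 3 n24555 = n20200 := d17_1 D24555 (iv D20200) D20198
def n24556 : Q := act 6 n20199
theorem D24556 : act 6 n20199 = n24556 := rfl
theorem F49816 : act 2 n24556 = n20201 := d14_1 D24556 (iv D20201) (iv F38273)
theorem F49817 : act 4 n24556 = n20493 := d19_1 D24556 (iv D20493) (iv F38274)
theorem F49818 : act 5 n24556 = n21649 := d22_2 D20199 D24556 F41933 F38268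
theorem F49819 : act 1 n24032 = n24556 := d24_14 (iv D24556) (iv D20199) D20197 D24551 F49810 (iv F38565) (iv D20332) (iv F38561) (iv D20329) (iv F26319) (iv D15106) D15105 D20404 (iv F48442)
def n24557 : Q := act 1 n20200
theorem D24557 : act 1 n20200 = n24557 := rfl
theorem F49820 : act 4 n24557 = n20494 := d8_2 (iv F38276) D24557 (iv D20494)
theorem F49821 : act 0 n21834 = n24557 := d3_3 F49820 (iv F44034) (iv F42336)
def n24558 : Q := act 5 n20200
theorem D24558 : act 5 n20200 = n24558 := rfl
theorem F49822 : act 0 n24558 = n24556 := d4_1 D24558 F49818 F41931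
theorem F49823 : act 2 n24558 = n20202 := d13_1 D24558 (iv D20202) (iv F38275)
theorem F49824 : act 4 n24558 = n20495 := d18_1 D24558 (iv D20495) (iv F38276)
theorem F49825 : act 6 n24558 = n20447 := d20_2 D20200 D24558 F38798 (iv F41933) (iv F49818) (iv D24556) (iv D20199)
def n24559 : Q := act 3 n20203
theorem D24559 : act 3 n20203 = n24559 := rfl
theorem F49826 : act 0 n24559 = n20204 := d2_1 D24559 (iv D20204) D20203
theorem F49827 : act 5 n24559 = n24550 := d16_2 (iv F38285) D24559 (iv D24550)
def n24560 : Q := act 6 n20203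
theorem D24560 : act 6 n20203 = n24560 := rfl
theorem F49828 : act 0 n24560 = n20206 := d5_1 D24560 (iv D20206) D20203
theorem F49829 : act 1 n24560 = n21606 := d10_1 D24560 F41836 (iv F41982) F41981 F41546
theorem F49830 : act 4 n24560 = n20497 := d19_1 D24560 (iv D20497) (iv F38284)
def n24561 : Q := act 2 n20204
theorem D24561 : act 2 n20204 = n24561 := rfl
def n24562 : Q := act 4 n20204
theorem D24562 : act 4 n20204 = n24562 := rfl
theorem F49831 : act 1 n24562 = n20208 := d8_1 D24562 (iv D20208) (iv F38286)
theorem F49832 : act 3 n24562 = n20499 := d15_1 D24562 (iv D20499) (iv D15185) (iv F26068) D20204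
theorem F49833 : act 5 n21171 = n24562 := d16_0 F49832 F38915 D21171
def n24563 : Q := act 5 n20204
theorem D24563 : act 5 n20204 = n24563 := rfl
theorem F49834 : act 0 n24563 = n24550 := d4_1 D24563 (iv F49827) F49826
theorem F49835 : act 1 n24563 = n20304 := d9_1 D24563 (iv D20304) F26186 (iv F26070) (iv F38286)
theorem F49836 : act 3 n24563 = n20205 := d16_1 D24563 (iv D20205) D20204
theorem F49837 : act 4 n24563 = n21171 := d18_1 D24563 F49833 (iv D24562)
def n24564 : Q := act 6 n20204
theorem D24564 : act 6 n20204 = n24564 := rfl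
theorem F49838 : act 3 n24564 = n20206 := d17_1 D24564 (iv D20206) D20204
def n24565 : Q := act 6 n20205
theorem D24565 : act 6 n20205 = n24565 := rfl
theorem F49839 : act 0 n24565 = n24551 := d5_1 D24565 (iv D24551) (iv F38287)
theorem F49840 : act 2 n24565 = n24560 := d14_1 D24565 (iv D24560) (iv F38289)
theorem F49841 : act 4 n24565 = n20501 := d19_1 D24565 (iv D20501) (iv F38290)
theorem F49842 : act 5 n24565 = n24560 := d20_1 D24565 (iv D24560) F38285 D24551 F49810 (iv D20206) D20205
def n24566 : Q := act 1 n20207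
theorem D24566 : act 1 n20207 = n24566 := rfl
theorem F49843 : act 3 n24566 = n24501 := d7_2 (iv F38294) D24566 F49675
theorem F49844 : act 6 n24566 = n24504 := d10_2 F38546 D24566 F49685 (iv F49731) F49730
def n24567 : Q := act 4 n20207
theorem D24567 : act 4 n20207 = n24567 := rfl
theorem F49845 : act 0 n24567 = n20211 := d3_1 D24567 (iv D20211) (iv F38292)
theorem F49846 : act 2 n24567 = n20208 := d12_1 D24567 (iv D20208) D20207
theorem F49847 : act 5 n24567 = n20308 := d18_2 (iv F38293) D24567 (iv D20308)
def n24568 : Q := act 0 n20209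
theorem D24568 : act 0 n20209 = n24568 := rfl
theorem F49848 : act 1 n20381 = n24568 := d23_2 D15094 (iv F38674) (iv D24568) (iv F48278) F48276 (iv D20209) (iv F38292) F38293 (iv D15042) (iv F26186) F26185 D16250 F28109 (iv F32221) (iv F45164) F45167 (iv F38658) F38657 F26287
def n24569 : Q := act 3 n20209
theorem D24569 : act 3 n20209 = n24569 := rfl
theorem F49849 : act 1 n24569 = n20210 := d7_1 D24569 (iv D20210) D20209
theorem F49850 : act 5 n24569 = n23103 := d16_2 F48278 D24569 (iv F48277)
theorem F49851 : act 2 n24569 = n21523 := d21_4 D23103 (iv F48277) F48276 D24569 F41659 F33566 (iv F45882) (iv D23102)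
theorem F49852 : act 4 n21522 = n24569 := d12_0 F49851 (iv D21523) D21522
def n24570 : Q := act 4 n20209
theorem D24570 : act 4 n20209 = n24570 := rfl
theorem F49853 : act 1 n24570 = n20211 := d8_1 D24570 (iv D20211) D20209
def n24571 : Q := act 6 n20209
theorem D24571 : act 6 n20209 = n24571 := rfl

end Cfsg.Agent.Helper17.SuzbTC
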