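import Cfsg.Agent.Helper17.SuzbTC.Facts5

set_option autoImplicit false
set_option linter.all false

noncomputable section

namespace Cfsg.Agent.Helper17.SuzbTC

def n24572 : Q := act 6 n20210
theorem D24572 : act 6 n20210 = n24572 := rfl
theorem F49854 : act 0 n24572 = n24515 := d5_1 D24572 (iv D24515) (iv F38298)
theorem F49855 : act 2 n24572 = n20277 := d14_1 D24572 F38434 (iv F38299)
theorem F49856 : act 3 n24572 = n20212 := d17_1 D24572 (iv D20212) D20210
theorem F49857 : act 5 n24572 = n20274 := d20_1 D24572 (iv D20274) (iv F38190) D24515 F49722 (iv D20317) (iv F38300)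
def n24573 : Q := act 3 n20211
theorem D24573 : act 3 n20211 = n24573 := rfl
theorem F49858 : act 5 n24573 = n20318 := d16_2 (iv F38302) D24573 (iv D20318)
def n24574 : Q := act 6 n20211
theorem D24574 : act 6 n20211 = n24574 := rfl
theorem F49859 : act 2 n24574 = n20213 := d14_1 D24574 (iv D20213) (iv F38301)
theorem F49860 : act 4 n24574 = n20212 := d19_1 D24574 (iv D20212) D20211
def n24575 : Q := act 1 n20212
theorem D24575 : act 1 n20212 = n24575 := rfl
def n24576 : Q := act 1 n20213
theorem D24576 : act 1 n20213 = n24576 := rfl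
theorem F49861 : act 3 n24576 = n20503 := d7_2 (iv F38304) D24576 (iv D20503)
theorem F49862 : act 4 n24576 = n20214 := d8_2 (iv F38305) D24576 (iv D20214)
def n24577 : Q := act 0 n20214
theorem D24577 : act 0 n20214 = n24577 := rfl
theorem F49863 : act 3 n24577 = n20215 := d2_2 (iv F38306) D24577 (iv D20215)
def n24578 : Q := act 2 n20214
theorem D24578 : act 2 n20214 = n24578 := rfl
def n24579 : Q := act 5 n20214
theorem D24579 : act 5 n20214 = n24579 := rfl
theorem F49864 : act 3 n24579 = n20217 := d16_1 D24579 (iv D20217) (iv F38306)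
def n24580 : Q := act 1 n20215
theorem D24580 : act 1 n20215 = n24580 := rfl
theorem F49865 : act 4 n24580 = n20507 := d8_2 (iv F38307) D24580 (iv D20507)
theorem F49866 : act 2 n21703 = n24580 := d12_3 F49865 (iv F38930) (iv F42051)
theorem F49867 : act 6 n21701 = n24580 := d19_0 F49865 F38929 (iv F42046)
def n24581 : Q := act 2 n20215
theorem D24581 : act 2 n20215 = n24581 := rfl
theorem F49868 : act 0 n24581 = n20216 := d1_1 D24581 (iv D20216) D20215
theorem F49869 : act 4 n24581 = n20508 := d12_2 (iv F38307) D24581 (iv D20508)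
theorem F49870 : act 3 n22725 = n24581 := d15_5 F49869 F39827 F32851 (iv F31096) (iv F44726)
theorem F49871 : act 5 n22701 = n24581 := d18_0 F49869 F39836 D22701
def n24582 : Q := act 5 n20215
theorem D24582 : act 5 n20215 = n24582 := rfl
theorem F49872 : act 0 n24582 = n20217 := d4_1 D24582 (iv D20217) D20215
theorem F49873 : act 2 n24582 = n22701 := d13_1 D24582 F49871 (iv D24581)
theorem F49874 : act 4 n24582 = n20509 := d18_1 D24582 (iv D20509) (iv F38307)
theorem F49875 : act 6 n24582 = n23981 := d22_1 D24582 (iv D23981) F37006 D20215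
def n24583 : Q := act 5 n20216
theorem D24583 : act 5 n20216 = n24583 := rfl
theorem F49876 : act 0 n24583 = n22701 := d4_1 D24583 F49871 F49868
theorem F49877 : act 2 n24583 = n20217 := d13_1 D24583 (iv D20217) D20216
theorem F49878 : act 3 n24583 = n22723 := d16_1 D24583 F44721 F44675
theorem F49879 : act 4 n24583 = n20511 := d18_1 D24583 (iv D20511) (iv F38309)
theorem F49880 : act 1 n23889 = n24583 := d8_3 F49879 (iv F38935) (iv F47975)
def n24584 : Q := act 6 n20217
theorem D24584 : act 6 n20217 = n24584 := rfl
theorem F49881 : act 0 n24584 = n23981 := d5_1 D24584 (iv F49875) F49872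
theorem F49882 : act 4 n24584 = n20512 := d19_1 D24584 (iv D20512) (iv F38310)
theorem F49883 : act 5 n24584 = n23979 := d20_1 D24584 F48287 D24582 F49875 (iv D23981) F37006 D20217
def n24585 : Q := act 2 n20218
theorem D24585 : act 2 n20218 = n24585 := rfl
theorem F49884 : act 0 n24585 = n21116 := d1_1 D24585 (iv D21116) (iv F38311)
theorem F49885 : act 4 n24585 = n20513 := d12_2 (iv F38312) D24585 (iv D20513)
theorem F49886 : act 5 n24585 = n21117 := d13_2 (iv F38313) D24585 (iv D21117)
theorem F49887 : act 6 n24585 = n21876 := d14_2 F40771 D24585 F42436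
def n24586 : Q := act 1 n20219
theorem D24586 : act 1 n20219 = n24586 := rfl
theorem F49888 : act 4 n24586 = n20514 := d8_2 (iv F38315) D24586 (iv D20514)
theorem F49889 : act 0 n22624 = n24586 := d3_3 F49888 (iv F39843) D22624
def n24587 : Q := act 3 n20219
theorem D24587 : act 3 n20219 = n24587 := rfl
theorem F49890 : act 0 n24587 = n20220 := d2_1 D24587 (iv D20220) (iv F38314)
theorem F49891 : act 4 n24587 = n22992 := d15_2 (iv F38315) D24587 F45531 (iv F39824) (iv D20515)
theorem F49892 : act 6 n24587 = n20224 := d17_2 (iv F38316) D24587 (iv D20224)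
def n24588 : Q := act 2 n20220
theorem D24588 : act 2 n20220 = n24588 := rfl
theorem F49893 : act 4 n24588 = n23026 := d12_2 F44464 D24588 F45644
theorem F49894 : act 6 n24588 = n20226 := d14_2 (iv F38317) D24588 (iv D20226)
theorem F49895 : act 1 n22937 = n24588 := d10_5 F49894 F39820 (iv D18428) D18427 D22937
def n24589 : Q := act 5 n20220
theorem D24589 : act 5 n20220 = n24589 := rfl
theorem F49896 : act 3 n24589 = n20221 := d16_1 D24589 (iv D20221) D20220
def n24590 : Q := act 1 n20221
theorem D24590 : act 1 n20221 = n24590 := rfl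
theorem F49897 : act 2 n24590 = n23885 := d6_2 (iv F38318) D24590 F47962 (iv F37099) F26204
theorem F49898 : act 4 n24590 = n20519 := d8_2 (iv F38319) D24590 (iv D20519)
theorem F49899 : act 5 n24590 = n23889 := d9_2 D20221 D24590 F49880 (iv D24583) F38308
theorem F49900 : act 0 n24590 = n23886 := d23_3 D14984 (iv F38318) D24590 F47968 (iv D19555) (iv D14356) F19895 F19891 (iv F25011) D19522 F40699 F40698 D21090 F40704 (iv F40762) (iv F49886) (iv D24585) (iv D20218) (iv D14982)
def n24591 : Q := act 1 n20222
theorem D24591 : act 1 n20222 = n24591 := rfl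
theorem F49901 : act 2 n24591 = n20223 := d6_2 D20222 D24591 (iv D20223) (iv D14986) D14985
theorem F49902 : act 4 n24591 = n20520 := d8_2 (iv F38320) D24591 (iv D20520)
theorem F49903 : act 6 n24591 = n22112 := d10_2 F41925 D24591 F43028 F42422 F42405
def n24592 : Q := act 3 n20222
theorem D24592 : act 3 n20222 = n24592 := rfl
theorem F49904 : act 5 n24592 = n21676 := d16_2 (iv F38321) D24592 F41989
def n24593 : Q := act 0 n20223
theorem D24593 : act 0 n20223 = n24593 := rfl
theorem F49905 : act 3 n24593 = n24262 := d2_2 F39812 D24593 F48996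
theorem F49906 : act 4 n24593 = n20522 := d3_2 (iv F38322) D24593 (iv D20522)
def n24594 : Q := act 5 n20223
theorem D24594 : act 5 n20223 = n24594 := rfl
theorem F49907 : act 3 n24594 = n24267 := d16_1 D24594 (iv D24267) F39812
theorem F49908 : act 4 n24594 = n20524 := d18_1 D24594 (iv D20524) (iv F38322)
def n24595 : Q := act 6 n20223
theorem D24595 : act 6 n20223 = n24595 := rfl
theorem F49909 : act 2 n24595 = n22112 := d14_1 D24595 (iv F49903) F49901
theorem F49910 : act 3 n24595 = n24254 := d17_1 D24595 F48989 F39812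
theorem F49911 : act 4 n24595 = n20525 := d19_1 D24595 (iv D20525) (iv F38322)
theorem F49912 : act 5 n22111 = n24595 := d18_0 F49911 F39557 D22111
def n24596 : Q := act 2 n20224
theorem D24596 : act 2 n20224 = n24596 := rfl
theorem F49913 : act 0 n24596 = n20226 := d1_1 D24596 (iv D20226) (iv F38323)
theorem F49914 : act 4 n24596 = n22231 := d12_2 F39815 D24596 F43338
theorem F49915 : act 3 n24596 = n24524 := d21_1 D24596 (iv D24524) (iv D20175) (iv D14962) F20401 D11527 D14988 (iv F38323)
theorem F49916 : act 1 n22233 = n24596 := d8_3 F49914 F43337 D22233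
def n24597 : Q := act 5 n20224
theorem D24597 : act 5 n20224 = n24597 := rfl
theorem F49917 : act 0 n24597 = n20228 := d4_1 D24597 (iv D20228) (iv F38323)
theorem F49918 : act 3 n24597 = n20225 := d16_1 D24597 (iv D20225) D20224
theorem F49919 : act 4 n24597 = n22990 := d18_1 D24597 F45527 F39815
theorem F49920 : act 6 n24597 = n24589 := d22_1 D24597 (iv D24589) F38317 (iv F38323)
def n24598 : Q := act 1 n20225
theorem D24598 : act 1 n20225 = n24598 := rfl
theorem F49921 : act 0 n24598 = n22526 := d0_1 D24598 F44120 (iv F30489) F41714 F41712 F28217 (iv F28244) F35277 (iv F38324)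
theorem F49922 : act 2 n24598 = n21317 := d6_2 (iv F38325) D24598 (iv D21317) F27945 (iv F26086)
theorem F49923 : act 4 n24598 = n20528 := d8_2 (iv F38326) D24598 (iv D20528)
def n24599 : Q := act 3 n20226
theorem D24599 : act 3 n20226 = n24599 := rfl
theorem F49924 : act 0 n24599 = n24524 := d2_1 D24599 (iv F49915) F49913
theorem F49925 : act 1 n24599 = n22935 := d7_1 D24599 F45384 (iv F39820)
theorem F49926 : act 2 n24599 = n24522 := d11_1 D24599 (iv D24522) (iv D20173) F26040 D14986 D20224 D24596 F49915 (iv D24524) (iv D20175) (iv D14962) F20401 D11527 D14988 D20226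
def n24600 : Q := act 5 n20226
theorem D24600 : act 5 n20226 = n24600 := rfl
theorem F49927 : act 1 n24600 = n22350 := d9_1 D24600 F43670 (iv F34562) (iv F32350) (iv F39820)
theorem F49928 : act 2 n24600 = n20228 := d13_1 D24600 (iv D20228) D20226
theorem F49929 : act 4 n24600 = n22348 := d18_1 D24600 F43666 F39819
def n24601 : Q := act 5 n20227
theorem D24601 : act 5 n20227 = n24601 := rfl
theorem F49930 : act 0 n24601 = n22990 := d4_1 D24601 F45527 (iv F39816)
theorem F49931 : act 2 n24601 = n22348 := d13_1 D24601 F43666 (iv F39817)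
theorem F49932 : act 3 n24601 = n20532 := d16_1 D24601 (iv D20532) (iv F38328)
theorem F49933 : act 4 n24601 = n20228 := d18_1 D24601 (iv D20228) D20227
def n24602 : Q := act 6 n20228
theorem D24602 : act 6 n20228 = n24602 := rfl
theorem F49934 : act 0 n24602 = n24589 := d5_1 D24602 (iv F49920) F49917
theorem F49935 : act 3 n24602 = n20229 := d17_1 D24602 (iv D20229) (iv F38329)
theorem F49936 : act 5 n24602 = n24587 := d20_1 D24602 F49892 D24597 F49920 (iv D24589) F38317 D20228
def n24603 : Q := act 1 n20229
theorem D24603 : act 1 n20229 = n24603 := rfl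
theorem F49937 : act 0 n24603 = n24603 := d0_1 D24603 (iv D24603) F38330 D24590 F49900 F47966 (iv F49900) (iv D24590) (iv F38330)
theorem F49938 : act 4 n24603 = n20534 := d8_2 (iv F38332) D24603 (iv D20534)
def n24604 : Q := act 3 n20230
theorem D24604 : act 3 n20230 = n24604 := rfl
theorem F49939 : act 0 n24604 = n20232 := d2_1 D24604 (iv D20232) (iv F38334)
theorem F49940 : act 1 n24604 = n22928 := d7_1 D24604 F45367 (iv F38335)
theorem F49941 : act 4 n24604 = n22926 := d15_2 (iv F38336) D24604 (iv D22926) F32335 (iv F35071)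
def n24605 : Q := act 3 n20231
theorem D24605 : act 3 n20231 = n24605 := rfl
theorem F49942 : act 1 n24605 = n20232 := d7_1 D24605 (iv D20232) D20231
theorem F49943 : act 4 n24605 = n21161 := d15_2 (iv F38338) D24605 (iv F40927) F40926 (iv D20535)
theorem F49944 : act 2 n21162 = n24605 := d12_3 F49943 (iv D21161) D21162
def n24606 : Q := act 5 n20231
theorem D24606 : act 5 n20231 = n24606 := rfl
theorem F49945 : act 2 n24606 = n20239 := d13_1 D24606 (iv D20239) (iv F38337)
theorem F49946 : act 4 n24606 = n20536 := d18_1 D24606 (iv D20536) (iv F38338)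
theorem F49947 : act 6 n24606 = n20239 := d22_1 D24606 (iv D20239) D20240 F38354
def n24607 : Q := act 2 n20232
theorem D24607 : act 2 n20232 = n24607 := rfl
def n24608 : Q := act 4 n20232
theorem D24608 : act 4 n20232 = n24608 := rfl
theorem F49948 : act 0 n24608 = n22926 := d3_1 D24608 (iv F49941) F49939
theorem F49949 : act 1 n24608 = n21161 := d8_1 D24608 (iv F49943) F49942
theorem F49950 : act 3 n24608 = n20537 := d15_1 D24608 (iv D20537) (iv D15212) (iv F26095) D20232
def n24609 : Q := act 5 n20232
theorem D24609 : act 5 n20232 = n24609 := rfl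
theorem F49951 : act 3 n24609 = n20233 := d16_1 D24609 (iv D20233) D20232
def n24610 : Q := act 6 n20232
theorem D24610 : act 6 n20232 = n24610 := rfl
theorem F49952 : act 3 n24610 = n20234 := d17_1 D24610 (iv D20234) D20232
def n24611 : Q := act 1 n20233
theorem D24611 : act 1 n20233 = n24611 := rfl
theorem F49953 : act 4 n24611 = n20539 := d8_2 (iv F38340) D24611 (iv D20539)
theorem F49954 : act 0 n21887 = n24611 := d3_3 F49953 (iv F44175) (iv F42459)
def n24612 : Q := act 6 n20233
theorem D24612 : act 6 n20233 = n24612 := rfl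
theorem F49955 : act 2 n24612 = n20235 := d14_1 D24612 (iv D20235) (iv F38339)
theorem F49956 : act 4 n24612 = n20540 := d19_1 D24612 (iv D20540) (iv F38340)
theorem F49957 : act 5 n24612 = n20466 := d22_2 D20233 D24612 F38838 F38334
def n24613 : Q := act 5 n20234
theorem D24613 : act 5 n20234 = n24613 := rfl
theorem F49958 : act 0 n24613 = n24612 := d4_1 D24613 F49957 (iv F38839)
theorem F49959 : act 2 n24613 = n20236 := d13_1 D24613 (iv D20236) (iv F38341)
theorem F49960 : act 4 n24613 = n20541 := d18_1 D24613 (iv D20541) (iv F38342)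
theorem F49961 : act 6 n24613 = n21485 := d20_2 D20234 D24613 F41579 (iv F38838) (iv F49957) (iv D24612) (iv D20233)
theorem F49962 : act 1 n24613 = n24024 := d24_2 D20234 D24613 F48414 (iv D20438) (iv D15125) D15126 F26359 D20363 F38642 D20366 F38646 (iv F49947) (iv D24606) (iv D20231)
def n24614 : Q := act 3 n20237
theorem D24614 : act 3 n20237 = n24614 := rfl
theorem F49963 : act 0 n24614 = n20238 := d2_1 D24614 (iv D20238) D20237
theorem F49964 : act 6 n24614 = n24605 := d17_2 F38351 D24614 (iv D24605)
def n24615 : Q := act 5 n20237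
theorem D24615 : act 5 n20237 = n24615 := rfl
theorem F49965 : act 0 n24615 = n20239 := d4_1 D24615 (iv D20239) D20237
theorem F49966 : act 1 n24615 = n21763 := d9_1 D24615 F42180 (iv F42174) (iv F41892) F41890
theorem F49967 : act 4 n24615 = n20543 := d18_1 D24615 (iv D20543) (iv F38350)
def n24616 : Q := act 2 n20238
theorem D24616 : act 2 n20238 = n24616 := rfl
def n24617 : Q := act 4 n20238
theorem D24617 : act 4 n20238 = n24617 := rfl
theorem F49968 : act 1 n24617 = n20242 := d8_1 D24617 (iv D20242) (iv F38352)
theorem F49969 : act 3 n24617 = n20545 := d15_1 D24617 (iv D20545) (iv D15218) (iv F26099) D20238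
theorem F49970 : act 6 n21183 = n24617 := d17_0 F49969 F38994 D21183
def n24618 : Q := act 5 n20238
theorem D24618 : act 5 n20238 = n24618 := rfl
theorem F49971 : act 3 n24618 = n20239 := d16_1 D24618 (iv D20239) D20238
def n24619 : Q := act 6 n20238
theorem D24619 : act 6 n20238 = n24619 := rfl
theorem F49972 : act 0 n24619 = n24605 := d5_1 D24619 (iv F49964) F49963
theorem F49973 : act 1 n24619 = n20339 := d10_1 D24619 (iv D20339) F26243 (iv F26101) (iv F38352)
theorem F49974 : act 3 n24619 = n20240 := d17_1 D24619 (iv D20240) D20238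
theorem F49975 : act 4 n24619 = n21183 := d19_1 D24619 F49970 (iv D24617)
def n24620 : Q := act 5 n20240
theorem D24620 : act 5 n20240 = n24620 := rfl
theorem F49976 : act 0 n24620 = n24606 := d4_1 D24620 (iv D24606) (iv F38354)
theorem F49977 : act 2 n24620 = n24615 := d13_1 D24620 (iv D24615) (iv F38356)
theorem F49978 : act 4 n24620 = n20547 := d18_1 D24620 (iv D20547) (iv F38357)
theorem F49979 : act 6 n24620 = n24615 := d20_2 D20240 D24620 (iv D24615) (iv F38351) D24606 F49947 (iv D20239)
def n24621 : Q := act 1 n20241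
theorem D24621 : act 1 n20241 = n24621 := rfl
theorem F49980 : act 3 n24621 = n24505 := d7_2 (iv F38360) D24621 F49687
theorem F49981 : act 5 n24621 = n24508 := d9_2 F38627 D24621 F49697 (iv F49783) F49782
def n24622 : Q := act 4 n20241
theorem D24622 : act 4 n20241 = n24622 := rfl
theorem F49982 : act 0 n24622 = n20245 := d3_1 D24622 (iv D20245) (iv F38358)
theorem F49983 : act 2 n24622 = n20242 := d12_1 D24622 (iv D20242) D20241
theorem F49984 : act 6 n24622 = n20342 := d19_2 (iv F38359) D24622 (iv D20342)
def n24623 : Q := act 0 n20243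
theorem D24623 : act 0 n20243 = n24623 := rfl
def n24624 : Q := act 3 n20243
theorem D24624 : act 3 n20243 = n24624 := rfl
theorem F49985 : act 1 n24624 = n20244 := d7_1 D24624 (iv D20244) D20243
theorem F49986 : act 6 n24624 = n23115 := d17_2 F48345 D24624 (iv F48344)
theorem F49987 : act 2 n24624 = n21682 := d21_4 D23115 (iv F48344) F48343 D24624 F42003 F34669 (iv F45904) (iv D23114)
theorem F49988 : act 4 n21681 = n24624 := d12_0 F49987 (iv D21682) D21681
def n24625 : Q := act 4 n20243
theorem D24625 : act 4 n20243 = n24625 := rfl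
theorem F49989 : act 1 n24625 = n20245 := d8_1 D24625 (iv D20245) D20243
def n24626 : Q := act 5 n20243
theorem D24626 : act 5 n20243 = n24626 := rfl
def n24627 : Q := act 5 n20244
theorem D24627 : act 5 n20244 = n24627 := rfl
theorem F49990 : act 0 n24627 = n24535 := d4_1 D24627 (iv D24535) (iv F38364)
theorem F49991 : act 2 n24627 = n20297 := d13_1 D24627 F38481 (iv F38365)
theorem F49992 : act 3 n24627 = n20246 := d16_1 D24627 (iv D20246) D20244
theorem F49993 : act 6 n24627 = n20294 := d20_2 (iv F38366) D24627 (iv D20294) (iv F38239) D24535 F49774 (iv D20351)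
def n24628 : Q := act 3 n20245
theorem D24628 : act 3 n20245 = n24628 := rfl
theorem F49994 : act 6 n24628 = n20352 := d17_2 (iv F38368) D24628 (iv D20352)
def n24629 : Q := act 5 n20245
theorem D24629 : act 5 n20245 = n24629 := rfl
theorem F49995 : act 2 n24629 = n20247 := d13_1 D24629 (iv D20247) (iv F38367)
theorem F49996 : act 4 n24629 = n20246 := d18_1 D24629 (iv D20246) D20245
def n24630 : Q := act 1 n20246
theorem D24630 : act 1 n20246 = n24630 := rfl
def n24631 : Q := act 1 n20247
theorem D24631 : act 1 n20247 = n24631 := rfl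
theorem F49997 : act 3 n24631 = n20549 := d7_2 (iv F38370) D24631 (iv D20549)
theorem F49998 : act 4 n24631 = n20248 := d8_2 (iv F38371) D24631 (iv D20248)
def n24632 : Q := act 0 n20248
theorem D24632 : act 0 n20248 = n24632 := rfl
theorem F49999 : act 3 n24632 = n20249 := d2_2 (iv F38372) D24632 (iv D20249)
def n24633 : Q := act 2 n20248
theorem D24633 : act 2 n20248 = n24633 := rfl
def n24634 : Q := act 6 n20248
theorem D24634 : act 6 n20248 = n24634 := rfl
theorem F50000 : act 3 n24634 = n20251 := d17_1 D24634 (iv D20251) (iv F38372)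
def n24635 : Q := act 1 n20249
theorem D24635 : act 1 n20249 = n24635 := rfl
theorem F50001 : act 4 n24635 = n20553 := d8_2 (iv F38373) D24635 (iv D20553)
theorem F50002 : act 2 n21543 = n24635 := d12_3 F50001 F39009 (iv F41704)
theorem F50003 : act 5 n21542 = n24635 := d18_0 F50001 (iv F39008) (iv F41702)
def n24636 : Q := act 2 n20249
theorem D24636 : act 2 n20249 = n24636 := rfl
theorem F50004 : act 0 n24636 = n20250 := d1_1 D24636 (iv D20250) D20249
theorem F50005 : act 4 n24636 = n20554 := d12_2 (iv F38373) D24636 (iv D20554)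
theorem F50006 : act 3 n22689 = n24636 := d15_5 F50005 F39683 F32692 (iv F30861) (iv F44623)
theorem F50007 : act 6 n22656 = n24636 := d19_0 F50005 F39692 D22656
def n24637 : Q := act 6 n20249
theorem D24637 : act 6 n20249 = n24637 := rfl
theorem F50008 : act 0 n24637 = n20251 := d5_1 D24637 (iv D20251) D20249
theorem F50009 : act 2 n24637 = n22656 := d14_1 D24637 F50007 (iv D24636)
theorem F50010 : act 4 n24637 = n20555 := d19_1 D24637 (iv D20555) (iv F38373)
theorem F50011 : act 5 n24637 = n24006 := d22_2 F48354 D24637 (iv D24006) D24004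
def n24638 : Q := act 6 n20250
theorem D24638 : act 6 n20250 = n24638 := rfl
theorem F50012 : act 0 n24638 = n22656 := d5_1 D24638 F50007 F50004
theorem F50013 : act 2 n24638 = n20251 := d14_1 D24638 (iv D20251) D20250
theorem F50014 : act 3 n24638 = n22687 := d17_1 D24638 F44618 F44549
theorem F50015 : act 4 n24638 = n20557 := d19_1 D24638 (iv D20557) (iv F38375)
theorem F50016 : act 1 n23880 = n24638 := d8_3 F50015 (iv F39014) (iv F47952)
def n24639 : Q := act 5 n20251
theorem D24639 : act 5 n20251 = n24639 := rfl
theorem F50017 : act 0 n24639 = n24006 := d4_1 D24639 (iv F50011) F50008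
theorem F50018 : act 4 n24639 = n20558 := d18_1 D24639 (iv D20558) (iv F38376)
theorem F50019 : act 6 n24639 = n24004 := d20_2 D20251 D24639 F48354 D24637 F50011 (iv D24006) F37039
def n24640 : Q := act 2 n20252
theorem D24640 : act 2 n20252 = n24640 := rfl
theorem F50020 : act 0 n24640 = n21109 := d1_1 D24640 (iv D21109) (iv F38377)
theorem F50021 : act 4 n24640 = n20559 := d12_2 (iv F38378) D24640 (iv D20559)
theorem F50022 : act 5 n24640 = n21825 := d13_2 F40755 D24640 F42317
theorem F50023 : act 6 n24640 = n21110 := d14_2 (iv F38379) D24640 (iv D21110)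
def n24641 : Q := act 1 n20253
theorem D24641 : act 1 n20253 = n24641 := rfl
theorem F50024 : act 4 n24641 = n20560 := d8_2 (iv F38381) D24641 (iv D20560)
theorem F50025 : act 0 n22578 = n24641 := d3_3 F50024 (iv F39699) D22578
def n24642 : Q := act 3 n20253
theorem D24642 : act 3 n20253 = n24642 := rfl
theorem F50026 : act 0 n24642 = n20254 := d2_1 D24642 (iv D20254) (iv F38380)
theorem F50027 : act 4 n24642 = n22988 := d15_2 (iv F38381) D24642 F45521 (iv F39680) (iv D20561)
theorem F50028 : act 5 n24642 = n20258 := d16_2 (iv F38382) D24642 (iv D20258)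
def n24643 : Q := act 2 n20254
theorem D24643 : act 2 n20254 = n24643 := rfl
theorem F50029 : act 4 n24643 = n23001 := d12_2 F44298 D24643 F45560
theorem F50030 : act 5 n24643 = n20260 := d13_2 (iv F38383) D24643 (iv D20260)
theorem F50031 : act 1 n22908 = n24643 := d9_5 F50030 F39797 (iv D18407) D18406 D22908
def n24644 : Q := act 6 n20254
theorem D24644 : act 6 n20254 = n24644 := rfl
theorem F50032 : act 3 n24644 = n20255 := d17_1 D24644 (iv D20255) D20254
def n24645 : Q := act 1 n20255
theorem D24645 : act 1 n20255 = n24645 := rfl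
theorem F50033 : act 2 n24645 = n23876 := d6_2 (iv F38384) D24645 F47939 F37141 F26261
theorem F50034 : act 4 n24645 = n20565 := d8_2 (iv F38385) D24645 (iv D20565)
theorem F50035 : act 6 n24645 = n23880 := d10_2 D20255 D24645 F50016 (iv D24638) F38374
theorem F50036 : act 0 n23877 = n24645 := d5_3 F50035 F47951 (iv F47945)
def n24646 : Q := act 1 n20256
theorem D24646 : act 1 n20256 = n24646 := rfl
theorem F50037 : act 2 n24646 = n20257 := d6_2 D20256 D24646 (iv D20257) (iv D15005) D15004
theorem F50038 : act 4 n24646 = n20521 := d8_2 (iv F38386) D24646 F39643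
theorem F50039 : act 5 n24646 = n22323 := d9_2 F41582 D24646 F43571 F42297 F42287
def n24647 : Q := act 3 n20256
theorem D24647 : act 3 n20256 = n24647 := rfl
theorem F50040 : act 6 n24647 = n21517 := d17_2 (iv F38387) D24647 F41645
def n24648 : Q := act 0 n20257
theorem D24648 : act 0 n20257 = n24648 := rfl
theorem F50041 : act 3 n24648 = n24281 := d2_2 (iv F39796) D24648 F49038
theorem F50042 : act 4 n24648 = n20568 := d3_2 (iv F38388) D24648 (iv D20568)
def n24649 : Q := act 5 n20257
theorem D24649 : act 5 n20257 = n24649 := rfl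
theorem F50043 : act 2 n24649 = n22323 := d13_1 D24649 (iv F50039) F50037
theorem F50044 : act 3 n24649 = n24273 := d16_1 D24649 F49031 (iv F39796)
theorem F50045 : act 4 n24649 = n20570 := d18_1 D24649 (iv D20570) (iv F38388)
theorem F50046 : act 6 n22322 = n24649 := d19_0 F50045 F39805 D22322
def n24650 : Q := act 6 n20257
theorem D24650 : act 6 n20257 = n24650 := rfl
theorem F50047 : act 3 n24650 = n24286 := d17_1 D24650 (iv D24286) (iv F39796)
theorem F50048 : act 4 n24650 = n20571 := d19_1 D24650 (iv D20571) (iv F38388)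
def n24651 : Q := act 2 n20258
theorem D24651 : act 2 n20258 = n24651 := rfl
theorem F50049 : act 0 n24651 = n20260 := d1_1 D24651 (iv D20260) (iv F38389)
theorem F50050 : act 4 n24651 = n22422 := d12_2 (iv F39794) D24651 F43876
theorem F50051 : act 3 n24651 = n24544 := d21_1 D24651 (iv D24544) (iv D20193) (iv D14970) F20410 D11535 D15007 (iv F38389)
theorem F50052 : act 1 n22424 = n24651 := d8_3 F50050 F43875 D22424
def n24652 : Q := act 6 n20258
theorem D24652 : act 6 n20258 = n24652 := rfl
theorem F50053 : act 0 n24652 = n20262 := d5_1 D24652 (iv D20262) (iv F38389)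
theorem F50054 : act 3 n24652 = n20259 := d17_1 D24652 (iv D20259) D20258
theorem F50055 : act 4 n24652 = n22986 := d19_1 D24652 F45517 (iv F39794)
theorem F50056 : act 5 n24652 = n24644 := d22_2 F50028 D24652 (iv D24644) (iv F50026)
def n24653 : Q := act 1 n20259
theorem D24653 : act 1 n20259 = n24653 := rfl
theorem F50057 : act 0 n24653 = n22467 := d0_1 D24653 F43983 (iv F30364) F42058 F42056 F28419 (iv F28446) F28447 (iv F38390)
theorem F50058 : act 2 n24653 = n21278 := d6_2 (iv F38391) D24653 (iv D21278) F27865 (iv F26117)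
theorem F50059 : act 4 n24653 = n20574 := d8_2 (iv F38392) D24653 (iv D20574)
def n24654 : Q := act 3 n20260
theorem D24654 : act 3 n20260 = n24654 := rfl
theorem F50060 : act 0 n24654 = n24544 := d2_1 D24654 (iv F50051) F50049
theorem F50061 : act 1 n24654 = n22906 := d7_1 D24654 F45315 (iv F39797)
theorem F50062 : act 2 n24654 = n24542 := d11_1 D24654 (iv D24542) (iv D20191) F26057 D15005 D20258 D24651 F50051 (iv D24544) (iv D20193) (iv D14970) F20410 D11535 D15007 D20260
def n24655 : Q := act 6 n20260
theorem D24655 : act 6 n20260 = n24655 := rfl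
theorem F50063 : act 1 n24655 = n22142 := d10_1 D24655 F43114 (iv F32218) (iv F32311) (iv F39797)
theorem F50064 : act 2 n24655 = n20262 := d14_1 D24655 (iv D20262) D20260
theorem F50065 : act 4 n24655 = n22140 := d19_1 D24655 F43111 F39792
def n24656 : Q := act 6 n20261
theorem D24656 : act 6 n20261 = n24656 := rfl
theorem F50066 : act 0 n24656 = n22986 := d5_1 D24656 F45517 F39793
theorem F50067 : act 2 n24656 = n22140 := d14_1 D24656 F43111 (iv F39790)
theorem F50068 : act 3 n24656 = n20578 := d17_1 D24656 (iv D20578) (iv F38394)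
theorem F50069 : act 4 n24656 = n20262 := d19_1 D24656 (iv D20262) D20261
def n24657 : Q := act 5 n20262
theorem D24657 : act 5 n20262 = n24657 := rfl
theorem F50070 : act 0 n24657 = n24644 := d4_1 D24657 (iv F50056) F50053
theorem F50071 : act 3 n24657 = n20263 := d16_1 D24657 (iv D20263) (iv F38395)
theorem F50072 : act 6 n24657 = n24642 := d20_2 D20262 D24657 F50028 D24652 F50056 (iv D24644) F38383
def n24658 : Q := act 1 n20263
theorem D24658 : act 1 n20263 = n24658 := rfl
theorem F50073 : act 0 n24658 = n24658 := d0_1 D24658 (iv D24658) F38396 D24645 (iv F50036) F47943 F50036 (iv D24645) (iv F38396)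
theorem F50074 : act 4 n24658 = n20580 := d8_2 (iv F38398) D24658 (iv D20580)
def n24659 : Q := act 2 n20265
theorem D24659 : act 2 n20265 = n24659 := rfl
theorem F50075 : act 4 n24659 = n21330 := d12_2 (iv F38406) D24659 (iv D21330)
theorem F50076 : act 5 n24659 = n24027 := d13_2 F38408 D24659 (iv D24027)
theorem F50077 : act 6 n24659 = n20270 := d14_2 (iv F38407) D24659 (iv D20270)
def n24660 : Q := act 0 n20268
theorem D24660 : act 0 n20268 = n24660 := rfl
theorem F50078 : act 1 n24660 = n21337 := d0_2 D20268 D24660 (iv D21337) (iv D16163) F21439 D12158 F41326 (iv D15019) (iv F26131)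
theorem F50079 : act 4 n24660 = n21337 := d3_2 (iv F38417) D24660 (iv D21337)
theorem F50080 : act 6 n24660 = n21360 := d5_2 F41311 D24660 (iv F41331)
def n24661 : Q := act 2 n20268
theorem D24661 : act 2 n20268 = n24661 := rfl
theorem F50081 : act 1 n24661 = n20270 := d6_1 D24661 (iv D20270) (iv D15015) (iv F26132) D20268
theorem F50082 : act 4 n24661 = n21338 := d12_2 (iv F38417) D24661 (iv D21338)
def n24662 : Q := act 2 n20269
theorem D24662 : act 2 n20269 = n24662 := rfl
theorem F50083 : act 0 n24662 = n20270 := d1_1 D24662 (iv D20270) D20269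
theorem F50084 : act 4 n24662 = n21341 := d12_2 (iv F38419) D24662 (iv D21341)
def n24663 : Q := act 3 n20270
theorem D24663 : act 3 n20270 = n24663 := rfl
theorem F50085 : act 2 n24663 = n24064 := d21_2 D20270 D24663 F48516 F37214 (iv F37107) F37106 (iv F38418) (iv D20269)
theorem F50086 : act 5 n24062 = n24663 := d13_0 F50085 (iv D24064) D24062
def n24664 : Q := act 5 n20270
theorem D24664 : act 5 n20270 = n24664 := rfl
theorem F50087 : act 2 n24664 = n20271 := d13_1 D24664 (iv D20271) D20270
theorem F50088 : act 3 n24664 = n24062 := d16_1 D24664 F50086 (iv D24663)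
theorem F50089 : act 4 n24664 = n21344 := d18_1 D24664 (iv D21344) (iv F38420)
theorem F50090 : act 6 n24664 = n21239 := d22_3 (iv F50076) F50077 D24664 (iv F48426)
def n24665 : Q := act 0 n20272
theorem D24665 : act 0 n20272 = n24665 := rfl
theorem F50091 : act 1 n24665 = n21138 := d0_2 D20272 D24665 F40839 F27646 (iv F27649) (iv F37090) F37089 (iv F27751) F26207
theorem F50092 : act 2 n24665 = n24665 := d1_2 F38425 D24665 (iv D24665)
def n24666 : Q := act 4 n20272
theorem D24666 : act 4 n20272 = n24666 := rfl
theorem F50093 : act 1 n24666 = n20273 := d8_1 D24666 (iv D20273) D20272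
theorem F50094 : act 2 n24666 = n24666 := d12_1 D24666 (iv D24666) F38425
theorem F50095 : act 5 n24665 = n24666 := d23_0 F50094 F50093 (iv F38536) (iv F41272) (iv D21333) F27970 F21438 (iv F21356) D16052 (iv F33620) (iv D18783) (iv F28192) F28190 (iv F38187) F38186 F26034 D15016 D20272 D24665
def n24667 : Q := act 5 n20272
theorem D24667 : act 5 n20272 = n24667 := rfl
theorem F50096 : act 0 n24667 = n24666 := d4_1 D24667 (iv F50095) (iv D24665)
theorem F50097 : act 1 n24667 = n24477 := d9_1 D24667 (iv F49677) F49675 F38190 D20272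
theorem F50098 : act 2 n24667 = n24667 := d13_1 D24667 (iv D24667) F38425
theorem F50099 : act 4 n24667 = n24665 := d18_1 D24667 F50095 (iv D24666)
def n24668 : Q := act 6 n20272
theorem D24668 : act 6 n20272 = n24668 := rfl
theorem F50100 : act 2 n24668 = n24668 := d14_1 D24668 (iv D24668) F38425
def n24669 : Q := act 3 n20273
theorem D24669 : act 3 n20273 = n24669 := rfl
theorem F50101 : act 5 n24669 = n23195 := d16_2 F49715 D24669 F49717
theorem F50102 : act 2 n24669 = n23197 := d21_2 (iv F38426) D24669 F46099 F33685 (iv F28191) F28190 F38184 F38185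
def n24670 : Q := act 6 n20273
theorem D24670 : act 6 n20273 = n24670 := rfl
theorem F50103 : act 2 n24670 = n20275 := d14_1 D24670 (iv D20275) (iv F38426)
theorem F50104 : act 4 n24670 = n20274 := d19_1 D24670 (iv D20274) D20273
def n24671 : Q := act 1 n20274
theorem D24671 : act 1 n20274 = n24671 := rfl
def n24672 : Q := act 1 n20275
theorem D24672 : act 1 n20275 = n24672 := rfl
theorem F50105 : act 3 n24672 = n21350 := d7_2 (iv F38428) D24672 (iv D21350)
theorem F50106 : act 4 n24672 = n20276 := d8_2 (iv F38429) D24672 (iv D20276)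
theorem F50107 : act 6 n24672 = n24672 := d10_2 D20275 D24672 (iv D24672) (iv D20275) F26137
theorem F50108 : act 0 n21350 = n24672 := d3_3 F50106 F41328 (iv F41303)
def n24673 : Q := act 2 n20276
theorem D24673 : act 2 n20276 = n24673 := rfl
theorem F50109 : act 0 n24673 = n21352 := d1_1 D24673 (iv D21352) (iv F41328)
theorem F50110 : act 6 n24673 = n24673 := d14_2 F38431 D24673 (iv D24673)
def n24674 : Q := act 5 n20276
theorem D24674 : act 5 n20276 = n24674 := rfl
theorem F50111 : act 0 n24674 = n21353 := d4_1 D24674 (iv D21353) (iv F41328)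
theorem F50112 : act 3 n24674 = n20279 := d16_1 D24674 (iv D20279) (iv F38430)
theorem F50113 : act 6 n24674 = n21353 := d22_1 D24674 (iv D21353) F27985 (iv F41328)
def n24675 : Q := act 1 n20277
theorem D24675 : act 1 n20277 = n24675 := rfl
theorem F50114 : act 3 n24675 = n20280 := d7_2 (iv F38433) D24675 (iv D20280)
def n24676 : Q := act 1 n20279
theorem D24676 : act 1 n20279 = n24676 := rfl
theorem F50115 : act 0 n24676 = n21335 := d0_1 D24676 (iv D21335) (iv F41004) F41005 (iv F27986) D21354 F41331 (iv D21360) (iv F41329)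
theorem F50116 : act 4 n24676 = n21360 := d8_2 (iv F38437) D24676 (iv D21360)
theorem F50117 : act 5 n24676 = n20280 := d9_2 D20279 D24676 (iv D20280) (iv D15020) D15019
theorem F50118 : act 6 n24676 = n21337 := d10_2 (iv F41330) D24676 (iv F50078) F50080 (iv D21360)
def n24677 : Q := act 0 n20280
theorem D24677 : act 0 n20280 = n24677 := rfl
theorem F50119 : act 4 n24677 = n21361 := d3_2 (iv F38438) D24677 (iv D21361)
theorem F50120 : act 5 n24677 = n21335 := d4_2 F50117 D24677 (iv F50115)
def n24678 : Q := act 2 n20280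
theorem D24678 : act 2 n20280 = n24678 := rfl
theorem F50121 : act 1 n24678 = n20282 := d6_1 D24678 (iv D20282) (iv D15021) (iv F26143) D20280
theorem F50122 : act 4 n24678 = n21362 := d12_2 (iv F38438) D24678 (iv D21362)
def n24679 : Q := act 6 n20282
theorem D24679 : act 6 n20282 = n24679 := rfl
theorem F50123 : act 2 n24679 = n20283 := d14_1 D24679 (iv D20283) D20282
theorem F50124 : act 4 n24679 = n21380 := d19_1 D24679 (iv D21380) (iv F38442)
def n24680 : Q := act 5 n20283
theorem D24680 : act 5 n20283 = n24680 := rfl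
theorem F50125 : act 0 n24680 = n21471 := d4_1 D24680 F41544 (iv F41036)
theorem F50126 : act 3 n24680 = n20336 := d16_1 D24680 (iv D20336) (iv F38444)
theorem F50127 : act 4 n24680 = n21381 := d18_1 D24680 (iv D21381) (iv F38445)
theorem F50128 : act 6 n24680 = n21469 := d20_2 D20283 D24680 F41538 (iv F41035) (iv F41544) (iv D21471) F28092
def n24681 : Q := act 2 n20284
theorem D24681 : act 2 n20284 = n24681 := rfl
theorem F50129 : act 4 n24681 = n21404 := d12_2 (iv F38447) D24681 (iv D21404)
theorem F50130 : act 5 n24681 = n20290 := d13_2 (iv F38448) D24681 (iv D20290)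
theorem F50131 : act 6 n24681 = n24035 := d14_2 F38449 D24681 (iv D24035)
def n24682 : Q := act 0 n20288
theorem D24682 : act 0 n20288 = n24682 := rfl
theorem F50132 : act 1 n24682 = n21411 := d0_2 D20288 D24682 (iv D21411) (iv D16208) F21468 D12181 (iv F37353) (iv D15031) (iv F26154)
theorem F50133 : act 4 n24682 = n21411 := d3_2 (iv F38463) D24682 (iv D21411)
theorem F50134 : act 5 n24682 = n21429 := d4_2 F41442 D24682 F41456
def n24683 : Q := act 2 n20288
theorem D24683 : act 2 n20288 = n24683 := rfl
theorem F50135 : act 1 n24683 = n20290 := d6_1 D24683 (iv D20290) (iv D15027) (iv F26155) D20288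
theorem F50136 : act 4 n24683 = n21412 := d12_2 (iv F38463) D24683 (iv D21412)
def n24684 : Q := act 2 n20289
theorem D24684 : act 2 n20289 = n24684 := rfl
theorem F50137 : act 0 n24684 = n20290 := d1_1 D24684 (iv D20290) D20289
theorem F50138 : act 4 n24684 = n21415 := d12_2 (iv F38465) D24684 (iv D21415)
def n24685 : Q := act 3 n20290
theorem D24685 : act 3 n20290 = n24685 := rfl
theorem F50139 : act 2 n24685 = n24115 := d21_2 D20290 D24685 F48637 F37300 (iv F37149) F37148 (iv F38464) (iv D20289)
theorem F50140 : act 6 n24113 = n24685 := d14_0 F50139 (iv D24115) D24113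
def n24686 : Q := act 6 n20290
theorem D24686 : act 6 n20290 = n24686 := rfl
theorem F50141 : act 2 n24686 = n20291 := d14_1 D24686 (iv D20291) D20290
theorem F50142 : act 3 n24686 = n24113 := d17_1 D24686 F50140 (iv D24685)
theorem F50143 : act 4 n24686 = n21417 := d19_1 D24686 (iv D21417) (iv F38466)
theorem F50144 : act 5 n21215 = n24686 := d22_0 (iv D24686) (iv F50130) F50131 F48455
def n24687 : Q := act 0 n20292
theorem D24687 : act 0 n20292 = n24687 := rfl
theorem F50145 : act 1 n24687 = n21142 := d0_2 D20292 D24687 F40845 F27647 (iv F27658) (iv F37132) F37131 F34692 F26264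
theorem F50146 : act 2 n24687 = n24687 := d1_2 F38471 D24687 (iv D24687)
def n24688 : Q := act 4 n20292
theorem D24688 : act 4 n20292 = n24688 := rfl
theorem F50147 : act 1 n24688 = n20293 := d8_1 D24688 (iv D20293) D20292
theorem F50148 : act 2 n24688 = n24688 := d12_1 D24688 (iv D24688) F38471
theorem F50149 : act 6 n24687 = n24688 := d10_0 F50147 (iv F49767) F49765 F40987 (iv F50145)
def n24689 : Q := act 5 n20292
theorem D24689 : act 5 n20292 = n24689 := rfl
theorem F50150 : act 2 n24689 = n24689 := d13_1 D24689 (iv D24689) F38471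
def n24690 : Q := act 6 n20292
theorem D24690 : act 6 n20292 = n24690 := rfl
theorem F50151 : act 0 n24690 = n24688 := d5_1 D24690 (iv F50149) (iv D24687)
theorem F50152 : act 1 n24690 = n24481 := d10_1 D24690 (iv F49690) F49687 F38239 D20292
theorem F50153 : act 2 n24690 = n24690 := d14_1 D24690 (iv D24690) F38471
theorem F50154 : act 4 n24690 = n24687 := d19_1 D24690 F50149 (iv D24688)
def n24691 : Q := act 3 n20293
theorem D24691 : act 3 n20293 = n24691 := rfl
theorem F50155 : act 6 n24691 = n23271 := d17_2 F49767 D24691 F49769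
theorem F50156 : act 2 n24691 = n23274 := d21_2 (iv F38472) D24691 F46285 F33774 (iv F34676) F34675 F38233 F38234
def n24692 : Q := act 5 n20293
theorem D24692 : act 5 n20293 = n24692 := rfl
theorem F50157 : act 2 n24692 = n20295 := d13_1 D24692 (iv D20295) (iv F38472)
theorem F50158 : act 4 n24692 = n20294 := d18_1 D24692 (iv D20294) D20293
def n24693 : Q := act 1 n20294
theorem D24693 : act 1 n20294 = n24693 := rfl
def n24694 : Q := act 1 n20295
theorem D24694 : act 1 n20295 = n24694 := rfl
theorem F50159 : act 3 n24694 = n21423 := d7_2 (iv F38474) D24694 (iv D21423)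
theorem F50160 : act 4 n24694 = n20296 := d8_2 (iv F38475) D24694 (iv D20296)
theorem F50161 : act 5 n24694 = n24694 := d9_2 D20295 D24694 (iv D24694) (iv D20295) F26160
theorem F50162 : act 0 n21423 = n24694 := d3_3 F50160 (iv F38478) (iv F41436)
def n24695 : Q := act 2 n20296
theorem D24695 : act 2 n20296 = n24695 := rfl
theorem F50163 : act 0 n24695 = n21424 := d1_1 D24695 (iv D21424) F38478
theorem F50164 : act 5 n24695 = n24695 := d13_2 F38477 D24695 (iv D24695)
def n24696 : Q := act 6 n20296
theorem D24696 : act 6 n20296 = n24696 := rfl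
theorem F50165 : act 0 n24696 = n21425 := d5_1 D24696 (iv D21425) F38478
theorem F50166 : act 3 n24696 = n20298 := d17_1 D24696 (iv D20298) (iv F38476)
theorem F50167 : act 5 n24696 = n21425 := d22_2 F38477 D24696 (iv D21425) F38478
def n24697 : Q := act 1 n20297
theorem D24697 : act 1 n20297 = n24697 := rfl
theorem F50168 : act 3 n24697 = n20299 := d7_2 (iv F38480) D24697 (iv D20299)
def n24698 : Q := act 1 n20298
theorem D24698 : act 1 n20298 = n24698 := rfl
theorem F50169 : act 0 n24698 = n21408 := d0_1 D24698 (iv D21408) (iv F41049) F41050 (iv F28043) D21426 (iv F41456) (iv D21429) (iv F38482)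
theorem F50170 : act 4 n24698 = n21429 := d8_2 (iv F38483) D24698 (iv D21429)
theorem F50171 : act 5 n24698 = n21411 := d9_2 (iv F38484) D24698 (iv F50132) F50134 (iv D21429)
theorem F50172 : act 6 n24698 = n20299 := d10_2 D20298 D24698 (iv D20299) (iv D15032) D15031
def n24699 : Q := act 0 n20299
theorem D24699 : act 0 n20299 = n24699 := rfl
theorem F50173 : act 4 n24699 = n21430 := d3_2 (iv F38485) D24699 (iv D21430)
theorem F50174 : act 6 n24699 = n21408 := d5_2 F50172 D24699 (iv F50169)
def n24700 : Q := act 2 n20299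
theorem D24700 : act 2 n20299 = n24700 := rfl
theorem F50175 : act 1 n24700 = n20301 := d6_1 D24700 (iv D20301) (iv D15033) (iv F26166) D20299
theorem F50176 : act 4 n24700 = n21431 := d12_2 (iv F38485) D24700 (iv D21431)
def n24701 : Q := act 5 n20301
theorem D24701 : act 5 n20301 = n24701 := rfl
theorem F50177 : act 2 n24701 = n20302 := d13_1 D24701 (iv D20302) D20301
theorem F50178 : act 4 n24701 = n21449 := d18_1 D24701 (iv D21449) (iv F38489)
def n24702 : Q := act 6 n20302
theorem D24702 : act 6 n20302 = n24702 := rfl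
theorem F50179 : act 0 n24702 = n21402 := d5_1 D24702 F41393 (iv F41081)
theorem F50180 : act 1 n24702 = n24680 := d10_1 D24702 F50128 F49758 (iv D24532) (iv F38490)
theorem F50181 : act 3 n24702 = n20370 := d17_1 D24702 (iv D20370) (iv F38491)
theorem F50182 : act 4 n24702 = n21450 := d19_1 D24702 (iv D21450) (iv F38492)
theorem F50183 : act 5 n24702 = n21400 := d20_1 D24702 F41389 (iv F41080) (iv F41393) (iv D21402) F28019 D20302
def n24703 : Q := act 1 n20305
theorem D24703 : act 1 n20305 = n24703 := rfl
theorem F50184 : act 3 n24703 = n20306 := d7_2 (iv F38504) D24703 (iv D20306)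
theorem F50185 : act 6 n24703 = n20311 := d10_2 D20305 D24703 (iv D20311) (iv D15044) (iv F26186)
theorem F50186 : act 0 n24047 = n24703 := d2_3 F50184 (iv F38508) D24047
def n24704 : Q := act 5 n20306
theorem D24704 : act 5 n20306 = n24704 := rfl
theorem F50187 : act 0 n24704 = n24048 := d4_1 D24704 (iv D24048) F38508
theorem F50188 : act 2 n24704 = n24046 := d13_1 D24704 (iv D24046) (iv F38505)
theorem F50189 : act 4 n24704 = n20582 := d18_1 D24704 (iv D20582) (iv F38506)
def n24705 : Q := act 0 n20307
theorem D24705 : act 0 n20307 = n24705 := rfl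
theorem F50190 : act 2 n24705 = n23192 := d1_2 (iv F38509) D24705 F46090
theorem F50191 : act 3 n24705 = n24665 := d2_2 (iv F38510) D24705 (iv D24665)
def n24706 : Q := act 4 n20307
theorem D24706 : act 4 n20307 = n24706 := rfl
theorem F50192 : act 1 n24706 = n20308 := d8_1 D24706 (iv D20308) D20307
theorem F50193 : act 2 n24706 = n23206 := d12_1 D24706 (iv D23206) (iv F38509)
def n24707 : Q := act 5 n20307
theorem D24707 : act 5 n20307 = n24707 := rfl
theorem F50194 : act 2 n24707 = n23207 := d13_1 D24707 (iv D23207) (iv F38509)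
theorem F50195 : act 3 n24707 = n24667 := d16_1 D24707 (iv D24667) (iv F38510)
def n24708 : Q := act 6 n20307
theorem D24708 : act 6 n20307 = n24708 := rfl
theorem F50196 : act 2 n24708 = n23208 := d14_1 D24708 (iv D23208) (iv F38509)
theorem F50197 : act 3 n24708 = n24668 := d17_1 D24708 (iv D24668) (iv F38510)
def n24709 : Q := act 3 n20308
theorem D24709 : act 3 n20308 = n24709 := rfl
theorem F50198 : act 0 n24709 = n20318 := d2_1 D24709 (iv D20318) (iv F38511)
theorem F50199 : act 4 n24709 = n24669 := d15_2 D20308 D24709 (iv D24669) (iv D20273) (iv F26195)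
def n24710 : Q := act 6 n20308
theorem D24710 : act 6 n20308 = n24710 := rfl
theorem F50200 : act 0 n24710 = n20319 := d5_1 D24710 (iv D20319) (iv F38511)
theorem F50201 : act 2 n24710 = n20310 := d14_1 D24710 (iv D20310) (iv F38512)
theorem F50202 : act 4 n24710 = n20309 := d19_1 D24710 (iv D20309) D20308
theorem F50203 : act 5 n24710 = n24574 := d22_2 F49847 D24710 (iv D24574) (iv F49845)
def n24711 : Q := act 1 n20309
theorem D24711 : act 1 n20309 = n24711 := rfl
theorem F50204 : act 3 n24711 = n24671 := d7_2 (iv F38515) D24711 (iv D24671)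
def n24712 : Q := act 1 n20310
theorem D24712 : act 1 n20310 = n24712 := rfl
theorem F50205 : act 3 n24712 = n20583 := d7_2 (iv F38518) D24712 (iv D20583)
theorem F50206 : act 4 n24712 = n20311 := d8_2 (iv F38519) D24712 (iv D20311)
def n24713 : Q := act 0 n20311
theorem D24713 : act 0 n20311 = n24713 := rfl
theorem F50207 : act 3 n24713 = n20312 := d2_2 (iv F38521) D24713 (iv D20312)
theorem F50208 : act 6 n24713 = n24047 := d5_2 F50185 D24713 F50186
def n24714 : Q := act 2 n20311
theorem D24714 : act 2 n20311 = n24714 := rfl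
def n24715 : Q := act 5 n20311
theorem D24715 : act 5 n20311 = n24715 := rfl
theorem F50209 : act 1 n24715 = n24579 := d9_1 D24715 (iv D24579) (iv D20214) (iv F26200) D20311
theorem F50210 : act 3 n24715 = n20314 := d16_1 D24715 (iv D20314) (iv F38521)
def n24716 : Q := act 1 n20312
theorem D24716 : act 1 n20312 = n24716 := rfl
theorem F50211 : act 2 n24716 = n24036 := d6_2 F38524 D24716 (iv D24036) F37168 D19727
theorem F50212 : act 4 n24716 = n20587 := d8_2 (iv F38522) D24716 (iv D20587)
def n24717 : Q := act 5 n20312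
theorem D24717 : act 5 n20312 = n24717 := rfl
theorem F50213 : act 0 n24717 = n20314 := d4_1 D24717 (iv D20314) D20312
theorem F50214 : act 2 n24717 = n24037 := d13_1 D24717 (iv D24037) F38524
theorem F50215 : act 4 n24717 = n20588 := d18_1 D24717 (iv D20588) (iv F38522)
theorem F50216 : act 6 n24717 = n24704 := d20_2 (iv F38523) D24717 (iv D24704) F38507 D20314 (iv F48487) (iv D24048)
def n24718 : Q := act 2 n20315
theorem D24718 : act 2 n20315 = n24718 := rfl
theorem F50217 : act 0 n24718 = n21076 := d1_1 D24718 F40646 (iv F38532)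
theorem F50218 : act 1 n24718 = n24123 := d6_1 D24718 F48657 F37318 F37106 D20315
theorem F50219 : act 4 n24718 = n20590 := d12_2 (iv F38533) D24718 (iv D20590)
theorem F50220 : act 5 n24718 = n21074 := d13_2 (iv F38534) D24718 (iv D21074)
theorem F50221 : act 6 n24718 = n24462 := d14_2 F38535 D24718 F49588
def n24719 : Q := act 3 n20316
theorem D24719 : act 3 n20316 = n24719 := rfl
theorem F50222 : act 0 n24719 = n24669 := d2_1 D24719 (iv D24669) (iv F38536)
theorem F50223 : act 1 n24719 = n24509 := d7_1 D24719 (iv D24509) (iv F38537)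
theorem F50224 : act 4 n24719 = n20318 := d15_2 D20316 D24719 (iv D20318) (iv D15050) D15049
def n24720 : Q := act 6 n20316
theorem D24720 : act 6 n20316 = n24720 := rfl
theorem F50225 : act 0 n24720 = n24670 := d5_1 D24720 (iv D24670) (iv F38536)
theorem F50226 : act 2 n24720 = n21210 := d14_1 D24720 F41015 (iv F38538)
theorem F50227 : act 4 n24720 = n20317 := d19_1 D24720 (iv D20317) D20316
theorem F50228 : act 5 n24720 = n21209 := d22_2 F41272 D24720 F49716 F49712
def n24721 : Q := act 1 n20317
theorem D24721 : act 1 n20317 = n24721 := rfl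
theorem F50229 : act 3 n24721 = n20320 := d7_2 (iv F38541) D24721 (iv D20320)
def n24722 : Q := act 2 n20318
theorem D24722 : act 2 n20318 = n24722 := rfl
theorem F50230 : act 3 n24722 = n20377 := d21_1 D24722 (iv F38671) (iv D16834) F22024 (iv F26197) (iv F38512) D24709 F50198
theorem F50231 : act 1 n20375 = n24722 := d7_3 F50230 (iv D20377) (iv F38667)
def n24723 : Q := act 6 n20318
theorem D24723 : act 6 n20318 = n24723 := rfl
theorem F50232 : act 3 n24723 = n20319 := d17_1 D24723 (iv D20319) D20318
def n24724 : Q := act 1 n20319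
theorem D24724 : act 1 n20319 = n24724 := rfl
theorem F50233 : act 4 n24724 = n20320 := d8_2 (iv F38543) D24724 (iv D20320)
def n24725 : Q := act 5 n20319
theorem D24725 : act 5 n20319 = n24725 := rfl
theorem F50234 : act 0 n24725 = n24574 := d4_1 D24725 (iv F50203) F50200
theorem F50235 : act 2 n24725 = n20323 := d13_1 D24725 (iv D20323) (iv F38542)
theorem F50236 : act 4 n24725 = n20321 := d18_1 D24725 (iv D20321) (iv F38543)
theorem F50237 : act 6 n24725 = n24567 := d20_2 D20319 D24725 F49847 D24710 F50203 (iv D24574) F38302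
def n24726 : Q := act 0 n20320
theorem D24726 : act 0 n20320 = n24726 := rfl
def n24727 : Q := act 2 n20320
theorem D24727 : act 2 n20320 = n24727 := rfl
theorem F50238 : act 1 n24727 = n20325 := d6_1 D24727 (iv D20325) (iv D15053) (iv F26210) D20320
def n24728 : Q := act 5 n20320
theorem D24728 : act 5 n20320 = n24728 := rfl
def n24729 : Q := act 0 n20322
theorem D24729 : act 0 n20322 = n24729 := rfl
theorem F50239 : act 3 n24729 = n20596 := d2_2 (iv F38547) D24729 (iv D20596)
theorem F50240 : act 4 n24729 = n20324 := d3_2 (iv F38548) D24729 (iv D20324)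
theorem F50241 : act 6 n24729 = n20394 := d5_2 (iv F38549) D24729 (iv D20394)
def n24730 : Q := act 2 n20322
theorem D24730 : act 2 n20322 = n24730 := rfl
theorem F50242 : act 4 n24730 = n20325 := d12_2 (iv F38548) D24730 (iv D20325)
theorem F50243 : act 6 n24730 = n20395 := d14_2 (iv F38549) D24730 (iv D20395)
def n24731 : Q := act 1 n20323
theorem D24731 : act 1 n20323 = n24731 := rfl
theorem F50244 : act 3 n24731 = n20597 := d7_2 (iv F38551) D24731 (iv D20597)
theorem F50245 : act 4 n24731 = n20327 := d8_2 (iv F38552) D24731 (iv D20327)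
def n24732 : Q := act 1 n20324
theorem D24732 : act 1 n20324 = n24732 := rfl
theorem F50246 : act 3 n24732 = n20328 := d7_2 (iv F38554) D24732 (iv D20328)
def n24733 : Q := act 2 n20324
theorem D24733 : act 2 n20324 = n24733 := rfl
theorem F50247 : act 0 n24733 = n20325 := d1_1 D24733 (iv D20325) D20324
theorem F50248 : act 6 n24733 = n20398 := d14_2 (iv F38555) D24733 (iv D20398)
def n24734 : Q := act 3 n20325
theorem D24734 : act 3 n20325 = n24734 := rfl
theorem F50249 : act 6 n24734 = n20400 := d17_2 (iv F38556) D24734 (iv D20400)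
def n24735 : Q := act 5 n20325
theorem D24735 : act 5 n20325 = n24735 := rfl
theorem F50250 : act 2 n24735 = n20326 := d13_1 D24735 (iv D20326) D20325
def n24736 : Q := act 1 n20326
theorem D24736 : act 1 n20326 = n24736 := rfl
theorem F50251 : act 3 n24736 = n20329 := d7_2 (iv F38557) D24736 (iv D20329)
theorem F50252 : act 5 n24736 = n20327 := d9_2 D20326 D24736 (iv D20327) (iv D15054) D15053
def n24737 : Q := act 0 n20327
theorem D24737 : act 0 n20327 = n24737 := rfl
theorem F50253 : act 3 n24737 = n20330 := d2_2 (iv F38558) D24737 (iv D20330)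
def n24738 : Q := act 2 n20327
theorem D24738 : act 2 n20327 = n24738 := rfl
def n24739 : Q := act 6 n20327
theorem D24739 : act 6 n20327 = n24739 := rfl
theorem F50254 : act 1 n24739 = n24564 := d10_1 D24739 (iv D24564) F38286 (iv F26217) D20327
theorem F50255 : act 3 n24739 = n20332 := d17_1 D24739 (iv D20332) (iv F38558)
def n24740 : Q := act 0 n20328
theorem D24740 : act 0 n20328 = n24740 := rfl
theorem F50256 : act 4 n24740 = n20601 := d3_2 (iv F38559) D24740 (iv D20601)
def n24741 : Q := act 5 n20328
theorem D24741 : act 5 n20328 = n24741 := rfl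
theorem F50257 : act 4 n24741 = n20602 := d18_1 D24741 (iv D20602) (iv F38559)
theorem F50258 : act 6 n23554 = n24741 := d19_0 F50257 (iv F39099) D23554
def n24742 : Q := act 0 n20329
theorem D24742 : act 0 n20329 = n24742 := rfl
theorem F50259 : act 4 n24742 = n20603 := d3_2 (iv F38560) D24742 (iv D20603)
theorem F50260 : act 5 n24742 = n20330 := d4_2 (iv F38561) D24742 (iv D20330)
theorem F50261 : act 1 n21110 = n24742 := d23_2 F27602 D21110 (iv D24742) F38561 D20331 F38563 (iv F38567) (iv F42230) (iv D21790) F38345 (iv F38346) (iv D20236) (iv F38341) (iv F40644) F40643 D21076 F40646 (iv F27605) F27604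
def n24743 : Q := act 2 n20329
theorem D24743 : act 2 n20329 = n24743 := rfl
theorem F50262 : act 4 n24743 = n20604 := d12_2 (iv F38560) D24743 (iv D20604)
theorem F50263 : act 5 n24743 = n20331 := d13_2 (iv F38561) D24743 (iv D20331)
theorem F50264 : act 3 n22872 = n24743 := d16_3 F50263 (iv F39742) (iv F45202)
def n24744 : Q := act 6 n20329
theorem D24744 : act 6 n20329 = n24744 := rfl
theorem F50265 : act 1 n24744 = n23556 := d10_1 D24744 F46958 F35902 F26319 D20329
theorem F50266 : act 4 n24744 = n20605 := d19_1 D24744 (iv D20605) (iv F38560)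
def n24745 : Q := act 1 n20330
theorem D24745 : act 1 n20330 = n24745 := rfl
theorem F50267 : act 4 n24745 = n20606 := d8_2 (iv F38562) D24745 (iv D20606)
theorem F50268 : act 5 n24745 = n21771 := d9_2 F50260 D24745 F42198 (iv F40748) F50261
theorem F50269 : act 2 n21772 = n24745 := d13_3 F50268 (iv D21771) D21772
def n24746 : Q := act 2 n20330
theorem D24746 : act 2 n20330 = n24746 := rfl
theorem F50270 : act 0 n24746 = n20331 := d1_1 D24746 (iv D20331) D20330
theorem F50271 : act 4 n24746 = n20607 := d12_2 (iv F38562) D24746 (iv D20607)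
theorem F50272 : act 3 n22874 = n24746 := d2_0 F50270 (iv F39742) (iv F45204)
def n24747 : Q := act 6 n20330
theorem D24747 : act 6 n20330 = n24747 := rfl
theorem F50273 : act 0 n24747 = n20332 := d5_1 D24747 (iv D20332) D20330
theorem F50274 : act 4 n24747 = n20608 := d19_1 D24747 (iv D20608) (iv F38562)
theorem F50275 : act 5 n24747 = n24744 := d22_2 F50260 D24747 (iv D24744) D24742
def n24748 : Q := act 6 n20331
theorem D24748 : act 6 n20331 = n24748 := rfl
theorem F50276 : act 2 n24748 = n20332 := d14_1 D24748 (iv D20332) D20331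
theorem F50277 : act 3 n24748 = n22876 := d17_1 D24748 (iv D22876) F39742
theorem F50278 : act 4 n24748 = n20610 := d19_1 D24748 (iv D20610) (iv F38564)
def n24749 : Q := act 5 n20332
theorem D24749 : act 5 n20332 = n24749 := rfl
theorem F50279 : act 0 n24749 = n24744 := d4_1 D24749 (iv F50275) F50273
theorem F50280 : act 4 n24749 = n20611 := d18_1 D24749 (iv D20611) (iv F38566)
theorem F50281 : act 6 n24749 = n24742 := d20_2 D20332 D24749 F50260 D24747 F50275 (iv D24744) F38561
def n24750 : Q := act 1 n20333
theorem D24750 : act 1 n20333 = n24750 := rfl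
theorem F50282 : act 2 n24750 = n21189 := d6_2 D20333 D24750 (iv D21189) F27710 F26223
theorem F50283 : act 3 n24750 = n23152 := d7_2 F39741 D24750 (iv D23152)
theorem F50284 : act 4 n24750 = n20612 := d8_2 (iv F38568) D24750 (iv D20612)
theorem F50285 : act 5 n21705 = n24750 := d18_0 F50284 (iv F39115) (iv F42054)
def n24751 : Q := act 1 n20335
theorem D24751 : act 1 n20335 = n24751 := rfl
theorem F50286 : act 2 n24751 = n24557 := d6_2 (iv F38569) D24751 (iv D24557) F38275 (iv F26225)
theorem F50287 : act 3 n24751 = n23154 := d7_2 F39743 D24751 (iv D23154)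
theorem F50288 : act 4 n24751 = n20617 := d8_2 (iv F38570) D24751 (iv D20617)
theorem F50289 : act 5 n24751 = n22578 := d9_2 F40162 D24751 F44262 (iv F33037) (iv F40159)
def n24752 : Q := act 1 n20338
theorem D24752 : act 1 n20338 = n24752 := rfl
theorem F50290 : act 3 n24752 = n20340 := d7_2 (iv F38581) D24752 (iv D20340)
theorem F50291 : act 5 n24752 = n20345 := d9_2 D20338 D24752 (iv D20345) (iv D15071) (iv F26243)
theorem F50292 : act 0 n24098 = n24752 := d2_3 F50290 (iv F38589) D24098
def n24753 : Q := act 6 n20340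
theorem D24753 : act 6 n20340 = n24753 := rfl
theorem F50293 : act 0 n24753 = n24099 := d5_1 D24753 (iv D24099) F38589
theorem F50294 : act 2 n24753 = n24038 := d14_1 D24753 F48463 (iv F38586)
theorem F50295 : act 4 n24753 = n20620 := d19_1 D24753 (iv D20620) (iv F38587)
def n24754 : Q := act 0 n20341
theorem D24754 : act 0 n20341 = n24754 := rfl
theorem F50296 : act 2 n24754 = n23268 := d1_2 (iv F38590) D24754 F46275
theorem F50297 : act 3 n24754 = n24687 := d2_2 (iv F38591) D24754 (iv D24687)
def n24755 : Q := act 4 n20341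
theorem D24755 : act 4 n20341 = n24755 := rfl
theorem F50298 : act 1 n24755 = n20342 := d8_1 D24755 (iv D20342) D20341
theorem F50299 : act 2 n24755 = n23281 := d12_1 D24755 (iv D23281) (iv F38590)
def n24756 : Q := act 5 n20341
theorem D24756 : act 5 n20341 = n24756 := rfl
theorem F50300 : act 2 n24756 = n23282 := d13_1 D24756 (iv D23282) (iv F38590)
theorem F50301 : act 3 n24756 = n24689 := d16_1 D24756 (iv D24689) (iv F38591)
def n24757 : Q := act 6 n20341
theorem D24757 : act 6 n20341 = n24757 := rfl
theorem F50302 : act 2 n24757 = n23283 := d14_1 D24757 (iv D23283) (iv F38590)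
theorem F50303 : act 3 n24757 = n24690 := d17_1 D24757 (iv D24690) (iv F38591)
def n24758 : Q := act 3 n20342
theorem D24758 : act 3 n20342 = n24758 := rfl
theorem F50304 : act 0 n24758 = n20352 := d2_1 D24758 (iv D20352) (iv F38592)
theorem F50305 : act 4 n24758 = n24691 := d15_2 D20342 D24758 (iv D24691) (iv D20293) (iv F26252)
def n24759 : Q := act 5 n20342
theorem D24759 : act 5 n20342 = n24759 := rfl
theorem F50306 : act 0 n24759 = n20353 := d4_1 D24759 (iv D20353) (iv F38592)
theorem F50307 : act 2 n24759 = n20344 := d13_1 D24759 (iv D20344) (iv F38593)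
theorem F50308 : act 4 n24759 = n20343 := d18_1 D24759 (iv D20343) D20342
theorem F50309 : act 6 n24759 = n24629 := d22_1 D24759 (iv D24629) F38368 (iv F38592)
def n24760 : Q := act 1 n20343
theorem D24760 : act 1 n20343 = n24760 := rfl
theorem F50310 : act 3 n24760 = n24693 := d7_2 (iv F38596) D24760 (iv D24693)
def n24761 : Q := act 1 n20344
theorem D24761 : act 1 n20344 = n24761 := rfl
theorem F50311 : act 3 n24761 = n20621 := d7_2 (iv F38599) D24761 (iv D20621)
theorem F50312 : act 4 n24761 = n20345 := d8_2 (iv F38600) D24761 (iv D20345)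
def n24762 : Q := act 0 n20345
theorem D24762 : act 0 n20345 = n24762 := rfl
theorem F50313 : act 3 n24762 = n20346 := d2_2 (iv F38602) D24762 (iv D20346)
theorem F50314 : act 5 n24762 = n24098 := d4_2 F50291 D24762 F50292
def n24763 : Q := act 2 n20345
theorem D24763 : act 2 n20345 = n24763 := rfl
def n24764 : Q := act 6 n20345
theorem D24764 : act 6 n20345 = n24764 := rfl
theorem F50315 : act 1 n24764 = n24634 := d10_1 D24764 (iv D24634) (iv D20248) (iv F26257) D20345
theorem F50316 : act 3 n24764 = n20348 := d17_1 D24764 (iv D20348) (iv F38602)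
def n24765 : Q := act 1 n20346
theorem D24765 : act 1 n20346 = n24765 := rfl
theorem F50317 : act 2 n24765 = n24089 := d6_2 F38605 D24765 (iv D24089) F37254 D19764
theorem F50318 : act 4 n24765 = n20625 := d8_2 (iv F38603) D24765 (iv D20625)
def n24766 : Q := act 6 n20346
theorem D24766 : act 6 n20346 = n24766 := rfl
theorem F50319 : act 0 n24766 = n20348 := d5_1 D24766 (iv D20348) D20346
theorem F50320 : act 2 n24766 = n24090 := d14_1 D24766 (iv D24090) F38605
theorem F50321 : act 4 n24766 = n20626 := d19_1 D24766 (iv D20626) (iv F38603)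
theorem F50322 : act 5 n24766 = n24753 := d20_1 D24766 (iv D24753) F38588 D20348 (iv F48608) (iv D24099) (iv F38604)
def n24767 : Q := act 2 n20349
theorem D24767 : act 2 n20349 = n24767 := rfl
theorem F50323 : act 0 n24767 = n21073 := d1_1 D24767 F40641 (iv F38613)
theorem F50324 : act 1 n24767 = n24071 := d6_1 D24767 F48533 F37229 F37148 D20349
theorem F50325 : act 4 n24767 = n20628 := d12_2 (iv F38614) D24767 (iv D20628)
theorem F50326 : act 5 n24767 = n24460 := d13_2 F38616 D24767 F49583
theorem F50327 : act 6 n24767 = n21071 := d14_2 (iv F38615) D24767 (iv D21071)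
def n24768 : Q := act 3 n20350
theorem D24768 : act 3 n20350 = n24768 := rfl
theorem F50328 : act 0 n24768 = n24691 := d2_1 D24768 (iv D24691) (iv F38617)
theorem F50329 : act 1 n24768 = n24529 := d7_1 D24768 (iv D24529) (iv F38618)
theorem F50330 : act 4 n24768 = n20352 := d15_2 D20350 D24768 (iv D20352) (iv D15077) D15076
def n24769 : Q := act 5 n20350
theorem D24769 : act 5 n20350 = n24769 := rfl
theorem F50331 : act 0 n24769 = n24692 := d4_1 D24769 (iv D24692) (iv F38617)
theorem F50332 : act 2 n24769 = n21234 := d13_1 D24769 F41060 (iv F38619)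
theorem F50333 : act 4 n24769 = n20351 := d18_1 D24769 (iv D20351) D20350
theorem F50334 : act 6 n24769 = n21233 := d22_1 D24769 F49768 F49767 (iv F38617)
def n24770 : Q := act 1 n20351
theorem D24770 : act 1 n20351 = n24770 := rfl
theorem F50335 : act 3 n24770 = n20354 := d7_2 (iv F38622) D24770 (iv D20354)
def n24771 : Q := act 2 n20352
theorem D24771 : act 2 n20352 = n24771 := rfl
theorem F50336 : act 3 n24771 = n20413 := d21_1 D24771 (iv F38735) (iv D17025) F22197 (iv F26254) (iv F38593) D24758 F50304
theorem F50337 : act 1 n20411 = n24771 := d7_3 F50336 (iv D20413) (iv F38732)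
def n24772 : Q := act 5 n20352
theorem D24772 : act 5 n20352 = n24772 := rfl
theorem F50338 : act 3 n24772 = n20353 := d16_1 D24772 (iv D20353) D20352
def n24773 : Q := act 1 n20353
theorem D24773 : act 1 n20353 = n24773 := rfl
theorem F50339 : act 4 n24773 = n20354 := d8_2 (iv F38624) D24773 (iv D20354)
def n24774 : Q := act 6 n20353
theorem D24774 : act 6 n20353 = n24774 := rfl
theorem F50340 : act 0 n24774 = n24629 := d5_1 D24774 (iv F50309) F50306
theorem F50341 : act 2 n24774 = n20357 := d14_1 D24774 (iv D20357) (iv F38623)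
theorem F50342 : act 4 n24774 = n20355 := d19_1 D24774 (iv D20355) (iv F38624)
theorem F50343 : act 5 n24774 = n24622 := d20_1 D24774 F49984 D24759 F50309 (iv D24629) F38368 D20353
def n24775 : Q := act 0 n20354
theorem D24775 : act 0 n20354 = n24775 := rfl
def n24776 : Q := act 2 n20354
theorem D24776 : act 2 n20354 = n24776 := rfl
theorem F50344 : act 1 n24776 = n20359 := d6_1 D24776 (iv D20359) (iv D15080) (iv F26267) D20354
def n24777 : Q := act 6 n20354
theorem D24777 : act 6 n20354 = n24777 := rfl
def n24778 : Q := act 0 n20356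
theorem D24778 : act 0 n20356 = n24778 := rfl
theorem F50345 : act 3 n24778 = n20634 := d2_2 (iv F38628) D24778 (iv D20634)
theorem F50346 : act 4 n24778 = n20358 := d3_2 (iv F38629) D24778 (iv D20358)
theorem F50347 : act 5 n24778 = n20429 := d4_2 (iv F38630) D24778 (iv D20429)
def n24779 : Q := act 2 n20356
theorem D24779 : act 2 n20356 = n24779 := rfl
theorem F50348 : act 4 n24779 = n20359 := d12_2 (iv F38629) D24779 (iv D20359)
theorem F50349 : act 5 n24779 = n20430 := d13_2 (iv F38630) D24779 (iv D20430)
def n24780 : Q := act 1 n20357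
theorem D24780 : act 1 n20357 = n24780 := rfl
theorem F50350 : act 3 n24780 = n20635 := d7_2 (iv F38632) D24780 (iv D20635)
theorem F50351 : act 4 n24780 = n20361 := d8_2 (iv F38633) D24780 (iv D20361)
theorem F50352 : act 2 n24737 = n24780 := d21_0 F50350 F39170 F32211 D18381 F39742 (iv D20331) (iv F38558) D24737
theorem F50353 : act 0 n24780 = n24738 := d21_8 (iv D24738) F38558 D20331 (iv F39742) (iv D18381) (iv F32211) (iv F39170) (iv F50350)
def n24781 : Q := act 1 n20358
theorem D24781 : act 1 n20358 = n24781 := rfl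
theorem F50354 : act 3 n24781 = n20362 := d7_2 (iv F38635) D24781 (iv D20362)
def n24782 : Q := act 2 n20358
theorem D24782 : act 2 n20358 = n24782 := rfl
theorem F50355 : act 0 n24782 = n20359 := d1_1 D24782 (iv D20359) D20358
theorem F50356 : act 5 n24782 = n20433 := d13_2 (iv F38636) D24782 (iv D20433)
def n24783 : Q := act 3 n20359
theorem D24783 : act 3 n20359 = n24783 := rfl
theorem F50357 : act 5 n24783 = n20435 := d16_2 (iv F38637) D24783 (iv D20435)
def n24784 : Q := act 6 n20359
theorem D24784 : act 6 n20359 = n24784 := rfl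
theorem F50358 : act 2 n24784 = n20360 := d14_1 D24784 (iv D20360) D20359
def n24785 : Q := act 1 n20360
theorem D24785 : act 1 n20360 = n24785 := rfl
theorem F50359 : act 3 n24785 = n20363 := d7_2 (iv F38638) D24785 (iv D20363)
theorem F50360 : act 6 n24785 = n20361 := d10_2 D20360 D24785 (iv D20361) (iv D15081) D15080
def n24786 : Q := act 0 n20361
theorem D24786 : act 0 n20361 = n24786 := rfl
theorem F50361 : act 3 n24786 = n20364 := d2_2 (iv F38639) D24786 (iv D20364)
theorem F50362 : act 4 n24786 = n24738 := d3_2 F50351 D24786 (iv F50353)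
theorem F50363 : act 2 n24786 = n24731 := d21_0 F50244 F39090 F32203 D18373 F39786 (iv D20365) (iv F38639) D24786
def n24787 : Q := act 2 n20361
theorem D24787 : act 2 n20361 = n24787 := rfl
theorem F50364 : act 0 n24787 = n24731 := d1_1 D24787 (iv F50363) (iv D24786)
theorem F50365 : act 4 n24787 = n24737 := d12_2 F50351 D24787 F50352
def n24788 : Q := act 5 n20361
theorem D24788 : act 5 n20361 = n24788 := rfl
theorem F50366 : act 1 n24788 = n24618 := d9_1 D24788 (iv D24618) F38352 (iv F26274) D20361
theorem F50367 : act 3 n24788 = n20366 := d16_1 D24788 (iv D20366) (iv F38639)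
def n24789 : Q := act 0 n20362
theorem D24789 : act 0 n20362 = n24789 := rfl
theorem F50368 : act 4 n24789 = n20639 := d3_2 (iv F38640) D24789 (iv D20639)
def n24790 : Q := act 6 n20362
theorem D24790 : act 6 n20362 = n24790 := rfl
theorem F50369 : act 4 n24790 = n20640 := d19_1 D24790 (iv D20640) (iv F38640)
theorem F50370 : act 5 n23613 = n24790 := d18_0 F50369 (iv F39179) D23613
def n24791 : Q := act 0 n20363
theorem D24791 : act 0 n20363 = n24791 := rfl
theorem F50371 : act 4 n24791 = n20641 := d3_2 (iv F38641) D24791 (iv D20641)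
theorem F50372 : act 6 n24791 = n20364 := d5_2 (iv F38642) D24791 (iv D20364)
theorem F50373 : act 1 n21117 = n24791 := d8_3 F50371 F39395 (iv F40763)
def n24792 : Q := act 2 n20363
theorem D24792 : act 2 n20363 = n24792 := rfl
theorem F50374 : act 4 n24792 = n20642 := d12_2 (iv F38641) D24792 (iv D20642)
theorem F50375 : act 6 n24792 = n20365 := d14_2 (iv F38642) D24792 (iv D20365)
theorem F50376 : act 3 n22861 = n24792 := d17_3 F50375 (iv F39786) (iv F45174)
def n24793 : Q := act 5 n20363
theorem D24793 : act 5 n20363 = n24793 := rfl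
theorem F50377 : act 1 n24793 = n23615 := d9_1 D24793 F47120 F36036 F26359 D20363
theorem F50378 : act 4 n24793 = n20643 := d18_1 D24793 (iv D20643) (iv F38641)
def n24794 : Q := act 1 n20364
theorem D24794 : act 1 n20364 = n24794 := rfl
theorem F50379 : act 4 n24794 = n20644 := d8_2 (iv F38643) D24794 (iv D20644)
theorem F50380 : act 6 n24794 = n21612 := d10_2 F50372 D24794 F41849 (iv F40764) F50373
theorem F50381 : act 2 n21613 = n24794 := d14_3 F50380 (iv D21612) D21613
def n24795 : Q := act 2 n20364
theorem D24795 : act 2 n20364 = n24795 := rfl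
theorem F50382 : act 0 n24795 = n20365 := d1_1 D24795 (iv D20365) D20364
theorem F50383 : act 4 n24795 = n20645 := d12_2 (iv F38643) D24795 (iv D20645)
theorem F50384 : act 3 n24795 = n22863 := d21_5 (iv F39090) (iv F50244) (iv F50363) F50361 D24795 (iv D22863) (iv F45153) (iv D22853)
def n24796 : Q := act 5 n20364
theorem D24796 : act 5 n20364 = n24796 := rfl
theorem F50385 : act 0 n24796 = n20366 := d4_1 D24796 (iv D20366) D20364
theorem F50386 : act 4 n24796 = n20646 := d18_1 D24796 (iv D20646) (iv F38643)
theorem F50387 : act 6 n24796 = n24793 := d22_1 D24796 (iv D24793) F38642 D20364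
def n24797 : Q := act 5 n20365
theorem D24797 : act 5 n20365 = n24797 := rfl
theorem F50388 : act 2 n24797 = n20366 := d13_1 D24797 (iv D20366) D20365
theorem F50389 : act 3 n24797 = n22865 := d16_1 D24797 (iv D22865) F39786
theorem F50390 : act 4 n24797 = n20648 := d18_1 D24797 (iv D20648) (iv F38645)
def n24798 : Q := act 6 n20366
theorem D24798 : act 6 n20366 = n24798 := rfl
theorem F50391 : act 0 n24798 = n24793 := d5_1 D24798 (iv F50387) F50385
theorem F50392 : act 4 n24798 = n20649 := d19_1 D24798 (iv D20649) (iv F38647)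
theorem F50393 : act 5 n24798 = n24791 := d20_1 D24798 F50372 D24796 F50387 (iv D24793) F38642 D20366
def n24799 : Q := act 1 n20367
theorem D24799 : act 1 n20367 = n24799 := rfl
theorem F50394 : act 2 n24799 = n21177 := d6_2 D20367 D24799 (iv D21177) F27685 F26280
theorem F50395 : act 3 n24799 = n23137 := d7_2 F39785 D24799 (iv D23137)
theorem F50396 : act 4 n24799 = n20650 := d8_2 (iv F38649) D24799 (iv D20650)
theorem F50397 : act 6 n21546 = n24799 := d19_0 F50396 (iv F39192) (iv F41710)
def n24800 : Q := act 1 n20369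
theorem D24800 : act 1 n20369 = n24800 := rfl
theorem F50398 : act 2 n24800 = n24611 := d6_2 (iv F38650) D24800 (iv D24611) F38339 (iv F26282)
theorem F50399 : act 3 n24800 = n23139 := d7_2 F39787 D24800 (iv D23139)
theorem F50400 : act 4 n24800 = n20655 := d8_2 (iv F38651) D24800 (iv D20655)
theorem F50401 : act 6 n24800 = n22624 := d10_2 F40386 D24800 F44427 (iv F33027) (iv F40383)
def n24801 : Q := act 6 n20371
theorem D24801 : act 6 n20371 = n24801 := rfl
theorem F50402 : act 0 n24801 = n21473 := d5_1 D24801 (iv D21473) (iv F38656)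
theorem F50403 : act 2 n24801 = n22900 := d14_1 D24801 (iv D22900) (iv F38658)
theorem F50404 : act 3 n24801 = n20372 := d17_1 D24801 (iv D20372) D20371
theorem F50405 : act 4 n24801 = n23343 := d19_1 D24801 F46466 F46446
theorem F50406 : act 5 n24801 = n23341 := d22_2 (iv F46442) D24801 (iv D23341) (iv F46439)
def n24802 : Q := act 1 n20372
theorem D24802 : act 1 n20372 = n24802 := rfl
theorem F50407 : act 4 n24802 = n20657 := d8_2 (iv F38661) D24802 (iv D20657)
theorem F50408 : act 6 n24802 = n20378 := d10_2 D20372 D24802 (iv D20378) (iv D15091) D15088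
theorem F50409 : act 2 n24340 = n24802 := d14_3 F50408 (iv F43975) D24340
def n24803 : Q := act 1 n20373
theorem D24803 : act 1 n20373 = n24803 := rfl
theorem F50410 : act 2 n24803 = n22897 := d6_2 D20373 D24803 F45295 (iv F38658) F38657
def n24804 : Q := act 3 n20373
theorem D24804 : act 3 n20373 = n24804 := rfl
theorem F50411 : act 0 n24804 = n20379 := d2_1 D24804 (iv D20379) (iv F38663)
theorem F50412 : act 2 n24804 = n20379 := d21_2 D20373 D24804 (iv D20379) (iv D15092) (iv D11577) F16356 D11577 (iv F26287)
def n24805 : Q := act 4 n20373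
theorem D24805 : act 4 n20373 = n24805 := rfl
theorem F50413 : act 0 n24805 = n20380 := d3_1 D24805 (iv D20380) (iv F38663)
theorem F50414 : act 2 n24805 = n20374 := d12_1 D24805 (iv D20374) D20373
def n24806 : Q := act 5 n20373
theorem D24806 : act 5 n20373 = n24806 := rfl
theorem F50415 : act 0 n24806 = n20381 := d4_1 D24806 (iv D20381) (iv F38663)
theorem F50416 : act 2 n24806 = n20375 := d13_1 D24806 (iv D20375) D20373
def n24807 : Q := act 6 n20373
theorem D24807 : act 6 n20373 = n24807 := rfl
theorem F50417 : act 0 n24807 = n20382 := d5_1 D24807 (iv D20382) (iv F38663)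
theorem F50418 : act 2 n24807 = n20376 := d14_1 D24807 (iv D20376) D20373
def n24808 : Q := act 5 n20374
theorem D24808 : act 5 n20374 = n24808 := rfl
theorem F50419 : act 0 n24808 = n20383 := d4_1 D24808 (iv D20383) (iv F38664)
theorem F50420 : act 3 n24808 = n20660 := d16_1 D24808 (iv D20660) (iv F38665)
theorem F50421 : act 4 n24808 = n20375 := d18_1 D24808 (iv D20375) D20374
def n24809 : Q := act 6 n20374
theorem D24809 : act 6 n20374 = n24809 := rfl
theorem F50422 : act 0 n24809 = n20384 := d5_1 D24809 (iv D20384) (iv F38664)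
theorem F50423 : act 3 n24809 = n20661 := d17_1 D24809 (iv D20661) (iv F38665)
theorem F50424 : act 4 n24809 = n20376 := d19_1 D24809 (iv D20376) D20374
def n24810 : Q := act 1 n20376
theorem D24810 : act 1 n20376 = n24810 := rfl
theorem F50425 : act 3 n24810 = n20378 := d7_2 (iv F38669) D24810 (iv D20378)
theorem F50426 : act 5 n24339 = n24810 := d16_0 F50425 F43974 D24339
def n24811 : Q := act 6 n20377
theorem D24811 : act 6 n20377 = n24811 := rfl
theorem F50427 : act 2 n24811 = n22115 := d14_1 D24811 (iv D22115) F38671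
theorem F50428 : act 4 n24811 = n20663 := d19_1 D24811 (iv D20663) (iv F38670)
theorem F50429 : act 5 n24811 = n23531 := d22_2 F46865 D24811 (iv D23531) (iv F46862)
def n24812 : Q := act 0 n20378
theorem D24812 : act 0 n20378 = n24812 := rfl
theorem F50430 : act 2 n24812 = n24333 := d1_2 F43975 D24812 F49189
theorem F50431 : act 4 n24812 = n20664 := d3_2 (iv F38672) D24812 (iv D20664)
theorem F50432 : act 5 n24812 = n24332 := d4_2 (iv F43974) D24812 F49186
def n24813 : Q := act 4 n20379
theorem D24813 : act 4 n20379 = n24813 := rfl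
def n24814 : Q := act 5 n20379
theorem D24814 : act 5 n20379 = n24814 := rfl
theorem F50433 : act 3 n24814 = n20381 := d16_1 D24814 (iv D20381) D20379
def n24815 : Q := act 6 n20379
theorem D24815 : act 6 n20379 = n24815 := rfl
theorem F50434 : act 3 n24815 = n20382 := d17_1 D24815 (iv D20382) D20379
def n24816 : Q := act 3 n20380
theorem D24816 : act 3 n20380 = n24816 := rfl
theorem F50435 : act 2 n24816 = n20383 := d21_2 (iv F38673) D24816 F38676 F32216 (iv F39204) F39203 (iv F38665) F38664
theorem F50436 : act 4 n20381 = n24816 := d12_0 F50435 F38677 (iv F38674)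
theorem F50437 : act 5 n20380 = n24816 := d13_0 F50435 (iv D20383) (iv F38673)
theorem E10343 : n24814 = n24813 := ((c15_5 F50436 (iv D24816) (iv D20380) D20379 D24813 F50433)).symm
theorem F50438 : act 3 n24813 = n20381 := (sb E10343 F50433)
theorem F50439 : act 5 n24813 = n20379 := (sb E10343 (iv D24814))
def n24817 : Q := act 6 n20380
theorem D24817 : act 6 n20380 = n24817 := rfl
theorem F50440 : act 2 n24817 = n20384 := d14_1 D24817 (iv D20384) (iv F38673)
theorem F50441 : act 4 n24817 = n20382 := d19_1 D24817 (iv D20382) D20380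
def n24818 : Q := act 6 n20381
theorem D24818 : act 6 n20381 = n24818 := rfl
theorem F50442 : act 2 n24818 = n20385 := d14_1 D24818 (iv D20385) (iv F38674)
theorem F50443 : act 5 n24818 = n24807 := d22_2 D20381 D24818 (iv D24807) F38663
def n24819 : Q := act 1 n20382
theorem D24819 : act 1 n20382 = n24819 := rfl
def n24820 : Q := act 5 n20382
theorem D24820 : act 5 n20382 = n24820 := rfl
theorem F50444 : act 0 n24820 = n24818 := d4_1 D24820 F50443 F50417
theorem F50445 : act 2 n24820 = n20386 := d13_1 D24820 (iv D20386) (iv F38675)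
theorem F50446 : act 6 n24820 = n24806 := d20_2 D20382 D24820 (iv D24806) D24807 (iv F50443) (iv D24818) (iv D20381)
def n24821 : Q := act 6 n20383
theorem D24821 : act 6 n20383 = n24821 := rfl
theorem F50447 : act 3 n24821 = n20670 := d17_1 D24821 (iv D20670) (iv F38676)
theorem F50448 : act 4 n24821 = n20385 := d19_1 D24821 (iv D20385) (iv F38677)
theorem F50449 : act 5 n24821 = n24809 := d22_2 D20383 D24821 (iv D24809) F38664
def n24822 : Q := act 5 n20384
theorem D24822 : act 5 n20384 = n24822 := rfl
theorem F50450 : act 0 n24822 = n24821 := d4_1 D24822 F50449 F50422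
theorem F50451 : act 3 n24822 = n20672 := d16_1 D24822 (iv D20672) (iv F38678)
theorem F50452 : act 4 n24822 = n20386 := d18_1 D24822 (iv D20386) (iv F38679)
theorem F50453 : act 6 n24822 = n24808 := d20_2 D20384 D24822 (iv D24808) D24809 (iv F50449) (iv D24821) (iv D20383)
def n24823 : Q := act 1 n20385
theorem D24823 : act 1 n20385 = n24823 := rfl
theorem F50454 : act 3 n24823 = n20387 := d7_2 (iv F38680) D24823 (iv D20387)
def n24824 : Q := act 1 n20386
theorem D24824 : act 1 n20386 = n24824 := rfl
theorem F50455 : act 3 n24824 = n20390 := d7_2 (iv F38683) D24824 (iv D20390)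
def n24825 : Q := act 0 n20387
theorem D24825 : act 0 n20387 = n24825 := rfl
theorem F50456 : act 4 n24825 = n20677 := d3_2 (iv F38685) D24825 (iv D20677)
theorem F50457 : act 1 n23650 = n24825 := d8_3 F50456 (iv F46931) (iv F47217)
def n24826 : Q := act 1 n20388
theorem D24826 : act 1 n20388 = n24826 := rfl
theorem F50458 : act 4 n24826 = n20680 := d8_2 (iv F38686) D24826 (iv D20680)
def n24827 : Q := act 0 n20390
theorem D24827 : act 0 n20390 = n24827 := rfl
theorem F50459 : act 4 n24827 = n20681 := d3_2 (iv F38690) D24827 (iv D20681)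
def n24828 : Q := act 6 n20390
theorem D24828 : act 6 n20390 = n24828 := rfl
theorem F50460 : act 1 n24828 = n24811 := d10_1 D24828 (iv D24811) (iv D20377) (iv F26306) D20390
theorem F50461 : act 4 n24828 = n20682 := d19_1 D24828 (iv D20682) (iv F38690)
def n24829 : Q := act 5 n20391
theorem D24829 : act 5 n20391 = n24829 := rfl
theorem F50462 : act 4 n24829 = n20685 := d18_1 D24829 (iv D20685) (iv F38691)
def n24830 : Q := act 6 n20391
theorem D24830 : act 6 n20391 = n24830 := rfl
theorem F50463 : act 4 n24830 = n20686 := d19_1 D24830 (iv D20686) (iv F38691)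
def n24831 : Q := act 1 n20393
theorem D24831 : act 1 n20393 = n24831 := rfl
theorem F50464 : act 4 n24831 = n20687 := d8_2 (iv F38696) D24831 (iv D20687)
theorem F50465 : act 6 n24831 = n21834 := d10_2 D20393 D24831 (iv D21834) (iv D16476) (iv F26308)
def n24832 : Q := act 1 n20394
theorem D24832 : act 1 n20394 = n24832 := rfl
theorem F50466 : act 3 n24832 = n20698 := d7_2 (iv F38698) D24832 (iv D20698)
theorem F50467 : act 4 n24832 = n20397 := d8_2 (iv F38699) D24832 (iv D20397)
def n24833 : Q := act 2 n20394
theorem D24833 : act 2 n20394 = n24833 := rfl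
theorem F50468 : act 0 n24833 = n20395 := d1_1 D24833 (iv D20395) D20394
theorem F50469 : act 4 n24833 = n20398 := d12_2 (iv F38699) D24833 (iv D20398)
def n24834 : Q := act 3 n20395
theorem D24834 : act 3 n20395 = n24834 := rfl
def n24835 : Q := act 5 n20395
theorem D24835 : act 5 n20395 = n24835 := rfl
theorem F50470 : act 2 n24835 = n20396 := d13_1 D24835 (iv D20396) D20395
theorem F50471 : act 4 n24835 = n20401 := d18_1 D24835 (iv D20401) (iv F38700)
def n24836 : Q := act 6 n20396
theorem D24836 : act 6 n20396 = n24836 := rfl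
theorem F50472 : act 0 n24836 = n20753 := d5_1 D24836 F46482 F46478
theorem F50473 : act 3 n24836 = n20701 := d17_1 D24836 (iv D20701) (iv F38702)
theorem F50474 : act 4 n24836 = n20402 := d19_1 D24836 (iv D20402) (iv F38703)
theorem F50475 : act 5 n24836 = n24729 := d20_1 D24836 F50241 F46481 (iv F46482) F39385 F38549 D20396
def n24837 : Q := act 2 n20397
theorem D24837 : act 2 n20397 = n24837 := rfl
theorem F50476 : act 0 n24837 = n23377 := d1_1 D24837 (iv F48556) F48531
def n24838 : Q := act 5 n20397
theorem D24838 : act 5 n20397 = n24838 := rfl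
theorem F50477 : act 1 n24838 = n23648 := d9_1 D24838 F47211 F46470 (iv D20399) D20397
theorem F50478 : act 3 n24838 = n20403 := d16_1 D24838 (iv D20403) (iv F38704)
def n24839 : Q := act 6 n20397
theorem D24839 : act 6 n20397 = n24839 := rfl
theorem F50479 : act 3 n24839 = n20404 := d17_1 D24839 (iv D20404) (iv F38704)
def n24840 : Q := act 1 n20398
theorem D24840 : act 1 n20398 = n24840 := rfl
def n24841 : Q := act 3 n20398
theorem D24841 : act 3 n20398 = n24841 := rfl
theorem F50480 : act 0 n24841 = n20400 := d2_1 D24841 (iv D20400) (iv F38705)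
theorem F50481 : act 2 n24841 = n20435 := d21_2 D20398 D24841 (iv D20435) (iv D15123) F20545 F17426 (iv F20527) D15102
def n24842 : Q := act 5 n20398
theorem D24842 : act 5 n20398 = n24842 := rfl
theorem F50482 : act 0 n24842 = n20401 := d4_1 D24842 (iv D20401) (iv F38705)
theorem F50483 : act 2 n24842 = n20399 := d13_1 D24842 (iv D20399) D20398
theorem F50484 : act 6 n24842 = n24735 := d22_1 D24842 (iv D24735) F38556 (iv F38705)
def n24843 : Q := act 2 n20400
theorem D24843 : act 2 n20400 = n24843 := rfl
theorem F50485 : act 0 n24843 = n20435 := d1_1 D24843 (iv F50481) F50480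
theorem F50486 : act 3 n24843 = n20433 := d11_2 D20400 D24843 (iv D20433) F26352 F20546 (iv F26312) D20398 D24841 F50481 (iv D20435) (iv D15123) F20545 F17426 (iv F20527) D15103
def n24844 : Q := act 4 n20400
theorem D24844 : act 4 n20400 = n24844 := rfl
def n24845 : Q := act 5 n20400
theorem D24845 : act 5 n20400 = n24845 := rfl
theorem F50487 : act 3 n24845 = n20401 := d16_1 D24845 (iv D20401) D20400
def n24846 : Q := act 1 n20401
theorem D24846 : act 1 n20401 = n24846 := rfl
theorem F50488 : act 2 n24846 = n21624 := d6_2 (iv F38709) D24846 (iv D21624) F28293 (iv F26313)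
def n24847 : Q := act 6 n20401
theorem D24847 : act 6 n20401 = n24847 := rfl
theorem F50489 : act 0 n24847 = n24735 := d5_1 D24847 (iv F50484) F50482
theorem F50490 : act 2 n24847 = n20402 := d14_1 D24847 (iv D20402) (iv F38709)
theorem F50491 : act 5 n24847 = n24733 := d20_1 D24847 F50248 D24842 F50484 (iv D24735) F38556 D20401
def n24848 : Q := act 1 n20402
theorem D24848 : act 1 n20402 = n24848 := rfl
theorem F50492 : act 3 n24848 = n20405 := d7_2 (iv F38711) D24848 (iv D20405)
theorem F50493 : act 6 n24848 = n21627 := d10_2 D20402 D24848 (iv D21627) (iv D16343) (iv F26313)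
def n24849 : Q := act 6 n20403
theorem D24849 : act 6 n20403 = n24849 := rfl
theorem F50494 : act 0 n24849 = n24032 := d5_1 D24849 (iv F48535) F48532
theorem F50495 : act 2 n24849 = n23645 := d14_1 D24849 F47198 (iv F38714)
theorem F50496 : act 4 n24849 = n20706 := d19_1 D24849 (iv D20706) (iv F38715)
theorem F50497 : act 5 n24849 = n24072 := d20_1 D24849 (iv D24072) D24071 F48535 F48442 (iv D20404) D20403
def n24850 : Q := act 0 n20405
theorem D24850 : act 0 n20405 = n24850 := rfl
theorem F50498 : act 1 n24850 = n23531 := d0_2 D20405 D24850 F46867 F40683 (iv F40746) F50261 (iv D24742) (iv D20329) (iv F26320)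
theorem F50499 : act 4 n24850 = n20708 := d3_2 (iv F38717) D24850 (iv D20708)
theorem F50500 : act 6 n24850 = n21628 := d5_2 (iv F38718) D24850 (iv D21628)
def n24851 : Q := act 2 n20405
theorem D24851 : act 2 n20405 = n24851 := rfl
theorem F50501 : act 1 n24851 = n24792 := d6_1 D24851 (iv D24792) (iv D20363) (iv F26321) D20405
theorem F50502 : act 4 n24851 = n20709 := d12_2 (iv F38717) D24851 (iv D20709)
theorem F50503 : act 6 n24851 = n21629 := d14_2 (iv F38718) D24851 (iv D21629)
def n24852 : Q := act 5 n20405
theorem D24852 : act 5 n20405 = n24852 := rfl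
theorem F50504 : act 1 n24852 = n24741 := d9_1 D24852 (iv D24741) (iv D20328) (iv F26323) D20405
theorem F50505 : act 4 n24852 = n20710 := d18_1 D24852 (iv D20710) (iv F38717)
def n24853 : Q := act 5 n20406
theorem D24853 : act 5 n20406 = n24853 := rfl
theorem F50506 : act 0 n24853 = n21634 := d4_1 D24853 (iv D21634) (iv F38719)
theorem F50507 : act 2 n24853 = n22929 := d13_1 D24853 (iv D22929) (iv F38721)
theorem F50508 : act 3 n24853 = n20407 := d16_1 D24853 (iv D20407) D20406
theorem F50509 : act 4 n24853 = n23401 := d18_1 D24853 F46584 F46571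
theorem F50510 : act 6 n24853 = n23400 := d22_1 D24853 (iv D23400) (iv F35264) (iv F38719)
def n24854 : Q := act 1 n20407
theorem D24854 : act 1 n20407 = n24854 := rfl
theorem F50511 : act 4 n24854 = n20711 := d8_2 (iv F38724) D24854 (iv D20711)
theorem F50512 : act 5 n24854 = n20412 := d9_2 D20407 D24854 (iv D20412) (iv D15110) D15108
theorem F50513 : act 2 n24392 = n24854 := d13_3 F50512 (iv F39579) D24392
def n24855 : Q := act 1 n20408
theorem D24855 : act 1 n20408 = n24855 := rfl
theorem F50514 : act 2 n24855 = n22926 := d6_2 D20408 D24855 F45364 (iv F38721) F38720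
def n24856 : Q := act 3 n20408
theorem D24856 : act 3 n20408 = n24856 := rfl
theorem F50515 : act 0 n24856 = n20414 := d2_1 D24856 (iv D20414) (iv F38726)
theorem F50516 : act 2 n24856 = n20414 := d21_2 D20408 D24856 (iv D20414) (iv D15112) (iv D11587) F17505 D11587 (iv F26327)
def n24857 : Q := act 4 n20408
theorem D24857 : act 4 n20408 = n24857 := rfl
theorem F50517 : act 0 n24857 = n20415 := d3_1 D24857 (iv D20415) (iv F38726)
theorem F50518 : act 2 n24857 = n20409 := d12_1 D24857 (iv D20409) D20408
def n24858 : Q := act 5 n20408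
theorem D24858 : act 5 n20408 = n24858 := rfl
theorem F50519 : act 0 n24858 = n20416 := d4_1 D24858 (iv D20416) (iv F38726)
theorem F50520 : act 2 n24858 = n20410 := d13_1 D24858 (iv D20410) D20408
def n24859 : Q := act 6 n20408
theorem D24859 : act 6 n20408 = n24859 := rfl
theorem F50521 : act 0 n24859 = n20417 := d5_1 D24859 (iv D20417) (iv F38726)
theorem F50522 : act 2 n24859 = n20411 := d14_1 D24859 (iv D20411) D20408
def n24860 : Q := act 5 n20409
theorem D24860 : act 5 n20409 = n24860 := rfl
theorem F50523 : act 0 n24860 = n20418 := d4_1 D24860 (iv D20418) (iv F38727)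
theorem F50524 : act 3 n24860 = n20714 := d16_1 D24860 (iv D20714) (iv F38728)
theorem F50525 : act 4 n24860 = n20410 := d18_1 D24860 (iv D20410) D20409
def n24861 : Q := act 6 n20409
theorem D24861 : act 6 n20409 = n24861 := rfl
theorem F50526 : act 0 n24861 = n20419 := d5_1 D24861 (iv D20419) (iv F38727)
theorem F50527 : act 3 n24861 = n20715 := d17_1 D24861 (iv D20715) (iv F38728)
theorem F50528 : act 4 n24861 = n20411 := d19_1 D24861 (iv D20411) D20409
def n24862 : Q := act 1 n20410
theorem D24862 : act 1 n20410 = n24862 := rfl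
theorem F50529 : act 3 n24862 = n20412 := d7_2 (iv F38730) D24862 (iv D20412)
theorem F50530 : act 6 n24391 = n24862 := d17_0 F50529 F39578 D24391
def n24863 : Q := act 0 n20412
theorem D24863 : act 0 n20412 = n24863 := rfl
theorem F50531 : act 2 n24863 = n24385 := d1_2 F39579 D24863 F49350
theorem F50532 : act 4 n24863 = n20717 := d3_2 (iv F38733) D24863 (iv D20717)
theorem F50533 : act 6 n24863 = n24384 := d5_2 (iv F39578) D24863 F49347
def n24864 : Q := act 5 n20413
theorem D24864 : act 5 n20413 = n24864 := rfl
theorem F50534 : act 2 n24864 = n22326 := d13_1 D24864 (iv D22326) F38735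
theorem F50535 : act 4 n24864 = n20720 := d18_1 D24864 (iv D20720) (iv F38734)
theorem F50536 : act 6 n24864 = n23592 := d22_1 D24864 (iv D23592) (iv F39156) F39153
def n24865 : Q := act 4 n20414
theorem D24865 : act 4 n20414 = n24865 := rfl
def n24866 : Q := act 5 n20414
theorem D24866 : act 5 n20414 = n24866 := rfl
theorem F50537 : act 3 n24866 = n20416 := d16_1 D24866 (iv D20416) D20414
def n24867 : Q := act 6 n20414
theorem D24867 : act 6 n20414 = n24867 := rfl
theorem F50538 : act 3 n24867 = n20417 := d17_1 D24867 (iv D20417) D20414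
def n24868 : Q := act 3 n20415
theorem D24868 : act 3 n20415 = n24868 := rfl
theorem F50539 : act 2 n24868 = n20419 := d21_2 (iv F38736) D24868 F38741 (iv F35355) (iv F39310) F39309 (iv F38728) F38727
theorem F50540 : act 4 n20417 = n24868 := d12_0 F50539 F38742 (iv F38738)
theorem F50541 : act 6 n20415 = n24868 := d14_0 F50539 (iv D20419) (iv F38736)
theorem E10344 : n24867 = n24865 := ((c15_5 F50540 (iv D24868) (iv D20415) D20414 D24865 F50538)).symm
theorem F50542 : act 3 n24865 = n20417 := (sb E10344 F50538)
theorem F50543 : act 6 n24865 = n20414 := (sb E10344 (iv D24867))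
def n24869 : Q := act 5 n20415
theorem D24869 : act 5 n20415 = n24869 := rfl
theorem F50544 : act 2 n24869 = n20418 := d13_1 D24869 (iv D20418) (iv F38736)
theorem F50545 : act 4 n24869 = n20416 := d18_1 D24869 (iv D20416) D20415
def n24870 : Q := act 1 n20416
theorem D24870 : act 1 n20416 = n24870 := rfl
def n24871 : Q := act 6 n20416
theorem D24871 : act 6 n20416 = n24871 := rfl
theorem F50546 : act 2 n24871 = n20420 := d14_1 D24871 (iv D20420) (iv F38737)
theorem F50547 : act 5 n24871 = n24859 := d22_2 D20416 D24871 (iv D24859) F38726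
def n24872 : Q := act 1 n20417
theorem D24872 : act 1 n20417 = n24872 := rfl
def n24873 : Q := act 5 n20417
theorem D24873 : act 5 n20417 = n24873 := rfl
theorem F50548 : act 0 n24873 = n24871 := d4_1 D24873 F50547 F50521
theorem F50549 : act 2 n24873 = n20421 := d13_1 D24873 (iv D20421) (iv F38738)
theorem F50550 : act 6 n24873 = n24858 := d20_2 D20417 D24873 (iv D24858) D24859 (iv F50547) (iv D24871) (iv D20416)
def n24874 : Q := act 6 n20418
theorem D24874 : act 6 n20418 = n24874 := rfl
theorem F50551 : act 3 n24874 = n20725 := d17_1 D24874 (iv D20725) (iv F38739)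
theorem F50552 : act 4 n24874 = n20420 := d19_1 D24874 (iv D20420) (iv F38740)
theorem F50553 : act 5 n24874 = n24861 := d22_2 D20418 D24874 (iv D24861) F38727
def n24875 : Q := act 5 n20419
theorem D24875 : act 5 n20419 = n24875 := rfl
theorem F50554 : act 0 n24875 = n24874 := d4_1 D24875 F50553 F50526
theorem F50555 : act 3 n24875 = n20726 := d16_1 D24875 (iv D20726) (iv F38741)
theorem F50556 : act 4 n24875 = n20421 := d18_1 D24875 (iv D20421) (iv F38742)
theorem F50557 : act 6 n24875 = n24860 := d20_2 D20419 D24875 (iv D24860) D24861 (iv F50553) (iv D24874) (iv D20418)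
def n24876 : Q := act 1 n20420
theorem D24876 : act 1 n20420 = n24876 := rfl
theorem F50558 : act 3 n24876 = n20424 := d7_2 (iv F38743) D24876 (iv D20424)
def n24877 : Q := act 1 n20421
theorem D24877 : act 1 n20421 = n24877 := rfl
theorem F50559 : act 3 n24877 = n20425 := d7_2 (iv F38746) D24877 (iv D20425)
def n24878 : Q := act 1 n20422
theorem D24878 : act 1 n20422 = n24878 := rfl
theorem F50560 : act 4 n24878 = n20731 := d8_2 (iv F38748) D24878 (iv D20731)
def n24879 : Q := act 0 n20424
theorem D24879 : act 0 n20424 = n24879 := rfl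
theorem F50561 : act 4 n24879 = n20732 := d3_2 (iv F38752) D24879 (iv D20732)
def n24880 : Q := act 5 n20424
theorem D24880 : act 5 n20424 = n24880 := rfl
theorem F50562 : act 1 n24880 = n24864 := d9_1 D24880 (iv D24864) (iv D20413) (iv F26342) D20424
theorem F50563 : act 4 n24880 = n20733 := d18_1 D24880 (iv D20733) (iv F38752)
def n24881 : Q := act 0 n20425
theorem D24881 : act 0 n20425 = n24881 := rfl
theorem F50564 : act 4 n24881 = n20734 := d3_2 (iv F38753) D24881 (iv D20734)
theorem F50565 : act 1 n23702 = n24881 := d8_3 F50564 (iv F44096) (iv F47354)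
def n24882 : Q := act 5 n20426
theorem D24882 : act 5 n20426 = n24882 := rfl
theorem F50566 : act 4 n24882 = n20739 := d18_1 D24882 (iv D20739) (iv F38754)
def n24883 : Q := act 6 n20426
theorem D24883 : act 6 n20426 = n24883 := rfl
theorem F50567 : act 4 n24883 = n20740 := d19_1 D24883 (iv D20740) (iv F38754)
def n24884 : Q := act 1 n20428
theorem D24884 : act 1 n20428 = n24884 := rfl
theorem F50568 : act 4 n24884 = n20741 := d8_2 (iv F38759) D24884 (iv D20741)
theorem F50569 : act 5 n24884 = n21887 := d9_2 D20428 D24884 (iv D21887) (iv D16510) (iv F26348)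
def n24885 : Q := act 1 n20429
theorem D24885 : act 1 n20429 = n24885 := rfl
theorem F50570 : act 3 n24885 = n20752 := d7_2 (iv F38761) D24885 (iv D20752)
theorem F50571 : act 4 n24885 = n20432 := d8_2 (iv F38762) D24885 (iv D20432)
def n24886 : Q := act 2 n20429
theorem D24886 : act 2 n20429 = n24886 := rfl
theorem F50572 : act 0 n24886 = n20430 := d1_1 D24886 (iv D20430) D20429
theorem F50573 : act 4 n24886 = n20433 := d12_2 (iv F38762) D24886 (iv D20433)
def n24887 : Q := act 3 n20430
theorem D24887 : act 3 n20430 = n24887 := rfl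
def n24888 : Q := act 6 n20430
theorem D24888 : act 6 n20430 = n24888 := rfl
theorem F50574 : act 2 n24888 = n20431 := d14_1 D24888 (iv D20431) D20430
theorem F50575 : act 4 n24888 = n20436 := d19_1 D24888 (iv D20436) (iv F38763)
def n24889 : Q := act 5 n20431
theorem D24889 : act 5 n20431 = n24889 := rfl
theorem F50576 : act 0 n24889 = n20700 := d4_1 D24889 F46604 F46601
theorem F50577 : act 3 n24889 = n20699 := d16_1 D24889 F39278 (iv F38765)
theorem F50578 : act 4 n24889 = n20437 := d18_1 D24889 (iv D20437) (iv F38766)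
theorem F50579 : act 6 n24889 = n24778 := d20_2 D20431 D24889 F50347 F46605 (iv F46604) F39281 F38630
def n24890 : Q := act 2 n20432
theorem D24890 : act 2 n20432 = n24890 := rfl
theorem F50580 : act 0 n24890 = n23436 := d1_1 D24890 (iv F48677) F48652
def n24891 : Q := act 5 n20432
theorem D24891 : act 5 n20432 = n24891 := rfl
theorem F50581 : act 3 n24891 = n20438 := d16_1 D24891 (iv D20438) (iv F38767)
def n24892 : Q := act 6 n20432
theorem D24892 : act 6 n20432 = n24892 := rfl
theorem F50582 : act 1 n24892 = n23700 := d10_1 D24892 F47348 F46593 (iv D20434) D20432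
theorem F50583 : act 3 n24892 = n20439 := d17_1 D24892 (iv D20439) (iv F38767)
def n24893 : Q := act 1 n20433
theorem D24893 : act 1 n20433 = n24893 := rfl
def n24894 : Q := act 6 n20433
theorem D24894 : act 6 n20433 = n24894 := rfl
theorem F50584 : act 0 n24894 = n20436 := d5_1 D24894 (iv D20436) (iv F38768)
theorem F50585 : act 2 n24894 = n20434 := d14_1 D24894 (iv D20434) D20433
theorem F50586 : act 5 n24894 = n24784 := d22_2 F50356 D24894 (iv D24784) (iv F50355)
def n24895 : Q := act 4 n20435
theorem D24895 : act 4 n20435 = n24895 := rfl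
def n24896 : Q := act 6 n20435
theorem D24896 : act 6 n20435 = n24896 := rfl
theorem F50587 : act 3 n24896 = n20436 := d17_1 D24896 (iv D20436) D20435
def n24897 : Q := act 1 n20436
theorem D24897 : act 1 n20436 = n24897 := rfl
theorem F50588 : act 2 n24897 = n21783 := d6_2 (iv F38772) D24897 (iv D21783) F28497 (iv F26353)
def n24898 : Q := act 5 n20436
theorem D24898 : act 5 n20436 = n24898 := rfl
theorem F50589 : act 0 n24898 = n24784 := d4_1 D24898 (iv F50586) F50584
theorem F50590 : act 2 n24898 = n20437 := d13_1 D24898 (iv D20437) (iv F38772)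
theorem F50591 : act 6 n24898 = n24782 := d20_2 D20436 D24898 F50356 D24894 F50586 (iv D24784) F38637
def n24899 : Q := act 1 n20437
theorem D24899 : act 1 n20437 = n24899 := rfl
theorem F50592 : act 3 n24899 = n20440 := d7_2 (iv F38774) D24899 (iv D20440)
theorem F50593 : act 5 n24899 = n21786 := d9_2 D20437 D24899 (iv D21786) (iv D16446) (iv F26353)
def n24900 : Q := act 5 n20439
theorem D24900 : act 5 n20439 = n24900 := rfl
theorem F50594 : act 0 n24900 = n24024 := d4_1 D24900 (iv F48659) F48656
theorem F50595 : act 2 n24900 = n23697 := d13_1 D24900 F47335 (iv F38778)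
theorem F50596 : act 4 n24900 = n20757 := d18_1 D24900 (iv D20757) (iv F38779)
theorem F50597 : act 6 n24900 = n24122 := d20_2 D20439 D24900 (iv D24122) D24123 F48659 F48414 (iv D20438)
def n24901 : Q := act 0 n20440
theorem D24901 : act 0 n20440 = n24901 := rfl
theorem F50598 : act 1 n24901 = n23592 := d0_2 D20440 D24901 F47057 F40704 (iv F40762) F50373 (iv D24791) (iv D20363) (iv F26360)
theorem F50599 : act 4 n24901 = n20758 := d3_2 (iv F38780) D24901 (iv D20758)
theorem F50600 : act 5 n24901 = n21787 := d4_2 (iv F38781) D24901 (iv D21787)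
def n24902 : Q := act 2 n20440
theorem D24902 : act 2 n20440 = n24902 := rfl
theorem F50601 : act 1 n24902 = n24743 := d6_1 D24902 (iv D24743) (iv D20329) (iv F26361) D20440
theorem F50602 : act 4 n24902 = n20759 := d12_2 (iv F38780) D24902 (iv D20759)
theorem F50603 : act 5 n24902 = n21788 := d13_2 (iv F38781) D24902 (iv D21788)
def n24903 : Q := act 6 n20440
theorem D24903 : act 6 n20440 = n24903 := rfl
theorem F50604 : act 1 n24903 = n24790 := d10_1 D24903 (iv D24790) (iv D20362) (iv F26363) D20440
theorem F50605 : act 4 n24903 = n20760 := d19_1 D24903 (iv D20760) (iv F38780)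
def n24904 : Q := act 6 n20441
theorem D24904 : act 6 n20441 = n24904 := rfl
theorem F50606 : act 0 n24904 = n23340 := d5_1 D24904 (iv D23340) (iv F38782)
theorem F50607 : act 2 n24904 = n23338 := d14_1 D24904 (iv D23338) (iv F38784)
theorem F50608 : act 3 n24904 = n20442 := d17_1 D24904 (iv D20442) D20441
theorem F50609 : act 4 n24904 = n22906 := d19_1 D24904 F45316 F45166
theorem F50610 : act 5 n24904 = n22904 := d22_2 F45299 D24904 (iv D22904) (iv F45297)
def n24905 : Q := act 1 n20443
theorem D24905 : act 1 n20443 = n24905 := rfl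
theorem F50611 : act 2 n24905 = n23188 := d6_2 D20443 D24905 F46078 (iv F38784) F38783
theorem F50612 : act 3 n24905 = n21333 := d7_2 F41657 D24905 (iv F41656)
theorem F50613 : act 0 n23195 = n24905 := d2_3 F50612 (iv F49712) (iv F49717)
theorem F50614 : act 4 n24573 = n24905 := d15_0 F50612 F41271 (iv D20210) D20211 D24573
theorem F50615 : act 5 n24719 = n24905 := d16_0 F50612 F41272 D24719
def n24906 : Q := act 4 n20443
theorem D24906 : act 4 n20443 = n24906 := rfl
theorem F50616 : act 0 n24906 = n20450 := d3_1 D24906 (iv D20450) (iv F38789)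
theorem F50617 : act 1 n24906 = n24573 := d8_1 D24906 F50614 (iv D24905)
theorem F50618 : act 2 n24906 = n20444 := d12_1 D24906 (iv D20444) D20443
theorem F50619 : act 3 n24906 = n24570 := d15_1 D24906 (iv D24570) D24569 (iv F49852) F41657
def n24907 : Q := act 5 n20443
theorem D24907 : act 5 n20443 = n24907 := rfl
theorem F50620 : act 0 n24907 = n20451 := d4_1 D24907 (iv D20451) (iv F38789)
theorem F50621 : act 2 n24907 = n20445 := d13_1 D24907 (iv D20445) D20443
def n24908 : Q := act 6 n20443
theorem D24908 : act 6 n20443 = n24908 := rfl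
theorem F50622 : act 0 n24908 = n20452 := d5_1 D24908 (iv D20452) (iv F38789)
theorem F50623 : act 2 n24908 = n20446 := d14_1 D24908 (iv D20446) D20443
def n24909 : Q := act 6 n20444
theorem D24909 : act 6 n20444 = n24909 := rfl
theorem F50624 : act 0 n24909 = n20454 := d5_1 D24909 (iv D20454) (iv F38790)
theorem F50625 : act 3 n24909 = n22142 := d17_1 D24909 F43114 (iv F38791)
theorem F50626 : act 4 n24909 = n20446 := d19_1 D24909 (iv D20446) D20444
def n24910 : Q := act 1 n20445
theorem D24910 : act 1 n20445 = n24910 := rfl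
theorem F50627 : act 3 n24910 = n20447 := d7_2 (iv F38793) D24910 (iv D20447)
theorem F50628 : act 4 n24910 = n24419 := d8_2 F43936 D24910 F49446
theorem F50629 : act 5 n24910 = n24549 := d9_2 D20445 D24910 F49803 F45299 F38783
theorem F50630 : act 0 n24554 = n24910 := d4_3 F50629 F49802 D24554
def n24911 : Q := act 1 n20446
theorem D24911 : act 1 n20446 = n24911 := rfl
theorem F50631 : act 3 n24911 = n20448 := d7_2 (iv F38795) D24911 (iv D20448)
def n24912 : Q := act 0 n20448
theorem D24912 : act 0 n20448 = n24912 := rfl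
theorem F50632 : act 2 n24912 = n21764 := d1_2 F45564 D24912 (iv F45562)
theorem F50633 : act 4 n24912 = n22139 := d3_2 (iv F38800) D24912 (iv D22139)
theorem F50634 : act 6 n24912 = n21771 := d5_2 F45600 D24912 (iv F45597)
def n24913 : Q := act 5 n20448
theorem D24913 : act 5 n20448 = n24913 := rfl
theorem F50635 : act 4 n24913 = n22141 := d18_1 D24913 (iv D22141) (iv F38800)
theorem F50636 : act 6 n24913 = n24745 := d22_1 D24913 F50268 (iv F50634) (iv D24912)
def n24914 : Q := act 4 n20449
theorem D24914 : act 4 n20449 = n24914 := rfl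
theorem F50637 : act 0 n24914 = n24569 := d3_1 D24914 (iv F49852) F41655
theorem F50638 : act 1 n24914 = n24813 := d8_1 D24914 (iv D24813) (iv F38801)
theorem F50639 : act 2 n24914 = n23126 := d12_1 D24914 F45927 F41649
theorem F50640 : act 3 n24914 = n24568 := d21_7 (iv F48276) F48277 (iv D23103) F33549 D18749 D23126 (iv F50639) (iv D24568)
def n24915 : Q := act 5 n20449
theorem D24915 : act 5 n20449 = n24915 := rfl
theorem F50641 : act 3 n24915 = n20451 := d16_1 D24915 (iv D20451) D20449
def n24916 : Q := act 6 n20449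
theorem D24916 : act 6 n20449 = n24916 := rfl
theorem F50642 : act 3 n24916 = n20452 := d17_1 D24916 (iv D20452) D20449
def n24917 : Q := act 3 n20450
theorem D24917 : act 3 n20450 = n24917 := rfl
theorem F50643 : act 0 n24917 = n24570 := d2_1 D24917 (iv F50619) F50616
theorem F50644 : act 1 n24917 = n24816 := d7_1 D24917 (iv D24816) (iv F38802)
theorem F50645 : act 4 n24917 = n24568 := d15_2 D20450 D24917 (iv F50640) (iv D24914) (iv D20449)
def n24918 : Q := act 5 n20450
theorem D24918 : act 5 n20450 = n24918 := rfl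
theorem F50646 : act 2 n24918 = n20453 := d13_1 D24918 (iv D20453) (iv F38803)
theorem F50647 : act 4 n24918 = n20451 := d18_1 D24918 (iv D20451) D20450
def n24919 : Q := act 6 n20450
theorem D24919 : act 6 n20450 = n24919 := rfl
theorem F50648 : act 2 n24919 = n20454 := d14_1 D24919 (iv D20454) (iv F38803)
theorem F50649 : act 4 n24919 = n20452 := d19_1 D24919 (iv D20452) D20450
def n24920 : Q := act 1 n20451
theorem D24920 : act 1 n20451 = n24920 := rfl
theorem F50650 : act 2 n24920 = n24568 := d6_2 (iv F38804) D24920 (iv F49848) F38674 (iv F26375)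
theorem F50651 : act 5 n24920 = n24568 := d9_2 D20451 D24920 (iv F49848) (iv D20381) (iv F26372)
theorem F50652 : act 0 n24920 = n23974 := d23_3 D15134 (iv F38804) D24920 F48278 (iv F48276) (iv D23974) (iv F48269) F48271 (iv D19730) (iv F37181) F37180 F33573 (iv F28107) (iv F33865) (iv F46443) (iv D23337) (iv F38784) F38783 F26365
def n24921 : Q := act 6 n20451
theorem D24921 : act 6 n20451 = n24921 := rfl
theorem F50653 : act 2 n24921 = n20455 := d14_1 D24921 (iv D20455) (iv F38804)
theorem F50654 : act 5 n24921 = n24908 := d22_2 D20451 D24921 (iv D24908) F38789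
def n24922 : Q := act 1 n20452
theorem D24922 : act 1 n20452 = n24922 := rfl
theorem F50655 : act 2 n24922 = n21563 := d6_2 (iv F38805) D24922 (iv D21563) (iv D16308) (iv F26377)
theorem F50656 : act 6 n24922 = n24819 := d10_2 D20452 D24922 (iv D24819) (iv D20382) (iv F26372)
def n24923 : Q := act 5 n20452
theorem D24923 : act 5 n20452 = n24923 := rfl
theorem F50657 : act 0 n24923 = n24921 := d4_1 D24923 F50654 F50622
theorem F50658 : act 2 n24923 = n20456 := d13_1 D24923 (iv D20456) (iv F38805)
theorem F50659 : act 6 n24923 = n24907 := d20_2 D20452 D24923 (iv D24907) D24908 (iv F50654) (iv D24921) (iv D20451)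
def n24924 : Q := act 6 n20453
theorem D24924 : act 6 n20453 = n24924 := rfl
theorem F50660 : act 3 n24924 = n22452 := d17_1 D24924 (iv D22452) (iv F38807)
theorem F50661 : act 4 n24924 = n20455 := d19_1 D24924 (iv D20455) (iv F38808)
theorem F50662 : act 5 n24924 = n24909 := d22_2 D20453 D24924 (iv D24909) F38790
def n24925 : Q := act 5 n20454
theorem D24925 : act 5 n20454 = n24925 := rfl
theorem F50663 : act 0 n24925 = n24924 := d4_1 D24925 F50662 F50624
theorem F50664 : act 3 n24925 = n22144 := d16_1 D24925 F43119 (iv F38810)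
theorem F50665 : act 4 n24925 = n20456 := d18_1 D24925 (iv D20456) (iv F38811)
theorem F50666 : act 6 n24925 = n22451 := d20_2 D20454 D24925 F43937 D24909 (iv F50662) (iv D24924) (iv D20453)
def n24926 : Q := act 1 n20455
theorem D24926 : act 1 n20455 = n24926 := rfl
theorem F50667 : act 3 n24926 = n20457 := d7_2 (iv F38812) D24926 (iv D20457)
theorem F50668 : act 6 n24926 = n24823 := d10_2 D20455 D24926 (iv D24823) (iv D20385) (iv F26375)
def n24927 : Q := act 1 n20456
theorem D24927 : act 1 n20456 = n24927 := rfl
theorem F50669 : act 3 n24927 = n20458 := d7_2 (iv F38815) D24927 (iv D20458)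
theorem F50670 : act 5 n24927 = n21568 := d9_2 D20456 D24927 (iv D21568) (iv D16310) (iv F26377)
def n24928 : Q := act 0 n20457
theorem D24928 : act 0 n20457 = n24928 := rfl
theorem F50671 : act 4 n24928 = n22454 := d3_2 (iv F38817) D24928 (iv D22454)
theorem F50672 : act 6 n24928 = n24825 := d5_2 (iv F38818) D24928 (iv D24825)
def n24929 : Q := act 5 n20457
theorem D24929 : act 5 n20457 = n24929 := rfl
theorem F50673 : act 1 n24929 = n24913 := d9_1 D24929 (iv D24913) (iv D20448) (iv F26381) D20457
theorem F50674 : act 4 n24929 = n22456 := d18_1 D24929 (iv D22456) (iv F38817)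
def n24930 : Q := act 0 n20458
theorem D24930 : act 0 n20458 = n24930 := rfl
theorem F50675 : act 4 n24930 = n22145 := d3_2 (iv F38819) D24930 (iv D22145)
theorem F50676 : act 5 n24930 = n21569 := d4_2 (iv F38820) D24930 (iv D21569)
theorem F50677 : act 1 n24048 = n24930 := d23_2 D19736 (iv F48485) (iv D24930) F38820 D21570 F41760 (iv F41763) F41766 (iv D16315) (iv F34733) F34732 (iv D14926) (iv F34735) D14943 (iv F27693) F28097 (iv F36750) F37196 (iv D19734)
def n24931 : Q := act 2 n20458
theorem D24931 : act 2 n20458 = n24931 := rfl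
theorem F50678 : act 1 n24931 = n21546 := d6_1 D24931 (iv D21546) (iv D16298) (iv F26383) D20458
theorem F50679 : act 4 n24931 = n22146 := d12_2 (iv F38819) D24931 (iv D22146)
theorem F50680 : act 5 n24931 = n21570 := d13_2 (iv F38820) D24931 (iv D21570)
def n24932 : Q := act 6 n20458
theorem D24932 : act 6 n20458 = n24932 := rfl
theorem F50681 : act 1 n24932 = n24558 := d10_1 D24932 F49825 (iv D20447) (iv F26385) D20458
theorem F50682 : act 4 n24932 = n22147 := d19_1 D24932 (iv D22147) (iv F38819)
def n24933 : Q := act 5 n20459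
theorem D24933 : act 5 n20459 = n24933 := rfl
theorem F50683 : act 0 n24933 = n23399 := d4_1 D24933 (iv D23399) (iv F38821)
theorem F50684 : act 2 n24933 = n23396 := d13_1 D24933 (iv D23396) (iv F38823)
theorem F50685 : act 3 n24933 = n20460 := d16_1 D24933 (iv D20460) D20459
theorem F50686 : act 4 n24933 = n22935 := d18_1 D24933 F45385 F45194
theorem F50687 : act 6 n24933 = n22933 := d22_1 D24933 (iv D22933) (iv F34798) (iv F38821)
def n24934 : Q := act 1 n20461
theorem D24934 : act 1 n20461 = n24934 := rfl
theorem F50688 : act 2 n24934 = n23264 := d6_2 D20461 D24934 F46263 (iv F38823) F38822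
theorem F50689 : act 3 n24934 = n21407 := d7_2 F42001 D24934 (iv F42000)
theorem F50690 : act 0 n23271 = n24934 := d2_3 F50689 (iv F49764) (iv F49769)
theorem F50691 : act 4 n24628 = n24934 := d15_0 F50689 F41408 (iv D20244) D20245 D24628
theorem F50692 : act 6 n24768 = n24934 := d17_0 F50689 F41409 D24768
def n24935 : Q := act 4 n20461
theorem D24935 : act 4 n20461 = n24935 := rfl
theorem F50693 : act 0 n24935 = n20468 := d3_1 D24935 (iv D20468) (iv F38828)
theorem F50694 : act 1 n24935 = n24628 := d8_1 D24935 F50691 (iv D24934)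
theorem F50695 : act 2 n24935 = n20462 := d12_1 D24935 (iv D20462) D20461
theorem F50696 : act 3 n24935 = n24625 := d15_1 D24935 (iv D24625) D24624 (iv F49988) F42001
def n24936 : Q := act 5 n20461
theorem D24936 : act 5 n20461 = n24936 := rfl
theorem F50697 : act 0 n24936 = n20469 := d4_1 D24936 (iv D20469) (iv F38828)
theorem F50698 : act 2 n24936 = n20463 := d13_1 D24936 (iv D20463) D20461
def n24937 : Q := act 6 n20461
theorem D24937 : act 6 n20461 = n24937 := rfl
theorem F50699 : act 0 n24937 = n20470 := d5_1 D24937 (iv D20470) (iv F38828)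
theorem F50700 : act 2 n24937 = n20464 := d14_1 D24937 (iv D20464) D20461
def n24938 : Q := act 5 n20462
theorem D24938 : act 5 n20462 = n24938 := rfl
theorem F50701 : act 0 n24938 = n20471 := d4_1 D24938 (iv D20471) (iv F38829)
theorem F50702 : act 3 n24938 = n22350 := d16_1 D24938 F43670 (iv F38830)
theorem F50703 : act 4 n24938 = n20463 := d18_1 D24938 (iv D20463) D20462
def n24939 : Q := act 1 n20463
theorem D24939 : act 1 n20463 = n24939 := rfl
theorem F50704 : act 3 n24939 = n20465 := d7_2 (iv F38832) D24939 (iv D20465)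
def n24940 : Q := act 1 n20464
theorem D24940 : act 1 n20464 = n24940 := rfl
theorem F50705 : act 3 n24940 = n20466 := d7_2 (iv F38834) D24940 (iv D20466)
theorem F50706 : act 4 n24940 = n24440 := d8_2 F44082 D24940 F49509
theorem F50707 : act 6 n24940 = n24604 := d10_2 D20464 D24940 F49940 F45368 F38822
theorem F50708 : act 0 n24610 = n24940 := d5_3 F50707 F49939 D24610
def n24941 : Q := act 0 n20465
theorem D24941 : act 0 n20465 = n24941 := rfl
theorem F50709 : act 2 n24941 = n21604 := d1_2 F45648 D24941 (iv F45646)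
theorem F50710 : act 4 n24941 = n22222 := d3_2 (iv F38835) D24941 F43322
theorem F50711 : act 5 n24941 = n21612 := d4_2 F45684 D24941 (iv F45681)
def n24942 : Q := act 6 n20465
theorem D24942 : act 6 n20465 = n24942 := rfl
theorem F50712 : act 4 n24942 = n22349 := d19_1 D24942 (iv D22349) (iv F38835)
theorem F50713 : act 5 n24942 = n24794 := d22_2 F45684 D24942 F50380 (iv F45681)
def n24943 : Q := act 4 n20467
theorem D24943 : act 4 n20467 = n24943 := rfl
theorem F50714 : act 0 n24943 = n24624 := d3_1 D24943 (iv F49988) F41999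
theorem F50715 : act 1 n24943 = n24865 := d8_1 D24943 (iv D24865) (iv F38840)
theorem F50716 : act 2 n24943 = n23141 := d12_1 D24943 F45966 F41993
theorem F50717 : act 3 n24943 = n24623 := d21_7 (iv F48343) F48344 (iv D23115) F33555 D18766 D23141 (iv F50716) (iv D24623)
theorem E10345 : n24872 = n24623 := ((c7_1 F50717 (iv D24872) (iv F50542) (iv F50715))).symm
theorem F50718 : act 1 n24623 = n20417 := (sb E10345 (iv D24872))
def n24944 : Q := act 5 n20467
theorem D24944 : act 5 n20467 = n24944 := rfl
theorem F50719 : act 3 n24944 = n20469 := d16_1 D24944 (iv D20469) D20467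
def n24945 : Q := act 6 n20467
theorem D24945 : act 6 n20467 = n24945 := rfl
theorem F50720 : act 3 n24945 = n20470 := d17_1 D24945 (iv D20470) D20467
def n24946 : Q := act 3 n20468
theorem D24946 : act 3 n20468 = n24946 := rfl
theorem F50721 : act 0 n24946 = n24625 := d2_1 D24946 (iv F50696) F50693
theorem F50722 : act 1 n24946 = n24868 := d7_1 D24946 (iv D24868) (iv F38841)
theorem F50723 : act 4 n24946 = n24623 := d15_2 D20468 D24946 (iv F50717) (iv D24943) (iv D20467)
def n24947 : Q := act 5 n20468
theorem D24947 : act 5 n20468 = n24947 := rfl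
theorem F50724 : act 2 n24947 = n20471 := d13_1 D24947 (iv D20471) (iv F38842)
theorem F50725 : act 4 n24947 = n20469 := d18_1 D24947 (iv D20469) D20468
def n24948 : Q := act 6 n20468
theorem D24948 : act 6 n20468 = n24948 := rfl
theorem F50726 : act 2 n24948 = n20472 := d14_1 D24948 (iv D20472) (iv F38842)
theorem F50727 : act 4 n24948 = n20470 := d19_1 D24948 (iv D20470) D20468
def n24949 : Q := act 1 n20469
theorem D24949 : act 1 n20469 = n24949 := rfl
theorem F50728 : act 2 n24949 = n21722 := d6_2 (iv F38843) D24949 (iv D21722) (iv D16411) (iv F26397)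
theorem F50729 : act 5 n24949 = n24870 := d9_2 D20469 D24949 (iv D24870) (iv D20416) (iv F26394)
def n24950 : Q := act 6 n20469
theorem D24950 : act 6 n20469 = n24950 := rfl
theorem F50730 : act 2 n24950 = n20473 := d14_1 D24950 (iv D20473) (iv F38843)
theorem F50731 : act 5 n24950 = n24937 := d22_2 D20469 D24950 (iv D24937) F38828
def n24951 : Q := act 1 n20470
theorem D24951 : act 1 n20470 = n24951 := rfl
theorem F50732 : act 2 n24951 = n24623 := d6_2 (iv F38844) D24951 F50718 F38738 (iv F26399)
theorem F50733 : act 6 n24951 = n24623 := d10_2 D20470 D24951 F50718 (iv D20417) (iv F26394)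
theorem F50734 : act 0 n23999 = n24951 := d5_3 F50733 (iv D24623) (iv F48345)
def n24952 : Q := act 5 n20470
theorem D24952 : act 5 n20470 = n24952 := rfl
theorem F50735 : act 0 n24952 = n24950 := d4_1 D24952 F50731 F50699
theorem F50736 : act 2 n24952 = n20474 := d13_1 D24952 (iv D20474) (iv F38844)
theorem F50737 : act 6 n24952 = n24936 := d20_2 D20470 D24952 (iv D24936) D24937 (iv F50731) (iv D24950) (iv D20469)
def n24953 : Q := act 6 n20471
theorem D24953 : act 6 n20471 = n24953 := rfl
theorem F50738 : act 3 n24953 = n22352 := d17_1 D24953 F43676 (iv F38846)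
theorem F50739 : act 4 n24953 = n20473 := d19_1 D24953 (iv D20473) (iv F38847)
theorem F50740 : act 5 n24953 = n22510 := d22_2 D20471 D24953 F44083 F38829
def n24954 : Q := act 5 n20472
theorem D24954 : act 5 n20472 = n24954 := rfl
theorem F50741 : act 0 n24954 = n24953 := d4_1 D24954 F50740 F44081
theorem F50742 : act 3 n24954 = n22511 := d16_1 D24954 (iv D22511) (iv F38849)
theorem F50743 : act 4 n24954 = n20474 := d18_1 D24954 (iv D20474) (iv F38850)
theorem F50744 : act 6 n24954 = n24938 := d20_2 D20472 D24954 (iv D24938) (iv F44083) (iv F50740) (iv D24953) (iv D20471)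
def n24955 : Q := act 1 n20473
theorem D24955 : act 1 n20473 = n24955 := rfl
theorem F50745 : act 3 n24955 = n20475 := d7_2 (iv F38851) D24955 (iv D20475)
theorem F50746 : act 6 n24955 = n21727 := d10_2 D20473 D24955 (iv D21727) (iv D16413) (iv F26397)
def n24956 : Q := act 1 n20474
theorem D24956 : act 1 n20474 = n24956 := rfl
theorem F50747 : act 3 n24956 = n20476 := d7_2 (iv F38854) D24956 (iv D20476)
theorem F50748 : act 5 n24956 = n24877 := d9_2 D20474 D24956 (iv D24877) (iv D20421) (iv F26399)
def n24957 : Q := act 0 n20475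
theorem D24957 : act 0 n20475 = n24957 := rfl
theorem F50749 : act 4 n24957 = n22353 := d3_2 (iv F38856) D24957 (iv D22353)
theorem F50750 : act 6 n24957 = n21728 := d5_2 (iv F38857) D24957 (iv D21728)
theorem F50751 : act 1 n24099 = n24957 := d8_3 F50749 F43784 (iv F48607)
def n24958 : Q := act 2 n20475
theorem D24958 : act 2 n20475 = n24958 := rfl
theorem F50752 : act 1 n24958 = n21705 := d6_1 D24958 (iv D21705) (iv D16401) (iv F26401) D20475
theorem F50753 : act 4 n24958 = n22354 := d12_2 (iv F38856) D24958 (iv D22354)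
theorem F50754 : act 6 n24958 = n21729 := d14_2 (iv F38857) D24958 (iv D21729)
def n24959 : Q := act 5 n20475
theorem D24959 : act 5 n20475 = n24959 := rfl
theorem F50755 : act 1 n24959 = n24612 := d9_1 D24959 F49957 (iv D20466) (iv F26403) D20475
theorem F50756 : act 4 n24959 = n22355 := d18_1 D24959 (iv D22355) (iv F38856)
def n24960 : Q := act 0 n20476
theorem D24960 : act 0 n20476 = n24960 := rfl
theorem F50757 : act 4 n24960 = n22513 := d3_2 (iv F38858) D24960 (iv D22513)
theorem F50758 : act 5 n24960 = n24881 := d4_2 (iv F38859) D24960 (iv D24881)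
def n24961 : Q := act 6 n20476
theorem D24961 : act 6 n20476 = n24961 := rfl
theorem F50759 : act 1 n24961 = n24942 := d10_1 D24961 (iv D24942) (iv D20465) (iv F26407) D20476
theorem F50760 : act 4 n24961 = n22515 := d19_1 D24961 (iv D22515) (iv F38858)
def n24962 : Q := act 4 n20477
theorem D24962 : act 4 n20477 = n24962 := rfl
theorem F50761 : act 1 n24962 = n23193 := d8_1 D24962 F46094 (iv F38860)
theorem F50762 : act 2 n24962 = n22750 := d12_1 D24962 F44803 (iv F38862)
theorem F50763 : act 5 n24962 = n21912 := d18_2 (iv F38861) D24962 (iv D21912)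
def n24963 : Q := act 6 n20477
theorem D24963 : act 6 n20477 = n24963 := rfl
theorem F50764 : act 0 n24963 = n22317 := d5_1 D24963 F43557 F42862
theorem F50765 : act 2 n24963 = n22802 := d14_1 D24963 (iv D22802) (iv F38862)
theorem F50766 : act 3 n24963 = n20478 := d17_1 D24963 (iv D20478) D20477
theorem F50767 : act 5 n24963 = n23500 := d20_1 D24963 (iv D23500) (iv F42865) (iv F43557) F43556 (iv D21913) (iv F38861)
def n24964 : Q := act 4 n20479
theorem D24964 : act 4 n20479 = n24964 := rfl
theorem F50768 : act 1 n24964 = n23270 := d8_1 D24964 F46282 (iv F38865)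
theorem F50769 : act 2 n24964 = n22753 := d12_1 D24964 F44813 (iv F38867)
theorem F50770 : act 6 n24964 = n21915 := d19_2 (iv F38866) D24964 (iv D21915)
def n24965 : Q := act 5 n20479
theorem D24965 : act 5 n20479 = n24965 := rfl
theorem F50771 : act 0 n24965 = n22104 := d4_1 D24965 (iv F43398) F43395
theorem F50772 : act 2 n24965 = n22803 := d13_1 D24965 (iv D22803) (iv F38867)
theorem F50773 : act 3 n24965 = n20480 := d16_1 D24965 (iv D20480) D20479
theorem F50774 : act 6 n24965 = n23501 := d20_2 (iv F38866) D24965 (iv D23501) (iv F43399) F43398 F43010 (iv D21916)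
def n24966 : Q := act 5 n20481
theorem D24966 : act 5 n20481 = n24966 := rfl
theorem F50775 : act 0 n24966 = n22060 := d4_1 D24966 F49281 F49278
theorem F50776 : act 1 n24966 = n24383 := d9_1 D24966 (iv D24383) F37871 F29758 (iv F38870)
theorem F50777 : act 2 n24966 = n20482 := d13_1 D24966 (iv D20482) D20481
theorem F50778 : act 3 n24966 = n22058 := d16_1 D24966 F43839 F43836
theorem F50779 : act 6 n24966 = n24363 := d22_1 D24966 (iv D24363) D24364 F49278
def n24967 : Q := act 6 n20483
theorem D24967 : act 6 n20483 = n24967 := rfl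
theorem F50780 : act 0 n24967 = n22274 := d5_1 D24967 F49119 F49116
theorem F50781 : act 1 n24967 = n24330 := d10_1 D24967 (iv D24330) F37774 F30017 (iv F38874)
theorem F50782 : act 2 n24967 = n20484 := d14_1 D24967 (iv D20484) D20483
theorem F50783 : act 3 n24967 = n22272 := d17_1 D24967 (iv F43411) F43278
theorem F50784 : act 5 n24967 = n24307 := d22_2 F43288 D24967 (iv D24307) F43289
def n24968 : Q := act 6 n20489
theorem D24968 : act 6 n20489 = n24968 := rfl
theorem F50785 : act 0 n24968 = n23044 := d5_1 D24968 (iv D23044) (iv F38886)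
theorem F50786 : act 2 n24968 = n22841 := d14_1 D24968 (iv D22841) (iv F38888)
theorem F50787 : act 3 n24968 = n20490 := d17_1 D24968 (iv D20490) D20489
theorem F50788 : act 5 n24968 = n20500 := d22_2 F38907 D24968 (iv D20500) (iv F38906)
def n24969 : Q := act 1 n20490
theorem D24969 : act 1 n20490 = n24969 := rfl
theorem F50789 : act 0 n24969 = n20687 := d0_1 D24969 (iv D20687) F26702 (iv F37961) (iv F49465) F49468 F43196 F42899 F38917
theorem F50790 : act 6 n24969 = n20494 := d10_2 D20490 D24969 (iv D20494) (iv D15181) D15178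
def n24970 : Q := act 6 n20491
theorem D24970 : act 6 n20491 = n24970 := rfl
theorem F50791 : act 0 n24970 = n22898 := d5_1 D24970 (iv D22898) (iv F38894)
theorem F50792 : act 2 n24970 = n22830 := d14_1 D24970 (iv D22830) (iv F38895)
theorem F50793 : act 4 n24970 = n20492 := d19_1 D24970 (iv D20492) D20491
theorem F50794 : act 5 n24970 = n24420 := d22_2 F49442 D24970 (iv D24420) (iv F49439)
def n24971 : Q := act 1 n20492
theorem D24971 : act 1 n20492 = n24971 := rfl
theorem F50795 : act 0 n24971 = n22492 := d0_1 D24971 (iv D22492) (iv F30181) D22493 F44046 F35637 (iv F35640) (iv F35642) (iv F38896)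
theorem F50796 : act 3 n24971 = n20494 := d7_2 (iv F38898) D24971 (iv D20494)
def n24972 : Q := act 4 n20496
theorem D24972 : act 4 n20496 = n24972 := rfl
theorem F50797 : act 0 n24972 = n20499 := d3_1 D24972 (iv D20499) (iv F38906)
theorem F50798 : act 2 n24972 = n21107 := d12_1 D24972 (iv F45120) F45118
theorem F50799 : act 5 n24972 = n21167 := d18_2 (iv F38907) D24972 F40896
def n24973 : Q := act 6 n20496
theorem D24973 : act 6 n20496 = n24973 := rfl
theorem F50800 : act 0 n24973 = n20500 := d5_1 D24973 (iv D20500) (iv F38906)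
theorem F50801 : act 1 n24973 = n22221 := d10_1 D24973 F43321 (iv F43555) F43557 F42863
theorem F50802 : act 3 n24973 = n20497 := d17_1 D24973 (iv D20497) D20496
theorem F50803 : act 5 n24973 = n23044 := d20_1 D24973 (iv D23044) F33335 D20500 (iv F50788) (iv D24968) (iv F38907)
def n24974 : Q := act 6 n20498
theorem D24974 : act 6 n20498 = n24974 := rfl
theorem F50804 : act 2 n24974 = n20500 := d14_1 D24974 (iv D20500) D20498
theorem F50805 : act 3 n24974 = n21928 := d17_1 D24974 (iv D21928) (iv F38911)
theorem F50806 : act 4 n24974 = n21108 := d19_1 D24974 (iv D21108) F38912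
theorem F50807 : act 5 n24974 = n22841 := d22_2 (iv F38910) D24974 (iv D22841) (iv F32147)
def n24975 : Q := act 6 n20499
theorem D24975 : act 6 n20499 = n24975 := rfl
theorem F50808 : act 2 n24975 = n21108 := d14_1 D24975 (iv D21108) (iv F38914)
theorem F50809 : act 4 n24975 = n20500 := d19_1 D24975 (iv D20500) D20499
def n24976 : Q := act 0 n20503
theorem D24976 : act 0 n20503 = n24976 := rfl
theorem F50810 : act 2 n24976 = n22704 := d1_2 F44725 D24976 (iv F44724)
theorem F50811 : act 4 n24976 = n20504 := d3_2 (iv F38923) D24976 (iv D20504)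
theorem F50812 : act 1 n22960 = n24976 := d8_3 F50811 F38932 (iv F45447)
def n24977 : Q := act 1 n20509
theorem D24977 : act 1 n20509 = n24977 := rfl
theorem F50813 : act 0 n24977 = n20682 := d0_1 D24977 F39248 (iv F42496) (iv F44001) F44000 F43998 F39055 F26555 (iv F38927)
theorem F50814 : act 2 n24977 = n22582 := d6_2 (iv F39834) D24977 (iv D22582) F30395 (iv F31018)
theorem F50815 : act 5 n24977 = n24433 := d9_2 D20509 D24977 F49484 F45558 (iv D20507)
theorem F50816 : act 6 n24977 = n20681 := d10_2 (iv F38928) D24977 F49086 (iv D24293) F37706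
def n24978 : Q := act 6 n20511
theorem D24978 : act 6 n20511 = n24978 := rfl
theorem F50817 : act 0 n24978 = n22665 := d5_1 D24978 F44568 F39835
theorem F50818 : act 2 n24978 = n20512 := d14_1 D24978 (iv D20512) (iv F38934)
theorem F50819 : act 3 n24978 = n22664 := d17_1 D24978 F44565 (iv F39828)
theorem F50820 : act 5 n24978 = n24200 := d20_1 D24978 F48839 F39836 (iv F44568) F44567 F37482 D20511
def n24979 : Q := act 5 n20514
theorem D24979 : act 5 n20514 = n24979 := rfl
theorem F50821 : act 0 n24979 = n22625 := d4_1 D24979 (iv D22625) F39843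
theorem F50822 : act 3 n24979 = n22621 := d16_1 D24979 (iv D22621) (iv F39842)
def n24980 : Q := act 1 n20518
theorem D24980 : act 1 n20518 = n24980 := rfl
theorem F50823 : act 2 n24980 = n23940 := d6_2 F44369 D24980 F48145 (iv F44338) (iv F44368)
theorem F50824 : act 3 n24980 = n20519 := d7_2 (iv F38945) D24980 (iv D20519)
theorem F50825 : act 4 n24980 = n22720 := d8_2 F44467 D24980 F44716
theorem F50826 : act 5 n24980 = n22700 := d9_2 D20518 D24980 (iv D22700) (iv F35425) F39825
theorem F50827 : act 0 n24980 = n23942 := d23_3 D22611 F44369 D24980 (iv F48153) (iv F48156) F48155 (iv D22729) (iv F35361) (iv F35362) F31109 (iv F40497) (iv D21027) (iv F32891) F34993 F28808 (iv F25559) F28815 (iv F33157) (iv F33206)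
theorem F50828 : act 6 n23939 = n24980 := d5_0 F50827 (iv D23942) (iv F48143)
def n24981 : Q := act 1 n20522
theorem D24981 : act 1 n20522 = n24981 := rfl
theorem F50829 : act 3 n24981 = n24243 := d7_2 F39811 D24981 (iv D24243)
theorem F50830 : act 5 n24981 = n24221 := d9_2 (iv F42909) D24981 (iv D24221) F37499 (iv F42907)
def n24982 : Q := act 6 n20522
theorem D24982 : act 6 n20522 = n24982 := rfl
theorem F50831 : act 0 n24982 = n20525 := d5_1 D24982 (iv D20525) D20522
theorem F50832 : act 2 n24982 = n22107 := d14_1 D24982 F43020 F42912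
theorem F50833 : act 3 n24982 = n24242 := d17_1 D24982 F48949 F39811
theorem F50834 : act 5 n24982 = n22105 := d20_1 D24982 F43014 (iv D20524) D20525 F39557 (iv F42908) (iv F42909)
theorem F50835 : act 1 n22261 = n24982 := d9_5 F50834 F43013 (iv D16952) (iv F29853) D22261
def n24983 : Q := act 1 n20524
theorem D24983 : act 1 n20524 = n24983 := rfl
theorem F50836 : act 0 n24983 = n22527 := d0_1 D24983 F44121 (iv F49420) (iv F49424) F48837 F37481 (iv F37483) (iv F42907) F42906
theorem F50837 : act 2 n24983 = n22035 := d6_2 F42904 D24983 F42840 (iv F43580) F43579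
theorem F50838 : act 3 n24983 = n24245 := d7_2 F39813 D24983 (iv D24245)
theorem F50839 : act 5 n24983 = n20528 := d9_2 D20524 D24983 (iv D20528) (iv D15204) D15202
theorem F50840 : act 6 n24983 = n22044 := d10_2 F43014 D24983 F42861 (iv F29859) (iv F43013)
def n24984 : Q := act 6 n20528
theorem D24984 : act 6 n20528 = n24984 := rfl
theorem F50841 : act 0 n24984 = n22528 := d5_1 D24984 (iv D22528) F39568
theorem F50842 : act 1 n24984 = n23949 := d10_1 D24984 F48183 (iv D20519) (iv F26486) D20528
theorem F50843 : act 2 n24984 = n22030 := d14_1 D24984 F42828 (iv F38957)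
def n24985 : Q := act 1 n20533
theorem D24985 : act 1 n20533 = n24985 := rfl
theorem F50844 : act 0 n24985 = n24985 := d0_1 D24985 (iv D24985) F38961 D24980 F50827 F48150 (iv F50827) (iv D24980) (iv F38961)
theorem F50845 : act 3 n24985 = n20534 := d7_2 (iv F38962) D24985 (iv D20534)
def n24986 : Q := act 5 n20534
theorem D24986 : act 5 n20534 = n24986 := rfl
theorem F50846 : act 0 n24986 = n24986 := d4_1 D24986 (iv D24986) F38964
theorem F50847 : act 1 n24986 = n24979 := d9_1 D24986 (iv D24979) (iv D20514) (iv F26491) D20534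
def n24987 : Q := act 5 n20535
theorem D24987 : act 5 n20535 = n24987 := rfl
theorem F50848 : act 0 n24987 = n23048 := d4_1 D24987 (iv D23048) (iv F38965)
theorem F50849 : act 2 n24987 = n22846 := d13_1 D24987 (iv D22846) (iv F38967)
theorem F50850 : act 3 n24987 = n20536 := d16_1 D24987 (iv D20536) D20535
theorem F50851 : act 6 n24987 = n20546 := d22_1 D24987 (iv D20546) (iv F35279) (iv F38965)
def n24988 : Q := act 1 n20536
theorem D24988 : act 1 n20536 = n24988 := rfl
theorem F50852 : act 0 n24988 = n20741 := d0_1 D24988 (iv D20741) F26766 (iv F38008) (iv F49543) F49545 F43752 F43430 F38996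
theorem F50853 : act 5 n24988 = n20539 := d9_2 D20536 D24988 (iv D20539) (iv D15213) D15211
def n24989 : Q := act 5 n20537
theorem D24989 : act 5 n20537 = n24989 := rfl
theorem F50854 : act 0 n24989 = n22927 := d4_1 D24989 (iv D22927) (iv F38973)
theorem F50855 : act 2 n24989 = n22832 := d13_1 D24989 (iv D22832) (iv F38974)
theorem F50856 : act 4 n24989 = n20538 := d18_1 D24989 (iv D20538) D20537
theorem F50857 : act 6 n24989 = n24441 := d22_1 D24989 (iv D24441) F37988 (iv F38973)
def n24990 : Q := act 1 n20538
theorem D24990 : act 1 n20538 = n24990 := rfl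
theorem F50858 : act 0 n24990 = n22552 := d0_1 D24990 (iv D22552) F30322 D22551 F44179 F35788 (iv F35792) (iv F35794) (iv F38975)
theorem F50859 : act 3 n24990 = n20539 := d7_2 (iv F38977) D24990 (iv D20539)
def n24991 : Q := act 4 n20542
theorem D24991 : act 4 n20542 = n24991 := rfl
theorem F50860 : act 0 n24991 = n20545 := d3_1 D24991 (iv D20545) (iv F38985)
theorem F50861 : act 2 n24991 = n21114 := d12_1 D24991 (iv F45140) F45138
theorem F50862 : act 6 n24991 = n21179 := d19_2 (iv F38986) D24991 F40926
def n24992 : Q := act 5 n20542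
theorem D24992 : act 5 n20542 = n24992 := rfl
theorem F50863 : act 0 n24992 = n20546 := d4_1 D24992 (iv D20546) (iv F38985)
theorem F50864 : act 1 n24992 = n22419 := d9_1 D24992 F43866 (iv F43009) (iv F43398) F43396
theorem F50865 : act 3 n24992 = n20543 := d16_1 D24992 (iv D20543) D20542
theorem F50866 : act 6 n24992 = n23048 := d20_2 (iv F38986) D24992 (iv D23048) F35279 D20546 (iv F50851) (iv D24987)
def n24993 : Q := act 5 n20544
theorem D24993 : act 5 n20544 = n24993 := rfl
theorem F50867 : act 2 n24993 = n20546 := d13_1 D24993 (iv D20546) D20544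
theorem F50868 : act 3 n24993 = n21934 := d16_1 D24993 (iv D21934) (iv F38990)
theorem F50869 : act 4 n24993 = n21115 := d18_1 D24993 (iv D21115) F38991
theorem F50870 : act 6 n24993 = n22846 := d22_1 D24993 (iv D22846) D22847 F45136
def n24994 : Q := act 5 n20545
theorem D24994 : act 5 n20545 = n24994 := rfl
theorem F50871 : act 2 n24994 = n21115 := d13_1 D24994 (iv D21115) (iv F38993)
theorem F50872 : act 4 n24994 = n20546 := d18_1 D24994 (iv D20546) D20545
def n24995 : Q := act 0 n20549
theorem D24995 : act 0 n20549 = n24995 := rfl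
theorem F50873 : act 2 n24995 = n22659 := d1_2 F44622 D24995 (iv F44621)
theorem F50874 : act 4 n24995 = n20550 := d3_2 (iv F39002) D24995 (iv D20550)
theorem F50875 : act 1 n22967 = n24995 := d8_3 F50874 (iv F39011) (iv F45465)
def n24996 : Q := act 1 n20555
theorem D24996 : act 1 n20555 = n24996 := rfl
theorem F50876 : act 0 n24996 = n20733 := d0_1 D24996 F39352 (iv F42500) (iv F44130) (iv F44138) F44139 F39133 F26631 (iv F39006)
theorem F50877 : act 2 n24996 = n22628 := d6_2 (iv F39690) D24996 (iv D22628) F30512 (iv F30783)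
theorem F50878 : act 5 n24996 = n20732 := d9_2 (iv F39007) D24996 F49246 (iv D24350) F37805
theorem F50879 : act 6 n24996 = n24454 := d10_2 D20555 D24996 F49562 F45643 (iv D20553)
def n24997 : Q := act 5 n20557
theorem D24997 : act 5 n20557 = n24997 := rfl
theorem F50880 : act 0 n24997 = n22651 := d4_1 D24997 F44519 F39691
theorem F50881 : act 2 n24997 = n20558 := d13_1 D24997 (iv D20558) (iv F39013)
theorem F50882 : act 3 n24997 = n22650 := d16_1 D24997 F44517 (iv F39684)
theorem F50883 : act 6 n24997 = n24224 := d20_2 D20557 D24997 F48897 F39692 (iv F44519) F44520 F37515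
def n24998 : Q := act 6 n20560
theorem D24998 : act 6 n20560 = n24998 := rfl
theorem F50884 : act 0 n24998 = n22579 := d5_1 D24998 (iv D22579) F39699
theorem F50885 : act 3 n24998 = n22576 := d17_1 D24998 (iv D22576) (iv F39698)
def n24999 : Q := act 1 n20564
theorem D24999 : act 1 n20564 = n24999 := rfl
theorem F50886 : act 2 n24999 = n23931 := d6_2 F44304 D24999 F48111 (iv F44489) F44488
theorem F50887 : act 3 n24999 = n20565 := d7_2 (iv F39024) D24999 (iv D20565)
theorem F50888 : act 4 n24999 = n22685 := d8_2 F44301 D24999 F44613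
theorem F50889 : act 6 n24999 = n22655 := d10_2 D20564 D24999 (iv D22655) (iv F35422) F39681
theorem F50890 : act 0 n24999 = n23933 := d23_3 (iv F44307) F44304 D24999 (iv D23933) (iv D19600) (iv D14404) (iv F19943) (iv D11239) (iv F19932) F34448 (iv D12018) D12020 F21216 (iv F21129) (iv F27357) (iv D15821) D15820 (iv F39778) (iv F39779)
theorem F50891 : act 5 n23930 = n24999 := d4_0 F50890 (iv D23933) (iv F48109)
theorem E10346 : n23916 = n21059 := ((c23_15 F50891 F50886 F48111 F37458 D19843 (iv F39438) (iv D18554) F23796 (iv D13499) D13498 F34447 F21233 D12032 (iv F27498) D21059 (iv D23916) F36827 D23917 F48063 (iv F48109))).symm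
theorem F50892 : act 0 n21059 = n19592 := (sb E10346 (iv D23916))
theorem E10347 : n23918 = n21038 := (c0_6 D21059 F50892 (iv D19592) (iv F25150) D19593 D23918 (iv D21038) (iv F27439) (iv F34325) (iv F27497))
theorem F50893 : act 0 n21038 = n19593 := (sb E10347 (iv D23918))
def n25000 : Q := act 1 n20568
theorem D25000 : act 1 n20568 = n25000 := rfl
theorem F50894 : act 3 n25000 = n24247 := d7_2 (iv F39801) D25000 (iv D24247)
theorem F50895 : act 6 n25000 = n24241 := d10_2 F43451 D25000 (iv D24241) F37533 (iv F43449)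
def n25001 : Q := act 5 n20568
theorem D25001 : act 5 n20568 = n25001 := rfl
theorem F50896 : act 0 n25001 = n20570 := d4_1 D25001 (iv D20570) D20568
theorem F50897 : act 2 n25001 = n22070 := d13_1 D25001 (iv F43456) F43454
theorem F50898 : act 3 n25001 = n24246 := d16_1 D25001 F48963 (iv F39801)
theorem F50899 : act 6 n25001 = n22318 := d20_2 F43451 D25001 F43561 (iv D20571) D20570 F39805 (iv F43448)
theorem F50900 : act 1 n22445 = n25001 := d10_5 F50899 F43560 (iv D17143) (iv F30100) D22445
def n25002 : Q := act 1 n20571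
theorem D25002 : act 1 n20571 = n25002 := rfl
theorem F50901 : act 0 n25002 = n22469 := d0_1 D25002 F43987 (iv F49395) (iv F49399) F48895 F37514 (iv F37516) (iv F43449) F43447
theorem F50902 : act 2 n25002 = n21991 := d6_2 F43446 D25002 F42727 (iv F43036) (iv F43443)
theorem F50903 : act 3 n25002 = n24249 := d7_2 (iv F39803) D25002 (iv D24249)
theorem F50904 : act 5 n25002 = n22000 := d9_2 F43561 D25002 F42744 (iv F30106) (iv F43560)
theorem F50905 : act 6 n25002 = n20574 := d10_2 D20571 D25002 (iv D20574) (iv D15237) D15235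
def n25003 : Q := act 5 n20574
theorem D25003 : act 5 n20574 = n25003 := rfl
theorem F50906 : act 0 n25003 = n22468 := d4_1 D25003 (iv D22468) F39676
theorem F50907 : act 1 n25003 = n23946 := d9_1 D25003 F48171 (iv D20565) (iv F26526) D20574
theorem F50908 : act 2 n25003 = n21986 := d13_1 D25003 F42715 (iv F39036)
def n25004 : Q := act 1 n20579
theorem D25004 : act 1 n20579 = n25004 := rfl
theorem F50909 : act 0 n25004 = n25004 := d0_1 D25004 (iv D25004) F39040 D24999 F50890 F48116 (iv F50890) (iv D24999) (iv F39040)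
theorem F50910 : act 3 n25004 = n20580 := d7_2 (iv F39041) D25004 (iv D20580)
def n25005 : Q := act 6 n20580
theorem D25005 : act 6 n20580 = n25005 := rfl
theorem F50911 : act 0 n25005 = n25005 := d5_1 D25005 (iv D25005) F39043
theorem F50912 : act 1 n25005 = n24998 := d10_1 D25005 (iv D24998) (iv D20560) (iv F26530) D20580
def n25006 : Q := act 2 n20581
theorem D25006 : act 2 n20581 = n25006 := rfl
theorem F50913 : act 0 n25006 = n24294 := d1_1 D25006 (iv D24294) F39046
theorem F50914 : act 1 n25006 = n25006 := d6_1 D25006 (iv D25006) (iv D20581) F26547 D20581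
theorem F50915 : act 3 n25006 = n20936 := d11_2 (iv F39044) D25006 F40236 F27246 (iv F35001) F25623 D14737 D19955 D24294 F49087 (iv F40274) F40275 (iv F37600) F37601 F36875
theorem F50916 : act 6 n25006 = n20585 := d14_2 (iv F39045) D25006 (iv D20585)
def n25007 : Q := act 0 n20583
theorem D25007 : act 0 n20583 = n25007 := rfl
theorem F50917 : act 4 n25007 = n20584 := d3_2 (iv F39049) D25007 (iv D20584)
theorem F50918 : act 6 n25007 = n24295 := d5_2 F46702 D25007 F49089
def n25008 : Q := act 2 n20583
theorem D25008 : act 2 n20583 = n25008 := rfl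
theorem F50919 : act 4 n25008 = n20585 := d12_2 (iv F39049) D25008 (iv D20585)
theorem F50920 : act 5 n20934 = n25008 := d18_0 F50919 (iv F39838) D20934
def n25009 : Q := act 5 n20583
theorem D25009 : act 5 n20583 = n25009 := rfl
theorem F50921 : act 1 n25009 = n22724 := d9_1 D25009 F44723 (iv D20503) (iv F26552) D20583
theorem F50922 : act 2 n25009 = n20934 := d13_1 D25009 F50920 (iv D25008)
theorem F50923 : act 4 n25009 = n20586 := d18_1 D25009 (iv D20586) (iv F39049)
def n25010 : Q := act 2 n20584
theorem D25010 : act 2 n20584 = n25010 := rfl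
theorem F50924 : act 0 n25010 = n20585 := d1_1 D25010 (iv D20585) D20584
theorem F50925 : act 3 n25010 = n20932 := d11_2 (iv F39050) D25010 F40362 F40359 F39062 (iv D20589) (iv D15252) (iv F26553) D20585 F39839 (iv F40224) F40225 F36306 F36303 (iv F36872)
theorem F50926 : act 6 n25010 = n24294 := d14_2 (iv F39051) D25010 (iv D24294)
theorem F50927 : act 5 n20931 = n25010 := d23_0 (iv D25010) F46817 F46814 (iv D22970) D22969 F45468 (iv F45473) (iv F45491) F45490 (iv F44455) F44454 F40493 (iv D21025) (iv D15842) (iv F22890) (iv D13074) (iv F21060) (iv F27221) (iv F40230)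
def n25011 : Q := act 5 n20584
theorem D25011 : act 5 n20584 = n25011 := rfl
theorem F50928 : act 0 n25011 = n20586 := d4_1 D25011 (iv D20586) D20584
theorem F50929 : act 2 n25011 = n20931 := d13_1 D25011 F50927 (iv D25010)
theorem F50930 : act 3 n25011 = n20588 := d16_1 D25011 (iv D20588) (iv F39050)
theorem F50931 : act 6 n25011 = n23666 := d20_2 (iv F39051) D25011 F47260 F39045 D20586 (iv F49093) (iv D24296)
def n25012 : Q := act 2 n20592
theorem D25012 : act 2 n20592 = n25012 := rfl
theorem F50932 : act 0 n25012 = n25012 := d1_1 D25012 (iv D25012) F39070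
theorem F50933 : act 1 n25012 = n20688 := d6_1 D25012 (iv D20688) (iv D15348) (iv F26567) D20592
theorem F50934 : act 4 n25012 = n21077 := d12_2 (iv F39072) D25012 (iv D21077)
theorem F50935 : act 5 n25012 = n25012 := d13_2 F39073 D25012 (iv D25012)
theorem F50936 : act 6 n25012 = n21964 := d14_2 (iv F39074) D25012 (iv D21964)
def n25013 : Q := act 3 n20593
theorem D25013 : act 3 n20593 = n25013 := rfl
theorem F50937 : act 0 n25013 = n24722 := d2_1 D25013 F50230 (iv F39075)
theorem F50938 : act 1 n25013 = n21072 := d7_1 D25013 (iv D21072) (iv F39076)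
theorem F50939 : act 2 n25013 = n24709 := d11_1 D25013 (iv D24709) F38512 F26197 (iv F22024) D16834 F38671 (iv F50230) (iv D24722) (iv D20318) F26209 F20483 (iv F20692) D15263 D20593
theorem F50940 : act 4 n25013 = n23197 := d15_2 (iv F39077) D25013 F46099 F33686 (iv F29149)
theorem F50941 : act 5 n25013 = n23196 := d16_2 (iv F39078) D25013 F46098
def n25014 : Q := act 6 n20593
theorem D25014 : act 6 n20593 = n25014 := rfl
theorem F50942 : act 0 n25014 = n24811 := d5_1 D25014 (iv D24811) (iv F39075)
theorem F50943 : act 2 n25014 = n20594 := d14_1 D25014 (iv D20594) D20593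
theorem F50944 : act 4 n25014 = n21910 := d19_1 D25014 (iv D21910) (iv F39077)
theorem F50945 : act 5 n25014 = n21085 := d20_1 D25014 (iv F46866) F46865 D24811 F50429 (iv D23531) (iv F39078)
def n25015 : Q := act 1 n20596
theorem D25015 : act 1 n20596 = n25015 := rfl
theorem F50946 : act 4 n25015 = n20598 := d8_2 (iv F39088) D25015 (iv D20598)
theorem F50947 : act 2 n23204 = n25015 := d23_1 D23204 (iv D25015) (iv D20596) F35158 (iv D15422) (iv D11774) (iv F20791) (iv D11763) (iv F14586) (iv F20941) (iv F26999) D20825 F39937 D20830 (iv F45306) (iv D22903) D22902 (iv F46112) (iv D23202)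
theorem F50948 : act 5 n25015 = n23203 := d13_2 D23204 F50947 (iv D23203)
def n25016 : Q := act 0 n20597
theorem D25016 : act 0 n20597 = n25016 := rfl
theorem F50949 : act 2 n25016 = n22853 := d1_2 (iv F39090) D25016 (iv D22853)
theorem F50950 : act 3 n25016 = n24787 := d2_2 F50244 D25016 F50364
theorem F50951 : act 4 n25016 = n20599 := d3_2 (iv F39091) D25016 (iv D20599)
def n25017 : Q := act 6 n20597
theorem D25017 : act 6 n20597 = n25017 := rfl
theorem F50952 : act 1 n25017 = n24975 := d10_1 D25017 (iv D24975) F38913 (iv F26582) D20597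
theorem F50953 : act 2 n25017 = n22852 := d14_1 D25017 F45152 (iv F39090)
theorem F50954 : act 4 n25017 = n20600 := d19_1 D25017 (iv D20600) (iv F39091)
def n25018 : Q := act 1 n20599
theorem D25018 : act 1 n20599 = n25018 := rfl
theorem F50955 : act 0 n25018 = n23001 := d0_1 D25018 (iv D23001) (iv F33353) (iv F38932) (iv D20504) (iv D15193) (iv F20697) D15272 D20599
theorem F50956 : act 2 n25018 = n22988 := d6_2 F39363 D25018 (iv F45522) (iv F45618) F45617
theorem F50957 : act 3 n25018 = n20606 := d7_2 (iv F39095) D25018 (iv D20606)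
theorem F50958 : act 5 n25018 = n22422 := d9_2 F39375 D25018 F43875 (iv F42561) F42560
def n25019 : Q := act 3 n20604
theorem D25019 : act 3 n20604 = n25019 := rfl
theorem F50959 : act 0 n25019 = n20978 := d2_1 D25019 (iv F43794) F43796
theorem F50960 : act 2 n25019 = n20977 := d11_1 D25019 F40351 (iv F33006) F26983 D20749 (iv F39376) (iv F43793) F43794 (iv D20978) F27318 F32930 F20924 D15419 F35165 D20604
theorem F50961 : act 4 n25019 = n22981 := d15_2 F50262 D25019 (iv D22981) (iv F45201) F50264
theorem F50962 : act 5 n25019 = n20609 := d16_2 (iv F39102) D25019 (iv D20609)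
def n25020 : Q := act 6 n20604
theorem D25020 : act 6 n20604 = n25020 := rfl
theorem F50963 : act 2 n25020 = n20605 := d14_1 D25020 (iv D20605) D20604
theorem F50964 : act 1 n24403 = n25020 := d24_14 (iv D25020) F39102 F26589 D15280 (iv F39703) F27173 (iv F26930) (iv F32606) (iv F30783) (iv F39692) (iv F48897) F49399 (iv D24404) D24403
def n25021 : Q := act 3 n20607
theorem D25021 : act 3 n20607 = n25021 := rfl
theorem F50965 : act 0 n25021 = n20609 := d2_1 D25021 (iv D20609) (iv F39107)
theorem F50966 : act 1 n25021 = n20797 := d7_1 D25021 (iv F43779) (iv F43780)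
theorem F50967 : act 2 n25021 = n20961 := d11_1 D25021 F40315 (iv F33002) F26976 F35167 F26587 D15276 D20609 (iv F39744) (iv F40393) F40392 F39909 F39363 F39095 D20607
theorem F50968 : act 4 n25021 = n20801 := d15_2 F50271 D25021 (iv F39864) (iv F45205) F50272
theorem F50969 : act 5 n25021 = n20978 := d16_2 F43795 D25021 (iv F43794)
theorem F50970 : act 6 n23805 = n25021 := d19_0 F50968 (iv F39866) D23805
def n25022 : Q := act 6 n20607
theorem D25022 : act 6 n20607 = n25022 := rfl
theorem F50971 : act 0 n25022 = n20610 := d5_1 D25022 (iv D20610) (iv F39107)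
theorem F50972 : act 2 n25022 = n20608 := d14_1 D25022 (iv D20608) D20607
theorem F50973 : act 3 n25022 = n23805 := d17_1 D25022 F50970 (iv D25021)
theorem F50974 : act 5 n25022 = n25020 := d22_2 F43795 D25022 (iv D25020) (iv F43796)
def n25023 : Q := act 6 n20609
theorem D25023 : act 6 n20609 = n25023 := rfl
theorem F50975 : act 0 n25023 = n23805 := d5_1 D25023 F50970 F50965
theorem F50976 : act 1 n25023 = n22580 := d10_1 D25023 (iv D22580) (iv F33044) (iv F39707) (iv F39110)
theorem F50977 : act 2 n25023 = n21003 := d14_1 D25023 F40441 F39744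
theorem F50978 : act 3 n25023 = n20610 := d17_1 D25023 (iv D20610) D20609
theorem F50979 : act 4 n25023 = n22984 := d19_1 D25023 (iv D22984) (iv F39711)
def n25024 : Q := act 1 n20610
theorem D25024 : act 1 n20610 = n25024 := rfl
theorem F50980 : act 2 n25024 = n24969 := d6_2 (iv F39111) D25024 (iv D24969) F38892 (iv F26590)
theorem F50981 : act 3 n25024 = n22580 := d7_2 F50978 D25024 (iv F50976)
theorem F50982 : act 6 n25024 = n20617 := d10_2 D20610 D25024 (iv D20617) (iv D15280) (iv F26589)
theorem F50983 : act 5 n24998 = n25024 := d22_0 F50982 (iv F39700) D22579 (iv F50884)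
def n25025 : Q := act 5 n20610
theorem D25025 : act 5 n20610 = n25025 := rfl
theorem F50984 : act 0 n25025 = n25020 := d4_1 D25025 (iv F50974) F50971
theorem F50985 : act 2 n25025 = n20611 := d13_1 D25025 (iv D20611) (iv F39111)
theorem F50986 : act 6 n25025 = n22395 := d20_2 D20610 D25025 F43795 D25022 F50974 (iv D25020) F39102
def n25026 : Q := act 1 n20611
theorem D25026 : act 1 n20611 = n25026 := rfl
theorem F50987 : act 5 n25026 = n24969 := d9_2 D20611 D25026 (iv D24969) F38893 (iv F26590)
theorem F50988 : act 6 n25026 = n22495 := d10_2 (iv F39113) D25026 F44040 F39019 F39101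
theorem F50989 : act 2 n24998 = n25026 := d14_3 F50988 F44041 D24998
def n25027 : Q := act 2 n20619
theorem D25027 : act 2 n20619 = n25027 := rfl
theorem F50990 : act 0 n25027 = n24351 := d1_1 D25027 (iv D24351) F39124
theorem F50991 : act 1 n25027 = n25027 := d6_1 D25027 (iv D25027) (iv D20619) F26606 D20619
theorem F50992 : act 3 n25027 = n20865 := d11_2 (iv F39122) D25027 (iv D20865) F27089 (iv F35380) F25649 D14786 D20009 D24351 F49247 F40473 F40051 (iv F37646) F37647 F26618
theorem F50993 : act 5 n25027 = n20623 := d13_2 (iv F39123) D25027 (iv D20623)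
def n25028 : Q := act 0 n20621
theorem D25028 : act 0 n20621 = n25028 := rfl
theorem F50994 : act 4 n25028 = n20622 := d3_2 (iv F39127) D25028 (iv D20622)
theorem F50995 : act 5 n25028 = n24352 := d4_2 F46751 D25028 F49249
def n25029 : Q := act 2 n20621
theorem D25029 : act 2 n20621 = n25029 := rfl
theorem F50996 : act 4 n25029 = n20623 := d12_2 (iv F39127) D25029 (iv D20623)
theorem F50997 : act 6 n21016 = n25029 := d19_0 F50996 (iv F39694) D21016
def n25030 : Q := act 6 n20621
theorem D25030 : act 6 n20621 = n25030 := rfl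
theorem F50998 : act 1 n25030 = n22688 := d10_1 D25030 F44620 (iv D20549) (iv F26614) D20621
theorem F50999 : act 2 n25030 = n21016 := d14_1 D25030 F50997 (iv D25029)
theorem F51000 : act 4 n25030 = n20624 := d19_1 D25030 (iv D20624) (iv F39127)
def n25031 : Q := act 2 n20622
theorem D25031 : act 2 n20622 = n25031 := rfl
theorem F51001 : act 0 n25031 = n20623 := d1_1 D25031 (iv D20623) D20622
theorem F51002 : act 3 n25031 = n21015 := d11_2 (iv F39128) D25031 F40469 F40137 F39140 (iv D20627) (iv D15291) (iv F26615) D20623 F39695 (iv F40055) F40053 F36204 F36202 F26619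
theorem F51003 : act 5 n25031 = n24351 := d13_2 (iv F39129) D25031 (iv D24351)
theorem F51004 : act 6 n25031 = n21013 := d22_3 D21017 F49248 (iv F51003) F40464
def n25032 : Q := act 6 n20622
theorem D25032 : act 6 n20622 = n25032 := rfl
theorem F51005 : act 0 n25032 = n20624 := d5_1 D25032 (iv D20624) D20622
theorem F51006 : act 2 n25032 = n21013 := d14_1 D25032 (iv F51004) (iv D25031)
theorem F51007 : act 3 n25032 = n20626 := d17_1 D25032 (iv D20626) (iv F39128)
theorem F51008 : act 5 n25032 = n23718 := d20_1 D25032 F47398 F39123 D20624 (iv F49253) (iv D24353) (iv F39129)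
def n25033 : Q := act 2 n20630
theorem D25033 : act 2 n20630 = n25033 := rfl
theorem F51009 : act 0 n25033 = n25033 := d1_1 D25033 (iv D25033) F39148
theorem F51010 : act 1 n25033 = n20742 := d6_1 D25033 (iv D20742) (iv D15406) (iv F26641) D20630
theorem F51011 : act 4 n25033 = n21079 := d12_2 (iv F39150) D25033 (iv D21079)
theorem F51012 : act 5 n25033 = n22008 := d13_2 (iv F39151) D25033 (iv D22008)
theorem F51013 : act 6 n25033 = n25033 := d14_2 F39152 D25033 (iv D25033)
def n25034 : Q := act 3 n20631
theorem D25034 : act 3 n20631 = n25034 := rfl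
theorem F51014 : act 0 n25034 = n24771 := d2_1 D25034 F50336 (iv F39153)
theorem F51015 : act 1 n25034 = n21075 := d7_1 D25034 (iv D21075) (iv F39154)
theorem F51016 : act 2 n25034 = n24758 := d11_1 D25034 (iv D24758) F38593 F26254 (iv F22197) D17025 F38735 (iv F50336) (iv D24771) (iv D20352) F26266 F20505 (iv F20730) D15301 D20631
theorem F51017 : act 4 n25034 = n23274 := d15_2 (iv F39155) D25034 F46285 F33775 F35097
theorem F51018 : act 6 n25034 = n23272 := d17_2 (iv F39156) D25034 F46283
def n25035 : Q := act 5 n20631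
theorem D25035 : act 5 n20631 = n25035 := rfl
theorem F51019 : act 0 n25035 = n24864 := d4_1 D25035 (iv D24864) (iv F39153)
theorem F51020 : act 2 n25035 = n20632 := d13_1 D25035 (iv D20632) D20631
theorem F51021 : act 4 n25035 = n21911 := d18_1 D25035 (iv D21911) (iv F39155)
theorem F51022 : act 6 n25035 = n21090 := d20_2 (iv F39156) D25035 (iv F47055) F47056 D24864 F50536 (iv D23592)
def n25036 : Q := act 1 n20634
theorem D25036 : act 1 n20634 = n25036 := rfl
theorem F51023 : act 2 n25036 = n23280 := d6_2 (iv F39167) D25036 F46303 F50947 (iv D25015)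
theorem F51024 : act 4 n25036 = n20636 := d8_2 (iv F39168) D25036 (iv D20636)
theorem F51025 : act 6 n23279 = n25036 := d19_0 F51024 (iv F39174) (iv F46300)
def n25037 : Q := act 0 n20635
theorem D25037 : act 0 n20635 = n25037 := rfl
theorem F51026 : act 2 n25037 = n22855 := d1_2 (iv F39170) D25037 (iv D22855)
theorem F51027 : act 3 n25037 = n24738 := d2_2 F50350 D25037 (iv F50353)
theorem F51028 : act 4 n25037 = n20637 := d3_2 (iv F39171) D25037 (iv D20637)
def n25038 : Q := act 5 n20635
theorem D25038 : act 5 n20635 = n25038 := rfl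
theorem F51029 : act 1 n25038 = n24994 := d9_1 D25038 (iv D24994) F38992 (iv F26656) D20635
theorem F51030 : act 2 n25038 = n22854 := d13_1 D25038 F45158 (iv F39170)
theorem F51031 : act 4 n25038 = n20638 := d18_1 D25038 (iv D20638) (iv F39171)
def n25039 : Q := act 1 n20637
theorem D25039 : act 1 n20637 = n25039 := rfl
theorem F51032 : act 0 n25039 = n23026 := d0_1 D25039 (iv D23026) (iv F33389) F39011 (iv D20550) (iv D15226) (iv F20735) D15310 D20637
theorem F51033 : act 2 n25039 = n22992 := d6_2 F39256 D25039 (iv F45532) (iv F45702) F45701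
theorem F51034 : act 3 n25039 = n20644 := d7_2 (iv F39175) D25039 (iv D20644)
theorem F51035 : act 6 n25039 = n22231 := d10_2 F39267 D25039 F43337 (iv F42578) F42576
def n25040 : Q := act 3 n20642
theorem D25040 : act 3 n20642 = n25040 := rfl
theorem F51036 : act 0 n25040 = n20894 := d2_1 D25040 (iv F43241) (iv F43243)
theorem F51037 : act 2 n25040 = n20893 := d11_1 D25040 F40129 (iv F33049) F26842 D20695 (iv F39268) (iv F43240) F43241 (iv D20894) F27163 F32505 F20837 D15361 F35155 D20642
theorem F51038 : act 4 n25040 = n22972 := d15_2 F50374 D25040 (iv D22972) (iv F45173) F50376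
theorem F51039 : act 6 n25040 = n20647 := d17_2 (iv F39181) D25040 (iv D20647)
def n25041 : Q := act 5 n20642
theorem D25041 : act 5 n20642 = n25041 := rfl
theorem F51040 : act 2 n25041 = n20643 := d13_1 D25041 (iv D20643) D20642
theorem F51041 : act 1 n25041 = n24413 := d24_2 (iv F39181) D25041 (iv D24413) D24412 (iv F49424) F48839 F39836 F31018 F32748 F27070 (iv F27328) F39748 (iv D15318) (iv F26663)
def n25042 : Q := act 3 n20645
theorem D25042 : act 3 n20645 = n25042 := rfl
theorem F51042 : act 0 n25042 = n20647 := d2_1 D25042 (iv D20647) (iv F39184)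
theorem F51043 : act 1 n25042 = n20848 := d7_1 D25042 (iv F43229) (iv F43230)
theorem F51044 : act 2 n25042 = n20874 := d11_1 D25042 F40086 (iv F33050) F26837 F35138 F26661 D15314 D20647 (iv F39788) (iv F40169) F40168 F39411 F39256 F39175 D20645
theorem F51045 : act 4 n25042 = n20851 := d15_2 F50383 D25042 (iv F40021) (iv F45177) (iv F50384)
theorem F51046 : act 6 n25042 = n20894 := d17_2 F43242 D25042 (iv F43241)
theorem F51047 : act 5 n23831 = n25042 := d18_0 F51045 (iv F40022) D23831
def n25043 : Q := act 5 n20645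
theorem D25043 : act 5 n20645 = n25043 := rfl
theorem F51048 : act 0 n25043 = n20648 := d4_1 D25043 (iv D20648) (iv F39184)
theorem F51049 : act 2 n25043 = n20646 := d13_1 D25043 (iv D20646) D20645
theorem F51050 : act 3 n25043 = n23831 := d16_1 D25043 F51047 (iv D25042)
theorem F51051 : act 6 n25043 = n25041 := d22_1 D25043 (iv D25041) F39181 (iv F39184)
def n25044 : Q := act 5 n20647
theorem D25044 : act 5 n20647 = n25044 := rfl
theorem F51052 : act 0 n25044 = n23831 := d4_1 D25044 F51047 F51042
theorem F51053 : act 1 n25044 = n22627 := d9_1 D25044 (iv D22627) (iv F33010) (iv F39751) (iv F39187)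
theorem F51054 : act 2 n25044 = n20919 := d13_1 D25044 F40212 F39788
theorem F51055 : act 3 n25044 = n20648 := d16_1 D25044 (iv D20648) D20647
theorem F51056 : act 4 n25044 = n22975 := d18_1 D25044 (iv D22975) (iv F39755)
def n25045 : Q := act 1 n20648
theorem D25045 : act 1 n20648 = n25045 := rfl
theorem F51057 : act 2 n25045 = n24988 := d6_2 (iv F39188) D25045 (iv D24988) F38971 (iv F26664)
theorem F51058 : act 3 n25045 = n22627 := d7_2 F51055 D25045 (iv F51053)
theorem F51059 : act 5 n25045 = n20655 := d9_2 D20648 D25045 (iv D20655) (iv D15318) (iv F26663)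
theorem F51060 : act 6 n24979 = n25045 := d22_1 D24979 F51059 F39749 F39843
def n25046 : Q := act 6 n20648
theorem D25046 : act 6 n20648 = n25046 := rfl
theorem F51061 : act 0 n25046 = n25041 := d5_1 D25046 (iv F51051) F51048
theorem F51062 : act 2 n25046 = n20649 := d14_1 D25046 (iv D20649) (iv F39188)
theorem F51063 : act 5 n25046 = n22190 := d20_1 D25046 F43242 D25043 F51051 (iv D25041) F39181 D20648
def n25047 : Q := act 1 n20649
theorem D25047 : act 1 n20649 = n25047 := rfl
theorem F51064 : act 5 n25047 = n22557 := d9_2 (iv F39190) D25047 F44187 F38939 (iv F39395)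
theorem F51065 : act 6 n25047 = n24988 := d10_2 D20649 D25047 (iv D24988) F38972 (iv F26664)
theorem F51066 : act 2 n24979 = n25047 := d14_3 F51065 (iv F51057) (iv F51060)
def n25048 : Q := act 6 n20658
theorem D25048 : act 6 n20658 = n25048 := rfl
theorem F51067 : act 0 n25048 = n20668 := d5_1 D25048 (iv D20668) (iv F39201)
theorem F51068 : act 2 n25048 = n20661 := d14_1 D25048 (iv D20661) (iv F39203)
theorem F51069 : act 3 n25048 = n22856 := d17_1 D25048 (iv D22856) (iv F39204)
theorem F51070 : act 4 n25048 = n20659 := d19_1 D25048 (iv D20659) D20658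
theorem F51071 : act 5 n25048 = n22856 := d22_2 F39220 D25048 (iv D22856) (iv F39218)
def n25049 : Q := act 1 n20661
theorem D25049 : act 1 n20661 = n25049 := rfl
theorem F51072 : act 4 n25049 = n20662 := d8_2 (iv F39211) D25049 (iv D20662)
theorem F51073 : act 6 n25049 = n23345 := d10_2 D20661 D25049 (iv D23345) F33874 (iv F33854)
theorem F51074 : act 5 n24338 = n25049 := d18_0 F51072 F43973 D24338
def n25050 : Q := act 1 n20664
theorem D25050 : act 1 n20664 = n25050 := rfl
theorem F51075 : act 0 n25050 = n23504 := d0_1 D25050 (iv F46927) F46926 (iv D20680) (iv D15338) (iv D11732) (iv F20747) D15328 D20664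
theorem F51076 : act 2 n25050 = n22214 := d6_2 F43976 D25050 (iv D22214) (iv F43271) F43270
theorem F51077 : act 3 n25050 = n23507 := d7_2 F49011 D25050 (iv F49009)
theorem F51078 : act 5 n25050 = n22214 := d9_2 (iv F43972) D25050 (iv D22214) (iv F29818) (iv F43340)
theorem F51079 : act 6 n25050 = n24289 := d10_2 F49149 D25050 F49065 (iv F44156) (iv F49146)
def n25051 : Q := act 6 n20667
theorem D25051 : act 6 n20667 = n25051 := rfl
theorem F51080 : act 0 n25051 = n22856 := d5_1 D25051 (iv D22856) (iv F39218)
theorem F51081 : act 2 n25051 = n20672 := d14_1 D25051 F39235 F39221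
theorem F51082 : act 3 n25051 = n20668 := d17_1 D25051 (iv D20668) D20667
theorem F51083 : act 4 n25051 = n20669 := d19_1 D25051 F39228 (iv F39219)
theorem F51084 : act 5 n25051 = n20668 := d20_1 D25051 (iv D20668) (iv F32215) D22856 (iv F51071) (iv D25048) (iv F39220)
theorem F51085 : act 1 n24439 = n25051 := d24_14 (iv D25051) F39220 F39202 (iv F32263) (iv D18387) D18386 F32260 D18390 F32268 (iv F32047) (iv D18302) D18300 (iv F37980) D24439
def n25052 : Q := act 1 n20670
theorem D25052 : act 1 n20670 = n25052 := rfl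
theorem F51086 : act 4 n25052 = n20673 := d8_2 (iv F39229) D25052 (iv D20673)
theorem F51087 : act 0 n23370 = n25052 := d3_3 F51086 (iv F46933) (iv F46517)
def n25053 : Q := act 0 n20671
theorem D25053 : act 0 n20671 = n25053 := rfl
theorem F51088 : act 2 n25053 = n23256 := d1_2 F45867 D25053 F46239
theorem F51089 : act 4 n25053 = n20674 := d3_2 (iv F39231) D25053 (iv D20674)
theorem F51090 : act 6 n25053 = n20683 := d5_2 (iv F39232) D25053 (iv D20683)
theorem F51091 : act 5 n25053 = n23255 := d22_0 (iv D23255) (iv F33739) (iv F39232) D25053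
def n25054 : Q := act 5 n20671
theorem D25054 : act 5 n20671 = n25054 := rfl
theorem F51092 : act 0 n25054 = n23255 := d4_1 D25054 (iv F51091) (iv D25053)
theorem F51093 : act 2 n25054 = n23254 := d13_1 D25054 F46235 F45867
theorem F51094 : act 4 n25054 = n20675 := d18_1 D25054 (iv D20675) (iv F39231)
theorem F51095 : act 6 n25054 = n22958 := d20_2 (iv F39232) D25054 (iv F45440) (iv F51090) F51091 (iv D23255) (iv F33739)
def n25055 : Q := act 1 n20672
theorem D25055 : act 1 n20672 = n25055 := rfl
theorem F51096 : act 4 n25055 = n20676 := d8_2 (iv F39234) D25055 (iv D20676)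
def n25056 : Q := act 2 n20673
theorem D25056 : act 2 n20673 = n25056 := rfl
theorem F51097 : act 0 n25056 = n20974 := d1_1 D25056 F46934 F46933
theorem F51098 : act 1 n25056 = n23008 := d6_1 D25056 F45583 F33233 F33092 D20673
theorem F51099 : act 3 n25056 = n20973 := d11_2 (iv F39236) D25056 (iv D20973) (iv F36448) (iv F47532) (iv F49394) F49393 F46932 (iv F46934) (iv D20974) (iv D15780) (iv F34348) (iv F36251) (iv F37912) F43970
def n25057 : Q := act 0 n20676
theorem D25057 : act 0 n20676 = n25057 := rfl
theorem F51100 : act 1 n25057 = n23566 := d0_2 D20676 D25057 (iv D23566) (iv D19144) (iv F24523) D19269 F46933 (iv D20673) (iv F26692)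
theorem F51101 : act 3 n25057 = n20681 := d2_2 (iv F39245) D25057 (iv D20681)
theorem F51102 : act 5 n25057 = n23709 := d4_2 F49479 D25057 (iv F49476)
theorem F51103 : act 2 n25057 = n23710 := d21_0 F47378 F39391 F36027 F33410 (iv F37967) F37966 (iv F39245) D25057
def n25058 : Q := act 2 n20676
theorem D25058 : act 2 n20676 = n25058 := rfl
theorem F51104 : act 0 n25058 = n23710 := d1_1 D25058 (iv F51103) (iv D25057)
theorem F51105 : act 1 n25058 = n23019 := d6_1 D25058 F45622 (iv F39225) F39226 D20676
theorem F51106 : act 3 n25058 = n20756 := d11_2 (iv F39245) D25058 F39387 F37421 (iv F37957) (iv F49473) F49472 (iv F51101) F51103 F47378 F39391 F36027 F33410 (iv F37967) F37966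
theorem F51107 : act 5 n25058 = n23708 := d13_2 F49479 D25058 (iv F49478)
theorem F51108 : act 6 n25058 = n20755 := d14_2 F46895 D25058 F46896
def n25059 : Q := act 5 n20682
theorem D25059 : act 5 n20682 = n25059 := rfl
theorem F51109 : act 0 n25059 = n24433 := d4_1 D25059 (iv F50815) F50813
theorem F51110 : act 1 n25059 = n22262 := d9_1 D25059 F43390 F39297 (iv F39216) (iv F39248)
theorem F51111 : act 2 n25059 = n24276 := d13_1 D25059 (iv F49496) F49494
theorem F51112 : act 3 n25059 = n20754 := d16_1 D25059 (iv F46894) F46893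
theorem F51113 : act 6 n25059 = n24428 := d20_2 D20682 D25059 (iv F49467) (iv F50816) F50815 (iv D24433) (iv F37962)
def n25060 : Q := act 1 n20683
theorem D25060 : act 1 n20683 = n25060 := rfl
theorem F51114 : act 4 n25060 = n20684 := d8_2 (iv F39249) D25060 (iv D20684)
def n25061 : Q := act 2 n20684
theorem D25061 : act 2 n20684 = n25061 := rfl
theorem F51115 : act 0 n25061 = n23047 := d1_1 D25061 F49157 F49155
theorem F51116 : act 1 n25061 = n24963 := d6_1 D25061 F50765 F44948 F35699 D20684
theorem F51117 : act 3 n25061 = n24320 := d11_2 (iv F39250) D25061 F49160 (iv F49175) (iv D24327) (iv D19985) (iv F37756) D24319 (iv F49157) F45715 (iv F49170) (iv F49289) F49288 (iv D24324) F37762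
theorem F51118 : act 5 n25061 = n24319 := d13_2 F45716 D25061 (iv F49157)
theorem F51119 : act 6 n23544 = n25061 := d24_0 F51118 F49156 D24322 F49164 F47240 (iv D23568) F35668 (iv D13922) F19466 F19445 D10962 D13909 D19124 D23544
def n25062 : Q := act 6 n20684
theorem D25062 : act 6 n20684 = n25062 := rfl
theorem F51120 : act 1 n25062 = n23543 := d10_1 D25062 (iv F46941) (iv F46942) F39239 D20684
theorem F51121 : act 2 n25062 = n23544 := d14_1 D25062 F51119 (iv D25061)
theorem F51122 : act 3 n25062 = n20686 := d17_1 D25062 (iv D20686) (iv F39250)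
theorem F51123 : act 5 n25062 = n23544 := d22_2 F45716 D25062 F51119 F51115
def n25063 : Q := act 6 n20685
theorem D25063 : act 6 n20685 = n25063 := rfl
theorem F51124 : act 2 n25063 = n24331 := d14_1 D25063 F49185 F49170
theorem F51125 : act 5 n25063 = n22057 := d22_2 D20685 D25063 F42887 F37755
def n25064 : Q := act 5 n20686
theorem D25064 : act 5 n20686 = n25064 := rfl
theorem F51126 : act 0 n25064 = n25063 := d4_1 D25064 F51125 (iv F42888)
theorem F51127 : act 1 n25064 = n23539 := d9_1 D25064 (iv D23539) D23538 F49074 F49076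
theorem F51128 : act 2 n25064 = n24330 := d13_1 D25064 F49181 F49172
theorem F51129 : act 3 n25064 = n23544 := d16_1 D25064 (iv F51123) F51122
theorem F51130 : act 6 n25064 = n24320 := d20_2 D20686 D25064 (iv D24320) (iv F42887) (iv F51125) (iv D25063) (iv D20685)
def n25065 : Q := act 2 n20687
theorem D25065 : act 2 n20687 = n25065 := rfl
theorem F51131 : act 0 n25065 = n25024 := d1_1 D25065 F50980 F50789
theorem F51132 : act 6 n25065 = n22494 := d14_2 (iv F39251) D25065 (iv D22494)
theorem F51133 : act 3 n22581 = n25065 := d17_3 F51132 (iv F44254) (iv F44271)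
theorem F51134 : act 5 n22579 = n25065 := d20_7 F51132 (iv F44039) D24998 F50983 F50982 (iv F39700) D22579
def n25066 : Q := act 5 n20687
theorem D25066 : act 5 n20687 = n25066 := rfl
theorem F51135 : act 0 n25066 = n25026 := d4_1 D25066 F50987 F50789
theorem F51136 : act 1 n25066 = n23546 := d9_1 D25066 F46922 (iv D20680) (iv F26703) D20687
theorem F51137 : act 2 n25066 = n22579 := d13_1 D25066 F51134 (iv D25065)
theorem F51138 : act 3 n25066 = n23549 := d16_1 D25066 (iv F47041) F47040
theorem F51139 : act 6 n25066 = n22577 := d20_2 (iv F39251) D25066 F44261 (iv F50790) (iv F50987) F50988 (iv D22495)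
def n25067 : Q := act 6 n20688
theorem D25067 : act 6 n20688 = n25067 := rfl
theorem F51140 : act 1 n25067 = n24974 := d10_1 D25067 (iv D24974) (iv F42669) (iv F50936) F50933
theorem F51141 : act 2 n25067 = n20689 := d14_1 D25067 (iv D20689) D20688
theorem F51142 : act 3 n25067 = n22086 := d17_1 D25067 F42965 F42927
theorem F51143 : act 4 n25067 = n21494 := d19_1 D25067 F41603 (iv F39252)
theorem F51144 : act 5 n25067 = n21491 := d22_2 (iv F39253) D25067 (iv D21491) (iv F32072)
def n25068 : Q := act 2 n20692
theorem D25068 : act 2 n20692 = n25068 := rfl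
theorem F51145 : act 0 n25068 = n20693 := d1_1 D25068 (iv D20693) D20692
theorem F51146 : act 4 n25068 = n20695 := d12_2 (iv F39260) D25068 (iv D20695)
theorem F51147 : act 6 n25068 = n25037 := d14_2 F45161 D25068 F51026
def n25069 : Q := act 5 n20692
theorem D25069 : act 5 n20692 = n25069 := rfl
theorem F51148 : act 0 n25069 = n20694 := d4_1 D25069 (iv D20694) D20692
theorem F51149 : act 1 n25069 = n22945 := d9_1 D25069 (iv D22945) (iv D18433) (iv F32352) (iv F39259)
theorem F51150 : act 3 n25069 = n22873 := d16_1 D25069 (iv F45209) F45207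
theorem F51151 : act 4 n25069 = n20696 := d18_1 D25069 (iv D20696) (iv F39260)
theorem F51152 : act 6 n25069 = n22854 := d22_1 D25069 F45158 F32213 D20692
def n25070 : Q := act 3 n20693
theorem D25070 : act 3 n20693 = n25070 := rfl
theorem F51153 : act 1 n25070 = n20700 := d7_1 D25070 (iv D20700) (iv F39261)
theorem F51154 : act 4 n25070 = n24785 := d15_2 (iv F39262) D25070 F50359 F38641 (iv F35155)
theorem F51155 : act 6 n25070 = n24780 := d17_2 (iv F39263) D25070 F50350
def n25071 : Q := act 6 n20694
theorem D25071 : act 6 n20694 = n25071 := rfl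
theorem F51156 : act 0 n25071 = n22854 := d5_1 D25071 (iv F51152) F51148
theorem F51157 : act 1 n25071 = n22860 := d10_1 D25071 F45172 F44065 (iv D22505) (iv F39264)
theorem F51158 : act 3 n25071 = n22871 := d17_1 D25071 (iv F45217) F45215
theorem F51159 : act 4 n25071 = n20697 := d19_1 D25071 (iv D20697) (iv F39265)
theorem F51160 : act 5 n25071 = n22855 := d20_1 D25071 F45161 D25069 F51152 F45158 F32213 D20694
def n25072 : Q := act 2 n20698
theorem D25072 : act 2 n20698 = n25072 := rfl
theorem F51161 : act 4 n25072 = n20702 := d12_2 (iv F39275) D25072 (iv D20702)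
def n25073 : Q := act 6 n20698
theorem D25073 : act 6 n20698 = n25073 := rfl
theorem F51162 : act 4 n25073 = n20703 := d19_1 D25073 (iv D20703) (iv F39275)
def n25074 : Q := act 1 n20699
theorem D25074 : act 1 n20699 = n25074 := rfl
theorem F51163 : act 4 n25074 = n20704 := d8_2 (iv F39277) D25074 (iv D20704)
theorem F51164 : act 5 n25074 = n22438 := d9_2 (iv F39278) D25074 (iv D22438) (iv D17136) (iv F26787)
theorem F51165 : act 0 n23275 = n25074 := d3_3 F51163 (iv F39398) (iv F46286)
def n25075 : Q := act 2 n20700
theorem D25075 : act 2 n20700 = n25075 := rfl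
theorem F51166 : act 4 n25075 = n24784 := d12_2 (iv F39280) D25075 F50358
theorem F51167 : act 6 n25075 = n24779 := d14_2 (iv F39281) D25075 (iv D24779)
def n25076 : Q := act 1 n20701
theorem D25076 : act 1 n20701 = n25076 := rfl
theorem F51168 : act 4 n25076 = n20705 := d8_2 (iv F39284) D25076 (iv D20705)
theorem F51169 : act 6 n25076 = n22254 := d10_2 D20701 D25076 (iv D22254) (iv D16945) (iv F26723)
theorem F51170 : act 0 n23200 = n25076 := d3_3 F51168 F39301 (iv F46104)
def n25077 : Q := act 3 n20702
theorem D25077 : act 3 n20702 = n25077 := rfl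
theorem F51171 : act 0 n25077 = n24454 := d2_1 D25077 F49564 F47068
theorem F51172 : act 1 n25077 = n22446 := d7_1 D25077 (iv F47065) (iv F47067)
theorem F51173 : act 2 n25077 = n24257 := d11_1 D25077 (iv D24257) (iv D19918) F25633 D14755 D19981 F47069 (iv F49564) F49563 F38012 (iv F34878) F34879 F29201 (iv F26725) D20702
theorem F51174 : act 5 n25077 = n24449 := d16_2 F47239 D25077 F49544
theorem F51175 : act 6 n25077 = n20733 := d17_2 F47073 D25077 (iv F47071)
def n25078 : Q := act 5 n20703
theorem D25078 : act 5 n20703 = n25078 := rfl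
theorem F51176 : act 0 n25078 = n23658 := d4_1 D25078 (iv F49164) F49162
theorem F51177 : act 1 n25078 = n22994 := d9_1 D25078 (iv D22994) F35642 D23553 F46954
theorem F51178 : act 2 n25078 = n20729 := d13_1 D25078 (iv F47072) F47070
theorem F51179 : act 3 n25078 = n20707 := d16_1 D25078 (iv D20707) (iv F39286)
theorem F51180 : act 6 n25078 = n23656 := d20_2 D20703 D25078 F47237 D24322 F49164 (iv D23658) F35925
def n25079 : Q := act 2 n20708
theorem D25079 : act 2 n20708 = n25079 := rfl
theorem F51181 : act 0 n25079 = n20709 := d1_1 D25079 (iv D20709) D20708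
theorem F51182 : act 1 n25079 = n23861 := d6_1 D25079 F47892 F36651 (iv F35603) (iv F39297)
theorem F51183 : act 6 n25079 = n22258 := d14_2 (iv F39298) D25079 (iv D22258)
def n25080 : Q := act 3 n20709
theorem D25080 : act 3 n20709 = n25080 := rfl
theorem F51184 : act 1 n25080 = n25040 := d7_1 D25080 (iv D25040) (iv F39302)
theorem F51185 : act 6 n25080 = n22260 := d17_2 (iv F39303) D25080 (iv D22260)
def n25081 : Q := act 5 n20709
theorem D25081 : act 5 n20709 = n25081 := rfl
theorem F51186 : act 1 n25081 = n24416 := d9_1 D25081 F49438 (iv F51041) (iv D25041) (iv F39302)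
theorem F51187 : act 2 n25081 = n20710 := d13_1 D25081 (iv D20710) D20709
def n25082 : Q := act 5 n20712
theorem D25082 : act 5 n20712 = n25082 := rfl
theorem F51188 : act 0 n25082 = n20722 := d4_1 D25082 (iv D20722) (iv F39307)
theorem F51189 : act 2 n25082 = n20714 := d13_1 D25082 (iv D20714) (iv F39309)
theorem F51190 : act 3 n25082 = n22867 := d16_1 D25082 (iv D22867) (iv F39310)
theorem F51191 : act 4 n25082 = n20713 := d18_1 D25082 (iv D20713) D20712
theorem F51192 : act 6 n25082 = n22867 := d22_1 D25082 (iv D22867) (iv F35356) (iv F39307)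
def n25083 : Q := act 1 n20714
theorem D25083 : act 1 n20714 = n25083 := rfl
theorem F51193 : act 4 n25083 = n20716 := d8_2 (iv F39315) D25083 (iv D20716)
theorem F51194 : act 5 n25083 = n23403 := d9_2 D20714 D25083 (iv D23403) F33945 (iv F35269)
theorem F51195 : act 6 n24390 = n25083 := d19_0 F51193 F39577 D24390
def n25084 : Q := act 1 n20717
theorem D25084 : act 1 n20717 = n25084 := rfl
theorem F51196 : act 0 n25084 = n23518 := d0_1 D25084 (iv F47101) F47100 (iv D20731) (iv D15395) (iv D11760) (iv F20778) D15385 D20717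
theorem F51197 : act 2 n25084 = n22414 := d6_2 F39580 D25084 (iv D22414) (iv F43824) F43823
theorem F51198 : act 3 n25084 = n23520 := d7_2 F49053 D25084 (iv F49051)
theorem F51199 : act 5 n25084 = n24346 := d9_2 F49310 D25084 F49225 (iv F44016) (iv F49307)
theorem F51200 : act 6 n25084 = n22414 := d10_2 (iv F39576) D25084 (iv D22414) (iv F30078) F43167
def n25085 : Q := act 5 n20721
theorem D25085 : act 5 n20721 = n25085 := rfl
theorem F51201 : act 0 n25085 = n22867 := d4_1 D25085 (iv D22867) (iv F39324)
theorem F51202 : act 2 n25085 = n20725 := d13_1 D25085 F39338 F39327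
theorem F51203 : act 3 n25085 = n20722 := d16_1 D25085 (iv D20722) D20721
theorem F51204 : act 4 n25085 = n20723 := d18_1 D25085 F39334 (iv F39325)
theorem F51205 : act 6 n25085 = n20722 := d20_2 (iv F39326) D25085 (iv D20722) F35356 D22867 (iv F51192) (iv D25082)
theorem F51206 : act 1 n25085 = n24418 := d24_2 (iv F39326) D25085 (iv D24418) F37933 (iv D18294) D18296 F32031 (iv F32291) (iv D18398) (iv F32283) (iv D18394) D18395 F32286 (iv F39308)
def n25086 : Q := act 0 n20724
theorem D25086 : act 0 n20724 = n25086 := rfl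
theorem F51207 : act 2 n25086 = n23327 := d1_2 F45847 D25086 F46409
theorem F51208 : act 4 n25086 = n20727 := d3_2 (iv F39335) D25086 (iv D20727)
theorem F51209 : act 5 n25086 = n20737 := d4_2 (iv F39336) D25086 (iv D20737)
theorem F51210 : act 6 n23326 = n25086 := d22_3 F39336 (iv F35041) D23326 (iv D25086)
def n25087 : Q := act 6 n20724
theorem D25087 : act 6 n20724 = n25087 := rfl
theorem F51211 : act 0 n25087 = n23326 := d5_1 D25087 F51210 (iv D25086)
theorem F51212 : act 2 n25087 = n23324 := d14_1 D25087 F46402 F45847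
theorem F51213 : act 4 n25087 = n20728 := d19_1 D25087 (iv D20728) (iv F39335)
theorem F51214 : act 5 n25087 = n22965 := d20_1 D25087 (iv F45458) (iv F51209) (iv F51210) (iv D23326) F35041 (iv F39336)
def n25088 : Q := act 1 n20725
theorem D25088 : act 1 n20725 = n25088 := rfl
theorem F51215 : act 4 n25088 = n20729 := d8_2 (iv F39337) D25088 (iv D20729)
def n25089 : Q := act 1 n20726
theorem D25089 : act 1 n20726 = n25089 := rfl
theorem F51216 : act 4 n25089 = n20730 := d8_2 (iv F39340) D25089 (iv D20730)
theorem F51217 : act 0 n23429 = n25089 := d3_3 F51216 (iv F44098) (iv F46643)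
def n25090 : Q := act 0 n20729
theorem D25090 : act 0 n20729 = n25090 := rfl
theorem F51218 : act 1 n25090 = n23621 := d0_2 D20729 D25090 (iv D23621) (iv D19210) (iv F24574) D19326 F44098 (iv D20730) F26756
theorem F51219 : act 2 n25090 = n23658 := d1_2 F51178 D25090 (iv F51176)
theorem F51220 : act 3 n25090 = n20732 := d2_2 (iv F39350) D25090 (iv D20732)
theorem F51221 : act 6 n25090 = n23657 := d5_2 F49557 D25090 (iv F49554)
def n25091 : Q := act 2 n20730
theorem D25091 : act 2 n20730 = n25091 := rfl
theorem F51222 : act 0 n25091 = n20892 := d1_1 D25091 F44099 F44098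
theorem F51223 : act 1 n25091 = n23033 := d6_1 D25091 F45667 F33309 F35442 D20730
theorem F51224 : act 3 n25091 = n20891 := d11_2 (iv F39351) D25091 (iv D20891) (iv F36587) (iv F47614) (iv F49427) F49426 F44097 (iv F44099) (iv D20892) (iv D15655) (iv F29071) (iv F36353) (iv F37925) F39575
def n25092 : Q := act 1 n20737
theorem D25092 : act 1 n20737 = n25092 := rfl
theorem F51225 : act 4 n25092 = n20738 := d8_2 (iv F39355) D25092 (iv D20738)
def n25093 : Q := act 2 n20738
theorem D25093 : act 2 n20738 = n25093 := rfl
theorem F51226 : act 0 n25093 = n23051 := d1_1 D25093 F49315 F49313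
theorem F51227 : act 1 n25093 = n24965 := d6_1 D25093 F50772 F44952 F35845 D20738
theorem F51228 : act 3 n25093 = n24374 := d11_2 (iv F39356) D25093 F49318 (iv F49341) (iv D24381) (iv D20039) (iv F37853) D24373 (iv F49315) F45727 (iv F49335) F49336 (iv F49329) (iv D24378) F37859
theorem F51229 : act 6 n25093 = n24373 := d14_2 F45728 D25093 (iv F49315)
theorem F51230 : act 5 n25093 = n23603 := d24_1 (iv F51229) (iv D23603) (iv D19191) (iv D13956) (iv D10984) (iv F19451) (iv F19487) D13970 (iv F35815) D23623 (iv F47377) (iv F49322) (iv D24376) (iv F49314)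
def n25094 : Q := act 5 n20738
theorem D25094 : act 5 n20738 = n25094 := rfl
theorem F51231 : act 1 n25094 = n23602 := d9_1 D25094 (iv F47108) F47109 F39344 D20738
theorem F51232 : act 2 n25094 = n23603 := d13_1 D25094 (iv F51230) (iv D25093)
theorem F51233 : act 3 n25094 = n20739 := d16_1 D25094 (iv D20739) (iv F39356)
theorem F51234 : act 6 n25094 = n23603 := d22_1 D25094 (iv F51230) F51229 F49313
def n25095 : Q := act 6 n20739
theorem D25095 : act 6 n20739 = n25095 := rfl
theorem F51235 : act 1 n25095 = n23599 := d10_1 D25095 (iv D23599) D23598 (iv F49236) F49235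
theorem F51236 : act 2 n25095 = n24383 := d14_1 D25095 F49346 F49331
theorem F51237 : act 3 n25095 = n23603 := d17_1 D25095 (iv F51234) F51233
theorem F51238 : act 5 n25095 = n24374 := d22_2 D20739 D25095 (iv D24374) F37852
def n25096 : Q := act 5 n20740
theorem D25096 : act 5 n20740 = n25096 := rfl
theorem F51239 : act 0 n25096 = n25095 := d4_1 D25096 F51238 F49316
theorem F51240 : act 2 n25096 = n24309 := d13_1 D25096 (iv F49337) F49335
theorem F51241 : act 6 n25096 = n22271 := d20_2 D20740 D25096 F43407 D24374 (iv F51238) (iv D25095) (iv D20739)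
def n25097 : Q := act 2 n20741
theorem D25097 : act 2 n20741 = n25097 := rfl
theorem F51242 : act 0 n25097 = n25045 := d1_1 D25097 F51057 F50852
theorem F51243 : act 5 n25097 = n22556 := d13_2 (iv F39357) D25097 (iv D22556)
theorem F51244 : act 3 n22626 = n25097 := d16_3 F51243 (iv F44422) (iv F44432)
theorem F51245 : act 6 n22625 = n25097 := d20_0 F51243 (iv F44186) D24979 F51060 F51059 F39749 D22625
def n25098 : Q := act 6 n20741
theorem D25098 : act 6 n20741 = n25098 := rfl
theorem F51246 : act 0 n25098 = n25047 := d5_1 D25098 F51065 F50852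
theorem F51247 : act 1 n25098 = n23606 := d10_1 D25098 (iv F47096) (iv D20731) (iv F26767) D20741
theorem F51248 : act 2 n25098 = n22625 := d14_1 D25098 F51245 (iv D25097)
theorem F51249 : act 3 n25098 = n23609 := d17_1 D25098 (iv F47161) F47159
theorem F51250 : act 5 n25098 = n22623 := d20_1 D25098 F44426 (iv F50853) (iv F51065) F51064 (iv D22557) (iv F39357)
def n25099 : Q := act 5 n20742
theorem D25099 : act 5 n20742 = n25099 := rfl
theorem F51251 : act 1 n25099 = n24993 := d9_1 D25099 (iv D24993) (iv F42775) (iv F51012) F51010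
theorem F51252 : act 2 n25099 = n20743 := d13_1 D25099 (iv D20743) D20742
theorem F51253 : act 3 n25099 = n22300 := d16_1 D25099 F43508 F43472
theorem F51254 : act 4 n25099 = n21653 := d18_1 D25099 F41942 (iv F39358)
theorem F51255 : act 6 n25099 = n21651 := d22_1 D25099 (iv D21651) (iv F40291) F40288
def n25100 : Q := act 2 n20746
theorem D25100 : act 2 n20746 = n25100 := rfl
theorem F51256 : act 0 n25100 = n20747 := d1_1 D25100 (iv D20747) D20746
theorem F51257 : act 4 n25100 = n20749 := d12_2 (iv F39368) D25100 (iv D20749)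
theorem F51258 : act 5 n25100 = n25016 := d13_2 F45155 D25100 F50949
def n25101 : Q := act 6 n20746
theorem D25101 : act 6 n20746 = n25101 := rfl
theorem F51259 : act 0 n25101 = n20748 := d5_1 D25101 (iv D20748) D20746
theorem F51260 : act 1 n25101 = n22917 := d10_1 D25101 (iv D22917) (iv D18412) (iv F32313) (iv F39367)
theorem F51261 : act 3 n25101 = n22862 := d17_1 D25101 (iv F45181) F45179
theorem F51262 : act 4 n25101 = n20750 := d19_1 D25101 (iv D20750) (iv F39368)
theorem F51263 : act 5 n25101 = n22852 := d22_2 F45155 D25101 F45152 D22853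
def n25102 : Q := act 3 n20747
theorem D25102 : act 3 n20747 = n25102 := rfl
theorem F51264 : act 1 n25102 = n20753 := d7_1 D25102 (iv D20753) (iv F39369)
theorem F51265 : act 4 n25102 = n24736 := d15_2 (iv F39370) D25102 F50251 F38560 (iv F35165)
theorem F51266 : act 5 n25102 = n24731 := d16_2 (iv F39371) D25102 F50244
def n25103 : Q := act 5 n20748
theorem D25103 : act 5 n20748 = n25103 := rfl
theorem F51267 : act 0 n25103 = n22852 := d4_1 D25103 (iv F51263) F51259
theorem F51268 : act 1 n25103 = n22871 := d9_1 D25103 F45200 F44207 (iv D22565) (iv F39372)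
theorem F51269 : act 3 n25103 = n22860 := d16_1 D25103 (iv F45189) F45187
theorem F51270 : act 4 n25103 = n20751 := d18_1 D25103 (iv D20751) (iv F39373)
theorem F51271 : act 6 n25103 = n22853 := d20_2 D20748 D25103 F45155 D25101 F51263 F45152 (iv F35498)
def n25104 : Q := act 2 n20752
theorem D25104 : act 2 n20752 = n25104 := rfl
theorem F51272 : act 4 n25104 = n20754 := d12_2 (iv F39383) D25104 (iv D20754)
def n25105 : Q := act 5 n20752
theorem D25105 : act 5 n20752 = n25105 := rfl
theorem F51273 : act 4 n25105 = n20755 := d18_1 D25105 (iv D20755) (iv F39383)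
def n25106 : Q := act 2 n20753
theorem D25106 : act 2 n20753 = n25106 := rfl
theorem F51274 : act 4 n25106 = n24735 := d12_2 (iv F39384) D25106 F50250
theorem F51275 : act 5 n25106 = n24730 := d13_2 (iv F39385) D25106 (iv D24730)
def n25107 : Q := act 2 n20758
theorem D25107 : act 2 n20758 = n25107 := rfl
theorem F51276 : act 0 n25107 = n20759 := d1_1 D25107 (iv D20759) D20758
theorem F51277 : act 1 n25107 = n23857 := d6_1 D25107 F47882 F36645 (iv F35753) F39394
theorem F51278 : act 5 n25107 = n22442 := d13_2 (iv F39393) D25107 (iv D22442)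
def n25108 : Q := act 3 n20759
theorem D25108 : act 3 n20759 = n25108 := rfl
theorem F51279 : act 1 n25108 = n25019 := d7_1 D25108 (iv D25019) (iv F39401)
theorem F51280 : act 5 n25108 = n22444 := d16_2 (iv F39402) D25108 (iv D22444)
def n25109 : Q := act 6 n20759
theorem D25109 : act 6 n20759 = n25109 := rfl
theorem F51281 : act 1 n25109 = n24407 := d10_1 D25109 F49410 F50964 (iv D25020) (iv F39401)
theorem F51282 : act 2 n25109 = n20760 := d14_1 D25109 (iv D20760) D20759
def n25110 : Q := act 6 n20769
theorem D25110 : act 6 n20769 = n25110 := rfl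
theorem F51283 : act 0 n25110 = n20774 := d5_1 D25110 (iv D20774) (iv F39442)
theorem F51284 : act 1 n25110 = n24443 := d10_1 D25110 F49520 F51085 (iv D25051) (iv F39443)
theorem F51285 : act 2 n25110 = n23292 := d14_1 D25110 F46330 F41612
theorem F51286 : act 3 n25110 = n20770 := d17_1 D25110 (iv D20770) D20769
theorem F51287 : act 4 n25110 = n20771 := d19_1 D25110 (iv D20771) (iv F39444)
def n25111 : Q := act 3 n20772
theorem D25111 : act 3 n20772 = n25111 := rfl
theorem F51288 : act 0 n25111 = n21346 := d2_1 D25111 (iv F41613) F41610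
theorem F51289 : act 1 n25111 = n22738 := d7_1 D25111 F44774 (iv F39453)
theorem F51290 : act 2 n25111 = n25111 := d11_1 D25111 (iv D25111) (iv D20772) (iv D15476) (iv F26860) D20769 (iv F41612) F41613 F41296 (iv F41613) F41612 (iv D20769) F26860 D15476 D20772
theorem F51291 : act 4 n25111 = n21345 := d15_2 (iv F39454) D25111 F41293 F33471 F29229
theorem F51292 : act 5 n25111 = n21345 := d16_2 F39455 D25111 F41293
def n25112 : Q := act 6 n20772
theorem D25112 : act 6 n20772 = n25112 := rfl
theorem F51293 : act 0 n25112 = n23292 := d5_1 D25112 F46330 F41610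
theorem F51294 : act 1 n25112 = n23310 := d10_1 D25112 (iv F46368) (iv D22743) F31799 (iv F39453)
theorem F51295 : act 2 n25112 = n20774 := d14_1 D25112 (iv D20774) D20772
theorem F51296 : act 4 n25112 = n20778 := d19_1 D25112 (iv D20778) (iv F39454)
theorem F51297 : act 5 n25112 = n21499 := d20_1 D25112 (iv D21499) D21498 (iv F46330) F46329 (iv D23056) F39455
def n25113 : Q := act 6 n20773
theorem D25113 : act 6 n20773 = n25113 := rfl
theorem F51298 : act 0 n25113 = n22878 := d5_1 D25113 (iv D22878) (iv F39456)
theorem F51299 : act 1 n25113 = n20831 := d10_1 D25113 F39959 F45770 (iv D23066) (iv F39457)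
theorem F51300 : act 2 n25113 = n23056 := d14_1 D25113 (iv D23056) (iv F39458)
theorem F51301 : act 3 n25113 = n20775 := d17_1 D25113 (iv D20775) (iv F39459)
theorem F51302 : act 4 n25113 = n20779 := d19_1 D25113 (iv D20779) (iv F39460)
theorem F51303 : act 5 n25113 = n25110 := d20_1 D25113 (iv D25110) F39445 D22878 F45221 (iv D20774) D20773
def n25114 : Q := act 1 n20774
theorem D25114 : act 1 n20774 = n25114 := rfl
theorem F51304 : act 0 n25114 = n22945 := d0_1 D25114 (iv F51149) F51148 F39264 (iv F44055) (iv F45077) (iv F49516) (iv F51284) F51283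
theorem F51305 : act 3 n25114 = n20776 := d7_2 (iv F39461) D25114 (iv D20776)
theorem F51306 : act 4 n25114 = n20780 := d8_2 (iv F39462) D25114 (iv D20780)
theorem F51307 : act 6 n25114 = n20791 := d10_2 D20774 D25114 (iv D20791) (iv D15493) (iv F26874)
theorem F51308 : act 5 n22943 = n25114 := d22_0 F51307 F45410 (iv D22946) D22943
def n25115 : Q := act 1 n20775
theorem D25115 : act 1 n20775 = n25115 := rfl
theorem F51309 : act 2 n25115 = n23057 := d6_2 (iv F39464) D25115 (iv F45784) F45785 (iv D22896)
theorem F51310 : act 3 n25115 = n20831 := d7_2 F51301 D25115 (iv F51299)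
theorem F51311 : act 4 n25115 = n20777 := d8_2 (iv F39465) D25115 (iv D20777)
theorem F51312 : act 5 n25115 = n20829 := d9_2 (iv F39466) D25115 F39950 D23071 F45791
theorem F51313 : act 0 n25115 = n22887 := d23_3 (iv F32295) (iv F39464) D25115 (iv D22887) F32271 (iv D16372) F21612 D12268 F21632 D12270 D16397 F28412 (iv F28388) (iv F34574) (iv D18711) D18713 (iv F45789) F45791 F39446
def n25116 : Q := act 2 n20780
theorem D25116 : act 2 n20780 = n25116 := rfl
theorem F51314 : act 0 n25116 = n23036 := d1_1 D25116 F45676 (iv F39480)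
theorem F51315 : act 1 n25116 = n23628 := d6_1 D25116 (iv D23628) (iv F39473) F39474 D20780
theorem F51316 : act 5 n25116 = n23034 := d13_2 F39483 D25116 (iv D23034)
theorem F51317 : act 6 n25116 = n20796 := d14_2 (iv F39482) D25116 (iv D20796)
def n25117 : Q := act 2 n20782
theorem D25117 : act 2 n20782 = n25117 := rfl
theorem F51318 : act 0 n25117 = n20783 := d1_1 D25117 (iv D20783) D20782
theorem F51319 : act 4 n25117 = n20787 := d12_2 (iv F39489) D25117 (iv D20787)
theorem F51320 : act 5 n25117 = n22991 := d13_2 (iv F39491) D25117 (iv D22991)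
theorem F51321 : act 6 n25117 = n20797 := d14_2 (iv F39490) D25117 (iv D20797)
def n25118 : Q := act 5 n20783
theorem D25118 : act 5 n20783 = n25118 := rfl
theorem F51322 : act 0 n25118 = n22991 := d4_1 D25118 (iv F51320) F51318
theorem F51323 : act 1 n25118 = n22357 := d9_1 D25118 F43687 F43137 (iv F39732) (iv F39492)
theorem F51324 : act 2 n25118 = n20784 := d13_1 D25118 (iv D20784) D20783
theorem F51325 : act 3 n25118 = n22354 := d16_1 D25118 (iv F43921) F43920
theorem F51326 : act 4 n25118 = n20789 := d18_1 D25118 (iv D20789) (iv F39493)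
theorem F51327 : act 6 n25118 = n22391 := d20_2 (iv F39494) D25118 F43776 (iv F51321) F51320 F45529 (iv D20800)
def n25119 : Q := act 1 n20787
theorem D25119 : act 1 n20787 = n25119 := rfl
theorem F51328 : act 2 n25119 = n20917 := d6_2 D20787 D25119 (iv D20917) (iv F39506) (iv D20786)
theorem F51329 : act 6 n25119 = n23760 := d10_2 (iv F39508) D25119 (iv F47527) F39866 (iv D20801)
def n25120 : Q := act 3 n20787
theorem D25120 : act 3 n20787 = n25120 := rfl
theorem F51330 : act 0 n25120 = n20788 := d2_1 D25120 (iv D20788) (iv F39507)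
theorem F51331 : act 6 n25120 = n20802 := d17_2 (iv F39508) D25120 (iv D20802)
def n25121 : Q := act 2 n20788
theorem D25121 : act 2 n20788 = n25121 := rfl
theorem F51332 : act 1 n25121 = n23523 := d6_1 D25121 (iv D23523) (iv D19087) (iv F36115) (iv F39509)
theorem F51333 : act 6 n25121 = n20804 := d14_2 (iv F39510) D25121 (iv D20804)
theorem F51334 : act 3 n25121 = n23510 := d21_1 D25121 (iv D23510) (iv F44962) (iv F44965) F33286 D20787 D25120 F51330
def n25122 : Q := act 4 n20788
theorem D25122 : act 4 n20788 = n25122 := rfl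
theorem F51335 : act 1 n25122 = n20887 := d8_1 D25122 (iv D20887) (iv F39509)
theorem F51336 : act 6 n25122 = n20805 := d19_2 (iv F39510) D25122 (iv D20805)
def n25123 : Q := act 5 n20788
theorem D25123 : act 5 n20788 = n25123 := rfl
theorem F51337 : act 1 n25123 = n23527 := d9_1 D25123 (iv D23527) (iv D19094) (iv F36116) (iv F39509)
theorem F51338 : act 3 n25123 = n20789 := d16_1 D25123 (iv D20789) D20788
def n25124 : Q := act 1 n20789
theorem D25124 : act 1 n20789 = n25124 := rfl
theorem F51339 : act 3 n25124 = n23527 := d7_2 F51338 D25124 (iv F51337)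
theorem F51340 : act 4 n25124 = n22357 := d8_2 F51326 D25124 (iv F51323)
theorem F51341 : act 5 n25124 = n20809 := d9_2 D20789 D25124 F39884 (iv D15652) (iv F26898)
theorem F51342 : act 6 n25124 = n22360 := d10_2 F39872 D25124 F43700 F39767 (iv F39870)
theorem F51343 : act 0 n25124 = n20811 := d23_3 D15491 (iv F39511) D25124 (iv D20811) F33043 F30487 F32683 F19658 (iv D8351) F6086 F3141 D2349 (iv F7416) D9873 D11911 (iv F27197) (iv F39506) (iv D20786) (iv D15489)
def n25125 : Q := act 3 n20790
theorem D25125 : act 3 n20790 = n25125 := rfl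
theorem F51344 : act 0 n25125 = n20855 := d2_1 D25125 F40028 (iv F39512)
theorem F51345 : act 1 n25125 = n20892 := d7_1 D25125 (iv D20892) (iv F39513)
theorem F51346 : act 6 n25125 = n20852 := d17_2 (iv F39514) D25125 (iv D20852)
theorem F51347 : act 2 n25125 = n23576 := d21_2 D20790 D25125 (iv D23576) (iv D19149) (iv F24478) (iv F35030) F27050 (iv F35049)
def n25126 : Q := act 2 n20791
theorem D25126 : act 2 n20791 = n25126 := rfl
theorem F51348 : act 1 n25126 = n22607 := d6_1 D25126 (iv D22607) F30440 (iv F26901) D20791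
theorem F51349 : act 4 n25126 = n20796 := d12_2 (iv F39516) D25126 (iv D20796)
def n25127 : Q := act 3 n20792
theorem D25127 : act 3 n20792 = n25127 := rfl
theorem F51350 : act 1 n25127 = n23168 := d7_1 D25127 F46031 (iv F39517)
theorem F51351 : act 5 n25127 = n23170 := d16_2 F39519 D25127 F46034
def n25128 : Q := act 2 n20795
theorem D25128 : act 2 n20795 = n25128 := rfl
theorem F51352 : act 0 n25128 = n20796 := d1_1 D25128 (iv D20796) D20795
theorem F51353 : act 6 n25128 = n23036 := d14_2 (iv F39848) D25128 F45676
def n25129 : Q := act 4 n20799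
theorem D25129 : act 4 n20799 = n25129 := rfl
theorem F51354 : act 1 n25129 = n20808 := d8_1 D25129 (iv D20808) (iv F39856)
theorem F51355 : act 3 n25129 = n20805 := d15_1 D25129 (iv D20805) (iv D15506) (iv F26914) D20799
def n25130 : Q := act 2 n20802
theorem D25130 : act 2 n20802 = n25130 := rfl
theorem F51356 : act 0 n25130 = n20804 := d1_1 D25130 (iv D20804) (iv F39867)
theorem F51357 : act 1 n25130 = n22433 := d6_1 D25130 F43896 F35066 D18518 (iv F39868)
theorem F51358 : act 3 n25130 = n23630 := d21_1 D25130 F47154 F35822 (iv D15496) F20874 D11818 D15506 (iv F39867)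
theorem F51359 : act 5 n23629 = n25130 := d16_0 F51358 (iv D23630) D23629
def n25131 : Q := act 4 n20802
theorem D25131 : act 4 n20802 = n25131 := rfl
theorem F51360 : act 0 n25131 = n20805 := d3_1 D25131 (iv D20805) (iv F39867)
theorem F51361 : act 1 n25131 = n22874 := d8_1 D25131 F45205 (iv F39868)
def n25132 : Q := act 5 n20802
theorem D25132 : act 5 n20802 = n25132 := rfl
theorem F51362 : act 0 n25132 = n20806 := d4_1 D25132 (iv D20806) (iv F39867)
theorem F51363 : act 1 n25132 = n20974 := d9_1 D25132 (iv F47739) F47738 F45499 (iv F39868)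
theorem F51364 : act 2 n25132 = n23629 := d13_1 D25132 F51359 (iv D25130)
theorem F51365 : act 3 n25132 = n20803 := d16_1 D25132 (iv D20803) D20802
theorem F51366 : act 6 n25132 = n25123 := d22_1 D25132 (iv D25123) F39510 (iv F39867)
def n25133 : Q := act 1 n20804
theorem D25133 : act 1 n20804 = n25133 := rfl
theorem F51367 : act 2 n25133 = n20814 := d6_2 D20804 D25133 (iv D20814) (iv D15513) (iv F26920)
theorem F51368 : act 3 n25133 = n23720 := d25_11 (iv F1894) (iv F3545) (iv F7083) (iv F14353) (iv F14476) D11813 F20874 D11818 D15506 D20804 D25133 F47406 (iv F47434) F47433 (iv F47270) F42118 (iv F39768) (iv F36459) (iv F44975) F44974 (iv D22458) (iv D17159) F29707 (iv D16841) (iv D12538) (iv F22030) (iv F29695) (iv F39214) F39215 F35608 D19119 (iv F45010) (iv F45017) (iv D19336) F24585 (iv F34131) F30170 (iv F30152) (iv F39571) (iv F42799) F42798 (iv F36885) (iv D19219) F24467 (iv F35477) (iv D14084) (iv F19669) (iv D11103) (iv D8348) (iv D3986) F17169 F3056 (iv F14919) F3009 F1634 (iv F1662) D1924 (iv F6119) (iv F32759) F32760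 F32722 (iv D1972) F1698 F942 F500 (iv F263) (iv D126) (iv F246) (iv F484) (iv F902) F15458 D925 F1638 D959 D1956 F32642 F16713
theorem F51369 : act 0 n23512 = n25133 := d2_3 F51368 F47405 (iv F46824)
theorem F51370 : act 5 n23719 = n25133 := d16_0 F51368 (iv D23720) D23719
def n25134 : Q := act 3 n20804
theorem D25134 : act 3 n20804 = n25134 := rfl
theorem F51371 : act 0 n25134 = n23630 := d2_1 D25134 (iv F51358) F51356
theorem F51372 : act 1 n25134 = n23720 := d7_1 D25134 (iv F51368) (iv D25133)
theorem F51373 : act 2 n25134 = n23022 := d11_1 D25134 (iv D23022) (iv D18606) (iv F33251) D15504 D20802 D25130 F51358 F47154 F35822 (iv D15496) F20874 D11818 D15506 D20804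
theorem F51374 : act 6 n25134 = n23510 := d17_2 F51333 D25134 (iv F51334)
theorem F51375 : act 5 n23628 = n25134 := d20_7 F51374 F47158 (iv D23631) D23630 F47155 (iv F44504) (iv F47152)
def n25135 : Q := act 4 n20804
theorem D25135 : act 4 n20804 = n25135 := rfl
theorem F51376 : act 2 n25135 = n20805 := d12_1 D25135 (iv D20805) D20804
def n25136 : Q := act 5 n20804
theorem D25136 : act 5 n20804 = n25136 := rfl
theorem F51377 : act 0 n25136 = n23629 := d4_1 D25136 F51359 F51356
theorem F51378 : act 2 n25136 = n20806 := d13_1 D25136 (iv D20806) D20804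
theorem F51379 : act 3 n25136 = n23628 := d16_1 D25136 F51375 (iv D25134)
def n25137 : Q := act 5 n20805
theorem D25137 : act 5 n20805 = n25137 := rfl
theorem F51380 : act 1 n25137 = n22678 := d9_1 D25137 F44599 F30860 (iv F26939) (iv F39873)
theorem F51381 : act 4 n25137 = n20806 := d18_1 D25137 (iv D20806) D20805
def n25138 : Q := act 6 n20806
theorem D25138 : act 6 n20806 = n25138 := rfl
theorem F51382 : act 0 n25138 = n25123 := d5_1 D25138 (iv F51366) F51362
theorem F51383 : act 1 n25138 = n24216 := d10_1 D25138 F48875 F45575 F44551 (iv F39874)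
theorem F51384 : act 3 n25138 = n20807 := d17_1 D25138 (iv D20807) (iv F39875)
theorem F51385 : act 5 n25138 = n25120 := d20_1 D25138 F51331 D25132 F51366 (iv D25123) F39510 D20806
def n25139 : Q := act 2 n20810
theorem D25139 : act 2 n20810 = n25139 := rfl
theorem F51386 : act 0 n25139 = n23525 := d1_1 D25139 F46851 (iv F39886)
theorem F51387 : act 1 n25139 = n20853 := d6_1 D25139 (iv D20853) F27061 (iv F26934) (iv F39887)
theorem F51388 : act 3 n25139 = n23668 := d11_2 D20810 D25139 (iv F47384) F47403 (iv F47412) F47413 F43143 (iv F39885) (iv F46851) F46852 (iv F36063) (iv F47380) F47379 F36084 (iv F33043)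
theorem F51389 : act 6 n23667 = n25139 := d17_0 F51388 (iv D23668) D23667
def n25140 : Q := act 4 n20810
theorem D25140 : act 4 n20810 = n25140 := rfl
theorem F51390 : act 0 n25140 = n23152 := d3_1 D25140 F45991 (iv F39886)
theorem F51391 : act 1 n25140 = n20813 := d8_1 D25140 (iv D20813) (iv F39887)
def n25141 : Q := act 6 n20810
theorem D25141 : act 6 n20810 = n25141 := rfl
theorem F51392 : act 0 n25141 = n23528 := d5_1 D25141 (iv D23528) (iv F39886)
theorem F51393 : act 1 n25141 = n20935 := d10_1 D25141 (iv D20935) F27221 (iv F26933) (iv F39887)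
theorem F51394 : act 2 n25141 = n23667 := d14_1 D25141 F51389 (iv D25139)
theorem F51395 : act 3 n25141 = n20812 := d17_1 D25141 (iv D20812) D20810
theorem F51396 : act 5 n25141 = n23671 := d20_1 D25141 (iv F47269) (iv D23527) D23528 F46860 D23673 F47278
def n25142 : Q := act 4 n20814
theorem D25142 : act 4 n20814 = n25142 := rfl
theorem F51397 : act 0 n25142 = n23137 := d3_1 D25142 F45951 F40025
theorem F51398 : act 1 n25142 = n20815 := d8_1 D25142 (iv D20815) D20814
def n25143 : Q := act 5 n20814
theorem D25143 : act 5 n20814 = n25143 := rfl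
theorem F51399 : act 0 n25143 = n23514 := d4_1 D25143 (iv D23514) F40025
theorem F51400 : act 1 n25143 = n21017 := d9_1 D25143 (iv D21017) F27379 (iv F26937) D20814
theorem F51401 : act 2 n25143 = n23719 := d13_1 D25143 F51370 F51367
theorem F51402 : act 3 n25143 = n20859 := d16_1 D25143 (iv D20859) (iv F39896)
theorem F51403 : act 6 n25143 = n23723 := d20_2 F47423 D25143 F47414 (iv D23515) D23514 (iv F46832) D23725
def n25144 : Q := act 5 n20824
theorem D25144 : act 5 n20824 = n25144 := rfl
theorem F51404 : act 0 n25144 = n20828 := d4_1 D25144 (iv D20828) (iv F39932)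
theorem F51405 : act 1 n25144 = n24422 := d9_1 D25144 F49457 (iv F51206) (iv D25085) (iv F39933)
theorem F51406 : act 2 n25144 = n23217 := d13_1 D25144 (iv F46146) F41956
theorem F51407 : act 3 n25144 = n20825 := d16_1 D25144 (iv D20825) D20824
theorem F51408 : act 4 n25144 = n20826 := d18_1 D25144 (iv D20826) (iv F39934)
theorem F51409 : act 6 n25144 = n25115 := d20_2 (iv F39935) D25144 F51312 (iv D20829) D20828 (iv F45258) (iv D22887)
def n25145 : Q := act 3 n20827
theorem D25145 : act 3 n20827 = n25145 := rfl
theorem F51410 : act 0 n25145 = n21419 := d2_1 D25145 (iv F41957) F41954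
theorem F51411 : act 1 n25145 = n22739 := d7_1 D25145 F44778 (iv F39944)
theorem F51412 : act 2 n25145 = n25145 := d11_1 D25145 (iv D25145) (iv D20827) (iv D15555) (iv F27001) D20824 (iv F41956) F41957 F41429 (iv F41957) F41956 (iv D20824) F27001 D15555 D20827
theorem F51413 : act 4 n25145 = n21418 := d15_2 (iv F39945) D25145 F41426 F33472 (iv F34169)
theorem F51414 : act 6 n25145 = n21418 := d17_2 F39946 D25145 F41426
def n25146 : Q := act 5 n20827
theorem D25146 : act 5 n20827 = n25146 := rfl
theorem F51415 : act 0 n25146 = n23217 := d4_1 D25146 (iv F46146) F41954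
theorem F51416 : act 1 n25146 = n23236 := d9_1 D25146 (iv F46188) (iv D22742) F31794 (iv F39944)
theorem F51417 : act 2 n25146 = n20828 := d13_1 D25146 (iv D20828) D20827
theorem F51418 : act 4 n25146 = n20832 := d18_1 D25146 (iv D20832) (iv F39945)
theorem F51419 : act 6 n25146 = n21658 := d20_2 F39946 D25146 (iv D21658) D21659 F46146 F46145 (iv D23057)
def n25147 : Q := act 1 n20828
theorem D25147 : act 1 n20828 = n25147 := rfl
theorem F51420 : act 0 n25147 = n22917 := d0_1 D25147 (iv F51260) F51259 F39372 (iv F44195) (iv F45068) (iv F49453) (iv F51405) F51404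
theorem F51421 : act 3 n25147 = n20830 := d7_2 (iv F39947) D25147 (iv D20830)
theorem F51422 : act 4 n25147 = n20833 := d8_2 (iv F39948) D25147 (iv D20833)
theorem F51423 : act 5 n25147 = n20842 := d9_2 D20828 D25147 (iv D20842) (iv D15572) (iv F27015)
theorem F51424 : act 6 n22914 = n25147 := d24_0 F51423 (iv D20842) F27045 (iv F25785) F34181 (iv D13407) D13406 F29032 F25767 (iv F26904) D20791 (iv F51307) (iv F51308) F45400
def n25148 : Q := act 2 n20833
theorem D25148 : act 2 n20833 = n25148 := rfl
theorem F51425 : act 0 n25148 = n23012 := d1_1 D25148 F45595 (iv F39964)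
theorem F51426 : act 1 n25148 = n23574 := d6_1 D25148 (iv D23574) (iv F39961) F39962 D20833
theorem F51427 : act 5 n25148 = n20847 := d13_2 (iv F39966) D25148 (iv D20847)
theorem F51428 : act 6 n25148 = n23009 := d14_2 F39967 D25148 (iv D23009)
def n25149 : Q := act 2 n20835
theorem D25149 : act 2 n20835 = n25149 := rfl
theorem F51429 : act 0 n25149 = n20836 := d1_1 D25149 (iv D20836) D20835
theorem F51430 : act 4 n25149 = n20839 := d12_2 (iv F39973) D25149 (iv D20839)
theorem F51431 : act 5 n25149 = n20848 := d13_2 (iv F39974) D25149 (iv D20848)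
theorem F51432 : act 6 n25149 = n22987 := d14_2 F39975 D25149 (iv D22987)
def n25150 : Q := act 6 n20836
theorem D25150 : act 6 n20836 = n25150 := rfl
theorem F51433 : act 0 n25150 = n22987 := d5_1 D25150 (iv F51432) F51429
theorem F51434 : act 1 n25150 = n22149 := d10_1 D25150 (iv F43696) F43694 (iv F39776) (iv F39976)
theorem F51435 : act 2 n25150 = n20837 := d14_1 D25150 (iv D20837) D20836
theorem F51436 : act 3 n25150 = n22146 := d17_1 D25150 (iv F43394) F43392
theorem F51437 : act 4 n25150 = n20841 := d19_1 D25150 (iv D20841) (iv F39977)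
theorem F51438 : act 5 n25150 = n22186 := d20_1 D25150 F43223 (iv F51431) F51432 F45519 (iv D20850) (iv F39978)
def n25151 : Q := act 1 n20839
theorem D25151 : act 1 n20839 = n25151 := rfl
theorem F51439 : act 2 n25151 = n21001 := d6_2 D20839 D25151 (iv D21001) F39989 (iv D20838)
theorem F51440 : act 5 n25151 = n23784 := d9_2 (iv F39991) D25151 (iv F47604) F40022 (iv D20851)
def n25152 : Q := act 3 n20839
theorem D25152 : act 3 n20839 = n25152 := rfl
theorem F51441 : act 0 n25152 = n20840 := d2_1 D25152 (iv D20840) (iv F39990)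
theorem F51442 : act 5 n25152 = n20852 := d16_2 (iv F39991) D25152 (iv D20852)
def n25153 : Q := act 2 n20840
theorem D25153 : act 2 n20840 = n25153 := rfl
theorem F51443 : act 1 n25153 = n23510 := d6_1 D25153 (iv D23510) (iv D19063) (iv F35969) (iv F39992)
theorem F51444 : act 5 n25153 = n20853 := d13_2 (iv F39993) D25153 (iv D20853)
theorem F51445 : act 3 n25153 = n23523 := d21_1 D25153 (iv D23523) (iv F44985) (iv F44988) F35058 D20839 D25152 F51441
def n25154 : Q := act 4 n20840
theorem D25154 : act 4 n20840 = n25154 := rfl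
theorem F51446 : act 1 n25154 = n20969 := d8_1 D25154 (iv D20969) (iv F39992)
theorem F51447 : act 5 n25154 = n20854 := d18_2 (iv F39993) D25154 (iv D20854)
def n25155 : Q := act 6 n20840
theorem D25155 : act 6 n20840 = n25155 := rfl
theorem F51448 : act 1 n25155 = n23515 := d10_1 D25155 (iv D23515) (iv D19070) (iv F35970) (iv F39992)
theorem F51449 : act 3 n25155 = n20841 := d17_1 D25155 (iv D20841) D20840
theorem F51450 : act 5 n25155 = n25125 := d22_2 (iv F39993) D25155 F51346 F40023
def n25156 : Q := act 1 n20841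
theorem D25156 : act 1 n20841 = n25156 := rfl
theorem F51451 : act 2 n25156 = n25124 := d6_2 (iv F39994) D25156 (iv D25124) F39511 F35059
theorem F51452 : act 3 n25156 = n23515 := d7_2 F51449 D25156 (iv F51448)
theorem F51453 : act 4 n25156 = n22149 := d8_2 F51437 D25156 (iv F51434)
theorem F51454 : act 5 n25156 = n22152 := d9_2 (iv F39995) D25156 F43142 F39723 (iv F39513)
theorem F51455 : act 6 n25156 = n20858 := d10_2 D20841 D25156 F40037 (iv D15777) (iv F27039)
theorem F51456 : act 0 n25156 = n20860 := d23_3 F35050 (iv F39994) D25156 (iv F40043) (iv F33043) (iv D15511) F20892 F17447 (iv D6009) (iv D2908) (iv F4534) (iv D2902) D2900 D5993 D10404 F34414 (iv F18260) (iv F20971) (iv F35049)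
def n25157 : Q := act 2 n20842
theorem D25157 : act 2 n20842 = n25157 := rfl
theorem F51457 : act 1 n25157 = n22647 := d6_1 D25157 (iv D22647) F30563 (iv F27042) D20842
theorem F51458 : act 4 n25157 = n20847 := d12_2 (iv F39997) D25157 (iv D20847)
def n25158 : Q := act 3 n20843
theorem D25158 : act 3 n20843 = n25158 := rfl
theorem F51459 : act 1 n25158 = n23185 := d7_1 D25158 F46070 (iv F39998)
theorem F51460 : act 6 n25158 = n23186 := d17_2 F40000 D25158 F46072
def n25159 : Q := act 2 n20846
theorem D25159 : act 2 n20846 = n25159 := rfl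
theorem F51461 : act 0 n25159 = n20847 := d1_1 D25159 (iv D20847) D20846
theorem F51462 : act 5 n25159 = n23012 := d13_2 (iv F40010) D25159 F45595
def n25160 : Q := act 4 n20849
theorem D25160 : act 4 n20849 = n25160 := rfl
theorem F51463 : act 1 n25160 = n20857 := d8_1 D25160 (iv D20857) (iv F40014)
theorem F51464 : act 3 n25160 = n20854 := d15_1 D25160 (iv D20854) (iv D15585) (iv F27055) D20849
def n25161 : Q := act 2 n20852
theorem D25161 : act 2 n20852 = n25161 := rfl
theorem F51465 : act 0 n25161 = n20853 := d1_1 D25161 (iv D20853) (iv F40023)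
theorem F51466 : act 1 n25161 = n22246 := d6_1 D25161 F43361 F33222 D18499 (iv F40024)
theorem F51467 : act 6 n25161 = n23576 := d14_2 F51346 D25161 (iv F51347)
theorem F51468 : act 3 n25161 = n23578 := d21_1 D25161 F47013 F35677 (iv D15575) F20961 D11861 D15585 (iv F40023)
def n25162 : Q := act 4 n20852
theorem D25162 : act 4 n20852 = n25162 := rfl
theorem F51469 : act 0 n25162 = n20854 := d3_1 D25162 (iv D20854) (iv F40023)
theorem F51470 : act 1 n25162 = n22863 := d8_1 D25162 F45177 (iv F40024)
def n25163 : Q := act 3 n20853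
theorem D25163 : act 3 n20853 = n25163 := rfl
theorem F51471 : act 0 n25163 = n23578 := d2_1 D25163 (iv F51468) F51465
theorem F51472 : act 1 n25163 = n23668 := d7_1 D25163 (iv F51388) F51387
theorem F51473 : act 2 n25163 = n22997 := d11_1 D25163 (iv D22997) (iv D18567) F35053 D15583 D20852 D25161 F51468 F47013 F35677 (iv D15575) F20961 D11861 D15585 D20853
theorem F51474 : act 5 n25163 = n23523 := d16_2 F51444 D25163 (iv F51445)
theorem F51475 : act 6 n23574 = n25163 := d20_0 F51474 F47012 (iv D23577) D23578 F47014 (iv F44353) (iv F47005)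
def n25164 : Q := act 4 n20853
theorem D25164 : act 4 n20853 = n25164 := rfl
theorem F51476 : act 2 n25164 = n20854 := d12_1 D25164 (iv D20854) D20853
def n25165 : Q := act 6 n20853
theorem D25165 : act 6 n20853 = n25165 := rfl
theorem F51477 : act 0 n25165 = n23576 := d5_1 D25165 (iv F51467) F51465
theorem F51478 : act 2 n25165 = n20855 := d14_1 D25165 (iv D20855) D20853
theorem F51479 : act 3 n25165 = n23574 := d17_1 D25165 F51475 (iv D25163)
def n25166 : Q := act 6 n20854
theorem D25166 : act 6 n20854 = n25166 := rfl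
theorem F51480 : act 1 n25166 = n22714 := d10_1 D25166 F44702 F31095 (iv F27073) (iv F40026)
theorem F51481 : act 4 n25166 = n20855 := d19_1 D25166 (iv D20855) D20854
def n25167 : Q := act 5 n20855
theorem D25167 : act 5 n20855 = n25167 := rfl
theorem F51482 : act 0 n25167 = n25155 := d4_1 D25167 F51450 F51344
theorem F51483 : act 1 n25167 = n24237 := d9_1 D25167 F48929 F45659 F44677 (iv F40027)
theorem F51484 : act 3 n25167 = n20856 := d16_1 D25167 (iv D20856) (iv F40028)
theorem F51485 : act 6 n25167 = n25152 := d20_2 D20855 D25167 F51442 (iv F51346) (iv F51450) (iv D25155) F39993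
def n25168 : Q := act 6 n20861
theorem D25168 : act 6 n20861 = n25168 := rfl
theorem F51486 : act 2 n25168 = n22086 := d14_1 D25168 F42965 F42926
theorem F51487 : act 3 n25168 = n20862 := d17_1 D25168 (iv D20862) D20861
theorem F51488 : act 4 n25168 = n22083 := d19_1 D25168 F42957 F42920
theorem F51489 : act 5 n25168 = n22081 := d22_2 (iv F40045) D25168 (iv D22081) F29642
def n25169 : Q := act 1 n20862
theorem D25169 : act 1 n20862 = n25169 := rfl
theorem F51490 : act 4 n25169 = n21038 := d8_2 (iv F40047) D25169 (iv D21038)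
theorem F51491 : act 6 n25169 = n25169 := d10_2 D20862 D25169 (iv D25169) (iv D20862) F27076
theorem F51492 : act 0 n23915 = n25169 := d3_3 F51490 F50893 (iv F48060)
def n25170 : Q := act 1 n20864
theorem D25170 : act 1 n20864 = n25170 := rfl
theorem F51493 : act 2 n25170 = n20915 := d6_2 F40473 D25170 F40201 (iv F43252) F43251
theorem F51494 : act 3 n25170 = n20877 := d7_2 (iv F40051) D25170 (iv D20877)
theorem F51495 : act 6 n25170 = n20914 := d10_2 F40460 D25170 F40198 (iv F40109) (iv F40457)
def n25171 : Q := act 1 n20867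
theorem D25171 : act 1 n20867 = n25171 := rfl
theorem F51496 : act 3 n25171 = n20881 := d7_2 (iv F40057) D25171 (iv D20881)
theorem F51497 : act 4 n25171 = n25170 := d8_2 (iv F40058) D25171 (iv D25170)
theorem F51498 : act 5 n25171 = n20915 := d9_2 F47802 D25171 F40201 F40126 (iv F47800)
def n25172 : Q := act 6 n20870
theorem D25172 : act 6 n20870 = n25172 := rfl
theorem F51499 : act 0 n25172 = n25067 := d5_1 D25172 (iv D25067) (iv F40066)
theorem F51500 : act 2 n25172 = n20871 := d14_1 D25172 (iv D20871) D20870
theorem F51501 : act 3 n25172 = n22084 := d17_1 D25172 (iv D22084) F40070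
theorem F51502 : act 4 n25172 = n21492 := d19_1 D25172 (iv D21492) (iv F40068)
theorem F51503 : act 5 n25172 = n22835 := d20_1 D25172 (iv D22835) (iv F39253) D25067 F51144 (iv D21491) (iv F40069)
def n25173 : Q := act 6 n20877
theorem D25173 : act 6 n20877 = n25173 := rfl
theorem F51504 : act 0 n25173 = n25170 := d5_1 D25173 F51495 (iv F40199)
theorem F51505 : act 1 n25173 = n23841 := d10_1 D25173 F47825 F47636 F40090 D20877
theorem F51506 : act 2 n25173 = n23796 := d14_1 D25173 F47791 F40200
theorem F51507 : act 3 n25173 = n20914 := d17_1 D25173 (iv F51495) F51494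
theorem F51508 : act 5 n25173 = n23792 := d22_2 F40158 D25173 (iv F48214) F48215
def n25174 : Q := act 1 n20879
theorem D25174 : act 1 n20879 = n25174 := rfl
theorem F51509 : act 3 n25174 = n20880 := d7_2 (iv F40097) D25174 (iv D20880)
theorem F51510 : act 4 n25174 = n20890 := d8_2 (iv F40098) D25174 (iv D20890)
theorem F51511 : act 5 n25174 = n20917 := d9_2 (iv F40099) D25174 (iv D20917) F27197 D15691
def n25175 : Q := act 2 n20880
theorem D25175 : act 2 n20880 = n25175 := rfl
theorem F51512 : act 4 n25175 = n20884 := d12_2 (iv F40101) D25175 (iv D20884)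
theorem F51513 : act 5 n25175 = n22568 := d13_2 (iv F40102) D25175 F44217
def n25176 : Q := act 0 n20881
theorem D25176 : act 0 n20881 = n25176 := rfl
theorem F51514 : act 2 n25176 = n22649 := d1_2 (iv F47712) D25176 (iv F44591)
theorem F51515 : act 4 n25176 = n22672 := d3_2 F47806 D25176 F47808
theorem F51516 : act 5 n25176 = n23954 := d4_2 F47816 D25176 F48206
theorem F51517 : act 6 n25176 = n23837 := d5_2 F47715 D25176 (iv F47808)
def n25177 : Q := act 1 n20884
theorem D25177 : act 1 n20884 = n25177 := rfl
theorem F51518 : act 0 n25177 = n24271 := d0_1 D25177 (iv D24271) F37665 (iv F37659) F37658 (iv D15685) (iv F27187) D20912 F40195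
theorem F51519 : act 2 n25177 = n20886 := d6_2 D20884 D25177 (iv D20886) (iv D15650) D15649
theorem F51520 : act 5 n25177 = n23767 := d9_2 (iv F40110) D25177 (iv D23767) (iv D19387) (iv F36216)
def n25178 : Q := act 3 n20884
theorem D25178 : act 3 n20884 = n25178 := rfl
theorem F51521 : act 0 n25178 = n23529 := d2_1 D25178 F46861 F40195
theorem F51522 : act 2 n25178 = n24287 := d11_1 D25178 F49056 F37690 (iv F47629) (iv F47821) F47822 F40196 (iv F46861) (iv F47517) F47518 (iv F36546) (iv F47785) F47784 F36591 D20884
theorem F51523 : act 5 n25178 = n23754 := d16_2 (iv F40110) D25178 F47518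
def n25179 : Q := act 0 n20886
theorem D25179 : act 0 n20886 = n25179 := rfl
theorem F51524 : act 2 n25179 = n24271 := d1_2 F51519 D25179 (iv F51518)
theorem F51525 : act 3 n25179 = n23519 := d2_2 (iv F40114) D25179 F46838
theorem F51526 : act 6 n25179 = n25177 := d5_2 F49025 D25179 F51518
theorem F51527 : act 1 n24270 = n25179 := d6_5 F51524 (iv D24271) (iv D19933) D19932 D24270
def n25180 : Q := act 5 n20886
theorem D25180 : act 5 n20886 = n25180 := rfl
theorem F51528 : act 1 n25180 = n22981 := d9_1 D25180 F45503 F33118 (iv F36123) D20886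
theorem F51529 : act 2 n25180 = n23767 := d13_1 D25180 (iv F51520) F51519
theorem F51530 : act 3 n25180 = n22978 := d16_1 D25180 F45494 (iv F40114)
theorem F51531 : act 4 n25180 = n25108 := d18_1 D25180 F51280 (iv F43915)
theorem F51532 : act 6 n25180 = n23767 := d22_1 D25180 (iv F51520) (iv F51526) (iv D25179)
def n25181 : Q := act 0 n20890
theorem D25181 : act 0 n20890 = n25181 := rfl
theorem F51533 : act 1 n25181 = n25176 := d0_2 D20890 D25181 (iv D25176) (iv D20881) (iv D15646) (iv D11892) (iv F17543) D11896 D15654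
theorem F51534 : act 3 n25181 = n23795 := d2_2 F47653 D25181 (iv F47650)
theorem F51535 : act 6 n25181 = n23799 := d5_2 (iv F40549) D25181 F47646
theorem F51536 : act 5 n25181 = n21043 := d22_0 F40544 D21046 (iv F40549) D25181
def n25182 : Q := act 2 n20890
theorem D25182 : act 2 n20890 = n25182 := rfl
theorem F51537 : act 1 n25182 = n24235 := d6_1 D25182 F48923 F48881 (iv D20891) D20890
theorem F51538 : act 3 n24236 = n25182 := d7_0 F51537 F48924 D24236
def n25183 : Q := act 5 n20890
theorem D25183 : act 5 n20890 = n25183 := rfl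
theorem F51539 : act 0 n25183 = n21043 := d4_1 D25183 (iv F51536) (iv D25181)
theorem F51540 : act 1 n25183 = n20903 := d9_1 D25183 F40165 (iv F40119) F40122 D20890
theorem F51541 : act 3 n25183 = n23794 := d16_1 D25183 (iv F47655) F47653
theorem F51542 : act 4 n25183 = n20917 := d18_1 D25183 (iv F51511) F51510
theorem F51543 : act 6 n25183 = n21044 := d20_2 (iv F40549) D25183 (iv F47648) (iv F51535) F51536 F40544 D21046
def n25184 : Q := act 5 n20894
theorem D25184 : act 5 n20894 = n25184 := rfl
theorem F51544 : act 2 n25184 = n20895 := d13_1 D25184 (iv D20895) D20894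
theorem F51545 : act 3 n25184 = n25046 := d16_1 D25184 F51063 F43241
theorem F51546 : act 4 n25184 = n23803 := d18_1 D25184 (iv D23803) (iv F40133)
theorem F51547 : act 6 n25184 = n25044 := d22_1 D25184 (iv D25044) (iv F51039) F51036
def n25185 : Q := act 1 n20897
theorem D25185 : act 1 n20897 = n25185 := rfl
theorem F51548 : act 3 n25185 = n22196 := d7_2 (iv F40141) D25185 (iv D22196)
def n25186 : Q := act 1 n20898
theorem D25186 : act 1 n20898 = n25186 := rfl
theorem F51549 : act 0 n25186 = n23792 := d0_1 D25186 (iv D23792) F36363 D19427 D23794 (iv F47780) F47779 F40134 (iv F40143)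
theorem F51550 : act 2 n25186 = n25171 := d6_2 (iv F40144) D25186 (iv D25171) F43258 (iv D22194)
theorem F51551 : act 3 n25186 = n20901 := d7_2 (iv F40145) D25186 (iv D20901)
theorem F51552 : act 4 n25186 = n20915 := d8_2 (iv F40146) D25186 F40201
theorem F51553 : act 5 n25186 = n25170 := d9_2 D20898 D25186 (iv D25170) F40139 (iv D20896)
theorem F51554 : act 6 n25186 = n20901 := d10_2 (iv F40147) D25186 (iv D20901) F27172 F39726
def n25187 : Q := act 1 n20899
theorem D25187 : act 1 n20899 = n25187 := rfl
theorem F51555 : act 0 n25187 = n25187 := d0_1 D25187 (iv D25187) F40148 D22194 (iv F43257) F40059 F43257 (iv D22194) (iv F40148)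
theorem F51556 : act 3 n25187 = n22192 := d7_2 (iv F40150) D25187 (iv D22192)
theorem F51557 : act 6 n25187 = n24985 := d10_2 (iv F40151) D25187 (iv D24985) (iv D20533) (iv F35276)
def n25188 : Q := act 1 n20900
theorem D25188 : act 1 n20900 = n25188 := rfl
theorem F51558 : act 3 n25188 = n22000 := d7_2 (iv F40154) D25188 F42744
theorem F51559 : act 4 n25188 = n20912 := d8_2 (iv F40155) D25188 (iv D20912)
theorem F51560 : act 5 n25188 = n24249 := d9_2 D20900 D25188 (iv D24249) (iv F39147) F39145
theorem F51561 : act 6 n25188 = n22567 := d10_2 (iv F40156) D25188 F44212 (iv F43140) F43137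
theorem F51562 : act 0 n25188 = n25175 := d23_3 D15666 (iv F40153) D25188 F51513 F44217 (iv D19447) F24899 (iv D11150) D11149 F19767 (iv F19774) F32619 (iv D11152) (iv D8525) (iv F7421) (iv D4872) (iv F7413) D9868 D11900
theorem F51563 : act 2 n23835 = n25188 := d23_1 (iv F47798) (iv D25188) F40152 (iv D15668) (iv D11901) (iv D9868) (iv F12774) F12776 F12713 D8525 (iv F32560) (iv D8528) D8527 (iv F19767) (iv F24898) (iv F34951) (iv F34942) D19447 D23804
def n25189 : Q := act 2 n20901
theorem D25189 : act 2 n20901 = n25189 := rfl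
theorem F51564 : act 0 n25189 = n20908 := d1_1 D25189 (iv F48210) F48215
theorem F51565 : act 1 n25189 = n23835 := d6_1 D25189 F51563 (iv D25188) F40153 D20901
theorem F51566 : act 4 n25189 = n20914 := d12_2 (iv F40157) D25189 (iv D20914)
theorem F51567 : act 5 n25189 = n20913 := d13_2 (iv F40158) D25189 F40200
theorem F51568 : act 6 n25189 = n25171 := d14_2 F51554 D25189 (iv F51550)
theorem F51569 : act 3 n25189 = n22672 := d21_5 (iv F47712) (iv F51496) (iv F51550) F51551 D25189 (iv D22672) (iv F44513) (iv F44591)
def n25190 : Q := act 6 n20908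
theorem D25190 : act 6 n20908 = n25190 := rfl
theorem F51570 : act 0 n25190 = n25171 := d5_1 D25190 (iv F51568) F51564
theorem F51571 : act 1 n25190 = n23795 := d10_1 D25190 F47633 F40188 (iv D20909) D20908
theorem F51572 : act 2 n25190 = n23792 := d14_1 D25190 (iv F48214) F48210
theorem F51573 : act 3 n25190 = n25176 := d17_1 D25190 F51517 F47805
theorem F51574 : act 4 n25190 = n25173 := d19_1 D25190 (iv D25173) (iv F40182)
theorem F51575 : act 5 n25190 = n23796 := d20_1 D25190 F47791 (iv F51567) F51568 F51498 (iv D20915) (iv F40183)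
def n25191 : Q := act 4 n20910
theorem D25191 : act 4 n20910 = n25191 := rfl
theorem F51576 : act 1 n25191 = n20911 := d8_1 D25191 (iv D20911) (iv F40189)
theorem F51577 : act 5 n25191 = n24286 := d18_2 (iv F40190) D25191 F49055
def n25192 : Q := act 0 n20917
theorem D25192 : act 0 n20917 = n25192 := rfl
theorem F51578 : act 1 n25192 = n21040 := d0_2 D20917 D25192 (iv F48189) (iv F48194) (iv D20913) (iv D15681) F21037 D11909 D15687
theorem F51579 : act 3 n25192 = n23804 := d2_2 (iv F40202) D25192 (iv D23804)
theorem F51580 : act 4 n25192 = n21043 := d3_2 F51542 D25192 (iv F51539)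
theorem F51581 : act 6 n25192 = n21041 := d5_2 (iv F40203) D25192 F40535
def n25193 : Q := act 1 n20920
theorem D25193 : act 1 n20920 = n25193 := rfl
theorem F51582 : act 0 n25193 = n24445 := d0_1 D25193 F49521 F43566 F39145 F27168 F21032 (iv F21049) D15697 D20920
theorem F51583 : act 4 n25193 = n20930 := d8_2 (iv F40215) D25193 (iv D20930)
theorem F51584 : act 5 n24427 = n25193 := d24_1 D24427 (iv D25193) (iv F40632) F40630 F40279 (iv F40282) (iv D20922) (iv D15697) F32580 F22488 D17333 (iv F37959) (iv D20085) D20083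
theorem F51585 : act 2 n25193 = n24444 := d13_1 F51584 F49536 (iv F49464)
def n25194 : Q := act 5 n20920
theorem D25194 : act 5 n20920 = n25194 := rfl
theorem F51586 : act 0 n25194 = n20922 := d4_1 D25194 (iv D20922) D20920
theorem F51587 : act 2 n25194 = n23813 := d13_1 D25194 F47705 F40635
theorem F51588 : act 3 n25194 = n22400 := d16_1 D25194 (iv F49381) F49380
theorem F51589 : act 4 n25194 = n20932 := d18_1 D25194 (iv D20932) (iv F40215)
theorem F51590 : act 6 n25194 = n22399 := d20_2 F40632 D25194 F43809 (iv D20923) D20922 F40282 (iv F40630)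
def n25195 : Q := act 4 n20921
theorem D25195 : act 4 n20921 = n25195 := rfl
theorem F51591 : act 1 n25195 = n20924 := d8_1 D25195 (iv D20924) (iv F40216)
theorem F51592 : act 3 n25195 = n20934 := d15_1 D25195 (iv D20934) (iv D15707) (iv F27210) D20921
def n25196 : Q := act 1 n20925
theorem D25196 : act 1 n20925 = n25196 := rfl
theorem F51593 : act 0 n25196 = n23781 := d0_1 D25196 F47598 (iv D19491) (iv D14297) F19796 (iv F34972) F32662 D15704 D20925
theorem F51594 : act 3 n25196 = n23809 := d7_2 F40311 D25196 F47686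
theorem F51595 : act 4 n25196 = n21067 := d8_2 F40637 D25196 (iv F40634)
theorem F51596 : act 6 n25196 = n21062 := d10_2 F40273 D25196 (iv D21062) (iv F34364) D20950
theorem F51597 : act 2 n23780 = n25196 := d1_0 F51593 (iv D23781) D23780
def n25197 : Q := act 2 n20930
theorem D25197 : act 2 n20930 = n25197 := rfl
theorem F51598 : act 0 n25197 = n23779 := d1_1 D25197 (iv F49033) F49032
theorem F51599 : act 1 n25197 = n23780 := d6_1 D25197 F51597 (iv D25196) F40221 D20930
theorem F51600 : act 4 n25197 = n24444 := d12_2 F51583 D25197 (iv F51585)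
def n25198 : Q := act 3 n20930
theorem D25198 : act 3 n20930 = n25198 := rfl
theorem F51601 : act 1 n25198 = n20931 := d7_1 D25198 (iv D20931) D20930
def n25199 : Q := act 5 n20930
theorem D25199 : act 5 n20930 = n25199 := rfl
theorem F51602 : act 4 n25199 = n24427 := d18_1 D25199 F51584 F51583
theorem F51603 : act 6 n23755 = n25199 := d24_0 (iv D25199) (iv D20930) D20933 (iv F40237) F40235 (iv D20936) (iv D15708) (iv D11920) (iv F20894) F20893 D12987 D17650 (iv F36224) D23755
def n25200 : Q := act 6 n20930
theorem D25200 : act 6 n20930 = n25200 := rfl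
def n25201 : Q := act 4 n20931
theorem D25201 : act 4 n20931 = n25201 := rfl
theorem F51604 : act 0 n25201 = n20934 := d3_1 D25201 (iv D20934) (iv F40230)
def n25202 : Q := act 6 n20931
theorem D25202 : act 6 n20931 = n25202 := rfl
theorem F51605 : act 0 n25202 = n20935 := d5_1 D25202 (iv D20935) (iv F40230)
theorem F51606 : act 2 n25202 = n23666 := d14_1 D25202 (iv F50931) F50929
theorem F51607 : act 3 n25202 = n20933 := d17_1 D25202 (iv D20933) D20931
theorem F51608 : act 5 n25202 = n25006 := d20_1 D25202 F50916 (iv F39838) D20935 F49088 (iv F50926) (iv F50927)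
def n25203 : Q := act 1 n20932
theorem D25203 : act 1 n20932 = n25203 := rfl
theorem F51609 : act 0 n25203 = n24279 := d23_3 F40363 (iv F40362) D25203 (iv D24279) (iv F49034) (iv D24275) F37683 F35206 F30402 (iv D13631) (iv F19570) (iv D11060) F12312 D8287 D11063 F19582 D11919 D15704 D20925
theorem F51610 : act 5 n24277 = n25203 := d4_0 F51609 (iv D24279) D24277
theorem F51611 : act 1 n25199 = n24277 := d9_5 F51610 (iv D25203) (iv D20932) D20930 D25199
def n25204 : Q := act 1 n20933
theorem D25204 : act 1 n20933 = n25204 := rfl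
theorem F51612 : act 5 n25204 = n25204 := d9_2 F40237 D25204 (iv D25204) (iv F40237) F40235
def n25205 : Q := act 6 n20934
theorem D25205 : act 6 n20934 = n25205 := rfl
theorem F51613 : act 4 n25205 = n20935 := d19_1 D25205 (iv D20935) D20934
def n25206 : Q := act 1 n20938
theorem D25206 : act 1 n20938 = n25206 := rfl
theorem F51614 : act 3 n25206 = n22731 := d7_2 (iv F40241) D25206 (iv D22731)
theorem F51615 : act 5 n25206 = n25206 := d9_2 (iv F40242) D25206 (iv D25206) F40242 F31999
def n25207 : Q := act 4 n20938
theorem D25207 : act 4 n20938 = n25207 := rfl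
theorem F51616 : act 0 n25207 = n20939 := d3_1 D25207 (iv D20939) D20938
theorem F51617 : act 2 n25207 = n22801 := d12_1 D25207 F44946 (iv F40240)
theorem F51618 : act 5 n25207 = n22800 := d18_2 (iv F40242) D25207 F44943
def n25208 : Q := act 3 n20939
theorem D25208 : act 3 n20939 = n25208 := rfl
theorem F51619 : act 1 n25208 = n20941 := d7_1 D25208 (iv D20941) (iv F40243)
theorem F51620 : act 4 n25208 = n22628 := d15_2 D20939 D25208 F44437 F32796 (iv F27224)
theorem F51621 : act 6 n25208 = n24455 := d17_2 (iv F47446) D25208 F49565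
def n25209 : Q := act 5 n20939
theorem D25209 : act 5 n20939 = n25209 := rfl
theorem F51622 : act 0 n25209 = n22800 := d4_1 D25209 (iv F51618) F51616
theorem F51623 : act 2 n25209 = n22799 := d13_1 D25209 (iv F46003) F46001
theorem F51624 : act 4 n25209 = n20940 := d18_1 D25209 (iv D20940) D20939
theorem F51625 : act 6 n25209 = n23735 := d22_3 D23737 (iv F47446) D25209 F47438
def n25210 : Q := act 0 n20942
theorem D25210 : act 0 n20942 = n25210 := rfl
theorem F51626 : act 3 n25210 = n24641 := d2_2 F44263 D25210 (iv F50025)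
theorem F51627 : act 4 n25210 = n20943 := d3_2 (iv F40252) D25210 (iv D20943)
theorem F51628 : act 1 n24642 = n25210 := d8_3 F51627 F45522 (iv F50027)
def n25211 : Q := act 2 n20942
theorem D25211 : act 2 n20942 = n25211 := rfl
theorem F51629 : act 4 n25211 = n20944 := d12_2 (iv F40252) D25211 (iv D20944)
theorem F51630 : act 5 n25211 = n22504 := d13_2 F45999 D25211 (iv F45997)
theorem F51631 : act 3 n22506 = n25211 := d16_3 F51630 F44061 D22506
theorem F51632 : act 6 n24269 = n25211 := d22_1 (iv F49021) F51630 (iv D22504) (iv F44052)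
def n25212 : Q := act 6 n20942
theorem D25212 : act 6 n20942 = n25212 := rfl
theorem F51633 : act 2 n25212 = n24269 := d14_1 D25212 F51632 (iv D25211)
theorem F51634 : act 4 n25212 = n20945 := d19_1 D25212 (iv D20945) (iv F40252)
def n25213 : Q := act 6 n20943
theorem D25213 : act 6 n20943 = n25213 := rfl
theorem F51635 : act 0 n25213 = n20945 := d5_1 D25213 (iv D20945) D20943
theorem F51636 : act 2 n25213 = n22586 := d14_1 D25213 (iv F45620) F45618
theorem F51637 : act 3 n25213 = n20946 := d17_1 D25213 (iv D20946) (iv F40253)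
theorem F51638 : act 5 n25213 = n22585 := d20_1 D25213 F44286 (iv F36138) D20945 (iv F45148) (iv F45613) (iv F45615)
def n25214 : Q := act 1 n20946
theorem D25214 : act 1 n20946 = n25214 := rfl
theorem F51639 : act 0 n25214 = n25214 := d0_1 D25214 (iv D25214) F40259 (iv F30880) (iv F36225) F36226 F36225 F30880 (iv F40259)
def n25215 : Q := act 1 n20947
theorem D25215 : act 1 n20947 = n25215 := rfl
theorem F51640 : act 4 n25215 = n24426 := d8_2 F44270 D25215 F49463
theorem F51641 : act 5 n25215 = n23755 := d9_2 D20947 D25215 (iv D23755) F36224 F30880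
theorem F51642 : act 6 n25215 = n24274 := d10_2 (iv F40263) D25215 (iv D24274) (iv D19935) (iv F37659)
theorem F51643 : act 0 n25200 = n25215 := d5_3 F51642 F49032 D25200
def n25216 : Q := act 5 n20948
theorem D25216 : act 5 n20948 = n25216 := rfl
theorem F51644 : act 2 n25216 = n22300 := d13_1 D25216 F43508 F43471
theorem F51645 : act 3 n25216 = n20949 := d16_1 D25216 (iv D20949) D20948
theorem F51646 : act 4 n25216 = n22297 := d18_1 D25216 F43498 F43466
theorem F51647 : act 6 n25216 = n22295 := d22_1 D25216 (iv D22295) D22296 F43492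
def n25217 : Q := act 1 n20949
theorem D25217 : act 1 n20949 = n25217 := rfl
theorem F51648 : act 0 n25217 = n23914 := d0_1 D25217 (iv D23914) (iv F36822) D23915 F51492 (iv D25169) (iv F40508) (iv F40573) F40572
theorem F51649 : act 2 n25217 = n25204 := d6_2 (iv F40266) D25217 (iv D25204) F40271 (iv D20950)
theorem F51650 : act 4 n25217 = n21059 := d8_2 (iv F40267) D25217 (iv D21059)
theorem F51651 : act 5 n25217 = n25217 := d9_2 D20949 D25217 (iv D25217) (iv D20949) F27234
def n25218 : Q := act 1 n20951
theorem D25218 : act 1 n20951 = n25218 := rfl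
theorem F51652 : act 2 n25218 = n20999 := d6_2 (iv F40274) D25218 F40429 (iv F43805) F43804
theorem F51653 : act 3 n25218 = n20962 := d7_2 (iv F40275) D25218 (iv D20962)
theorem F51654 : act 5 n25218 = n20998 := d9_2 (iv F40276) D25218 F40426 F40326 (iv F40227)
def n25219 : Q := act 1 n20952
theorem D25219 : act 1 n20952 = n25219 := rfl
theorem F51655 : act 3 n25219 = n20975 := d7_2 (iv F40277) D25219 (iv D20975)
theorem F51656 : act 4 n25219 = n25218 := d8_2 (iv F40278) D25219 (iv D25218)
theorem F51657 : act 6 n25219 = n20999 := d10_2 F47706 D25219 F40429 F40343 (iv F47703)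
def n25220 : Q := act 5 n20955
theorem D25220 : act 5 n20955 = n25220 := rfl
theorem F51658 : act 0 n25220 = n25099 := d4_1 D25220 (iv D25099) (iv F40288)
theorem F51659 : act 2 n25220 = n20956 := d13_1 D25220 (iv D20956) D20955
theorem F51660 : act 3 n25220 = n22301 := d16_1 D25220 (iv D22301) F40292
theorem F51661 : act 4 n25220 = n21654 := d18_1 D25220 (iv D21654) (iv F40290)
theorem F51662 : act 6 n25220 = n22837 := d20_2 (iv F40291) D25220 (iv D22837) (iv F39359) D25099 F51255 (iv D21651)
def n25221 : Q := act 5 n20962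
theorem D25221 : act 5 n20962 = n25221 := rfl
theorem F51663 : act 0 n25221 = n25218 := d4_1 D25221 F51654 (iv F40427)
theorem F51664 : act 1 n25221 = n23819 := d9_1 D25221 F47734 F47698 F40308 D20962
theorem F51665 : act 2 n25221 = n23827 := d13_1 D25221 (iv F47762) F40428
theorem F51666 : act 3 n25221 = n20998 := d16_1 D25221 (iv F51654) F51653
theorem F51667 : act 6 n25221 = n23823 := d22_1 D25221 (iv F48223) F48224 (iv F40427)
def n25222 : Q := act 1 n20963
theorem D25222 : act 1 n20963 = n25222 := rfl
theorem F51668 : act 3 n25222 = n20964 := d7_2 (iv F40319) D25222 (iv D20964)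
theorem F51669 : act 4 n25222 = n20972 := d8_2 (iv F40320) D25222 (iv D20972)
theorem F51670 : act 5 n25222 = n25196 := d9_2 (iv F40321) D25222 (iv D25196) F40363 (iv D20980)
theorem F51671 : act 6 n25222 = n21001 := d10_2 (iv F40322) D25222 (iv D21001) F27352 D15819
def n25223 : Q := act 2 n20964
theorem D25223 : act 2 n20964 = n25223 := rfl
theorem F51672 : act 4 n25223 = n20966 := d12_2 (iv F40323) D25223 (iv D20966)
theorem F51673 : act 6 n25223 = n22613 := d14_2 (iv F40324) D25223 F44378
def n25224 : Q := act 1 n20966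
theorem D25224 : act 1 n20966 = n25224 := rfl
theorem F51674 : act 0 n25224 = n24252 := d0_1 D25224 (iv D24252) F37618 (iv F37613) F37612 (iv D15813) (iv F27342) D20996 F40424
theorem F51675 : act 2 n25224 = n20968 := d6_2 D20966 D25224 (iv D20968) (iv D15775) D15774
theorem F51676 : act 6 n25224 = n23791 := d10_2 (iv F40327) D25224 (iv D23791) (iv D19423) (iv F36318)
def n25225 : Q := act 3 n20966
theorem D25225 : act 3 n20966 = n25225 := rfl
theorem F51677 : act 0 n25225 = n23516 := d2_1 D25225 F46833 F40424
theorem F51678 : act 2 n25225 = n24268 := d11_1 D25225 F49014 F37643 (iv F47745) (iv F47750) F47733 F40423 (iv F46833) (iv F47594) F47595 (iv F36410) (iv F47679) F47678 F36452 D20966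
theorem F51679 : act 6 n25225 = n23778 := d17_2 (iv F40327) D25225 F47595
def n25226 : Q := act 0 n20968
theorem D25226 : act 0 n20968 = n25226 := rfl
theorem F51680 : act 2 n25226 = n24252 := d1_2 F51675 D25226 (iv F51674)
theorem F51681 : act 3 n25226 = n23506 := d2_2 (iv F40331) D25226 F46807
theorem F51682 : act 5 n25226 = n25224 := d4_2 F48983 D25226 F51674
theorem F51683 : act 1 n24251 = n25226 := d6_5 F51680 (iv D24252) (iv D19913) D19912 D24251
def n25227 : Q := act 6 n20968
theorem D25227 : act 6 n20968 = n25227 := rfl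
theorem F51684 : act 1 n25227 = n22972 := d10_1 D25227 F45478 F33099 (iv F35978) D20968
theorem F51685 : act 2 n25227 = n23791 := d14_1 D25227 (iv F51676) F51675
theorem F51686 : act 3 n25227 = n22969 := d17_1 D25227 F45469 (iv F40331)
theorem F51687 : act 4 n25227 = n25080 := d19_1 D25227 F51185 (iv F43387)
theorem F51688 : act 5 n25227 = n23791 := d22_2 F48983 D25227 (iv F51676) F51674
def n25228 : Q := act 0 n20972
theorem D25228 : act 0 n20972 = n25228 := rfl
theorem F51689 : act 3 n25228 = n23826 := d2_2 F47725 D25228 F47756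
theorem F51690 : act 5 n25228 = n23828 := d4_2 F40621 D25228 F47763
theorem F51691 : act 6 n21064 = n25228 := d22_3 (iv F40621) (iv D21067) (iv F40616) (iv D25228)
def n25229 : Q := act 2 n20972
theorem D25229 : act 2 n20972 = n25229 := rfl
theorem F51692 : act 1 n25229 = n24214 := d6_1 D25229 (iv F48936) F48935 (iv D20973) D20972
theorem F51693 : act 3 n24215 = n25229 := d7_0 F51692 F48871 D24215
def n25230 : Q := act 6 n20972
theorem D25230 : act 6 n20972 = n25230 := rfl
theorem F51694 : act 0 n25230 = n21064 := d5_1 D25230 F51691 (iv D25228)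
theorem F51695 : act 1 n25230 = n20987 := d10_1 D25230 F40389 (iv F40336) F40339 D20972
theorem F51696 : act 3 n25230 = n23825 := d17_1 D25230 (iv F47753) F47725
theorem F51697 : act 4 n25230 = n21001 := d19_1 D25230 (iv F51671) F51669
theorem F51698 : act 5 n25230 = n21065 := d20_1 D25230 (iv F47766) (iv F51690) (iv F51691) F40616 D21067 F40621
def n25231 : Q := act 0 n20975
theorem D25231 : act 0 n20975 = n25231 := rfl
theorem F51699 : act 1 n25231 = n25228 := d0_2 D20975 D25231 (iv D25228) (iv D20972) (iv D15779) (iv D11956) (iv F17590) D11957 D15782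
theorem F51700 : act 2 n25231 = n22663 := d1_2 (iv F47713) D25231 (iv F44692)
theorem F51701 : act 4 n25231 = n22709 := d3_2 F47708 D25231 (iv F47711)
theorem F51702 : act 5 n25231 = n23814 := d4_2 F47714 D25231 F47711
theorem F51703 : act 6 n25231 = n23956 := d5_2 F47732 D25231 F48216
def n25232 : Q := act 6 n20978
theorem D25232 : act 6 n20978 = n25232 := rfl
theorem F51704 : act 2 n25232 = n20979 := d14_1 D25232 (iv D20979) D20978
theorem F51705 : act 3 n25232 = n25025 := d17_1 D25232 F50986 F43794
theorem F51706 : act 4 n25232 = n23830 := d19_1 D25232 (iv D23830) (iv F40355)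
theorem F51707 : act 5 n25232 = n25023 := d22_2 F50969 D25232 (iv D25023) (iv F50965)
def n25233 : Q := act 1 n20981
theorem D25233 : act 1 n20981 = n25233 := rfl
theorem F51708 : act 2 n25233 = n25203 := d6_2 D20981 D25233 (iv D25203) F40362 (iv D20980)
theorem F51709 : act 3 n25233 = n22401 := d7_2 (iv F40365) D25233 (iv D22401)
def n25234 : Q := act 1 n20982
theorem D25234 : act 1 n20982 = n25234 := rfl
theorem F51710 : act 0 n25234 = n23823 := d0_1 D25234 (iv D23823) F36472 D19483 D23825 F47754 F47674 F40356 (iv F40367)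
theorem F51711 : act 2 n25234 = n25219 := d6_2 (iv F40368) D25234 (iv D25219) F43811 (iv D22399)
theorem F51712 : act 3 n25234 = n20985 := d7_2 (iv F40369) D25234 (iv D20985)
theorem F51713 : act 4 n25234 = n20999 := d8_2 (iv F40370) D25234 F40429
theorem F51714 : act 5 n25234 = n20985 := d9_2 (iv F40371) D25234 (iv D20985) F27327 F39770
theorem F51715 : act 6 n25234 = n25218 := d10_2 D20982 D25234 (iv D25218) (iv F40360) (iv D20980)
def n25235 : Q := act 1 n20983
theorem D25235 : act 1 n20983 = n25235 := rfl
theorem F51716 : act 0 n25235 = n25235 := d0_1 D25235 (iv D25235) F40372 D22399 F43810 F40279 (iv F43810) (iv D22399) (iv F40372)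
theorem F51717 : act 3 n25235 = n22397 := d7_2 (iv F40374) D25235 (iv D22397)
theorem F51718 : act 5 n25235 = n25004 := d9_2 F40375 D25235 (iv D25004) (iv D20579) (iv F30041)
def n25236 : Q := act 1 n20984
theorem D25236 : act 1 n20984 = n25236 := rfl
theorem F51719 : act 3 n25236 = n22044 := d7_2 (iv F40378) D25236 F42861
theorem F51720 : act 4 n25236 = n20996 := d8_2 (iv F40379) D25236 (iv D20996)
theorem F51721 : act 5 n25236 = n22614 := d9_2 (iv F40380) D25236 F44381 F43697 F43694
theorem F51722 : act 6 n25236 = n24245 := d10_2 D20984 D25236 (iv D24245) (iv F39069) F39067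
theorem F51723 : act 2 n23810 = n25236 := d23_1 D23810 (iv D25236) F40376 (iv F39751) (iv F39752) (iv D14302) (iv D11175) (iv F19794) (iv F34938) (iv D14240) (iv F24878) (iv F24884) (iv F34891) D19402 (iv F39058) (iv F48140) (iv F48141) (iv F47686) F47685
theorem F51724 : act 0 n25236 = n25223 := d1_1 F51723 (iv D25223) (iv F47689)
def n25237 : Q := act 2 n20985
theorem D25237 : act 2 n20985 = n25237 := rfl
theorem F51725 : act 0 n25237 = n20992 := d1_1 D25237 (iv F48220) (iv F48225)
theorem F51726 : act 1 n25237 = n23810 := d6_1 D25237 F51723 (iv D25236) F40377 D20985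
theorem F51727 : act 4 n25237 = n20998 := d12_2 (iv F40381) D25237 (iv D20998)
theorem F51728 : act 5 n25237 = n25219 := d13_2 F51714 D25237 (iv F51711)
theorem F51729 : act 6 n25237 = n20997 := d14_2 (iv F40382) D25237 F40428
theorem F51730 : act 3 n25237 = n22709 := d21_5 (iv F47713) (iv F51655) (iv F51711) F51712 D25237 (iv D22709) (iv F44561) (iv F44692)
def n25238 : Q := act 5 n20992
theorem D25238 : act 5 n20992 = n25238 := rfl
theorem F51731 : act 0 n25238 = n25219 := d4_1 D25238 (iv F51728) F51725
theorem F51732 : act 1 n25238 = n23826 := d9_1 D25238 F47758 F40413 (iv D20993) D20992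
theorem F51733 : act 2 n25238 = n23823 := d13_1 D25238 (iv F48223) F48220
theorem F51734 : act 3 n25238 = n25231 := d16_1 D25238 F51702 F47707
theorem F51735 : act 4 n25238 = n25221 := d18_1 D25238 (iv D25221) (iv F40407)
theorem F51736 : act 6 n25238 = n23827 := d20_2 (iv F40408) D25238 (iv F47762) (iv F51729) F51728 F51657 (iv D20999)
def n25239 : Q := act 4 n20994
theorem D25239 : act 4 n20994 = n25239 := rfl
theorem F51737 : act 1 n25239 = n20995 := d8_1 D25239 (iv D20995) (iv F40417)
theorem F51738 : act 6 n25239 = n24267 := d19_2 (iv F40418) D25239 F49013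
def n25240 : Q := act 0 n21001
theorem D25240 : act 0 n21001 = n25240 := rfl
theorem F51739 : act 1 n25240 = n21061 := d0_2 D21001 D25240 (iv F48200) (iv F48205) (iv D20997) (iv D15809) F21119 D11970 D15815
theorem F51740 : act 3 n25240 = n23808 := d2_2 (iv F40430) D25240 F47682
theorem F51741 : act 4 n25240 = n21064 := d3_2 F51697 D25240 (iv F51694)
theorem F51742 : act 5 n25240 = n21062 := d4_2 (iv F40431) D25240 F40606
def n25241 : Q := act 1 n21004
theorem D25241 : act 1 n21004 = n25241 := rfl
theorem F51743 : act 0 n25241 = n24424 := d0_1 D25241 F49458 F43023 F39067 F27323 F21114 (iv F21131) D15825 D21004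
theorem F51744 : act 4 n25241 = n21012 := d8_2 (iv F40443) D25241 (iv D21012)
theorem F51745 : act 6 n25241 = n24447 := d24_3 (iv F40558) (iv F40560) D25241 (iv D24447) (iv D20100) D20102 F38006 (iv D17409) (iv F22508) F32776 D15825 D21007 (iv F40448) F40059
theorem F51746 : act 2 n24423 = n25241 := d14_3 F51745 F49533 F49526
def n25242 : Q := act 6 n21004
theorem D25242 : act 6 n21004 = n25242 := rfl
theorem F51747 : act 0 n25242 = n21007 := d5_1 D25242 (iv D21007) D21004
theorem F51748 : act 2 n25242 = n23836 := d14_1 D25242 F47803 F40563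
theorem F51749 : act 3 n25242 = n22195 := d17_1 D25242 (iv F49219) F49218
theorem F51750 : act 4 n25242 = n21015 := d19_1 D25242 (iv D21015) (iv F40443)
theorem F51751 : act 5 n25242 = n22194 := d20_1 D25242 F43256 (iv D21006) D21007 (iv F40448) (iv F40558) (iv F40560)
def n25243 : Q := act 4 n21005
theorem D25243 : act 4 n21005 = n25243 := rfl
theorem F51752 : act 1 n25243 = n21008 := d8_1 D25243 (iv D21008) (iv F40444)
theorem F51753 : act 3 n25243 = n21016 := d15_1 D25243 (iv D21016) (iv D15835) (iv F27365) D21005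
def n25244 : Q := act 1 n21009
theorem D25244 : act 1 n21009 = n25244 := rfl
theorem F51754 : act 0 n25244 = n23757 := d0_1 D25244 F47521 (iv D19436) (iv D14242) (iv F19763) (iv F34922) F32871 D15832 D21009
theorem F51755 : act 3 n25244 = n23834 := d7_2 (iv F40453) D25244 F47793
theorem F51756 : act 4 n25244 = n21046 := d8_2 F40565 D25244 (iv F40562)
theorem F51757 : act 5 n25244 = n21041 := d9_2 (iv F40455) D25244 (iv D21041) (iv F29094) D20863
theorem F51758 : act 6 n25244 = n25174 := d10_2 (iv F40454) D25244 (iv D25174) F40100 D20896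
theorem F51759 : act 2 n23756 = n25244 := d1_0 F51754 (iv D23757) D23756
def n25245 : Q := act 2 n21012
theorem D25245 : act 2 n21012 = n25245 := rfl
theorem F51760 : act 0 n25245 = n23755 := d1_1 D25245 (iv F48991) F48990
theorem F51761 : act 1 n25245 = n23756 := d6_1 D25245 F51759 (iv D25244) F40452 D21012
theorem F51762 : act 4 n25245 = n24423 := d12_2 F51744 D25245 F51746
theorem F51763 : act 5 n25200 = n25245 := d23_0 (iv D25245) (iv D21012) (iv D15834) D15836 (iv F40458) F40457 (iv F40111) F40113 F36418 F36419 F39782 (iv F45526) F45524 (iv F44275) F44274 (iv F37663) (iv F40262) D25215 (iv F51643)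
def n25246 : Q := act 3 n21012
theorem D25246 : act 3 n21012 = n25246 := rfl
theorem F51764 : act 1 n25246 = n21013 := d7_1 D25246 (iv D21013) D21012
def n25247 : Q := act 5 n21012
theorem D25247 : act 5 n21012 = n25247 := rfl
theorem F51765 : act 2 n25247 = n25200 := d13_1 D25247 F51763 (iv D25245)
theorem F51766 : act 6 n25197 = n25247 := d14_0 F51765 (iv D25200) D25197
def n25248 : Q := act 6 n21012
theorem D25248 : act 6 n21012 = n25248 := rfl
theorem F51767 : act 4 n25248 = n24447 := d19_1 D25248 (iv F51745) F51744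
theorem F51768 : act 5 n25248 = n23779 := d24_1 D25248 (iv D23779) (iv F36326) (iv D17823) (iv D13072) (iv F20981) F20980 D11981 D15837 F40056 F40052 (iv F40467) (iv D21014) D21012
def n25249 : Q := act 4 n21013
theorem D25249 : act 4 n21013 = n25249 := rfl
theorem F51769 : act 0 n25249 = n21016 := d3_1 D25249 (iv D21016) (iv F40464)
def n25250 : Q := act 5 n21013
theorem D25250 : act 5 n21013 = n25250 := rfl
theorem F51770 : act 0 n25250 = n21017 := d4_1 D25250 (iv D21017) (iv F40464)
theorem F51771 : act 2 n25250 = n23718 := d13_1 D25250 (iv F51008) F51006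
theorem F51772 : act 3 n25250 = n21014 := d16_1 D25250 (iv D21014) D21013
theorem F51773 : act 6 n25250 = n25027 := d20_2 F51004 D25250 F50993 (iv F39694) D21017 F49248 (iv F51003)
def n25251 : Q := act 1 n21014
theorem D25251 : act 1 n21014 = n25251 := rfl
theorem F51774 : act 2 n25251 = n25169 := d6_2 (iv F40466) D25251 (iv D25169) F40046 D20863
theorem F51775 : act 6 n25251 = n25251 := d10_2 (iv F40467) D25251 (iv D25251) F40467 F40052
def n25252 : Q := act 1 n21015
theorem D25252 : act 1 n21015 = n25252 := rfl
theorem F51776 : act 2 n25252 = n25185 := d6_2 (iv F40469) D25252 (iv D25185) (iv D20897) D20896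
def n25253 : Q := act 5 n21016
theorem D25253 : act 5 n21016 = n25253 := rfl
theorem F51777 : act 4 n25253 = n21017 := d18_1 D25253 (iv D21017) D21016
def n25254 : Q := act 1 n21019
theorem D25254 : act 1 n21019 = n25254 := rfl
theorem F51778 : act 3 n25254 = n22697 := d7_2 (iv F40476) D25254 (iv D22697)
theorem F51779 : act 6 n25254 = n25254 := d10_2 F40477 D25254 (iv D25254) (iv F40477) F31974
def n25255 : Q := act 4 n21019
theorem D25255 : act 4 n21019 = n25255 := rfl
theorem F51780 : act 0 n25255 = n21020 := d3_1 D25255 (iv D21020) D21019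
theorem F51781 : act 2 n25255 = n22795 := d12_1 D25255 F44931 (iv F40475)
theorem F51782 : act 6 n25255 = n22794 := d19_2 F40477 D25255 F44928
def n25256 : Q := act 3 n21020
theorem D25256 : act 3 n21020 = n25256 := rfl
theorem F51783 : act 1 n25256 = n21022 := d7_1 D25256 (iv D21022) (iv F40478)
theorem F51784 : act 4 n25256 = n22582 := d15_2 D21020 D25256 F44272 F32687 (iv F27382)
theorem F51785 : act 5 n25256 = n24435 := d16_2 (iv F47297) D25256 F49491
def n25257 : Q := act 6 n21020
theorem D25257 : act 6 n21020 = n25257 := rfl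
theorem F51786 : act 0 n25257 = n22794 := d5_1 D25257 (iv F51782) F51780
theorem F51787 : act 1 n25257 = n25212 := d10_1 D25257 (iv D25212) (iv D20942) (iv F27385) (iv F40478)
theorem F51788 : act 2 n25257 = n22793 := d14_1 D25257 (iv F45963) F45961
theorem F51789 : act 4 n25257 = n21021 := d19_1 D25257 (iv D21021) D21020
theorem F51790 : act 5 n23683 = n25257 := d22_0 (iv D25257) F47297 (iv D23685) (iv F47289)
def n25258 : Q := act 0 n21023
theorem D25258 : act 0 n21023 = n25258 := rfl
theorem F51791 : act 3 n25258 = n24586 := d2_2 F44428 D25258 (iv F49889)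
theorem F51792 : act 4 n25258 = n21024 := d3_2 (iv F40488) D25258 (iv D21024)
theorem F51793 : act 1 n24587 = n25258 := d8_3 F51792 F45532 (iv F49891)
def n25259 : Q := act 2 n21023
theorem D25259 : act 2 n21023 = n25259 := rfl
theorem F51794 : act 1 n25259 = n25211 := d6_1 D25259 (iv D25211) (iv D20942) (iv F27386) D21023
theorem F51795 : act 4 n25259 = n21025 := d12_2 (iv F40488) D25259 (iv D21025)
theorem F51796 : act 6 n25259 = n22562 := d14_2 F45960 D25259 (iv F45957)
theorem F51797 : act 3 n22564 = n25259 := d17_3 F51796 F44198 D22564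
theorem F51798 : act 5 n24250 = n25259 := d22_0 F51796 (iv D22562) D22563 (iv F48976)
def n25260 : Q := act 5 n21023
theorem D25260 : act 5 n21023 = n25260 := rfl
theorem F51799 : act 1 n25260 = n25209 := d9_1 D25260 (iv D25209) F40243 F27388 D21023
theorem F51800 : act 2 n25260 = n24250 := d13_1 D25260 F51798 (iv D25259)
theorem F51801 : act 4 n25260 = n21026 := d18_1 D25260 (iv D21026) (iv F40488)
def n25261 : Q := act 5 n21024
theorem D25261 : act 5 n21024 = n25261 := rfl
theorem F51802 : act 0 n25261 = n21026 := d4_1 D25261 (iv D21026) D21024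
theorem F51803 : act 2 n25261 = n22632 := d13_1 D25261 (iv F45704) F45702
theorem F51804 : act 3 n25261 = n21027 := d16_1 D25261 (iv D21027) (iv F40489)
theorem F51805 : act 6 n25261 = n22631 := d20_2 (iv F45699) D25261 F44452 (iv F35993) D21026 (iv F45131) (iv F45697)
def n25262 : Q := act 1 n21027
theorem D25262 : act 1 n21027 = n25262 := rfl
theorem F51806 : act 0 n25262 = n25262 := d0_1 D25262 (iv D25262) F40497 (iv F31109) (iv F36327) F36328 F36327 F31109 (iv F40497)
def n25263 : Q := act 1 n21028
theorem D25263 : act 1 n21028 = n25263 := rfl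
theorem F51807 : act 2 n25263 = n25215 := d6_2 (iv F40500) D25263 (iv D25215) F40262 F37661
theorem F51808 : act 4 n25263 = n24448 := d8_2 F44431 D25263 F49540
theorem F51809 : act 5 n25263 = n24255 := d9_2 (iv F40501) D25263 (iv D24255) (iv D19915) (iv F37613)
theorem F51810 : act 6 n25263 = n23779 := d10_2 D21028 D25263 (iv D23779) (iv F36326) F31109
theorem F51811 : act 0 n25263 = n25247 := d23_3 D19911 (iv F40500) D25263 (iv D25247) D25245 F51761 (iv D23756) D23760 F47526 (iv D19459) F24919 (iv F24765) (iv F33030) F34978 F27362 (iv D15817) D15816 F32925 F34997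
def n25264 : Q := act 1 n21029
theorem D25264 : act 1 n21029 = n25264 := rfl
theorem F51812 : act 4 n25264 = n21033 := d8_2 (iv F40504) D25264 (iv D21033)
theorem F51813 : act 6 n25264 = n23914 := d10_2 D21029 D25264 (iv D23914) (iv D19590) F29173
def n25265 : Q := act 5 n21030
theorem D25265 : act 5 n21030 = n25265 := rfl
theorem F51814 : act 0 n25265 = n25168 := d4_1 D25265 F51489 F42949
theorem F51815 : act 2 n25265 = n22084 := d13_1 D25265 F42960 F42930
theorem F51816 : act 3 n25265 = n21031 := d16_1 D25265 (iv D21031) (iv F40507)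
theorem F51817 : act 4 n25265 = n22082 := d18_1 D25265 F42954 F42924
theorem F51818 : act 6 n25265 = n22080 := d20_2 D21030 D25265 (iv D22080) D22081 (iv F51489) (iv D25168) F40045
def n25266 : Q := act 1 n21032
theorem D25266 : act 1 n21032 = n25266 := rfl
theorem F51819 : act 3 n25266 = n21033 := d7_2 (iv F40513) D25266 (iv D21033)
theorem F51820 : act 6 n25266 = n23912 := d10_2 D21032 D25266 (iv D23912) (iv D19588) F29176
def n25267 : Q := act 0 n21033
theorem D25267 : act 0 n21033 = n25267 := rfl
theorem F51821 : act 6 n25267 = n21059 := d5_2 (iv F40514) D25267 F50892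
theorem F51822 : act 5 n25267 = n21033 := d22_0 F40514 F36827 (iv F40514) D25267
def n25268 : Q := act 2 n21033
theorem D25268 : act 2 n21033 = n25268 := rfl
theorem F51823 : act 1 n25268 = n21045 := d6_1 D25268 (iv D21045) (iv D15888) (iv F27430) D21033
theorem F51824 : act 6 n25268 = n23917 := d14_2 (iv F40514) D25268 (iv D23917)
def n25269 : Q := act 5 n21035
theorem D25269 : act 5 n21035 = n25269 := rfl
theorem F51825 : act 0 n25269 = n23635 := d4_1 D25269 F47172 F42941
theorem F51826 : act 2 n25269 = n21960 := d13_1 D25269 (iv F47176) F47173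
theorem F51827 : act 3 n25269 = n22082 := d16_1 D25269 F42954 F42923
theorem F51828 : act 4 n25269 = n21037 := d18_1 D25269 (iv D21037) (iv F40519)
theorem F51829 : act 6 n25269 = n21958 := d20_2 D21035 D25269 F42646 D22079 (iv F47172) (iv D23635) (iv F35868)
def n25270 : Q := act 1 n21036
theorem D25270 : act 1 n21036 = n25270 := rfl
theorem F51830 : act 3 n25270 = n21038 := d7_2 (iv F40520) D25270 (iv D21038)
theorem F51831 : act 6 n25270 = n25270 := d10_2 D21036 D25270 (iv D25270) (iv D21036) F27433
theorem F51832 : act 0 n23913 = n25270 := d2_3 F51830 F50893 (iv F48053)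
def n25271 : Q := act 2 n21038
theorem D25271 : act 2 n21038 = n25271 := rfl
theorem F51833 : act 0 n25271 = n23919 := d1_1 D25271 (iv D23919) (iv F50893)
theorem F51834 : act 1 n25271 = n21048 := d6_1 D25271 (iv D21048) (iv D15889) (iv F27436) D21038
theorem F51835 : act 4 n25271 = n25251 := d12_2 F51490 D25271 F51774
theorem F51836 : act 6 n25271 = n25271 := d14_2 F40526 D25271 (iv D25271)
theorem F51837 : act 3 n25271 = n24342 := d21_1 D25271 (iv D24342) F43977 (iv D22077) (iv F42932) (iv F48052) F48053 (iv F50893)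
def n25272 : Q := act 5 n21038
theorem D25272 : act 5 n21038 = n25272 := rfl
theorem F51838 : act 0 n25272 = n21054 := d4_1 D25272 F40579 (iv F50893)
theorem F51839 : act 1 n25272 = n25267 := d9_1 D25272 F51822 (iv D21033) (iv F27437) D21038
theorem F51840 : act 6 n25272 = n21054 := d22_1 D25272 F40579 F36828 (iv F50893)
def n25273 : Q := act 2 n21041
theorem D25273 : act 2 n21041 = n25273 := rfl
theorem F51841 : act 0 n25273 = n23760 := d1_1 D25273 F47526 (iv F40535)
theorem F51842 : act 4 n25273 = n21045 := d12_2 (iv F40537) D25273 (iv D21045)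
theorem F51843 : act 5 n25273 = n23756 := d13_2 F51757 D25273 F51759
def n25274 : Q := act 2 n21043
theorem D25274 : act 2 n21043 = n25274 := rfl
theorem F51844 : act 1 n25274 = n23927 := d6_1 D25274 (iv D23927) (iv D19598) (iv F29130) D21043
theorem F51845 : act 6 n25274 = n21045 := d14_2 (iv F40544) D25274 (iv D21045)
def n25275 : Q := act 2 n21044
theorem D25275 : act 2 n21044 = n25275 := rfl
theorem F51846 : act 0 n25275 = n21045 := d1_1 D25275 (iv D21045) D21044
theorem F51847 : act 1 n25275 = n23805 := d6_1 D25275 F47673 F36408 (iv F36430) (iv F40545)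
theorem F51848 : act 4 n25275 = n23760 := d12_2 (iv F40547) D25275 F47526
theorem F51849 : act 5 n25275 = n23759 := d13_2 F47648 D25275 (iv F47649)
def n25276 : Q := act 3 n21045
theorem D25276 : act 3 n21045 = n25276 := rfl
def n25277 : Q := act 5 n21045
theorem D25277 : act 5 n21045 = n25277 := rfl
theorem F51850 : act 0 n25277 = n23759 := d4_1 D25277 (iv F51849) F51846
theorem F51851 : act 2 n25277 = n21046 := d13_1 D25277 (iv D21046) D21045
theorem F51852 : act 4 n25277 = n23756 := d18_1 D25277 (iv F51843) F51842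
theorem F51853 : act 1 n25277 = n24423 := d24_2 F51845 D25277 (iv F49526) F49524 F49521 F43568 F37584 (iv F39646) D20573 F39035 D24999 F50889 F48098 (iv F51844)
theorem F51854 : act 6 n25182 = n25277 := d24_0 (iv D25277) (iv F51823) F51824 F48064 F48063 (iv F48097) (iv F48098) (iv D22655) (iv F35422) D22648 F44508 (iv F48878) (iv F48926) (iv F51537)
def n25278 : Q := act 1 n21050
theorem D25278 : act 1 n21050 = n25278 := rfl
theorem F51855 : act 4 n25278 = n21054 := d8_2 (iv F40568) D25278 (iv D21054)
theorem F51856 : act 5 n25278 = n23915 := d9_2 D21050 D25278 (iv D23915) (iv D19591) (iv F35081)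
def n25279 : Q := act 6 n21051
theorem D25279 : act 6 n21051 = n25279 := rfl
theorem F51857 : act 0 n25279 = n25216 := d5_1 D25279 F51647 F43488
theorem F51858 : act 1 n25279 = n25265 := d10_1 D25279 F51818 F42945 (iv F39908) (iv F40570)
theorem F51859 : act 2 n25279 = n22301 := d14_1 D25279 F43512 F43468
theorem F51860 : act 3 n25279 = n21052 := d17_1 D25279 (iv D21052) (iv F40571)
theorem F51861 : act 4 n25279 = n22298 := d19_1 D25279 F43502 F43461
theorem F51862 : act 5 n25279 = n22296 := d20_1 D25279 (iv D22296) D22295 (iv F51647) (iv D25216) F40265 D21051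
def n25280 : Q := act 1 n21053
theorem D25280 : act 1 n21053 = n25280 := rfl
theorem F51863 : act 3 n25280 = n21054 := d7_2 (iv F40578) D25280 (iv D21054)
theorem F51864 : act 5 n25280 = n23913 := d9_2 D21053 D25280 (iv D23913) (iv D19589) F34820
def n25281 : Q := act 2 n21054
theorem D25281 : act 2 n21054 = n25281 := rfl
theorem F51865 : act 1 n25281 = n21066 := d6_1 D25281 (iv D21066) (iv D15922) (iv F27486) D21054
theorem F51866 : act 5 n25281 = n23919 := d13_2 (iv F40579) D25281 (iv D23919)
def n25282 : Q := act 6 n21056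
theorem D25282 : act 6 n21056 = n25282 := rfl
theorem F51867 : act 0 n25282 = n23687 := d5_1 D25282 F47306 F43485
theorem F51868 : act 1 n25282 = n25269 := d10_1 D25282 F51829 F42644 (iv F36631) (iv F40583)
theorem F51869 : act 2 n25282 = n22003 := d14_1 D25282 (iv F47315) F47312
theorem F51870 : act 3 n25282 = n22298 := d17_1 D25282 F43502 F43460
theorem F51871 : act 4 n25282 = n21057 := d19_1 D25282 (iv D21057) (iv F40584)
theorem F51872 : act 5 n25282 = n22002 := d20_1 D25282 F42752 D22294 (iv F47306) (iv D23687) (iv F36002) D21056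
def n25283 : Q := act 1 n21058
theorem D25283 : act 1 n21058 = n25283 := rfl
theorem F51873 : act 0 n25283 = n23912 := d0_1 D25283 (iv D23912) (iv F36815) D23913 F51832 (iv D25270) (iv F40522) (iv F40585) (iv F40594)
theorem F51874 : act 3 n25283 = n21059 := d7_2 (iv F40595) D25283 (iv D21059)
theorem F51875 : act 5 n25283 = n25283 := d9_2 D21058 D25283 (iv D25283) (iv D21058) F27492
def n25284 : Q := act 2 n21059
theorem D25284 : act 2 n21059 = n25284 := rfl
theorem F51876 : act 0 n25284 = n23917 := d1_1 D25284 (iv D23917) (iv F50892)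
theorem F51877 : act 1 n25284 = n21069 := d6_1 D25284 (iv D21069) (iv D15925) (iv F27498) D21059
theorem F51878 : act 4 n25284 = n25204 := d12_2 F51650 D25284 (iv F51649)
theorem F51879 : act 5 n25284 = n25284 := d13_2 F40597 D25284 (iv D25284)
theorem F51880 : act 3 n25284 = n24394 := d21_1 D25284 (iv D24394) F43479 (iv D22292) (iv F43474) (iv F48048) F48049 (iv F50892)
def n25285 : Q := act 2 n21062
theorem D25285 : act 2 n21062 = n25285 := rfl
theorem F51881 : act 0 n25285 = n23784 := d1_1 D25285 F47603 (iv F40606)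
theorem F51882 : act 4 n25285 = n21066 := d12_2 (iv F40608) D25285 (iv D21066)
theorem F51883 : act 6 n25285 = n23780 := d14_2 F51596 D25285 F51597
def n25286 : Q := act 2 n21064
theorem D25286 : act 2 n21064 = n25286 := rfl
theorem F51884 : act 1 n25286 = n23936 := d6_1 D25286 (iv D23936) (iv D19602) F35096 D21064
theorem F51885 : act 5 n25286 = n21066 := d13_2 (iv F40616) D25286 (iv D21066)
def n25287 : Q := act 2 n21065
theorem D25287 : act 2 n21065 = n25287 := rfl
theorem F51886 : act 0 n25287 = n21066 := d1_1 D25287 (iv D21066) D21065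
theorem F51887 : act 1 n25287 = n23831 := d6_1 D25287 F47778 F36542 (iv F36426) (iv F40617)
theorem F51888 : act 4 n25287 = n23784 := d12_2 (iv F40619) D25287 F47603
theorem F51889 : act 6 n25287 = n23783 := d14_2 F47766 D25287 F47767
def n25288 : Q := act 3 n21066
theorem D25288 : act 3 n21066 = n25288 := rfl
def n25289 : Q := act 6 n21066
theorem D25289 : act 6 n21066 = n25289 := rfl
theorem F51890 : act 0 n25289 = n23783 := d5_1 D25289 (iv F51889) F51886
theorem F51891 : act 2 n25289 = n21067 := d14_1 D25289 (iv D21067) D21066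
theorem F51892 : act 4 n25289 = n23780 := d19_1 D25289 (iv F51883) F51882
theorem F51893 : act 5 n25289 = n25229 := d24_1 D25289 F51692 F48872 (iv D24203) (iv F44556) F44559 F35425 D22700 F48132 F48131 (iv F48066) F48067 (iv F51866) F51865
theorem F51894 : act 1 n24444 = n25289 := d24_14 (iv D25289) (iv F51885) F51884 (iv F48132) (iv F50826) (iv D24980) (iv F38956) (iv D20527) (iv F39547) (iv F37552) (iv F43025) (iv F49458) (iv F49461) (iv F49536)
def n25290 : Q := act 3 n21071
theorem D25290 : act 3 n21071 = n25290 := rfl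
theorem F51895 : act 0 n25290 = n21072 := d2_1 D25290 (iv D21072) (iv F40638)
theorem F51896 : act 1 n25290 = n24554 := d7_1 D25290 F49814 (iv F40639)
def n25291 : Q := act 4 n21072
theorem D25291 : act 4 n21072 = n25291 := rfl
theorem F51897 : act 1 n25291 = n23197 := d8_1 D25291 (iv F50940) F50938
theorem F51898 : act 3 n25291 = n21912 := d15_1 D25291 (iv D21912) (iv D16549) (iv F27537) D21072
def n25292 : Q := act 6 n21072
theorem D25292 : act 6 n21072 = n25292 := rfl
theorem F51899 : act 3 n25292 = n21073 := d17_1 D25292 (iv D21073) D21072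
def n25293 : Q := act 1 n21073
theorem D25293 : act 1 n21073 = n25293 := rfl
theorem F51900 : act 2 n25293 = n21870 := d6_2 (iv F40641) D25293 (iv F42427) F40766 F27622
theorem F51901 : act 4 n25293 = n21914 := d8_2 (iv F40642) D25293 (iv D21914)
theorem F51902 : act 5 n25293 = n21596 := d9_2 F41980 D25293 (iv D21596) D21598 (iv F41982)
theorem F51903 : act 0 n21818 = n25293 := d4_3 F51902 F41818 D21818
def n25294 : Q := act 3 n21074
theorem D25294 : act 3 n21074 = n25294 := rfl
theorem F51904 : act 0 n25294 = n21075 := d2_1 D25294 (iv D21075) (iv F40643)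
theorem F51905 : act 1 n25294 = n24610 := d7_1 D25294 F49952 (iv F40644)
def n25295 : Q := act 4 n21075
theorem D25295 : act 4 n21075 = n25295 := rfl
theorem F51906 : act 1 n25295 = n23274 := d8_1 D25295 (iv F51017) F51015
theorem F51907 : act 3 n25295 = n21915 := d15_1 D25295 (iv D21915) (iv D16552) (iv F27541) D21075
def n25296 : Q := act 5 n21075
theorem D25296 : act 5 n21075 = n25296 := rfl
theorem F51908 : act 3 n25296 = n21076 := d16_1 D25296 (iv D21076) D21075
def n25297 : Q := act 1 n21076
theorem D25297 : act 1 n21076 = n25297 := rfl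
theorem F51909 : act 2 n25297 = n21819 := d6_2 (iv F40646) D25297 (iv F42307) F40750 F27605
theorem F51910 : act 4 n25297 = n21917 := d8_2 (iv F40647) D25297 (iv D21917)
theorem F51911 : act 6 n25297 = n21755 := d10_2 F41637 D25297 (iv D21755) D21758 (iv F42174)
theorem F51912 : act 0 n21871 = n25297 := d5_3 F51911 F42165 D21871
def n25298 : Q := act 3 n21085
theorem D25298 : act 3 n21085 = n25298 := rfl
theorem F51913 : act 1 n25298 = n21111 := d7_1 D25298 (iv D21111) (iv F40683)
def n25299 : Q := act 3 n21090
theorem D25299 : act 3 n21090 = n25299 := rfl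
theorem F51914 : act 1 n25299 = n21118 := d7_1 D25299 (iv D21118) (iv F40704)
def n25300 : Q := act 2 n21091
theorem D25300 : act 2 n21091 = n25300 := rfl
theorem F51915 : act 0 n25300 = n24510 := d1_1 D25300 F49699 (iv F40706)
theorem F51916 : act 4 n25300 = n23968 := d12_2 (iv F40708) D25300 (iv D23968)
theorem F51917 : act 5 n25300 = n24021 := d13_2 F40709 D25300 F48405
def n25301 : Q := act 1 n21092
theorem D25301 : act 1 n21092 = n25301 := rfl
theorem F51918 : act 4 n25301 = n24497 := d8_2 (iv F40711) D25301 (iv D24497)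
def n25302 : Q := act 3 n21092
theorem D25302 : act 3 n21092 = n25302 := rfl
theorem F51919 : act 0 n25302 = n21093 := d2_1 D25302 (iv D21093) (iv F40710)
theorem F51920 : act 5 n25302 = n21148 := d16_2 (iv F40712) D25302 (iv D21148)
theorem F51921 : act 2 n25302 = n24562 := d21_2 D21092 D25302 F49832 F38914 (iv D15959) (iv D12050) (iv F21271) D15949
theorem F51922 : act 4 n24561 = n25302 := d12_0 F51921 (iv D24562) D24561
def n25303 : Q := act 2 n21093
theorem D25303 : act 2 n21093 = n25303 := rfl
theorem F51923 : act 0 n25303 = n24562 := d1_1 D25303 (iv F51921) F51919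
theorem F51924 : act 3 n25303 = n24972 := d11_2 D21093 D25303 F50798 (iv D21107) (iv D15958) (iv F27578) D21092 D25302 F51921 F49832 F38914 (iv D15959) (iv D12050) (iv F21271) D15950
theorem F51925 : act 5 n25303 = n21151 := d13_2 (iv F40713) D25303 (iv D21151)
theorem F51926 : act 4 n24559 = n25303 := d18_3 F51925 (iv F49806) (iv F49827)
def n25304 : Q := act 4 n21093
theorem D25304 : act 4 n21093 = n25304 := rfl
theorem F51927 : act 0 n25304 = n24561 := d3_1 D25304 F51922 F51919
theorem F51928 : act 2 n25304 = n24559 := d12_1 D25304 F51926 (iv D25303)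
theorem F51929 : act 5 n25304 = n21152 := d18_2 (iv F40713) D25304 (iv D21152)
def n25305 : Q := act 6 n21093
theorem D25305 : act 6 n21093 = n25305 := rfl
theorem F51930 : act 3 n25305 = n21094 := d17_1 D25305 (iv D21094) D21093
def n25306 : Q := act 1 n21094
theorem D25306 : act 1 n21094 = n25306 := rfl
def n25307 : Q := act 2 n21095
theorem D25307 : act 2 n21095 = n25307 := rfl
theorem F51931 : act 6 n25307 = n21097 := d14_2 (iv F40716) D25307 (iv D21097)
def n25308 : Q := act 2 n21096
theorem D25308 : act 2 n21096 = n25308 := rfl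
theorem F51932 : act 0 n25308 = n21097 := d1_1 D25308 (iv D21097) D21096
theorem F51933 : act 5 n25308 = n21460 := d13_2 F40718 D25308 (iv D21460)
def n25309 : Q := act 3 n21097
theorem D25309 : act 3 n21097 = n25309 := rfl
theorem F51934 : act 1 n25309 = n23123 := d7_1 D25309 (iv D23123) (iv F40719)
def n25310 : Q := act 5 n21097
theorem D25310 : act 5 n21097 = n25310 := rfl
theorem F51935 : act 0 n25310 = n21460 := d4_1 D25310 (iv F51933) F51932
theorem F51936 : act 2 n25310 = n21098 := d13_1 D25310 (iv D21098) D21097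
theorem F51937 : act 1 n21341 = n25310 := d6_5 F51936 F40721 (iv F41284) (iv D21340) D21341
def n25311 : Q := act 6 n21098
theorem D25311 : act 6 n21098 = n25311 := rfl
theorem F51938 : act 0 n25311 = n21452 := d5_1 D25311 F41508 (iv F40720)
theorem F51939 : act 1 n25311 = n21329 := d10_1 D25311 F41262 D21340 F41285 (iv F40721)
theorem F51940 : act 3 n25311 = n21113 := d17_1 D25311 (iv D21113) (iv F40722)
theorem F51941 : act 5 n25311 = n24536 := d20_1 D25311 F49778 (iv F40718) (iv F41508) F41507 F40716 D21098
def n25312 : Q := act 2 n21099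
theorem D25312 : act 2 n21099 = n25312 := rfl
theorem F51942 : act 0 n25312 = n24531 := d1_1 D25312 F49753 (iv F40723)
theorem F51943 : act 4 n25312 = n23969 := d12_2 (iv F40725) D25312 (iv D23969)
theorem F51944 : act 6 n25312 = n24029 := d14_2 F40726 D25312 F48433
def n25313 : Q := act 1 n21100
theorem D25313 : act 1 n21100 = n25313 := rfl
theorem F51945 : act 4 n25313 = n24499 := d8_2 (iv F40728) D25313 (iv D24499)
def n25314 : Q := act 3 n21100
theorem D25314 : act 3 n21100 = n25314 := rfl
theorem F51946 : act 0 n25314 = n21101 := d2_1 D25314 (iv D21101) (iv F40727)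
theorem F51947 : act 6 n25314 = n21158 := d17_2 (iv F40729) D25314 (iv D21158)
theorem F51948 : act 2 n25314 = n24617 := d21_2 D21100 D25314 F49969 F38993 (iv D15967) (iv D12054) (iv F21276) D15953
theorem F51949 : act 4 n24616 = n25314 := d12_0 F51948 (iv D24617) D24616
def n25315 : Q := act 2 n21101
theorem D25315 : act 2 n21101 = n25315 := rfl
theorem F51950 : act 0 n25315 = n24617 := d1_1 D25315 (iv F51948) F51946
theorem F51951 : act 3 n25315 = n24991 := d11_2 D21101 D25315 F50861 (iv D21114) (iv D15966) (iv F27584) D21100 D25314 F51948 F49969 F38993 (iv D15967) (iv D12054) (iv F21276) D15954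
theorem F51952 : act 6 n25315 = n21161 := d14_2 (iv F40730) D25315 (iv D21161)
theorem F51953 : act 4 n24614 = n25315 := d19_3 F51952 (iv F49943) (iv F49964)
def n25316 : Q := act 4 n21101
theorem D25316 : act 4 n21101 = n25316 := rfl
theorem F51954 : act 0 n25316 = n24616 := d3_1 D25316 F51949 F51946
theorem F51955 : act 2 n25316 = n24614 := d12_1 D25316 F51953 (iv D25315)
theorem F51956 : act 6 n25316 = n21162 := d19_2 (iv F40730) D25316 (iv D21162)
def n25317 : Q := act 5 n21101
theorem D25317 : act 5 n21101 = n25317 := rfl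
theorem F51957 : act 3 n25317 = n21102 := d16_1 D25317 (iv D21102) D21101
def n25318 : Q := act 1 n21102
theorem D25318 : act 1 n21102 = n25318 := rfl
def n25319 : Q := act 2 n21103
theorem D25319 : act 2 n21103 = n25319 := rfl
theorem F51958 : act 5 n25319 = n21105 := d13_2 (iv F40733) D25319 (iv D21105)
def n25320 : Q := act 2 n21104
theorem D25320 : act 2 n21104 = n25320 := rfl
theorem F51959 : act 0 n25320 = n21105 := d1_1 D25320 (iv D21105) D21104
theorem F51960 : act 6 n25320 = n21391 := d14_2 F40735 D25320 (iv D21391)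
def n25321 : Q := act 3 n21105
theorem D25321 : act 3 n21105 = n25321 := rfl
theorem F51961 : act 1 n25321 = n23111 := d7_1 D25321 (iv D23111) (iv F40736)
def n25322 : Q := act 6 n21105
theorem D25322 : act 6 n21105 = n25322 := rfl
theorem F51962 : act 0 n25322 = n21391 := d5_1 D25322 (iv F51960) F51959
theorem F51963 : act 2 n25322 = n21106 := d14_1 D25322 (iv D21106) D21105
theorem F51964 : act 1 n21415 = n25322 := d6_5 F51963 F40738 F41422 (iv D21414) D21415
def n25323 : Q := act 5 n21106
theorem D25323 : act 5 n21106 = n25323 := rfl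
theorem F51965 : act 0 n25323 = n21382 := d4_1 D25323 F41365 (iv F40737)
theorem F51966 : act 1 n25323 = n21403 := d9_1 D25323 F41396 D21414 (iv F41421) (iv F40738)
theorem F51967 : act 3 n25323 = n21120 := d16_1 D25323 (iv D21120) (iv F40739)
theorem F51968 : act 6 n25323 = n24516 := d20_2 D21106 D25323 F49726 (iv F40735) (iv F41365) F41366 F40733
def n25324 : Q := act 3 n21109
theorem D25324 : act 3 n21109 = n25324 := rfl
theorem F51969 : act 6 n25324 = n21111 := d17_2 (iv F40745) D25324 (iv D21111)
def n25325 : Q := act 3 n21110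
theorem D25325 : act 3 n21110 = n25325 := rfl
theorem F51970 : act 0 n25325 = n21111 := d2_1 D25325 (iv D21111) (iv F40746)
theorem F51971 : act 5 n25325 = n21773 := d16_2 (iv F40748) D25325 (iv D21773)
def n25326 : Q := act 2 n21111
theorem D25326 : act 2 n21111 = n25326 := rfl
def n25327 : Q := act 4 n21111
theorem D25327 : act 4 n21111 = n25327 := rfl
theorem F51972 : act 3 n25327 = n21931 := d15_1 D25327 (iv D21931) (iv D16599) (iv F27603) D21111
def n25328 : Q := act 5 n21111
theorem D25328 : act 5 n21111 = n25328 := rfl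
theorem F51973 : act 0 n25328 = n21773 := d4_1 D25328 (iv F51971) F51970
theorem F51974 : act 3 n25328 = n21112 := d16_1 D25328 (iv D21112) D21111
def n25329 : Q := act 3 n21116
theorem D25329 : act 3 n21116 = n25329 := rfl
theorem F51975 : act 5 n25329 = n21118 := d16_2 (iv F40761) D25329 (iv D21118)
def n25330 : Q := act 3 n21117
theorem D25330 : act 3 n21117 = n25330 := rfl
theorem F51976 : act 0 n25330 = n21118 := d2_1 D25330 (iv D21118) (iv F40762)
theorem F51977 : act 6 n25330 = n21614 := d17_2 (iv F40764) D25330 (iv D21614)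
def n25331 : Q := act 2 n21118
theorem D25331 : act 2 n21118 = n25331 := rfl
def n25332 : Q := act 4 n21118
theorem D25332 : act 4 n21118 = n25332 := rfl
theorem F51978 : act 3 n25332 = n21937 := d15_1 D25332 (iv D21937) (iv D16611) (iv F27620) D21118
def n25333 : Q := act 6 n21118
theorem D25333 : act 6 n21118 = n25333 := rfl
theorem F51979 : act 0 n25333 = n21614 := d5_1 D25333 (iv F51977) F51976
theorem F51980 : act 3 n25333 = n21119 := d17_1 D25333 (iv D21119) D21118
def n25334 : Q := act 2 n21121
theorem D25334 : act 2 n21121 = n25334 := rfl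
theorem F51981 : act 0 n25334 = n25334 := d1_1 D25334 (iv D25334) F40772
theorem F51982 : act 1 n25334 = n25334 := d6_1 D25334 (iv D25334) F40773 F27626 (iv F40773)
theorem F51983 : act 4 n25334 = n25334 := d12_2 F40774 D25334 (iv D25334)
theorem F51984 : act 5 n25334 = n25334 := d13_2 F40775 D25334 (iv D25334)
theorem F51985 : act 6 n25334 = n25334 := d14_2 F40776 D25334 (iv D25334)
theorem F51986 : act 3 n25334 = n25334 := d21_1 D25334 (iv D25334) (iv D21121) (iv F38053) F38054 F38053 D21121 F40772
def n25335 : Q := act 1 n21125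
theorem D25335 : act 1 n21125 = n25335 := rfl
theorem F51987 : act 3 n25335 = n21129 := d7_2 (iv F40791) D25335 (iv D21129)
theorem F51988 : act 4 n25335 = n25335 := d8_2 F40792 D25335 (iv D25335)
theorem F51989 : act 5 n25335 = n25335 := d9_2 (iv F40793) D25335 (iv D25335) F40793 F40783
def n25336 : Q := act 1 n21127
theorem D25336 : act 1 n21127 = n25336 := rfl
theorem F51990 : act 3 n25336 = n21131 := d7_2 (iv F40799) D25336 (iv D21131)
theorem F51991 : act 4 n25336 = n25336 := d8_2 F40800 D25336 (iv D25336)
theorem F51992 : act 6 n25336 = n25336 := d10_2 (iv F40801) D25336 (iv D25336) F40801 F40778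
def n25337 : Q := act 3 n21128
theorem D25337 : act 3 n21128 = n25337 := rfl
theorem F51993 : act 5 n25337 = n21140 := d16_2 (iv F40802) D25337 (iv D21140)
theorem F51994 : act 2 n25337 = n21140 := d21_2 D21128 D25337 (iv D21140) (iv D15986) (iv F27641) D21133 F40814 F35332
def n25338 : Q := act 0 n21129
theorem D25338 : act 0 n21129 = n25338 := rfl
theorem F51995 : act 5 n25338 = n25338 := d4_2 F40803 D25338 (iv D25338)
def n25339 : Q := act 2 n21129
theorem D25339 : act 2 n21129 = n25339 := rfl
theorem F51996 : act 5 n25339 = n25339 := d13_2 F40803 D25339 (iv D25339)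
def n25340 : Q := act 3 n21130
theorem D25340 : act 3 n21130 = n25340 := rfl
theorem F51997 : act 6 n25340 = n21144 := d17_2 (iv F40804) D25340 (iv D21144)
theorem F51998 : act 2 n25340 = n21144 := d21_2 D21130 D25340 (iv D21144) (iv D15989) (iv F27643) D21136 (iv F40835) (iv F35339)
def n25341 : Q := act 0 n21131
theorem D25341 : act 0 n21131 = n25341 := rfl
theorem F51999 : act 6 n25341 = n25341 := d5_2 F40805 D25341 (iv D25341)
def n25342 : Q := act 2 n21131
theorem D25342 : act 2 n21131 = n25342 := rfl
theorem F52000 : act 6 n25342 = n25342 := d14_2 F40805 D25342 (iv D25342)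
def n25343 : Q := act 6 n21132
theorem D25343 : act 6 n21132 = n25343 := rfl
theorem F52001 : act 0 n25343 = n21134 := d5_1 D25343 (iv D21134) D21132
theorem F52002 : act 2 n25343 = n21190 := d14_1 D25343 F40955 (iv F40812)
theorem F52003 : act 3 n25343 = n21139 := d17_1 D25343 (iv D21139) (iv F40807)
theorem F52004 : act 4 n25343 = n25343 := d19_1 D25343 (iv D25343) F40808
theorem F52005 : act 5 n25343 = n21190 := d20_1 D25343 F40955 F40789 D21134 F40821 F40817 (iv F40813)
def n25344 : Q := act 5 n21135
theorem D25344 : act 5 n21135 = n25344 := rfl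
theorem F52006 : act 0 n25344 = n21137 := d4_1 D25344 (iv D21137) D21135
theorem F52007 : act 2 n25344 = n21191 := d13_1 D25344 F40958 (iv F40838)
theorem F52008 : act 3 n25344 = n21143 := d16_1 D25344 (iv D21143) (iv F40823)
theorem F52009 : act 4 n25344 = n25344 := d18_1 D25344 (iv D25344) F40824
theorem F52010 : act 6 n25344 = n21191 := d20_2 F40837 D25344 F40958 F40796 D21137 (iv F40830) (iv F40832)
def n25345 : Q := act 3 n21138
theorem D25345 : act 3 n21138 = n25345 := rfl
theorem F52011 : act 0 n25345 = n21140 := d2_1 D25345 (iv D21140) (iv F40839)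
theorem F52012 : act 1 n25345 = n24705 := d7_1 D25345 F50191 F50091
def n25346 : Q := act 6 n21138
theorem D25346 : act 6 n21138 = n25346 := rfl
theorem F52013 : act 0 n25346 = n21141 := d5_1 D25346 (iv D21141) (iv F40839)
theorem F52014 : act 2 n25346 = n21139 := d14_1 D25346 (iv D21139) D21138
theorem F52015 : act 5 n25346 = n21195 := d20_1 D25346 F40970 F40802 D21141 (iv F40844) (iv F40967) F40966
def n25347 : Q := act 1 n21139
theorem D25347 : act 1 n21139 = n25347 := rfl
def n25348 : Q := act 4 n21140
theorem D25348 : act 4 n21140 = n25348 := rfl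
theorem F52017 : act 1 n25348 = n21152 := d8_1 D25348 (iv D21152) (iv F40842)
def n25349 : Q := act 6 n21140
theorem D25349 : act 6 n21140 = n25349 := rfl
theorem F52018 : act 3 n25349 = n21141 := d17_1 D25349 (iv D21141) D21140
theorem F52019 : act 5 n21196 = n25349 := d16_0 F52018 (iv F40844) D21196
def n25350 : Q := act 1 n21141
theorem D25350 : act 1 n21141 = n25350 := rfl
theorem F52020 : act 5 n25350 = n21223 := d9_2 F40844 D25350 (iv D21223) (iv D16063) (iv F27738)
theorem F52021 : act 6 n25350 = n21154 := d10_2 D21141 D25350 (iv D21154) (iv D15995) (iv F27646)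
def n25351 : Q := act 3 n21142
theorem D25351 : act 3 n21142 = n25351 := rfl
theorem F52022 : act 0 n25351 = n21144 := d2_1 D25351 (iv D21144) (iv F40845)
theorem F52023 : act 1 n25351 = n24754 := d7_1 D25351 F50297 F50145
def n25352 : Q := act 5 n21142
theorem D25352 : act 5 n21142 = n25352 := rfl
theorem F52024 : act 0 n25352 = n21145 := d4_1 D25352 (iv D21145) (iv F40845)
theorem F52025 : act 2 n25352 = n21143 := d13_1 D25352 (iv D21143) D21142
theorem F52026 : act 6 n25352 = n21200 := d20_2 F40987 D25352 F40990 F40804 D21145 (iv F40850) (iv F40986)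
def n25353 : Q := act 1 n21143
theorem D25353 : act 1 n21143 = n25353 := rfl
def n25354 : Q := act 4 n21144
theorem D25354 : act 4 n21144 = n25354 := rfl
theorem F52028 : act 1 n25354 = n21162 := d8_1 D25354 (iv D21162) (iv F40848)
def n25355 : Q := act 5 n21144
theorem D25355 : act 5 n21144 = n25355 := rfl
theorem F52029 : act 3 n25355 = n21145 := d16_1 D25355 (iv D21145) D21144
theorem F52030 : act 6 n21201 = n25355 := d17_0 F52029 (iv F40850) D21201
def n25356 : Q := act 1 n21145
theorem D25356 : act 1 n21145 = n25356 := rfl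
theorem F52031 : act 2 n25356 = n25350 := d6_2 (iv F40849) D25356 (iv D25350) F40843 F35330
theorem F52032 : act 5 n25356 = n21164 := d9_2 D21145 D25356 (iv D21164) (iv D16001) (iv F27647)
theorem F52033 : act 6 n25356 = n21247 := d10_2 F40850 D25356 (iv D21247) (iv D16082) (iv F27748)
def n25357 : Q := act 4 n21148
theorem D25357 : act 4 n21148 = n25357 := rfl
theorem F52034 : act 0 n25357 = n21152 := d3_1 D25357 (iv D21152) (iv F40859)
theorem F52035 : act 1 n25357 = n24039 := d8_1 D25357 (iv D24039) (iv F40860)
theorem F52036 : act 2 n25357 = n24563 := d12_1 D25357 F49837 F40908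
theorem F52037 : act 5 n25357 = n24561 := d18_2 F51920 D25357 F51922
def n25358 : Q := act 6 n21148
theorem D25358 : act 6 n21148 = n25358 := rfl
theorem F52038 : act 0 n25358 = n21153 := d5_1 D25358 (iv D21153) (iv F40859)
theorem F52039 : act 3 n25358 = n21149 := d17_1 D25358 (iv D21149) D21148
theorem F52040 : act 5 n25358 = n25305 := d22_2 F51920 D25358 (iv D25305) (iv F51919)
def n25359 : Q := act 1 n21149
theorem D25359 : act 1 n21149 = n25359 := rfl
theorem F52041 : act 2 n25359 = n23171 := d6_2 (iv F40862) D25359 (iv D23171) F40866 (iv D21150)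
def n25360 : Q := act 6 n21151
theorem D25360 : act 6 n21151 = n25360 := rfl
theorem F52042 : act 2 n25360 = n21153 := d14_1 D25360 (iv D21153) D21151
def n25361 : Q := act 6 n21152
theorem D25361 : act 6 n21152 = n25361 := rfl
theorem F52043 : act 4 n25361 = n21153 := d19_1 D25361 (iv D21153) D21152
def n25362 : Q := act 1 n21153
theorem D25362 : act 1 n21153 = n25362 := rfl
theorem F52044 : act 3 n25362 = n21154 := d7_2 (iv F40868) D25362 (iv D21154)
def n25363 : Q := act 5 n21153
theorem D25363 : act 5 n21153 = n25363 := rfl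
theorem F52045 : act 0 n25363 = n25305 := d4_1 D25363 (iv F52040) F52038
theorem F52046 : act 3 n25363 = n21155 := d16_1 D25363 (iv D21155) (iv F40868)
theorem F52047 : act 6 n25363 = n25302 := d20_2 D21153 D25363 F51920 D25358 F52040 (iv D25305) F40713
def n25364 : Q := act 0 n21154
theorem D25364 : act 0 n21154 = n25364 := rfl
def n25365 : Q := act 5 n21154
theorem D25365 : act 5 n21154 = n25365 := rfl
def n25366 : Q := act 1 n21155
theorem D25366 : act 1 n21155 = n25366 := rfl
theorem F52048 : act 2 n25366 = n25321 := d6_2 (iv F40870) D25366 F51961 F45898 (iv F38488)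
def n25367 : Q := act 4 n21158
theorem D25367 : act 4 n21158 = n25367 := rfl
theorem F52049 : act 0 n25367 = n21162 := d3_1 D25367 (iv D21162) (iv F40880)
theorem F52050 : act 1 n25367 = n24091 := d8_1 D25367 (iv D24091) (iv F40881)
theorem F52051 : act 2 n25367 = n24619 := d12_1 D25367 F49975 F40938
theorem F52052 : act 6 n25367 = n24616 := d19_2 F51947 D25367 F51949
def n25368 : Q := act 5 n21158
theorem D25368 : act 5 n21158 = n25368 := rfl
theorem F52053 : act 0 n25368 = n21163 := d4_1 D25368 (iv D21163) (iv F40880)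
theorem F52054 : act 3 n25368 = n21159 := d16_1 D25368 (iv D21159) D21158
theorem F52055 : act 6 n25368 = n25317 := d22_1 D25368 (iv D25317) F40730 (iv F40880)
def n25369 : Q := act 1 n21159
theorem D25369 : act 1 n21159 = n25369 := rfl
theorem F52056 : act 2 n25369 = n23187 := d6_2 (iv F40883) D25369 (iv D23187) F40887 (iv D21160)
def n25370 : Q := act 5 n21161
theorem D25370 : act 5 n21161 = n25370 := rfl
theorem F52057 : act 2 n25370 = n21163 := d13_1 D25370 (iv D21163) D21161
def n25371 : Q := act 5 n21162
theorem D25371 : act 5 n21162 = n25371 := rfl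
theorem F52058 : act 4 n25371 = n21163 := d18_1 D25371 (iv D21163) D21162
def n25372 : Q := act 1 n21163
theorem D25372 : act 1 n21163 = n25372 := rfl
theorem F52059 : act 3 n25372 = n21164 := d7_2 (iv F40889) D25372 (iv D21164)
def n25373 : Q := act 6 n21163
theorem D25373 : act 6 n21163 = n25373 := rfl
theorem F52060 : act 0 n25373 = n25317 := d5_1 D25373 (iv F52055) F52053
theorem F52061 : act 3 n25373 = n21165 := d17_1 D25373 (iv D21165) (iv F40889)
theorem F52062 : act 5 n25373 = n25314 := d20_1 D25373 F51947 D25368 F52055 (iv D25317) F40730 D21163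
def n25374 : Q := act 0 n21164
theorem D25374 : act 0 n21164 = n25374 := rfl
def n25375 : Q := act 6 n21164
theorem D25375 : act 6 n21164 = n25375 := rfl
def n25376 : Q := act 1 n21165
theorem D25376 : act 1 n21165 = n25376 := rfl
theorem F52063 : act 2 n25376 = n25309 := d6_2 (iv F40891) D25376 F51934 F45920 (iv F38441)
def n25377 : Q := act 6 n21167
theorem D25377 : act 6 n21167 = n25377 := rfl
theorem F52064 : act 0 n25377 = n21172 := d5_1 D25377 (iv D21172) (iv F40894)
theorem F52065 : act 2 n25377 = n21168 := d14_1 D25377 (iv D21168) D21167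
theorem F52066 : act 3 n25377 = n25360 := d17_1 D25377 (iv D25360) (iv F40897)
theorem F52067 : act 4 n25377 = n24968 := d19_1 D25377 (iv D24968) (iv F40896)
theorem F52068 : act 5 n25377 = n24975 := d22_2 F50799 D25377 (iv D24975) (iv F50797)
def n25378 : Q := act 1 n21168
theorem D25378 : act 1 n21168 = n25378 := rfl
theorem F52069 : act 3 n25378 = n21169 := d7_2 (iv F40899) D25378 (iv D21169)
theorem F52070 : act 5 n25378 = n21493 := d9_2 (iv F40900) D25378 (iv D21493) D21494 (iv F41604)
def n25379 : Q := act 2 n21169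
theorem D25379 : act 2 n21169 = n25379 := rfl
theorem F52071 : act 0 n25379 = n22519 := d1_1 D25379 F44104 F41632
theorem F52072 : act 1 n25379 = n21170 := d6_1 D25379 (iv D21170) (iv D16008) (iv F27674) D21169
theorem F52073 : act 4 n25379 = n21942 := d12_2 (iv F40901) D25379 (iv D21942)
theorem F52074 : act 5 n25379 = n21497 := d13_2 (iv F40902) D25379 (iv D21497)
def n25380 : Q := act 3 n21170
theorem D25380 : act 3 n21170 = n25380 := rfl
theorem F52075 : act 0 n25380 = n21590 := d2_1 D25380 F41808 (iv F40903)
theorem F52076 : act 2 n25380 = n23243 := d11_1 D25380 F46206 F33728 (iv F33632) (iv F41500) F41501 (iv F39620) (iv F41808) F41807 F33836 F35469 (iv F33641) F40866 F40864 D21170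
theorem F52077 : act 4 n25380 = n21583 := d15_2 (iv F40904) D25380 (iv D21583) F28256 (iv F39600)
theorem F52078 : act 5 n25380 = n21751 := d16_2 (iv F40905) D25380 F42159
def n25381 : Q := act 6 n21171
theorem D25381 : act 6 n21171 = n25381 := rfl
theorem F52079 : act 0 n25381 = n25360 := d5_1 D25381 (iv D25360) (iv F40906)
theorem F52080 : act 2 n25381 = n25358 := d14_1 D25381 (iv D25358) (iv F40908)
theorem F52081 : act 3 n25381 = n21172 := d17_1 D25381 (iv D21172) D21171
def n25382 : Q := act 1 n21172
theorem D25382 : act 1 n21172 = n25382 := rfl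
theorem F52082 : act 6 n25382 = n23453 := d10_2 D21172 D25382 (iv D23453) (iv D18985) (iv F38890)
def n25383 : Q := act 5 n21172
theorem D25383 : act 5 n21172 = n25383 := rfl
theorem F52083 : act 0 n25383 = n24975 := d4_1 D25383 (iv F52068) F52064
theorem F52084 : act 2 n25383 = n21175 := d13_1 D25383 (iv D21175) (iv F40909)
theorem F52085 : act 4 n25383 = n24973 := d18_1 D25383 F50803 F45707
theorem F52086 : act 6 n25383 = n24972 := d20_2 D21172 D25383 F50799 D25377 F52068 (iv D24975) F38915
def n25384 : Q := act 1 n21173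
theorem D25384 : act 1 n21173 = n25384 := rfl
theorem F52087 : act 3 n25384 = n21943 := d7_2 (iv F40910) D25384 (iv D21943)
theorem F52088 : act 4 n25384 = n21174 := d8_2 (iv F40911) D25384 (iv D21174)
theorem F52089 : act 6 n25384 = n25384 := d10_2 D21173 D25384 (iv D25384) (iv D21173) F27679
theorem F52090 : act 0 n21258 = n25384 := d3_3 F52088 (iv F40914) (iv F41113)
def n25385 : Q := act 5 n21173
theorem D25385 : act 5 n21173 = n25385 := rfl
theorem F52091 : act 0 n25385 = n24974 := d4_1 D25385 F50807 F45121
theorem F52092 : act 2 n25385 = n24973 := d13_1 D25385 F50803 F45705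
theorem F52093 : act 3 n25385 = n21944 := d16_1 D25385 (iv D21944) (iv F40910)
theorem F52094 : act 4 n25385 = n21175 := d18_1 D25385 (iv D21175) (iv F40911)
theorem F52095 : act 6 n25385 = n22840 := d20_2 D21173 D25385 (iv D22840) D22841 (iv F50807) (iv D24974) F38910
def n25386 : Q := act 2 n21174
theorem D25386 : act 2 n21174 = n25386 := rfl
theorem F52096 : act 0 n25386 = n21259 := d1_1 D25386 (iv D21259) F40914
theorem F52097 : act 6 n25386 = n25386 := d14_2 F40913 D25386 (iv D25386)
def n25387 : Q := act 5 n21174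
theorem D25387 : act 5 n21174 = n25387 := rfl
theorem F52098 : act 0 n25387 = n21260 := d4_1 D25387 (iv D21260) F40914
theorem F52099 : act 3 n25387 = n21176 := d16_1 D25387 (iv D21176) (iv F40912)
theorem F52100 : act 6 n25387 = n21260 := d22_1 D25387 (iv D21260) F27842 F40914
def n25388 : Q := act 1 n21175
theorem D25388 : act 1 n21175 = n25388 := rfl
theorem F52101 : act 3 n25388 = n21177 := d7_2 (iv F40916) D25388 (iv D21177)
theorem F52102 : act 6 n25388 = n21537 := d10_2 (iv F40917) D25388 (iv D21537) (iv F28516) (iv F40741)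
def n25389 : Q := act 5 n21179
theorem D25389 : act 5 n21179 = n25389 := rfl
theorem F52103 : act 0 n25389 = n21184 := d4_1 D25389 (iv D21184) (iv F40924)
theorem F52104 : act 2 n25389 = n21180 := d13_1 D25389 (iv D21180) D21179
theorem F52105 : act 3 n25389 = n25370 := d16_1 D25389 (iv D25370) (iv F40927)
theorem F52106 : act 4 n25389 = n24987 := d18_1 D25389 (iv D24987) (iv F40926)
theorem F52107 : act 6 n25389 = n24994 := d22_1 D25389 (iv D24994) F38994 (iv F40924)
def n25390 : Q := act 1 n21180
theorem D25390 : act 1 n21180 = n25390 := rfl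
theorem F52108 : act 3 n25390 = n21181 := d7_2 (iv F40929) D25390 (iv D21181)
theorem F52109 : act 6 n25390 = n21652 := d10_2 (iv F40930) D25390 (iv D21652) D21653 (iv F41943)
def n25391 : Q := act 2 n21181
theorem D25391 : act 2 n21181 = n25391 := rfl
theorem F52110 : act 0 n25391 = n22460 := d1_1 D25391 F43954 F41975
theorem F52111 : act 1 n25391 = n21182 := d6_1 D25391 (iv D21182) (iv D16021) (iv F27699) D21181
theorem F52112 : act 4 n25391 = n21951 := d12_2 (iv F40931) D25391 (iv D21951)
theorem F52113 : act 6 n25391 = n21656 := d14_2 (iv F40932) D25391 (iv D21656)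
def n25392 : Q := act 3 n21182
theorem D25392 : act 3 n21182 = n25392 := rfl
theorem F52114 : act 0 n25392 = n21749 := d2_1 D25392 F42152 (iv F40933)
theorem F52115 : act 2 n25392 = n23260 := d11_1 D25392 F46251 F33815 (iv F33656) (iv F41368) F41369 F39809 (iv F42152) F42151 F33753 F35458 (iv F33671) F40887 F40885 D21182
theorem F52116 : act 4 n25392 = n21742 := d15_2 (iv F40934) D25392 (iv D21742) F28460 (iv F39592)
theorem F52117 : act 6 n25392 = n21591 := d17_2 (iv F40935) D25392 F41810
def n25393 : Q := act 5 n21183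
theorem D25393 : act 5 n21183 = n25393 := rfl
theorem F52118 : act 0 n25393 = n25370 := d4_1 D25393 (iv D25370) (iv F40936)
theorem F52119 : act 2 n25393 = n25368 := d13_1 D25393 (iv D25368) (iv F40938)
theorem F52120 : act 3 n25393 = n21184 := d16_1 D25393 (iv D21184) D21183
def n25394 : Q := act 1 n21184
theorem D25394 : act 1 n21184 = n25394 := rfl
theorem F52121 : act 5 n25394 = n23477 := d9_2 D21184 D25394 (iv D23477) (iv D19000) (iv F38969)
def n25395 : Q := act 6 n21184
theorem D25395 : act 6 n21184 = n25395 := rfl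
theorem F52122 : act 0 n25395 = n24994 := d5_1 D25395 (iv F52107) F52103
theorem F52123 : act 2 n25395 = n21187 := d14_1 D25395 (iv D21187) (iv F40939)
theorem F52124 : act 4 n25395 = n24992 := d19_1 D25395 F50866 F45719
theorem F52125 : act 5 n25395 = n24991 := d20_1 D25395 F50862 D25389 F52107 (iv D24994) F38994 D21184
def n25396 : Q := act 1 n21185
theorem D25396 : act 1 n21185 = n25396 := rfl
theorem F52126 : act 3 n25396 = n21952 := d7_2 (iv F40940) D25396 (iv D21952)
theorem F52127 : act 4 n25396 = n21186 := d8_2 (iv F40941) D25396 (iv D21186)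
theorem F52128 : act 5 n25396 = n25396 := d9_2 D21185 D25396 (iv D25396) (iv D21185) F27704
theorem F52129 : act 0 n21297 = n25396 := d3_3 F52127 (iv F40944) (iv F41197)
def n25397 : Q := act 6 n21185
theorem D25397 : act 6 n21185 = n25397 := rfl
theorem F52130 : act 0 n25397 = n24993 := d5_1 D25397 F50870 F45133
theorem F52131 : act 2 n25397 = n24992 := d14_1 D25397 F50866 F45717
theorem F52132 : act 3 n25397 = n21953 := d17_1 D25397 (iv D21953) (iv F40940)
theorem F52133 : act 4 n25397 = n21187 := d19_1 D25397 (iv D21187) (iv F40941)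
theorem F52134 : act 5 n25397 = n22847 := d20_1 D25397 (iv D22847) D22846 (iv F50870) (iv D24993) F38989 D21185
def n25398 : Q := act 2 n21186
theorem D25398 : act 2 n21186 = n25398 := rfl
theorem F52135 : act 0 n25398 = n21298 := d1_1 D25398 (iv D21298) F40944
theorem F52136 : act 5 n25398 = n25398 := d13_2 F40943 D25398 (iv D25398)
def n25399 : Q := act 6 n21186
theorem D25399 : act 6 n21186 = n25399 := rfl
theorem F52137 : act 0 n25399 = n21299 := d5_1 D25399 (iv D21299) F40944
theorem F52138 : act 3 n25399 = n21188 := d17_1 D25399 (iv D21188) (iv F40942)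
theorem F52139 : act 5 n25399 = n21299 := d22_2 F40943 D25399 (iv D21299) F40944
def n25400 : Q := act 1 n21187
theorem D25400 : act 1 n21187 = n25400 := rfl
theorem F52140 : act 3 n25400 = n21189 := d7_2 (iv F40946) D25400 (iv D21189)
theorem F52141 : act 5 n25400 = n21696 := d9_2 (iv F40947) D25400 (iv D21696) (iv F28589) (iv F40757)
def n25401 : Q := act 1 n21190
theorem D25401 : act 1 n21190 = n25401 := rfl
theorem F52142 : act 3 n25401 = n21194 := d7_2 (iv F40953) D25401 (iv D21194)
theorem F52143 : act 4 n25401 = n25401 := d8_2 F40954 D25401 (iv D25401)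
theorem F52144 : act 6 n25401 = n25335 := d10_2 (iv F40955) D25401 (iv D25335) (iv D21125) D21124
def n25402 : Q := act 1 n21191
theorem D25402 : act 1 n21191 = n25402 := rfl
theorem F52145 : act 3 n25402 = n21199 := d7_2 (iv F40956) D25402 (iv D21199)
theorem F52146 : act 4 n25402 = n25402 := d8_2 F40957 D25402 (iv D25402)
theorem F52147 : act 5 n25402 = n25336 := d9_2 (iv F40958) D25402 (iv D25336) (iv D21127) D21126
def n25403 : Q := act 3 n21193
theorem D25403 : act 3 n21193 = n25403 := rfl
theorem F52148 : act 0 n25403 = n25337 := d2_1 D25403 (iv D25337) (iv F40965)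
theorem F52149 : act 1 n25403 = n23195 := d7_1 D25403 F49717 F49713
theorem F52150 : act 2 n25403 = n25345 := d11_1 D25403 (iv D25345) (iv D21138) (iv F40807) F40812 F40787 D21128 D25337 F51994 (iv D21140) (iv D15986) (iv F27641) D21133 F40814 D21193
theorem F52151 : act 5 n25403 = n25345 := d16_2 (iv F40966) D25403 (iv D25345)
theorem F52152 : act 6 n25403 = n21196 := d17_2 (iv F40967) D25403 (iv D21196)
def n25404 : Q := act 0 n21194
theorem D25404 : act 0 n21194 = n25404 := rfl
theorem F52153 : act 6 n25404 = n25338 := d5_2 (iv F40968) D25404 (iv D25338)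
theorem F52154 : act 5 n25404 = n21194 := d22_0 F40968 F40803 (iv F40968) D25404
theorem E10348 : n25353 = n25338 := (c24_15 (iv F52153) F52154 (iv D21194) (iv F35333) F27636 (iv D12063) (iv F17728) (iv D9974) D9973 F17725 D12093 D16045 F35337 D21143 D25353)
theorem F52155 : act 1 n25338 = n21143 := (sb E10348 (iv D25353))
theorem E10349 : n25347 = n25341 := (c0_5 F52155 F40846 (iv F35330) (iv F40840) D25347 (iv D25341) (iv D21131) F27639 D21129 D25338)
theorem F52156 : act 1 n25341 = n21139 := (sb E10349 (iv D25347))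
def n25405 : Q := act 2 n21194
theorem D25405 : act 2 n21194 = n25405 := rfl
theorem F52157 : act 6 n25405 = n25339 := d14_2 (iv F40968) D25405 (iv D25339)
def n25406 : Q := act 1 n21195
theorem D25406 : act 1 n21195 = n25406 := rfl
def n25407 : Q := act 3 n21195
theorem D25407 : act 3 n21195 = n25407 := rfl
theorem F52158 : act 0 n25407 = n21196 := d2_1 D25407 (iv D21196) (iv F40969)
theorem F52159 : act 6 n25407 = n25337 := d17_2 (iv F40970) D25407 (iv D25337)
theorem F52160 : act 2 n25407 = n25349 := d21_2 D21195 D25407 F52018 F40843 (iv F40819) F40818 F27720 D16037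
def n25408 : Q := act 2 n21196
theorem D25408 : act 2 n21196 = n25408 := rfl
theorem F52161 : act 0 n25408 = n25349 := d1_1 D25408 (iv F52160) F52158
theorem F52162 : act 3 n25408 = n25346 := d11_2 D21196 D25408 F52014 (iv F52003) F52002 F40953 D21195 D25407 F52160 F52018 F40843 (iv F40819) F40818 F27720 D16038
theorem F52163 : act 5 n25408 = n25407 := d13_2 (iv F52019) D25408 F52160
theorem F52164 : act 6 n25408 = n25345 := d14_2 F52152 D25408 (iv F52150)
def n25409 : Q := act 4 n21196
theorem D25409 : act 4 n21196 = n25409 := rfl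
theorem F52165 : act 1 n25409 = n21221 := d8_1 D25409 (iv D21221) (iv F40971)
def n25410 : Q := act 3 n21198
theorem D25410 : act 3 n21198 = n25410 := rfl
theorem F52166 : act 0 n25410 = n25340 := d2_1 D25410 (iv D25340) (iv F40985)
theorem F52167 : act 1 n25410 = n23271 := d7_1 D25410 F49769 F49765
theorem F52168 : act 2 n25410 = n25351 := d11_1 D25410 (iv D25351) (iv D21142) (iv F40823) F40838 F40794 D21130 D25340 F51998 (iv D21144) (iv D15989) (iv F27643) D21136 (iv F40835) D21198
theorem F52169 : act 5 n25410 = n21201 := d16_2 (iv F40986) D25410 (iv D21201)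
theorem F52170 : act 6 n25410 = n25351 := d17_2 (iv F40987) D25410 (iv D25351)
def n25411 : Q := act 0 n21199
theorem D25411 : act 0 n21199 = n25411 := rfl
theorem F52171 : act 1 n25411 = n25404 := d0_2 D21199 D25411 (iv D25404) (iv D21194) (iv D16037) (iv D12090) (iv F17726) D12094 D16046
theorem F52172 : act 5 n25411 = n25341 := d4_2 (iv F40988) D25411 (iv D25341)
theorem F52173 : act 6 n25411 = n21199 := d22_3 F52172 F51999 (iv F52172) D25411
def n25412 : Q := act 2 n21199
theorem D25412 : act 2 n21199 = n25412 := rfl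
theorem F52174 : act 5 n25412 = n25342 := d13_2 (iv F40988) D25412 (iv D25342)
def n25413 : Q := act 1 n21200
theorem D25413 : act 1 n21200 = n25413 := rfl
def n25414 : Q := act 3 n21200
theorem D25414 : act 3 n21200 = n25414 := rfl
theorem F52175 : act 0 n25414 = n21201 := d2_1 D25414 (iv D21201) (iv F40989)
theorem F52176 : act 5 n25414 = n25340 := d16_2 (iv F40990) D25414 (iv D25340)
theorem F52177 : act 2 n25414 = n25355 := d21_2 D21200 D25414 F52029 F40849 (iv F40828) (iv F40831) F27729 D16046
def n25415 : Q := act 2 n21201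
theorem D25415 : act 2 n21201 = n25415 := rfl
theorem F52178 : act 0 n25415 = n25355 := d1_1 D25415 (iv F52177) F52175
theorem F52179 : act 3 n25415 = n25352 := d11_2 D21201 D25415 F52025 (iv F52008) F52007 F40956 D21200 D25414 F52177 F52029 F40849 (iv F40828) (iv F40831) F27729 D16047
theorem F52180 : act 5 n25415 = n25351 := d13_2 F52169 D25415 (iv F52168)
theorem F52181 : act 6 n25415 = n25414 := d14_2 (iv F52030) D25415 F52177
def n25416 : Q := act 4 n21201
theorem D25416 : act 4 n21201 = n25416 := rfl
theorem F52182 : act 1 n25416 = n21245 := d8_1 D25416 (iv D21245) (iv F40991)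
def n25417 : Q := act 6 n21202
theorem D25417 : act 6 n21202 = n25417 := rfl
theorem F52183 : act 2 n25417 = n21204 := d14_1 D25417 (iv D21204) (iv F40992)
theorem F52184 : act 3 n25417 = n23976 := d17_1 D25417 (iv D23976) (iv F40993)
theorem F52185 : act 5 n25417 = n24022 := d22_2 D21202 D25417 (iv D24022) F37089
def n25418 : Q := act 1 n21203
theorem D25418 : act 1 n21203 = n25418 := rfl
theorem F52186 : act 3 n25418 = n24051 := d7_2 (iv F40995) D25418 (iv D24051)
theorem F52187 : act 6 n25418 = n24721 := d10_2 D21203 D25418 (iv D24721) (iv D20317) F27751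
def n25419 : Q := act 5 n21203
theorem D25419 : act 5 n21203 = n25419 := rfl
theorem F52188 : act 0 n25419 = n25417 := d4_1 D25419 F52185 F48406
theorem F52189 : act 2 n25419 = n21205 := d13_1 D25419 (iv D21205) (iv F40994)
theorem F52190 : act 3 n25419 = n24052 := d16_1 D25419 (iv D24052) (iv F40995)
theorem F52191 : act 6 n25419 = n23968 := d20_2 D21203 D25419 F48260 D24022 (iv F52185) (iv D25417) (iv D21202)
def n25420 : Q := act 1 n21206
theorem D25420 : act 1 n21206 = n25420 := rfl
theorem F52192 : act 3 n25420 = n21532 := d7_2 (iv F41002) D25420 (iv D21532)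
def n25421 : Q := act 1 n21208
theorem D25421 : act 1 n21208 = n25421 := rfl
theorem F52193 : act 3 n25421 = n21335 := d7_2 (iv F41008) D25421 (iv D21335)
theorem F52194 : act 4 n25421 = n24675 := d8_2 (iv F41009) D25421 (iv D24675)
theorem F52195 : act 6 n25421 = n21336 := d10_2 (iv F41010) D25421 (iv D21336) (iv D16162) (iv F27970)
def n25422 : Q := act 2 n21208
theorem D25422 : act 2 n21208 = n25422 := rfl
theorem F52196 : act 0 n25422 = n21209 := d1_1 D25422 (iv D21209) D21208
theorem F52197 : act 4 n25422 = n24572 := d12_2 (iv F41009) D25422 F49855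
theorem F52198 : act 5 n25422 = n24670 := d13_2 (iv F41011) D25422 F50103
theorem F52199 : act 6 n25422 = n21333 := d14_2 (iv F41010) D25422 (iv D21333)
def n25423 : Q := act 3 n21209
theorem D25423 : act 3 n21209 = n25423 := rfl
theorem F52200 : act 1 n25423 = n21213 := d7_1 D25423 (iv D21213) (iv F41012)
theorem F52201 : act 6 n25423 = n23195 := d17_2 (iv F49716) D25423 F49717
theorem F52202 : act 2 n25423 = n23198 := d21_2 D21209 D25423 F46100 F33687 (iv F33626) F33625 (iv F41008) (iv D21208)
def n25424 : Q := act 2 n21211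
theorem D25424 : act 2 n21211 = n25424 := rfl
def n25425 : Q := act 6 n21211
theorem D25425 : act 6 n21211 = n25425 := rfl
theorem F52203 : act 0 n25425 = n21435 := d5_1 D25425 (iv F49609) F49605
theorem F52204 : act 1 n25425 = n21216 := d10_1 D25425 (iv D21216) (iv D16059) (iv F27764) D21211
theorem F52205 : act 3 n25425 = n21264 := d17_1 D25425 (iv D21264) (iv F41016)
theorem F52206 : act 4 n25425 = n25323 := d19_1 D25425 F51968 F49725
theorem F52207 : act 5 n25425 = n21433 := d20_1 D25425 (iv F41462) (iv F49608) F49609 (iv D21435) D21436 (iv F41470)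
def n25426 : Q := act 1 n21212
theorem D25426 : act 1 n21212 = n25426 := rfl
def n25427 : Q := act 3 n21212
theorem D25427 : act 3 n21212 = n25427 := rfl
theorem F52208 : act 0 n25427 = n21213 := d2_1 D25427 (iv D21213) (iv F41017)
theorem F52209 : act 6 n25427 = n21218 := d17_2 (iv F41018) D25427 (iv D21218)
def n25428 : Q := act 2 n21213
theorem D25428 : act 2 n21213 = n25428 := rfl
theorem F52210 : act 6 n25428 = n21220 := d14_2 (iv F41019) D25428 (iv D21220)
def n25429 : Q := act 4 n21213
theorem D25429 : act 4 n21213 = n25429 := rfl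
theorem F52211 : act 6 n25429 = n21221 := d19_2 (iv F41019) D25429 (iv D21221)
def n25430 : Q := act 5 n21213
theorem D25430 : act 5 n21213 = n25430 := rfl
theorem F52212 : act 3 n25430 = n21214 := d16_1 D25430 (iv D21214) D21213
def n25431 : Q := act 1 n21214
theorem D25431 : act 1 n21214 = n25431 := rfl
def n25432 : Q := act 1 n21215
theorem D25432 : act 1 n21215 = n25432 := rfl
theorem F52213 : act 2 n25432 = n21217 := d6_2 D21215 D25432 (iv D21217) (iv D16060) D16059
theorem F52214 : act 3 n25432 = n24132 := d7_2 (iv F41021) D25432 (iv D24132)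
def n25433 : Q := act 6 n21215
theorem D25433 : act 6 n21215 = n25433 := rfl
theorem F52215 : act 0 n25433 = n24681 := d5_1 D25433 F50131 F48455
theorem F52216 : act 2 n25433 = n21216 := d14_1 D25433 (iv D21216) D21215
theorem F52217 : act 3 n25433 = n24134 := d17_1 D25433 (iv D24134) (iv F41021)
theorem F52218 : act 5 n24684 = n25433 := d22_0 (iv D25433) F50144 (iv D24686) (iv F50137)
def n25434 : Q := act 0 n21217
theorem D25434 : act 0 n21217 = n25434 := rfl
def n25435 : Q := act 3 n21217
theorem D25435 : act 3 n21217 = n25435 := rfl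
theorem F52219 : act 1 n25435 = n21218 := d7_1 D25435 (iv D21218) D21217
def n25436 : Q := act 5 n21217
theorem D25436 : act 5 n21217 = n25436 := rfl
def n25437 : Q := act 6 n21217
theorem D25437 : act 6 n21217 = n25437 := rfl
def n25438 : Q := act 4 n21218
theorem D25438 : act 4 n21218 = n25438 := rfl
theorem F52220 : act 0 n25438 = n21221 := d3_1 D25438 (iv D21221) (iv F41025)
def n25439 : Q := act 5 n21218
theorem D25439 : act 5 n21218 = n25439 := rfl
theorem F52221 : act 0 n25439 = n21222 := d4_1 D25439 (iv D21222) (iv F41025)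
theorem F52222 : act 3 n25439 = n21219 := d16_1 D25439 (iv D21219) D21218
theorem F52223 : act 6 n25439 = n25430 := d22_1 D25439 (iv D25430) F41019 (iv F41025)
def n25440 : Q := act 1 n21219
theorem D25440 : act 1 n21219 = n25440 := rfl
def n25441 : Q := act 1 n21220
theorem D25441 : act 1 n21220 = n25441 := rfl
def n25442 : Q := act 4 n21220
theorem D25442 : act 4 n21220 = n25442 := rfl
theorem F52224 : act 2 n25442 = n21221 := d12_1 D25442 (iv D21221) D21220
def n25443 : Q := act 5 n21220
theorem D25443 : act 5 n21220 = n25443 := rfl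
theorem F52225 : act 2 n25443 = n21222 := d13_1 D25443 (iv D21222) D21220
def n25444 : Q := act 5 n21221
theorem D25444 : act 5 n21221 = n25444 := rfl
theorem F52226 : act 4 n25444 = n21222 := d18_1 D25444 (iv D21222) D21221
def n25445 : Q := act 1 n21222
theorem D25445 : act 1 n21222 = n25445 := rfl
theorem F52227 : act 3 n25445 = n21223 := d7_2 (iv F41029) D25445 (iv D21223)
def n25446 : Q := act 6 n21222
theorem D25446 : act 6 n21222 = n25446 := rfl
theorem F52228 : act 0 n25446 = n25430 := d5_1 D25446 (iv F52223) F52221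
theorem F52229 : act 3 n25446 = n21224 := d17_1 D25446 (iv D21224) (iv F41029)
theorem F52230 : act 5 n25446 = n25427 := d20_1 D25446 F52209 D25439 F52223 (iv D25430) F41019 D21222
def n25447 : Q := act 0 n21223
theorem D25447 : act 0 n21223 = n25447 := rfl
theorem F52231 : act 2 n25447 = n25374 := d1_2 (iv F41030) D25447 (iv D25374)
theorem F52232 : act 6 n25365 = n25447 := d22_3 (iv F52020) F52021 D25365 (iv D25447)
def n25448 : Q := act 6 n21223
theorem D25448 : act 6 n21223 = n25448 := rfl
theorem F52233 : act 0 n25448 = n25365 := d5_1 D25448 F52232 (iv D25447)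
theorem F52234 : act 2 n25448 = n25375 := d14_1 D25448 (iv D25375) (iv F41030)
theorem F52235 : act 5 n25364 = n25448 := d22_0 (iv D25448) (iv F52020) F52021 D25364
def n25449 : Q := act 1 n21224
theorem D25449 : act 1 n21224 = n25449 := rfl
def n25450 : Q := act 2 n21225
theorem D25450 : act 2 n21225 = n25450 := rfl
theorem F52236 : act 0 n25450 = n24679 := d1_1 D25450 F50123 F41036
theorem F52237 : act 6 n25450 = n23123 := d14_2 (iv F41035) D25450 F45920
theorem F52238 : act 3 n25450 = n23124 := d21_1 D25450 F45922 F33560 (iv F33615) F39743 F38569 (iv F38444) F41036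
def n25451 : Q := act 1 n21226
theorem D25451 : act 1 n21226 = n25451 := rfl
theorem F52239 : act 3 n25451 = n24102 := d7_2 (iv F41038) D25451 (iv D24102)
theorem F52240 : act 5 n25451 = n24770 := d9_2 D21226 D25451 (iv D24770) (iv D20351) (iv F34692)
def n25452 : Q := act 6 n21226
theorem D25452 : act 6 n21226 = n25452 := rfl
theorem F52241 : act 2 n25452 = n21228 := d14_1 D25452 (iv D21228) (iv F41037)
theorem F52242 : act 3 n25452 = n24103 := d17_1 D25452 (iv D24103) (iv F41038)
theorem F52243 : act 5 n25452 = n23969 := d22_2 D21226 D25452 F48262 F37131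
def n25453 : Q := act 5 n21227
theorem D25453 : act 5 n21227 = n25453 := rfl
theorem F52244 : act 0 n25453 = n25452 := d4_1 D25453 F52243 F48261
theorem F52245 : act 2 n25453 = n21229 := d13_1 D25453 (iv D21229) (iv F41039)
theorem F52246 : act 3 n25453 = n24001 := d16_1 D25453 (iv D24001) (iv F41040)
theorem F52247 : act 6 n25453 = n24030 := d20_2 D21227 D25453 (iv D24030) (iv F48262) (iv F52243) (iv D25452) (iv D21226)
def n25454 : Q := act 1 n21230
theorem D25454 : act 1 n21230 = n25454 := rfl
theorem F52248 : act 3 n25454 = n21691 := d7_2 (iv F41047) D25454 (iv D21691)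
def n25455 : Q := act 1 n21232
theorem D25455 : act 1 n21232 = n25455 := rfl
theorem F52249 : act 3 n25455 = n21408 := d7_2 (iv F41053) D25455 (iv D21408)
theorem F52250 : act 4 n25455 = n24697 := d8_2 (iv F41054) D25455 (iv D24697)
theorem F52251 : act 5 n25455 = n21410 := d9_2 (iv F41055) D25455 (iv D21410) (iv D16207) (iv F28029)
def n25456 : Q := act 2 n21232
theorem D25456 : act 2 n21232 = n25456 := rfl
theorem F52252 : act 0 n25456 = n21233 := d1_1 D25456 (iv D21233) D21232
theorem F52253 : act 4 n25456 = n24627 := d12_2 (iv F41054) D25456 F49991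
theorem F52254 : act 5 n25456 = n21407 := d13_2 (iv F41055) D25456 (iv D21407)
theorem F52255 : act 6 n25456 = n24692 := d14_2 F41056 D25456 F50157
def n25457 : Q := act 3 n21233
theorem D25457 : act 3 n21233 = n25457 := rfl
theorem F52256 : act 1 n25457 = n21237 := d7_1 D25457 (iv D21237) (iv F41057)
theorem F52257 : act 5 n25457 = n23271 := d16_2 (iv F49768) D25457 F49769
theorem F52258 : act 2 n25457 = n23273 := d21_2 D21233 D25457 F46284 F33772 (iv F33646) F33645 (iv F41053) (iv D21232)
def n25458 : Q := act 2 n21235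
theorem D25458 : act 2 n21235 = n25458 := rfl
def n25459 : Q := act 5 n21235
theorem D25459 : act 5 n21235 = n25459 := rfl
theorem F52259 : act 0 n25459 = n21367 := d4_1 D25459 (iv F49597) F49594
theorem F52260 : act 1 n25459 = n21240 := d9_1 D25459 (iv D21240) (iv D16078) (iv F27786) D21235
theorem F52261 : act 3 n25459 = n21303 := d16_1 D25459 (iv D21303) (iv F41061)
theorem F52262 : act 4 n25459 = n25311 := d18_1 D25459 F51941 F49777
theorem F52263 : act 6 n25459 = n21364 := d20_2 (iv F41340) D25459 (iv F41336) (iv F49598) F49597 (iv D21367) D21366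
def n25460 : Q := act 1 n21236
theorem D25460 : act 1 n21236 = n25460 := rfl
def n25461 : Q := act 3 n21236
theorem D25461 : act 3 n21236 = n25461 := rfl
theorem F52264 : act 0 n25461 = n21237 := d2_1 D25461 (iv D21237) (iv F41062)
theorem F52265 : act 5 n25461 = n21242 := d16_2 (iv F41063) D25461 (iv D21242)
def n25462 : Q := act 2 n21237
theorem D25462 : act 2 n21237 = n25462 := rfl
theorem F52266 : act 5 n25462 = n21244 := d13_2 (iv F41064) D25462 (iv D21244)
def n25463 : Q := act 4 n21237
theorem D25463 : act 4 n21237 = n25463 := rfl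
theorem F52267 : act 5 n25463 = n21245 := d18_2 (iv F41064) D25463 (iv D21245)
def n25464 : Q := act 6 n21237
theorem D25464 : act 6 n21237 = n25464 := rfl
theorem F52268 : act 3 n25464 = n21238 := d17_1 D25464 (iv D21238) D21237
def n25465 : Q := act 1 n21238
theorem D25465 : act 1 n21238 = n25465 := rfl
def n25466 : Q := act 1 n21239
theorem D25466 : act 1 n21239 = n25466 := rfl
theorem F52269 : act 2 n25466 = n21241 := d6_2 D21239 D25466 (iv D21241) (iv D16079) D16078
theorem F52270 : act 3 n25466 = n24081 := d7_2 (iv F41066) D25466 (iv D24081)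
def n25467 : Q := act 5 n21239
theorem D25467 : act 5 n21239 = n25467 := rfl
theorem F52271 : act 0 n25467 = n24659 := d4_1 D25467 F50076 F48426
theorem F52272 : act 2 n25467 = n21240 := d13_1 D25467 (iv D21240) D21239
theorem F52273 : act 3 n25467 = n24083 := d16_1 D25467 (iv D24083) (iv F41066)
theorem F52274 : act 6 n25467 = n24662 := d22_3 D24664 F50090 D25467 F50083
def n25468 : Q := act 0 n21241
theorem D25468 : act 0 n21241 = n25468 := rfl
def n25469 : Q := act 3 n21241
theorem D25469 : act 3 n21241 = n25469 := rfl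
theorem F52275 : act 1 n25469 = n21242 := d7_1 D25469 (iv D21242) D21241
def n25470 : Q := act 5 n21241
theorem D25470 : act 5 n21241 = n25470 := rfl
def n25471 : Q := act 6 n21241
theorem D25471 : act 6 n21241 = n25471 := rfl
def n25472 : Q := act 4 n21242
theorem D25472 : act 4 n21242 = n25472 := rfl
theorem F52276 : act 0 n25472 = n21245 := d3_1 D25472 (iv D21245) (iv F41070)
def n25473 : Q := act 6 n21242
theorem D25473 : act 6 n21242 = n25473 := rfl
theorem F52277 : act 0 n25473 = n21246 := d5_1 D25473 (iv D21246) (iv F41070)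
theorem F52278 : act 3 n25473 = n21243 := d17_1 D25473 (iv D21243) D21242
theorem F52279 : act 5 n25473 = n25464 := d22_2 F52265 D25473 (iv D25464) (iv F52264)
def n25474 : Q := act 1 n21243
theorem D25474 : act 1 n21243 = n25474 := rfl
def n25475 : Q := act 1 n21244
theorem D25475 : act 1 n21244 = n25475 := rfl
def n25476 : Q := act 4 n21244
theorem D25476 : act 4 n21244 = n25476 := rfl
theorem F52280 : act 2 n25476 = n21245 := d12_1 D25476 (iv D21245) D21244
def n25477 : Q := act 6 n21244
theorem D25477 : act 6 n21244 = n25477 := rfl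
theorem F52281 : act 2 n25477 = n21246 := d14_1 D25477 (iv D21246) D21244
def n25478 : Q := act 6 n21245
theorem D25478 : act 6 n21245 = n25478 := rfl
theorem F52282 : act 4 n25478 = n21246 := d19_1 D25478 (iv D21246) D21245
def n25479 : Q := act 1 n21246
theorem D25479 : act 1 n21246 = n25479 := rfl
theorem F52283 : act 3 n25479 = n21247 := d7_2 (iv F41074) D25479 (iv D21247)
def n25480 : Q := act 5 n21246
theorem D25480 : act 5 n21246 = n25480 := rfl
theorem F52284 : act 0 n25480 = n25464 := d4_1 D25480 (iv F52279) F52277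
theorem F52285 : act 3 n25480 = n21248 := d16_1 D25480 (iv D21248) (iv F41074)
theorem F52286 : act 6 n25480 = n25461 := d20_2 D21246 D25480 F52265 D25473 F52279 (iv D25464) F41064
def n25481 : Q := act 0 n21247
theorem D25481 : act 0 n21247 = n25481 := rfl
theorem F52287 : act 2 n25481 = n25364 := d1_2 (iv F41075) D25481 (iv D25364)
theorem F52288 : act 5 n25481 = n25375 := d22_0 (iv D25375) (iv F52032) F52033 D25481
def n25482 : Q := act 5 n21247
theorem D25482 : act 5 n21247 = n25482 := rfl
theorem F52289 : act 0 n25482 = n25375 := d4_1 D25482 (iv F52288) (iv D25481)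
theorem F52290 : act 2 n25482 = n25365 := d13_1 D25482 (iv D25365) (iv F41075)
theorem F52291 : act 6 n25482 = n25374 := d22_3 (iv F52032) F52033 D25482 (iv D25374)
def n25483 : Q := act 1 n21248
theorem D25483 : act 1 n21248 = n25483 := rfl
def n25484 : Q := act 2 n21249
theorem D25484 : act 2 n21249 = n25484 := rfl
theorem F52292 : act 0 n25484 = n24701 := d1_1 D25484 F50177 F41081
theorem F52293 : act 5 n25484 = n23111 := d13_2 (iv F41080) D25484 F45898
theorem F52294 : act 3 n25484 = n23112 := d21_1 D25484 F45900 F33554 (iv F33587) F39787 F38650 (iv F38491) F41081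
def n25485 : Q := act 1 n21254
theorem D25485 : act 1 n21254 = n25485 := rfl
theorem F52295 : act 2 n25485 = n23023 := d6_2 (iv F41099) D25485 (iv D23023) (iv F37261) F37265
theorem F52296 : act 4 n25485 = n21962 := d8_2 (iv F41100) D25485 (iv D21962)
theorem F52297 : act 5 n25485 = n21544 := d9_2 (iv F41101) D25485 F41705 D21798 F42266
theorem F52298 : act 6 n25485 = n21495 := d10_2 D21254 D25485 (iv D21495) (iv D16266) (iv F27807)
def n25486 : Q := act 1 n21256
theorem D25486 : act 1 n21256 = n25486 := rfl
theorem F52299 : act 3 n25486 = n21257 := d7_2 (iv F41107) D25486 (iv D21257)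
theorem F52300 : act 4 n25486 = n23157 := d8_2 (iv F41108) D25486 (iv D23157)
theorem F52301 : act 6 n25486 = n22784 := d10_2 D21256 D25486 (iv D22784) (iv D18209) F27820
def n25487 : Q := act 2 n21257
theorem D25487 : act 2 n21257 = n25487 := rfl
theorem F52302 : act 1 n25487 = n21259 := d6_1 D25487 (iv D21259) (iv D16096) (iv F27836) D21257
theorem F52303 : act 4 n25487 = n22817 := d12_2 (iv F41110) D25487 (iv D22817)
theorem F52304 : act 6 n25487 = n22791 := d14_2 (iv F41111) D25487 (iv D22791)
def n25488 : Q := act 2 n21258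
theorem D25488 : act 2 n21258 = n25488 := rfl
theorem F52305 : act 1 n25488 = n22817 := d6_1 D25488 (iv D22817) (iv D18265) (iv F27838) D21258
theorem F52306 : act 4 n25488 = n21259 := d12_2 (iv F41113) D25488 (iv D21259)
theorem F52307 : act 6 n25488 = n25488 := d14_2 F41114 D25488 (iv D25488)
theorem F52308 : act 3 n23680 = n25488 := d7_0 F52305 (iv F45008) D23680
def n25489 : Q := act 5 n21258
theorem D25489 : act 5 n21258 = n25489 := rfl
theorem F52309 : act 3 n25489 = n21965 := d16_1 D25489 (iv D21965) (iv F41112)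
theorem F52310 : act 4 n25489 = n21260 := d18_1 D25489 (iv D21260) (iv F41113)
def n25490 : Q := act 3 n21259
theorem D25490 : act 3 n21259 = n25490 := rfl
theorem F52311 : act 6 n25490 = n25490 := d17_2 F41115 D25490 (iv D25490)
def n25491 : Q := act 5 n21259
theorem D25491 : act 5 n21259 = n25491 := rfl
theorem F52312 : act 2 n25491 = n21260 := d13_1 D25491 (iv D21260) D21259
def n25492 : Q := act 2 n21261
theorem D25492 : act 2 n21261 = n25492 := rfl
theorem F52313 : act 6 n25492 = n25492 := d14_2 F41118 D25492 (iv D25492)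
def n25493 : Q := act 4 n21261
theorem D25493 : act 4 n21261 = n25493 := rfl
theorem F52314 : act 1 n25493 = n21268 := d8_1 D25493 (iv D21268) (iv F41117)
theorem F52315 : act 3 n25493 = n21969 := d15_1 D25493 (iv D21969) (iv D16672) (iv F27846) D21261
theorem F52316 : act 6 n25493 = n25493 := d19_2 F41118 D25493 (iv D25493)
def n25494 : Q := act 5 n21261
theorem D25494 : act 5 n21261 = n25494 := rfl
theorem F52317 : act 3 n25494 = n21262 := d16_1 D25494 (iv D21262) D21261
def n25495 : Q := act 1 n21262
theorem D25495 : act 1 n21262 = n25495 := rfl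
theorem F52318 : act 2 n25495 = n22525 := d6_2 (iv F41119) D25495 F44117 F41630 F28167
theorem F52319 : act 4 n25495 = n21971 := d8_2 (iv F41120) D25495 (iv D21971)
theorem F52320 : act 5 n25495 = n21270 := d9_2 D21262 D25495 (iv D21270) (iv D16103) (iv F27845)
theorem F52321 : act 6 n22522 = n25495 := d19_0 F52319 (iv F42684) D22522
def n25496 : Q := act 3 n21263
theorem D25496 : act 3 n21263 = n25496 := rfl
def n25497 : Q := act 3 n21265
theorem D25497 : act 3 n21265 = n25497 := rfl
theorem F52322 : act 1 n25497 = n21266 := d7_1 D25497 (iv D21266) D21265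
def n25498 : Q := act 5 n21265
theorem D25498 : act 5 n21265 = n25498 := rfl
theorem F52323 : act 4 n25498 = n21973 := d18_1 D25498 (iv D21973) (iv F41126)
theorem F52324 : act 6 n25498 = n21270 := d22_1 D25498 (iv F52320) (iv F52321) F44110
def n25499 : Q := act 6 n21265
theorem D25499 : act 6 n21265 = n25499 := rfl
theorem F52325 : act 0 n25499 = n25495 := d5_1 D25499 (iv F52321) F44110
theorem F52326 : act 1 n25499 = n21274 := d10_1 D25499 (iv D21274) (iv D16107) (iv F27852) D21265
theorem F52327 : act 2 n25499 = n24065 := d14_1 D25499 (iv F48519) F44108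
theorem F52328 : act 4 n25499 = n21974 := d19_1 D25499 (iv D21974) (iv F41126)
def n25500 : Q := act 2 n21266
theorem D25500 : act 2 n21266 = n25500 := rfl
theorem F52329 : act 0 n25500 = n21267 := d1_1 D25500 (iv D21267) (iv F41127)
theorem F52330 : act 6 n25500 = n21275 := d14_2 (iv F41128) D25500 (iv D21275)
theorem F52331 : act 3 n25500 = n25428 := d21_1 D25500 (iv D25428) (iv D21213) (iv D16057) F21358 D12120 D16102 (iv F41127)
def n25501 : Q := act 4 n21266
theorem D25501 : act 4 n21266 = n25501 := rfl
theorem F52332 : act 0 n25501 = n21268 := d3_1 D25501 (iv D21268) (iv F41127)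
theorem F52333 : act 3 n25501 = n21976 := d15_1 D25501 (iv D21976) (iv D16677) (iv F27851) D21266
theorem F52334 : act 6 n25501 = n21276 := d19_2 (iv F41128) D25501 (iv D21276)
def n25502 : Q := act 1 n21267
theorem D25502 : act 1 n21267 = n25502 := rfl
def n25503 : Q := act 3 n21267
theorem D25503 : act 3 n21267 = n25503 := rfl
theorem F52335 : act 0 n25503 = n25428 := d2_1 D25503 (iv F52331) F52329
theorem F52336 : act 2 n25503 = n25427 := d11_1 D25503 (iv D25427) (iv D21212) F27763 D16101 D21266 D25500 F52331 (iv D25428) (iv D21213) (iv D16057) F21358 D12120 D16102 D21267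
theorem F52337 : act 6 n25503 = n21280 := d17_2 (iv F41129) D25503 (iv D21280)
def n25504 : Q := act 4 n21267
theorem D25504 : act 4 n21267 = n25504 := rfl
theorem F52338 : act 2 n25504 = n21268 := d12_1 D25504 (iv D21268) D21267
theorem F52339 : act 6 n25504 = n21281 := d19_2 (iv F41129) D25504 (iv D21281)
def n25505 : Q := act 5 n21267
theorem D25505 : act 5 n21267 = n25505 := rfl
theorem F52340 : act 2 n25505 = n21269 := d13_1 D25505 (iv D21269) D21267
def n25506 : Q := act 5 n21268
theorem D25506 : act 5 n21268 = n25506 := rfl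
theorem F52341 : act 3 n25506 = n21978 := d16_1 D25506 (iv D21978) (iv F41130)
theorem F52342 : act 4 n25506 = n21269 := d18_1 D25506 (iv D21269) D21268
def n25507 : Q := act 1 n21269
theorem D25507 : act 1 n21269 = n25507 := rfl
theorem F52343 : act 3 n25507 = n21270 := d7_2 (iv F41132) D25507 (iv D21270)
def n25508 : Q := act 0 n21270
theorem D25508 : act 0 n21270 = n25508 := rfl
theorem F52344 : act 4 n25508 = n21980 := d3_2 (iv F41133) D25508 (iv D21980)
theorem F52345 : act 5 n25508 = n25499 := d4_2 F52320 D25508 F52325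
def n25509 : Q := act 1 n21271
theorem D25509 : act 1 n21271 = n25509 := rfl
theorem F52346 : act 0 n25509 = n25509 := d0_1 D25509 (iv D25509) (iv D21271) (iv D16107) F21392 F17750 (iv F21392) D16107 D21271
theorem F52347 : act 4 n25509 = n21981 := d8_2 (iv F41134) D25509 (iv D21981)
theorem F52348 : act 3 n25509 = n23480 := d25_21 (iv F17931) D12329 D16516 F28652 (iv D16466) (iv F28551) (iv D16463) F21694 D12306 D16472 F28566 D20400 D24843 F50486 (iv D20433) D20432 F38767 F37312 (iv F48445) F48444 D25509 (iv D23480) (iv D19008) F24274 (iv D13801) F19374 F32904 (iv D5387) F4090 D2815 F15696 (iv F32753) F3169 (iv F6119) (iv F32759) (iv D2425) F17309 (iv D2388) F1971 (iv F1299) (iv D720) F32756 F1294 F699 (iv F721) D740 F32902 F1343 F32860 (iv F1343) (iv D740) F722 F32858 F721 (iv F699) (iv F1294) D1440 (iv F32699) F1299 (iv F1971) D2388 (iv F32721) (iv F32760) F32759 F6119 (iv F3169) F3168 F32806 (iv D2815) (iv F4090) D5387 D10089 (iv F32941) (iv F19416) F32906 F17947 (iv D10089)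
def n25510 : Q := act 3 n21271
theorem D25510 : act 3 n21271 = n25510 := rfl
theorem F52349 : act 0 n25510 = n21272 := d2_1 D25510 (iv D21272) D21271
theorem F52350 : act 1 n25510 = n23480 := d7_1 D25510 (iv F52348) (iv D25509)
theorem F52351 : act 2 n25510 = n23481 := d21_2 F48444 D25510 F46756 (iv F48677) (iv D24121) (iv D19789) (iv F37153) D24033
def n25511 : Q := act 6 n21271
theorem D25511 : act 6 n21271 = n25511 := rfl
theorem F52352 : act 0 n25511 = n21274 := d5_1 D25511 (iv D21274) D21271
theorem F52353 : act 2 n25511 = n23699 := d14_1 D25511 (iv F48447) F48444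
theorem F52354 : act 4 n25511 = n21983 := d19_1 D25511 (iv D21983) (iv F41134)
theorem F52355 : act 5 n25511 = n24066 := d20_1 D25511 F48522 (iv D21273) D21274 (iv F41139) D24068 (iv F48527)
theorem F52356 : act 1 n24119 = n25511 := d8_3 F52354 (iv F42709) (iv F48647)
def n25512 : Q := act 2 n21272
theorem D25512 : act 2 n21272 = n25512 := rfl
theorem F52357 : act 0 n25512 = n23481 := d1_1 D25512 (iv F52351) F52349
theorem F52358 : act 3 n25512 = n24890 := d11_2 D21272 D25512 (iv D24890) F38767 F37312 (iv F48445) F48444 D25510 F52351 F46756 (iv F48677) (iv D24121) (iv D19789) (iv F37153) F37152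
def n25513 : Q := act 4 n21272
theorem D25513 : act 4 n21272 = n25513 := rfl
theorem F52359 : act 1 n25513 = n21276 := d8_1 D25513 (iv D21276) (iv F41135)
theorem F52360 : act 3 n25513 = n21984 := d15_1 D25513 (iv D21984) (iv D16686) (iv F27862) D21272
def n25514 : Q := act 5 n21272
theorem D25514 : act 5 n21272 = n25514 := rfl
theorem F52361 : act 3 n25514 = n21273 := d16_1 D25514 (iv D21273) D21272
def n25515 : Q := act 6 n21272
theorem D25515 : act 6 n21272 = n25515 := rfl
theorem F52362 : act 3 n25515 = n21274 := d17_1 D25515 (iv D21274) D21272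
theorem F52363 : act 5 n24067 = n25515 := d16_0 F52362 (iv F41139) D24067
def n25516 : Q := act 1 n21273
theorem D25516 : act 1 n21273 = n25516 := rfl
theorem F52364 : act 4 n25516 = n21986 := d8_2 (iv F41136) D25516 (iv D21986)
theorem F52365 : act 5 n25516 = n21278 := d9_2 D21273 D25516 (iv D21278) (iv D16109) D16107
def n25517 : Q := act 1 n21275
theorem D25517 : act 1 n21275 = n25517 := rfl
theorem F52366 : act 3 n25517 = n25441 := d7_2 (iv F41141) D25517 (iv D25441)
def n25518 : Q := act 4 n21275
theorem D25518 : act 4 n21275 = n25518 := rfl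
theorem F52367 : act 0 n25518 = n21281 := d3_1 D25518 (iv D21281) (iv F41140)
theorem F52368 : act 2 n25518 = n21276 := d12_1 D25518 (iv D21276) D21275
theorem F52369 : act 3 n22949 = n25518 := d21_1 D22949 F52368 F41143 (iv F39844) F32287 D18434 D22947 F45411
def n25519 : Q := act 5 n21275
theorem D25519 : act 5 n21275 = n25519 := rfl
theorem F52370 : act 0 n25519 = n21282 := d4_1 D25519 (iv D21282) (iv F41140)
theorem F52371 : act 2 n25519 = n21277 := d13_1 D25519 (iv D21277) D21275
theorem F52372 : act 3 n25519 = n25443 := d16_1 D25519 (iv D25443) (iv F41141)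
theorem F52373 : act 6 n25519 = n25505 := d22_1 D25519 (iv D25505) F41129 (iv F41140)
def n25520 : Q := act 5 n21276
theorem D25520 : act 5 n21276 = n25520 := rfl
theorem F52374 : act 0 n25520 = n21283 := d4_1 D25520 (iv D21283) (iv F41142)
theorem F52375 : act 3 n25520 = n21988 := d16_1 D25520 (iv D21988) (iv F41143)
theorem F52376 : act 4 n25520 = n21277 := d18_1 D25520 (iv D21277) D21276
theorem F52377 : act 6 n25520 = n25506 := d22_1 D25520 (iv D25506) F41131 (iv F41142)
def n25521 : Q := act 1 n21277
theorem D25521 : act 1 n21277 = n25521 := rfl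
theorem F52378 : act 3 n25521 = n21278 := d7_2 (iv F41145) D25521 (iv D21278)
def n25522 : Q := act 0 n21278
theorem D25522 : act 0 n21278 = n25522 := rfl
theorem F52379 : act 1 n25522 = n22463 := d0_2 D21278 D25522 F43960 (iv D21304) F27929 (iv F27924) (iv F35217) (iv D16113) (iv F27864)
theorem F52380 : act 2 n25522 = n22467 := d1_2 F50058 D25522 (iv F50057)
theorem F52381 : act 4 n25522 = n21990 := d3_2 (iv F41147) D25522 (iv D21990)
def n25523 : Q := act 6 n21278
theorem D25523 : act 6 n21278 = n25523 := rfl
theorem F52382 : act 1 n25523 = n25498 := d10_1 D25523 F52324 (iv D21270) (iv F27867) D21278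
theorem F52383 : act 4 n25523 = n21991 := d19_1 D25523 (iv D21991) (iv F41147)
theorem F52384 : act 5 n25523 = n21287 := d24_1 D25523 (iv D21287) (iv D16114) (iv D12126) F17750 (iv F21389) D16103 D21270 (iv F52324) (iv D25498) (iv D21265) F27852 D16109 D21278
def n25525 : Q := act 3 n21279
theorem D25525 : act 3 n21279 = n25525 := rfl
theorem F52386 : act 1 n25525 = n21280 := d7_1 D25525 (iv D21280) D21279
def n25526 : Q := act 4 n21279
theorem D25526 : act 4 n21279 = n25526 := rfl
theorem F52387 : act 1 n25526 = n21281 := d8_1 D25526 (iv D21281) D21279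
def n25529 : Q := act 4 n21280
theorem D25529 : act 4 n21280 = n25529 := rfl
theorem F52391 : act 0 n25529 = n25442 := d3_1 D25529 (iv D25442) (iv F41149)
theorem F52392 : act 2 n25529 = n25438 := d12_1 D25529 (iv D25438) (iv F41150)
def n25530 : Q := act 5 n21280
theorem D25530 : act 5 n21280 = n25530 := rfl
theorem F52393 : act 0 n25530 = n25443 := d4_1 D25530 (iv D25443) (iv F41149)
theorem F52394 : act 2 n25530 = n25439 := d13_1 D25530 (iv D25439) (iv F41150)
theorem F52395 : act 3 n25530 = n21282 := d16_1 D25530 (iv D21282) D21280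
def n25531 : Q := act 3 n21281
theorem D25531 : act 3 n21281 = n25531 := rfl
theorem F52396 : act 0 n25531 = n22949 := d2_1 D25531 F52369 F52367
theorem F52397 : act 2 n25531 = n22947 := d11_1 D25531 (iv D22947) (iv D18434) (iv F32287) F39844 (iv F41143) (iv F52368) (iv F52369) (iv D22949) (iv D18436) (iv D13450) (iv F23620) (iv F39544) (iv F27869) (iv F41151)
def n25532 : Q := act 5 n21281
theorem D25532 : act 5 n21281 = n25532 := rfl
theorem F52398 : act 2 n25532 = n21283 := d13_1 D25532 (iv D21283) (iv F41151)
theorem F52399 : act 4 n25532 = n21282 := d18_1 D25532 (iv D21282) D21281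
def n25533 : Q := act 1 n21282
theorem D25533 : act 1 n21282 = n25533 := rfl
def n25534 : Q := act 6 n21282
theorem D25534 : act 6 n21282 = n25534 := rfl
theorem F52400 : act 0 n25534 = n25505 := d5_1 D25534 (iv F52373) F52370
theorem F52401 : act 2 n25534 = n21285 := d14_1 D25534 (iv D21285) (iv F41152)
theorem F52402 : act 5 n25534 = n25500 := d20_1 D25534 F52330 D25519 F52373 (iv D25505) F41129 D21282
def n25535 : Q := act 1 n21283
theorem D25535 : act 1 n21283 = n25535 := rfl
theorem F52403 : act 3 n25535 = n21993 := d7_2 (iv F41153) D25535 (iv D21993)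
theorem F52404 : act 4 n25535 = n21284 := d8_2 (iv F41154) D25535 (iv D21284)
theorem F52405 : act 5 n25535 = n25535 := d9_2 D21283 D25535 (iv D25535) (iv D21283) F27868
def n25536 : Q := act 6 n21283
theorem D25536 : act 6 n21283 = n25536 := rfl
theorem F52406 : act 0 n25536 = n25506 := d5_1 D25536 (iv F52377) F52374
theorem F52407 : act 3 n25536 = n21994 := d17_1 D25536 (iv D21994) (iv F41153)
theorem F52408 : act 4 n25536 = n21285 := d19_1 D25536 (iv D21285) (iv F41154)
theorem F52409 : act 5 n25536 = n25501 := d20_1 D25536 F52334 D25520 F52377 (iv D25506) F41131 D21283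
def n25537 : Q := act 2 n21284
theorem D25537 : act 2 n21284 = n25537 := rfl
theorem F52410 : act 5 n25537 = n25537 := d13_2 F41156 D25537 (iv D25537)
def n25538 : Q := act 6 n21284
theorem D25538 : act 6 n21284 = n25538 := rfl
theorem F52411 : act 3 n25538 = n21286 := d17_1 D25538 (iv D21286) (iv F41155)
def n25539 : Q := act 1 n21285
theorem D25539 : act 1 n21285 = n25539 := rfl
theorem F52412 : act 3 n25539 = n21287 := d7_2 (iv F41158) D25539 (iv D21287)
def n25540 : Q := act 1 n21286
theorem D25540 : act 1 n21286 = n25540 := rfl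
theorem F52413 : act 4 n25540 = n21998 := d8_2 (iv F41161) D25540 (iv D21998)
theorem F52414 : act 6 n25540 = n21287 := d10_2 D21286 D25540 (iv D21287) (iv D16114) D16113
theorem F52415 : act 5 n25522 = n25540 := d22_0 F52414 (iv F52384) (iv D25523) D25522
theorem F52416 : act 0 n25540 = n25516 := d22_4 F52365 D25523 F52384 (iv F52414)
def n25541 : Q := act 0 n21287
theorem D25541 : act 0 n21287 = n25541 := rfl
theorem F52417 : act 4 n25541 = n21999 := d3_2 (iv F41162) D25541 (iv D21999)
theorem F52418 : act 6 n25541 = n25516 := d5_2 F52414 D25541 (iv F52416)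
def n25542 : Q := act 2 n21287
theorem D25542 : act 2 n21287 = n25542 := rfl
theorem F52419 : act 1 n25542 = n21288 := d6_1 D25542 (iv D21288) (iv D16115) (iv F27875) D21287
theorem F52420 : act 4 n25542 = n22000 := d12_2 (iv F41162) D25542 (iv D22000)
def n25543 : Q := act 1 n21294
theorem D25543 : act 1 n21294 = n25543 := rfl
theorem F52421 : act 2 n25543 = n22998 := d6_2 (iv F41186) D25543 (iv D22998) (iv F37170) (iv F37174)
theorem F52422 : act 4 n25543 = n22007 := d8_2 (iv F41187) D25543 (iv D22007)
theorem F52423 : act 5 n25543 = n21657 := d9_2 D21294 D25543 (iv D21657) (iv D16371) (iv F27903)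
theorem F52424 : act 6 n25543 = n21702 := d10_2 (iv F41188) D25543 F42048 D21850 (iv F42385)
def n25544 : Q := act 1 n21295
theorem D25544 : act 1 n21295 = n25544 := rfl
theorem F52425 : act 3 n25544 = n21296 := d7_2 (iv F41191) D25544 (iv D21296)
theorem F52426 : act 4 n25544 = n23173 := d8_2 (iv F41192) D25544 (iv D23173)
theorem F52427 : act 5 n25544 = n22787 := d9_2 D21295 D25544 (iv D22787) (iv D18213) (iv F34654)
def n25545 : Q := act 2 n21296
theorem D25545 : act 2 n21296 = n25545 := rfl
theorem F52428 : act 1 n25545 = n21298 := d6_1 D25545 (iv D21298) (iv D16136) (iv F27917) D21296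
theorem F52429 : act 4 n25545 = n22824 := d12_2 (iv F41194) D25545 (iv D22824)
theorem F52430 : act 5 n25545 = n22797 := d13_2 (iv F41195) D25545 (iv D22797)
def n25546 : Q := act 2 n21297
theorem D25546 : act 2 n21297 = n25546 := rfl
theorem F52431 : act 1 n25546 = n22824 := d6_1 D25546 (iv D22824) (iv D18279) (iv F34650) D21297
theorem F52432 : act 4 n25546 = n21298 := d12_2 (iv F41197) D25546 (iv D21298)
theorem F52433 : act 5 n25546 = n25546 := d13_2 F41198 D25546 (iv D25546)
theorem F52434 : act 3 n23733 = n25546 := d7_0 F52431 (iv F45046) D23733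
def n25547 : Q := act 6 n21297
theorem D25547 : act 6 n21297 = n25547 := rfl
theorem F52435 : act 3 n25547 = n22009 := d17_1 D25547 (iv D22009) (iv F41196)
theorem F52436 : act 4 n25547 = n21299 := d19_1 D25547 (iv D21299) (iv F41197)
def n25548 : Q := act 3 n21298
theorem D25548 : act 3 n21298 = n25548 := rfl
theorem F52437 : act 5 n25548 = n25548 := d16_2 F41199 D25548 (iv D25548)
def n25549 : Q := act 6 n21298
theorem D25549 : act 6 n21298 = n25549 := rfl
theorem F52438 : act 2 n25549 = n21299 := d14_1 D25549 (iv D21299) D21298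
def n25550 : Q := act 2 n21300
theorem D25550 : act 2 n21300 = n25550 := rfl
theorem F52439 : act 0 n25550 = n25537 := d1_1 D25550 (iv D25537) (iv F41201)
theorem F52440 : act 5 n25550 = n25550 := d13_2 F41203 D25550 (iv D25550)
def n25551 : Q := act 4 n21300
theorem D25551 : act 4 n21300 = n25551 := rfl
theorem F52441 : act 0 n25551 = n25535 := d3_1 D25551 F52404 (iv F41201)
theorem F52442 : act 1 n25551 = n21307 := d8_1 D25551 (iv D21307) (iv F41202)
theorem F52443 : act 3 n25551 = n22013 := d15_1 D25551 (iv D22013) (iv D16747) (iv F27925) D21300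
theorem F52444 : act 5 n25551 = n25551 := d18_2 F41203 D25551 (iv D25551)
def n25552 : Q := act 6 n21300
theorem D25552 : act 6 n21300 = n25552 := rfl
theorem F52445 : act 0 n25552 = n25538 := d5_1 D25552 (iv D25538) (iv F41201)
theorem F52446 : act 3 n25552 = n21301 := d17_1 D25552 (iv D21301) D21300
theorem F52447 : act 5 n25552 = n25538 := d22_2 F41203 D25552 (iv D25538) (iv F41201)
def n25553 : Q := act 1 n21301
theorem D25553 : act 1 n21301 = n25553 := rfl
theorem F52448 : act 2 n25553 = n22465 := d6_2 (iv F41205) D25553 F43978 F41973 F28379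
theorem F52449 : act 4 n25553 = n22015 := d8_2 (iv F41206) D25553 (iv D22015)
theorem F52450 : act 5 n25553 = n22463 := d9_2 (iv F41207) D25553 (iv F52379) F52415 (iv D25540)
theorem F52451 : act 6 n25553 = n21309 := d10_2 D21301 D25553 (iv D21309) (iv D16143) (iv F27924)
def n25554 : Q := act 3 n21302
theorem D25554 : act 3 n21302 = n25554 := rfl
def n25555 : Q := act 3 n21304
theorem D25555 : act 3 n21304 = n25555 := rfl
theorem F52452 : act 1 n25555 = n21305 := d7_1 D25555 (iv D21305) D21304
def n25556 : Q := act 5 n21304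
theorem D25556 : act 5 n21304 = n25556 := rfl
theorem F52453 : act 0 n25556 = n25553 := d4_1 D25556 F52450 F43960
theorem F52454 : act 1 n25556 = n21312 := d9_1 D25556 (iv D21312) (iv D16147) (iv F27931) D21304
theorem F52455 : act 2 n25556 = n24116 := d13_1 D25556 (iv F48640) F43958
theorem F52456 : act 4 n25556 = n22017 := d18_1 D25556 (iv D22017) (iv F41213)
def n25557 : Q := act 6 n21304
theorem D25557 : act 6 n21304 = n25557 := rfl
theorem F52457 : act 4 n25557 = n22018 := d19_1 D25557 (iv D22018) (iv F41213)
theorem F52458 : act 5 n25557 = n21309 := d22_2 (iv D25556) D25557 (iv F52451) (iv F52453)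
def n25558 : Q := act 2 n21305
theorem D25558 : act 2 n21305 = n25558 := rfl
theorem F52459 : act 0 n25558 = n21306 := d1_1 D25558 (iv D21306) (iv F41214)
theorem F52460 : act 5 n25558 = n21314 := d13_2 (iv F41215) D25558 (iv D21314)
theorem F52461 : act 3 n25558 = n25462 := d21_1 D25558 (iv D25462) (iv D21237) (iv D16076) F21368 D12139 D16142 (iv F41214)
def n25559 : Q := act 4 n21305
theorem D25559 : act 4 n21305 = n25559 := rfl
theorem F52462 : act 0 n25559 = n21307 := d3_1 D25559 (iv D21307) (iv F41214)
theorem F52463 : act 3 n25559 = n22020 := d15_1 D25559 (iv D22020) (iv D16752) (iv F27930) D21305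
theorem F52464 : act 5 n25559 = n21315 := d18_2 (iv F41215) D25559 (iv D21315)
def n25560 : Q := act 1 n21306
theorem D25560 : act 1 n21306 = n25560 := rfl
def n25561 : Q := act 3 n21306
theorem D25561 : act 3 n21306 = n25561 := rfl
theorem F52465 : act 0 n25561 = n25462 := d2_1 D25561 (iv F52461) F52459
theorem F52466 : act 2 n25561 = n25461 := d11_1 D25561 (iv D25461) (iv D21236) F27785 D16141 D21305 D25558 F52461 (iv D25462) (iv D21237) (iv D16076) F21368 D12139 D16142 D21306
theorem F52467 : act 5 n25561 = n21319 := d16_2 (iv F41216) D25561 (iv D21319)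
def n25562 : Q := act 4 n21306
theorem D25562 : act 4 n21306 = n25562 := rfl
theorem F52468 : act 2 n25562 = n21307 := d12_1 D25562 (iv D21307) D21306
theorem F52469 : act 5 n25562 = n21320 := d18_2 (iv F41216) D25562 (iv D21320)
def n25563 : Q := act 6 n21306
theorem D25563 : act 6 n21306 = n25563 := rfl
theorem F52470 : act 2 n25563 = n21308 := d14_1 D25563 (iv D21308) D21306
def n25564 : Q := act 6 n21307
theorem D25564 : act 6 n21307 = n25564 := rfl
theorem F52471 : act 3 n25564 = n22022 := d17_1 D25564 (iv D22022) (iv F41217)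
theorem F52472 : act 4 n25564 = n21308 := d19_1 D25564 (iv D21308) D21307
def n25565 : Q := act 1 n21308
theorem D25565 : act 1 n21308 = n25565 := rfl
theorem F52473 : act 3 n25565 = n21309 := d7_2 (iv F41219) D25565 (iv D21309)
def n25566 : Q := act 0 n21309
theorem D25566 : act 0 n21309 = n25566 := rfl
theorem F52474 : act 4 n25566 = n22024 := d3_2 (iv F41220) D25566 (iv D22024)
theorem F52475 : act 6 n25566 = n25556 := d5_2 F52451 D25566 F52453
def n25567 : Q := act 1 n21310
theorem D25567 : act 1 n21310 = n25567 := rfl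
theorem F52476 : act 0 n25567 = n25567 := d0_1 D25567 (iv D25567) (iv D21310) (iv D16147) F21424 F17765 (iv F21424) D16147 D21310
theorem F52477 : act 2 n25567 = n25509 := d6_2 F48415 D25567 (iv D25509) (iv F48444) F48443
theorem F52478 : act 4 n25567 = n22025 := d8_2 (iv F41221) D25567 (iv D22025)
theorem F52479 : act 6 n25567 = n25509 := d10_2 F48648 D25567 (iv D25509) D25511 (iv F52356)
theorem F52480 : act 5 n25567 = n25509 := d23_4 (iv F48418) F48415 D25567 F52476 (iv F52477) (iv D25567) (iv D21310) D21312 F41223 (iv D19784) (iv F25387) (iv D14539) (iv F25385) F25384 (iv F37324) F37327 F37300 D19784 F47208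
theorem F52481 : act 3 n25567 = n23456 := d25_21 (iv F17936) D12333 D16522 F28670 (iv D16499) (iv F28614) (iv D16496) F21728 D12322 D16505 F28629 D20435 (iv F50481) (iv D24841) (iv D20398) D20397 F38704 F37224 (iv F48416) F48415 D25567 (iv D23456) (iv D18988) (iv F24274) (iv D13815) F19390 F32862 (iv D5469) F4145 D2870 (iv F15614) (iv F32698) F3148 (iv F6169) F32802 (iv D2391) (iv F3762) (iv F17308) F1988 (iv F1290) (iv D713) F32694 F1285 F691 (iv F706) D724 F32860 (iv F1343) F32902 F1343 (iv D724) F707 F32799 F706 (iv F691) (iv F1285) D1426 (iv F32672) F1290 (iv F1988) F17308 (iv F32724) (iv F32755) (iv F32802) F6169 (iv F3148) F3147 (iv F32717) (iv D2870) (iv F4145) D5469 D10093 (iv F32906) F19416 F32941 (iv F17947) (iv D10093)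
def n25568 : Q := act 3 n21310
theorem D25568 : act 3 n21310 = n25568 := rfl
theorem F52482 : act 0 n25568 = n21311 := d2_1 D25568 (iv D21311) D21310
theorem F52483 : act 1 n25568 = n23456 := d7_1 D25568 (iv F52481) (iv D25567)
theorem F52484 : act 2 n25568 = n23457 := d21_2 F48415 D25568 F46705 (iv F48556) (iv D24070) (iv D19751) (iv F37111) D24025
def n25569 : Q := act 5 n21310
theorem D25569 : act 5 n21310 = n25569 := rfl
theorem F52485 : act 0 n25569 = n21312 := d4_1 D25569 (iv D21312) D21310
theorem F52486 : act 1 n25569 = n24068 := d9_1 D25569 (iv F48527) D25509 (iv F52480) (iv D25567)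
theorem F52487 : act 2 n25569 = n23647 := d13_1 D25569 (iv F48418) F48415
theorem F52488 : act 4 n25569 = n22027 := d18_1 D25569 (iv D22027) (iv F41221)
theorem F52489 : act 6 n25569 = n24117 := d20_2 F48648 D25569 F48643 (iv D21313) D21312 (iv F41225) D24119
def n25570 : Q := act 2 n21311
theorem D25570 : act 2 n21311 = n25570 := rfl
theorem F52490 : act 0 n25570 = n23457 := d1_1 D25570 (iv F52484) F52482
theorem F52491 : act 3 n25570 = n24837 := d11_2 D21311 D25570 (iv D24837) F38704 F37224 (iv F48416) F48415 D25568 F52484 F46705 (iv F48556) (iv D24070) (iv D19751) (iv F37111) F37110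
def n25571 : Q := act 4 n21311
theorem D25571 : act 4 n21311 = n25571 := rfl
theorem F52492 : act 1 n25571 = n21315 := d8_1 D25571 (iv D21315) (iv F41222)
theorem F52493 : act 3 n25571 = n22028 := d15_1 D25571 (iv D22028) (iv D16762) (iv F27942) D21311
def n25572 : Q := act 5 n21311
theorem D25572 : act 5 n21311 = n25572 := rfl
theorem F52494 : act 3 n25572 = n21312 := d16_1 D25572 (iv D21312) D21311
theorem F52495 : act 6 n24118 = n25572 := d17_0 F52494 (iv F41225) D24118
def n25573 : Q := act 6 n21311
theorem D25573 : act 6 n21311 = n25573 := rfl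
theorem F52496 : act 3 n25573 = n21313 := d17_1 D25573 (iv D21313) D21311
def n25574 : Q := act 1 n21313
theorem D25574 : act 1 n21313 = n25574 := rfl
theorem F52497 : act 4 n25574 = n22030 := d8_2 (iv F41226) D25574 (iv D22030)
theorem F52498 : act 6 n25574 = n21317 := d10_2 D21313 D25574 (iv D21317) (iv D16149) D16147
def n25575 : Q := act 1 n21314
theorem D25575 : act 1 n21314 = n25575 := rfl
theorem F52499 : act 3 n25575 = n25475 := d7_2 (iv F41228) D25575 (iv D25475)
def n25576 : Q := act 4 n21314
theorem D25576 : act 4 n21314 = n25576 := rfl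
theorem F52500 : act 0 n25576 = n21320 := d3_1 D25576 (iv D21320) (iv F41227)
theorem F52501 : act 2 n25576 = n21315 := d12_1 D25576 (iv D21315) D21314
theorem F52502 : act 3 n22920 = n25576 := d21_1 D22920 F52501 F41230 (iv F39677) F32264 D18413 D22918 F45341
def n25577 : Q := act 6 n21314
theorem D25577 : act 6 n21314 = n25577 := rfl
theorem F52503 : act 0 n25577 = n21321 := d5_1 D25577 (iv D21321) (iv F41227)
theorem F52504 : act 2 n25577 = n21316 := d14_1 D25577 (iv D21316) D21314
theorem F52505 : act 3 n25577 = n25477 := d17_1 D25577 (iv D25477) (iv F41228)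
theorem F52506 : act 5 n25577 = n25563 := d22_2 F52460 D25577 (iv D25563) (iv F52459)
def n25578 : Q := act 6 n21315
theorem D25578 : act 6 n21315 = n25578 := rfl
theorem F52507 : act 0 n25578 = n21322 := d5_1 D25578 (iv D21322) (iv F41229)
theorem F52508 : act 3 n25578 = n22032 := d17_1 D25578 (iv D22032) (iv F41230)
theorem F52509 : act 4 n25578 = n21316 := d19_1 D25578 (iv D21316) D21315
theorem F52510 : act 5 n25578 = n25564 := d22_2 F52464 D25578 (iv D25564) (iv F52462)
def n25579 : Q := act 1 n21316
theorem D25579 : act 1 n21316 = n25579 := rfl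
theorem F52511 : act 3 n25579 = n21317 := d7_2 (iv F41232) D25579 (iv D21317)
def n25580 : Q := act 0 n21317
theorem D25580 : act 0 n21317 = n25580 := rfl
theorem F52512 : act 1 n25580 = n22522 := d0_2 D21317 D25580 F44110 (iv D21265) F27850 (iv F27845) F29374 (iv D16153) (iv F27944)
theorem F52513 : act 2 n25580 = n22526 := d1_2 F49922 D25580 (iv F49921)
theorem F52514 : act 4 n25580 = n22034 := d3_2 (iv F41234) D25580 (iv D22034)
def n25581 : Q := act 5 n21317
theorem D25581 : act 5 n21317 = n25581 := rfl
theorem F52515 : act 1 n25581 = n25557 := d9_1 D25581 F52458 (iv D21309) (iv F27947) D21317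
theorem F52516 : act 4 n25581 = n22035 := d18_1 D25581 (iv D22035) (iv F41234)
theorem F52517 : act 6 n21326 = n25581 := d24_0 (iv D25581) (iv D21317) (iv D16149) (iv F27931) D21304 D25557 F52458 (iv D21309) (iv D16143) F21421 F17765 D12145 D16154 D21326
def n25583 : Q := act 3 n21318
theorem D25583 : act 3 n21318 = n25583 := rfl
theorem F52519 : act 1 n25583 = n21319 := d7_1 D25583 (iv D21319) D21318
def n25584 : Q := act 4 n21318
theorem D25584 : act 4 n21318 = n25584 := rfl
theorem F52520 : act 1 n25584 = n21320 := d8_1 D25584 (iv D21320) D21318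
def n25587 : Q := act 4 n21319
theorem D25587 : act 4 n21319 = n25587 := rfl
theorem F52524 : act 0 n25587 = n25476 := d3_1 D25587 (iv D25476) (iv F41236)
theorem F52525 : act 2 n25587 = n25472 := d12_1 D25587 (iv D25472) (iv F41237)
def n25588 : Q := act 6 n21319
theorem D25588 : act 6 n21319 = n25588 := rfl
theorem F52526 : act 0 n25588 = n25477 := d5_1 D25588 (iv D25477) (iv F41236)
theorem F52527 : act 2 n25588 = n25473 := d14_1 D25588 (iv D25473) (iv F41237)
theorem F52528 : act 3 n25588 = n21321 := d17_1 D25588 (iv D21321) D21319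
def n25589 : Q := act 3 n21320
theorem D25589 : act 3 n21320 = n25589 := rfl
theorem F52529 : act 0 n25589 = n22920 := d2_1 D25589 F52502 F52500
theorem F52530 : act 2 n25589 = n22918 := d11_1 D25589 (iv D22918) (iv D18413) (iv F32264) F39677 (iv F41230) (iv F52501) (iv F52502) (iv D22920) (iv D18415) (iv D13440) (iv F23615) (iv F39668) (iv F27949) (iv F41238)
def n25590 : Q := act 6 n21320
theorem D25590 : act 6 n21320 = n25590 := rfl
theorem F52531 : act 2 n25590 = n21322 := d14_1 D25590 (iv D21322) (iv F41238)
theorem F52532 : act 4 n25590 = n21321 := d19_1 D25590 (iv D21321) D21320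
def n25591 : Q := act 1 n21321
theorem D25591 : act 1 n21321 = n25591 := rfl
def n25592 : Q := act 5 n21321
theorem D25592 : act 5 n21321 = n25592 := rfl
theorem F52533 : act 0 n25592 = n25563 := d4_1 D25592 (iv F52506) F52503
theorem F52534 : act 2 n25592 = n21324 := d13_1 D25592 (iv D21324) (iv F41239)
theorem F52535 : act 6 n25592 = n25558 := d20_2 D21321 D25592 F52460 D25577 F52506 (iv D25563) F41216
def n25593 : Q := act 1 n21322
theorem D25593 : act 1 n21322 = n25593 := rfl
theorem F52536 : act 3 n25593 = n22037 := d7_2 (iv F41240) D25593 (iv D22037)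
theorem F52537 : act 4 n25593 = n21323 := d8_2 (iv F41241) D25593 (iv D21323)
theorem F52538 : act 6 n25593 = n25593 := d10_2 D21322 D25593 (iv D25593) (iv D21322) F27948
theorem F52539 : act 0 n25493 = n25593 := d3_3 F52537 (iv F41244) D25493
def n25594 : Q := act 5 n21322
theorem D25594 : act 5 n21322 = n25594 := rfl
theorem F52540 : act 0 n25594 = n25564 := d4_1 D25594 (iv F52510) F52507
theorem F52541 : act 3 n25594 = n22038 := d16_1 D25594 (iv D22038) (iv F41240)
theorem F52542 : act 4 n25594 = n21324 := d18_1 D25594 (iv D21324) (iv F41241)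
theorem F52543 : act 6 n25594 = n25559 := d20_2 D21322 D25594 F52464 D25578 F52510 (iv D25564) F41218
def n25595 : Q := act 2 n21323
theorem D25595 : act 2 n21323 = n25595 := rfl
theorem F52544 : act 0 n25595 = n25492 := d1_1 D25595 (iv D25492) F41244
theorem F52545 : act 6 n25595 = n25595 := d14_2 F41243 D25595 (iv D25595)
def n25596 : Q := act 5 n21323
theorem D25596 : act 5 n21323 = n25596 := rfl
theorem F52546 : act 0 n25596 = n25494 := d4_1 D25596 (iv D25494) F41244
theorem F52547 : act 3 n25596 = n21325 := d16_1 D25596 (iv D21325) (iv F41242)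
theorem F52548 : act 6 n25596 = n25494 := d22_1 D25596 (iv D25494) F41118 F41244
def n25597 : Q := act 1 n21324
theorem D25597 : act 1 n21324 = n25597 := rfl
theorem F52549 : act 3 n25597 = n21326 := d7_2 (iv F41246) D25597 (iv D21326)
def n25598 : Q := act 1 n21325
theorem D25598 : act 1 n21325 = n25598 := rfl
theorem F52550 : act 0 n25598 = n25574 := d0_1 D25598 (iv D25574) (iv F48645) F52356 F52352 (iv F52326) F52325 (iv D25495) (iv F41248)
theorem F52551 : act 4 n25598 = n22042 := d8_2 (iv F41250) D25598 (iv D22042)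
theorem F52552 : act 5 n25598 = n21326 := d9_2 D21325 D25598 (iv D21326) (iv D16154) D16153
theorem F52553 : act 6 n25598 = n25580 := d10_2 (iv F41251) D25598 F52512 F52321 (iv D25495)
def n25599 : Q := act 0 n21326
theorem D25599 : act 0 n21326 = n25599 := rfl
theorem F52554 : act 4 n25599 = n22043 := d3_2 (iv F41252) D25599 (iv D22043)
theorem F52555 : act 5 n25599 = n25574 := d4_2 F52552 D25599 (iv F52550)
def n25600 : Q := act 2 n21326
theorem D25600 : act 2 n21326 = n25600 := rfl
theorem F52556 : act 1 n25600 = n21327 := d6_1 D25600 (iv D21327) (iv D16155) (iv F27955) D21326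
theorem F52557 : act 4 n25600 = n22044 := d12_2 (iv F41252) D25600 (iv D22044)
def n25601 : Q := act 2 n21328
theorem D25601 : act 2 n21328 = n25601 := rfl
theorem F52558 : act 0 n25601 = n24530 := d1_1 D25601 F49751 F41259
theorem F52559 : act 1 n25601 = n23165 := d6_1 D25601 (iv D23165) (iv D18790) (iv F27961) D21328
theorem F52560 : act 4 n25601 = n24030 := d12_2 (iv F41257) D25601 F48435
theorem F52561 : act 5 n25601 = n24029 := d13_2 (iv F41258) D25601 F48433
def n25602 : Q := act 2 n21329
theorem D25602 : act 2 n21329 = n25602 := rfl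
theorem F52562 : act 0 n25602 = n21330 := d1_1 D25602 (iv D21330) D21329
theorem F52563 : act 4 n25602 = n25467 := d12_2 (iv F41261) D25602 F52272
theorem F52564 : act 5 n25602 = n24540 := d13_2 (iv F41263) D25602 (iv D24540)
theorem F52565 : act 6 n25602 = n21341 := d14_2 (iv F41262) D25602 (iv D21341)
def n25603 : Q := act 3 n21330
theorem D25603 : act 3 n21330 = n25603 := rfl
theorem F52566 : act 6 n25603 = n21343 := d17_2 (iv F41264) D25603 (iv D21343)
def n25604 : Q := act 5 n21330
theorem D25604 : act 5 n21330 = n25604 := rfl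
theorem F52567 : act 0 n25604 = n24540 := d4_1 D25604 (iv F52564) F52562
theorem F52568 : act 2 n25604 = n21331 := d13_1 D25604 (iv D21331) D21330
theorem F52569 : act 4 n25604 = n24027 := d18_1 D25604 (iv F50076) F50075
def n25605 : Q := act 2 n21332
theorem D25605 : act 2 n21332 = n25605 := rfl
theorem F52570 : act 0 n25605 = n21417 := d1_1 D25605 F41424 (iv F41268)
theorem F52571 : act 1 n25605 = n23106 := d6_1 D25605 (iv D23106) (iv D18739) (iv F27967) D21332
theorem F52572 : act 6 n25605 = n21415 := d14_2 F41270 D25605 (iv D21415)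
def n25606 : Q := act 1 n21334
theorem D25606 : act 1 n21334 = n25606 := rfl
theorem F52573 : act 3 n25606 = n21339 := d7_2 (iv F41274) D25606 F41280
theorem F52574 : act 4 n25606 = n21336 := d8_2 (iv F41275) D25606 (iv D21336)
theorem F52575 : act 5 n25606 = n21336 := d9_2 (iv F41276) D25606 (iv D21336) F27975 (iv F41005)
theorem F52576 : act 6 n25606 = n24675 := d10_2 D21334 D25606 (iv D24675) F38434 F38187
def n25607 : Q := act 2 n21335
theorem D25607 : act 2 n21335 = n25607 := rfl
theorem F52577 : act 6 n25607 = n21338 := d14_2 (iv F41277) D25607 (iv D21338)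
def n25608 : Q := act 0 n21336
theorem D25608 : act 0 n21336 = n25608 := rfl
theorem F52578 : act 3 n25608 = n21337 := d2_2 (iv F41278) D25608 (iv D21337)
def n25609 : Q := act 2 n21336
theorem D25609 : act 2 n21336 = n25609 := rfl
def n25610 : Q := act 2 n21337
theorem D25610 : act 2 n21337 = n25610 := rfl
theorem F52579 : act 0 n25610 = n21338 := d1_1 D25610 (iv D21338) D21337
def n25611 : Q := act 5 n21337
theorem D25611 : act 5 n21337 = n25611 := rfl
theorem F52580 : act 0 n25611 = n21339 := d4_1 D25611 (iv D21339) D21337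
theorem F52581 : act 6 n25611 = n24677 := d20_2 F50118 D25611 F50120 F41277 D21339 (iv F41281) (iv F50117)
def n25612 : Q := act 3 n21338
theorem D25612 : act 3 n21338 = n25612 := rfl
theorem F52582 : act 1 n25612 = n21343 := d7_1 D25612 (iv D21343) (iv F41279)
def n25613 : Q := act 5 n21338
theorem D25613 : act 5 n21338 = n25613 := rfl
theorem F52583 : act 2 n25613 = n21339 := d13_1 D25613 (iv D21339) D21338
theorem F52584 : act 6 n24678 = n25613 := d14_0 F52583 (iv F41281) D24678
def n25614 : Q := act 3 n21341
theorem D25614 : act 3 n21341 = n25614 := rfl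
theorem F52585 : act 0 n25614 = n21343 := d2_1 D25614 (iv D21343) (iv F41286)
def n25615 : Q := act 5 n21341
theorem D25615 : act 5 n21341 = n25615 := rfl
theorem F52586 : act 0 n25615 = n21344 := d4_1 D25615 (iv D21344) (iv F41286)
theorem F52587 : act 1 n25615 = n23118 := d9_1 D25615 F45911 (iv F40719) D25310 (iv F51937)
theorem F52588 : act 2 n25615 = n21342 := d13_1 D25615 (iv D21342) D21341
theorem F52589 : act 6 n25615 = n25604 := d20_2 F52565 D25615 (iv D25604) F41264 D21344 (iv F49787) (iv F52564)
def n25616 : Q := act 2 n21343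
theorem D25616 : act 2 n21343 = n25616 := rfl
def n25617 : Q := act 4 n21343
theorem D25617 : act 4 n21343 = n25617 := rfl
def n25618 : Q := act 5 n21343
theorem D25618 : act 5 n21343 = n25618 := rfl
theorem F52590 : act 3 n25618 = n21344 := d16_1 D25618 (iv D21344) D21343
def n25619 : Q := act 1 n21344
theorem D25619 : act 1 n21344 = n25619 := rfl
theorem F52591 : act 2 n25619 = n25431 := d6_2 (iv F41291) D25619 (iv D25431) F41020 (iv F27977)
def n25620 : Q := act 6 n21345
theorem D25620 : act 6 n21345 = n25620 := rfl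
theorem F52592 : act 0 n25620 = n21347 := d5_1 D25620 (iv D21347) D21345
theorem F52593 : act 2 n25620 = n25620 := d14_1 D25620 (iv D25620) F41292
theorem F52594 : act 3 n25620 = n23056 := d17_1 D25620 (iv D23056) (iv F41293)
def n25621 : Q := act 6 n21346
theorem D25621 : act 6 n21346 = n25621 := rfl
theorem F52595 : act 2 n25621 = n25621 := d14_1 D25621 (iv D25621) F41296
theorem F52596 : act 3 n25621 = n23292 := d17_1 D25621 F46330 F41613
theorem F52597 : act 4 n25621 = n21347 := d19_1 D25621 (iv D21347) D21346
theorem F52598 : act 5 n25621 = n25620 := d22_2 F41297 D25621 (iv D25620) (iv D21345)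
theorem F52599 : act 1 n23174 = n25621 := d7_3 F52596 (iv D23292) (iv F46044)
def n25622 : Q := act 1 n21347
theorem D25622 : act 1 n21347 = n25622 := rfl
theorem F52600 : act 3 n25622 = n22796 := d7_2 F41615 D25622 F45016
theorem F52601 : act 4 n25622 = n23174 := d8_2 F52597 D25622 F52599
theorem F52602 : act 6 n25622 = n21349 := d10_2 D21347 D25622 (iv D21349) (iv D16169) D16167
theorem F52603 : act 0 n22787 = n25622 := d3_3 F52601 (iv D23174) (iv F44908)
def n25623 : Q := act 5 n21347
theorem D25623 : act 5 n21347 = n25623 := rfl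
theorem F52604 : act 0 n25623 = n25621 := d4_1 D25623 F52598 F52592
theorem F52605 : act 2 n25623 = n25623 := d13_1 D25623 (iv D25623) F41298
theorem F52606 : act 3 n25623 = n25112 := d16_1 D25623 F51297 F41615
theorem F52607 : act 4 n25623 = n25620 := d18_1 D25623 (iv F52598) F52597
theorem F52608 : act 6 n25623 = n25111 := d20_2 D21347 D25623 F51292 D25620 (iv F52598) (iv D25621) (iv F41297)
def n25624 : Q := act 1 n21348
theorem D25624 : act 1 n21348 = n25624 := rfl
theorem F52609 : act 3 n25624 = n23205 := d7_2 (iv F41300) D25624 (iv D23205)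
theorem F52610 : act 4 n25624 = n21349 := d8_2 (iv F41301) D25624 (iv D21349)
theorem F52611 : act 6 n25624 = n23174 := d10_2 D21348 D25624 F52599 (iv D25621) F41295
theorem F52612 : act 0 n23176 = n25624 := d5_3 F52611 (iv D23174) D23176
def n25625 : Q := act 0 n21349
theorem D25625 : act 0 n21349 = n25625 := rfl
theorem F52613 : act 3 n25625 = n22798 := d2_2 F41616 D25625 F45015
theorem F52614 : act 4 n25625 = n23176 := d3_2 F52610 D25625 F52612
theorem F52615 : act 6 n25625 = n22787 := d5_2 F52602 D25625 F52603
theorem F52616 : act 5 n23108 = n25625 := d16_0 F52613 (iv F44939) (iv F45891)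
def n25626 : Q := act 2 n21349
theorem D25626 : act 2 n21349 = n25626 := rfl
theorem F52617 : act 1 n25626 = n21352 := d6_1 D25626 (iv D21352) (iv D16171) (iv F27981) D21349
def n25627 : Q := act 5 n21349
theorem D25627 : act 5 n21349 = n25627 := rfl
theorem F52618 : act 0 n25627 = n23108 := d4_1 D25627 F52616 (iv D25625)
theorem F52619 : act 3 n25627 = n23134 := d16_1 D25627 F45944 F41616
theorem F52620 : act 6 n25627 = n25544 := d22_1 D25627 F52427 (iv F52615) (iv D25625)
def n25628 : Q := act 2 n21350
theorem D25628 : act 2 n21350 = n25628 := rfl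
theorem F52621 : act 4 n25628 = n21352 := d12_2 (iv F41303) D25628 (iv D21352)
theorem F52622 : act 6 n25628 = n25628 := d14_2 F41304 D25628 (iv D25628)
def n25629 : Q := act 5 n21350
theorem D25629 : act 5 n21350 = n25629 := rfl
theorem F52623 : act 1 n25629 = n24677 := d9_1 D25629 F50120 (iv D21335) (iv F27983) D21350
theorem F52624 : act 4 n25629 = n21353 := d18_1 D25629 (iv D21353) (iv F41303)
def n25630 : Q := act 3 n21352
theorem D25630 : act 3 n21352 = n25630 := rfl
theorem F52625 : act 6 n25630 = n25630 := d17_2 F41307 D25630 (iv D25630)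
def n25631 : Q := act 5 n21352
theorem D25631 : act 5 n21352 = n25631 := rfl
theorem F52626 : act 2 n25631 = n21353 := d13_1 D25631 (iv D21353) D21352
def n25632 : Q := act 2 n21354
theorem D25632 : act 2 n21354 = n25632 := rfl
theorem F52627 : act 4 n25632 = n25607 := d12_2 (iv F41310) D25632 (iv D25607)
theorem F52628 : act 6 n25632 = n24661 := d14_2 (iv F41311) D25632 (iv D24661)
def n25633 : Q := act 2 n21358
theorem D25633 : act 2 n21358 = n25633 := rfl
theorem F52629 : act 6 n25633 = n25633 := d14_2 F41317 D25633 (iv D25633)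
def n25634 : Q := act 4 n21358
theorem D25634 : act 4 n21358 = n25634 := rfl
theorem F52630 : act 1 n25634 = n21371 := d8_1 D25634 (iv D21371) (iv F41316)
theorem F52631 : act 6 n25634 = n25634 := d19_2 F41317 D25634 (iv D25634)
def n25635 : Q := act 5 n21358
theorem D25635 : act 5 n21358 = n25635 := rfl
theorem F52632 : act 3 n25635 = n21359 := d16_1 D25635 (iv D21359) D21358
def n25636 : Q := act 1 n21359
theorem D25636 : act 1 n21359 = n25636 := rfl
theorem F52633 : act 5 n25636 = n21373 := d9_2 D21359 D25636 (iv D21373) (iv D16180) (iv F27991)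
def n25637 : Q := act 2 n21360
theorem D25637 : act 2 n21360 = n25637 := rfl
theorem F52634 : act 0 n25637 = n25632 := d1_1 D25637 (iv D25632) F41331
theorem F52635 : act 5 n25637 = n21362 := d13_2 (iv F41319) D25637 (iv D21362)
def n25638 : Q := act 2 n21361
theorem D25638 : act 2 n21361 = n25638 := rfl
theorem F52636 : act 0 n25638 = n21362 := d1_1 D25638 (iv D21362) D21361
theorem F52637 : act 5 n25638 = n25632 := d13_2 (iv F41325) D25638 (iv D25632)
def n25639 : Q := act 6 n21361
theorem D25639 : act 6 n21361 = n25639 := rfl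
theorem F52638 : act 0 n25639 = n21363 := d5_1 D25639 (iv D21363) D21361
theorem F52639 : act 3 n25639 = n24660 := d17_1 D25639 F50080 F41333
theorem F52640 : act 4 n25639 = n25611 := d19_1 D25639 F52581 F50119
theorem F52641 : act 5 n25639 = n24660 := d20_1 D25639 F50080 F41319 D21363 F41324 (iv F41311) (iv F41325)
theorem F52642 : act 1 n25608 = n25639 := d7_3 F52639 F50078 (iv F52578)
def n25640 : Q := act 3 n21362
theorem D25640 : act 3 n21362 = n25640 := rfl
theorem F52643 : act 1 n25640 = n21379 := d7_1 D25640 (iv D21379) (iv F41320)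
def n25641 : Q := act 6 n21362
theorem D25641 : act 6 n21362 = n25641 := rfl
theorem F52644 : act 2 n25641 = n21363 := d14_1 D25641 (iv D21363) D21362
theorem F52645 : act 4 n25641 = n25613 := d19_1 D25641 (iv F52584) F50122
theorem F52646 : act 5 n25641 = n24661 := d22_2 F52635 D25641 (iv F52628) (iv F52634)
def n25642 : Q := act 2 n21364
theorem D25642 : act 2 n21364 = n25642 := rfl
theorem F52647 : act 0 n25642 = n21365 := d1_1 D25642 (iv D21365) D21364
theorem F52648 : act 1 n25642 = n24662 := d6_1 D25642 (iv D24662) (iv F45881) F45877 F44828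
theorem F52649 : act 4 n25642 = n25310 := d12_2 (iv F41335) D25642 F51936
theorem F52650 : act 5 n25642 = n24466 := d13_2 F41336 D25642 (iv D24466)
def n25643 : Q := act 1 n21365
theorem D25643 : act 1 n21365 = n25643 := rfl
theorem F52651 : act 2 n25643 = n21368 := d6_2 D21365 D25643 (iv D21368) (iv D16178) D16177
def n25644 : Q := act 3 n21365
theorem D25644 : act 3 n21365 = n25644 := rfl
def n25645 : Q := act 5 n21365
theorem D25645 : act 5 n21365 = n25645 := rfl
theorem F52652 : act 0 n25645 = n24466 := d4_1 D25645 (iv F52650) F52647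
theorem F52653 : act 2 n25645 = n21366 := d13_1 D25645 (iv D21366) D21365
theorem F52654 : act 4 n25645 = n25308 := d18_1 D25645 F51933 F41519
theorem F52655 : act 6 n25458 = n25645 := d14_0 F52653 (iv F41340) D25458
def n25646 : Q := act 6 n21365
theorem D25646 : act 6 n21365 = n25646 := rfl
theorem F52656 : act 2 n25646 = n21367 := d14_1 D25646 (iv D21367) D21365
def n25647 : Q := act 0 n21368
theorem D25647 : act 0 n21368 = n25647 := rfl
def n25648 : Q := act 3 n21368
theorem D25648 : act 3 n21368 = n25648 := rfl
theorem F52657 : act 1 n25648 = n21369 := d7_1 D25648 (iv D21369) D21368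
def n25649 : Q := act 5 n21368
theorem D25649 : act 5 n21368 = n25649 := rfl
def n25650 : Q := act 6 n21368
theorem D25650 : act 6 n21368 = n25650 := rfl
theorem F52658 : act 1 n25650 = n21387 := d10_1 D25650 (iv D21387) (iv D16189) (iv F27995) D21368
def n25651 : Q := act 4 n21369
theorem D25651 : act 4 n21369 = n25651 := rfl
theorem F52659 : act 0 n25651 = n21371 := d3_1 D25651 (iv D21371) (iv F41343)
theorem F52660 : act 6 n25651 = n21388 := d19_2 (iv F41344) D25651 (iv D21388)
def n25652 : Q := act 1 n21370
theorem D25652 : act 1 n21370 = n25652 := rfl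
def n25653 : Q := act 4 n21370
theorem D25653 : act 4 n21370 = n25653 := rfl
theorem F52661 : act 2 n25653 = n21371 := d12_1 D25653 (iv D21371) D21370
theorem F52662 : act 6 n25653 = n21393 := d19_2 (iv F41345) D25653 (iv D21393)
def n25654 : Q := act 5 n21370
theorem D25654 : act 5 n21370 = n25654 := rfl
theorem F52663 : act 2 n25654 = n21372 := d13_1 D25654 (iv D21372) D21370
theorem F52664 : act 3 n25654 = n21625 := d16_1 D25654 F41868 F41746
theorem F52665 : act 6 n25654 = n21621 := d22_1 D25654 (iv D21621) (iv F41752) F41750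
def n25655 : Q := act 5 n21371
theorem D25655 : act 5 n21371 = n25655 := rfl
theorem F52666 : act 4 n25655 = n21372 := d18_1 D25655 (iv D21372) D21371
def n25656 : Q := act 1 n21372
theorem D25656 : act 1 n21372 = n25656 := rfl
theorem F52667 : act 3 n25656 = n21373 := d7_2 (iv F41347) D25656 (iv D21373)
def n25657 : Q := act 0 n21373
theorem D25657 : act 0 n21373 = n25657 := rfl
def n25658 : Q := act 2 n21373
theorem D25658 : act 2 n21373 = n25658 := rfl
theorem F52668 : act 1 n25658 = n21375 := d6_1 D25658 (iv D21375) (iv D16181) (iv F27997) D21373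
def n25659 : Q := act 6 n21373
theorem D25659 : act 6 n21373 = n25659 := rfl
def n25660 : Q := act 2 n21374
theorem D25660 : act 2 n21374 = n25660 := rfl
theorem F52669 : act 0 n25660 = n21375 := d1_1 D25660 (iv D21375) D21374
theorem F52670 : act 5 n25660 = n21377 := d13_2 (iv F41349) D25660 (iv D21377)
def n25661 : Q := act 3 n21375
theorem D25661 : act 3 n21375 = n25661 := rfl
theorem F52671 : act 5 n25661 = n21379 := d16_2 (iv F41351) D25661 (iv D21379)
def n25662 : Q := act 6 n21375
theorem D25662 : act 6 n21375 = n25662 := rfl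
theorem F52672 : act 2 n25662 = n21376 := d14_1 D25662 (iv D21376) D21375
def n25663 : Q := act 1 n21377
theorem D25663 : act 1 n21377 = n25663 := rfl
theorem F52673 : act 4 n25663 = n25309 := d8_2 (iv F45921) D25663 F51934
def n25664 : Q := act 3 n21377
theorem D25664 : act 3 n21377 = n25664 := rfl
theorem F52674 : act 0 n25664 = n21379 := d2_1 D25664 (iv D21379) (iv F41354)
def n25665 : Q := act 6 n21377
theorem D25665 : act 6 n21377 = n25665 := rfl
theorem F52675 : act 0 n25665 = n21380 := d5_1 D25665 (iv D21380) (iv F41354)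
theorem F52676 : act 2 n25665 = n21378 := d14_1 D25665 (iv D21378) D21377
theorem F52677 : act 4 n25665 = n25450 := d19_1 D25665 F52237 (iv F45921)
theorem F52678 : act 5 n25665 = n25662 := d22_2 F52670 D25665 (iv D25662) (iv F52669)
def n25666 : Q := act 2 n21379
theorem D25666 : act 2 n21379 = n25666 := rfl
def n25667 : Q := act 4 n21379
theorem D25667 : act 4 n21379 = n25667 := rfl
def n25668 : Q := act 6 n21379
theorem D25668 : act 6 n21379 = n25668 := rfl
theorem F52679 : act 3 n25668 = n21380 := d17_1 D25668 (iv D21380) D21379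
def n25669 : Q := act 1 n21380
theorem D25669 : act 1 n21380 = n25669 := rfl
theorem F52680 : act 2 n25669 = n25418 := d6_2 (iv F41360) D25669 (iv D25418) F40994 (iv F28001)
def n25670 : Q := act 5 n21380
theorem D25670 : act 5 n21380 = n25670 := rfl
theorem F52681 : act 0 n25670 = n25662 := d4_1 D25670 (iv F52678) F52675
theorem F52682 : act 2 n25670 = n21381 := d13_1 D25670 (iv D21381) (iv F41360)
theorem F52683 : act 6 n25670 = n25660 := d20_2 D21380 D25670 F52670 D25665 F52678 (iv D25662) F41351
def n25671 : Q := act 2 n21382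
theorem D25671 : act 2 n21382 = n25671 := rfl
theorem F52684 : act 5 n25671 = n21391 := d13_2 (iv F41365) D25671 (iv D21391)
theorem F52685 : act 6 n25671 = n25319 := d14_2 (iv F41366) D25671 (iv D25319)
def n25672 : Q := act 1 n21384
theorem D25672 : act 1 n21384 = n25672 := rfl
theorem F52686 : act 0 n25672 = n25672 := d0_1 D25672 (iv D25672) (iv D21384) (iv D16189) F21455 F17782 (iv F21455) D16189 D21384
def n25673 : Q := act 3 n21384
theorem D25673 : act 3 n21384 = n25673 := rfl
theorem F52687 : act 0 n25673 = n21385 := d2_1 D25673 (iv D21385) D21384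
def n25674 : Q := act 5 n21384
theorem D25674 : act 5 n21384 = n25674 := rfl
theorem F52688 : act 0 n25674 = n21386 := d4_1 D25674 (iv D21386) D21384
def n25675 : Q := act 6 n21384
theorem D25675 : act 6 n21384 = n25675 := rfl
theorem F52689 : act 0 n25675 = n21387 := d5_1 D25675 (iv D21387) D21384
def n25676 : Q := act 2 n21385
theorem D25676 : act 2 n21385 = n25676 := rfl
def n25677 : Q := act 4 n21385
theorem D25677 : act 4 n21385 = n25677 := rfl
theorem F52690 : act 1 n25677 = n21388 := d8_1 D25677 (iv D21388) (iv F41373)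
def n25678 : Q := act 5 n21385
theorem D25678 : act 5 n21385 = n25678 := rfl
theorem F52691 : act 3 n25678 = n21386 := d16_1 D25678 (iv D21386) D21385
def n25679 : Q := act 6 n21385
theorem D25679 : act 6 n21385 = n25679 := rfl
theorem F52692 : act 3 n25679 = n21387 := d17_1 D25679 (iv D21387) D21385
def n25680 : Q := act 1 n21386
theorem D25680 : act 1 n21386 = n25680 := rfl
theorem F52693 : act 5 n25680 = n21390 := d9_2 D21386 D25680 (iv D21390) (iv D16191) D16189
def n25681 : Q := act 6 n21386
theorem D25681 : act 6 n21386 = n25681 := rfl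
theorem F52694 : act 5 n25681 = n25675 := d22_2 D21386 D25681 (iv D25675) (iv D21384)
def n25682 : Q := act 5 n21387
theorem D25682 : act 5 n21387 = n25682 := rfl
theorem F52695 : act 0 n25682 = n25681 := d4_1 D25682 F52694 F52689
theorem F52696 : act 6 n25682 = n25674 := d20_2 D21387 D25682 (iv D25674) D25675 (iv F52694) (iv D25681) (iv D21386)
def n25683 : Q := act 5 n21388
theorem D25683 : act 5 n21388 = n25683 := rfl
theorem F52697 : act 0 n25683 = n21395 := d4_1 D25683 (iv D21395) (iv F41374)
theorem F52698 : act 4 n25683 = n21389 := d18_1 D25683 (iv D21389) D21388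
theorem F52699 : act 6 n25683 = n25655 := d22_1 D25683 (iv D25655) F41346 (iv F41374)
def n25684 : Q := act 1 n21389
theorem D25684 : act 1 n21389 = n25684 := rfl
theorem F52700 : act 3 n25684 = n21390 := d7_2 (iv F41376) D25684 (iv D21390)
def n25685 : Q := act 0 n21390
theorem D25685 : act 0 n21390 = n25685 := rfl
def n25686 : Q := act 2 n21390
theorem D25686 : act 2 n21390 = n25686 := rfl
theorem F52701 : act 1 n25686 = n21391 := d6_1 D25686 (iv D21391) (iv D16192) (iv F28008) D21390
def n25687 : Q := act 6 n21390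
theorem D25687 : act 6 n21390 = n25687 := rfl
theorem F52702 : act 1 n25687 = n25659 := d10_1 D25687 (iv D25659) (iv D21373) (iv F28009) D21390
def n25688 : Q := act 3 n21391
theorem D25688 : act 3 n21391 = n25688 := rfl
def n25689 : Q := act 0 n21392
theorem D25689 : act 0 n21392 = n25689 := rfl
theorem F52703 : act 2 n25689 = n25689 := d1_2 F41378 D25689 (iv D25689)
def n25690 : Q := act 4 n21392
theorem D25690 : act 4 n21392 = n25690 := rfl
theorem F52704 : act 1 n25690 = n21393 := d8_1 D25690 (iv D21393) D21392
theorem F52705 : act 2 n25690 = n25690 := d12_1 D25690 (iv D25690) F41378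
def n25691 : Q := act 5 n21392
theorem D25691 : act 5 n21392 = n25691 := rfl
theorem F52706 : act 2 n25691 = n25691 := d13_1 D25691 (iv D25691) F41378
def n25692 : Q := act 6 n21392
theorem D25692 : act 6 n21392 = n25692 := rfl
theorem F52707 : act 2 n25692 = n25692 := d14_1 D25692 (iv D25692) F41378
def n25693 : Q := act 3 n21393
theorem D25693 : act 3 n21393 = n25693 := rfl
def n25694 : Q := act 5 n21393
theorem D25694 : act 5 n21393 = n25694 := rfl
theorem F52708 : act 2 n25694 = n21395 := d13_1 D25694 (iv D21395) (iv F41379)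
theorem F52709 : act 4 n25694 = n21394 := d18_1 D25694 (iv D21394) D21393
def n25695 : Q := act 1 n21394
theorem D25695 : act 1 n21394 = n25695 := rfl
def n25696 : Q := act 6 n21394
theorem D25696 : act 6 n21394 = n25696 := rfl
theorem F52710 : act 0 n25696 = n25654 := d5_1 D25696 F52665 F41861
theorem F52711 : act 2 n25696 = n21397 := d14_1 D25696 (iv D21397) (iv F41380)
theorem F52712 : act 3 n25696 = n21566 := d17_1 D25696 (iv F41843) F41842
theorem F52713 : act 5 n25696 = n21564 := d20_1 D25696 F41752 D21621 (iv F52665) (iv D25654) F41345 D21394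
def n25697 : Q := act 1 n21395
theorem D25697 : act 1 n21395 = n25697 := rfl
theorem F52714 : act 4 n25697 = n21396 := d8_2 (iv F41381) D25697 (iv D21396)
theorem F52715 : act 5 n25697 = n25697 := d9_2 D21395 D25697 (iv D25697) (iv D21395) F28011
def n25698 : Q := act 6 n21395
theorem D25698 : act 6 n21395 = n25698 := rfl
theorem F52716 : act 0 n25698 = n25655 := d5_1 D25698 (iv F52699) F52697
theorem F52717 : act 4 n25698 = n21397 := d19_1 D25698 (iv D21397) (iv F41381)
theorem F52718 : act 5 n25698 = n25651 := d20_1 D25698 F52660 D25683 F52699 (iv D25655) F41346 D21395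
def n25699 : Q := act 2 n21396
theorem D25699 : act 2 n21396 = n25699 := rfl
theorem F52719 : act 5 n25699 = n25699 := d13_2 F41383 D25699 (iv D25699)
def n25700 : Q := act 6 n21396
theorem D25700 : act 6 n21396 = n25700 := rfl
theorem F52720 : act 3 n25700 = n21398 := d17_1 D25700 (iv D21398) (iv F41382)
def n25701 : Q := act 1 n21397
theorem D25701 : act 1 n21397 = n25701 := rfl
theorem F52721 : act 3 n25701 = n21399 := d7_2 (iv F41385) D25701 (iv D21399)
def n25702 : Q := act 1 n21398
theorem D25702 : act 1 n21398 = n25702 := rfl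
theorem F52722 : act 6 n25702 = n21399 := d10_2 D21398 D25702 (iv D21399) (iv D16197) D16196
theorem F52723 : act 5 n21399 = n25687 := d24_4 D21428 F41449 D25702 F52722 F52702 (iv D25659) (iv F52633) (iv D25636) (iv F41534) (iv D21467) (iv D16241) (iv D12191) (iv F21482) (iv F28047)
theorem E10350 : n25659 = n25649 := (c9_2 F52723 F52702 (iv D25649) (iv D21368) (iv F28017) D21399)
theorem F52724 : act 1 n25649 = n25687 := (sb E10350 (iv F52702))
theorem F52725 : act 6 n25649 = n21373 := (sb E10350 (iv D25659))
theorem F52726 : act 5 n25685 = n25702 := d22_0 F52722 F52723 (iv D25687) D25685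
theorem F52727 : act 0 n25702 = n25680 := d22_4 F52693 D25687 (iv F52723) (iv F52722)
theorem F52728 : act 6 n25636 = n25647 := d22_3 D25649 F52725 (iv F52633) (iv D25647)
theorem F52729 : act 5 n25657 = n25650 := d22_0 (iv D25650) D25649 F52725 D25657
theorem F52730 : act 0 n25650 = n25636 := d22_4 F52633 (iv F52725) (iv D25649) D25650
def n25703 : Q := act 0 n21399
theorem D25703 : act 0 n21399 = n25703 := rfl
theorem F52731 : act 6 n25703 = n25680 := d5_2 F52722 D25703 (iv F52727)
def n25704 : Q := act 2 n21399
theorem D25704 : act 2 n21399 = n25704 := rfl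
theorem F52732 : act 1 n25704 = n21401 := d6_1 D25704 (iv D21401) (iv D16198) (iv F28016) D21399
def n25705 : Q := act 2 n21400
theorem D25705 : act 2 n21400 = n25705 := rfl
theorem F52733 : act 0 n25705 = n21401 := d1_1 D25705 (iv D21401) D21400
theorem F52734 : act 6 n25705 = n23111 := d14_2 (iv F41389) D25705 F45898
theorem F52735 : act 3 n25705 = n23106 := d21_1 D25705 (iv D23106) F33550 D18757 F39760 (iv D16346) (iv F28018) D21400
def n25706 : Q := act 3 n21401
theorem D25706 : act 3 n21401 = n25706 := rfl
theorem F52736 : act 0 n25706 = n23106 := d2_1 D25706 (iv F52735) F52733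
theorem F52737 : act 2 n25706 = n23105 := d11_1 D25706 F45887 (iv F40333) F41883 (iv D21631) (iv F41388) D25705 F52735 (iv D23106) F33550 D18757 F39760 (iv D16346) (iv F28018) D21401
theorem F52738 : act 6 n25706 = n23109 := d17_2 (iv F41390) D25706 F45893
def n25707 : Q := act 5 n21401
theorem D25707 : act 5 n21401 = n25707 := rfl
theorem F52739 : act 2 n25707 = n21402 := d13_1 D25707 (iv D21402) D21401
theorem F52740 : act 6 n25707 = n25484 := d22_1 D25707 F52293 (iv F52734) F52733
def n25708 : Q := act 2 n21403
theorem D25708 : act 2 n21403 = n25708 := rfl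
theorem F52741 : act 0 n25708 = n21404 := d1_1 D25708 (iv D21404) D21403
theorem F52742 : act 4 n25708 = n25433 := d12_2 (iv F41395) D25708 F52216
theorem F52743 : act 5 n25708 = n21415 := d13_2 (iv F41396) D25708 (iv D21415)
theorem F52744 : act 6 n25708 = n24520 := d14_2 F41397 D25708 (iv D24520)
def n25709 : Q := act 3 n21404
theorem D25709 : act 3 n21404 = n25709 := rfl
theorem F52745 : act 5 n25709 = n21416 := d16_2 (iv F41398) D25709 (iv D21416)
def n25710 : Q := act 6 n21404
theorem D25710 : act 6 n21404 = n25710 := rfl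
theorem F52746 : act 0 n25710 = n24520 := d5_1 D25710 (iv F52744) F52741
theorem F52747 : act 2 n25710 = n21405 := d14_1 D25710 (iv D21405) D21404
theorem F52748 : act 4 n25710 = n24035 := d19_1 D25710 (iv F50131) F50129
theorem F52749 : act 5 n25710 = n25605 := d20_1 D25710 F52572 (iv F52743) F52744 F49735 (iv D21417) (iv F41398)
def n25711 : Q := act 2 n21406
theorem D25711 : act 2 n21406 = n25711 := rfl
theorem F52750 : act 0 n25711 = n24511 := d1_1 D25711 F49701 (iv F41404)
theorem F52751 : act 1 n25711 = n23181 := d6_1 D25711 (iv D23181) (iv D18805) (iv F28026) D21406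
theorem F52752 : act 4 n25711 = n24022 := d12_2 (iv F41406) D25711 F48407
theorem F52753 : act 6 n25711 = n24021 := d14_2 (iv F41407) D25711 F48405
def n25712 : Q := act 2 n21408
theorem D25712 : act 2 n21408 = n25712 := rfl
theorem F52754 : act 5 n25712 = n21412 := d13_2 (iv F41410) D25712 (iv D21412)
def n25713 : Q := act 1 n21409
theorem D25713 : act 1 n21409 = n25713 := rfl
theorem F52755 : act 3 n25713 = n21413 := d7_2 (iv F41412) D25713 F41417
theorem F52756 : act 4 n25713 = n21410 := d8_2 (iv F41413) D25713 (iv D21410)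
theorem F52757 : act 5 n25713 = n24697 := d9_2 D21409 D25713 (iv D24697) F38481 F38236
theorem F52758 : act 6 n25713 = n21410 := d10_2 (iv F41414) D25713 (iv D21410) F28033 (iv F41050)
def n25714 : Q := act 0 n21410
theorem D25714 : act 0 n21410 = n25714 := rfl
theorem F52759 : act 3 n25714 = n21411 := d2_2 (iv F41415) D25714 (iv D21411)
def n25715 : Q := act 2 n21410
theorem D25715 : act 2 n21410 = n25715 := rfl
def n25716 : Q := act 2 n21411
theorem D25716 : act 2 n21411 = n25716 := rfl
theorem F52760 : act 0 n25716 = n21412 := d1_1 D25716 (iv D21412) D21411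
def n25717 : Q := act 6 n21411
theorem D25717 : act 6 n21411 = n25717 := rfl
theorem F52761 : act 0 n25717 = n21413 := d5_1 D25717 (iv D21413) D21411
theorem F52762 : act 5 n25717 = n24699 := d20_1 D25717 F50174 F41410 D21413 F41418 (iv F50172) F50171
def n25718 : Q := act 3 n21412
theorem D25718 : act 3 n21412 = n25718 := rfl
theorem F52763 : act 1 n25718 = n21416 := d7_1 D25718 (iv D21416) (iv F41416)
def n25719 : Q := act 6 n21412
theorem D25719 : act 6 n21412 = n25719 := rfl
theorem F52764 : act 2 n25719 = n21413 := d14_1 D25719 (iv D21413) D21412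
theorem F52765 : act 5 n24700 = n25719 := d13_0 F52764 F41418 D24700
def n25720 : Q := act 3 n21415
theorem D25720 : act 3 n21415 = n25720 := rfl
theorem F52766 : act 0 n25720 = n21416 := d2_1 D25720 (iv D21416) (iv F41423)
def n25721 : Q := act 2 n21416
theorem D25721 : act 2 n21416 = n25721 := rfl
def n25722 : Q := act 4 n21416
theorem D25722 : act 4 n21416 = n25722 := rfl
def n25723 : Q := act 6 n21416
theorem D25723 : act 6 n21416 = n25723 := rfl
theorem F52767 : act 3 n25723 = n21417 := d17_1 D25723 (iv D21417) D21416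
def n25724 : Q := act 1 n21417
theorem D25724 : act 1 n21417 = n25724 := rfl
theorem F52768 : act 2 n25724 = n25465 := d6_2 (iv F41424) D25724 (iv D25465) F41065 (iv F28035)
def n25725 : Q := act 5 n21418
theorem D25725 : act 5 n21418 = n25725 := rfl
theorem F52769 : act 0 n25725 = n21420 := d4_1 D25725 (iv D21420) D21418
theorem F52770 : act 2 n25725 = n25725 := d13_1 D25725 (iv D25725) F41425
theorem F52771 : act 3 n25725 = n23057 := d16_1 D25725 (iv D23057) (iv F41426)
def n25726 : Q := act 5 n21419
theorem D25726 : act 5 n21419 = n25726 := rfl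
theorem F52772 : act 2 n25726 = n25726 := d13_1 D25726 (iv D25726) F41429
theorem F52773 : act 3 n25726 = n23217 := d16_1 D25726 (iv F46146) F41957
theorem F52774 : act 4 n25726 = n21420 := d18_1 D25726 (iv D21420) D21419
theorem F52775 : act 6 n25726 = n25725 := d22_1 D25726 (iv D25725) (iv F51414) F51410
theorem F52776 : act 1 n23158 = n25726 := d7_3 F52773 (iv D23217) (iv F46012)
def n25727 : Q := act 1 n21420
theorem D25727 : act 1 n21420 = n25727 := rfl
theorem F52777 : act 3 n25727 = n22790 := d7_2 F41953 D25727 (iv F45024)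
theorem F52778 : act 4 n25727 = n23158 := d8_2 F52774 D25727 F52776
theorem F52779 : act 5 n25727 = n21422 := d9_2 D21420 D25727 (iv D21422) (iv D16214) D16212
theorem F52780 : act 0 n22784 = n25727 := d3_3 F52778 (iv D23158) (iv F44898)
def n25728 : Q := act 6 n21420
theorem D25728 : act 6 n21420 = n25728 := rfl
theorem F52781 : act 0 n25728 = n25726 := d5_1 D25728 F52775 F52769
theorem F52782 : act 2 n25728 = n25728 := d14_1 D25728 (iv D25728) F41431
theorem F52783 : act 3 n25728 = n25146 := d17_1 D25728 F51419 F41953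
theorem F52784 : act 4 n25728 = n25725 := d19_1 D25728 (iv F52775) F52774
theorem F52785 : act 5 n25728 = n25145 := d20_1 D25728 F51414 D25725 (iv F52775) (iv D25726) (iv F41430) D21420
def n25729 : Q := act 1 n21421
theorem D25729 : act 1 n21421 = n25729 := rfl
theorem F52786 : act 3 n25729 = n23219 := d7_2 (iv F41433) D25729 F46152
theorem F52787 : act 4 n25729 = n21422 := d8_2 (iv F41434) D25729 (iv D21422)
theorem F52788 : act 5 n25729 = n23158 := d9_2 D21421 D25729 F52776 (iv D25726) F41428
theorem F52789 : act 0 n25729 = n23160 := d23_3 D16215 (iv F41432) D25729 (iv D23160) D23159 F46013 (iv F52562) F52564 (iv D24540) (iv D20190) (iv D14969) (iv F26056) D20188 (iv F49770) (iv F49990) (iv D24627) F38365 F38236 F34673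
def n25730 : Q := act 0 n21422
theorem D25730 : act 0 n21422 = n25730 := rfl
theorem F52790 : act 3 n25730 = n22792 := d2_2 F41959 D25730 (iv F45026)
theorem F52791 : act 4 n25730 = n23160 := d3_2 F52787 D25730 (iv F52789)
theorem F52792 : act 5 n25730 = n22784 := d4_2 F52779 D25730 F52780
theorem F52793 : act 6 n23120 = n25730 := d17_0 F52790 (iv F44924) (iv F45913)
def n25731 : Q := act 2 n21422
theorem D25731 : act 2 n21422 = n25731 := rfl
theorem F52794 : act 1 n25731 = n21424 := d6_1 D25731 (iv D21424) (iv D16216) (iv F28039) D21422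
def n25732 : Q := act 6 n21422
theorem D25732 : act 6 n21422 = n25732 := rfl
theorem F52795 : act 0 n25732 = n23120 := d5_1 D25732 F52793 (iv D25730)
theorem F52796 : act 1 n25732 = n25627 := d10_1 D25732 F52620 (iv D25544) F41193 D21422
theorem F52797 : act 3 n25732 = n23149 := d17_1 D25732 F45984 F41959
theorem F52798 : act 5 n25732 = n25486 := d22_2 F52779 D25732 F52301 F52780
def n25733 : Q := act 2 n21423
theorem D25733 : act 2 n21423 = n25733 := rfl
theorem F52799 : act 4 n25733 = n21424 := d12_2 (iv F41436) D25733 (iv D21424)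
theorem F52800 : act 5 n25733 = n25733 := d13_2 F41437 D25733 (iv D25733)
def n25734 : Q := act 6 n21423
theorem D25734 : act 6 n21423 = n25734 := rfl
theorem F52801 : act 1 n25734 = n24699 := d10_1 D25734 F50174 (iv D21408) F34683 D21423
theorem F52802 : act 4 n25734 = n21425 := d19_1 D25734 (iv D21425) (iv F41436)
def n25735 : Q := act 3 n21424
theorem D25735 : act 3 n21424 = n25735 := rfl
theorem F52803 : act 5 n25735 = n25735 := d16_2 F41438 D25735 (iv D25735)
def n25736 : Q := act 6 n21424
theorem D25736 : act 6 n21424 = n25736 := rfl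
theorem F52804 : act 2 n25736 = n21425 := d14_1 D25736 (iv D21425) D21424
def n25737 : Q := act 2 n21426
theorem D25737 : act 2 n21426 = n25737 := rfl
theorem F52805 : act 4 n25737 = n25712 := d12_2 (iv F41441) D25737 (iv D25712)
theorem F52806 : act 5 n25737 = n24683 := d13_2 (iv F41442) D25737 (iv D24683)
def n25738 : Q := act 2 n21427
theorem D25738 : act 2 n21427 = n25738 := rfl
theorem F52807 : act 0 n25738 = n25699 := d1_1 D25738 (iv D25699) (iv F41443)
theorem F52808 : act 5 n25738 = n25738 := d13_2 F41445 D25738 (iv D25738)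
def n25739 : Q := act 4 n21427
theorem D25739 : act 4 n21427 = n25739 := rfl
theorem F52809 : act 0 n25739 = n25697 := d3_1 D25739 F52714 (iv F41443)
theorem F52810 : act 1 n25739 = n21440 := d8_1 D25739 (iv D21440) (iv F41444)
theorem F52811 : act 3 n25739 = n25697 := d15_1 D25739 F52714 F41382 (iv F28048) D21427
theorem F52812 : act 5 n25739 = n25739 := d18_2 F41445 D25739 (iv D25739)
def n25740 : Q := act 6 n21427
theorem D25740 : act 6 n21427 = n25740 := rfl
theorem F52813 : act 0 n25740 = n25700 := d5_1 D25740 (iv D25700) (iv F41443)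
theorem F52814 : act 3 n25740 = n21428 := d17_1 D25740 (iv D21428) D21427
theorem F52815 : act 5 n25740 = n25700 := d22_2 F41445 D25740 (iv D25700) (iv F41443)
def n25741 : Q := act 1 n21428
theorem D25741 : act 1 n21428 = n25741 := rfl
theorem F52816 : act 4 n25741 = n25702 := d8_2 (iv F41448) D25741 (iv D25702)
theorem F52817 : act 6 n25741 = n21442 := d10_2 D21428 D25741 (iv D21442) (iv D16225) (iv F28047)
def n25742 : Q := act 2 n21429
theorem D25742 : act 2 n21429 = n25742 := rfl
theorem F52818 : act 0 n25742 = n25737 := d1_1 D25742 (iv D25737) (iv F41456)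
theorem F52819 : act 6 n25742 = n21431 := d14_2 (iv F41450) D25742 (iv D21431)
def n25743 : Q := act 2 n21430
theorem D25743 : act 2 n21430 = n25743 := rfl
theorem F52820 : act 0 n25743 = n21431 := d1_1 D25743 (iv D21431) D21430
theorem F52821 : act 6 n25743 = n25737 := d14_2 F41457 D25743 (iv D25737)
def n25744 : Q := act 5 n21430
theorem D25744 : act 5 n21430 = n25744 := rfl
theorem F52822 : act 0 n25744 = n21432 := d4_1 D25744 (iv D21432) D21430
theorem F52823 : act 3 n25744 = n24682 := d16_1 D25744 F50134 (iv F41459)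
theorem F52824 : act 4 n25744 = n25717 := d18_1 D25744 F52762 F50173
theorem F52825 : act 6 n25744 = n24682 := d20_2 F41457 D25744 F50134 F41450 D21432 (iv F41455) (iv F41442)
theorem F52826 : act 1 n25714 = n25744 := d7_3 F52823 F50132 (iv F52759)
def n25745 : Q := act 3 n21431
theorem D25745 : act 3 n21431 = n25745 := rfl
theorem F52827 : act 1 n25745 = n21448 := d7_1 D25745 (iv D21448) (iv F41451)
def n25746 : Q := act 5 n21431
theorem D25746 : act 5 n21431 = n25746 := rfl
theorem F52828 : act 2 n25746 = n21432 := d13_1 D25746 (iv D21432) D21431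
theorem F52829 : act 4 n25746 = n25719 := d18_1 D25746 (iv F52765) F50176
theorem F52830 : act 6 n25746 = n24683 := d22_1 D25746 (iv F52806) (iv F52821) F52820
def n25747 : Q := act 2 n21433
theorem D25747 : act 2 n21433 = n25747 := rfl
theorem F52831 : act 0 n25747 = n21434 := d1_1 D25747 (iv D21434) D21433
theorem F52832 : act 1 n25747 = n24684 := d6_1 D25747 (iv D24684) F45875 F45871 F44824
theorem F52833 : act 4 n25747 = n25322 := d12_2 (iv F41461) D25747 F51963
theorem F52834 : act 6 n25747 = n24470 := d14_2 F41462 D25747 (iv D24470)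
def n25748 : Q := act 1 n21434
theorem D25748 : act 1 n21434 = n25748 := rfl
theorem F52835 : act 2 n25748 = n21437 := d6_2 D21434 D25748 (iv D21437) (iv D16223) D16222
theorem F52836 : act 4 n25748 = n25686 := d8_2 (iv F41463) D25748 F52701
def n25749 : Q := act 3 n21434
theorem D25749 : act 3 n21434 = n25749 := rfl
def n25750 : Q := act 5 n21434
theorem D25750 : act 5 n21434 = n25750 := rfl
theorem F52837 : act 2 n25750 = n21435 := d13_1 D25750 (iv D21435) D21434
theorem F52838 : act 4 n25750 = n25671 := d18_1 D25750 F52684 (iv F41463)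
def n25751 : Q := act 6 n21434
theorem D25751 : act 6 n21434 = n25751 := rfl
theorem F52839 : act 0 n25751 = n24470 := d5_1 D25751 (iv F52834) F52831
theorem F52840 : act 2 n25751 = n21436 := d14_1 D25751 (iv D21436) D21434
theorem F52841 : act 4 n25751 = n25320 := d19_1 D25751 F51960 (iv F41463)
theorem F52842 : act 5 n25424 = n25751 := d13_0 F52840 (iv F41470) D25424
def n25752 : Q := act 0 n21437
theorem D25752 : act 0 n21437 = n25752 := rfl
theorem F52843 : act 1 n25752 = n25685 := d0_2 D21437 D25752 (iv D25685) (iv D21390) F28007 D16196 F37352 F28047 (iv F28052)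
theorem F52844 : act 4 n25752 = n25685 := d3_2 (iv F41471) D25752 (iv D25685)
theorem F52845 : act 5 n25741 = n25752 := d18_0 F52844 F52726 (iv F52816)
def n25753 : Q := act 3 n21437
theorem D25753 : act 3 n21437 = n25753 := rfl
theorem F52846 : act 1 n25753 = n21438 := d7_1 D25753 (iv D21438) D21437
def n25754 : Q := act 5 n21437
theorem D25754 : act 5 n21437 = n25754 := rfl
theorem F52847 : act 0 n25754 = n25741 := d4_1 D25754 F52845 (iv D25752)
theorem F52848 : act 1 n25754 = n21455 := d9_1 D25754 (iv D21455) (iv D16234) (iv F28054) D21437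
theorem F52849 : act 4 n25754 = n25680 := d18_1 D25754 F52693 (iv F41471)
def n25755 : Q := act 6 n21437
theorem D25755 : act 6 n21437 = n25755 := rfl
theorem F52850 : act 4 n25755 = n25687 := d19_1 D25755 (iv D25687) (iv F41471)
theorem F52851 : act 5 n25755 = n21442 := d22_2 (iv D25754) D25755 (iv F52817) (iv F52847)
def n25756 : Q := act 4 n21438
theorem D25756 : act 4 n21438 = n25756 := rfl
theorem F52852 : act 0 n25756 = n21440 := d3_1 D25756 (iv D21440) (iv F41472)
theorem F52853 : act 3 n25756 = n25683 := d15_1 D25756 F52698 F41376 (iv F28053) D21438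
theorem F52854 : act 5 n25756 = n21457 := d18_2 (iv F41473) D25756 (iv D21457)
def n25757 : Q := act 1 n21439
theorem D25757 : act 1 n21439 = n25757 := rfl
def n25758 : Q := act 4 n21439
theorem D25758 : act 4 n21439 = n25758 := rfl
theorem F52855 : act 2 n25758 = n21440 := d12_1 D25758 (iv D21440) D21439
theorem F52856 : act 5 n25758 = n21462 := d18_2 (iv F41474) D25758 (iv D21462)
def n25759 : Q := act 6 n21439
theorem D25759 : act 6 n21439 = n25759 := rfl
theorem F52857 : act 2 n25759 = n21441 := d14_1 D25759 (iv D21441) D21439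
theorem F52858 : act 3 n25759 = n21784 := d17_1 D25759 F42217 F42087
theorem F52859 : act 5 n25759 = n21780 := d22_2 (iv F41474) D25759 (iv D21780) F28494
def n25760 : Q := act 6 n21440
theorem D25760 : act 6 n21440 = n25760 := rfl
theorem F52860 : act 3 n25760 = n25698 := d17_1 D25760 (iv D25698) (iv F41475)
theorem F52861 : act 4 n25760 = n21441 := d19_1 D25760 (iv D21441) D21440
def n25761 : Q := act 1 n21441
theorem D25761 : act 1 n21441 = n25761 := rfl
theorem F52862 : act 3 n25761 = n21442 := d7_2 (iv F41477) D25761 (iv D21442)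
def n25762 : Q := act 0 n21442
theorem D25762 : act 0 n21442 = n25762 := rfl
theorem F52863 : act 4 n25762 = n25703 := d3_2 (iv F41478) D25762 (iv D25703)
theorem F52864 : act 6 n25762 = n25754 := d5_2 F52817 D25762 F52847
def n25763 : Q := act 2 n21442
theorem D25763 : act 2 n21442 = n25763 := rfl
theorem F52865 : act 1 n25763 = n21444 := d6_1 D25763 (iv D21444) (iv D16226) (iv F28056) D21442
theorem F52866 : act 4 n25763 = n25704 := d12_2 (iv F41478) D25763 (iv D25704)
def n25764 : Q := act 2 n21443
theorem D25764 : act 2 n21443 = n25764 := rfl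
theorem F52867 : act 0 n25764 = n21444 := d1_1 D25764 (iv D21444) D21443
theorem F52868 : act 4 n25764 = n25705 := d12_2 (iv F41480) D25764 (iv D25705)
theorem F52869 : act 6 n25764 = n21446 := d14_2 (iv F41481) D25764 (iv D21446)
def n25765 : Q := act 3 n21444
theorem D25765 : act 3 n21444 = n25765 := rfl
theorem F52870 : act 6 n25765 = n21448 := d17_2 (iv F41484) D25765 (iv D21448)
def n25766 : Q := act 5 n21444
theorem D25766 : act 5 n21444 = n25766 := rfl
theorem F52871 : act 2 n25766 = n21445 := d13_1 D25766 (iv D21445) D21444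
theorem F52872 : act 4 n25766 = n25707 := d18_1 D25766 (iv D25707) (iv F41483)
def n25767 : Q := act 1 n21446
theorem D25767 : act 1 n21446 = n25767 := rfl
theorem F52873 : act 4 n25767 = n25321 := d8_2 (iv F45899) D25767 F51961
def n25768 : Q := act 3 n21446
theorem D25768 : act 3 n21446 = n25768 := rfl
theorem F52874 : act 0 n25768 = n21448 := d2_1 D25768 (iv D21448) (iv F41488)
def n25769 : Q := act 5 n21446
theorem D25769 : act 5 n21446 = n25769 := rfl
theorem F52875 : act 0 n25769 = n21449 := d4_1 D25769 (iv D21449) (iv F41488)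
theorem F52876 : act 2 n25769 = n21447 := d13_1 D25769 (iv D21447) D21446
theorem F52877 : act 4 n25769 = n25484 := d18_1 D25769 F52293 (iv F45899)
theorem F52878 : act 6 n25769 = n25766 := d22_1 D25769 (iv D25766) F41484 (iv F41488)
def n25770 : Q := act 2 n21448
theorem D25770 : act 2 n21448 = n25770 := rfl
def n25771 : Q := act 4 n21448
theorem D25771 : act 4 n21448 = n25771 := rfl
def n25772 : Q := act 5 n21448
theorem D25772 : act 5 n21448 = n25772 := rfl
theorem F52879 : act 3 n25772 = n21449 := d16_1 D25772 (iv D21449) D21448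
def n25773 : Q := act 1 n21449
theorem D25773 : act 1 n21449 = n25773 := rfl
theorem F52880 : act 2 n25773 = n25451 := d6_2 (iv F41494) D25773 (iv D25451) F41037 (iv F28062)
def n25774 : Q := act 6 n21449
theorem D25774 : act 6 n21449 = n25774 := rfl
theorem F52881 : act 0 n25774 = n25766 := d5_1 D25774 (iv F52878) F52875
theorem F52882 : act 2 n25774 = n21450 := d14_1 D25774 (iv D21450) (iv F41494)
theorem F52883 : act 5 n25774 = n25764 := d20_1 D25774 F52869 D25769 F52878 (iv D25766) F41484 D21449
def n25775 : Q := act 2 n21452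
theorem D25775 : act 2 n21452 = n25775 := rfl
theorem F52884 : act 4 n25775 = n25646 := d12_2 (iv F41506) D25775 F52656
theorem F52885 : act 5 n25775 = n25307 := d13_2 (iv F41507) D25775 (iv D25307)
theorem F52886 : act 6 n25775 = n21460 := d14_2 (iv F41508) D25775 (iv D21460)
def n25776 : Q := act 1 n21453
theorem D25776 : act 1 n21453 = n25776 := rfl
theorem F52887 : act 0 n25776 = n25776 := d0_1 D25776 (iv D25776) (iv D21453) (iv D16234) F21488 F17800 (iv F21488) D16234 D21453
theorem F52888 : act 2 n25776 = n25672 := d6_2 F46028 D25776 (iv D25672) (iv F46063) F46062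
theorem F52889 : act 4 n25776 = n25672 := d8_2 (iv F41509) D25776 (iv D25672)
def n25777 : Q := act 3 n21453
theorem D25777 : act 3 n21453 = n25777 := rfl
theorem F52890 : act 0 n25777 = n21454 := d2_1 D25777 (iv D21454) D21453
def n25778 : Q := act 5 n21453
theorem D25778 : act 5 n21453 = n25778 := rfl
theorem F52891 : act 0 n25778 = n21455 := d4_1 D25778 (iv D21455) D21453
theorem F52892 : act 4 n25778 = n25674 := d18_1 D25778 (iv D25674) (iv F41509)
theorem F52893 : act 1 n25674 = n25778 := d0_0 F52891 (iv F52848) F52847 (iv D25741) F41446 D25702 F52727 (iv D25680) (iv F52688)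
theorem F52894 : act 5 n25776 = n25672 := d9_4 D25674 F52893 (iv D25778) D25776 (iv D25672)
def n25779 : Q := act 6 n21453
theorem D25779 : act 6 n21453 = n25779 := rfl
theorem F52895 : act 0 n25779 = n21456 := d5_1 D25779 (iv D21456) D21453
theorem F52896 : act 4 n25779 = n25675 := d19_1 D25779 (iv D25675) (iv F41509)
theorem F52897 : act 1 n25675 = n25779 := d24_14 (iv D25779) D25778 (iv F52893) (iv F52696) (iv D25682) (iv F52658) (iv D25650) D25649 F52724 (iv D25687) (iv F52693) (iv D25680) D25681 F52694
theorem F52898 : act 6 n25776 = n25672 := d10_4 D25675 F52897 (iv D25779) D25776 (iv D25672)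
def n25780 : Q := act 2 n21454
theorem D25780 : act 2 n21454 = n25780 := rfl
def n25781 : Q := act 4 n21454
theorem D25781 : act 4 n21454 = n25781 := rfl
theorem F52899 : act 1 n25781 = n21457 := d8_1 D25781 (iv D21457) (iv F41510)
theorem F52900 : act 3 n25781 = n25677 := d15_1 D25781 (iv D25677) (iv D21385) (iv F28072) D21454
def n25782 : Q := act 5 n21454
theorem D25782 : act 5 n21454 = n25782 := rfl
theorem F52901 : act 3 n25782 = n21455 := d16_1 D25782 (iv D21455) D21454
def n25783 : Q := act 6 n21454
theorem D25783 : act 6 n21454 = n25783 := rfl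
theorem F52902 : act 3 n25783 = n21456 := d17_1 D25783 (iv D21456) D21454
def n25784 : Q := act 6 n21455
theorem D25784 : act 6 n21455 = n25784 := rfl
theorem F52903 : act 4 n25784 = n25681 := d19_1 D25784 (iv D25681) (iv F41511)
theorem F52904 : act 5 n25784 = n25779 := d22_2 D21455 D25784 (iv D25779) (iv D21453)
def n25785 : Q := act 1 n21456
theorem D25785 : act 1 n21456 = n25785 := rfl
theorem F52905 : act 4 n25785 = n25650 := d8_2 (iv F41512) D25785 F52658
theorem F52906 : act 6 n25785 = n21459 := d10_2 D21456 D25785 (iv D21459) (iv D16236) D16234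
def n25786 : Q := act 5 n21456
theorem D25786 : act 5 n21456 = n25786 := rfl
theorem F52907 : act 0 n25786 = n25784 := d4_1 D25786 F52904 F52895
theorem F52908 : act 4 n25786 = n25682 := d18_1 D25786 (iv D25682) (iv F41512)
theorem F52909 : act 6 n25786 = n25778 := d20_2 D21456 D25786 (iv D25778) D25779 (iv F52904) (iv D25784) (iv D21455)
def n25787 : Q := act 6 n21457
theorem D25787 : act 6 n21457 = n25787 := rfl
theorem F52910 : act 0 n25787 = n21464 := d5_1 D25787 (iv D21464) (iv F41513)
theorem F52911 : act 3 n25787 = n25651 := d17_1 D25787 F52660 (iv F41514)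
theorem F52912 : act 4 n25787 = n21458 := d19_1 D25787 (iv D21458) D21457
theorem F52913 : act 5 n25787 = n25760 := d22_2 F52854 D25787 (iv D25760) (iv F52852)
def n25788 : Q := act 1 n21458
theorem D25788 : act 1 n21458 = n25788 := rfl
theorem F52914 : act 3 n25788 = n21459 := d7_2 (iv F41516) D25788 (iv D21459)
def n25789 : Q := act 0 n21459
theorem D25789 : act 0 n21459 = n25789 := rfl
theorem F52915 : act 1 n25789 = n25647 := d0_2 D21459 D25789 (iv D25647) (iv D21368) F27994 (iv F27991) (iv F41327) (iv D16241) (iv F28074)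
theorem F52916 : act 4 n25789 = n25647 := d3_2 (iv F41518) D25789 (iv D25647)
def n25790 : Q := act 2 n21459
theorem D25790 : act 2 n21459 = n25790 := rfl
theorem F52917 : act 1 n25790 = n21460 := d6_1 D25790 (iv D21460) (iv D16237) (iv F28075) D21459
theorem F52918 : act 4 n25790 = n25643 := d12_2 (iv F41518) D25790 F52651
def n25791 : Q := act 5 n21459
theorem D25791 : act 5 n21459 = n25791 := rfl
theorem F52919 : act 1 n25791 = n25755 := d9_1 D25791 F52851 (iv D21442) (iv F28077) D21459
theorem F52920 : act 4 n25791 = n25649 := d18_1 D25791 (iv D25649) (iv F41518)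
theorem F52921 : act 6 n21468 = n25791 := d24_0 (iv D25791) (iv D21459) (iv D16236) (iv F28054) D21437 D25755 F52851 (iv D21442) (iv D16225) F21482 F17800 D12191 D16242 D21468
def n25792 : Q := act 3 n21460
theorem D25792 : act 3 n21460 = n25792 := rfl
def n25793 : Q := act 0 n21461
theorem D25793 : act 0 n21461 = n25793 := rfl
theorem F52922 : act 2 n25793 = n25793 := d1_2 F41520 D25793 (iv D25793)
def n25794 : Q := act 4 n21461
theorem D25794 : act 4 n21461 = n25794 := rfl
theorem F52923 : act 1 n25794 = n21462 := d8_1 D25794 (iv D21462) D21461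
theorem F52924 : act 2 n25794 = n25794 := d12_1 D25794 (iv D25794) F41520
def n25795 : Q := act 5 n21461
theorem D25795 : act 5 n21461 = n25795 := rfl
theorem F52925 : act 2 n25795 = n25795 := d13_1 D25795 (iv D25795) F41520
def n25796 : Q := act 6 n21461
theorem D25796 : act 6 n21461 = n25796 := rfl
def n25797 : Q := act 3 n21462
theorem D25797 : act 3 n21462 = n25797 := rfl
def n25798 : Q := act 6 n21462
theorem D25798 : act 6 n21462 = n25798 := rfl
theorem F52927 : act 2 n25798 = n21464 := d14_1 D25798 (iv D21464) (iv F41521)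
theorem F52928 : act 4 n25798 = n21463 := d19_1 D25798 (iv D21463) D21462
def n25799 : Q := act 1 n21463
theorem D25799 : act 1 n21463 = n25799 := rfl
def n25800 : Q := act 5 n21463
theorem D25800 : act 5 n21463 = n25800 := rfl
theorem F52929 : act 0 n25800 = n25759 := d4_1 D25800 F52859 F42210
theorem F52930 : act 2 n25800 = n21466 := d13_1 D25800 (iv D21466) (iv F41522)
theorem F52931 : act 3 n25800 = n21725 := d16_1 D25800 (iv F42192) F42191
theorem F52932 : act 6 n25800 = n21723 := d20_2 D21463 D25800 F42093 D21780 (iv F52859) (iv D25759) F41474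
def n25801 : Q := act 1 n21464
theorem D25801 : act 1 n21464 = n25801 := rfl
theorem F52933 : act 3 n25801 = n25634 := d7_2 (iv F41523) D25801 F52630
theorem F52934 : act 4 n25801 = n21465 := d8_2 (iv F41524) D25801 (iv D21465)
theorem F52935 : act 6 n25801 = n25801 := d10_2 D21464 D25801 (iv D25801) (iv D21464) F28080
theorem F52936 : act 0 n25634 = n25801 := d3_3 F52934 (iv F41527) D25634
def n25802 : Q := act 5 n21464
theorem D25802 : act 5 n21464 = n25802 := rfl
theorem F52937 : act 0 n25802 = n25760 := d4_1 D25802 (iv F52913) F52910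
theorem F52938 : act 3 n25802 = n25655 := d16_1 D25802 (iv D25655) (iv F41523)
theorem F52939 : act 4 n25802 = n21466 := d18_1 D25802 (iv D21466) (iv F41524)
theorem F52940 : act 6 n25802 = n25756 := d20_2 D21464 D25802 F52854 D25787 F52913 (iv D25760) F41476
def n25803 : Q := act 2 n21465
theorem D25803 : act 2 n21465 = n25803 := rfl
theorem F52941 : act 0 n25803 = n25633 := d1_1 D25803 (iv D25633) F41527
theorem F52942 : act 6 n25803 = n25803 := d14_2 F41526 D25803 (iv D25803)
def n25804 : Q := act 5 n21465
theorem D25804 : act 5 n21465 = n25804 := rfl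
theorem F52943 : act 0 n25804 = n25635 := d4_1 D25804 (iv D25635) F41527
theorem F52944 : act 3 n25804 = n21467 := d16_1 D25804 (iv D21467) (iv F41525)
theorem F52945 : act 6 n25804 = n25635 := d22_1 D25804 (iv D25635) F41317 F41527
def n25805 : Q := act 1 n21466
theorem D25805 : act 1 n21466 = n25805 := rfl
theorem F52946 : act 3 n25805 = n21468 := d7_2 (iv F41529) D25805 (iv D21468)
def n25806 : Q := act 1 n21467
theorem D25806 : act 1 n21467 = n25806 := rfl
theorem F52947 : act 0 n25806 = n25785 := d0_1 D25806 (iv D25785) (iv F52895) (iv F52897) F52689 (iv F52658) F52730 (iv D25636) (iv F41531)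
theorem F52948 : act 4 n25806 = n25636 := d8_2 (iv F41533) D25806 (iv D25636)
theorem F52949 : act 5 n25806 = n21468 := d9_2 D21467 D25806 (iv D21468) (iv D16242) D16241
theorem F52950 : act 6 n25806 = n25789 := d10_2 (iv F41534) D25806 F52915 (iv F52728) (iv D25636)
def n25807 : Q := act 0 n21468
theorem D25807 : act 0 n21468 = n25807 := rfl
theorem F52951 : act 4 n25807 = n25657 := d3_2 (iv F41535) D25807 (iv D25657)
theorem F52952 : act 5 n25807 = n25785 := d4_2 F52949 D25807 (iv F52947)
def n25808 : Q := act 2 n21468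
theorem D25808 : act 2 n21468 = n25808 := rfl
theorem F52953 : act 1 n25808 = n21470 := d6_1 D25808 (iv D21470) (iv D16243) (iv F28087) D21468
theorem F52954 : act 4 n25808 = n25658 := d12_2 (iv F41535) D25808 (iv D25658)
def n25809 : Q := act 2 n21469
theorem D25809 : act 2 n21469 = n25809 := rfl
theorem F52955 : act 0 n25809 = n21470 := d1_1 D25809 (iv D21470) D21469
theorem F52956 : act 4 n25809 = n25660 := d12_2 (iv F41537) D25809 (iv D25660)
theorem F52957 : act 5 n25809 = n23123 := d13_2 (iv F41538) D25809 F45920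
theorem F52958 : act 3 n25809 = n23118 := d21_1 D25809 (iv D23118) F33556 D18775 F39716 (iv D16449) (iv F28090) D21469
def n25810 : Q := act 3 n21470
theorem D25810 : act 3 n21470 = n25810 := rfl
theorem F52959 : act 0 n25810 = n23118 := d2_1 D25810 (iv F52958) F52955
theorem F52960 : act 2 n25810 = n23117 := d11_1 D25810 F45909 (iv F40116) F42232 (iv D21790) (iv F41536) D25809 F52958 (iv D23118) F33556 D18775 F39716 (iv D16449) (iv F28090) D21470
theorem F52961 : act 5 n25810 = n23121 := d16_2 (iv F41540) D25810 F45915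
def n25811 : Q := act 6 n21470
theorem D25811 : act 6 n21470 = n25811 := rfl
theorem F52962 : act 2 n25811 = n21471 := d14_1 D25811 (iv D21471) D21470
theorem F52963 : act 4 n25811 = n25662 := d19_1 D25811 (iv D25662) (iv F41539)
theorem F52964 : act 5 n25811 = n25450 := d22_2 (iv F41540) D25811 F52237 F45919
def n25812 : Q := act 3 n21472
theorem D25812 : act 3 n21472 = n25812 := rfl
theorem F52965 : act 0 n25812 = n24459 := d2_1 D25812 (iv D24459) (iv F41545)
theorem F52966 : act 1 n25812 = n24559 := d7_1 D25812 (iv D24559) (iv F41546)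
theorem F52967 : act 2 n25812 = n25290 := d11_1 D25812 (iv D25290) (iv D21071) (iv F33529) F33531 F31809 D20108 D24459 F49581 (iv D21072) (iv D15931) (iv F23990) D18733 (iv F33538) D21472
theorem F52968 : act 5 n25812 = n25290 := d16_2 (iv F41548) D25812 (iv D25290)
def n25813 : Q := act 1 n21473
theorem D25813 : act 1 n21473 = n25813 := rfl
theorem F52969 : act 3 n25813 = n21474 := d7_2 (iv F41550) D25813 (iv D21474)
theorem F52970 : act 6 n25813 = n21478 := d10_2 D21473 D25813 (iv D21478) (iv D16251) (iv F28098)
def n25814 : Q := act 5 n21473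
theorem D25814 : act 5 n21473 = n25814 := rfl
theorem F52971 : act 0 n25814 = n23341 := d4_1 D25814 (iv F50406) F50402
theorem F52972 : act 2 n25814 = n22906 := d13_1 D25814 (iv D22906) (iv F41549)
theorem F52973 : act 3 n25814 = n21475 := d16_1 D25814 (iv D21475) (iv F41550)
theorem F52974 : act 4 n25814 = n23338 := d18_1 D25814 (iv F46463) F46462
theorem F52975 : act 6 n25814 = n23336 := d20_2 D21473 D25814 (iv F46442) D24801 F50406 (iv D23341) (iv F33864)
theorem F52976 : act 1 n25324 = n25814 := d7_3 F52973 (iv F41557) D25324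
def n25815 : Q := act 0 n21474
theorem D25815 : act 0 n21474 = n25815 := rfl
theorem F52977 : act 4 n25815 = n22046 := d3_2 (iv F41551) D25815 (iv D22046)
theorem F52978 : act 6 n25815 = n21481 := d5_2 (iv F41552) D25815 (iv D21481)
theorem F52979 : act 1 n24072 = n25815 := d8_3 F52977 (iv F42872) (iv F48538)
def n25816 : Q := act 2 n21474
theorem D25816 : act 2 n21474 = n25816 := rfl
theorem F52980 : act 1 n25816 = n21497 := d6_1 D25816 (iv D21497) (iv D16267) (iv F28105) D21474
theorem F52981 : act 4 n25816 = n22047 := d12_2 (iv F41551) D25816 (iv D22047)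
theorem F52982 : act 6 n25816 = n21482 := d14_2 (iv F41552) D25816 (iv D21482)
theorem F52983 : act 5 n21753 = n25816 := d18_0 F52981 (iv F42869) (iv F42161)
def n25817 : Q := act 5 n21474
theorem D25817 : act 5 n21474 = n25817 := rfl
theorem F52984 : act 1 n25817 = n21754 := d9_1 D25817 F42163 F41557 (iv D21475) D21474
theorem F52985 : act 2 n25817 = n21753 := d13_1 D25817 F52983 (iv D25816)
theorem F52986 : act 4 n25817 = n22048 := d18_1 D25817 (iv D22048) (iv F41551)
def n25818 : Q := act 1 n21476
theorem D25818 : act 1 n21476 = n25818 := rfl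
theorem F52987 : act 3 n25818 = n22049 := d7_2 (iv F41559) D25818 (iv D22049)
theorem F52988 : act 4 n25818 = n21478 := d8_2 (iv F41560) D25818 (iv D21478)
def n25819 : Q := act 1 n21477
theorem D25819 : act 1 n21477 = n25819 := rfl
theorem F52989 : act 3 n25819 = n21480 := d7_2 (iv F41562) D25819 (iv D21480)
theorem F52990 : act 4 n25819 = n23359 := d8_2 (iv F41563) D25819 F46495
theorem F52991 : act 6 n25819 = n23349 := d10_2 D21477 D25819 (iv D23349) F33881 F29019
def n25820 : Q := act 0 n21478
theorem D25820 : act 0 n21478 = n25820 := rfl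
theorem F52992 : act 3 n25820 = n21481 := d2_2 (iv F41565) D25820 (iv D21481)
def n25821 : Q := act 2 n21478
theorem D25821 : act 2 n21478 = n25821 := rfl
theorem F52993 : act 1 n25821 = n23225 := d6_1 D25821 (iv D23225) (iv D18832) (iv F28111) D21478
def n25822 : Q := act 5 n21478
theorem D25822 : act 5 n21478 = n25822 := rfl
theorem F52994 : act 3 n25822 = n21483 := d16_1 D25822 (iv D21483) (iv F41565)
def n25823 : Q := act 1 n21479
theorem D25823 : act 1 n21479 = n25823 := rfl
theorem F52995 : act 3 n25823 = n21484 := d7_2 (iv F41568) D25823 (iv D21484)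
def n25824 : Q := act 0 n21480
theorem D25824 : act 0 n21480 = n25824 := rfl
theorem F52996 : act 4 n25824 = n22054 := d3_2 (iv F41570) D25824 (iv D22054)
theorem F52997 : act 6 n25824 = n21824 := d5_2 (iv F41571) D25824 (iv F42316)
theorem F52998 : act 2 n23613 = n25824 := d12_3 F52996 F42880 D23613
def n25825 : Q := act 2 n21480
theorem D25825 : act 2 n21480 = n25825 := rfl
theorem F52999 : act 0 n25825 = n23613 := d1_1 D25825 F52998 (iv D25824)
theorem F53000 : act 1 n25825 = n21485 := d6_1 D25825 (iv D21485) (iv D16256) (iv F28114) D21480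
theorem F53001 : act 4 n25825 = n22055 := d12_2 (iv F41570) D25825 (iv D22055)
theorem F53002 : act 6 n25825 = n23651 := d14_2 (iv F41571) D25825 (iv D23651)
def n25826 : Q := act 5 n21480
theorem D25826 : act 5 n21480 = n25826 := rfl
theorem F53003 : act 1 n25826 = n24704 := d9_1 D25826 (iv D24704) (iv D20306) (iv F28116) D21480
theorem F53004 : act 4 n25826 = n22056 := d18_1 D25826 (iv D22056) (iv F41570)
def n25827 : Q := act 1 n21481
theorem D25827 : act 1 n21481 = n25827 := rfl
theorem F53005 : act 4 n25827 = n22057 := d8_2 (iv F41572) D25827 (iv D22057)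
theorem F53006 : act 6 n25827 = n24069 := d10_2 F52978 D25827 (iv D24069) D24072 F52979
theorem F53007 : act 0 n24830 = n25827 := d5_3 F53006 F48528 D24830
theorem F53008 : act 2 n24076 = n25827 := d14_3 F53006 F48529 D24076
def n25828 : Q := act 2 n21481
theorem D25828 : act 2 n21481 = n25828 := rfl
theorem F53009 : act 0 n25828 = n21482 := d1_1 D25828 (iv D21482) D21481
theorem F53010 : act 4 n25828 = n22058 := d12_2 (iv F41572) D25828 (iv D22058)
def n25829 : Q := act 5 n21481
theorem D25829 : act 5 n21481 = n25829 := rfl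
theorem F53011 : act 0 n25829 = n21483 := d4_1 D25829 (iv D21483) D21481
theorem F53012 : act 4 n25829 = n22059 := d18_1 D25829 (iv D22059) (iv F41572)
theorem F53013 : act 6 n25829 = n25817 := d22_1 D25829 (iv D25817) F41552 D21481
theorem F53014 : act 1 n25829 = n24912 := d24_2 F52978 D25829 F50634 (iv F50268) (iv D24745) D24747 F50275 F50265 F46958 F35905 (iv F38713) D24849 F50497 F52979
def n25830 : Q := act 3 n21482
theorem D25830 : act 3 n21482 = n25830 := rfl
theorem F53015 : act 1 n25830 = n21487 := d7_1 D25830 (iv D21487) (iv F41573)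
def n25831 : Q := act 5 n21482
theorem D25831 : act 5 n21482 = n25831 := rfl
theorem F53016 : act 2 n25831 = n21483 := d13_1 D25831 (iv D21483) D21482
theorem F53017 : act 4 n25831 = n22061 := d18_1 D25831 (iv D22061) (iv F41574)
def n25832 : Q := act 6 n21483
theorem D25832 : act 6 n21483 = n25832 := rfl
theorem F53018 : act 0 n25832 = n25817 := d5_1 D25832 (iv F53013) F53011
theorem F53019 : act 4 n25832 = n22062 := d19_1 D25832 (iv D22062) (iv F41575)
theorem F53020 : act 5 n25832 = n25815 := d20_1 D25832 F52978 D25829 F53013 (iv D25817) F41552 D21483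
theorem F53021 : act 1 n24043 = n25832 := d8_3 F53019 (iv F42897) (iv F48475)
def n25833 : Q := act 2 n21484
theorem D25833 : act 2 n21484 = n25833 := rfl
theorem F53022 : act 1 n25833 = n21489 := d6_1 D25833 (iv D21489) (iv D16260) (iv F28119) D21484
theorem F53023 : act 4 n25833 = n22063 := d12_2 (iv F41576) D25833 (iv D22063)
def n25834 : Q := act 6 n21484
theorem D25834 : act 6 n21484 = n25834 := rfl
theorem F53024 : act 1 n25834 = n24565 := d10_1 D25834 (iv D24565) F38288 (iv F28121) D21484
theorem F53025 : act 4 n25834 = n22064 := d19_1 D25834 (iv D22064) (iv F41576)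
theorem F53026 : act 5 n25834 = n21560 := d22_2 (iv F41738) D25834 (iv D21560) D21557
def n25835 : Q := act 3 n21485
theorem D25835 : act 3 n21485 = n25835 := rfl
theorem F53027 : act 0 n25835 = n24609 := d2_1 D25835 F49951 (iv F41577)
theorem F53028 : act 5 n25835 = n24604 := d16_2 (iv F41579) D25835 (iv D24604)
def n25836 : Q := act 3 n21486
theorem D25836 : act 3 n21486 = n25836 := rfl
theorem F53029 : act 0 n25836 = n21487 := d2_1 D25836 (iv D21487) (iv F41580)
theorem F53030 : act 5 n25836 = n24647 := d16_2 (iv F41582) D25836 (iv D24647)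
theorem F53031 : act 6 n25836 = n21513 := d17_2 (iv F41583) D25836 (iv D21513)
def n25837 : Q := act 2 n21487
theorem D25837 : act 2 n21487 = n25837 := rfl
theorem F53032 : act 6 n25837 = n21515 := d14_2 (iv F41584) D25837 (iv D21515)
def n25838 : Q := act 4 n21487
theorem D25838 : act 4 n21487 = n25838 := rfl
theorem F53033 : act 3 n25838 = n22067 := d15_1 D25838 (iv D22067) (iv D16793) (iv F28128) D21487
theorem F53034 : act 6 n25838 = n21516 := d19_2 (iv F41584) D25838 (iv D21516)
def n25839 : Q := act 5 n21487
theorem D25839 : act 5 n21487 = n25839 := rfl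
theorem F53035 : act 0 n25839 = n24647 := d4_1 D25839 (iv F53030) F53029
theorem F53036 : act 3 n25839 = n21488 := d16_1 D25839 (iv D21488) D21487
def n25840 : Q := act 1 n21488
theorem D25840 : act 1 n21488 = n25840 := rfl
theorem F53037 : act 4 n25840 = n22069 := d8_2 (iv F41587) D25840 (iv D22069)
def n25841 : Q := act 3 n21489
theorem D25841 : act 3 n21489 = n25841 := rfl
theorem F53038 : act 0 n25841 = n21676 := d2_1 D25841 F41989 (iv F41588)
theorem F53039 : act 6 n25841 = n21673 := d17_2 (iv F41590) D25841 (iv D21673)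
def n25842 : Q := act 0 n21490
theorem D25842 : act 0 n21490 = n25842 := rfl
theorem F53040 : act 4 n25842 = n22076 := d3_2 (iv F41591) D25842 (iv D22076)
theorem F53041 : act 6 n25842 = n25842 := d5_2 F41592 D25842 (iv D25842)
theorem F53042 : act 1 n21796 = n25842 := d8_3 F53040 F42940 (iv F42256)
theorem F53043 : act 5 n21505 = n25842 := d18_0 F53040 F42938 (iv F41622)
def n25843 : Q := act 2 n21490
theorem D25843 : act 2 n21490 = n25843 := rfl
theorem F53044 : act 1 n25843 = n24340 := d6_1 D25843 F50409 (iv D24802) F38660 D21490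
theorem F53045 : act 4 n25843 = n22077 := d12_2 (iv F41591) D25843 (iv D22077)
theorem F53046 : act 6 n25843 = n25843 := d14_2 F41592 D25843 (iv D25843)
def n25844 : Q := act 5 n21490
theorem D25844 : act 5 n21490 = n25844 := rfl
theorem F53047 : act 0 n25844 = n21505 := d4_1 D25844 F53043 (iv D25842)
theorem F53048 : act 1 n25844 = n21541 := d9_1 D25844 (iv F42665) (iv D21495) F28144 D21490
theorem F53049 : act 4 n25844 = n22078 := d18_1 D25844 (iv D22078) (iv F41591)
theorem F53050 : act 6 n25844 = n21505 := d22_1 D25844 F53043 F53041 (iv D25842)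
def n25845 : Q := act 1 n21491
theorem D25845 : act 1 n21491 = n25845 := rfl
theorem F53051 : act 3 n25845 = n22085 := d7_2 (iv F41593) D25845 (iv D22085)
theorem F53052 : act 4 n25845 = n21493 := d8_2 (iv F41594) D25845 (iv D21493)
theorem F53053 : act 6 n25845 = n21501 := d10_2 D21491 D25845 (iv D21501) (iv D16272) (iv F28139)
def n25846 : Q := act 1 n21492
theorem D25846 : act 1 n21492 = n25846 := rfl
theorem F53054 : act 3 n25846 = n21495 := d7_2 (iv F41596) D25846 (iv D21495)
def n25847 : Q := act 0 n21493
theorem D25847 : act 0 n21493 = n25847 := rfl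
theorem F53055 : act 3 n25847 = n21496 := d2_2 (iv F41598) D25847 (iv D21496)
theorem F53056 : act 6 n25847 = n21502 := d5_2 (iv F41599) D25847 (iv D21502)
def n25848 : Q := act 2 n21493
theorem D25848 : act 2 n21493 = n25848 := rfl
theorem F53057 : act 6 n25848 = n21503 := d14_2 (iv F41599) D25848 (iv D21503)
def n25849 : Q := act 2 n21495
theorem D25849 : act 2 n21495 = n25849 := rfl
theorem F53058 : act 0 n25849 = n24635 := d1_1 D25849 (iv F50002) F42666
theorem F53059 : act 4 n25849 = n22089 := d12_2 (iv F41605) D25849 (iv D22089)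
theorem F53060 : act 6 n25849 = n23023 := d14_2 F52298 D25849 (iv F52295)
def n25850 : Q := act 1 n21496
theorem D25850 : act 1 n21496 = n25850 := rfl
theorem F53061 : act 0 n25850 = n21544 := d0_1 D25850 F41705 (iv F42254) F53042 (iv D25842) (iv D21490) F28137 D16267 D21496
theorem F53062 : act 4 n25850 = n22090 := d8_2 (iv F41606) D25850 (iv D22090)
theorem F53063 : act 6 n25850 = n21541 := d10_2 (iv F41607) D25850 (iv F53048) F53050 (iv D21505)
theorem F53064 : act 2 n23050 = n25850 := d12_3 F53062 (iv F42975) (iv F45726)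
def n25851 : Q := act 2 n21496
theorem D25851 : act 2 n21496 = n25851 := rfl
theorem F53065 : act 0 n25851 = n21497 := d1_1 D25851 (iv D21497) D21496
theorem F53066 : act 1 n25851 = n24143 := d6_1 D25851 F48711 (iv F45725) F53064 (iv D25850)
theorem F53067 : act 4 n25851 = n22091 := d12_2 (iv F41606) D25851 (iv D22091)
theorem F53068 : act 5 n25851 = n22519 := d13_2 F41634 D25851 F44104
theorem F53069 : act 6 n25851 = n21506 := d14_2 (iv F41607) D25851 (iv D21506)
def n25852 : Q := act 3 n21497
theorem D25852 : act 3 n21497 = n25852 := rfl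
theorem F53070 : act 6 n25852 = n21508 := d17_2 (iv F41609) D25852 (iv D21508)
def n25853 : Q := act 0 n21501
theorem D25853 : act 0 n21501 = n25853 := rfl
theorem F53071 : act 3 n25853 = n22093 := d2_2 (iv F41617) D25853 (iv D22093)
theorem F53072 : act 4 n25853 = n21502 := d3_2 (iv F41618) D25853 (iv D21502)
theorem F53073 : act 5 n25853 = n22843 := d23_4 D18266 F31964 D21501 D25853 F45129 (iv D22425) (iv D17128) D17130 F30088 (iv F25844) (iv F37981) (iv D20093) D20091 F37974 (iv F35176) D21916 F45006 (iv D22816) F31956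
def n25854 : Q := act 5 n21501
theorem D25854 : act 5 n21501 = n25854 := rfl
theorem F53074 : act 0 n25854 = n22843 := d4_1 D25854 (iv F53073) (iv D25853)
theorem F53075 : act 1 n25854 = n25489 := d9_1 D25854 (iv D25489) (iv D21258) (iv F28162) D21501
theorem F53076 : act 3 n25854 = n22094 := d16_1 D25854 (iv D22094) (iv F41617)
theorem F53077 : act 4 n25854 = n21504 := d18_1 D25854 (iv D21504) (iv F41618)
def n25855 : Q := act 1 n21502
theorem D25855 : act 1 n21502 = n25855 := rfl
theorem F53078 : act 3 n25855 = n21505 := d7_2 (iv F41619) D25855 (iv D21505)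
def n25856 : Q := act 2 n21502
theorem D25856 : act 2 n21502 = n25856 := rfl
theorem F53079 : act 0 n25856 = n21503 := d1_1 D25856 (iv D21503) D21502
def n25857 : Q := act 5 n21502
theorem D25857 : act 5 n21502 = n25857 := rfl
theorem F53080 : act 0 n25857 = n21504 := d4_1 D25857 (iv D21504) D21502
theorem F53081 : act 3 n25857 = n21507 := d16_1 D25857 (iv D21507) (iv F41619)
theorem F53082 : act 4 n25857 = n22843 := d18_1 D25857 (iv F53073) F53072
theorem F53083 : act 6 n25857 = n25378 := d22_1 D25857 F52070 F41599 D21502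
theorem F53084 : act 1 n22831 = n25857 := d10_5 F53083 (iv D25378) (iv D21168) (iv F32028) D22831
def n25858 : Q := act 3 n21503
theorem D25858 : act 3 n21503 = n25858 := rfl
def n25859 : Q := act 5 n21503
theorem D25859 : act 5 n21503 = n25859 := rfl
theorem F53085 : act 2 n25859 = n21504 := d13_1 D25859 (iv D21504) D21503
def n25860 : Q := act 6 n21504
theorem D25860 : act 6 n21504 = n25860 := rfl
theorem F53086 : act 0 n25860 = n25378 := d5_1 D25860 (iv F53083) F53080
theorem F53087 : act 3 n25860 = n21510 := d17_1 D25860 (iv D21510) (iv F41621)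
theorem F53088 : act 5 n25860 = n25847 := d20_1 D25860 F53056 D25857 F53083 F52070 F41599 D21504
theorem F53089 : act 1 n21538 = n25860 := d7_3 F53087 (iv F41635) (iv F41698)
def n25861 : Q := act 2 n21505
theorem D25861 : act 2 n21505 = n25861 := rfl
theorem F53090 : act 4 n25861 = n22098 := d12_2 (iv F41622) D25861 (iv D22098)
def n25862 : Q := act 1 n21506
theorem D25862 : act 1 n21506 = n25862 := rfl
theorem F53091 : act 4 n25862 = n22099 := d8_2 (iv F41624) D25862 (iv D22099)
theorem F53092 : act 6 n25862 = n24140 := d10_2 F53069 D25862 (iv D24140) D24143 (iv F53066)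
def n25863 : Q := act 3 n21506
theorem D25863 : act 3 n21506 = n25863 := rfl
theorem F53093 : act 0 n25863 = n21508 := d2_1 D25863 (iv D21508) (iv F41623)
def n25864 : Q := act 5 n21506
theorem D25864 : act 5 n21506 = n25864 := rfl
theorem F53094 : act 0 n25864 = n21509 := d4_1 D25864 (iv D21509) (iv F41623)
theorem F53095 : act 2 n25864 = n21507 := d13_1 D25864 (iv D21507) D21506
theorem F53096 : act 4 n25864 = n22101 := d18_1 D25864 (iv D22101) (iv F41624)
theorem F53097 : act 6 n25864 = n25379 := d20_2 F53069 D25864 F52074 F41609 D21509 (iv F44105) (iv F53068)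
def n25865 : Q := act 2 n21508
theorem D25865 : act 2 n21508 = n25865 := rfl
def n25866 : Q := act 4 n21508
theorem D25866 : act 4 n21508 = n25866 := rfl
theorem F53098 : act 1 n25866 = n21516 := d8_1 D25866 (iv D21516) (iv F41629)
theorem F53099 : act 3 n25866 = n22103 := d15_1 D25866 (iv D22103) (iv D16823) (iv F28166) D21508
def n25867 : Q := act 5 n21508
theorem D25867 : act 5 n21508 = n25867 := rfl
theorem F53100 : act 3 n25867 = n21509 := d16_1 D25867 (iv D21509) D21508
def n25868 : Q := act 3 n21511
theorem D25868 : act 3 n21511 = n25868 := rfl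
theorem F53101 : act 6 n25868 = n25296 := d17_2 (iv F41637) D25868 F51908
def n25869 : Q := act 3 n21512
theorem D25869 : act 3 n21512 = n25869 := rfl
theorem F53102 : act 1 n25869 = n21513 := d7_1 D25869 (iv D21513) D21512
def n25870 : Q := act 2 n21513
theorem D25870 : act 2 n21513 = n25870 := rfl
theorem F53103 : act 0 n25870 = n21515 := d1_1 D25870 (iv D21515) (iv F41639)
theorem F53104 : act 3 n25870 = n25616 := d21_1 D25870 (iv D25616) (iv D21343) (iv D16165) F21442 D12211 D16280 (iv F41639)
def n25871 : Q := act 4 n21513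
theorem D25871 : act 4 n21513 = n25871 := rfl
theorem F53105 : act 0 n25871 = n21516 := d3_1 D25871 (iv D21516) (iv F41639)
theorem F53106 : act 3 n25871 = n22106 := d15_1 D25871 (iv D22106) (iv D16828) (iv F28172) D21513
def n25872 : Q := act 5 n21513
theorem D25872 : act 5 n21513 = n25872 := rfl
theorem F53107 : act 0 n25872 = n21517 := d4_1 D25872 (iv D21517) (iv F41639)
theorem F53108 : act 3 n25872 = n21514 := d16_1 D25872 (iv D21514) D21513
theorem F53109 : act 6 n25872 = n25839 := d20_2 F53031 D25872 (iv D25839) F41584 D21517 (iv F50040) (iv F53030)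
def n25873 : Q := act 1 n21514
theorem D25873 : act 1 n21514 = n25873 := rfl
theorem F53110 : act 2 n25873 = n21644 := d6_2 (iv F41641) D25873 (iv D21644) F28329 F28176
theorem F53111 : act 4 n25873 = n22108 := d8_2 (iv F41642) D25873 (iv D22108)
def n25874 : Q := act 1 n21515
theorem D25874 : act 1 n21515 = n25874 := rfl
def n25875 : Q := act 3 n21515
theorem D25875 : act 3 n21515 = n25875 := rfl
theorem F53112 : act 0 n25875 = n25616 := d2_1 D25875 (iv F53104) F53103
theorem F53113 : act 2 n25875 = n25614 := d11_1 D25875 (iv D25614) (iv D21341) F27976 D16278 D21513 D25870 F53104 (iv D25616) (iv D21343) (iv D16165) F21442 D12211 D16280 D21515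
def n25876 : Q := act 4 n21515
theorem D25876 : act 4 n21515 = n25876 := rfl
theorem F53114 : act 2 n25876 = n21516 := d12_1 D25876 (iv D21516) D21515
def n25877 : Q := act 5 n21515
theorem D25877 : act 5 n21515 = n25877 := rfl
theorem F53115 : act 2 n25877 = n21517 := d13_1 D25877 (iv D21517) D21515
def n25878 : Q := act 5 n21516
theorem D25878 : act 5 n21516 = n25878 := rfl
theorem F53116 : act 3 n25878 = n22112 := d16_1 D25878 (iv D22112) (iv F41644)
theorem F53117 : act 4 n25878 = n21517 := d18_1 D25878 (iv D21517) D21516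
def n25879 : Q := act 1 n21517
theorem D25879 : act 1 n21517 = n25879 := rfl
theorem F53118 : act 3 n25879 = n21518 := d7_2 (iv F41645) D25879 (iv D21518)
def n25880 : Q := act 0 n21518
theorem D25880 : act 0 n21518 = n25880 := rfl
theorem F53119 : act 2 n25880 = n25508 := d1_2 (iv F41646) D25880 (iv D25508)
theorem F53120 : act 4 n25880 = n22113 := d3_2 (iv F41647) D25880 (iv D22113)
theorem F53121 : act 5 n25880 = n24065 := d4_2 (iv F44119) D25880 (iv F48518)
theorem F53122 : act 6 n22524 = n25880 := d22_3 F44119 (iv D22525) D22524 (iv D25880)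
theorem F53123 : act 1 n21814 = n25880 := d23_2 D16477 (iv F42299) (iv D25880) F44119 (iv F52318) (iv D25495) (iv F41248) (iv D21325) F27951 (iv D16012) (iv F27673) F27676 F27597 D15961 (iv F38377) (iv F40755) (iv F42317) (iv D21825) F28564
def n25881 : Q := act 6 n21518
theorem D25881 : act 6 n21518 = n25881 := rfl
theorem F53124 : act 0 n25881 = n22524 := d5_1 D25881 F53122 (iv D25880)
theorem F53125 : act 2 n25881 = n25498 := d14_1 D25881 F52324 (iv F41646)
theorem F53126 : act 4 n25881 = n22114 := d19_1 D25881 (iv D22114) (iv F41647)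
theorem F53127 : act 5 n25881 = n22520 := d20_1 D25881 F48519 (iv F53121) (iv F53122) (iv D22524) D22525 (iv F44119)
def n25882 : Q := act 5 n21519
theorem D25882 : act 5 n21519 = n25882 := rfl
theorem F53128 : act 0 n25882 = n21524 := d4_1 D25882 (iv D21524) (iv F41648)
theorem F53129 : act 2 n25882 = n24915 := d13_1 D25882 (iv D24915) (iv F41649)
theorem F53130 : act 3 n25882 = n21520 := d16_1 D25882 (iv D21520) D21519
theorem F53131 : act 4 n25882 = n23102 := d18_1 D25882 (iv F45928) F45927
def n25883 : Q := act 6 n21519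
theorem D25883 : act 6 n21519 = n25883 := rfl
theorem F53132 : act 0 n25883 = n21525 := d5_1 D25883 (iv D21525) (iv F41648)
theorem F53133 : act 2 n25883 = n24916 := d14_1 D25883 (iv D24916) (iv F41649)
theorem F53134 : act 3 n25883 = n21521 := d17_1 D25883 (iv D21521) D21519
def n25884 : Q := act 5 n21522
theorem D25884 : act 5 n21522 = n25884 := rfl
theorem F53135 : act 0 n25884 = n24915 := d4_1 D25884 (iv D24915) (iv F41655)
theorem F53136 : act 1 n25884 = n24510 := d9_1 D25884 (iv D24510) (iv F38537) (iv F41272) (iv F41656)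
theorem F53137 : act 2 n25884 = n21524 := d13_1 D25884 (iv D21524) D21522
theorem F53138 : act 3 n25884 = n24907 := d16_1 D25884 (iv D24907) (iv F41657)
theorem F53139 : act 4 n25884 = n23103 := d18_1 D25884 (iv F49850) (iv F49852)
def n25885 : Q := act 6 n21522
theorem D25885 : act 6 n21522 = n25885 := rfl
theorem F53140 : act 0 n25885 = n24916 := d5_1 D25885 (iv D24916) (iv F41655)
theorem F53141 : act 2 n25885 = n21525 := d14_1 D25885 (iv D21525) D21522
theorem F53142 : act 3 n25885 = n24908 := d17_1 D25885 (iv D24908) (iv F41657)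
def n25886 : Q := act 6 n21523
theorem D25886 : act 6 n21523 = n25886 := rfl
theorem F53143 : act 3 n25886 = n21686 := d17_1 D25886 F42017 (iv F41659)
theorem F53144 : act 4 n25886 = n21525 := d19_1 D25886 (iv D21525) D21523
theorem F53145 : act 5 n25886 = n21690 := d22_2 F41660 D25886 F45883 (iv D23102)
theorem F53146 : act 1 n21683 = n25886 := d24_14 (iv D25886) (iv F41660) (iv D18738) (iv F24053) (iv D13700) D13699 F24050 D13703 F24055 D18215 F31880 (iv F42006) (iv D21684) D21683
def n25887 : Q := act 6 n21524
theorem D25887 : act 6 n21524 = n25887 := rfl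
theorem F53147 : act 3 n25887 = n21527 := d17_1 D25887 (iv D21527) (iv F41662)
theorem F53148 : act 4 n25887 = n23104 := d19_1 D25887 (iv D23104) (iv F41663)
theorem F53149 : act 5 n25887 = n25883 := d22_2 D21524 D25887 (iv D25883) F41648
def n25888 : Q := act 1 n21525
theorem D25888 : act 1 n21525 = n25888 := rfl
theorem F53150 : act 3 n25888 = n21528 := d7_2 (iv F41664) D25888 (iv D21528)
theorem F53151 : act 4 n25888 = n21683 := d8_2 F53144 D25888 F53146
theorem F53152 : act 6 n25888 = n21531 := d10_2 D21525 D25888 (iv D21531) (iv D16288) (iv F28180)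
theorem F53153 : act 5 n21682 = n25888 := d24_1 F42004 (iv D25888) (iv D21525) D21524 F41661 (iv F31864) (iv D18211) (iv F24076) (iv D13711) (iv F24068) (iv D13707) D13708 F24071 D18743
def n25889 : Q := act 5 n21525
theorem D25889 : act 5 n21525 = n25889 := rfl
theorem F53154 : act 0 n25889 = n25887 := d4_1 D25889 F53149 F53132
theorem F53155 : act 1 n25889 = n21689 := d9_1 D25889 (iv D21689) (iv F42002) F53153 (iv D25888)
theorem F53156 : act 3 n25889 = n21529 := d16_1 D25889 (iv D21529) (iv F41664)
theorem F53157 : act 4 n25889 = n21690 := d18_1 D25889 (iv F53145) F53144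
theorem F53158 : act 6 n25889 = n25882 := d20_2 D21525 D25889 (iv D25882) D25883 (iv F53149) (iv D25887) (iv D21524)
def n25890 : Q := act 1 n21530
theorem D25890 : act 1 n21530 = n25890 := rfl
theorem F53159 : act 3 n25890 = n21687 := d7_2 (iv F41684) D25890 F42018
theorem F53160 : act 4 n25890 = n21531 := d8_2 (iv F41685) D25890 (iv D21531)
theorem F53161 : act 6 n25890 = n21683 := d10_2 D21530 D25890 F53146 (iv D25886) F41658
def n25891 : Q := act 2 n21531
theorem D25891 : act 2 n21531 = n25891 := rfl
theorem F53162 : act 1 n25891 = n25609 := d6_1 D25891 (iv D25609) (iv D21336) (iv F28194) D21531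
def n25892 : Q := act 2 n21532
theorem D25892 : act 2 n21532 = n25892 := rfl
theorem F53163 : act 1 n25892 = n21539 := d6_1 D25892 (iv D21539) (iv D16296) (iv F28200) D21532
theorem F53164 : act 4 n25892 = n21916 := d12_2 F45002 D25892 F45006
theorem F53165 : act 5 n25892 = n21915 := d13_2 (iv F45853) D25892 F45852
def n25893 : Q := act 1 n21533
theorem D25893 : act 1 n21533 = n25893 := rfl
theorem F53166 : act 2 n25893 = n23734 := d6_2 F44956 D25893 (iv D23734) F36102 (iv F44960)
theorem F53167 : act 3 n25893 = n22125 := d7_2 (iv F41687) D25893 (iv D22125)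
theorem F53168 : act 4 n25893 = n21536 := d8_2 (iv F41688) D25893 (iv D21536)
theorem F53169 : act 6 n25893 = n22844 := d10_2 (iv F41689) D25893 (iv D22844) F32165 F32125
def n25894 : Q := act 1 n21534
theorem D25894 : act 1 n21534 = n25894 := rfl
theorem F53170 : act 2 n25894 = n23596 := d6_2 (iv F41690) D25894 (iv D23596) F35758 D19187
theorem F53171 : act 3 n25894 = n22126 := d7_2 (iv F41691) D25894 (iv D22126)
theorem F53172 : act 4 n25894 = n21537 := d8_2 (iv F41692) D25894 (iv D21537)
theorem F53173 : act 5 n25894 = n21535 := d9_2 D21534 D25894 (iv D21535) (iv D16293) D16292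
def n25895 : Q := act 0 n21535
theorem D25895 : act 0 n21535 = n25895 := rfl
theorem F53174 : act 3 n25895 = n22127 := d2_2 (iv F41693) D25895 (iv D22127)
theorem F53175 : act 4 n25895 = n21538 := d3_2 (iv F41694) D25895 (iv D21538)
theorem F53176 : act 6 n25895 = n22529 := d5_2 F47167 D25895 F47168
theorem F53177 : act 2 n22532 = n25895 := d14_3 F53176 (iv D22529) D22532
def n25896 : Q := act 2 n21535
theorem D25896 : act 2 n21535 = n25896 := rfl
theorem F53178 : act 0 n25896 = n22532 := d1_1 D25896 F53177 (iv D25895)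
theorem F53179 : act 1 n25896 = n21916 := d6_1 D25896 F45006 (iv D22816) F31957 D21535
theorem F53180 : act 4 n25896 = n21539 := d12_2 (iv F41694) D25896 (iv D21539)
theorem F53181 : act 5 n25896 = n23596 := d13_2 F53173 D25896 (iv F53170)
theorem F53182 : act 6 n25896 = n22410 := d14_2 F47167 D25896 (iv F47164)
theorem F53183 : act 3 n25896 = n21917 := d25_3 (iv F29731) (iv F41693) D25896 F42511 (iv F35579) (iv F42568) (iv F43864) F43865 (iv F39616) (iv F43170) (iv D22159) F29759 D16875 D22166 (iv F47228) F47229 F35922 (iv F29213) (iv D14016) (iv D11013) F12234 F5992 F3039 (iv F3051) D3956 F6029 (iv F6119) (iv F32759) F32760 F32722 (iv D1972) F1698 F942 F500 (iv F263) (iv D126) (iv F246) (iv F484) (iv F902) F15458 D925 F1638 D959 D1956 F32642 F16713 (iv F1864) (iv F16822) F1177 D680 D1366 (iv F4283) D5695 D10323 D12813 (iv F32708) (iv F40014) (iv D20849) (iv D15580) (iv F27052) D20847 F40011 F32974 (iv D17426) (iv D12865) F18255 D10460 F34401 D17607 F39826 (iv D15195) (iv D11636) (iv F20622) (iv F26469) F26470 F22033 D12545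
def n25897 : Q := act 0 n21536
theorem D25897 : act 0 n21536 = n25897 := rfl
theorem F53184 : act 3 n25897 = n21541 := d2_2 (iv F41695) D25897 (iv D21541)
theorem F53185 : act 5 n25846 = n25897 := d16_0 F53184 (iv F42665) (iv F53054)
def n25898 : Q := act 2 n21536
theorem D25898 : act 2 n21536 = n25898 := rfl
theorem F53186 : act 1 n25898 = n23735 := d6_1 D25898 F47439 F46256 F41654 D21536
theorem F53187 : act 4 n25898 = n23734 := d12_2 F53168 D25898 (iv F53166)
def n25899 : Q := act 5 n21536
theorem D25899 : act 5 n21536 = n25899 := rfl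
theorem F53188 : act 0 n25899 = n25846 := d4_1 D25899 F53185 (iv D25897)
theorem F53189 : act 3 n25899 = n21543 := d16_1 D25899 (iv D21543) (iv F41695)
def n25900 : Q := act 6 n21536
theorem D25900 : act 6 n21536 = n25900 := rfl
theorem F53190 : act 1 n25900 = n21792 := d10_1 D25900 (iv D21792) (iv D16451) (iv F28210) D21536
theorem F53191 : act 3 n25900 = n21544 := d17_1 D25900 (iv D21544) (iv F41695)
theorem F53192 : act 4 n25900 = n22844 := d19_1 D25900 (iv F53169) F53168
def n25901 : Q := act 0 n21537
theorem D25901 : act 0 n21537 = n25901 := rfl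
theorem F53193 : act 3 n25901 = n21545 := d2_2 (iv F41696) D25901 (iv D21545)
theorem F53194 : act 5 n25901 = n21538 := d4_2 (iv F41697) D25901 (iv D21538)
def n25902 : Q := act 2 n21537
theorem D25902 : act 2 n21537 = n25902 := rfl
theorem F53195 : act 1 n25902 = n23277 := d6_1 D25902 F46291 (iv F41678) F41679 D21537
theorem F53196 : act 4 n25902 = n23596 := d12_2 F53172 D25902 (iv F53170)
theorem F53197 : act 5 n25902 = n21539 := d13_2 (iv F41697) D25902 (iv D21539)
def n25903 : Q := act 2 n21538
theorem D25903 : act 2 n21538 = n25903 := rfl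
theorem F53198 : act 0 n25903 = n21539 := d1_1 D25903 (iv D21539) D21538
theorem F53199 : act 4 n25903 = n22532 := d12_2 F53175 D25903 F53177
theorem F53200 : act 1 n23427 = n25903 := d8_3 F53199 F44128 (iv F46639)
theorem F53201 : act 6 n22530 = n25903 := d19_0 F53199 (iv D22532) D22530
def n25904 : Q := act 6 n21538
theorem D25904 : act 6 n21538 = n25904 := rfl
theorem F53202 : act 0 n25904 = n21540 := d5_1 D25904 (iv D21540) D21538
theorem F53203 : act 1 n25904 = n25387 := d10_1 D25904 F52100 (iv F41620) D25860 (iv F53089)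
theorem F53204 : act 2 n25904 = n22530 := d14_1 D25904 F53201 (iv D25903)
theorem F53205 : act 3 n25904 = n21548 := d17_1 D25904 (iv D21548) (iv F41698)
theorem F53206 : act 4 n25904 = n22529 := d19_1 D25904 (iv F53176) F53175
theorem F53207 : act 5 n25904 = n25388 := d22_2 F53194 D25904 F52102 D25901
def n25905 : Q := act 3 n21539
theorem D25905 : act 3 n21539 = n25905 := rfl
def n25906 : Q := act 6 n21539
theorem D25906 : act 6 n21539 = n25906 := rfl
theorem F53208 : act 0 n25906 = n22530 := d5_1 D25906 F53201 F53198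
theorem F53209 : act 2 n25906 = n21540 := d14_1 D25906 (iv D21540) D21539
theorem F53210 : act 4 n25906 = n22410 := d19_1 D25906 (iv F53182) F53180
theorem F53211 : act 1 n22412 = n25906 := d8_3 F53210 F43846 D22412
def n25907 : Q := act 5 n21540
theorem D25907 : act 5 n21540 = n25907 := rfl
theorem F53212 : act 0 n25907 = n25388 := d4_1 D25907 (iv F53207) F53202
theorem F53213 : act 3 n25907 = n21551 := d16_1 D25907 (iv D21551) (iv F41700)
theorem F53214 : act 6 n25907 = n25901 := d20_2 D21540 D25907 F53194 D25904 F53207 F52102 F41697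
def n25908 : Q := act 2 n21541
theorem D25908 : act 2 n21541 = n25908 := rfl
theorem F53215 : act 0 n25908 = n21542 := d1_1 D25908 (iv D21542) D21541
theorem F53216 : act 4 n25908 = n22137 := d12_2 (iv F41701) D25908 (iv D22137)
theorem F53217 : act 5 n25908 = n25849 := d13_2 F42665 D25908 (iv D25849)
theorem F53218 : act 6 n25908 = n23050 := d14_2 F53063 D25908 F53064
theorem F53219 : act 1 n24883 = n25908 := d10_5 F53218 F45725 (iv D20427) D20426 D24883
def n25909 : Q := act 3 n21542
theorem D25909 : act 3 n21542 = n25909 := rfl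
theorem F53220 : act 4 n25909 = n22964 := d15_2 (iv F41702) D25909 F45454 F32391 (iv F34915)
theorem F53221 : act 6 n25909 = n22961 := d17_2 F41703 D25909 F45449
def n25910 : Q := act 6 n21543
theorem D25910 : act 6 n21543 = n25910 := rfl
theorem F53222 : act 0 n25910 = n25485 := d5_1 D25910 F52298 (iv F42666)
theorem F53223 : act 4 n25910 = n22138 := d19_1 D25910 (iv D22138) (iv F41704)
theorem F53224 : act 5 n25910 = n25850 := d20_1 D25910 F53063 (iv F42665) (iv F52298) F52297 (iv D21544) D21543
theorem F53225 : act 1 n21545 = n25910 := d24_14 (iv D25910) (iv D21543) (iv D16297) F21552 D12300 (iv F27595) (iv F27687) (iv D16013) D16012 F27683 D21176 (iv F41716) (iv D21548) (iv F41709)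
def n25911 : Q := act 2 n21545
theorem D25911 : act 2 n21545 = n25911 := rfl
theorem F53226 : act 0 n25911 = n21546 := d1_1 D25911 (iv D21546) D21545
theorem F53227 : act 4 n25911 = n22148 := d12_2 (iv F41708) D25911 (iv D22148)
theorem F53228 : act 5 n25911 = n21547 := d13_2 (iv F41709) D25911 (iv D21547)
theorem F53229 : act 1 n24455 = n25911 := d9_5 F53228 (iv F41714) F30491 (iv F38010) D24455
def n25912 : Q := act 3 n21546
theorem D25912 : act 3 n21546 = n25912 := rfl
theorem F53230 : act 4 n25912 = n23515 := d15_2 (iv F41710) D25912 (iv F51452) F51453 (iv D22149)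
theorem F53231 : act 5 n25912 = n21549 := d16_2 (iv F41711) D25912 (iv D21549)
theorem F53232 : act 6 n25912 = n23137 := d17_2 (iv F50397) D25912 (iv F50395)
def n25913 : Q := act 6 n21547
theorem D25913 : act 6 n21547 = n25913 := rfl
theorem F53233 : act 0 n25913 = n21550 := d5_1 D25913 (iv D21550) (iv F41712)
theorem F53234 : act 2 n25913 = n21548 := d14_1 D25913 (iv D21548) D21547
theorem F53235 : act 4 n25913 = n22150 := d19_1 D25913 (iv D22150) (iv F41713)
theorem F53236 : act 5 n25913 = n24799 := d22_2 F53228 D25913 (iv F50397) (iv F53226)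
def n25914 : Q := act 2 n21549
theorem D25914 : act 2 n21549 = n25914 := rfl
theorem F53237 : act 1 n25914 = n23388 := d6_1 D25914 (iv F46641) (iv F46646) (iv D21577) (iv F41719)
theorem F53238 : act 4 n25914 = n23681 := d12_2 (iv F47416) D25914 (iv F47412)
def n25915 : Q := act 6 n21549
theorem D25915 : act 6 n21549 = n25915 := rfl
theorem F53239 : act 3 n25915 = n21550 := d17_1 D25915 (iv D21550) D21549
theorem F53240 : act 4 n25915 = n25143 := d19_1 D25915 F51403 (iv F47416)
theorem F53241 : act 5 n25142 = n25915 := d22_0 (iv D25915) (iv F53231) F53232 (iv F51397)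
theorem F53242 : act 1 n25915 = n25253 := d9_1 F53241 (iv D25253) F40470 (iv F39899) (iv F51398)
def n25916 : Q := act 1 n21550
theorem D25916 : act 1 n21550 = n25916 := rfl
theorem F53243 : act 2 n25916 = n24020 := d6_2 (iv F41720) D25916 (iv D24020) F37083 (iv F28219)
theorem F53244 : act 3 n25916 = n25253 := d7_2 F53239 D25916 (iv F53242)
theorem F53245 : act 4 n25916 = n22154 := d8_2 (iv F41721) D25916 (iv D22154)
theorem F53246 : act 6 n25916 = n21580 := d10_2 D21550 D25916 (iv D21580) (iv D16318) (iv F28217)
theorem F53247 : act 0 n24087 = n25916 := d5_3 F53246 (iv F48032) (iv F48579)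
theorem F53248 : act 5 n25243 = n25916 := d18_0 F53245 (iv F43155) D25243
def n25917 : Q := act 5 n21550
theorem D25917 : act 5 n21550 = n25917 := rfl
theorem F53249 : act 0 n25917 = n24799 := d4_1 D25917 (iv F53236) F53233
theorem F53250 : act 1 n25917 = n22569 := d9_1 D25917 F44222 (iv F51752) F53248 (iv D25916)
theorem F53251 : act 2 n25917 = n21551 := d13_1 D25917 (iv D21551) (iv F41720)
theorem F53252 : act 3 n25917 = n25142 := d16_1 D25917 F53241 F53239
theorem F53253 : act 4 n25917 = n22155 := d18_1 D25917 (iv D22155) (iv F41721)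
theorem F53254 : act 6 n25917 = n25911 := d20_2 D21550 D25917 F53228 D25913 F53236 (iv F50397) F41711
def n25918 : Q := act 1 n21551
theorem D25918 : act 1 n21551 = n25918 := rfl
theorem F53255 : act 0 n25918 = n21801 := d0_1 D25918 F42271 F42666 (iv D21495) (iv F28147) (iv F29359) (iv F27684) D21177 (iv F41722)
theorem F53256 : act 4 n25918 = n22156 := d8_2 (iv F41723) D25918 (iv D22156)
theorem F53257 : act 5 n25918 = n21799 := d9_2 D21551 D25918 (iv F43068) (iv D21255) (iv F28219)
theorem F53258 : act 6 n25918 = n21801 := d10_2 (iv F41724) D25918 F42271 D25910 (iv F53225)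
def n25919 : Q := act 3 n21552
theorem D25919 : act 3 n21552 = n25919 := rfl
theorem F53259 : act 0 n25919 = n21554 := d2_1 D25919 (iv D21554) (iv F41725)
theorem F53260 : act 5 n25919 = n24471 := d16_2 (iv F41727) D25919 (iv D24471)
def n25920 : Q := act 0 n21553
theorem D25920 : act 0 n21553 = n25920 := rfl
theorem F53261 : act 2 n25920 = n21557 := d1_2 (iv F41728) D25920 (iv D21557)
theorem F53262 : act 4 n25920 = n22158 := d3_2 (iv F41729) D25920 (iv D22158)
theorem F53263 : act 5 n25920 = n25833 := d23_4 (iv D16304) D16303 D21553 D25920 (iv D25833) (iv D21484) F28118 F28116 F26192 D16245 (iv F38135) (iv D20149) F35281 (iv D14349) (iv F25049) (iv F25061) F25058 D14923 (iv F28224)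
def n25921 : Q := act 3 n21553
theorem D25921 : act 3 n21553 = n25921 := rfl
theorem F53264 : act 1 n25921 = n21554 := d7_1 D25921 (iv D21554) D21553
def n25922 : Q := act 5 n21553
theorem D25922 : act 5 n21553 = n25922 := rfl
theorem F53265 : act 0 n25922 = n25833 := d4_1 D25922 (iv F53263) (iv D25920)
theorem F53266 : act 2 n25922 = n21559 := d13_1 D25922 (iv D21559) (iv F41728)
theorem F53267 : act 4 n25922 = n22160 := d18_1 D25922 (iv D22160) (iv F41729)
def n25923 : Q := act 6 n21553
theorem D25923 : act 6 n21553 = n25923 := rfl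
theorem F53268 : act 2 n25923 = n21560 := d14_1 D25923 (iv D21560) (iv F41728)
theorem F53269 : act 4 n25923 = n22161 := d19_1 D25923 (iv D22161) (iv F41729)
def n25924 : Q := act 2 n21554
theorem D25924 : act 2 n21554 = n25924 := rfl
def n25925 : Q := act 4 n21554
theorem D25925 : act 4 n21554 = n25925 := rfl
theorem F53270 : act 3 n25925 = n22162 := d15_1 D25925 (iv D22162) (iv D16871) (iv F28223) D21554
theorem F53271 : act 5 n25869 = n25925 := d16_0 F53270 F43178 D25869
def n25926 : Q := act 5 n21554
theorem D25926 : act 5 n21554 = n25926 := rfl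
theorem F53272 : act 0 n25926 = n24471 := d4_1 D25926 (iv F53260) F53259
theorem F53273 : act 3 n25926 = n21555 := d16_1 D25926 (iv D21555) D21554
theorem F53274 : act 4 n25926 = n25869 := d18_1 D25926 F53271 (iv D25925)
theorem F53275 : act 1 n25871 = n25926 := d8_3 F53274 F53102 D25871
theorem F53276 : act 6 n25554 = n25926 := d17_0 F53273 (iv F41733) D25554
def n25927 : Q := act 6 n21554
theorem D25927 : act 6 n21554 = n25927 := rfl
theorem F53277 : act 3 n25927 = n21556 := d17_1 D25927 (iv D21556) D21554
def n25928 : Q := act 1 n21556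
theorem D25928 : act 1 n21556 = n25928 := rfl
theorem F53278 : act 0 n25928 = n25928 := d0_1 D25928 (iv D25928) F48687 (iv D24131) F37324 F25384 (iv F37324) D24131 (iv F48687)
theorem F53279 : act 2 n25928 = n21594 := d6_2 (iv F41734) D25928 (iv D21594) F28267 (iv F28227)
theorem F53280 : act 4 n25928 = n22163 := d8_2 (iv F41735) D25928 (iv D22163)
theorem F53281 : act 5 n25928 = n21594 := d9_2 F43830 D25928 (iv D21594) (iv F39808) (iv F43828)
def n25929 : Q := act 3 n21557
theorem D25929 : act 3 n21557 = n25929 := rfl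
theorem F53282 : act 0 n25929 = n21558 := d2_1 D25929 (iv D21558) D21557
theorem F53283 : act 1 n25929 = n25822 := d7_1 D25929 F52994 F41737
theorem F53284 : act 5 n25929 = n25823 := d16_2 F41738 D25929 F52995
def n25930 : Q := act 6 n21557
theorem D25930 : act 6 n21557 = n25930 := rfl
theorem F53285 : act 0 n25930 = n21560 := d5_1 D25930 (iv D21560) D21557
theorem F53286 : act 4 n25930 = n22165 := d19_1 D25930 (iv D22165) (iv F41736)
def n25931 : Q := act 2 n21558
theorem D25931 : act 2 n21558 = n25931 := rfl
def n25932 : Q := act 4 n21558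
theorem D25932 : act 4 n21558 = n25932 := rfl
theorem F53287 : act 1 n25932 = n21562 := d8_1 D25932 (iv D21562) (iv F41739)
theorem F53288 : act 3 n25932 = n22167 := d15_1 D25932 (iv D22167) (iv D16875) (iv F28229) D21558
def n25933 : Q := act 5 n21558
theorem D25933 : act 5 n21558 = n25933 := rfl
theorem F53289 : act 0 n25933 = n25823 := d4_1 D25933 (iv F53284) F53282
theorem F53290 : act 3 n25933 = n21559 := d16_1 D25933 (iv D21559) D21558
def n25934 : Q := act 6 n21558
theorem D25934 : act 6 n21558 = n25934 := rfl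
theorem F53291 : act 1 n25934 = n21603 := d10_1 D25934 (iv D21603) F28277 (iv F28231) (iv F41739)
theorem F53292 : act 3 n25934 = n21560 := d17_1 D25934 (iv D21560) D21558
def n25935 : Q := act 6 n21559
theorem D25935 : act 6 n21559 = n25935 := rfl
theorem F53293 : act 0 n25935 = n25834 := d5_1 D25935 (iv D25834) (iv F41740)
theorem F53294 : act 4 n25935 = n22170 := d19_1 D25935 (iv D22170) (iv F41741)
theorem F53295 : act 5 n25935 = n25930 := d20_1 D25935 (iv D25930) (iv F41738) D25834 F53026 (iv D21560) D21559
def n25936 : Q := act 1 n21561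
theorem D25936 : act 1 n21561 = n25936 := rfl
theorem F53296 : act 3 n25936 = n25652 := d7_2 (iv F41746) D25936 (iv D25652)
def n25937 : Q := act 4 n21561
theorem D25937 : act 4 n21561 = n25937 := rfl
theorem F53297 : act 0 n25937 = n21565 := d3_1 D25937 (iv D21565) (iv F41744)
theorem F53298 : act 2 n25937 = n21562 := d12_1 D25937 (iv D21562) D21561
theorem F53299 : act 6 n25937 = n21608 := d19_2 (iv F41745) D25937 (iv D21608)
def n25938 : Q := act 0 n21563
theorem D25938 : act 0 n21563 = n25938 := rfl
def n25939 : Q := act 3 n21563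
theorem D25939 : act 3 n21563 = n25939 := rfl
theorem F53300 : act 1 n25939 = n21564 := d7_1 D25939 (iv D21564) D21563
def n25940 : Q := act 4 n21563
theorem D25940 : act 4 n21563 = n25940 := rfl
theorem F53301 : act 1 n25940 = n21565 := d8_1 D25940 (iv D21565) D21563
def n25941 : Q := act 5 n21563
theorem D25941 : act 5 n21563 = n25941 := rfl
def n25942 : Q := act 6 n21563
theorem D25942 : act 6 n21563 = n25942 := rfl
theorem F53302 : act 1 n25942 = n21619 := d10_1 D25942 (iv D21619) (iv D16338) (iv F28232) D21563
theorem F53303 : act 2 n25942 = n24819 := d14_1 D25942 (iv F50656) F50655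
def n25943 : Q := act 4 n21564
theorem D25943 : act 4 n21564 = n25943 := rfl
theorem F53304 : act 0 n25943 = n25653 := d3_1 D25943 (iv D25653) (iv F41750)
theorem F53305 : act 2 n25943 = n25651 := d12_1 D25943 (iv D25651) (iv F41751)
theorem F53306 : act 6 n25943 = n21620 := d19_2 (iv F41752) D25943 (iv D21620)
def n25944 : Q := act 3 n21565
theorem D25944 : act 3 n21565 = n25944 := rfl
theorem F53307 : act 6 n25944 = n21622 := d17_2 (iv F41754) D25944 (iv D21622)
def n25945 : Q := act 5 n21565
theorem D25945 : act 5 n21565 = n25945 := rfl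
theorem F53308 : act 2 n25945 = n21567 := d13_1 D25945 (iv D21567) (iv F41753)
theorem F53309 : act 4 n25945 = n21566 := d18_1 D25945 (iv D21566) D21565
def n25946 : Q := act 1 n21566
theorem D25946 : act 1 n21566 = n25946 := rfl
def n25947 : Q := act 1 n21567
theorem D25947 : act 1 n21567 = n25947 := rfl
theorem F53310 : act 3 n25947 = n22180 := d7_2 (iv F41756) D25947 (iv D22180)
theorem F53311 : act 4 n25947 = n21568 := d8_2 (iv F41757) D25947 (iv D21568)
def n25948 : Q := act 0 n21568
theorem D25948 : act 0 n21568 = n25948 := rfl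
theorem F53312 : act 3 n25948 = n21569 := d2_2 (iv F41758) D25948 (iv D21569)
def n25949 : Q := act 2 n21568
theorem D25949 : act 2 n21568 = n25949 := rfl
def n25950 : Q := act 6 n21568
theorem D25950 : act 6 n21568 = n25950 := rfl
theorem F53313 : act 3 n25950 = n21571 := d17_1 D25950 (iv D21571) (iv F41758)
def n25951 : Q := act 1 n21569
theorem D25951 : act 1 n21569 = n25951 := rfl
theorem F53314 : act 4 n25951 = n22183 := d8_2 (iv F41759) D25951 (iv D22183)
theorem F53315 : act 5 n25951 = n24044 := d9_2 F50676 D25951 F48476 D24048 F50677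
theorem F53316 : act 2 n24045 = n25951 := d13_3 F53315 (iv D24044) D24045
def n25952 : Q := act 2 n21569
theorem D25952 : act 2 n21569 = n25952 := rfl
theorem F53317 : act 0 n25952 = n21570 := d1_1 D25952 (iv D21570) D21569
theorem F53318 : act 4 n25952 = n22184 := d12_2 (iv F41759) D25952 (iv D22184)
theorem F53319 : act 3 n25166 = n25952 := d15_5 F53318 (iv F43224) F40017 (iv F40028) (iv F51481)
theorem F53320 : act 6 n25160 = n25952 := d19_0 F53318 F43225 D25160
def n25953 : Q := act 6 n21569
theorem D25953 : act 6 n21569 = n25953 := rfl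
theorem F53321 : act 0 n25953 = n21571 := d5_1 D25953 (iv D21571) D21569
theorem F53322 : act 2 n25953 = n25160 := d14_1 D25953 F53320 (iv D25952)
theorem F53323 : act 4 n25953 = n22185 := d19_1 D25953 (iv D22185) (iv F41759)
theorem F53324 : act 5 n25953 = n24932 := d22_2 F50676 D25953 (iv D24932) D24930
def n25954 : Q := act 3 n21570
theorem D25954 : act 3 n21570 = n25954 := rfl
theorem F53325 : act 0 n25954 = n25166 := d2_1 D25954 F53319 F53317
theorem F53326 : act 1 n25954 = n21573 := d7_1 D25954 (iv D21573) (iv F41760)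
theorem F53327 : act 4 n25954 = n25125 := d15_2 (iv F41761) D25954 (iv D25125) F43221 (iv D22186)
theorem F53328 : act 6 n25162 = n25954 := d19_0 F53327 F51346 D25162
def n25955 : Q := act 6 n21570
theorem D25955 : act 6 n21570 = n25955 := rfl
theorem F53329 : act 0 n25955 = n25160 := d5_1 D25955 F53320 F53317
theorem F53330 : act 2 n25955 = n21571 := d14_1 D25955 (iv D21571) D21570
theorem F53331 : act 3 n25955 = n25162 := d17_1 D25955 F53328 (iv D25954)
theorem F53332 : act 4 n25955 = n22187 := d19_1 D25955 (iv D22187) (iv F41761)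
theorem F53333 : act 1 n24795 = n25955 := d8_3 F53332 (iv F43230) (iv F50383)
def n25956 : Q := act 5 n21571
theorem D25956 : act 5 n21571 = n25956 := rfl
theorem F53334 : act 0 n25956 = n24932 := d4_1 D25956 (iv F53324) F53321
theorem F53335 : act 4 n25956 = n22188 := d18_1 D25956 (iv D22188) (iv F41762)
theorem F53336 : act 6 n25956 = n24930 := d20_2 D21571 D25956 F50676 D25953 F53324 (iv D24932) F38820
theorem F53337 : act 1 n25956 = n24584 := d24_2 D21571 D25956 (iv D24584) (iv D20217) (iv D14981) (iv D11524) F13924 F6885 D4526 (iv F17078) (iv F7878) (iv F17828) D12226 D16311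
def n25957 : Q := act 3 n21572
theorem D25957 : act 3 n21572 = n25957 := rfl
theorem F53338 : act 0 n25957 = n21573 := d2_1 D25957 (iv D21573) (iv F41763)
theorem F53339 : act 1 n25957 = n23992 := d7_1 D25957 F48320 (iv F41764)
theorem F53340 : act 4 n25957 = n25091 := d15_2 (iv F41765) D25957 F51224 F43239 (iv D22189)
theorem F53341 : act 5 n25957 = n21575 := d16_2 (iv F41766) D25957 (iv D21575)
theorem F53342 : act 2 n25089 = n25957 := d12_3 F53340 (iv D25091) (iv F51216)
def n25958 : Q := act 6 n21573
theorem D25958 : act 6 n21573 = n25958 := rfl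
theorem F53343 : act 3 n25958 = n21574 := d17_1 D25958 (iv D21574) D21573
theorem F53344 : act 4 n25958 = n23842 := d19_1 D25958 F47827 (iv F41767)
def n25959 : Q := act 1 n21574
theorem D25959 : act 1 n21574 = n25959 := rfl
theorem F53345 : act 2 n25959 = n24791 := d6_2 (iv F41769) D25959 (iv F50373) (iv D21117) (iv F28242)
theorem F53346 : act 4 n25959 = n22190 := d8_2 (iv F41770) D25959 (iv D22190)
theorem F53347 : act 6 n25959 = n24795 := d10_2 D21574 D25959 F53333 (iv D25955) F41760
theorem F53348 : act 0 n24792 = n25959 := d5_3 F53347 F50382 (iv F50375)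
def n25960 : Q := act 2 n21575
theorem D25960 : act 2 n21575 = n25960 := rfl
theorem F53349 : act 0 n25960 = n21577 := d1_1 D25960 (iv D21577) (iv F41771)
theorem F53350 : act 1 n25960 = n22511 := d6_1 D25960 F44085 (iv F49927) F49928 (iv F41772)
theorem F53351 : act 5 n25960 = n25089 := d13_2 F53341 D25960 F53342
theorem F53352 : act 3 n25960 = n25666 := d21_1 D25960 (iv D25666) (iv D21379) (iv D16183) F21453 D12229 D16317 (iv F41771)
theorem F53353 : act 1 n25666 = n24954 := d7_1 F53352 F50742 (iv F53350)
theorem F53354 : act 4 n24956 = n25666 := d8_0 F53353 F50743 D24956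
theorem F53355 : act 2 n25667 = n24956 := d12_3 F53354 (iv D25666) D25667
theorem F53356 : act 4 n25960 = n22512 := d15_2 F53354 (iv F53352) F44088 (iv F38858) (iv F50747)
def n25961 : Q := act 4 n21575
theorem D25961 : act 4 n21575 = n25961 := rfl
theorem F53357 : act 0 n25961 = n21578 := d3_1 D25961 (iv D21578) (iv F41771)
theorem F53358 : act 1 n25961 = n24601 := d8_1 D25961 F49933 (iv F41772)
theorem F53359 : act 2 n25961 = n22512 := d12_1 D25961 (iv F53356) (iv D25960)
theorem F53360 : act 3 n25961 = n22191 := d15_1 D25961 (iv D22191) (iv D16893) (iv F28245) D21575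
theorem F53361 : act 5 n25961 = n25091 := d18_2 F53341 D25961 (iv F53340)
def n25962 : Q := act 6 n21575
theorem D25962 : act 6 n21575 = n25962 := rfl
theorem F53362 : act 0 n25962 = n21579 := d5_1 D25962 (iv D21579) (iv F41771)
theorem F53363 : act 3 n25962 = n21576 := d17_1 D25962 (iv D21576) D21575
theorem F53364 : act 5 n25962 = n25958 := d22_2 F53341 D25962 (iv D25958) (iv F53338)
def n25963 : Q := act 1 n21576
theorem D25963 : act 1 n21576 = n25963 := rfl
theorem F53365 : act 0 n25963 = n25963 := d0_1 D25963 (iv D25963) F41773 D21580 (iv F48032) F48033 F48032 (iv D21580) (iv F41773)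
theorem F53366 : act 2 n25963 = n24603 := d6_2 (iv F41774) D25963 (iv D24603) F38331 (iv F28247)
theorem F53367 : act 4 n25963 = n22192 := d8_2 (iv F41775) D25963 (iv D22192)
theorem F53368 : act 6 n25963 = n24603 := d10_2 D21576 D25963 (iv D24603) (iv D20229) (iv F35277)
def n25964 : Q := act 3 n21577
theorem D25964 : act 3 n21577 = n25964 := rfl
theorem F53369 : act 0 n25964 = n25666 := d2_1 D25964 (iv F53352) F53349
theorem F53370 : act 2 n25964 = n25664 := d11_1 D25964 (iv D25664) (iv D21377) F28000 D16315 D21575 D25960 F53352 (iv D25666) (iv D21379) (iv D16183) F21453 D12229 D16317 D21577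
def n25965 : Q := act 6 n21577
theorem D25965 : act 6 n21577 = n25965 := rfl
theorem F53371 : act 2 n25965 = n21579 := d14_1 D25965 (iv D21579) D21577
def n25966 : Q := act 6 n21578
theorem D25966 : act 6 n21578 = n25966 := rfl
theorem F53372 : act 1 n25966 = n24351 := d10_1 D25966 (iv F49248) (iv F51400) F51403 (iv F47415)
theorem F53373 : act 3 n25966 = n22193 := d17_1 D25966 (iv D22193) (iv F41777)
theorem F53374 : act 4 n25966 = n21579 := d19_1 D25966 (iv D21579) D21578
def n25967 : Q := act 1 n21579
theorem D25967 : act 1 n21579 = n25967 := rfl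
theorem F53375 : act 3 n25967 = n21580 := d7_2 (iv F41779) D25967 (iv D21580)
theorem F53376 : act 4 n25967 = n24351 := d8_2 F53374 D25967 (iv F53372)
theorem F53377 : act 6 n25967 = n25253 := d10_2 D21579 D25967 (iv F53242) (iv D25915) F41719
theorem F53378 : act 2 n24352 = n25967 := d12_3 F53376 (iv D24351) D24352
def n25968 : Q := act 5 n21579
theorem D25968 : act 5 n21579 = n25968 := rfl
theorem F53379 : act 0 n25968 = n25958 := d4_1 D25968 (iv F53364) F53362
theorem F53380 : act 3 n25968 = n21581 := d16_1 D25968 (iv D21581) (iv F41779)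
theorem F53381 : act 6 n25968 = n25957 := d20_2 D21579 D25968 F53341 D25962 F53364 (iv D25958) F41768
def n25969 : Q := act 5 n21580
theorem D25969 : act 5 n21580 = n25969 := rfl
theorem F53382 : act 2 n25969 = n24019 := d13_1 D25969 F48397 (iv F41780)
theorem F53383 : act 4 n25969 = n22195 := d18_1 D25969 (iv D22195) (iv F41781)
def n25970 : Q := act 1 n21581
theorem D25970 : act 1 n21581 = n25970 := rfl
theorem F53384 : act 4 n25970 = n22196 := d8_2 (iv F41784) D25970 (iv D22196)
def n25971 : Q := act 3 n21582
theorem D25971 : act 3 n21582 = n25971 := rfl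
theorem F53385 : act 0 n25971 = n21854 := d2_1 D25971 (iv D21854) F41787
theorem F53386 : act 1 n25971 = n21583 := d7_1 D25971 (iv D21583) D21582
def n25972 : Q := act 5 n21582
theorem D25972 : act 5 n21582 = n25972 := rfl
theorem F53387 : act 0 n25972 = n21855 := d4_1 D25972 (iv D21855) F41787
theorem F53388 : act 4 n25972 = n22092 := d18_1 D25972 F42982 (iv F41786)
theorem F53389 : act 6 n25972 = n22103 := d22_1 D25972 F43008 (iv D21856) F41787
def n25973 : Q := act 6 n21582
theorem D25973 : act 6 n21582 = n25973 := rfl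
theorem F53390 : act 0 n25973 = n21856 := d5_1 D25973 (iv D21856) F41787
theorem F53391 : act 4 n25973 = n22197 := d19_1 D25973 (iv D22197) (iv F41786)
def n25974 : Q := act 5 n21583
theorem D25974 : act 5 n21583 = n25974 := rfl
theorem F53392 : act 0 n25974 = n21591 := d4_1 D25974 (iv D21591) (iv F41788)
theorem F53393 : act 2 n25974 = n23242 := d13_1 D25974 (iv F46204) (iv F41789)
theorem F53394 : act 3 n25974 = n21584 := d16_1 D25974 (iv D21584) D21583
theorem F53395 : act 4 n25974 = n21751 := d18_1 D25974 (iv F52078) F52077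
theorem F53396 : act 6 n25974 = n21749 := d22_1 D25974 (iv F42153) (iv D21592) (iv F41788)
def n25975 : Q := act 6 n21583
theorem D25975 : act 6 n21583 = n25975 := rfl
theorem F53397 : act 0 n25975 = n21592 := d5_1 D25975 (iv D21592) (iv F41788)
theorem F53398 : act 2 n25975 = n23331 := d14_1 D25975 (iv D23331) (iv F41789)
theorem F53399 : act 3 n25975 = n21585 := d17_1 D25975 (iv D21585) D21583
theorem F53400 : act 5 n25975 = n25392 := d20_1 D25975 F52117 (iv D21591) D21592 F42153 (iv F53396) (iv D25974)
def n25976 : Q := act 1 n21584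
theorem D25976 : act 1 n21584 = n25976 := rfl
theorem F53401 : act 2 n25976 = n23868 := d6_2 (iv F41791) D25976 (iv D23868) (iv F38130) F38129
theorem F53402 : act 4 n25976 = n22198 := d8_2 (iv F41792) D25976 (iv D22198)
theorem F53403 : act 6 n25976 = n23870 := d10_2 (iv F41793) D25976 F47922 (iv F43831) F43828
theorem F53404 : act 0 n24109 = n25976 := d3_3 F53402 (iv F43266) (iv F48626)
def n25977 : Q := act 1 n21585
theorem D25977 : act 1 n21585 = n25977 := rfl
theorem F53405 : act 2 n25977 = n23897 := d6_2 (iv F41795) D25977 (iv D23897) F36737 F28262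
theorem F53406 : act 4 n25977 = n22199 := d8_2 (iv F41796) D25977 (iv D22199)
theorem F53407 : act 0 n23900 = n25977 := d3_3 F53406 (iv F43268) (iv F48010)
def n25978 : Q := act 3 n21586
theorem D25978 : act 3 n21586 = n25978 := rfl
theorem F53408 : act 0 n25978 = n21587 := d2_1 D25978 (iv D21587) D21586
theorem F53409 : act 1 n25978 = n21858 := d7_1 D25978 (iv D21858) (iv F41798)
theorem F53410 : act 2 n25978 = n23448 := d11_1 D25978 (iv F46775) F46774 (iv F46708) (iv D21600) (iv D16330) (iv F28263) D21587 F41802 (iv F34071) F34070 D23459 F46711 (iv D21597) (iv F41799)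
theorem F53411 : act 4 n25978 = n25496 := d15_2 (iv F41800) D25978 (iv D25496) F41121 F39629
def n25979 : Q := act 6 n21586
theorem D25979 : act 6 n21586 = n25979 := rfl
theorem F53412 : act 0 n25979 = n21589 := d5_1 D25979 (iv D21589) D21586
theorem F53413 : act 1 n25979 = n24333 := d10_1 D25979 F49191 F49151 (iv D21860) (iv F41798)
theorem F53414 : act 2 n25979 = n21599 := d14_1 D25979 (iv D21599) (iv F41799)
theorem F53415 : act 4 n25979 = n22200 := d19_1 D25979 (iv D22200) (iv F41800)
def n25980 : Q := act 4 n21587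
theorem D25980 : act 4 n21587 = n25980 := rfl
theorem F53416 : act 0 n25980 = n25496 := d3_1 D25980 (iv F53411) F53408
theorem F53417 : act 1 n25980 = n21590 := d8_1 D25980 (iv D21590) (iv F41801)
theorem F53418 : act 2 n25980 = n23449 := d12_1 D25980 (iv D23449) (iv F41802)
theorem F53419 : act 3 n25980 = n22201 := d15_1 D25980 (iv D22201) (iv D16905) (iv F28264) D21587
theorem F53420 : act 5 n24472 = n25980 := d16_0 F53419 F43276 D24472
def n25981 : Q := act 5 n21587
theorem D25981 : act 5 n21587 = n25981 := rfl
theorem F53421 : act 2 n25981 = n23450 := d13_1 D25981 (iv D23450) (iv F41802)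
theorem F53422 : act 3 n25981 = n21588 := d16_1 D25981 (iv D21588) D21587
theorem F53423 : act 4 n25981 = n24472 := d18_1 D25981 F53420 (iv D25980)
def n25982 : Q := act 6 n21587
theorem D25982 : act 6 n21587 = n25982 := rfl
theorem F53424 : act 2 n25982 = n23451 := d14_1 D25982 (iv D23451) (iv F41802)
theorem F53425 : act 3 n25982 = n21589 := d17_1 D25982 (iv D21589) D21587
def n25983 : Q := act 1 n21588
theorem D25983 : act 1 n21588 = n25983 := rfl
theorem F53426 : act 4 n25983 = n22202 := d8_2 (iv F41804) D25983 (iv D22202)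
theorem F53427 : act 5 n25983 = n21593 := d9_2 D21588 D25983 (iv D21593) (iv D16325) D16323
def n25984 : Q := act 6 n21588
theorem D25984 : act 6 n21588 = n25984 := rfl
theorem F53428 : act 0 n25984 = n22369 := d5_1 D25984 F43738 F41985
theorem F53429 : act 2 n25984 = n21605 := d14_1 D25984 (iv D21605) (iv F41803)
theorem F53430 : act 4 n25984 = n22203 := d19_1 D25984 (iv D22203) (iv F41804)
theorem F53431 : act 5 n25984 = n25979 := d20_1 D25984 (iv D25979) F41986 (iv F43738) F43737 (iv D21589) D21588
def n25985 : Q := act 1 n21589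
theorem D25985 : act 1 n21589 = n25985 := rfl
theorem F53432 : act 0 n25985 = n25985 := d0_1 D25985 (iv D25985) (iv F53412) F53413 F49189 F37780 (iv F49189) (iv F53413) F53412
theorem F53433 : act 4 n25985 = n22204 := d8_2 (iv F41806) D25985 (iv D22204)
theorem F53434 : act 6 n25985 = n21594 := d10_2 D21589 D25985 (iv D21594) (iv D16326) D16323
def n25986 : Q := act 5 n21590
theorem D25986 : act 5 n21590 = n25986 := rfl
theorem F53435 : act 0 n25986 = n21751 := d4_1 D25986 (iv F52078) F52075
theorem F53436 : act 2 n25986 = n23241 := d13_1 D25986 F46199 (iv F41807)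
theorem F53437 : act 3 n25986 = n21744 := d16_1 D25986 F42139 (iv F41808)
theorem F53438 : act 4 n25986 = n21591 := d18_1 D25986 (iv D21591) D21590
theorem F53439 : act 6 n25986 = n21742 := d22_3 D21750 (iv F42157) D25986 F42130
def n25987 : Q := act 1 n21591
theorem D25987 : act 1 n21591 = n25987 := rfl
theorem F53440 : act 3 n25987 = n21593 := d7_2 (iv F41810) D25987 (iv D21593)
def n25988 : Q := act 1 n21592
theorem D25988 : act 1 n21592 = n25988 := rfl
theorem F53441 : act 2 n25988 = n25988 := d6_2 (iv F41811) D25988 (iv D25988) F41811 F33837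
theorem F53442 : act 3 n25988 = n21594 := d7_2 (iv F41812) D25988 (iv D21594)
theorem F53443 : act 0 n25988 = n25988 := d2_3 F53442 F43185 (iv F53442)
def n25989 : Q := act 0 n21593
theorem D25989 : act 0 n21593 = n25989 := rfl
theorem F53444 : act 4 n25989 = n22206 := d3_2 (iv F41813) D25989 (iv D22206)
def n25990 : Q := act 2 n21593
theorem D25990 : act 2 n21593 = n25990 := rfl
theorem F53445 : act 1 n25990 = n21595 := d6_1 D25990 (iv D21595) (iv D16327) (iv F28265) D21593
theorem F53446 : act 4 n25990 = n22207 := d12_2 (iv F41813) D25990 (iv D22207)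
theorem F53447 : act 6 n21635 = n25990 := d19_0 F53446 (iv F43292) (iv F41896)
def n25991 : Q := act 6 n21593
theorem D25991 : act 6 n21593 = n25991 := rfl
theorem F53448 : act 1 n25991 = n21656 := d10_1 D25991 (iv F52113) F52111 F40935 D21593
theorem F53449 : act 2 n25991 = n21635 := d14_1 D25991 F53447 (iv D25990)
theorem F53450 : act 4 n25991 = n22208 := d19_1 D25991 (iv D22208) (iv F41813)
theorem F53451 : act 5 n21642 = n25991 := d18_0 F53450 (iv F43295) (iv F41917)
def n25992 : Q := act 3 n21595
theorem D25992 : act 3 n21595 = n25992 := rfl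
theorem F53452 : act 5 n25992 = n21614 := d16_2 (iv F41816) D25992 (iv D21614)
theorem F53453 : act 6 n25992 = n25329 := d17_2 (iv F41817) D25992 (iv D25329)
def n25993 : Q := act 3 n21596
theorem D25993 : act 3 n21596 = n25993 := rfl
theorem F53454 : act 0 n25993 = n21817 := d2_1 D25993 (iv D21817) (iv F41818)
theorem F53455 : act 1 n25993 = n21597 := d7_1 D25993 (iv D21597) D21596
theorem F53456 : act 2 n23374 = n25993 := d6_0 F53455 (iv F46711) F46710 F34021 (iv F46525)
def n25994 : Q := act 6 n21596
theorem D25994 : act 6 n21596 = n25994 := rfl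
theorem F53457 : act 0 n25994 = n21819 := d5_1 D25994 (iv D21819) (iv F41818)
theorem F53458 : act 2 n25994 = n21871 := d14_1 D25994 (iv D21871) (iv F41819)
theorem F53459 : act 4 n25994 = n22211 := d19_1 D25994 (iv D22211) (iv F41820)
def n25995 : Q := act 4 n21597
theorem D25995 : act 4 n21597 = n25995 := rfl
theorem F53460 : act 0 n25995 = n21601 := d3_1 D25995 (iv D21601) (iv F41821)
theorem F53461 : act 3 n25995 = n22212 := d15_1 D25995 (iv D22212) (iv D16917) (iv F28276) D21597
def n25996 : Q := act 5 n21597
theorem D25996 : act 5 n21597 = n25996 := rfl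
theorem F53462 : act 0 n25996 = n21602 := d4_1 D25996 (iv D21602) (iv F41821)
theorem F53463 : act 3 n25996 = n21598 := d16_1 D25996 (iv D21598) D21597
def n25997 : Q := act 6 n21597
theorem D25997 : act 6 n21597 = n25997 := rfl
theorem F53464 : act 0 n25997 = n21603 := d5_1 D25997 (iv D21603) (iv F41821)
theorem F53465 : act 3 n25997 = n21599 := d17_1 D25997 (iv D21599) D21597
def n25998 : Q := act 1 n21599
theorem D25998 : act 1 n21599 = n25998 := rfl
theorem F53466 : act 4 n25998 = n22214 := d8_2 (iv F41825) D25998 (iv D22214)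
theorem F53467 : act 0 n23502 = n25998 := d3_3 F53466 F46811 (iv F46802)
def n25999 : Q := act 1 n21600
theorem D25999 : act 1 n21600 = n25999 := rfl
theorem F53468 : act 2 n25999 = n21607 := d6_2 D21600 D25999 (iv D21607) (iv D16333) (iv F28277)
def n26000 : Q := act 4 n21600
theorem D26000 : act 4 n21600 = n26000 := rfl
theorem F53469 : act 2 n26000 = n21601 := d12_1 D26000 (iv D21601) D21600
def n26001 : Q := act 5 n21600
theorem D26001 : act 5 n21600 = n26001 := rfl
theorem F53470 : act 2 n26001 = n21602 := d13_1 D26001 (iv D21602) D21600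
def n26002 : Q := act 6 n21600
theorem D26002 : act 6 n21600 = n26002 := rfl
theorem F53471 : act 2 n26002 = n21603 := d14_1 D26002 (iv D21603) D21600
def n26003 : Q := act 5 n21601
theorem D26003 : act 5 n21601 = n26003 := rfl
theorem F53472 : act 3 n26003 = n22218 := d16_1 D26003 (iv D22218) (iv F41827)
theorem F53473 : act 4 n26003 = n21602 := d18_1 D26003 (iv D21602) D21601
def n26004 : Q := act 6 n21601
theorem D26004 : act 6 n21601 = n26004 := rfl
theorem F53474 : act 3 n26004 = n22219 := d17_1 D26004 (iv D22219) (iv F41827)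
theorem F53475 : act 4 n26004 = n21603 := d19_1 D26004 (iv D21603) D21601
def n26005 : Q := act 1 n21602
theorem D26005 : act 1 n21602 = n26005 := rfl
theorem F53476 : act 3 n26005 = n21604 := d7_2 (iv F41828) D26005 (iv D21604)
theorem F53477 : act 5 n26005 = n21611 := d9_2 D21602 D26005 (iv D21611) (iv D16335) (iv F28277)
def n26006 : Q := act 6 n21602
theorem D26006 : act 6 n21602 = n26006 := rfl
theorem F53478 : act 3 n26006 = n21605 := d17_1 D26006 (iv D21605) (iv F41828)
theorem F53479 : act 5 n26006 = n25997 := d22_2 D21602 D26006 (iv D25997) F41821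
def n26007 : Q := act 5 n21603
theorem D26007 : act 5 n21603 = n26007 := rfl
theorem F53480 : act 0 n26007 = n26006 := d4_1 D26007 F53479 F53464
theorem F53481 : act 3 n26007 = n21606 := d16_1 D26007 (iv D21606) (iv F41829)
theorem F53482 : act 6 n26007 = n25996 := d20_2 D21603 D26007 (iv D25996) D25997 (iv F53479) (iv D26006) (iv D21602)
def n26008 : Q := act 6 n21604
theorem D26008 : act 6 n21604 = n26008 := rfl
theorem F53483 : act 4 n26008 = n22223 := d19_1 D26008 (iv D22223) (iv F41830)
theorem F53484 : act 5 n26008 = n23040 := d22_2 (iv F41831) D26008 (iv D23040) F33325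
def n26009 : Q := act 0 n21607
theorem D26009 : act 0 n21607 = n26009 := rfl
theorem F53485 : act 3 n26009 = n25689 := d2_2 (iv F41837) D26009 (iv D25689)
def n26010 : Q := act 4 n21607
theorem D26010 : act 4 n21607 = n26010 := rfl
theorem F53486 : act 1 n26010 = n21608 := d8_1 D26010 (iv D21608) D21607
def n26011 : Q := act 5 n21607
theorem D26011 : act 5 n21607 = n26011 := rfl
theorem F53487 : act 3 n26011 = n25691 := d16_1 D26011 (iv D25691) (iv F41837)
def n26012 : Q := act 6 n21607
theorem D26012 : act 6 n21607 = n26012 := rfl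
theorem F53488 : act 3 n26012 = n25692 := d17_1 D26012 (iv D25692) (iv F41837)
def n26013 : Q := act 3 n21608
theorem D26013 : act 3 n21608 = n26013 := rfl
theorem F53489 : act 0 n26013 = n21622 := d2_1 D26013 (iv D21622) (iv F41838)
theorem F53490 : act 4 n26013 = n25693 := d15_2 D21608 D26013 (iv D25693) (iv D21393) (iv F28281)
def n26014 : Q := act 5 n21608
theorem D26014 : act 5 n21608 = n26014 := rfl
theorem F53491 : act 0 n26014 = n21623 := d4_1 D26014 (iv D21623) (iv F41838)
theorem F53492 : act 2 n26014 = n21610 := d13_1 D26014 (iv D21610) (iv F41839)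
theorem F53493 : act 4 n26014 = n21609 := d18_1 D26014 (iv D21609) D21608
theorem F53494 : act 6 n26014 = n25945 := d22_1 D26014 (iv D25945) F41754 (iv F41838)
def n26015 : Q := act 1 n21609
theorem D26015 : act 1 n21609 = n26015 := rfl
theorem F53495 : act 3 n26015 = n25695 := d7_2 (iv F41842) D26015 (iv D25695)
def n26016 : Q := act 2 n21611
theorem D26016 : act 2 n21611 = n26016 := rfl
theorem F53496 : act 4 n26016 = n25531 := d12_2 F45413 D26016 F52397
theorem F53497 : act 3 n25529 = n26016 := d15_5 F53496 (iv D25531) (iv D21281) D21280 D25529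
def n26017 : Q := act 6 n21611
theorem D26017 : act 6 n21611 = n26017 := rfl
theorem F53498 : act 1 n26017 = n25950 := d10_1 D26017 (iv D25950) (iv D21568) (iv F28286) D21611
theorem F53499 : act 3 n26017 = n21613 := d17_1 D26017 (iv D21613) (iv F41848)
def n26018 : Q := act 3 n21612
theorem D26018 : act 3 n21612 = n26018 := rfl
theorem F53500 : act 1 n26018 = n21614 := d7_1 D26018 (iv D21614) (iv F41849)
theorem F53501 : act 4 n26018 = n24524 := d15_2 (iv F41850) D26018 (iv F49915) F49914 (iv D22231)
theorem F53502 : act 2 n26018 = n24525 := d21_6 (iv F52392) F53497 (iv D26016) F41848 D21612 D26018 F49742 (iv F52220)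
def n26019 : Q := act 5 n21613
theorem D26019 : act 5 n21613 = n26019 := rfl
theorem F53503 : act 0 n26019 = n26008 := d4_1 D26019 F53484 F45689
theorem F53504 : act 1 n26019 = n23979 := d9_1 D26019 (iv F49883) (iv F53337) (iv D25956) (iv F41851)
theorem F53505 : act 2 n26019 = n24942 := d13_1 D26019 F50713 (iv F50381)
theorem F53506 : act 4 n26019 = n22232 := d18_1 D26019 (iv D22232) (iv F41852)
theorem F53507 : act 6 n26019 = n23027 := d20_2 D21613 D26019 F45649 D23040 (iv F53484) (iv D26008) F41831
def n26020 : Q := act 2 n21614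
theorem D26020 : act 2 n21614 = n26020 := rfl
def n26021 : Q := act 4 n21614
theorem D26021 : act 4 n21614 = n26021 := rfl
theorem F53508 : act 1 n26021 = n24524 := d8_1 D26021 (iv F53501) F53500
theorem F53509 : act 3 n26021 = n22233 := d15_1 D26021 (iv D22233) (iv D16933) (iv F28288) D21614
def n26022 : Q := act 1 n21615
theorem D26022 : act 1 n21615 = n26022 := rfl
theorem F53510 : act 2 n26022 = n22435 := d6_2 (iv F41853) D26022 (iv F46498) (iv F48555) (iv D21836)
theorem F53511 : act 6 n22434 = n26022 := d14_0 F53510 (iv D22435) D22434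
def n26023 : Q := act 3 n21615
theorem D26023 : act 3 n21615 = n26023 := rfl
theorem F53512 : act 0 n26023 = n21616 := d2_1 D26023 (iv D21616) D21615
def n26024 : Q := act 4 n21615
theorem D26024 : act 4 n21615 = n26024 := rfl
theorem F53513 : act 0 n26024 = n21617 := d3_1 D26024 (iv D21617) D21615
theorem F53514 : act 2 n26024 = n21837 := d12_1 D26024 (iv D21837) (iv F41853)
def n26025 : Q := act 5 n21615
theorem D26025 : act 5 n21615 = n26025 := rfl
theorem F53515 : act 0 n26025 = n21618 := d4_1 D26025 (iv D21618) D21615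
theorem F53516 : act 2 n26025 = n21838 := d13_1 D26025 (iv D21838) (iv F41853)
def n26026 : Q := act 6 n21615
theorem D26026 : act 6 n21615 = n26026 := rfl
theorem F53517 : act 0 n26026 = n21619 := d5_1 D26026 (iv D21619) D21615
theorem F53518 : act 2 n26026 = n21839 := d14_1 D26026 (iv D21839) (iv F41853)
def n26027 : Q := act 2 n21616
theorem D26027 : act 2 n21616 = n26027 := rfl
theorem F53519 : act 1 n26027 = n25676 := d6_1 D26027 (iv D25676) F41373 (iv F28291) (iv F41854)
def n26028 : Q := act 4 n21616
theorem D26028 : act 4 n21616 = n26028 := rfl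
theorem F53520 : act 1 n26028 = n21620 := d8_1 D26028 (iv D21620) (iv F41854)
def n26029 : Q := act 5 n21616
theorem D26029 : act 5 n21616 = n26029 := rfl
theorem F53521 : act 3 n26029 = n21618 := d16_1 D26029 (iv D21618) D21616
def n26030 : Q := act 6 n21616
theorem D26030 : act 6 n21616 = n26030 := rfl
theorem F53522 : act 3 n26030 = n21619 := d17_1 D26030 (iv D21619) D21616
def n26031 : Q := act 3 n21617
theorem D26031 : act 3 n21617 = n26031 := rfl
theorem F53523 : act 1 n26031 = n21622 := d7_1 D26031 (iv D21622) (iv F41855)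
def n26032 : Q := act 5 n21617
theorem D26032 : act 5 n21617 = n26032 := rfl
theorem F53524 : act 2 n26032 = n21840 := d13_1 D26032 (iv D21840) (iv F41856)
theorem F53525 : act 4 n26032 = n21618 := d18_1 D26032 (iv D21618) D21617
def n26033 : Q := act 6 n21617
theorem D26033 : act 6 n21617 = n26033 := rfl
theorem F53526 : act 2 n26033 = n21841 := d14_1 D26033 (iv D21841) (iv F41856)
theorem F53527 : act 4 n26033 = n21619 := d19_1 D26033 (iv D21619) D21617
def n26034 : Q := act 1 n21618
theorem D26034 : act 1 n21618 = n26034 := rfl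
theorem F53528 : act 5 n26034 = n21624 := d9_2 D21618 D26034 (iv D21624) (iv D16341) D16338
def n26035 : Q := act 6 n21618
theorem D26035 : act 6 n21618 = n26035 := rfl
theorem F53529 : act 2 n26035 = n21842 := d14_1 D26035 (iv D21842) (iv F41857)
theorem F53530 : act 5 n26035 = n26026 := d22_2 D21618 D26035 (iv D26026) (iv D21615)
def n26036 : Q := act 5 n21619
theorem D26036 : act 5 n21619 = n26036 := rfl
theorem F53531 : act 0 n26036 = n26035 := d4_1 D26036 F53530 F53517
theorem F53532 : act 2 n26036 = n21843 := d13_1 D26036 (iv D21843) (iv F41858)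
theorem F53533 : act 6 n26036 = n26025 := d20_2 D21619 D26036 (iv D26025) D26026 (iv F53530) (iv D26035) (iv D21618)
def n26037 : Q := act 3 n21620
theorem D26037 : act 3 n21620 = n26037 := rfl
theorem F53534 : act 0 n26037 = n25693 := d2_1 D26037 (iv D25693) (iv F41859)
theorem F53535 : act 4 n26037 = n21622 := d15_2 D21620 D26037 (iv D21622) (iv D16340) D16339
def n26038 : Q := act 5 n21620
theorem D26038 : act 5 n21620 = n26038 := rfl
theorem F53536 : act 0 n26038 = n25694 := d4_1 D26038 (iv D25694) (iv F41859)
theorem F53537 : act 2 n26038 = n25683 := d13_1 D26038 (iv D25683) (iv F41860)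
theorem F53538 : act 4 n26038 = n21621 := d18_1 D26038 (iv D21621) D21620
def n26039 : Q := act 1 n21621
theorem D26039 : act 1 n21621 = n26039 := rfl
theorem F53539 : act 3 n26039 = n21624 := d7_2 (iv F41863) D26039 (iv D21624)
def n26040 : Q := act 2 n21622
theorem D26040 : act 2 n21622 = n26040 := rfl
def n26041 : Q := act 5 n21622
theorem D26041 : act 5 n21622 = n26041 := rfl
theorem F53540 : act 3 n26041 = n21623 := d16_1 D26041 (iv D21623) D21622
def n26042 : Q := act 1 n21623
theorem D26042 : act 1 n21623 = n26042 := rfl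
theorem F53541 : act 4 n26042 = n21624 := d8_2 (iv F41865) D26042 (iv D21624)
def n26043 : Q := act 6 n21623
theorem D26043 : act 6 n21623 = n26043 := rfl
theorem F53542 : act 0 n26043 = n25945 := d5_1 D26043 (iv F53494) F53491
theorem F53543 : act 2 n26043 = n21626 := d14_1 D26043 (iv D21626) (iv F41864)
theorem F53544 : act 4 n26043 = n21625 := d19_1 D26043 (iv D21625) (iv F41865)
theorem F53545 : act 5 n26043 = n25937 := d20_1 D26043 F53299 D26014 F53494 (iv D25945) F41754 D21623
def n26044 : Q := act 0 n21624
theorem D26044 : act 0 n21624 = n26044 := rfl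
def n26045 : Q := act 6 n21624
theorem D26045 : act 6 n21624 = n26045 := rfl
def n26046 : Q := act 1 n21625
theorem D26046 : act 1 n21625 = n26046 := rfl
def n26047 : Q := act 1 n21626
theorem D26047 : act 1 n21626 = n26047 := rfl
theorem F53546 : act 3 n26047 = n22254 := d7_2 (iv F41870) D26047 (iv D22254)
theorem F53547 : act 4 n26047 = n21627 := d8_2 (iv F41871) D26047 (iv D21627)
def n26048 : Q := act 0 n21627
theorem D26048 : act 0 n21627 = n26048 := rfl
theorem F53548 : act 3 n26048 = n21628 := d2_2 (iv F41873) D26048 (iv D21628)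
def n26049 : Q := act 2 n21627
theorem D26049 : act 2 n21627 = n26049 := rfl
def n26050 : Q := act 5 n21627
theorem D26050 : act 5 n21627 = n26050 := rfl
theorem F53549 : act 1 n26050 = n25933 := d9_1 D26050 (iv D25933) F41739 (iv F28298) D21627
theorem F53550 : act 3 n26050 = n21630 := d16_1 D26050 (iv D21630) (iv F41873)
def n26051 : Q := act 2 n21628
theorem D26051 : act 2 n21628 = n26051 := rfl
theorem F53551 : act 0 n26051 = n21629 := d1_1 D26051 (iv D21629) D21628
theorem F53552 : act 1 n26051 = n23892 := d6_1 D26051 F47982 F36696 (iv F47905) (iv F47907)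
theorem F53553 : act 4 n26051 = n22258 := d12_2 (iv F41874) D26051 (iv D22258)
def n26052 : Q := act 5 n21628
theorem D26052 : act 5 n21628 = n26052 := rfl
theorem F53554 : act 0 n26052 = n21630 := d4_1 D26052 (iv D21630) D21628
theorem F53555 : act 4 n26052 = n22259 := d18_1 D26052 (iv D22259) (iv F41874)
theorem F53556 : act 6 n26052 = n24852 := d22_1 D26052 (iv D24852) F38718 D21628
def n26053 : Q := act 5 n21629
theorem D26053 : act 5 n21629 = n26053 := rfl
theorem F53557 : act 2 n26053 = n21630 := d13_1 D26053 (iv D21630) D21629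
theorem F53558 : act 4 n26053 = n22261 := d18_1 D26053 (iv D22261) (iv F41876)
def n26054 : Q := act 6 n21630
theorem D26054 : act 6 n21630 = n26054 := rfl
theorem F53559 : act 0 n26054 = n24852 := d5_1 D26054 (iv F53556) F53554
theorem F53560 : act 4 n26054 = n22262 := d19_1 D26054 (iv D22262) (iv F41878)
theorem F53561 : act 5 n26054 = n24850 := d20_1 D26054 F50500 D26052 F53556 (iv D24852) F38718 D21630
def n26055 : Q := act 1 n21631
theorem D26055 : act 1 n21631 = n26055 := rfl
theorem F53562 : act 2 n26055 = n24932 := d6_2 D21631 D26055 F50681 F49823 F38283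
theorem F53563 : act 3 n26055 = n25154 := d7_2 F41883 D26055 F51446
theorem F53564 : act 4 n26055 = n22263 := d8_2 (iv F41880) D26055 (iv D22263)
theorem F53565 : act 5 n26055 = n25160 := d9_2 (iv F41881) D26055 F51463 F40035 (iv F40383)
theorem F53566 : act 6 n26055 = n24931 := d10_2 (iv F41882) D26055 F50678 F50397 (iv D24799)
def n26056 : Q := act 1 n21632
theorem D26056 : act 1 n21632 = n26056 := rfl
theorem F53567 : act 2 n26056 = n22106 := d6_2 (iv F41885) D26056 F43017 F41731 (iv F28304)
theorem F53568 : act 3 n26056 = n25239 := d7_2 (iv F41886) D26056 F51737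
theorem F53569 : act 4 n26056 = n22105 := d8_2 (iv F41887) D26056 F43013
theorem F53570 : act 0 n22111 = n26056 := d3_3 F53569 F43012 D22111
theorem F53571 : act 6 n24594 = n26056 := d19_0 F53569 F43014 (iv F49908)
def n26057 : Q := act 3 n21633
theorem D26057 : act 3 n21633 = n26057 := rfl
theorem F53572 : act 0 n26057 = n24461 := d2_1 D26057 (iv D24461) (iv F41889)
theorem F53573 : act 1 n26057 = n24614 := d7_1 D26057 (iv D24614) (iv F41890)
theorem F53574 : act 2 n26057 = n25294 := d11_1 D26057 (iv D25294) (iv D21074) (iv F33540) F33542 F31812 D20110 D24461 F49586 (iv D21075) (iv D15934) (iv F23991) D18736 (iv F33547) D21633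
theorem F53575 : act 5 n26057 = n25868 := d16_2 (iv F41892) D26057 (iv D25868)
theorem F53576 : act 6 n26057 = n25294 := d17_2 (iv F41893) D26057 (iv D25294)
def n26058 : Q := act 1 n21634
theorem D26058 : act 1 n21634 = n26058 := rfl
theorem F53577 : act 3 n26058 = n21635 := d7_2 (iv F41895) D26058 (iv D21635)
theorem F53578 : act 5 n26058 = n21638 := d9_2 D21634 D26058 (iv D21638) (iv D16354) (iv F28313)
def n26059 : Q := act 6 n21634
theorem D26059 : act 6 n21634 = n26059 := rfl
theorem F53579 : act 0 n26059 = n23400 := d5_1 D26059 (iv F50510) F50506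
theorem F53580 : act 2 n26059 = n22935 := d14_1 D26059 (iv D22935) (iv F41894)
theorem F53581 : act 3 n26059 = n21636 := d17_1 D26059 (iv D21636) (iv F41895)
theorem F53582 : act 4 n26059 = n23396 := d19_1 D26059 (iv F46589) F46588
theorem F53583 : act 5 n26059 = n23395 := d20_1 D26059 (iv F46565) D24853 F50510 (iv D23400) (iv F35264) D21634
theorem F53584 : act 1 n25329 = n26059 := d7_3 F53581 (iv F41902) D25329
def n26060 : Q := act 0 n21635
theorem D26060 : act 0 n21635 = n26060 := rfl
theorem F53585 : act 4 n26060 = n22265 := d3_2 (iv F41896) D26060 (iv D22265)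
theorem F53586 : act 5 n26060 = n21641 := d4_2 (iv F41897) D26060 (iv D21641)
theorem F53587 : act 1 n24122 = n26060 := d23_2 D19790 (iv F48654) (iv D26060) F41897 D21642 F41916 (iv F41922) F41924 (iv D16381) D16380 (iv F38022) F38616 D24767 F50324 F48532 (iv D20403) F37224 (iv F37310) (iv D19788)
def n26061 : Q := act 1 n21637
theorem D26061 : act 1 n21637 = n26061 := rfl
theorem F53588 : act 3 n26061 = n22266 := d7_2 (iv F41904) D26061 (iv D22266)
theorem F53589 : act 4 n26061 = n21638 := d8_2 (iv F41905) D26061 (iv D21638)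
def n26062 : Q := act 0 n21638
theorem D26062 : act 0 n21638 = n26062 := rfl
theorem F53590 : act 3 n26062 = n21641 := d2_2 (iv F41906) D26062 (iv D21641)
def n26063 : Q := act 2 n21638
theorem D26063 : act 2 n21638 = n26063 := rfl
theorem F53591 : act 1 n26063 = n23299 := d6_1 D26063 (iv D23299) (iv D18879) (iv F28324) D21638
def n26064 : Q := act 6 n21638
theorem D26064 : act 6 n21638 = n26064 := rfl
theorem F53592 : act 3 n26064 = n21643 := d17_1 D26064 (iv D21643) (iv F41906)
def n26065 : Q := act 1 n21639
theorem D26065 : act 1 n21639 = n26065 := rfl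
theorem F53593 : act 3 n26065 = n21644 := d7_2 (iv F41908) D26065 (iv D21644)
def n26066 : Q := act 1 n21640
theorem D26066 : act 1 n21640 = n26066 := rfl
theorem F53594 : act 3 n26066 = n21645 := d7_2 (iv F41912) D26066 (iv D21645)
theorem F53595 : act 4 n26066 = n23418 := d8_2 (iv F41913) D26066 F46618
theorem F53596 : act 5 n26066 = n23408 := d9_2 D21640 D26066 (iv D23408) F33955 (iv F34762)
def n26067 : Q := act 1 n21641
theorem D26067 : act 1 n21641 = n26067 := rfl
theorem F53597 : act 4 n26067 = n22271 := d8_2 (iv F41915) D26067 (iv D22271)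
theorem F53598 : act 5 n26067 = n24120 := d9_2 F53586 D26067 (iv D24120) D24122 F53587
theorem F53599 : act 0 n24882 = n26067 := d4_3 F53598 F48649 D24882
theorem F53600 : act 2 n24126 = n26067 := d13_3 F53598 F48650 D24126
def n26068 : Q := act 2 n21641
theorem D26068 : act 2 n21641 = n26068 := rfl
theorem F53601 : act 0 n26068 = n21642 := d1_1 D26068 (iv D21642) D21641
theorem F53602 : act 4 n26068 = n22272 := d12_2 (iv F41915) D26068 (iv D22272)
theorem F53603 : act 6 n25983 = n26068 := d19_0 F53602 (iv F43411) (iv F53426)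
def n26069 : Q := act 6 n21641
theorem D26069 : act 6 n21641 = n26069 := rfl
theorem F53604 : act 0 n26069 = n21643 := d5_1 D26069 (iv D21643) D21641
theorem F53605 : act 2 n26069 = n25983 := d14_1 D26069 F53603 (iv D26068)
theorem F53606 : act 4 n26069 = n22273 := d19_1 D26069 (iv D22273) (iv F41915)
theorem F53607 : act 5 n26069 = n25990 := d22_2 F53586 D26069 (iv F53447) D26060
theorem F53608 : act 1 n24941 = n26069 := d24_14 (iv D26069) (iv F53586) (iv F53587) (iv F50597) (iv D24900) F38777 (iv F36039) (iv F47120) (iv F50377) (iv F50387) (iv D24796) D24794 F50380 (iv F50711)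
def n26070 : Q := act 3 n21642
theorem D26070 : act 3 n21642 = n26070 := rfl
theorem F53609 : act 1 n26070 = n21647 := d7_1 D26070 (iv D21647) (iv F41916)
def n26071 : Q := act 6 n21642
theorem D26071 : act 6 n21642 = n26071 := rfl
theorem F53610 : act 0 n26071 = n25983 := d5_1 D26071 F53603 F53601
theorem F53611 : act 2 n26071 = n21643 := d14_1 D26071 (iv D21643) D21642
theorem F53612 : act 4 n26071 = n22275 := d19_1 D26071 (iv D22275) (iv F41917)
theorem F53613 : act 5 n25989 = n26071 := d22_0 (iv D26071) F53451 (iv D25991) D25989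
def n26072 : Q := act 5 n21643
theorem D26072 : act 5 n21643 = n26072 := rfl
theorem F53614 : act 0 n26072 = n25990 := d4_1 D26072 (iv F53607) F53604
theorem F53615 : act 2 n26072 = n25989 := d13_1 D26072 F53613 F53611
theorem F53616 : act 4 n26072 = n22276 := d18_1 D26072 (iv D22276) (iv F41918)
theorem F53617 : act 6 n26072 = n26060 := d20_2 D21643 D26072 F53586 D26069 F53607 (iv F53447) F41897
theorem F53618 : act 1 n24095 = n26072 := d8_3 F53616 (iv F43429) (iv F48601)
def n26073 : Q := act 5 n21644
theorem D26073 : act 5 n21644 = n26073 := rfl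
theorem F53619 : act 1 n26073 = n24620 := d9_1 D26073 (iv D24620) F38355 (iv F28331) D21644
theorem F53620 : act 4 n26073 = n22277 := d18_1 D26073 (iv D22277) (iv F41919)
theorem F53621 : act 6 n26073 = n21718 := d22_1 D26073 (iv D21718) D21719 F43421
def n26074 : Q := act 0 n21645
theorem D26074 : act 0 n21645 = n26074 := rfl
theorem F53622 : act 4 n26074 = n22278 := d3_2 (iv F41920) D26074 (iv D22278)
theorem F53623 : act 5 n26074 = n21877 := d4_2 (iv F41921) D26074 (iv F42441)
theorem F53624 : act 2 n23554 = n26074 := d12_3 F53622 F43435 D23554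
def n26075 : Q := act 2 n21645
theorem D26075 : act 2 n21645 = n26075 := rfl
theorem F53625 : act 0 n26075 = n23554 := d1_1 D26075 F53624 (iv D26074)
theorem F53626 : act 1 n26075 = n21649 := d6_1 D26075 (iv D21649) (iv D16363) (iv F28334) D21645
theorem F53627 : act 4 n26075 = n22279 := d12_2 (iv F41920) D26075 (iv D22279)
theorem F53628 : act 5 n26075 = n23703 := d13_2 (iv F41921) D26075 (iv D23703)
def n26076 : Q := act 6 n21645
theorem D26076 : act 6 n21645 = n26076 := rfl
theorem F53629 : act 1 n26076 = n24753 := d10_1 D26076 (iv D24753) (iv D20340) (iv F28336) D21645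
theorem F53630 : act 4 n26076 = n22280 := d19_1 D26076 (iv D22280) (iv F41920)
def n26077 : Q := act 3 n21646
theorem D26077 : act 3 n21646 = n26077 := rfl
theorem F53631 : act 0 n26077 = n21647 := d2_1 D26077 (iv D21647) (iv F41922)
theorem F53632 : act 5 n26077 = n21673 := d16_2 (iv F41924) D26077 (iv D21673)
theorem F53633 : act 6 n26077 = n24592 := d17_2 (iv F41925) D26077 (iv D24592)
def n26078 : Q := act 2 n21647
theorem D26078 : act 2 n21647 = n26078 := rfl
theorem F53634 : act 5 n26078 = n21674 := d13_2 (iv F41926) D26078 (iv D21674)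
def n26079 : Q := act 4 n21647
theorem D26079 : act 4 n21647 = n26079 := rfl
theorem F53635 : act 3 n26079 = n22283 := d15_1 D26079 (iv D22283) (iv D16977) (iv F28340) D21647
theorem F53636 : act 5 n26079 = n21675 := d18_2 (iv F41926) D26079 (iv D21675)
def n26080 : Q := act 6 n21647
theorem D26080 : act 6 n21647 = n26080 := rfl
theorem F53637 : act 0 n26080 = n24592 := d5_1 D26080 (iv F53633) F53631
theorem F53638 : act 3 n26080 = n21648 := d17_1 D26080 (iv D21648) D21647
theorem F53639 : act 5 n26080 = n25841 := d20_1 D26080 F53039 (iv F53632) F53633 F49904 (iv D21676) (iv F41926)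
def n26081 : Q := act 1 n21648
theorem D26081 : act 1 n21648 = n26081 := rfl
theorem F53640 : act 2 n26081 = n25840 := d6_2 (iv F41928) D26081 (iv D25840) F41586 (iv F28343)
theorem F53641 : act 4 n26081 = n22285 := d8_2 (iv F41929) D26081 (iv D22285)
def n26082 : Q := act 3 n21649
theorem D26082 : act 3 n21649 = n26082 := rfl
theorem F53642 : act 0 n26082 = n24555 := d2_1 D26082 F49815 (iv F41931)
theorem F53643 : act 6 n26082 = n24549 := d17_2 (iv F41933) D26082 (iv D24549)
def n26083 : Q := act 0 n21650
theorem D26083 : act 0 n21650 = n26083 := rfl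
theorem F53644 : act 4 n26083 = n22291 := d3_2 (iv F41934) D26083 (iv D22291)
theorem F53645 : act 5 n26083 = n26083 := d4_2 F41935 D26083 (iv D26083)
theorem F53646 : act 1 n21848 = n26083 := d8_3 F53644 (iv F43484) (iv F42375)
theorem F53647 : act 6 n21665 = n26083 := d19_0 F53644 F43483 (iv F41965)
def n26084 : Q := act 2 n21650
theorem D26084 : act 2 n21650 = n26084 := rfl
theorem F53648 : act 1 n26084 = n24392 := d6_1 D26084 F50513 (iv D24854) F38723 D21650
theorem F53649 : act 4 n26084 = n22292 := d12_2 (iv F41934) D26084 (iv D22292)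
theorem F53650 : act 5 n26084 = n26084 := d13_2 F41935 D26084 (iv D26084)
def n26085 : Q := act 6 n21650
theorem D26085 : act 6 n21650 = n26085 := rfl
theorem F53651 : act 0 n26085 = n21665 := d5_1 D26085 F53647 (iv D26083)
theorem F53652 : act 1 n26085 = n21700 := d10_1 D26085 F42772 (iv D21657) F28363 D21650
theorem F53653 : act 4 n26085 = n22293 := d19_1 D26085 (iv D22293) (iv F41934)
theorem F53654 : act 5 n26085 = n21665 := d22_2 F41935 D26085 F53647 (iv D26083)
def n26086 : Q := act 1 n21651
theorem D26086 : act 1 n21651 = n26086 := rfl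
theorem F53655 : act 3 n26086 = n22299 := d7_2 (iv F41936) D26086 (iv D22299)
theorem F53656 : act 4 n26086 = n21652 := d8_2 (iv F41937) D26086 (iv D21652)
theorem F53657 : act 5 n26086 = n21661 := d9_2 D21651 D26086 (iv D21661) (iv D16375) (iv F28353)
def n26087 : Q := act 0 n21652
theorem D26087 : act 0 n21652 = n26087 := rfl
theorem F53658 : act 3 n26087 = n21655 := d2_2 (iv F41938) D26087 (iv D21655)
theorem F53659 : act 5 n26087 = n21662 := d4_2 (iv F41939) D26087 (iv D21662)
def n26088 : Q := act 2 n21652
theorem D26088 : act 2 n21652 = n26088 := rfl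
theorem F53660 : act 5 n26088 = n21663 := d13_2 (iv F41939) D26088 (iv D21663)
def n26089 : Q := act 1 n21654
theorem D26089 : act 1 n21654 = n26089 := rfl
theorem F53661 : act 3 n26089 = n21657 := d7_2 (iv F41946) D26089 (iv D21657)
def n26090 : Q := act 1 n21655
theorem D26090 : act 1 n21655 = n26090 := rfl
theorem F53662 : act 0 n26090 = n21702 := d0_1 D26090 F42048 (iv F42373) F53646 (iv D26083) (iv D21650) F28349 D16369 D21655
theorem F53663 : act 4 n26090 = n22304 := d8_2 (iv F41948) D26090 (iv D22304)
theorem F53664 : act 5 n26090 = n21700 := d9_2 (iv F41949) D26090 (iv F53652) F53654 (iv D21665)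
theorem F53665 : act 2 n26090 = n23046 := d23_1 (iv F53664) F45713 F38692 (iv D15100) (iv F25397) (iv D14544) F20061 (iv F17920) (iv D10080) (iv D5229) (iv D2519) F16642 D4556 D9421 D11601 D15140 F26389 D16400 D21700
def n26091 : Q := act 2 n21655
theorem D26091 : act 2 n21655 = n26091 := rfl
theorem F53666 : act 0 n26091 = n21656 := d1_1 D26091 (iv D21656) D21655
theorem F53667 : act 1 n26091 = n24155 := d6_1 D26091 F48729 (iv F45713) (iv F53665) (iv D26090)
theorem F53668 : act 4 n26091 = n22305 := d12_2 (iv F41948) D26091 (iv D22305)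
theorem F53669 : act 5 n26091 = n21666 := d13_2 (iv F41949) D26091 (iv D21666)
theorem F53670 : act 6 n26091 = n22460 := d14_2 F41977 D26091 F43954
def n26092 : Q := act 3 n21656
theorem D26092 : act 3 n21656 = n26092 := rfl
theorem F53671 : act 5 n26092 = n21668 := d16_2 (iv F41951) D26092 (iv D21668)
def n26093 : Q := act 2 n21657
theorem D26093 : act 2 n21657 = n26093 := rfl
theorem F53672 : act 0 n26093 = n24580 := d1_1 D26093 (iv F49866) (iv F42773)
theorem F53673 : act 4 n26093 = n22307 := d12_2 (iv F41952) D26093 (iv D22307)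
theorem F53674 : act 5 n26093 = n22998 := d13_2 F52423 D26093 (iv F52421)
def n26094 : Q := act 0 n21661
theorem D26094 : act 0 n21661 = n26094 := rfl
theorem F53675 : act 3 n26094 = n22308 := d2_2 (iv F41960) D26094 (iv D22308)
theorem F53676 : act 4 n26094 = n21662 := d3_2 (iv F41961) D26094 (iv D21662)
def n26095 : Q := act 6 n21661
theorem D26095 : act 6 n21661 = n26095 := rfl
theorem F53677 : act 1 n26095 = n25547 := d10_1 D26095 (iv D25547) (iv D21297) (iv F28374) D21661
theorem F53678 : act 3 n26095 = n22309 := d17_1 D26095 (iv D22309) (iv F41960)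
theorem F53679 : act 4 n26095 = n21664 := d19_1 D26095 (iv D21664) (iv F41961)
def n26096 : Q := act 1 n21662
theorem D26096 : act 1 n21662 = n26096 := rfl
theorem F53680 : act 3 n26096 = n21665 := d7_2 (iv F41962) D26096 (iv D21665)
def n26097 : Q := act 2 n21662
theorem D26097 : act 2 n21662 = n26097 := rfl
theorem F53681 : act 0 n26097 = n21663 := d1_1 D26097 (iv D21663) D21662
def n26098 : Q := act 6 n21662
theorem D26098 : act 6 n21662 = n26098 := rfl
theorem F53682 : act 0 n26098 = n21664 := d5_1 D26098 (iv D21664) D21662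
theorem F53683 : act 3 n26098 = n21667 := d17_1 D26098 (iv D21667) (iv F41962)
theorem F53684 : act 5 n26098 = n25390 := d22_2 F53659 D26098 F52109 D26087
theorem F53685 : act 1 n22833 = n26098 := d9_5 F53684 (iv D25390) (iv D21180) (iv F35257) D22833
theorem F53686 : act 4 n26098 = n22849 := d8_2 (iv F45084) F53685 (iv D22849)
theorem F53687 : act 0 n22849 = n26095 := d3_1 F53686 F53679 (iv F53682)
theorem F53688 : act 6 n22849 = n26094 := d19_2 D26098 F53686 F53676
def n26099 : Q := act 3 n21663
theorem D26099 : act 3 n21663 = n26099 := rfl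
def n26100 : Q := act 6 n21663
theorem D26100 : act 6 n21663 = n26100 := rfl
theorem F53689 : act 2 n26100 = n21664 := d14_1 D26100 (iv D21664) D21663
def n26101 : Q := act 5 n21664
theorem D26101 : act 5 n21664 = n26101 := rfl
theorem F53690 : act 0 n26101 = n25390 := d4_1 D26101 (iv F53684) F53682
theorem F53691 : act 3 n26101 = n21670 := d16_1 D26101 (iv D21670) (iv F41964)
theorem F53692 : act 6 n26101 = n26087 := d20_2 D21664 D26101 F53659 D26098 F53684 F52109 F41939
theorem F53693 : act 1 n21697 = n26101 := d7_3 F53691 (iv F41978) (iv F42042)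
def n26102 : Q := act 2 n21665
theorem D26102 : act 2 n21665 = n26102 := rfl
theorem F53694 : act 4 n26102 = n22313 := d12_2 (iv F41965) D26102 (iv D22313)
def n26103 : Q := act 1 n21666
theorem D26103 : act 1 n21666 = n26103 := rfl
theorem F53695 : act 4 n26103 = n22314 := d8_2 (iv F41967) D26103 (iv D22314)
theorem F53696 : act 5 n26103 = n24153 := d9_2 F53669 D26103 (iv D24153) D24155 (iv F53667)
def n26104 : Q := act 3 n21666
theorem D26104 : act 3 n21666 = n26104 := rfl
theorem F53697 : act 0 n26104 = n21668 := d2_1 D26104 (iv D21668) (iv F41966)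
def n26105 : Q := act 6 n21666
theorem D26105 : act 6 n21666 = n26105 := rfl
theorem F53698 : act 0 n26105 = n21669 := d5_1 D26105 (iv D21669) (iv F41966)
theorem F53699 : act 2 n26105 = n21667 := d14_1 D26105 (iv D21667) D21666
theorem F53700 : act 4 n26105 = n22315 := d19_1 D26105 (iv D22315) (iv F41967)
theorem F53701 : act 5 n26105 = n25391 := d20_1 D26105 F52113 F41951 D21669 (iv F43955) (iv F53670) F53669
def n26106 : Q := act 2 n21668
theorem D26106 : act 2 n21668 = n26106 := rfl
def n26107 : Q := act 4 n21668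
theorem D26107 : act 4 n21668 = n26107 := rfl
theorem F53702 : act 1 n26107 = n21675 := d8_1 D26107 (iv D21675) (iv F41972)
theorem F53703 : act 3 n26107 = n22316 := d15_1 D26107 (iv D22316) (iv D17015) (iv F28378) D21668
def n26108 : Q := act 6 n21668
theorem D26108 : act 6 n21668 = n26108 := rfl
theorem F53704 : act 3 n26108 = n21669 := d17_1 D26108 (iv D21669) D21668
def n26109 : Q := act 3 n21671
theorem D26109 : act 3 n21671 = n26109 := rfl
theorem F53705 : act 1 n26109 = n25996 := d7_1 D26109 F53463 (iv F41982)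
theorem F53706 : act 5 n26109 = n25292 := d16_2 (iv F41980) D26109 F51899
theorem F53707 : act 6 n26109 = n25812 := d17_2 (iv F41981) D26109 (iv D25812)
def n26110 : Q := act 3 n21672
theorem D26110 : act 3 n21672 = n26110 := rfl
theorem F53708 : act 0 n26110 = n25981 := d2_1 D26110 F53422 (iv F41985)
theorem F53709 : act 1 n26110 = n21673 := d7_1 D26110 (iv D21673) D21672
theorem F53710 : act 5 n26110 = n25978 := d16_2 F41986 D26110 (iv D25978)
def n26111 : Q := act 2 n21673
theorem D26111 : act 2 n21673 = n26111 := rfl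
theorem F53711 : act 0 n26111 = n21674 := d1_1 D26111 (iv D21674) (iv F41987)
theorem F53712 : act 3 n26111 = n25721 := d21_1 D26111 (iv D25721) (iv D21416) (iv D16210) F21471 D12263 D16382 (iv F41987)
def n26112 : Q := act 4 n21673
theorem D26112 : act 4 n21673 = n26112 := rfl
theorem F53713 : act 0 n26112 = n21675 := d3_1 D26112 (iv D21675) (iv F41987)
theorem F53714 : act 3 n26112 = n22319 := d15_1 D26112 (iv D22319) (iv D17020) (iv F28385) D21673
def n26113 : Q := act 1 n21674
theorem D26113 : act 1 n21674 = n26113 := rfl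
def n26114 : Q := act 3 n21674
theorem D26114 : act 3 n21674 = n26114 := rfl
theorem F53715 : act 0 n26114 = n25721 := d2_1 D26114 (iv F53712) F53711
theorem F53716 : act 2 n26114 = n25720 := d11_1 D26114 (iv D25720) (iv D21415) F28034 D16381 D21673 D26111 F53712 (iv D25721) (iv D21416) (iv D16210) F21471 D12263 D16382 D21674
def n26115 : Q := act 4 n21674
theorem D26115 : act 4 n21674 = n26115 := rfl
theorem F53717 : act 2 n26115 = n21675 := d12_1 D26115 (iv D21675) D21674
def n26116 : Q := act 6 n21674
theorem D26116 : act 6 n21674 = n26116 := rfl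
theorem F53718 : act 2 n26116 = n21676 := d14_1 D26116 (iv D21676) D21674
def n26117 : Q := act 6 n21675
theorem D26117 : act 6 n21675 = n26117 := rfl
theorem F53719 : act 3 n26117 = n22323 := d17_1 D26117 (iv D22323) (iv F41988)
theorem F53720 : act 4 n26117 = n21676 := d19_1 D26117 (iv D21676) D21675
def n26118 : Q := act 1 n21676
theorem D26118 : act 1 n21676 = n26118 := rfl
theorem F53721 : act 3 n26118 = n21677 := d7_2 (iv F41989) D26118 (iv D21677)
def n26119 : Q := act 0 n21677
theorem D26119 : act 0 n21677 = n26119 := rfl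
theorem F53722 : act 2 n26119 = n25566 := d1_2 (iv F41990) D26119 (iv D25566)
theorem F53723 : act 4 n26119 = n22324 := d3_2 (iv F41991) D26119 (iv D22324)
theorem F53724 : act 6 n26119 = n24116 := d5_2 (iv F43980) D26119 (iv F48639)
theorem F53725 : act 5 n26119 = n22466 := d22_0 (iv D22466) D22465 (iv F43980) D26119
theorem F53726 : act 1 n21865 = n26119 := d9_5 F53725 F43981 D24317 F49151 (iv F42418)
def n26120 : Q := act 5 n21677
theorem D26120 : act 5 n21677 = n26120 := rfl
theorem F53727 : act 0 n26120 = n22466 := d4_1 D26120 (iv F53725) (iv D26119)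
theorem F53728 : act 2 n26120 = n25557 := d13_1 D26120 F52458 (iv F41990)
theorem F53729 : act 4 n26120 = n22325 := d18_1 D26120 (iv D22325) (iv F41991)
theorem F53730 : act 6 n26120 = n22461 := d20_2 (iv F43980) D26120 F48640 (iv F53724) F53725 (iv D22466) D22465
def n26121 : Q := act 5 n21678
theorem D26121 : act 5 n21678 = n26121 := rfl
theorem F53731 : act 0 n26121 = n21683 := d4_1 D26121 (iv D21683) (iv F41992)
theorem F53732 : act 2 n26121 = n24944 := d13_1 D26121 (iv D24944) (iv F41993)
theorem F53733 : act 3 n26121 = n21679 := d16_1 D26121 (iv D21679) D21678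
def n26122 : Q := act 6 n21678
theorem D26122 : act 6 n21678 = n26122 := rfl
theorem F53734 : act 0 n26122 = n21684 := d5_1 D26122 (iv D21684) (iv F41992)
theorem F53735 : act 2 n26122 = n24945 := d14_1 D26122 (iv D24945) (iv F41993)
theorem F53736 : act 3 n26122 = n21680 := d17_1 D26122 (iv D21680) D21678
theorem F53737 : act 4 n26122 = n23114 := d19_1 D26122 (iv F45967) F45966
theorem F53738 : act 5 n26122 = n25890 := d22_2 (iv D26121) D26122 F53161 (iv F53731)
def n26123 : Q := act 5 n21681
theorem D26123 : act 5 n21681 = n26123 := rfl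
theorem F53739 : act 0 n26123 = n24944 := d4_1 D26123 (iv D24944) (iv F41999)
theorem F53740 : act 2 n26123 = n21683 := d13_1 D26123 (iv D21683) D21681
theorem F53741 : act 3 n26123 = n24936 := d16_1 D26123 (iv D24936) (iv F42001)
def n26124 : Q := act 6 n21681
theorem D26124 : act 6 n21681 = n26124 := rfl
theorem F53742 : act 0 n26124 = n24945 := d5_1 D26124 (iv D24945) (iv F41999)
theorem F53743 : act 1 n26124 = n24531 := d10_1 D26124 (iv D24531) (iv F38618) (iv F41409) (iv F42000)
theorem F53744 : act 2 n26124 = n21684 := d14_1 D26124 (iv D21684) D21681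
theorem F53745 : act 3 n26124 = n24937 := d17_1 D26124 (iv D24937) (iv F42001)
theorem F53746 : act 4 n26124 = n23115 := d19_1 D26124 (iv F49986) (iv F49988)
def n26125 : Q := act 5 n21684
theorem D26125 : act 5 n21684 = n26125 := rfl
theorem F53747 : act 0 n26125 = n25890 := d4_1 D26125 (iv F53738) F53734
theorem F53748 : act 3 n26125 = n21688 := d16_1 D26125 (iv D21688) (iv F42007)
theorem F53749 : act 4 n26125 = n23116 := d18_1 D26125 (iv D23116) (iv F42008)
theorem F53750 : act 6 n26125 = n26121 := d20_2 D21684 D26125 (iv D26121) D26122 F53738 F53161 (iv D21683)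
def n26126 : Q := act 2 n21690
theorem D26126 : act 2 n21690 = n26126 := rfl
theorem F53751 : act 1 n26126 = n25715 := d6_1 D26126 (iv D25715) (iv D21410) (iv F28397) D21690
def n26127 : Q := act 2 n21691
theorem D26127 : act 2 n21691 = n26127 := rfl
theorem F53752 : act 1 n26127 = n21698 := d6_1 D26127 (iv D21698) (iv D16399) (iv F28402) D21691
theorem F53753 : act 4 n26127 = n21913 := d12_2 F45040 D26127 F45044
theorem F53754 : act 6 n26127 = n21912 := d14_2 (iv F45834) D26127 F45832
def n26128 : Q := act 1 n21692
theorem D26128 : act 1 n21692 = n26128 := rfl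
theorem F53755 : act 2 n26128 = n23682 := d6_2 F44979 D26128 (iv D23682) F35957 F44983
theorem F53756 : act 3 n26128 = n22336 := d7_2 (iv F42031) D26128 (iv D22336)
theorem F53757 : act 4 n26128 = n21695 := d8_2 (iv F42032) D26128 (iv D21695)
theorem F53758 : act 5 n26128 = n22850 := d9_2 (iv F42033) D26128 (iv D22850) F32178 (iv F34577)
def n26129 : Q := act 1 n21693
theorem D26129 : act 1 n21693 = n26129 := rfl
theorem F53759 : act 2 n26129 = n23532 := d6_2 (iv F42034) D26129 (iv D23532) F35605 D19115
theorem F53760 : act 3 n26129 = n22337 := d7_2 (iv F42035) D26129 (iv D22337)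
theorem F53761 : act 4 n26129 = n21696 := d8_2 (iv F42036) D26129 (iv D21696)
theorem F53762 : act 6 n26129 = n21694 := d10_2 D21693 D26129 (iv D21694) (iv D16396) D16395
def n26130 : Q := act 0 n21694
theorem D26130 : act 0 n21694 = n26130 := rfl
theorem F53763 : act 3 n26130 = n22338 := d2_2 (iv F42037) D26130 (iv D22338)
theorem F53764 : act 4 n26130 = n21697 := d3_2 (iv F42038) D26130 (iv D21697)
theorem F53765 : act 5 n26130 = n22470 := d4_2 F47301 D26130 (iv F47302)
theorem F53766 : act 2 n22472 = n26130 := d13_3 F53765 (iv D22470) D22472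
def n26131 : Q := act 2 n21694
theorem D26131 : act 2 n21694 = n26131 := rfl
theorem F53767 : act 0 n26131 = n22472 := d1_1 D26131 F53766 (iv D26130)
theorem F53768 : act 1 n26131 = n21913 := d6_1 D26131 F45044 (iv D22823) (iv F35350) D21694
theorem F53769 : act 4 n26131 = n21698 := d12_2 (iv F42038) D26131 (iv D21698)
theorem F53770 : act 5 n26131 = n22210 := d13_2 F47301 D26131 (iv F47298)
theorem F53771 : act 6 n26131 = n23532 := d14_2 F53762 D26131 (iv F53759)
theorem F53772 : act 3 n26131 = n21914 := d25_3 (iv F29986) (iv F42037) D26131 F42506 F30313 (iv F42584) (iv F43319) F43320 (iv F39624) (iv F43725) (iv D22366) F30018 D17073 D22373 (iv F47365) F47366 F36056 (iv F35248) (iv D14063) (iv D11036) F12260 F6006 F3042 (iv F3070) D3979 F6068 (iv F6169) F32802 F32755 (iv F32750) (iv D1985) F1706 F948 F508 F15708 (iv D122) (iv F241) (iv F481) (iv F898) F15337 D921 F1635 D949 D1933 F32846 (iv F15024) (iv F1874) F16568 F1190 D694 D1396 (iv F4341) D5750 D10343 D12853 F32605 (iv F39856) (iv D20799) (iv D15501) (iv F26911) D20796 F39849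 F32527 (iv D17349) (iv D12825) F18219 D10413 (iv F22690) D17531 F39682 (iv D15228) (iv D11655) (iv F20646) (iv F26509) F26510 F22206 D12656
def n26132 : Q := act 0 n21695
theorem D26132 : act 0 n21695 = n26132 := rfl
theorem F53773 : act 3 n26132 = n21700 := d2_2 (iv F42039) D26132 (iv D21700)
theorem F53774 : act 6 n26089 = n26132 := d17_0 F53773 F42772 (iv F53661)
def n26133 : Q := act 2 n21695
theorem D26133 : act 2 n21695 = n26133 := rfl
theorem F53775 : act 1 n26133 = n23683 := d6_1 D26133 F47290 F46424 F41995 D21695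
theorem F53776 : act 4 n26133 = n23682 := d12_2 F53757 D26133 (iv F53755)
def n26134 : Q := act 5 n21695
theorem D26134 : act 5 n21695 = n26134 := rfl
theorem F53777 : act 1 n26134 = n21844 := d9_1 D26134 (iv D21844) (iv D16482) (iv F28412) D21695
theorem F53778 : act 3 n26134 = n21702 := d16_1 D26134 (iv D21702) (iv F42039)
theorem F53779 : act 4 n26134 = n22850 := d18_1 D26134 (iv F53758) F53757
def n26135 : Q := act 6 n21695
theorem D26135 : act 6 n21695 = n26135 := rfl
theorem F53780 : act 0 n26135 = n26089 := d5_1 D26135 F53774 (iv D26132)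
theorem F53781 : act 3 n26135 = n21703 := d17_1 D26135 (iv D21703) (iv F42039)
def n26136 : Q := act 0 n21696
theorem D26136 : act 0 n21696 = n26136 := rfl
theorem F53782 : act 3 n26136 = n21704 := d2_2 (iv F42040) D26136 (iv D21704)
theorem F53783 : act 6 n26136 = n21697 := d5_2 (iv F42041) D26136 (iv D21697)
def n26137 : Q := act 2 n21696
theorem D26137 : act 2 n21696 = n26137 := rfl
theorem F53784 : act 1 n26137 = n23199 := d6_1 D26137 F46101 (iv F42018) F42019 D21696
theorem F53785 : act 4 n26137 = n23532 := d12_2 F53761 D26137 (iv F53759)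
theorem F53786 : act 6 n26137 = n21698 := d14_2 (iv F42041) D26137 (iv D21698)
def n26138 : Q := act 2 n21697
theorem D26138 : act 2 n21697 = n26138 := rfl
theorem F53787 : act 0 n26138 = n21698 := d1_1 D26138 (iv D21698) D21697
theorem F53788 : act 4 n26138 = n22472 := d12_2 F53764 D26138 F53766
theorem F53789 : act 1 n23368 = n26138 := d8_3 F53788 F43989 (iv F46514)
theorem F53790 : act 5 n22471 = n26138 := d18_0 F53788 (iv D22472) D22471
def n26139 : Q := act 5 n21697
theorem D26139 : act 5 n21697 = n26139 := rfl
theorem F53791 : act 0 n26139 = n21699 := d4_1 D26139 (iv D21699) D21697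
theorem F53792 : act 1 n26139 = n25399 := d9_1 D26139 F52139 (iv F41963) D26101 (iv F53693)
theorem F53793 : act 2 n26139 = n22471 := d13_1 D26139 F53790 (iv D26138)
theorem F53794 : act 3 n26139 = n21707 := d16_1 D26139 (iv D21707) (iv F42042)
theorem F53795 : act 4 n26139 = n22470 := d18_1 D26139 (iv F53765) F53764
theorem F53796 : act 6 n26139 = n25400 := d22_1 D26139 F52141 F42041 D21697
def n26140 : Q := act 3 n21698
theorem D26140 : act 3 n21698 = n26140 := rfl
def n26141 : Q := act 5 n21698
theorem D26141 : act 5 n21698 = n26141 := rfl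
theorem F53797 : act 0 n26141 = n22471 := d4_1 D26141 F53790 F53787
theorem F53798 : act 2 n26141 = n21699 := d13_1 D26141 (iv D21699) D21698
theorem F53799 : act 4 n26141 = n22210 := d18_1 D26141 (iv F53770) F53769
theorem F53800 : act 1 n22212 = n26141 := d8_3 F53799 F43299 D22212
def n26142 : Q := act 6 n21699
theorem D26142 : act 6 n21699 = n26142 := rfl
theorem F53801 : act 0 n26142 = n25400 := d5_1 D26142 (iv F53796) F53791
theorem F53802 : act 3 n26142 = n21710 := d17_1 D26142 (iv D21710) (iv F42044)
theorem F53803 : act 5 n26142 = n26136 := d20_1 D26142 F53783 D26139 F53796 F52141 F42041 D21699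
def n26143 : Q := act 2 n21700
theorem D26143 : act 2 n21700 = n26143 := rfl
theorem F53804 : act 0 n26143 = n21701 := d1_1 D26143 (iv D21701) D21700
theorem F53805 : act 4 n26143 = n22346 := d12_2 (iv F42045) D26143 (iv D22346)
theorem F53806 : act 5 n26143 = n23046 := d13_2 F53664 D26143 (iv F53665)
theorem F53807 : act 6 n26143 = n26093 := d14_2 (iv F42772) D26143 (iv D26093)
theorem F53808 : act 1 n24829 = n26143 := d9_5 F53806 F45713 (iv D20392) D20391 D24829
def n26144 : Q := act 3 n21701
theorem D26144 : act 3 n21701 = n26144 := rfl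
theorem F53809 : act 4 n26144 = n22957 := d15_2 (iv F42046) D26144 F45436 F32378 (iv F30237)
theorem F53810 : act 5 n26144 = n22954 := d16_2 F42047 D26144 F45431
def n26145 : Q := act 5 n21703
theorem D26145 : act 5 n21703 = n26145 := rfl
theorem F53811 : act 0 n26145 = n25543 := d4_1 D26145 F52423 F42773
theorem F53812 : act 4 n26145 = n22347 := d18_1 D26145 (iv D22347) (iv F42051)
theorem F53813 : act 6 n26145 = n26090 := d20_2 D21703 D26145 F53664 F42772 (iv F52423) F52424 (iv D21702)
theorem F53814 : act 1 n26145 = n21704 := d24_2 D21703 D26145 F42053 D21707 F42060 (iv D21188) F27708 (iv D16025) D16026 F27712 F34852 (iv D12316) (iv F21641) D16400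
def n26146 : Q := act 2 n21704
theorem D26146 : act 2 n21704 = n26146 := rfl
theorem F53815 : act 0 n26146 = n21705 := d1_1 D26146 (iv D21705) D21704
theorem F53816 : act 4 n26146 = n22356 := d12_2 (iv F42052) D26146 (iv D22356)
theorem F53817 : act 6 n26146 = n21706 := d14_2 (iv F42053) D26146 (iv D21706)
theorem F53818 : act 1 n24435 = n26146 := d10_5 F53817 (iv F42058) F30367 (iv F37963) D24435
def n26147 : Q := act 3 n21705
theorem D26147 : act 3 n21705 = n26147 := rfl
theorem F53819 : act 4 n26147 = n23527 := d15_2 (iv F42054) D26147 (iv F51339) F51340 (iv D22357)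
theorem F53820 : act 5 n26147 = n23152 := d16_2 (iv F50285) D26147 (iv F50283)
theorem F53821 : act 6 n26147 = n21708 := d17_2 (iv F42055) D26147 (iv D21708)
def n26148 : Q := act 5 n21706
theorem D26148 : act 5 n21706 = n26148 := rfl
theorem F53822 : act 0 n26148 = n21709 := d4_1 D26148 (iv D21709) (iv F42056)
theorem F53823 : act 2 n26148 = n21707 := d13_1 D26148 (iv D21707) D21706
theorem F53824 : act 4 n26148 = n22358 := d18_1 D26148 (iv D22358) (iv F42057)
theorem F53825 : act 6 n26148 = n24750 := d22_1 D26148 (iv F50285) F42055 (iv F42056)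
def n26149 : Q := act 2 n21708
theorem D26149 : act 2 n21708 = n26149 := rfl
theorem F53826 : act 1 n26149 = n23446 := d6_1 D26149 F46681 F46937 (iv D21736) (iv F42063)
theorem F53827 : act 4 n26149 = n23732 := d12_2 (iv F47271) D26149 F47433
def n26150 : Q := act 5 n21708
theorem D26150 : act 5 n21708 = n26150 := rfl
theorem F53828 : act 3 n26150 = n21709 := d16_1 D26150 (iv D21709) D21708
theorem F53829 : act 4 n26150 = n25141 := d18_1 D26150 F51396 (iv F47271)
theorem F53830 : act 6 n26150 = n25140 := d22_3 (iv F53820) F53821 D26150 F51390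
theorem F53831 : act 1 n25205 = n26150 := d10_5 F53830 F51391 F39895 (iv F40233) D25205
def n26151 : Q := act 1 n21709
theorem D26151 : act 1 n21709 = n26151 := rfl
theorem F53832 : act 2 n26151 = n24028 := d6_2 (iv F42064) D26151 (iv D24028) F37125 (iv F28421)
theorem F53833 : act 3 n26151 = n25205 := d7_2 F53828 D26151 F53831
theorem F53834 : act 4 n26151 = n22362 := d8_2 (iv F42065) D26151 (iv D22362)
theorem F53835 : act 5 n26151 = n21739 := d9_2 D21709 D26151 (iv D21739) (iv D16421) (iv F28419)
theorem F53836 : act 0 n24138 = n26151 := d4_3 F53835 (iv F48014) (iv F48700)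
theorem F53837 : act 6 n25195 = n26151 := d19_0 F53834 (iv F43713) D25195
def n26152 : Q := act 6 n21709
theorem D26152 : act 6 n21709 = n26152 := rfl
theorem F53838 : act 0 n26152 = n24750 := d5_1 D26152 (iv F53825) F53822
theorem F53839 : act 1 n26152 = n22615 := d10_1 D26152 F44388 (iv F51591) F53837 (iv D26151)
theorem F53840 : act 2 n26152 = n21710 := d14_1 D26152 (iv D21710) (iv F42064)
theorem F53841 : act 3 n26152 = n25140 := d17_1 D26152 (iv F53830) F53828
theorem F53842 : act 4 n26152 = n22363 := d19_1 D26152 (iv D22363) (iv F42065)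
theorem F53843 : act 5 n26152 = n26146 := d20_1 D26152 F53817 D26148 F53825 (iv F50285) F42055 D21709
def n26153 : Q := act 1 n21710
theorem D26153 : act 1 n21710 = n26153 := rfl
theorem F53844 : act 0 n26153 = n21853 := d0_1 D26153 F42390 (iv F42773) (iv D21657) F28361 (iv F35253) (iv F27709) D21189 (iv F42066)
theorem F53845 : act 4 n26153 = n22364 := d8_2 (iv F42067) D26153 (iv D22364)
theorem F53846 : act 5 n26153 = n21853 := d9_2 (iv F42068) D26153 F42390 D26145 F53814
theorem F53847 : act 6 n26153 = n21851 := d10_2 D21710 D26153 (iv F43619) (iv D21293) (iv F28421)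
def n26154 : Q := act 3 n21711
theorem D26154 : act 3 n21711 = n26154 := rfl
theorem F53848 : act 0 n26154 = n21713 := d2_1 D26154 (iv D21713) (iv F42069)
theorem F53849 : act 6 n26154 = n24472 := d17_2 (iv F42071) D26154 (iv D24472)
def n26155 : Q := act 0 n21712
theorem D26155 : act 0 n21712 = n26155 := rfl
theorem F53850 : act 2 n26155 = n21716 := d1_2 (iv F42072) D26155 (iv D21716)
theorem F53851 : act 4 n26155 = n22365 := d3_2 (iv F42073) D26155 (iv D22365)
theorem F53852 : act 6 n25873 = n26155 := d19_0 F53851 (iv F43724) (iv F53111)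
def n26156 : Q := act 3 n21712
theorem D26156 : act 3 n21712 = n26156 := rfl
theorem F53853 : act 1 n26156 = n21713 := d7_1 D26156 (iv D21713) D21712
def n26157 : Q := act 5 n21712
theorem D26157 : act 5 n21712 = n26157 := rfl
theorem F53854 : act 2 n26157 = n21718 := d13_1 D26157 (iv D21718) (iv F42072)
theorem F53855 : act 4 n26157 = n22367 := d18_1 D26157 (iv D22367) (iv F42073)
def n26158 : Q := act 6 n21712
theorem D26158 : act 6 n21712 = n26158 := rfl
theorem F53856 : act 0 n26158 = n25873 := d5_1 D26158 F53852 (iv D26155)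
theorem F53857 : act 2 n26158 = n21719 := d14_1 D26158 (iv D21719) (iv F42072)
theorem F53858 : act 4 n26158 = n22368 := d19_1 D26158 (iv D22368) (iv F42073)
def n26159 : Q := act 2 n21713
theorem D26159 : act 2 n21713 = n26159 := rfl
def n26160 : Q := act 4 n21713
theorem D26160 : act 4 n21713 = n26160 := rfl
theorem F53859 : act 3 n26160 = n22369 := d15_1 D26160 (iv D22369) (iv D17069) (iv F28425) D21713
theorem F53860 : act 5 n25982 = n26160 := d16_0 F53859 F43737 (iv F53425)
theorem F53861 : act 6 n26110 = n26160 := d17_0 F53859 F43738 D26110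
def n26161 : Q := act 5 n21713
theorem D26161 : act 5 n21713 = n26161 := rfl
theorem F53862 : act 3 n26161 = n21714 := d16_1 D26161 (iv D21714) D21713
theorem F53863 : act 4 n26161 = n25982 := d18_1 D26161 F53860 (iv D26160)
theorem F53864 : act 6 n26161 = n25980 := d22_1 D26161 (iv F53420) (iv F53849) F53848
def n26162 : Q := act 6 n21713
theorem D26162 : act 6 n21713 = n26162 := rfl
theorem F53865 : act 0 n26162 = n24472 := d5_1 D26162 (iv F53849) F53848
theorem F53866 : act 3 n26162 = n21715 := d17_1 D26162 (iv D21715) D21713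
theorem F53867 : act 4 n26162 = n26110 := d19_1 D26162 F53861 (iv D26160)
theorem F53868 : act 5 n25496 = n26162 := d22_0 (iv D26162) D26161 F53864 F53416
theorem F53869 : act 1 n26112 = n26162 := d8_3 F53867 F53709 D26112
def n26163 : Q := act 1 n21714
theorem D26163 : act 1 n21714 = n26163 := rfl
theorem F53870 : act 0 n26163 = n26163 := d0_1 D26163 (iv D26163) (iv F48566) (iv D24080) F37235 F25346 (iv F37235) D24080 F48566
theorem F53871 : act 2 n26163 = n21752 := d6_2 (iv F42074) D26163 (iv D21752) F28469 (iv F28426)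
theorem F53872 : act 4 n26163 = n22370 := d8_2 (iv F42075) D26163 (iv D22370)
theorem F53873 : act 6 n26163 = n21752 := d10_2 F43277 D26163 (iv D21752) F39621 (iv F43274)
def n26164 : Q := act 3 n21716
theorem D26164 : act 3 n21716 = n26164 := rfl
theorem F53874 : act 0 n26164 = n21717 := d2_1 D26164 (iv D21717) D21716
theorem F53875 : act 1 n26164 = n26064 := d7_1 D26164 F53592 (iv F43417)
theorem F53876 : act 6 n26164 = n26065 := d17_2 F43420 D26164 F53593
def n26165 : Q := act 5 n21716
theorem D26165 : act 5 n21716 = n26165 := rfl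
theorem F53877 : act 0 n26165 = n21718 := d4_1 D26165 (iv D21718) D21716
theorem F53878 : act 4 n26165 = n22372 := d18_1 D26165 (iv D22372) (iv F42080)
def n26166 : Q := act 2 n21717
theorem D26166 : act 2 n21717 = n26166 := rfl
def n26167 : Q := act 4 n21717
theorem D26167 : act 4 n21717 = n26167 := rfl
theorem F53879 : act 1 n26167 = n21721 := d8_1 D26167 (iv D21721) (iv F42081)
theorem F53880 : act 3 n26167 = n22374 := d15_1 D26167 (iv D22374) (iv D17073) (iv F28431) D21717
def n26168 : Q := act 5 n21717
theorem D26168 : act 5 n21717 = n26168 := rfl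
theorem F53881 : act 1 n26168 = n21761 := d9_1 D26168 (iv D21761) F28481 (iv F28433) (iv F42081)
theorem F53882 : act 3 n26168 = n21718 := d16_1 D26168 (iv D21718) D21717
def n26169 : Q := act 6 n21717
theorem D26169 : act 6 n21717 = n26169 := rfl
theorem F53883 : act 0 n26169 = n26065 := d5_1 D26169 (iv F53876) F53874
theorem F53884 : act 3 n26169 = n21719 := d17_1 D26169 (iv D21719) D21717
def n26170 : Q := act 5 n21719
theorem D26170 : act 5 n21719 = n26170 := rfl
theorem F53885 : act 0 n26170 = n26073 := d4_1 D26170 (iv D26073) (iv F43421)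
theorem F53886 : act 4 n26170 = n22377 := d18_1 D26170 (iv D22377) (iv F42084)
theorem F53887 : act 6 n26170 = n26165 := d20_2 D21719 D26170 (iv D26165) (iv F43420) D26073 F53621 (iv D21718)
def n26171 : Q := act 1 n21720
theorem D26171 : act 1 n21720 = n26171 := rfl
theorem F53888 : act 3 n26171 = n25757 := d7_2 (iv F42087) D26171 (iv D25757)
def n26172 : Q := act 4 n21720
theorem D26172 : act 4 n21720 = n26172 := rfl
theorem F53889 : act 0 n26172 = n21724 := d3_1 D26172 (iv D21724) (iv F42085)
theorem F53890 : act 2 n26172 = n21721 := d12_1 D26172 (iv D21721) D21720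
theorem F53891 : act 5 n26172 = n21767 := d18_2 (iv F42086) D26172 (iv D21767)
def n26173 : Q := act 0 n21722
theorem D26173 : act 0 n21722 = n26173 := rfl
def n26174 : Q := act 3 n21722
theorem D26174 : act 3 n21722 = n26174 := rfl
theorem F53892 : act 1 n26174 = n21723 := d7_1 D26174 (iv D21723) D21722
def n26175 : Q := act 4 n21722
theorem D26175 : act 4 n21722 = n26175 := rfl
theorem F53893 : act 1 n26175 = n21724 := d8_1 D26175 (iv D21724) D21722
def n26176 : Q := act 5 n21722
theorem D26176 : act 5 n21722 = n26176 := rfl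
theorem F53894 : act 1 n26176 = n21777 := d9_1 D26176 (iv D21777) (iv D16441) (iv F28434) D21722
theorem F53895 : act 2 n26176 = n24870 := d13_1 D26176 (iv F50729) F50728
def n26177 : Q := act 6 n21722
theorem D26177 : act 6 n21722 = n26177 := rfl
def n26178 : Q := act 4 n21723
theorem D26178 : act 4 n21723 = n26178 := rfl
theorem F53896 : act 0 n26178 = n25758 := d3_1 D26178 (iv D25758) (iv F42091)
theorem F53897 : act 2 n26178 = n25756 := d12_1 D26178 (iv D25756) (iv F42092)
theorem F53898 : act 5 n26178 = n21779 := d18_2 (iv F42093) D26178 (iv D21779)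
def n26179 : Q := act 3 n21724
theorem D26179 : act 3 n21724 = n26179 := rfl
theorem F53899 : act 5 n26179 = n21781 := d16_2 (iv F42095) D26179 (iv D21781)
def n26180 : Q := act 6 n21724
theorem D26180 : act 6 n21724 = n26180 := rfl
theorem F53900 : act 2 n26180 = n21726 := d14_1 D26180 (iv D21726) (iv F42094)
theorem F53901 : act 4 n26180 = n21725 := d19_1 D26180 (iv D21725) D21724
def n26181 : Q := act 1 n21725
theorem D26181 : act 1 n21725 = n26181 := rfl
def n26182 : Q := act 1 n21726
theorem D26182 : act 1 n21726 = n26182 := rfl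
theorem F53902 : act 3 n26182 = n22385 := d7_2 (iv F42097) D26182 (iv D22385)
theorem F53903 : act 4 n26182 = n21727 := d8_2 (iv F42098) D26182 (iv D21727)
def n26183 : Q := act 0 n21727
theorem D26183 : act 0 n21727 = n26183 := rfl
theorem F53904 : act 3 n26183 = n21728 := d2_2 (iv F42099) D26183 (iv D21728)
def n26184 : Q := act 2 n21727
theorem D26184 : act 2 n21727 = n26184 := rfl
def n26185 : Q := act 5 n21727
theorem D26185 : act 5 n21727 = n26185 := rfl
theorem F53905 : act 3 n26185 = n21730 := d16_1 D26185 (iv D21730) (iv F42099)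
def n26186 : Q := act 1 n21728
theorem D26186 : act 1 n21728 = n26186 := rfl
theorem F53906 : act 4 n26186 = n22388 := d8_2 (iv F42100) D26186 (iv D22388)
theorem F53907 : act 6 n26186 = n24096 := d10_2 F50750 D26186 F48602 D24099 F50751
theorem F53908 : act 2 n24097 = n26186 := d14_3 F53907 (iv D24096) D24097
def n26187 : Q := act 2 n21728
theorem D26187 : act 2 n21728 = n26187 := rfl
theorem F53909 : act 0 n26187 = n21729 := d1_1 D26187 (iv D21729) D21728
theorem F53910 : act 4 n26187 = n22389 := d12_2 (iv F42100) D26187 (iv D22389)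
theorem F53911 : act 3 n25137 = n26187 := d15_5 F53910 (iv F43771) F39859 (iv F39875) (iv F51381)
theorem F53912 : act 5 n25129 = n26187 := d18_0 F53910 F43770 D25129
def n26188 : Q := act 5 n21728
theorem D26188 : act 5 n21728 = n26188 := rfl
theorem F53913 : act 0 n26188 = n21730 := d4_1 D26188 (iv D21730) D21728
theorem F53914 : act 2 n26188 = n25129 := d13_1 D26188 F53912 (iv D26187)
theorem F53915 : act 4 n26188 = n22390 := d18_1 D26188 (iv D22390) (iv F42100)
theorem F53916 : act 6 n26188 = n24959 := d22_1 D26188 (iv D24959) F38857 D21728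
def n26189 : Q := act 3 n21729
theorem D26189 : act 3 n21729 = n26189 := rfl
theorem F53917 : act 0 n26189 = n25137 := d2_1 D26189 F53911 F53909
theorem F53918 : act 1 n26189 = n21732 := d7_1 D26189 (iv D21732) (iv F42101)
theorem F53919 : act 4 n26189 = n25132 := d15_2 (iv F42102) D26189 F51365 F43775 (iv D22391)
theorem F53920 : act 5 n25131 = n26189 := d18_0 F53919 (iv D25132) D25131
def n26190 : Q := act 5 n21729
theorem D26190 : act 5 n21729 = n26190 := rfl
theorem F53921 : act 0 n26190 = n25129 := d4_1 D26190 F53912 F53909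
theorem F53922 : act 2 n26190 = n21730 := d13_1 D26190 (iv D21730) D21729
theorem F53923 : act 3 n26190 = n25131 := d16_1 D26190 F53920 (iv D26189)
theorem F53924 : act 4 n26190 = n22392 := d18_1 D26190 (iv D22392) (iv F42102)
theorem F53925 : act 1 n24746 = n26190 := d8_3 F53924 (iv F43780) (iv F50271)
def n26191 : Q := act 6 n21730
theorem D26191 : act 6 n21730 = n26191 := rfl
theorem F53926 : act 0 n26191 = n24959 := d5_1 D26191 (iv F53916) F53913
theorem F53927 : act 4 n26191 = n22393 := d19_1 D26191 (iv D22393) (iv F42103)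
theorem F53928 : act 5 n26191 = n24957 := d20_1 D26191 F50750 D26188 F53916 (iv D24959) F38857 D21730
theorem F53929 : act 1 n24639 = n26191 := d24_14 (iv D26191) (iv D21730) (iv D16414) (iv D12278) F17866 F7897 (iv F16868) (iv D4532) (iv F6889) (iv F13930) D11532 D15000 D20251 D24639
def n26192 : Q := act 3 n21731
theorem D26192 : act 3 n21731 = n26192 := rfl
theorem F53930 : act 0 n26192 = n21732 := d2_1 D26192 (iv D21732) (iv F42104)
theorem F53931 : act 1 n26192 = n24017 := d7_1 D26192 F48389 (iv F42105)
theorem F53932 : act 4 n26192 = n25056 := d15_2 (iv F42106) D26192 F51099 F43792 (iv D22394)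
theorem F53933 : act 6 n26192 = n21734 := d17_2 (iv F42107) D26192 (iv D21734)
theorem F53934 : act 2 n25052 = n26192 := d12_3 F53932 (iv D25056) (iv F51086)
def n26193 : Q := act 5 n21732
theorem D26193 : act 5 n21732 = n26193 := rfl
theorem F53935 : act 3 n26193 = n21733 := d16_1 D26193 (iv D21733) D21732
theorem F53936 : act 4 n26193 = n23821 := d18_1 D26193 F47739 (iv F42108)
def n26194 : Q := act 1 n21733
theorem D26194 : act 1 n21733 = n26194 := rfl
theorem F53937 : act 2 n26194 = n24742 := d6_2 (iv F42110) D26194 (iv F50261) (iv D21110) (iv F28444)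
theorem F53938 : act 4 n26194 = n22395 := d8_2 (iv F42111) D26194 (iv D22395)
theorem F53939 : act 5 n26194 = n24746 := d9_2 D21733 D26194 F53925 (iv D26190) F42101
theorem F53940 : act 0 n26194 = n24743 := d23_3 D16417 (iv F42110) D26194 F50263 (iv D20331) (iv D15057) F20487 (iv F20480) F20478 D11555 D15046 F37104 (iv D19705) (iv D14481) (iv F25282) F25286 (iv F27802) F28441 (iv D16415)
def n26195 : Q := act 2 n21734
theorem D26195 : act 2 n21734 = n26195 := rfl
theorem F53941 : act 0 n26195 = n21736 := d1_1 D26195 (iv D21736) (iv F42112)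
theorem F53942 : act 1 n26195 = n22452 := d6_1 D26195 F43939 (iv F50063) F50064 (iv F42113)
theorem F53943 : act 6 n26195 = n25052 := d14_2 F53933 D26195 F53934
theorem F53944 : act 3 n26195 = n25770 := d21_1 D26195 (iv D25770) (iv D21448) (iv D16228) F21485 D12281 D16420 (iv F42112)
theorem F53945 : act 1 n25770 = n24924 := d7_1 F53944 F50660 (iv F53942)
theorem F53946 : act 4 n24926 = n25770 := d8_0 F53945 F50661 D24926
theorem F53947 : act 2 n25771 = n24926 := d12_3 F53946 (iv D25770) D25771
theorem F53948 : act 4 n26195 = n22453 := d15_2 F53946 (iv F53944) F43942 (iv F38817) (iv F50667)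
def n26196 : Q := act 4 n21734
theorem D26196 : act 4 n21734 = n26196 := rfl
theorem F53949 : act 0 n26196 = n21737 := d3_1 D26196 (iv D21737) (iv F42112)
theorem F53950 : act 1 n26196 = n24656 := d8_1 D26196 F50069 (iv F42113)
theorem F53951 : act 2 n26196 = n22453 := d12_1 D26196 (iv F53948) (iv D26195)
theorem F53952 : act 3 n26196 = n22396 := d15_1 D26196 (iv D22396) (iv D17088) (iv F28448) D21734
theorem F53953 : act 6 n26196 = n25056 := d19_2 F53933 D26196 (iv F53932)
def n26197 : Q := act 5 n21734
theorem D26197 : act 5 n21734 = n26197 := rfl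
theorem F53954 : act 0 n26197 = n21738 := d4_1 D26197 (iv D21738) (iv F42112)
theorem F53955 : act 3 n26197 = n21735 := d16_1 D26197 (iv D21735) D21734
theorem F53956 : act 6 n26197 = n26193 := d22_1 D26197 (iv D26193) F42109 (iv F42112)
def n26198 : Q := act 1 n21735
theorem D26198 : act 1 n21735 = n26198 := rfl
theorem F53957 : act 0 n26198 = n26198 := d0_1 D26198 (iv D26198) F42114 D21739 (iv F48014) F48015 F48014 (iv D21739) (iv F42114)
theorem F53958 : act 2 n26198 = n24658 := d6_2 (iv F42115) D26198 (iv D24658) F38397 (iv F28450)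
theorem F53959 : act 4 n26198 = n22397 := d8_2 (iv F42116) D26198 (iv D22397)
theorem F53960 : act 5 n26198 = n24658 := d9_2 D21735 D26198 (iv D24658) (iv D20263) (iv F28447)
def n26199 : Q := act 3 n21736
theorem D26199 : act 3 n21736 = n26199 := rfl
theorem F53961 : act 0 n26199 = n25770 := d2_1 D26199 (iv F53944) F53941
theorem F53962 : act 2 n26199 = n25768 := d11_1 D26199 (iv D25768) (iv D21446) F28061 D16418 D21734 D26195 F53944 (iv D25770) (iv D21448) (iv D16228) F21485 D12281 D16420 D21736
def n26200 : Q := act 5 n21736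
theorem D26200 : act 5 n21736 = n26200 := rfl
theorem F53963 : act 2 n26200 = n21738 := d13_1 D26200 (iv D21738) D21736
def n26201 : Q := act 5 n21737
theorem D26201 : act 5 n21737 = n26201 := rfl
theorem F53964 : act 1 n26201 = n24294 := d9_1 D26201 (iv F49088) (iv F51393) F51396 (iv F47270)
theorem F53965 : act 3 n26201 = n22398 := d16_1 D26201 (iv D22398) (iv F42118)
theorem F53966 : act 4 n26201 = n21738 := d18_1 D26201 (iv D21738) D21737
def n26202 : Q := act 1 n21738
theorem D26202 : act 1 n21738 = n26202 := rfl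
theorem F53967 : act 3 n26202 = n21739 := d7_2 (iv F42120) D26202 (iv D21739)
theorem F53968 : act 4 n26202 = n24294 := d8_2 F53966 D26202 (iv F53964)
theorem F53969 : act 5 n26202 = n25205 := d9_2 D21738 D26202 F53831 (iv D26150) F42063
theorem F53970 : act 2 n24295 = n26202 := d12_3 F53968 (iv D24294) D24295
def n26203 : Q := act 6 n21738
theorem D26203 : act 6 n21738 = n26203 := rfl
theorem F53971 : act 0 n26203 = n26193 := d5_1 D26203 (iv F53956) F53954
theorem F53972 : act 3 n26203 = n21740 := d17_1 D26203 (iv D21740) (iv F42120)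
theorem F53973 : act 5 n26203 = n26192 := d20_1 D26203 F53933 D26197 F53956 (iv D26193) F42109 D21738
def n26204 : Q := act 6 n21739
theorem D26204 : act 6 n21739 = n26204 := rfl
theorem F53974 : act 2 n26204 = n23994 := d14_1 D26204 F48328 (iv F42121)
theorem F53975 : act 4 n26204 = n22400 := d19_1 D26204 (iv D22400) (iv F42122)
def n26205 : Q := act 1 n21740
theorem D26205 : act 1 n21740 = n26205 := rfl
theorem F53976 : act 2 n26205 = n25970 := d6_2 (iv F42124) D26205 (iv D25970) F41783 (iv F28456)
theorem F53977 : act 4 n26205 = n22401 := d8_2 (iv F42125) D26205 (iv D22401)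
def n26206 : Q := act 3 n21741
theorem D26206 : act 3 n21741 = n26206 := rfl
theorem F53978 : act 0 n26206 = n21802 := d2_1 D26206 (iv D21802) F42129
theorem F53979 : act 1 n26206 = n21742 := d7_1 D26206 (iv D21742) D21741
def n26207 : Q := act 5 n21741
theorem D26207 : act 5 n21741 = n26207 := rfl
theorem F53980 : act 0 n26207 = n21803 := d4_1 D26207 (iv D21803) F42129
theorem F53981 : act 2 n26207 = n25972 := d13_1 D26207 (iv D25972) (iv F42127)
theorem F53982 : act 4 n26207 = n22402 := d18_1 D26207 (iv D22402) (iv F42128)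
def n26208 : Q := act 6 n21741
theorem D26208 : act 6 n21741 = n26208 := rfl
theorem F53983 : act 0 n26208 = n21804 := d5_1 D26208 (iv D21804) F42129
theorem F53984 : act 2 n26208 = n25973 := d14_1 D26208 (iv D25973) (iv F42127)
theorem F53985 : act 4 n26208 = n22306 := d19_1 D26208 F43529 (iv F42128)
theorem F53986 : act 5 n26208 = n22316 := d22_2 (iv D26207) D26208 F43554 (iv F53980)
def n26209 : Q := act 5 n21742
theorem D26209 : act 5 n21742 = n26209 := rfl
theorem F53987 : act 0 n26209 = n21750 := d4_1 D26209 (iv D21750) (iv F42130)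
theorem F53988 : act 2 n26209 = n23261 := d13_1 D26209 (iv D23261) (iv F42131)
theorem F53989 : act 3 n26209 = n21743 := d16_1 D26209 (iv D21743) D21742
theorem F53990 : act 4 n26209 = n25975 := d18_1 D26209 F53400 F52116
theorem F53991 : act 6 n26209 = n25380 := d20_2 F53439 D26209 F52078 (iv D21751) D21750 (iv F42157) D25986
def n26210 : Q := act 1 n21743
theorem D26210 : act 1 n21743 = n26210 := rfl
theorem F53992 : act 2 n26210 = n23895 := d6_2 (iv F42133) D26210 (iv D23895) F36715 F28464
theorem F53993 : act 4 n26210 = n22403 := d8_2 (iv F42134) D26210 (iv D22403)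
theorem F53994 : act 0 n23906 = n26210 := d3_3 F53993 (iv F43820) (iv F48028)
def n26211 : Q := act 1 n21744
theorem D26211 : act 1 n21744 = n26211 := rfl
theorem F53995 : act 2 n26211 = n23872 := d6_2 (iv F42137) D26211 (iv D23872) (iv F38137) F38136
theorem F53996 : act 4 n26211 = n22205 := d8_2 (iv F42138) D26211 (iv D22205)
theorem F53997 : act 5 n26211 = n23874 := d9_2 (iv F42139) D26211 F47934 (iv F43276) F43274
theorem F53998 : act 0 n24058 = n26211 := d3_3 F53996 (iv F43289) (iv F48505)
def n26212 : Q := act 3 n21745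
theorem D26212 : act 3 n21745 = n26212 := rfl
theorem F53999 : act 0 n26212 = n21746 := d2_1 D26212 (iv D21746) D21745
theorem F54000 : act 1 n26212 = n21806 := d7_1 D26212 (iv D21806) (iv F42140)
theorem F54001 : act 2 n26212 = n23389 := d11_1 D26212 (iv F46720) (iv F46758) (iv F46760) (iv D21759) (iv D16433) (iv F28467) D21746 F42145 (iv F34024) (iv F34064) D23483 F46763 (iv D21756) (iv F42141)
theorem F54002 : act 4 n26212 = n25554 := d15_2 (iv F42142) D26212 (iv D25554) F41208 (iv F39586)
theorem F54003 : act 6 n26212 = n25869 := d17_2 F42143 D26212 (iv D25869)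
def n26213 : Q := act 5 n21745
theorem D26213 : act 5 n21745 = n26213 := rfl
theorem F54004 : act 0 n26213 = n21747 := d4_1 D26213 (iv D21747) D21745
theorem F54005 : act 1 n26213 = n24385 := d9_1 D26213 F49352 (iv F49312) (iv D21807) (iv F42140)
theorem F54006 : act 2 n26213 = n21757 := d13_1 D26213 (iv D21757) (iv F42141)
theorem F54007 : act 4 n26213 = n22404 := d18_1 D26213 (iv D22404) (iv F42142)
def n26214 : Q := act 4 n21746
theorem D26214 : act 4 n21746 = n26214 := rfl
theorem F54008 : act 0 n26214 = n25554 := d3_1 D26214 (iv F54002) F53999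
theorem F54009 : act 1 n26214 = n21749 := d8_1 D26214 (iv D21749) (iv F42144)
theorem F54010 : act 2 n26214 = n23390 := d12_1 D26214 (iv D23390) (iv F42145)
theorem F54011 : act 3 n26214 = n22405 := d15_1 D26214 (iv D22405) (iv D17100) (iv F28468) D21746
theorem F54012 : act 5 n25927 = n26214 := d16_0 F54011 F43830 (iv F53277)
theorem F54013 : act 6 n24471 = n26214 := d17_0 F54011 F43831 D24471
def n26215 : Q := act 5 n21746
theorem D26215 : act 5 n21746 = n26215 := rfl
theorem F54014 : act 2 n26215 = n23391 := d13_1 D26215 (iv D23391) (iv F42145)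
theorem F54015 : act 3 n26215 = n21747 := d16_1 D26215 (iv D21747) D21746
theorem F54016 : act 4 n26215 = n25927 := d18_1 D26215 F54012 (iv D26214)
theorem F54017 : act 6 n26215 = n25925 := d22_1 D26215 (iv F53271) (iv F54003) F53999
def n26216 : Q := act 6 n21746
theorem D26216 : act 6 n21746 = n26216 := rfl
theorem F54018 : act 0 n26216 = n25869 := d5_1 D26216 (iv F54003) F53999
theorem F54019 : act 2 n26216 = n23392 := d14_1 D26216 (iv D23392) (iv F42145)
theorem F54020 : act 3 n26216 = n21748 := d17_1 D26216 (iv D21748) D21746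
theorem F54021 : act 4 n26216 = n24471 := d19_1 D26216 F54013 (iv D26214)
def n26217 : Q := act 1 n21747
theorem D26217 : act 1 n21747 = n26217 := rfl
theorem F54022 : act 0 n26217 = n26217 := d0_1 D26217 (iv D26217) (iv F54004) F54005 F49350 F37877 (iv F49350) (iv F54005) F54004
theorem F54023 : act 4 n26217 = n22406 := d8_2 (iv F42147) D26217 (iv D22406)
theorem F54024 : act 5 n26217 = n21752 := d9_2 D21747 D26217 (iv D21752) (iv D16428) D16426
def n26218 : Q := act 1 n21748
theorem D26218 : act 1 n21748 = n26218 := rfl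
theorem F54025 : act 2 n26218 = n25829 := d6_2 (iv F42149) D26218 F53014 F50632 (iv D21764)
theorem F54026 : act 4 n26218 = n22407 := d8_2 (iv F42150) D26218 (iv D22407)
theorem F54027 : act 6 n26218 = n21753 := d10_2 D21748 D26218 (iv D21753) (iv D16429) D16426
theorem F54028 : act 0 n26218 = n25831 := d23_3 (iv D21765) (iv F42149) D26218 (iv D25831) (iv D21482) (iv D16254) (iv F26191) (iv F28116) F28114 D16256 (iv F28124) (iv D14993) D14992 D20231 (iv F38354) D24620 F49977 F49966 (iv F42183)
theorem F54029 : act 5 n25828 = n26218 := d4_0 F54028 (iv D25831) (iv F53009)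
def n26219 : Q := act 5 n21748
theorem D26219 : act 5 n21748 = n26219 := rfl
theorem F54030 : act 0 n26219 = n22162 := d4_1 D26219 F43178 (iv F42148)
theorem F54031 : act 2 n26219 = n21765 := d13_1 D26219 (iv D21765) (iv F42149)
theorem F54032 : act 4 n26219 = n22157 := d18_1 D26219 F43165 (iv F42150)
theorem F54033 : act 6 n26219 = n26213 := d20_2 D21748 D26219 (iv D26213) (iv F42143) (iv F43178) F43179 (iv D21747)
def n26220 : Q := act 1 n21750
theorem D26220 : act 1 n21750 = n26220 := rfl
theorem F54034 : act 2 n26220 = n26220 := d6_2 (iv F42154) D26220 (iv D26220) F42154 F33754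
theorem F54035 : act 3 n26220 = n21752 := d7_2 (iv F42155) D26220 (iv D21752)
theorem F54036 : act 4 n26220 = n25988 := d8_2 (iv F42156) D26220 (iv D25988)
theorem F54037 : act 0 n26220 = n26220 := d3_3 F54036 F53443 (iv F54036)
def n26221 : Q := act 1 n21751
theorem D26221 : act 1 n21751 = n26221 := rfl
theorem F54038 : act 3 n26221 = n21753 := d7_2 (iv F42159) D26221 (iv D21753)
def n26222 : Q := act 0 n21753
theorem D26222 : act 0 n21753 = n26222 := rfl
theorem F54039 : act 2 n26222 = n25832 := d1_2 F52985 D26222 F53018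
theorem F54040 : act 4 n26222 = n22408 := d3_2 (iv F42161) D26222 (iv D22408)
theorem F54041 : act 6 n26222 = n25831 := d5_2 F54027 D26222 (iv F54028)
def n26223 : Q := act 3 n21754
theorem D26223 : act 3 n21754 = n26223 := rfl
theorem F54042 : act 5 n26223 = n25324 := d16_2 (iv F42163) D26223 (iv D25324)
theorem F54043 : act 6 n26223 = n21773 := d17_2 (iv F42164) D26223 (iv D21773)
def n26224 : Q := act 3 n21755
theorem D26224 : act 3 n21755 = n26224 := rfl
theorem F54044 : act 0 n26224 = n21869 := d2_1 D26224 (iv D21869) (iv F42165)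
theorem F54045 : act 1 n26224 = n21756 := d7_1 D26224 (iv D21756) D21755
theorem F54046 : act 2 n26224 = n23433 := d21_2 (iv F42166) D26224 (iv D23433) F33979 D23374 F53456 (iv D25993) F41818
def n26225 : Q := act 5 n21755
theorem D26225 : act 5 n21755 = n26225 := rfl
theorem F54047 : act 0 n26225 = n21870 := d4_1 D26225 (iv D21870) (iv F42165)
theorem F54048 : act 2 n26225 = n21818 := d13_1 D26225 (iv D21818) (iv F42166)
theorem F54049 : act 4 n26225 = n22411 := d18_1 D26225 (iv D22411) (iv F42167)
def n26226 : Q := act 4 n21756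
theorem D26226 : act 4 n21756 = n26226 := rfl
theorem F54050 : act 0 n26226 = n21760 := d3_1 D26226 (iv D21760) (iv F42168)
theorem F54051 : act 3 n26226 = n22412 := d15_1 D26226 (iv D22412) (iv D17112) (iv F28480) D21756
def n26227 : Q := act 5 n21756
theorem D26227 : act 5 n21756 = n26227 := rfl
theorem F54052 : act 0 n26227 = n21761 := d4_1 D26227 (iv D21761) (iv F42168)
theorem F54053 : act 3 n26227 = n21757 := d16_1 D26227 (iv D21757) D21756
def n26228 : Q := act 6 n21756
theorem D26228 : act 6 n21756 = n26228 := rfl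
theorem F54054 : act 0 n26228 = n21762 := d5_1 D26228 (iv D21762) (iv F42168)
theorem F54055 : act 3 n26228 = n21758 := d17_1 D26228 (iv D21758) D21756
theorem F54056 : act 1 n25868 = n26228 := d7_3 F54055 (iv F42174) D25868
def n26229 : Q := act 1 n21757
theorem D26229 : act 1 n21757 = n26229 := rfl
theorem F54057 : act 4 n26229 = n22414 := d8_2 (iv F42170) D26229 (iv D22414)
theorem F54058 : act 0 n26229 = n23517 := d23_3 D26213 F54006 D26229 (iv F48585) (iv F50317) (iv D24765) (iv D20346) (iv F38588) F38586 (iv F37282) F36727 (iv F36718) F36715 F28464 F28461 (iv D12285) D12284 D16426 D21745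
def n26230 : Q := act 1 n21759
theorem D26230 : act 1 n21759 = n26230 := rfl
theorem F54059 : act 2 n26230 = n21766 := d6_2 D21759 D26230 (iv D21766) (iv D16436) (iv F28481)
def n26231 : Q := act 4 n21759
theorem D26231 : act 4 n21759 = n26231 := rfl
theorem F54060 : act 2 n26231 = n21760 := d12_1 D26231 (iv D21760) D21759
def n26232 : Q := act 5 n21759
theorem D26232 : act 5 n21759 = n26232 := rfl
theorem F54061 : act 2 n26232 = n21761 := d13_1 D26232 (iv D21761) D21759
def n26233 : Q := act 6 n21759
theorem D26233 : act 6 n21759 = n26233 := rfl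
theorem F54062 : act 2 n26233 = n21762 := d14_1 D26233 (iv D21762) D21759
def n26234 : Q := act 5 n21760
theorem D26234 : act 5 n21760 = n26234 := rfl
theorem F54063 : act 3 n26234 = n22417 := d16_1 D26234 (iv D22417) (iv F42176)
theorem F54064 : act 4 n26234 = n21761 := d18_1 D26234 (iv D21761) D21760
def n26235 : Q := act 6 n21760
theorem D26235 : act 6 n21760 = n26235 := rfl
theorem F54065 : act 3 n26235 = n22418 := d17_1 D26235 (iv D22418) (iv F42176)
theorem F54066 : act 4 n26235 = n21762 := d19_1 D26235 (iv D21762) D21760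
def n26236 : Q := act 6 n21761
theorem D26236 : act 6 n21761 = n26236 := rfl
theorem F54067 : act 3 n26236 = n21763 := d17_1 D26236 (iv D21763) (iv F42177)
theorem F54068 : act 5 n26236 = n26228 := d22_2 D21761 D26236 (iv D26228) F42168
def n26237 : Q := act 1 n21762
theorem D26237 : act 1 n21762 = n26237 := rfl
theorem F54069 : act 3 n26237 = n21764 := d7_2 (iv F42178) D26237 (iv D21764)
theorem F54070 : act 6 n26237 = n21770 := d10_2 D21762 D26237 (iv D21770) (iv D16438) (iv F28481)
def n26238 : Q := act 5 n21762
theorem D26238 : act 5 n21762 = n26238 := rfl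
theorem F54071 : act 0 n26238 = n26236 := d4_1 D26238 F54068 F54054
theorem F54072 : act 3 n26238 = n21765 := d16_1 D26238 (iv D21765) (iv F42178)
theorem F54073 : act 6 n26238 = n26227 := d20_2 D21762 D26238 (iv D26227) D26228 (iv F54068) (iv D26236) (iv D21761)
def n26239 : Q := act 5 n21764
theorem D26239 : act 5 n21764 = n26239 := rfl
theorem F54074 : act 4 n26239 = n22421 := d18_1 D26239 (iv D22421) (iv F42181)
theorem F54075 : act 6 n26239 = n23015 := d22_1 D26239 (iv D23015) (iv F45565) F45562
def n26240 : Q := act 0 n21766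
theorem D26240 : act 0 n21766 = n26240 := rfl
theorem F54076 : act 3 n26240 = n25793 := d2_2 (iv F42186) D26240 (iv D25793)
def n26241 : Q := act 4 n21766
theorem D26241 : act 4 n21766 = n26241 := rfl
theorem F54077 : act 1 n26241 = n21767 := d8_1 D26241 (iv D21767) D21766
def n26242 : Q := act 5 n21766
theorem D26242 : act 5 n21766 = n26242 := rfl
theorem F54078 : act 3 n26242 = n25795 := d16_1 D26242 (iv D25795) (iv F42186)
def n26243 : Q := act 6 n21766
theorem D26243 : act 6 n21766 = n26243 := rfl
theorem F54079 : act 3 n26243 = n25796 := d17_1 D26243 (iv D25796) (iv F42186)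
def n26244 : Q := act 3 n21767
theorem D26244 : act 3 n21767 = n26244 := rfl
theorem F54080 : act 0 n26244 = n21781 := d2_1 D26244 (iv D21781) (iv F42187)
theorem F54081 : act 4 n26244 = n25797 := d15_2 D21767 D26244 (iv D25797) (iv D21462) (iv F28485)
def n26245 : Q := act 6 n21767
theorem D26245 : act 6 n21767 = n26245 := rfl
theorem F54082 : act 0 n26245 = n21782 := d5_1 D26245 (iv D21782) (iv F42187)
theorem F54083 : act 2 n26245 = n21769 := d14_1 D26245 (iv D21769) (iv F42188)
theorem F54084 : act 4 n26245 = n21768 := d19_1 D26245 (iv D21768) D21767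
theorem F54085 : act 5 n26245 = n26180 := d22_2 F53891 D26245 (iv D26180) (iv F53889)
def n26246 : Q := act 1 n21768
theorem D26246 : act 1 n21768 = n26246 := rfl
theorem F54086 : act 3 n26246 = n25799 := d7_2 (iv F42191) D26246 (iv D25799)
def n26247 : Q := act 2 n21770
theorem D26247 : act 2 n21770 = n26247 := rfl
theorem F54087 : act 4 n26247 = n25589 := d12_2 F45343 D26247 F52530
theorem F54088 : act 3 n25587 = n26247 := d15_5 F54087 (iv D25589) (iv D21320) D21319 D25587
def n26248 : Q := act 5 n21770
theorem D26248 : act 5 n21770 = n26248 := rfl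
theorem F54089 : act 1 n26248 = n26185 := d9_1 D26248 (iv D26185) (iv D21727) (iv F28490) D21770
theorem F54090 : act 3 n26248 = n21772 := d16_1 D26248 (iv D21772) (iv F42197)
def n26249 : Q := act 3 n21771
theorem D26249 : act 3 n21771 = n26249 := rfl
theorem F54091 : act 1 n26249 = n21773 := d7_1 D26249 (iv D21773) (iv F42198)
theorem F54092 : act 4 n26249 = n24544 := d15_2 (iv F42199) D26249 (iv F50051) F50050 (iv D22422)
theorem F54093 : act 2 n26249 = n24545 := d21_6 (iv F52525) F54088 (iv D26247) F42197 D21771 D26249 F49794 (iv F52276)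
def n26250 : Q := act 6 n21772
theorem D26250 : act 6 n21772 = n26250 := rfl
theorem F54094 : act 0 n26250 = n26239 := d5_1 D26250 F54075 F45605
theorem F54095 : act 1 n26250 = n24004 := d10_1 D26250 (iv F50019) F53929 (iv D26191) (iv F42200)
theorem F54096 : act 2 n26250 = n24913 := d14_1 D26250 F50636 (iv F50269)
theorem F54097 : act 4 n26250 = n22423 := d19_1 D26250 (iv D22423) (iv F42201)
theorem F54098 : act 5 n26250 = n23002 := d20_1 D26250 F45565 D23015 (iv F54075) (iv D26239) F42182 D21772
def n26251 : Q := act 2 n21773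
theorem D26251 : act 2 n21773 = n26251 := rfl
def n26252 : Q := act 4 n21773
theorem D26252 : act 4 n21773 = n26252 := rfl
theorem F54099 : act 1 n26252 = n24544 := d8_1 D26252 (iv F54092) F54091
theorem F54100 : act 3 n26252 = n22424 := d15_1 D26252 (iv D22424) (iv D17127) (iv F28492) D21773
def n26253 : Q := act 1 n21774
theorem D26253 : act 1 n21774 = n26253 := rfl
theorem F54101 : act 2 n26253 = n22251 := d6_2 (iv F42202) D26253 (iv F46621) (iv F48676) (iv D21888)
theorem F54102 : act 5 n22250 = n26253 := d13_0 F54101 (iv D22251) D22250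
def n26254 : Q := act 3 n21774
theorem D26254 : act 3 n21774 = n26254 := rfl
theorem F54103 : act 0 n26254 = n21775 := d2_1 D26254 (iv D21775) D21774
def n26255 : Q := act 4 n21774
theorem D26255 : act 4 n21774 = n26255 := rfl
theorem F54104 : act 0 n26255 = n21776 := d3_1 D26255 (iv D21776) D21774
theorem F54105 : act 2 n26255 = n21889 := d12_1 D26255 (iv D21889) (iv F42202)
def n26256 : Q := act 5 n21774
theorem D26256 : act 5 n21774 = n26256 := rfl
theorem F54106 : act 0 n26256 = n21777 := d4_1 D26256 (iv D21777) D21774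
theorem F54107 : act 2 n26256 = n21890 := d13_1 D26256 (iv D21890) (iv F42202)
def n26257 : Q := act 6 n21774
theorem D26257 : act 6 n21774 = n26257 := rfl
theorem F54108 : act 0 n26257 = n21778 := d5_1 D26257 (iv D21778) D21774
theorem F54109 : act 2 n26257 = n21891 := d14_1 D26257 (iv D21891) (iv F42202)
def n26258 : Q := act 2 n21775
theorem D26258 : act 2 n21775 = n26258 := rfl
theorem F54110 : act 1 n26258 = n25780 := d6_1 D26258 (iv D25780) F41510 (iv F28495) (iv F42203)
def n26259 : Q := act 4 n21775
theorem D26259 : act 4 n21775 = n26259 := rfl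
theorem F54111 : act 1 n26259 = n21779 := d8_1 D26259 (iv D21779) (iv F42203)
def n26260 : Q := act 5 n21775
theorem D26260 : act 5 n21775 = n26260 := rfl
theorem F54112 : act 3 n26260 = n21777 := d16_1 D26260 (iv D21777) D21775
def n26261 : Q := act 6 n21775
theorem D26261 : act 6 n21775 = n26261 := rfl
theorem F54113 : act 3 n26261 = n21778 := d17_1 D26261 (iv D21778) D21775
def n26262 : Q := act 3 n21776
theorem D26262 : act 3 n21776 = n26262 := rfl
theorem F54114 : act 1 n26262 = n21781 := d7_1 D26262 (iv D21781) (iv F42204)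
def n26263 : Q := act 5 n21776
theorem D26263 : act 5 n21776 = n26263 := rfl
theorem F54115 : act 2 n26263 = n21892 := d13_1 D26263 (iv D21892) (iv F42205)
theorem F54116 : act 4 n26263 = n21777 := d18_1 D26263 (iv D21777) D21776
def n26264 : Q := act 6 n21776
theorem D26264 : act 6 n21776 = n26264 := rfl
theorem F54117 : act 2 n26264 = n21893 := d14_1 D26264 (iv D21893) (iv F42205)
theorem F54118 : act 4 n26264 = n21778 := d19_1 D26264 (iv D21778) D21776
def n26265 : Q := act 6 n21777
theorem D26265 : act 6 n21777 = n26265 := rfl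
theorem F54119 : act 2 n26265 = n21894 := d14_1 D26265 (iv D21894) (iv F42206)
theorem F54120 : act 5 n26265 = n26257 := d22_2 D21777 D26265 (iv D26257) (iv D21774)
def n26266 : Q := act 1 n21778
theorem D26266 : act 1 n21778 = n26266 := rfl
theorem F54121 : act 6 n26266 = n21783 := d10_2 D21778 D26266 (iv D21783) (iv D16444) D16441
def n26267 : Q := act 5 n21778
theorem D26267 : act 5 n21778 = n26267 := rfl
theorem F54122 : act 0 n26267 = n26265 := d4_1 D26267 F54120 F54108
theorem F54123 : act 2 n26267 = n21895 := d13_1 D26267 (iv D21895) (iv F42207)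
theorem F54124 : act 6 n26267 = n26256 := d20_2 D21778 D26267 (iv D26256) D26257 (iv F54120) (iv D26265) (iv D21777)
def n26268 : Q := act 3 n21779
theorem D26268 : act 3 n21779 = n26268 := rfl
theorem F54125 : act 0 n26268 = n25797 := d2_1 D26268 (iv D25797) (iv F42208)
theorem F54126 : act 4 n26268 = n21781 := d15_2 D21779 D26268 (iv D21781) (iv D16443) D16442
def n26269 : Q := act 6 n21779
theorem D26269 : act 6 n21779 = n26269 := rfl
theorem F54127 : act 0 n26269 = n25798 := d5_1 D26269 (iv D25798) (iv F42208)
theorem F54128 : act 2 n26269 = n25787 := d14_1 D26269 (iv D25787) (iv F42209)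
theorem F54129 : act 4 n26269 = n21780 := d19_1 D26269 (iv D21780) D21779
def n26270 : Q := act 1 n21780
theorem D26270 : act 1 n21780 = n26270 := rfl
theorem F54130 : act 3 n26270 = n21783 := d7_2 (iv F42212) D26270 (iv D21783)
def n26271 : Q := act 2 n21781
theorem D26271 : act 2 n21781 = n26271 := rfl
def n26272 : Q := act 6 n21781
theorem D26272 : act 6 n21781 = n26272 := rfl
theorem F54131 : act 3 n26272 = n21782 := d17_1 D26272 (iv D21782) D21781
def n26273 : Q := act 1 n21782
theorem D26273 : act 1 n21782 = n26273 := rfl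
theorem F54132 : act 4 n26273 = n21783 := d8_2 (iv F42214) D26273 (iv D21783)
def n26274 : Q := act 5 n21782
theorem D26274 : act 5 n21782 = n26274 := rfl
theorem F54133 : act 0 n26274 = n26180 := d4_1 D26274 (iv F54085) F54082
theorem F54134 : act 2 n26274 = n21785 := d13_1 D26274 (iv D21785) (iv F42213)
theorem F54135 : act 4 n26274 = n21784 := d18_1 D26274 (iv D21784) (iv F42214)
theorem F54136 : act 6 n26274 = n26172 := d20_2 D21782 D26274 F53891 D26245 F54085 (iv D26180) F42095
def n26275 : Q := act 0 n21783
theorem D26275 : act 0 n21783 = n26275 := rfl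
def n26276 : Q := act 5 n21783
theorem D26276 : act 5 n21783 = n26276 := rfl
def n26277 : Q := act 1 n21784
theorem D26277 : act 1 n21784 = n26277 := rfl
def n26278 : Q := act 1 n21785
theorem D26278 : act 1 n21785 = n26278 := rfl
theorem F54137 : act 3 n26278 = n22438 := d7_2 (iv F42219) D26278 (iv D22438)
theorem F54138 : act 4 n26278 = n21786 := d8_2 (iv F42220) D26278 (iv D21786)
def n26279 : Q := act 0 n21786
theorem D26279 : act 0 n21786 = n26279 := rfl
theorem F54139 : act 3 n26279 = n21787 := d2_2 (iv F42222) D26279 (iv D21787)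
def n26280 : Q := act 2 n21786
theorem D26280 : act 2 n21786 = n26280 := rfl
def n26281 : Q := act 6 n21786
theorem D26281 : act 6 n21786 = n26281 := rfl
theorem F54140 : act 1 n26281 = n26169 := d10_1 D26281 (iv D26169) F42081 (iv F28502) D21786
theorem F54141 : act 3 n26281 = n21789 := d17_1 D26281 (iv D21789) (iv F42222)
def n26282 : Q := act 2 n21787
theorem D26282 : act 2 n21787 = n26282 := rfl
theorem F54142 : act 0 n26282 = n21788 := d1_1 D26282 (iv D21788) D21787
theorem F54143 : act 1 n26282 = n23883 := d6_1 D26282 F47957 F36690 (iv F47912) (iv F47914)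
theorem F54144 : act 4 n26282 = n22442 := d12_2 (iv F42223) D26282 (iv D22442)
def n26283 : Q := act 6 n21787
theorem D26283 : act 6 n21787 = n26283 := rfl
theorem F54145 : act 0 n26283 = n21789 := d5_1 D26283 (iv D21789) D21787
theorem F54146 : act 4 n26283 = n22443 := d19_1 D26283 (iv D22443) (iv F42223)
theorem F54147 : act 5 n26283 = n24903 := d22_2 F50600 D26283 (iv D24903) D24901
def n26284 : Q := act 6 n21788
theorem D26284 : act 6 n21788 = n26284 := rfl
theorem F54148 : act 2 n26284 = n21789 := d14_1 D26284 (iv D21789) D21788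
theorem F54149 : act 4 n26284 = n22445 := d19_1 D26284 (iv D22445) (iv F42225)
def n26285 : Q := act 5 n21789
theorem D26285 : act 5 n21789 = n26285 := rfl
theorem F54150 : act 0 n26285 = n24903 := d4_1 D26285 (iv F54147) F54145
theorem F54151 : act 4 n26285 = n22446 := d18_1 D26285 (iv D22446) (iv F42227)
theorem F54152 : act 6 n26285 = n24901 := d20_2 D21789 D26285 F50600 D26283 F54147 (iv D24903) F38781
def n26286 : Q := act 1 n21790
theorem D26286 : act 1 n21790 = n26286 := rfl
theorem F54153 : act 2 n26286 = n24959 := d6_2 D21790 D26286 F50755 F49955 (iv F38345)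
theorem F54154 : act 3 n26286 = n25122 := d7_2 F42232 D26286 F51335
theorem F54155 : act 4 n26286 = n22447 := d8_2 (iv F42229) D26286 (iv D22447)
theorem F54156 : act 5 n26286 = n24958 := d9_2 (iv F42230) D26286 F50752 F50285 (iv D24750)
theorem F54157 : act 6 n26286 = n25129 := d10_2 (iv F42231) D26286 F51354 F39883 (iv F40159)
def n26287 : Q := act 1 n21791
theorem D26287 : act 1 n21791 = n26287 := rfl
theorem F54158 : act 2 n26287 = n22319 := d6_2 (iv F42234) D26287 F43564 F42077 (iv F28508)
theorem F54159 : act 3 n26287 = n25191 := d7_2 (iv F42235) D26287 F51576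
theorem F54160 : act 4 n26287 = n22318 := d8_2 (iv F42236) D26287 F43560
theorem F54161 : act 0 n22322 = n26287 := d3_3 F54160 F43559 D22322
theorem F54162 : act 5 n24650 = n26287 := d18_0 F54160 F43561 (iv F50048)
def n26288 : Q := act 1 n21794
theorem D26288 : act 1 n21794 = n26288 := rfl
theorem F54163 : act 2 n26288 = n25254 := d6_2 (iv F42248) D26288 (iv D25254) F40475 F31975
theorem F54164 : act 3 n26288 = n22119 := d7_2 (iv F42249) D26288 F43055
theorem F54165 : act 4 n26288 = n21795 := d8_2 (iv F42250) D26288 (iv D21795)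
theorem F54166 : act 6 n26288 = n26288 := d10_2 D21794 D26288 (iv D26288) (iv D21794) F28517
theorem F54167 : act 0 n23638 = n26288 := d2_3 F54164 (iv F47864) (iv F47868)
def n26289 : Q := act 0 n21795
theorem D26289 : act 0 n21795 = n26289 := rfl
theorem F54168 : act 3 n26289 = n21799 := d2_2 (iv F42252) D26289 (iv D21799)
theorem F54169 : act 4 n26289 = n23638 := d3_2 F54165 D26289 F54167
theorem F54170 : act 6 n26289 = n26289 := d5_2 F42253 D26289 (iv D26289)
theorem F54171 : act 1 n23334 = n26289 := d8_3 F54169 (iv D23638) (iv F46432)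
def n26290 : Q := act 2 n21795
theorem D26290 : act 2 n21795 = n26290 := rfl
theorem F54172 : act 1 n26290 = n25255 := d6_1 D26290 F51781 F44930 F41670 D21795
theorem F54173 : act 4 n26290 = n25254 := d12_2 F54165 D26290 (iv F54163)
theorem F54174 : act 6 n26290 = n26290 := d14_2 F42253 D26290 (iv D26290)
def n26291 : Q := act 5 n21795
theorem D26291 : act 5 n21795 = n26291 := rfl
theorem F54175 : act 1 n26291 = n25899 := d9_1 D26291 (iv D25899) (iv D21536) (iv F28538) D21795
theorem F54176 : act 3 n26291 = n21801 := d16_1 D26291 (iv D21801) (iv F42252)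
def n26292 : Q := act 2 n21799
theorem D26292 : act 2 n21799 = n26292 := rfl
theorem F54177 : act 0 n26292 = n21800 := d1_1 D26292 (iv D21800) D21799
theorem F54178 : act 4 n26292 = n22457 := d12_2 (iv F42267) D26292 (iv D22457)
theorem F54179 : act 6 n26292 = n26292 := d14_2 F42268 D26292 (iv D26292)
def n26293 : Q := act 5 n21800
theorem D26293 : act 5 n21800 = n26293 := rfl
theorem F54180 : act 2 n26293 = n21801 := d13_1 D26293 (iv D21801) D21800
theorem F54181 : act 4 n26293 = n22459 := d18_1 D26293 (iv D22459) (iv F42269)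
theorem F54182 : act 1 n24636 = n26293 := d8_3 F54181 (iv F43952) (iv F50005)
def n26294 : Q := act 2 n21802
theorem D26294 : act 2 n21802 = n26294 := rfl
def n26295 : Q := act 4 n21802
theorem D26295 : act 4 n21802 = n26295 := rfl
theorem F54183 : act 1 n26295 = n21805 := d8_1 D26295 (iv D21805) (iv F42273)
theorem F54184 : act 3 n26295 = n22460 := d15_1 D26295 (iv D22460) (iv D17162) (iv F28545) D21802
theorem F54185 : act 5 n26108 = n26295 := d16_0 F54184 F43955 (iv F53704)
def n26296 : Q := act 5 n21802
theorem D26296 : act 5 n21802 = n26296 := rfl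
theorem F54186 : act 1 n26296 = n21811 := d9_1 D26296 (iv D21811) F28551 (iv F28547) (iv F42273)
theorem F54187 : act 3 n26296 = n21803 := d16_1 D26296 (iv D21803) D21802
theorem F54188 : act 4 n26296 = n26108 := d18_1 D26296 F54185 (iv D26295)
theorem F54189 : act 6 n26107 = n26296 := d19_0 F54188 (iv D26108) D26107
def n26297 : Q := act 6 n21802
theorem D26297 : act 6 n21802 = n26297 := rfl
theorem F54190 : act 1 n26297 = n24147 := d10_1 D26297 (iv D24147) F37340 (iv F28548) (iv F42273)
theorem F54191 : act 3 n26297 = n21804 := d17_1 D26297 (iv D21804) D21802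
def n26298 : Q := act 5 n21804
theorem D26298 : act 5 n21804 = n26298 := rfl
theorem F54192 : act 0 n26298 = n22316 := d4_1 D26298 (iv F53986) F53983
theorem F54193 : act 2 n26298 = n22103 := d13_1 D26298 F43008 F42397
theorem F54194 : act 4 n26298 = n22102 := d18_1 D26298 F43006 (iv F42277)
theorem F54195 : act 6 n26298 = n26207 := d20_2 D21804 D26298 (iv D26207) D26208 F53986 F43554 (iv D21803)
def n26299 : Q := act 2 n21806
theorem D26299 : act 2 n21806 = n26299 := rfl
theorem F54196 : act 0 n26299 = n21809 := d1_1 D26299 (iv D21809) (iv F42282)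
def n26300 : Q := act 4 n21806
theorem D26300 : act 4 n21806 = n26300 := rfl
theorem F54197 : act 0 n26300 = n21810 := d3_1 D26300 (iv D21810) (iv F42282)
theorem F54198 : act 1 n26300 = n25554 := d8_1 D26300 (iv F54002) F54000
theorem F54199 : act 3 n26300 = n22461 := d15_1 D26300 (iv D22461) (iv D17167) (iv F28550) D21806
def n26301 : Q := act 5 n21806
theorem D26301 : act 5 n21806 = n26301 := rfl
theorem F54200 : act 0 n26301 = n21811 := d4_1 D26301 (iv D21811) (iv F42282)
theorem F54201 : act 3 n26301 = n21807 := d16_1 D26301 (iv D21807) D21806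
def n26302 : Q := act 6 n21806
theorem D26302 : act 6 n21806 = n26302 := rfl
theorem F54202 : act 0 n26302 = n21812 := d5_1 D26302 (iv D21812) (iv F42282)
theorem F54203 : act 1 n26302 = n25836 := d10_1 D26302 F53031 (iv F53102) (iv F54003) F54000
theorem F54204 : act 3 n26302 = n21808 := d17_1 D26302 (iv D21808) D21806
def n26303 : Q := act 1 n21809
theorem D26303 : act 1 n21809 = n26303 := rfl
theorem F54205 : act 2 n26303 = n21815 := d6_2 D21809 D26303 (iv D21815) (iv D16466) (iv F28551)
def n26304 : Q := act 3 n21809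
theorem D26304 : act 3 n21809 = n26304 := rfl
def n26305 : Q := act 4 n21809
theorem D26305 : act 4 n21809 = n26305 := rfl
theorem F54206 : act 2 n26305 = n21810 := d12_1 D26305 (iv D21810) D21809
def n26306 : Q := act 5 n21809
theorem D26306 : act 5 n21809 = n26306 := rfl
theorem F54207 : act 2 n26306 = n21811 := d13_1 D26306 (iv D21811) D21809
def n26307 : Q := act 6 n21809
theorem D26307 : act 6 n21809 = n26307 := rfl
theorem F54208 : act 2 n26307 = n21812 := d14_1 D26307 (iv D21812) D21809
def n26308 : Q := act 5 n21810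
theorem D26308 : act 5 n21810 = n26308 := rfl
theorem F54209 : act 1 n26308 = n26108 := d9_1 D26308 F54185 F54183 F42280 (iv F42290)
theorem F54210 : act 3 n26308 = n22465 := d16_1 D26308 (iv D22465) (iv F42291)
theorem F54211 : act 4 n26308 = n21811 := d18_1 D26308 (iv D21811) D21810
theorem F54212 : act 6 n26118 = n26308 := d17_0 F54210 (iv F43980) (iv F53721)
def n26309 : Q := act 6 n21810
theorem D26309 : act 6 n21810 = n26309 := rfl
theorem F54213 : act 1 n26309 = n24063 := d10_1 D26309 F48515 F37239 (iv F28559) (iv F42290)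
theorem F54214 : act 3 n26309 = n22466 := d17_1 D26309 (iv D22466) (iv F42291)
theorem F54215 : act 4 n26309 = n21812 := d19_1 D26309 (iv D21812) D21810
def n26310 : Q := act 6 n21811
theorem D26310 : act 6 n21811 = n26310 := rfl
theorem F54216 : act 1 n26310 = n26117 := d10_1 D26310 (iv D26117) (iv F53702) F54189 F54186
theorem F54217 : act 3 n26310 = n21813 := d17_1 D26310 (iv D21813) (iv F42292)
theorem F54218 : act 4 n26310 = n26118 := d19_1 D26310 F54212 F54211
theorem F54219 : act 5 n26310 = n26302 := d22_2 D21811 D26310 (iv D26302) F42282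
def n26311 : Q := act 5 n21812
theorem D26311 : act 5 n21812 = n26311 := rfl
theorem F54220 : act 0 n26311 = n26310 := d4_1 D26311 F54219 F54202
theorem F54221 : act 3 n26311 = n21814 := d16_1 D26311 (iv D21814) (iv F42294)
theorem F54222 : act 6 n26311 = n26301 := d20_2 D21812 D26311 (iv D26301) D26302 (iv F54219) (iv D26310) (iv D21811)
def n26312 : Q := act 0 n21815
theorem D26312 : act 0 n21815 = n26312 := rfl
def n26313 : Q := act 4 n21815
theorem D26313 : act 4 n21815 = n26313 := rfl
theorem F54223 : act 1 n26313 = n21816 := d8_1 D26313 (iv D21816) D21815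
def n26314 : Q := act 5 n21815
theorem D26314 : act 5 n21815 = n26314 := rfl
def n26315 : Q := act 6 n21815
theorem D26315 : act 6 n21815 = n26315 := rfl
theorem F54224 : act 1 n26315 = n24152 := d10_1 D26315 (iv D24152) (iv D19805) (iv F28557) D21815
def n26316 : Q := act 2 n21817
theorem D26316 : act 2 n21817 = n26316 := rfl
theorem F54225 : act 0 n26316 = n23374 := d1_1 D26316 F53456 F53454
theorem F54226 : act 3 n26316 = n23373 := d21_7 (iv F33979) D23433 (iv F54046) (iv D26224) F42166 D21817 D26316 (iv D23373)
def n26317 : Q := act 4 n21817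
theorem D26317 : act 4 n21817 = n26317 := rfl
theorem F54227 : act 1 n26317 = n21821 := d8_1 D26317 (iv D21821) (iv F42304)
theorem F54228 : act 3 n26317 = n22471 := d15_1 D26317 (iv D22471) (iv D17179) (iv F28560) D21817
def n26318 : Q := act 5 n21817
theorem D26318 : act 5 n21817 = n26318 := rfl
theorem F54229 : act 3 n26318 = n21818 := d16_1 D26318 (iv D21818) D21817
def n26319 : Q := act 6 n21817
theorem D26319 : act 6 n21817 = n26319 := rfl
theorem F54230 : act 3 n26319 = n21819 := d17_1 D26319 (iv D21819) D21817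
theorem F54231 : act 1 n25328 = n26319 := d7_3 F54230 (iv F42307) (iv F51974)
def n26320 : Q := act 1 n21818
theorem D26320 : act 1 n21818 = n26320 := rfl
theorem F54232 : act 0 n26320 = n23649 := d0_1 D26320 (iv D23649) F35906 (iv F38713) (iv F48532) (iv F50324) F50323 D25293 (iv F51903)
theorem F54233 : act 4 n26320 = n22474 := d8_2 (iv F42305) D26320 (iv D22474)
theorem F54234 : act 5 n26320 = n21824 := d9_2 D21818 D26320 (iv D21824) (iv D16470) D16468
theorem F54235 : act 6 n26320 = n25826 := d24_3 (iv D21819) D21818 D26320 (iv D25826) (iv D21480) (iv D16253) (iv D12197) D12195 D16248 D21475 (iv F41557) F40745 D21112 F42307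
theorem F54236 : act 2 n24789 = n26320 := d12_3 F54233 (iv F43997) (iv F50368)
def n26321 : Q := act 6 n21818
theorem D26321 : act 6 n21818 = n26321 := rfl
theorem F54237 : act 1 n26321 = n24717 := d10_1 D26321 F50216 (iv F53003) (iv F54235) (iv D26320)
theorem F54238 : act 4 n26321 = n22475 := d19_1 D26321 (iv D22475) (iv F42305)
theorem F54239 : act 5 n26321 = n25994 := d22_2 D21818 D26321 (iv D25994) F41818
def n26322 : Q := act 5 n21819
theorem D26322 : act 5 n21819 = n26322 := rfl
theorem F54240 : act 0 n26322 = n26321 := d4_1 D26322 F54239 F53457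
theorem F54241 : act 1 n26322 = n25014 := d9_1 D26322 F50945 F40683 D21112 F42307
theorem F54242 : act 4 n26322 = n22476 := d18_1 D26322 (iv D22476) (iv F42306)
theorem F54243 : act 6 n26322 = n25293 := d20_2 D21819 D26322 F51902 D25994 (iv F54239) (iv D26321) (iv D21818)
def n26323 : Q := act 1 n21820
theorem D26323 : act 1 n21820 = n26323 := rfl
def n26324 : Q := act 3 n21820
theorem D26324 : act 3 n21820 = n26324 := rfl
theorem F54244 : act 0 n26324 = n21826 := d2_1 D26324 (iv D21826) (iv F42308)
theorem F54245 : act 2 n26324 = n26304 := d21_2 D21820 D26324 (iv D26304) (iv D21809) (iv D16463) F21694 D12306 (iv F28561)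
def n26325 : Q := act 4 n21820
theorem D26325 : act 4 n21820 = n26325 := rfl
theorem F54246 : act 0 n26325 = n21827 := d3_1 D26325 (iv D21827) (iv F42308)
theorem F54247 : act 2 n26325 = n21821 := d12_1 D26325 (iv D21821) D21820
def n26326 : Q := act 5 n21820
theorem D26326 : act 5 n21820 = n26326 := rfl
theorem F54248 : act 0 n26326 = n21828 := d4_1 D26326 (iv D21828) (iv F42308)
theorem F54249 : act 2 n26326 = n21822 := d13_1 D26326 (iv D21822) D21820
def n26327 : Q := act 6 n21820
theorem D26327 : act 6 n21820 = n26327 := rfl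
theorem F54250 : act 0 n26327 = n21829 := d5_1 D26327 (iv D21829) (iv F42308)
theorem F54251 : act 2 n26327 = n21823 := d14_1 D26327 (iv D21823) D21820
def n26328 : Q := act 5 n21821
theorem D26328 : act 5 n21821 = n26328 := rfl
theorem F54252 : act 0 n26328 = n21830 := d4_1 D26328 (iv D21830) (iv F42309)
theorem F54253 : act 3 n26328 = n22481 := d16_1 D26328 (iv D22481) (iv F42310)
theorem F54254 : act 4 n26328 = n21822 := d18_1 D26328 (iv D21822) D21821
theorem F54255 : act 1 n23357 = n26328 := d7_3 F54253 (iv F44012) (iv F46493)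
def n26329 : Q := act 6 n21821
theorem D26329 : act 6 n21821 = n26329 := rfl
theorem F54256 : act 0 n26329 = n21831 := d5_1 D26329 (iv D21831) (iv F42309)
theorem F54257 : act 3 n26329 = n22482 := d17_1 D26329 (iv D22482) (iv F42310)
theorem F54258 : act 4 n26329 = n21823 := d19_1 D26329 (iv D21823) D21821
def n26330 : Q := act 1 n21822
theorem D26330 : act 1 n21822 = n26330 := rfl
theorem F54259 : act 3 n26330 = n21824 := d7_2 (iv F42312) D26330 (iv D21824)
theorem F54260 : act 4 n26330 = n23357 := d8_2 F54254 D26330 F54255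
theorem F54261 : act 0 n23349 = n26330 := d3_3 F54260 (iv D23357) (iv F46477)
def n26331 : Q := act 1 n21823
theorem D26331 : act 1 n21823 = n26331 := rfl
theorem F54262 : act 3 n26331 = n21825 := d7_2 (iv F42314) D26331 (iv D21825)
theorem F54263 : act 6 n26331 = n25328 := d10_2 D21823 D26331 F54231 (iv D26319) F42304
theorem F54264 : act 0 n26223 = n26331 := d5_3 F54263 F51973 (iv F54043)
def n26332 : Q := act 2 n21824
theorem D26332 : act 2 n21824 = n26332 := rfl
theorem F54265 : act 0 n26332 = n23651 := d1_1 D26332 (iv D23651) F42316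
theorem F54266 : act 4 n26332 = n22483 := d12_2 (iv F42315) D26332 (iv D22483)
theorem F54267 : act 5 n26332 = n24789 := d13_2 F54234 D26332 F54236
theorem F54268 : act 6 n26332 = n23613 := d14_2 F52997 D26332 F52998
def n26333 : Q := act 2 n21826
theorem D26333 : act 2 n21826 = n26333 := rfl
theorem F54269 : act 0 n26333 = n26304 := d1_1 D26333 (iv F54245) F54244
theorem F54270 : act 3 n26333 = n26299 := d11_2 D21826 D26333 (iv D26299) (iv D21806) F28549 D16469 D21820 D26324 F54245 (iv D26304) (iv D21809) (iv D16463) F21694 D12306 D16472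
def n26334 : Q := act 4 n21826
theorem D26334 : act 4 n21826 = n26334 := rfl
theorem F54271 : act 1 n26334 = n24844 := d8_1 D26334 (iv D24844) (iv F42321)
def n26335 : Q := act 5 n21826
theorem D26335 : act 5 n21826 = n26335 := rfl
theorem F54272 : act 3 n26335 = n21828 := d16_1 D26335 (iv D21828) D21826
def n26336 : Q := act 6 n21826
theorem D26336 : act 6 n21826 = n26336 := rfl
theorem F54273 : act 3 n26336 = n21829 := d17_1 D26336 (iv D21829) D21826
def n26337 : Q := act 3 n21827
theorem D26337 : act 3 n21827 = n26337 := rfl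
theorem F54274 : act 1 n26337 = n24834 := d7_1 D26337 (iv D24834) (iv F42322)
def n26338 : Q := act 5 n21827
theorem D26338 : act 5 n21827 = n26338 := rfl
theorem F54275 : act 2 n26338 = n21830 := d13_1 D26338 (iv D21830) (iv F42323)
theorem F54276 : act 4 n26338 = n21828 := d18_1 D26338 (iv D21828) D21827
def n26339 : Q := act 6 n21827
theorem D26339 : act 6 n21827 = n26339 := rfl
theorem F54277 : act 2 n26339 = n21831 := d14_1 D26339 (iv D21831) (iv F42323)
theorem F54278 : act 4 n26339 = n21829 := d19_1 D26339 (iv D21829) D21827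
def n26340 : Q := act 1 n21828
theorem D26340 : act 1 n21828 = n26340 := rfl
theorem F54279 : act 2 n26340 = n26034 := d6_2 (iv F42324) D26340 (iv D26034) F41857 F28580
theorem F54280 : act 5 n26340 = n24846 := d9_2 D21828 D26340 (iv D24846) (iv D20401) (iv F28566)
def n26341 : Q := act 6 n21828
theorem D26341 : act 6 n21828 = n26341 := rfl
theorem F54281 : act 2 n26341 = n21832 := d14_1 D26341 (iv D21832) (iv F42324)
theorem F54282 : act 5 n26341 = n26327 := d22_2 D21828 D26341 (iv D26327) F42308
def n26342 : Q := act 1 n21829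
theorem D26342 : act 1 n21829 = n26342 := rfl
theorem F54283 : act 2 n26342 = n24051 := d6_2 (iv F42325) D26342 (iv D24051) F37202 (iv F28570)
theorem F54284 : act 6 n26342 = n24727 := d10_2 D21829 D26342 F50238 F38556 (iv F28566)
def n26343 : Q := act 5 n21829
theorem D26343 : act 5 n21829 = n26343 := rfl
theorem F54285 : act 0 n26343 = n26341 := d4_1 D26343 F54282 F54250
theorem F54286 : act 2 n26343 = n21833 := d13_1 D26343 (iv D21833) (iv F42325)
theorem F54287 : act 6 n26343 = n26326 := d20_2 D21829 D26343 (iv D26326) D26327 (iv F54282) (iv D26341) (iv D21828)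
def n26344 : Q := act 6 n21830
theorem D26344 : act 6 n21830 = n26344 := rfl
theorem F54288 : act 3 n26344 = n22490 := d17_1 D26344 (iv D22490) (iv F42326)
theorem F54289 : act 4 n26344 = n21832 := d19_1 D26344 (iv D21832) (iv F42327)
theorem F54290 : act 5 n26344 = n26329 := d22_2 D21830 D26344 (iv D26329) F42309
def n26345 : Q := act 5 n21831
theorem D26345 : act 5 n21831 = n26345 := rfl
theorem F54291 : act 0 n26345 = n26344 := d4_1 D26345 F54290 F54256
theorem F54292 : act 3 n26345 = n22491 := d16_1 D26345 (iv D22491) (iv F42329)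
theorem F54293 : act 4 n26345 = n21833 := d18_1 D26345 (iv D21833) (iv F42330)
theorem F54294 : act 6 n26345 = n26328 := d20_2 D21831 D26345 (iv D26328) D26329 (iv F54290) (iv D26344) (iv D21830)
def n26346 : Q := act 1 n21832
theorem D26346 : act 1 n21832 = n26346 := rfl
theorem F54295 : act 3 n26346 = n21834 := d7_2 (iv F42331) D26346 (iv D21834)
def n26347 : Q := act 1 n21833
theorem D26347 : act 1 n21833 = n26347 := rfl
theorem F54296 : act 3 n26347 = n21835 := d7_2 (iv F42334) D26347 (iv D21835)
theorem F54297 : act 5 n26347 = n24054 := d9_2 D21833 D26347 (iv D24054) (iv D19740) (iv F28570)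
def n26348 : Q := act 2 n21834
theorem D26348 : act 2 n21834 = n26348 := rfl
theorem F54298 : act 0 n26348 = n24751 := d1_1 D26348 F50286 (iv F49821)
theorem F54299 : act 1 n26348 = n24649 := d6_1 D26348 F50043 F43571 F42295 D21834
theorem F54300 : act 4 n26348 = n22494 := d12_2 (iv F42336) D26348 (iv D22494)
theorem F54301 : act 5 n24641 = n26348 := d18_0 F54300 (iv F44039) (iv F50024)
def n26349 : Q := act 5 n21834
theorem D26349 : act 5 n21834 = n26349 := rfl
theorem F54302 : act 1 n26349 = n24640 := d9_1 D26349 F50022 (iv D21825) (iv F28573) D21834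
theorem F54303 : act 2 n26349 = n24641 := d13_1 D26349 F54301 (iv D26348)
theorem F54304 : act 4 n26349 = n22495 := d18_1 D26349 (iv D22495) (iv F42336)
def n26350 : Q := act 0 n21835
theorem D26350 : act 0 n21835 = n26350 := rfl
theorem F54305 : act 1 n26350 = n23554 := d0_2 D21835 D26350 (iv F53625) F53626 F41931 D24557 (iv F49821) (iv D21834) (iv F28574)
theorem F54306 : act 4 n26350 = n22496 := d3_2 (iv F42337) D26350 (iv D22496)
theorem F54307 : act 5 n26350 = n24055 := d4_2 (iv F42338) D26350 (iv D24055)
def n26351 : Q := act 2 n21835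
theorem D26351 : act 2 n21835 = n26351 := rfl
theorem F54308 : act 1 n26351 = n25508 := d6_1 D26351 (iv F53119) (iv F53123) F42299 D21835
theorem F54309 : act 4 n26351 = n22497 := d12_2 (iv F42337) D26351 (iv D22497)
theorem F54310 : act 5 n26351 = n24056 := d13_2 (iv F42338) D26351 (iv D24056)
def n26352 : Q := act 6 n21835
theorem D26352 : act 6 n21835 = n26352 := rfl
theorem F54311 : act 1 n26352 = n25824 := d10_1 D26352 F52997 (iv D21824) (iv F28576) D21835
theorem F54312 : act 4 n26352 = n22498 := d19_1 D26352 (iv D22498) (iv F42337)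
def n26353 : Q := act 4 n21836
theorem D26353 : act 4 n21836 = n26353 := rfl
theorem F54313 : act 1 n26353 = n21837 := d8_1 D26353 (iv D21837) D21836
theorem F54314 : act 3 n26353 = n25060 := d15_1 D26353 F51114 F39250 (iv F38691) (iv F42339)
def n26354 : Q := act 5 n21836
theorem D26354 : act 5 n21836 = n26354 := rfl
theorem F54315 : act 3 n26354 = n24829 := d16_1 D26354 (iv D24829) (iv F42339)
def n26355 : Q := act 6 n21836
theorem D26355 : act 6 n21836 = n26355 := rfl
theorem F54316 : act 3 n26355 = n24830 := d17_1 D26355 (iv D24830) (iv F42339)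
def n26356 : Q := act 5 n21837
theorem D26356 : act 5 n21837 = n26356 := rfl
theorem F54317 : act 0 n26356 = n21840 := d4_1 D26356 (iv D21840) (iv F42340)
theorem F54318 : act 3 n26356 = n22958 := d16_1 D26356 (iv F45440) (iv F42341)
theorem F54319 : act 4 n26356 = n21838 := d18_1 D26356 (iv D21838) D21837
theorem F54320 : act 1 n22955 = n26356 := d7_3 F54318 (iv D22958) (iv F45433)
def n26357 : Q := act 6 n21837
theorem D26357 : act 6 n21837 = n26357 := rfl
theorem F54321 : act 0 n26357 = n21841 := d5_1 D26357 (iv D21841) (iv F42340)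
theorem F54322 : act 3 n26357 = n25053 := d17_1 D26357 F51090 (iv F42341)
theorem F54323 : act 4 n26357 = n21839 := d19_1 D26357 (iv D21839) D21837
def n26358 : Q := act 1 n21838
theorem D26358 : act 1 n21838 = n26358 := rfl
theorem F54324 : act 0 n26358 = n22954 := d0_1 D26358 (iv D22954) (iv F33877) D23349 F54261 (iv D26330) F42311 (iv F28580) (iv F42342)
theorem F54325 : act 3 n26358 = n23046 := d7_2 (iv F42343) D26358 F45713
theorem F54326 : act 4 n26358 = n22955 := d8_2 F54319 D26358 F54320
def n26359 : Q := act 1 n21839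
theorem D26359 : act 1 n21839 = n26359 := rfl
theorem F54327 : act 3 n26359 = n24826 := d7_2 (iv F42345) D26359 (iv D24826)
def n26360 : Q := act 6 n21840
theorem D26360 : act 6 n21840 = n26360 := rfl
theorem F54328 : act 3 n26360 = n23255 := d17_1 D26360 (iv D23255) (iv F42347)
theorem F54329 : act 4 n26360 = n21842 := d19_1 D26360 (iv D21842) (iv F42348)
theorem F54330 : act 5 n26360 = n26357 := d22_2 D21840 D26360 (iv D26357) F42340
def n26361 : Q := act 5 n21841
theorem D26361 : act 5 n21841 = n26361 := rfl
theorem F54331 : act 0 n26361 = n26360 := d4_1 D26361 F54330 F54321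
theorem F54332 : act 3 n26361 = n25054 := d16_1 D26361 (iv D25054) (iv F42350)
theorem F54333 : act 4 n26361 = n21843 := d18_1 D26361 (iv D21843) (iv F42351)
theorem F54334 : act 6 n26361 = n26356 := d20_2 D21841 D26361 (iv D26356) D26357 (iv F54330) (iv D26360) (iv D21840)
def n26362 : Q := act 1 n21842
theorem D26362 : act 1 n21842 = n26362 := rfl
theorem F54335 : act 3 n26362 = n24831 := d7_2 (iv F42352) D26362 (iv D24831)
theorem F54336 : act 6 n26362 = n26346 := d10_2 D21842 D26362 (iv D26346) (iv D21832) (iv F28580)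
def n26363 : Q := act 1 n21843
theorem D26363 : act 1 n21843 = n26363 := rfl
theorem F54337 : act 3 n26363 = n24432 := d7_2 (iv F42355) D26363 F49481
theorem F54338 : act 5 n26363 = n24824 := d9_2 D21843 D26363 (iv D24824) (iv D20386) (iv F28582)
def n26364 : Q := act 1 n21846
theorem D26364 : act 1 n21846 = n26364 := rfl
theorem F54339 : act 2 n26364 = n25206 := d6_2 (iv F42367) D26364 (iv D25206) F40240 F32000
theorem F54340 : act 3 n26364 = n22330 := d7_2 (iv F42368) D26364 F43600
theorem F54341 : act 4 n26364 = n21847 := d8_2 (iv F42369) D26364 (iv D21847)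
theorem F54342 : act 5 n26364 = n26364 := d9_2 D21846 D26364 (iv D26364) (iv D21846) F28590
theorem F54343 : act 0 n23691 = n26364 := d23_19 F54342 F54339 (iv D25206) (iv D20938) D20940 F40245 F35723 F24344 (iv F24342) (iv F34149) F35018 (iv F39311) (iv D20713) (iv D15381) (iv F34781) F24549 D14052 (iv F36012) D23691
def n26365 : Q := act 0 n21847
theorem D26365 : act 0 n21847 = n26365 := rfl
theorem F54344 : act 3 n26365 = n21851 := d2_2 (iv F42371) D26365 (iv D21851)
theorem F54345 : act 4 n26365 = n23691 := d3_2 F54341 D26365 F54343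
theorem F54346 : act 5 n26365 = n26365 := d4_2 F42372 D26365 (iv D26365)
theorem F54347 : act 1 n23394 = n26365 := d8_3 F54345 (iv D23691) (iv F46560)
def n26366 : Q := act 2 n21847
theorem D26366 : act 2 n21847 = n26366 := rfl
theorem F54348 : act 1 n26366 = n25207 := d6_1 D26366 F51617 F44945 F42023 D21847
theorem F54349 : act 4 n26366 = n25206 := d12_2 F54341 D26366 (iv F54339)
theorem F54350 : act 5 n26366 = n26366 := d13_2 F42372 D26366 (iv D26366)
def n26367 : Q := act 6 n21847
theorem D26367 : act 6 n21847 = n26367 := rfl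
theorem F54351 : act 1 n26367 = n26135 := d10_1 D26367 (iv D26135) (iv D21695) (iv F28595) D21847
theorem F54352 : act 3 n26367 = n21853 := d17_1 D26367 (iv D21853) (iv F42371)
def n26368 : Q := act 2 n21851
theorem D26368 : act 2 n21851 = n26368 := rfl
theorem F54353 : act 0 n26368 = n21852 := d1_1 D26368 (iv D21852) D21851
theorem F54354 : act 4 n26368 = n22516 := d12_2 (iv F42386) D26368 (iv D22516)
theorem F54355 : act 5 n26368 = n26368 := d13_2 F42387 D26368 (iv D26368)
def n26369 : Q := act 6 n21852
theorem D26369 : act 6 n21852 = n26369 := rfl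
theorem F54356 : act 2 n26369 = n21853 := d14_1 D26369 (iv D21853) D21852
theorem F54357 : act 4 n26369 = n22518 := d19_1 D26369 (iv D22518) (iv F42388)
theorem F54358 : act 1 n24581 = n26369 := d8_3 F54357 (iv F44102) (iv F49869)
def n26370 : Q := act 2 n21854
theorem D26370 : act 2 n21854 = n26370 := rfl
def n26371 : Q := act 4 n21854
theorem D26371 : act 4 n21854 = n26371 := rfl
theorem F54359 : act 1 n26371 = n21857 := d8_1 D26371 (iv D21857) (iv F42392)
theorem F54360 : act 3 n26371 = n22519 := d15_1 D26371 (iv D22519) (iv D17255) (iv F28608) D21854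
theorem F54361 : act 6 n25867 = n26371 := d17_0 F54360 F44105 (iv F53100)
def n26372 : Q := act 5 n21854
theorem D26372 : act 5 n21854 = n26372 := rfl
theorem F54362 : act 1 n26372 = n24159 := d9_1 D26372 (iv D24159) F37378 (iv F28610) (iv F42392)
theorem F54363 : act 3 n26372 = n21855 := d16_1 D26372 (iv D21855) D21854
def n26373 : Q := act 6 n21854
theorem D26373 : act 6 n21854 = n26373 := rfl
theorem F54364 : act 1 n26373 = n21864 := d10_1 D26373 (iv D21864) F28614 (iv F28611) (iv F42392)
theorem F54365 : act 3 n26373 = n21856 := d17_1 D26373 (iv D21856) D21854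
theorem F54366 : act 4 n26373 = n25867 := d19_1 D26373 F54361 (iv D26371)
theorem F54367 : act 5 n25866 = n26373 := d18_0 F54366 (iv D25867) D25866
def n26374 : Q := act 6 n21855
theorem D26374 : act 6 n21855 = n26374 := rfl
theorem F54368 : act 0 n26374 = n22103 := d5_1 D26374 (iv F53389) F53387
theorem F54369 : act 2 n26374 = n22316 := d14_1 D26374 F43554 (iv F42394)
theorem F54370 : act 4 n26374 = n22100 := d19_1 D26374 F42999 (iv F42395)
theorem F54371 : act 5 n26374 = n25973 := d20_1 D26374 (iv D25973) D25972 F53389 F43008 (iv D21856) D21855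
def n26375 : Q := act 2 n21858
theorem D26375 : act 2 n21858 = n26375 := rfl
theorem F54372 : act 0 n26375 = n21861 := d1_1 D26375 (iv D21861) (iv F42403)
def n26376 : Q := act 4 n21858
theorem D26376 : act 4 n21858 = n26376 := rfl
theorem F54373 : act 0 n26376 = n21862 := d3_1 D26376 (iv D21862) (iv F42403)
theorem F54374 : act 1 n26376 = n25496 := d8_1 D26376 (iv F53411) F53409
theorem F54375 : act 3 n26376 = n22520 := d15_1 D26376 (iv D22520) (iv D17260) (iv F28613) D21858
def n26377 : Q := act 5 n21858
theorem D26377 : act 5 n21858 = n26377 := rfl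
theorem F54376 : act 0 n26377 = n21863 := d4_1 D26377 (iv D21863) (iv F42403)
theorem F54377 : act 1 n26377 = n26077 := d9_1 D26377 F53632 (iv F53709) F53710 F53409
theorem F54378 : act 3 n26377 = n21859 := d16_1 D26377 (iv D21859) D21858
def n26378 : Q := act 6 n21858
theorem D26378 : act 6 n21858 = n26378 := rfl
theorem F54379 : act 0 n26378 = n21864 := d5_1 D26378 (iv D21864) (iv F42403)
theorem F54380 : act 3 n26378 = n21860 := d17_1 D26378 (iv D21860) D21858
def n26379 : Q := act 1 n21861
theorem D26379 : act 1 n21861 = n26379 := rfl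
theorem F54381 : act 2 n26379 = n21867 := d6_2 D21861 D26379 (iv D21867) (iv D16499) (iv F28614)
def n26380 : Q := act 3 n21861
theorem D26380 : act 3 n21861 = n26380 := rfl
def n26381 : Q := act 4 n21861
theorem D26381 : act 4 n21861 = n26381 := rfl
theorem F54382 : act 2 n26381 = n21862 := d12_1 D26381 (iv D21862) D21861
def n26382 : Q := act 5 n21861
theorem D26382 : act 5 n21861 = n26382 := rfl
theorem F54383 : act 2 n26382 = n21863 := d13_1 D26382 (iv D21863) D21861
def n26383 : Q := act 6 n21861
theorem D26383 : act 6 n21861 = n26383 := rfl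
theorem F54384 : act 2 n26383 = n21864 := d14_1 D26383 (iv D21864) D21861
def n26384 : Q := act 5 n21862
theorem D26384 : act 5 n21862 = n26384 := rfl
theorem F54385 : act 1 n26384 = n24114 := d9_1 D26384 F48636 F37328 (iv F28622) (iv F42411)
theorem F54386 : act 3 n26384 = n22524 := d16_1 D26384 (iv D22524) (iv F42412)
theorem F54387 : act 4 n26384 = n21863 := d18_1 D26384 (iv D21863) D21862
def n26385 : Q := act 6 n21862
theorem D26385 : act 6 n21862 = n26385 := rfl
theorem F54388 : act 1 n26385 = n25867 := d10_1 D26385 F54361 F54359 F42402 (iv F42411)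
theorem F54389 : act 3 n26385 = n22525 := d17_1 D26385 (iv D22525) (iv F42412)
theorem F54390 : act 4 n26385 = n21864 := d19_1 D26385 (iv D21864) D21862
theorem F54391 : act 5 n25879 = n26385 := d16_0 F54389 (iv F44119) (iv F53118)
def n26386 : Q := act 6 n21863
theorem D26386 : act 6 n21863 = n26386 := rfl
theorem F54392 : act 3 n26386 = n21865 := d17_1 D26386 (iv D21865) (iv F42414)
theorem F54393 : act 5 n26386 = n26378 := d22_2 D21863 D26386 (iv D26378) F42403
def n26387 : Q := act 5 n21864
theorem D26387 : act 5 n21864 = n26387 := rfl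
theorem F54394 : act 0 n26387 = n26386 := d4_1 D26387 F54393 F54379
theorem F54395 : act 1 n26387 = n25878 := d9_1 D26387 (iv D25878) (iv F53098) F54367 F54364
theorem F54396 : act 3 n26387 = n21866 := d16_1 D26387 (iv D21866) (iv F42415)
theorem F54397 : act 4 n26387 = n25879 := d18_1 D26387 F54391 F54390
theorem F54398 : act 6 n26387 = n26377 := d20_2 D21864 D26387 (iv D26377) D26378 (iv F54393) (iv D26386) (iv D21863)
def n26388 : Q := act 0 n21867
theorem D26388 : act 0 n21867 = n26388 := rfl
def n26389 : Q := act 4 n21867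
theorem D26389 : act 4 n21867 = n26389 := rfl
theorem F54399 : act 1 n26389 = n21868 := d8_1 D26389 (iv D21868) D21867
def n26390 : Q := act 5 n21867
theorem D26390 : act 5 n21867 = n26390 := rfl
theorem F54400 : act 1 n26390 = n24164 := d9_1 D26390 (iv D24164) (iv D19812) (iv F28620) D21867
def n26391 : Q := act 6 n21867
theorem D26391 : act 6 n21867 = n26391 := rfl
def n26392 : Q := act 2 n21869
theorem D26392 : act 2 n21869 = n26392 := rfl
theorem F54401 : act 0 n26392 = n23433 := d1_1 D26392 (iv F54046) F54044
theorem F54402 : act 3 n26392 = n23432 := d11_2 D21869 D26392 F46655 (iv F54226) (iv D26316) (iv D21817) (iv F42166) D26224 F54046 (iv D23433) F33979 D23374 F53456 (iv D25993) F41819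
def n26393 : Q := act 4 n21869
theorem D26393 : act 4 n21869 = n26393 := rfl
theorem F54403 : act 1 n26393 = n21873 := d8_1 D26393 (iv D21873) (iv F42425)
theorem F54404 : act 3 n26393 = n22530 := d15_1 D26393 (iv D22530) (iv D17271) (iv F28623) D21869
def n26394 : Q := act 5 n21869
theorem D26394 : act 5 n21869 = n26394 := rfl
theorem F54405 : act 3 n26394 = n21870 := d16_1 D26394 (iv D21870) D21869
theorem F54406 : act 1 n25333 = n26394 := d7_3 F54405 (iv F42427) (iv F51980)
def n26395 : Q := act 6 n21869
theorem D26395 : act 6 n21869 = n26395 := rfl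
theorem F54407 : act 3 n26395 = n21871 := d17_1 D26395 (iv D21871) D21869
def n26396 : Q := act 6 n21870
theorem D26396 : act 6 n21870 = n26396 := rfl
theorem F54408 : act 1 n26396 = n25035 := d10_1 D26396 F51022 F40704 D21119 F42427
theorem F54409 : act 2 n26396 = n26322 := d14_1 D26396 F54243 F51900
theorem F54410 : act 4 n26396 = n22533 := d19_1 D26396 (iv D22533) (iv F42426)
theorem F54411 : act 5 n26396 = n25297 := d22_2 D21870 D26396 F51911 F42165
def n26397 : Q := act 1 n21871
theorem D26397 : act 1 n21871 = n26397 := rfl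
theorem F54412 : act 0 n26397 = n23701 := d0_1 D26397 (iv D23701) F36040 (iv F38777) (iv F48656) (iv F50218) F50217 D25297 (iv F51912)
theorem F54413 : act 4 n26397 = n22534 := d8_2 (iv F42428) D26397 (iv D22534)
theorem F54414 : act 6 n26397 = n21877 := d10_2 D21871 D26397 (iv D21877) (iv D16504) D16501
theorem F54415 : act 5 n26076 = n26397 := d24_1 D26076 (iv D26397) (iv D21871) D21870 (iv F42427) (iv D21119) (iv F40761) F41902 (iv D21636) (iv D16351) (iv D12247) D12250 D16359 D21645
theorem F54416 : act 2 n24740 = n26397 := d12_3 F54413 (iv F44137) (iv F50256)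
def n26398 : Q := act 5 n21871
theorem D26398 : act 5 n21871 = n26398 := rfl
theorem F54417 : act 0 n26398 = n26396 := d4_1 D26398 F54411 (iv F51912)
theorem F54418 : act 1 n26398 = n24766 := d9_1 D26398 F50322 (iv F53629) F54415 (iv D26397)
theorem F54419 : act 2 n26398 = n26321 := d13_1 D26398 F54239 F53458
theorem F54420 : act 4 n26398 = n22535 := d18_1 D26398 (iv D22535) (iv F42428)
theorem F54421 : act 6 n26398 = n26225 := d20_2 D21871 D26398 (iv D26225) (iv F51911) (iv F54411) (iv D26396) (iv D21870)
def n26399 : Q := act 1 n21872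
theorem D26399 : act 1 n21872 = n26399 := rfl
def n26400 : Q := act 3 n21872
theorem D26400 : act 3 n21872 = n26400 := rfl
theorem F54422 : act 0 n26400 = n21878 := d2_1 D26400 (iv D21878) (iv F42429)
theorem F54423 : act 2 n26400 = n26380 := d21_2 D21872 D26400 (iv D26380) (iv D21861) (iv D16496) F21728 D12322 (iv F28624)
def n26401 : Q := act 4 n21872
theorem D26401 : act 4 n21872 = n26401 := rfl
theorem F54424 : act 0 n26401 = n21879 := d3_1 D26401 (iv D21879) (iv F42429)
theorem F54425 : act 2 n26401 = n21873 := d12_1 D26401 (iv D21873) D21872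
def n26402 : Q := act 5 n21872
theorem D26402 : act 5 n21872 = n26402 := rfl
theorem F54426 : act 0 n26402 = n21880 := d4_1 D26402 (iv D21880) (iv F42429)
theorem F54427 : act 2 n26402 = n21874 := d13_1 D26402 (iv D21874) D21872
def n26403 : Q := act 6 n21872
theorem D26403 : act 6 n21872 = n26403 := rfl
theorem F54428 : act 0 n26403 = n21881 := d5_1 D26403 (iv D21881) (iv F42429)
theorem F54429 : act 2 n26403 = n21875 := d14_1 D26403 (iv D21875) D21872
def n26404 : Q := act 5 n21873
theorem D26404 : act 5 n21873 = n26404 := rfl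
theorem F54430 : act 0 n26404 = n21882 := d4_1 D26404 (iv D21882) (iv F42430)
theorem F54431 : act 3 n26404 = n22540 := d16_1 D26404 (iv D22540) (iv F42431)
theorem F54432 : act 4 n26404 = n21874 := d18_1 D26404 (iv D21874) D21873
def n26405 : Q := act 6 n21873
theorem D26405 : act 6 n21873 = n26405 := rfl
theorem F54433 : act 0 n26405 = n21883 := d5_1 D26405 (iv D21883) (iv F42430)
theorem F54434 : act 3 n26405 = n22541 := d17_1 D26405 (iv D22541) (iv F42431)
theorem F54435 : act 4 n26405 = n21875 := d19_1 D26405 (iv D21875) D21873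
theorem F54436 : act 1 n23416 = n26405 := d7_3 F54434 (iv F44153) (iv F46616)
def n26406 : Q := act 1 n21874
theorem D26406 : act 1 n21874 = n26406 := rfl
theorem F54437 : act 3 n26406 = n21876 := d7_2 (iv F42433) D26406 (iv D21876)
theorem F54438 : act 5 n26406 = n25333 := d9_2 D21874 D26406 F54406 (iv D26394) F42425
theorem F54439 : act 0 n25992 = n26406 := d4_3 F54438 F51979 (iv F53452)
def n26407 : Q := act 1 n21875
theorem D26407 : act 1 n21875 = n26407 := rfl
theorem F54440 : act 3 n26407 = n21877 := d7_2 (iv F42435) D26407 (iv D21877)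
theorem F54441 : act 4 n26407 = n23416 := d8_2 F54435 D26407 F54436
theorem F54442 : act 0 n23408 = n26407 := d3_3 F54441 (iv D23416) (iv F46600)
def n26408 : Q := act 2 n21877
theorem D26408 : act 2 n21877 = n26408 := rfl
theorem F54443 : act 0 n26408 = n23703 := d1_1 D26408 (iv D23703) F42441
theorem F54444 : act 4 n26408 = n22542 := d12_2 (iv F42440) D26408 (iv D22542)
theorem F54445 : act 5 n26408 = n23554 := d13_2 F53623 D26408 F53624
theorem F54446 : act 6 n26408 = n24740 := d14_2 F54414 D26408 F54416
def n26409 : Q := act 2 n21878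
theorem D26409 : act 2 n21878 = n26409 := rfl
theorem F54447 : act 0 n26409 = n26380 := d1_1 D26409 (iv F54423) F54422
theorem F54448 : act 3 n26409 = n26375 := d11_2 D21878 D26409 (iv D26375) (iv D21858) F28612 D16502 D21872 D26400 F54423 (iv D26380) (iv D21861) (iv D16496) F21728 D12322 D16505
def n26410 : Q := act 4 n21878
theorem D26410 : act 4 n21878 = n26410 := rfl
theorem F54449 : act 1 n26410 = n24895 := d8_1 D26410 (iv D24895) (iv F42442)
def n26411 : Q := act 5 n21878
theorem D26411 : act 5 n21878 = n26411 := rfl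
theorem F54450 : act 3 n26411 = n21880 := d16_1 D26411 (iv D21880) D21878
def n26412 : Q := act 6 n21878
theorem D26412 : act 6 n21878 = n26412 := rfl
theorem F54451 : act 3 n26412 = n21881 := d17_1 D26412 (iv D21881) D21878
def n26413 : Q := act 3 n21879
theorem D26413 : act 3 n21879 = n26413 := rfl
theorem F54452 : act 1 n26413 = n24887 := d7_1 D26413 (iv D24887) (iv F42443)
def n26414 : Q := act 5 n21879
theorem D26414 : act 5 n21879 = n26414 := rfl
theorem F54453 : act 2 n26414 = n21882 := d13_1 D26414 (iv D21882) (iv F42444)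
theorem F54454 : act 4 n26414 = n21880 := d18_1 D26414 (iv D21880) D21879
def n26415 : Q := act 6 n21879
theorem D26415 : act 6 n21879 = n26415 := rfl
theorem F54455 : act 2 n26415 = n21883 := d14_1 D26415 (iv D21883) (iv F42444)
theorem F54456 : act 4 n26415 = n21881 := d19_1 D26415 (iv D21881) D21879
def n26416 : Q := act 1 n21880
theorem D26416 : act 1 n21880 = n26416 := rfl
theorem F54457 : act 2 n26416 = n24102 := d6_2 (iv F42445) D26416 (iv D24102) F37288 (iv F28632)
theorem F54458 : act 5 n26416 = n24776 := d9_2 D21880 D26416 F50344 F38637 (iv F28629)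
def n26417 : Q := act 6 n21880
theorem D26417 : act 6 n21880 = n26417 := rfl
theorem F54459 : act 2 n26417 = n21884 := d14_1 D26417 (iv D21884) (iv F42445)
theorem F54460 : act 5 n26417 = n26403 := d22_2 D21880 D26417 (iv D26403) F42429
def n26418 : Q := act 1 n21881
theorem D26418 : act 1 n21881 = n26418 := rfl
theorem F54461 : act 2 n26418 = n26266 := d6_2 (iv F42446) D26418 (iv D26266) F42207 F28645
theorem F54462 : act 6 n26418 = n24897 := d10_2 D21881 D26418 (iv D24897) (iv D20436) (iv F28629)
def n26419 : Q := act 5 n21881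
theorem D26419 : act 5 n21881 = n26419 := rfl
theorem F54463 : act 0 n26419 = n26417 := d4_1 D26419 F54460 F54428
theorem F54464 : act 2 n26419 = n21885 := d13_1 D26419 (iv D21885) (iv F42446)
theorem F54465 : act 6 n26419 = n26402 := d20_2 D21881 D26419 (iv D26402) D26403 (iv F54460) (iv D26417) (iv D21880)
def n26420 : Q := act 6 n21882
theorem D26420 : act 6 n21882 = n26420 := rfl
theorem F54466 : act 3 n26420 = n22549 := d17_1 D26420 (iv D22549) (iv F42448)
theorem F54467 : act 4 n26420 = n21884 := d19_1 D26420 (iv D21884) (iv F42449)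
theorem F54468 : act 5 n26420 = n26405 := d22_2 D21882 D26420 (iv D26405) F42430
def n26421 : Q := act 5 n21883
theorem D26421 : act 5 n21883 = n26421 := rfl
theorem F54469 : act 0 n26421 = n26420 := d4_1 D26421 F54468 F54433
theorem F54470 : act 3 n26421 = n22550 := d16_1 D26421 (iv D22550) (iv F42450)
theorem F54471 : act 4 n26421 = n21885 := d18_1 D26421 (iv D21885) (iv F42451)
theorem F54472 : act 6 n26421 = n26404 := d20_2 D21883 D26421 (iv D26404) D26405 (iv F54468) (iv D26420) (iv D21882)
def n26422 : Q := act 1 n21884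
theorem D26422 : act 1 n21884 = n26422 := rfl
theorem F54473 : act 3 n26422 = n21886 := d7_2 (iv F42452) D26422 (iv D21886)
theorem F54474 : act 6 n26422 = n24105 := d10_2 D21884 D26422 (iv D24105) (iv D19778) (iv F28632)
def n26423 : Q := act 1 n21885
theorem D26423 : act 1 n21885 = n26423 := rfl
theorem F54475 : act 3 n26423 = n21887 := d7_2 (iv F42455) D26423 (iv D21887)
def n26424 : Q := act 0 n21886
theorem D26424 : act 0 n21886 = n26424 := rfl
theorem F54476 : act 1 n26424 = n23613 := d0_2 D21886 D26424 (iv F52999) F53000 F41577 D24611 (iv F49954) (iv D21887) F28637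
theorem F54477 : act 4 n26424 = n22553 := d3_2 (iv F42457) D26424 (iv D22553)
theorem F54478 : act 6 n26424 = n24106 := d5_2 (iv F42458) D26424 (iv D24106)
def n26425 : Q := act 2 n21886
theorem D26425 : act 2 n21886 = n26425 := rfl
theorem F54479 : act 1 n26425 = n25566 := d6_1 D26425 (iv F53722) (iv F53726) F42416 D21886
theorem F54480 : act 4 n26425 = n22554 := d12_2 (iv F42457) D26425 (iv D22554)
theorem F54481 : act 6 n26425 = n24107 := d14_2 (iv F42458) D26425 (iv D24107)
def n26426 : Q := act 5 n21886
theorem D26426 : act 5 n21886 = n26426 := rfl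
theorem F54482 : act 1 n26426 = n26074 := d9_1 D26426 F53623 (iv D21877) (iv F28636) D21886
theorem F54483 : act 4 n26426 = n22555 := d18_1 D26426 (iv D22555) (iv F42457)
def n26427 : Q := act 2 n21887
theorem D26427 : act 2 n21887 = n26427 := rfl
theorem F54484 : act 0 n26427 = n24800 := d1_1 D26427 F50398 (iv F49954)
theorem F54485 : act 1 n26427 = n24595 := d6_1 D26427 F49909 F43028 F42420 D21887
theorem F54486 : act 4 n26427 = n22556 := d12_2 (iv F42459) D26427 (iv D22556)
theorem F54487 : act 6 n24586 = n26427 := d19_0 F54486 (iv F44186) (iv F49888)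
def n26428 : Q := act 6 n21887
theorem D26428 : act 6 n21887 = n26428 := rfl
theorem F54488 : act 1 n26428 = n24585 := d10_1 D26428 F49887 (iv D21876) (iv F28639) D21887
theorem F54489 : act 2 n26428 = n24586 := d14_1 D26428 F54487 (iv D26427)
theorem F54490 : act 4 n26428 = n22557 := d19_1 D26428 (iv D22557) (iv F42459)
def n26429 : Q := act 4 n21888
theorem D26429 : act 4 n21888 = n26429 := rfl
theorem F54491 : act 1 n26429 = n21889 := d8_1 D26429 (iv D21889) D21888
theorem F54492 : act 3 n26429 = n25092 := d15_1 D26429 F51225 F39356 (iv F38754) (iv F42460)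
def n26430 : Q := act 5 n21888
theorem D26430 : act 5 n21888 = n26430 := rfl
theorem F54493 : act 3 n26430 = n24882 := d16_1 D26430 (iv D24882) (iv F42460)
def n26431 : Q := act 6 n21888
theorem D26431 : act 6 n21888 = n26431 := rfl
theorem F54494 : act 3 n26431 = n24883 := d17_1 D26431 (iv D24883) (iv F42460)
def n26432 : Q := act 5 n21889
theorem D26432 : act 5 n21889 = n26432 := rfl
theorem F54495 : act 0 n26432 = n21892 := d4_1 D26432 (iv D21892) (iv F42461)
theorem F54496 : act 3 n26432 = n25086 := d16_1 D26432 F51209 (iv F42462)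
theorem F54497 : act 4 n26432 = n21890 := d18_1 D26432 (iv D21890) D21889
def n26433 : Q := act 6 n21889
theorem D26433 : act 6 n21889 = n26433 := rfl
theorem F54498 : act 0 n26433 = n21893 := d5_1 D26433 (iv D21893) (iv F42461)
theorem F54499 : act 3 n26433 = n22965 := d17_1 D26433 (iv F45458) (iv F42462)
theorem F54500 : act 4 n26433 = n21891 := d19_1 D26433 (iv D21891) D21889
theorem F54501 : act 1 n22962 = n26433 := d7_3 F54499 (iv D22965) (iv F45451)
def n26434 : Q := act 1 n21890
theorem D26434 : act 1 n21890 = n26434 := rfl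
theorem F54502 : act 3 n26434 = n24878 := d7_2 (iv F42464) D26434 (iv D24878)
def n26435 : Q := act 1 n21891
theorem D26435 : act 1 n21891 = n26435 := rfl
theorem F54503 : act 0 n26435 = n22961 := d0_1 D26435 (iv D22961) (iv F33951) D23408 F54442 (iv D26407) F42434 (iv F28645) (iv F42465)
theorem F54504 : act 3 n26435 = n23050 := d7_2 (iv F42466) D26435 F45725
theorem F54505 : act 4 n26435 = n22962 := d8_2 F54500 D26435 F54501
def n26436 : Q := act 6 n21892
theorem D26436 : act 6 n21892 = n26436 := rfl
theorem F54506 : act 3 n26436 = n25087 := d17_1 D26436 (iv D25087) (iv F42468)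
theorem F54507 : act 4 n26436 = n21894 := d19_1 D26436 (iv D21894) (iv F42469)
theorem F54508 : act 5 n26436 = n26433 := d22_2 D21892 D26436 (iv D26433) F42461
def n26437 : Q := act 5 n21893
theorem D26437 : act 5 n21893 = n26437 := rfl
theorem F54509 : act 0 n26437 = n26436 := d4_1 D26437 F54508 F54498
theorem F54510 : act 3 n26437 = n23326 := d16_1 D26437 (iv D23326) (iv F42471)
theorem F54511 : act 4 n26437 = n21895 := d18_1 D26437 (iv D21895) (iv F42472)
theorem F54512 : act 6 n26437 = n26432 := d20_2 D21893 D26437 (iv D26432) D26433 (iv F54508) (iv D26436) (iv D21892)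
def n26438 : Q := act 1 n21894
theorem D26438 : act 1 n21894 = n26438 := rfl
theorem F54513 : act 3 n26438 = n24453 := d7_2 (iv F42473) D26438 F49559
theorem F54514 : act 6 n26438 = n24876 := d10_2 D21894 D26438 (iv D24876) (iv D20420) (iv F28643)
def n26439 : Q := act 1 n21895
theorem D26439 : act 1 n21895 = n26439 := rfl
theorem F54515 : act 3 n26439 = n24884 := d7_2 (iv F42476) D26439 (iv D24884)
theorem F54516 : act 5 n26439 = n26423 := d9_2 D21895 D26439 (iv D26423) (iv D21885) (iv F28645)
def n26440 : Q := act 1 n21896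
theorem D26440 : act 1 n21896 = n26440 := rfl
theorem F54517 : act 2 n26440 = n21897 := d6_2 D21896 D26440 (iv D21897) (iv D16516) (iv F28648)
theorem F54518 : act 4 n26440 = n25568 := d8_2 F46704 D26440 F52483
theorem F54519 : act 0 n25571 = n26440 := d3_3 F54518 F52482 D25571
def n26441 : Q := act 3 n21896
theorem D26441 : act 3 n21896 = n26441 := rfl
theorem F54520 : act 0 n26441 = n26441 := d2_1 D26441 (iv D26441) F42478
def n26442 : Q := act 0 n21897
theorem D26442 : act 0 n21897 = n26442 := rfl
theorem F54521 : act 2 n26442 = n25571 := d1_2 F54517 D26442 F54519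
theorem F54522 : act 3 n26442 = n26312 := d2_2 (iv F42479) D26442 (iv D26312)
theorem F54523 : act 4 n26442 = n25570 := d3_2 F46706 D26442 F52490
def n26443 : Q := act 5 n21897
theorem D26443 : act 5 n21897 = n26443 := rfl
theorem F54524 : act 1 n26443 = n21900 := d9_1 D26443 (iv D21900) (iv D16518) (iv F28650) D21897
theorem F54525 : act 3 n26443 = n26314 := d16_1 D26443 (iv D26314) (iv F42479)
def n26444 : Q := act 6 n21897
theorem D26444 : act 6 n21897 = n26444 := rfl
theorem F54526 : act 1 n26444 = n24168 := d10_1 D26444 (iv D24168) (iv D19814) (iv F28651) D21897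
theorem F54527 : act 3 n26444 = n26315 := d17_1 D26444 (iv D26315) (iv F42479)
def n26445 : Q := act 1 n21898
theorem D26445 : act 1 n21898 = n26445 := rfl
def n26446 : Q := act 3 n21898
theorem D26446 : act 3 n21898 = n26446 := rfl
theorem F54528 : act 0 n26446 = n21899 := d2_1 D26446 (iv D21899) D21898
theorem F54529 : act 2 n26446 = n25435 := d21_2 F48781 D26446 (iv D25435) (iv F52213) F52214 F48688 (iv F37406) D24179
def n26447 : Q := act 5 n21898
theorem D26447 : act 5 n21898 = n26447 := rfl
theorem F54530 : act 0 n26447 = n21900 := d4_1 D26447 (iv D21900) D21898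
def n26448 : Q := act 6 n21898
theorem D26448 : act 6 n21898 = n26448 := rfl
theorem F54531 : act 0 n26448 = n21901 := d5_1 D26448 (iv D21901) D21898
def n26449 : Q := act 2 n21899
theorem D26449 : act 2 n21899 = n26449 := rfl
theorem F54532 : act 0 n26449 = n25435 := d1_1 D26449 (iv F54529) F54528
theorem F54533 : act 1 n26449 = n26294 := d6_1 D26449 (iv D26294) F42273 (iv F28658) (iv F42480)
theorem F54534 : act 3 n26449 = n25434 := d21_7 (iv F52213) F52214 F48688 (iv F37406) F37405 D21899 D26449 (iv D25434)
def n26450 : Q := act 4 n21899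
theorem D26450 : act 4 n21899 = n26450 := rfl
theorem F54535 : act 1 n26450 = n21902 := d8_1 D26450 (iv D21902) (iv F42480)
def n26451 : Q := act 5 n21899
theorem D26451 : act 5 n21899 = n26451 := rfl
theorem F54536 : act 1 n26451 = n26314 := d9_1 D26451 (iv D26314) (iv D21815) (iv F28659) (iv F42480)
theorem F54537 : act 3 n26451 = n21900 := d16_1 D26451 (iv D21900) D21899
def n26452 : Q := act 6 n21899
theorem D26452 : act 6 n21899 = n26452 := rfl
theorem F54538 : act 1 n26452 = n24176 := d10_1 D26452 (iv D24176) F37395 (iv F28660) (iv F42480)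
theorem F54539 : act 3 n26452 = n21901 := d17_1 D26452 (iv D21901) D21899
def n26453 : Q := act 6 n21900
theorem D26453 : act 6 n21900 = n26453 := rfl
theorem F54540 : act 5 n26453 = n26448 := d22_2 D21900 D26453 (iv D26448) (iv D21898)
def n26454 : Q := act 5 n21901
theorem D26454 : act 5 n21901 = n26454 := rfl
theorem F54541 : act 0 n26454 = n26453 := d4_1 D26454 F54540 F54531
theorem F54542 : act 6 n26454 = n26447 := d20_2 D21901 D26454 (iv D26447) D26448 (iv F54540) (iv D26453) (iv D21900)
def n26455 : Q := act 1 n21903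
theorem D26455 : act 1 n21903 = n26455 := rfl
theorem F54543 : act 2 n26455 = n21904 := d6_2 D21903 D26455 (iv D21904) (iv D16522) (iv F28664)
theorem F54544 : act 4 n26455 = n25510 := d8_2 F46753 D26455 F52350
theorem F54545 : act 0 n25513 = n26455 := d3_3 F54544 F52349 D25513
def n26456 : Q := act 3 n21903
theorem D26456 : act 3 n21903 = n26456 := rfl
theorem F54546 : act 0 n26456 = n26456 := d2_1 D26456 (iv D26456) F42486
theorem F54547 : act 5 n26456 = n26441 := d16_2 (iv F42487) D26456 (iv D26441)
theorem F54548 : act 6 n26456 = n26441 := d17_2 (iv F42488) D26456 (iv D26441)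
theorem F54549 : act 2 n26456 = n26441 := d21_2 D21903 D26456 (iv D26441) (iv D21896) (iv D16515) (iv F21755) D16521 F28663
def n26457 : Q := act 0 n21904
theorem D26457 : act 0 n21904 = n26457 := rfl
theorem F54550 : act 2 n26457 = n25513 := d1_2 F54543 D26457 F54545
theorem F54551 : act 3 n26457 = n26388 := d2_2 (iv F42489) D26457 (iv D26388)
theorem F54552 : act 4 n26457 = n25512 := d3_2 F46757 D26457 F52357
def n26458 : Q := act 5 n21904
theorem D26458 : act 5 n21904 = n26458 := rfl
theorem F54553 : act 1 n26458 = n24180 := d9_1 D26458 (iv D24180) (iv D19820) (iv F28668) D21904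
theorem F54554 : act 3 n26458 = n26390 := d16_1 D26458 (iv D26390) (iv F42489)
def n26459 : Q := act 6 n21904
theorem D26459 : act 6 n21904 = n26459 := rfl
theorem F54555 : act 1 n26459 = n21908 := d10_1 D26459 (iv D21908) (iv D16524) (iv F28669) D21904
theorem F54556 : act 3 n26459 = n26391 := d17_1 D26459 (iv D26391) (iv F42489)
def n26460 : Q := act 1 n21905
theorem D26460 : act 1 n21905 = n26460 := rfl
def n26461 : Q := act 3 n21905
theorem D26461 : act 3 n21905 = n26461 := rfl
theorem F54557 : act 0 n26461 = n21906 := d2_1 D26461 (iv D21906) D21905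
theorem F54558 : act 2 n26461 = n25469 := d21_2 F48750 D26461 (iv D25469) (iv F52269) F52270 F48567 (iv F37391) D24166
def n26462 : Q := act 5 n21905
theorem D26462 : act 5 n21905 = n26462 := rfl
theorem F54559 : act 0 n26462 = n21907 := d4_1 D26462 (iv D21907) D21905
def n26463 : Q := act 6 n21905
theorem D26463 : act 6 n21905 = n26463 := rfl
theorem F54560 : act 0 n26463 = n21908 := d5_1 D26463 (iv D21908) D21905
def n26464 : Q := act 2 n21906
theorem D26464 : act 2 n21906 = n26464 := rfl
theorem F54561 : act 0 n26464 = n25469 := d1_1 D26464 (iv F54558) F54557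
theorem F54562 : act 1 n26464 = n26370 := d6_1 D26464 (iv D26370) F42392 (iv F28676) (iv F42490)
theorem F54563 : act 3 n26464 = n25468 := d21_7 (iv F52269) F52270 F48567 (iv F37391) F37390 D21906 D26464 (iv D25468)
def n26465 : Q := act 4 n21906
theorem D26465 : act 4 n21906 = n26465 := rfl
theorem F54564 : act 1 n26465 = n21909 := d8_1 D26465 (iv D21909) (iv F42490)
def n26466 : Q := act 5 n21906
theorem D26466 : act 5 n21906 = n26466 := rfl
theorem F54565 : act 1 n26466 = n24188 := d9_1 D26466 (iv D24188) F37410 (iv F28677) (iv F42490)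
theorem F54566 : act 3 n26466 = n21907 := d16_1 D26466 (iv D21907) D21906
def n26467 : Q := act 6 n21906
theorem D26467 : act 6 n21906 = n26467 := rfl
theorem F54567 : act 1 n26467 = n26391 := d10_1 D26467 (iv D26391) (iv D21867) (iv F28678) (iv F42490)
theorem F54568 : act 3 n26467 = n21908 := d17_1 D26467 (iv D21908) D21906
def n26468 : Q := act 6 n21907
theorem D26468 : act 6 n21907 = n26468 := rfl
theorem F54569 : act 5 n26468 = n26463 := d22_2 D21907 D26468 (iv D26463) (iv D21905)
def n26469 : Q := act 5 n21908
theorem D26469 : act 5 n21908 = n26469 := rfl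
theorem F54570 : act 0 n26469 = n26468 := d4_1 D26469 F54569 F54560
theorem F54571 : act 6 n26469 = n26462 := d20_2 D21908 D26469 (iv D26462) D26463 (iv F54569) (iv D26468) (iv D21907)
def n26470 : Q := act 0 n21921
theorem D26470 : act 0 n21921 = n26470 := rfl
theorem F54572 : act 2 n26470 = n21943 := d1_2 (iv F42529) D26470 (iv F42598)
theorem F54573 : act 3 n26470 = n25169 := d2_2 F48059 D26470 (iv F51492)
theorem F54574 : act 4 n26470 = n21945 := d3_2 (iv F42530) D26470 F42603
theorem F54575 : act 6 n26470 = n26470 := d5_2 F42531 D26470 (iv D26470)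
theorem F54576 : act 1 n25168 = n26470 := d8_3 F54574 F42958 (iv F51488)
def n26471 : Q := act 5 n21921
theorem D26471 : act 5 n21921 = n26471 := rfl
theorem F54577 : act 1 n26471 = n22295 := d9_1 D26471 (iv D22295) (iv F35079) (iv F28760) D21921
theorem F54578 : act 2 n26471 = n21965 := d13_1 D26471 (iv D21965) (iv F42529)
theorem F54579 : act 3 n26471 = n25278 := d16_1 D26471 F51856 F48059
theorem F54580 : act 4 n26471 = n21967 := d18_1 D26471 (iv D21967) (iv F42530)
def n26472 : Q := act 0 n21922
theorem D26472 : act 0 n21922 = n26472 := rfl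
theorem F54581 : act 1 n26472 = n25216 := d0_2 D21922 D26472 (iv F51857) F51858 F51814 F54576 (iv D26470) (iv D21921) (iv F28761)
theorem F54582 : act 2 n26472 = n21952 := d1_2 (iv F42532) D26472 F42625
theorem F54583 : act 3 n26472 = n25217 := d2_2 F48056 D26472 F51648
theorem F54584 : act 4 n26472 = n21954 := d3_2 (iv F42533) D26472 F42630
theorem F54585 : act 5 n26472 = n26472 := d4_2 F42534 D26472 (iv D26472)
def n26473 : Q := act 6 n21922
theorem D26473 : act 6 n21922 = n26473 := rfl
theorem F54586 : act 1 n26473 = n22081 := d10_1 D26473 (iv D22081) F29643 (iv F28763) D21922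
theorem F54587 : act 2 n26473 = n22009 := d14_1 D26473 (iv D22009) (iv F42532)
theorem F54588 : act 3 n26473 = n25264 := d17_1 D26473 F51813 F48056
theorem F54589 : act 4 n26473 = n22011 := d19_1 D26473 (iv D22011) (iv F42533)
def n26474 : Q := act 6 n21923
theorem D26474 : act 6 n21923 = n26474 := rfl
theorem F54590 : act 0 n26474 = n26474 := d5_1 D26474 (iv D26474) F42535
theorem F54591 : act 1 n26474 = n22073 := d10_1 D26474 (iv F42965) (iv F42966) (iv D21928) (iv F42536)
theorem F54592 : act 2 n26474 = n26474 := d14_1 D26474 (iv D26474) F42537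
theorem F54593 : act 3 n26474 = n25012 := d17_1 D26474 F50936 F42672
theorem F54594 : act 4 n26474 = n21924 := d19_1 D26474 (iv D21924) D21923
theorem F54595 : act 5 n26474 = n26474 := d22_2 F42538 D26474 (iv D26474) F42535
def n26475 : Q := act 5 n21925
theorem D26475 : act 5 n21925 = n26475 := rfl
theorem F54596 : act 0 n26475 = n26475 := d4_1 D26475 (iv D26475) F42544
theorem F54597 : act 1 n26475 = n22289 := d9_1 D26475 (iv F43508) (iv F43509) (iv D21934) (iv F42545)
theorem F54598 : act 2 n26475 = n26475 := d13_1 D26475 (iv D26475) F42546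
theorem F54599 : act 3 n26475 = n25033 := d16_1 D26475 F51012 F42778
theorem F54600 : act 4 n26475 = n21926 := d18_1 D26475 (iv D21926) D21925
theorem F54601 : act 6 n26475 = n26475 := d22_1 D26475 (iv D26475) F42547 F42544
def n26476 : Q := act 4 n21929
theorem D26476 : act 4 n21929 = n26476 := rfl
theorem F54602 : act 0 n26476 = n21931 := d3_1 D26476 (iv D21931) (iv F42559)
theorem F54603 : act 1 n26476 = n25100 := d8_1 D26476 F51257 (iv F42560)
theorem F54604 : act 2 n26476 = n22418 := d12_1 D26476 F43863 (iv F42563)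
theorem F54605 : act 5 n26476 = n22424 := d18_2 (iv F42561) D26476 (iv D22424)
theorem F54606 : act 6 n26476 = n22415 := d19_2 (iv F42562) D26476 (iv D22415)
def n26477 : Q := act 4 n21930
theorem D26477 : act 4 n21930 = n26477 := rfl
theorem F54607 : act 0 n26477 = n22418 := d3_1 D26477 F43863 (iv F42564)
theorem F54608 : act 2 n26477 = n21931 := d12_1 D26477 (iv D21931) D21930
theorem F54609 : act 6 n26477 = n22412 := d19_2 (iv F42566) D26477 (iv D22412)
def n26478 : Q := act 5 n21931
theorem D26478 : act 5 n21931 = n26478 := rfl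
theorem F54610 : act 0 n26478 = n22424 := d4_1 D26478 (iv F54605) F54602
theorem F54611 : act 4 n26478 = n21932 := d18_1 D26478 (iv D21932) D21931
def n26479 : Q := act 4 n21935
theorem D26479 : act 4 n21935 = n26479 := rfl
theorem F54612 : act 0 n26479 = n21937 := d3_1 D26479 (iv D21937) (iv F42575)
theorem F54613 : act 1 n26479 = n25068 := d8_1 D26479 F51146 (iv F42576)
theorem F54614 : act 2 n26479 = n22218 := d12_1 D26479 F43313 (iv F42579)
theorem F54615 : act 5 n26479 = n22216 := d18_2 (iv F42577) D26479 (iv D22216)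
theorem F54616 : act 6 n26479 = n22233 := d19_2 (iv F42578) D26479 (iv D22233)
def n26480 : Q := act 4 n21936
theorem D26480 : act 4 n21936 = n26480 := rfl
theorem F54617 : act 0 n26480 = n22218 := d3_1 D26480 F43313 (iv F42580)
theorem F54618 : act 2 n26480 = n21937 := d12_1 D26480 (iv D21937) D21936
theorem F54619 : act 5 n26480 = n22212 := d18_2 (iv F42582) D26480 (iv D22212)
def n26481 : Q := act 6 n21937
theorem D26481 : act 6 n21937 = n26481 := rfl
theorem F54620 : act 0 n26481 = n22233 := d5_1 D26481 (iv F54616) F54612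
theorem F54621 : act 4 n26481 = n21938 := d19_1 D26481 (iv D21938) D21937
def n26482 : Q := act 1 n21940
theorem D26482 : act 1 n21940 = n26482 := rfl
theorem F54622 : act 4 n26482 = n21941 := d8_2 (iv F42588) D26482 (iv D21941)
theorem F54623 : act 5 n26482 = n22085 := d9_2 (iv F42589) D26482 (iv D22085) D22086 (iv F42966)
def n26483 : Q := act 5 n21943
theorem D26483 : act 5 n21943 = n26483 := rfl
theorem F54624 : act 0 n26483 = n21965 := d4_1 D26483 (iv D21965) F42598
theorem F54625 : act 4 n26483 = n21946 := d18_1 D26483 (iv D21946) (iv F42596)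
theorem F54626 : act 6 n26483 = n21965 := d22_1 D26483 (iv D21965) F29452 F42598
def n26484 : Q := act 1 n21944
theorem D26484 : act 1 n21944 = n26484 := rfl
theorem F54627 : act 4 n26484 = n21947 := d8_2 (iv F42601) D26484 (iv D21947)
theorem F54628 : act 6 n26484 = n22126 := d10_2 (iv F42602) D26484 (iv D22126) (iv F30110) (iv F42554)
theorem F54629 : act 0 n26484 = n22339 := d22_4 (iv F43634) (iv D22129) (iv F43074) (iv F54628)
theorem F54630 : act 2 n22338 = n26484 := d1_0 F54629 (iv D22339) D22338
def n26485 : Q := act 3 n21945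
theorem D26485 : act 3 n21945 = n26485 := rfl
theorem F54631 : act 0 n26485 = n21966 := d2_1 D26485 (iv D21966) (iv F42603)
theorem F54632 : act 1 n26485 = n23635 := d7_1 D26485 F47170 (iv F42958)
theorem F54633 : act 4 n26485 = n25270 := d15_2 F54574 D26485 F51830 (iv F51490) (iv F54573)
theorem F54634 : act 6 n26485 = n26485 := d17_2 F42604 D26485 (iv D26485)
def n26486 : Q := act 5 n21945
theorem D26486 : act 5 n21945 = n26486 := rfl
theorem F54635 : act 0 n26486 = n21967 := d4_1 D26486 (iv D21967) (iv F42603)
theorem F54636 : act 2 n26486 = n21946 := d13_1 D26486 (iv D21946) D21945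
theorem F54637 : act 6 n26486 = n21967 := d22_1 D26486 (iv D21967) F29453 (iv F42603)
def n26487 : Q := act 1 n21949
theorem D26487 : act 1 n21949 = n26487 := rfl
theorem F54638 : act 4 n26487 = n21950 := d8_2 (iv F42615) D26487 (iv D21950)
theorem F54639 : act 6 n26487 = n22299 := d10_2 (iv F42616) D26487 (iv D22299) D22300 (iv F43509)
def n26488 : Q := act 6 n21952
theorem D26488 : act 6 n21952 = n26488 := rfl
theorem F54640 : act 0 n26488 = n22009 := d5_1 D26488 (iv D22009) (iv F42625)
theorem F54641 : act 4 n26488 = n21955 := d19_1 D26488 (iv D21955) (iv F42623)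
theorem F54642 : act 5 n26488 = n22009 := d22_2 F42624 D26488 (iv D22009) (iv F42625)
def n26489 : Q := act 1 n21953
theorem D26489 : act 1 n21953 = n26489 := rfl
theorem F54643 : act 4 n26489 = n21956 := d8_2 (iv F42628) D26489 (iv D21956)
theorem F54644 : act 5 n26489 = n22337 := d9_2 (iv F42629) D26489 (iv D22337) (iv F34619) (iv F42570)
theorem F54645 : act 0 n22128 = n26489 := d22_4 F54644 F43631 D22340 (iv F43638)
theorem F54646 : act 2 n26489 = n22127 := d1_2 D22128 F54645 (iv D22127)
def n26490 : Q := act 3 n21954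
theorem D26490 : act 3 n21954 = n26490 := rfl
theorem F54647 : act 0 n26490 = n22010 := d2_1 D26490 (iv D22010) (iv F42630)
theorem F54648 : act 1 n26490 = n23687 := d7_1 D26490 F47304 (iv F43499)
theorem F54649 : act 4 n26490 = n25283 := d15_2 F54584 D26490 F51874 (iv F51650) (iv F54583)
theorem F54650 : act 5 n26490 = n26490 := d16_2 F42631 D26490 (iv D26490)
def n26491 : Q := act 6 n21954
theorem D26491 : act 6 n21954 = n26491 := rfl
theorem F54651 : act 0 n26491 = n22011 := d5_1 D26491 (iv D22011) (iv F42630)
theorem F54652 : act 1 n26491 = n26486 := d10_1 D26491 F54637 F42675 D22297 (iv F43499)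
theorem F54653 : act 2 n26491 = n21955 := d14_1 D26491 (iv D21955) D21954
theorem F54654 : act 5 n26491 = n22011 := d22_2 F42631 D26491 (iv D22011) (iv F42630)
def n26492 : Q := act 1 n21961
theorem D26492 : act 1 n21961 = n26492 := rfl
theorem F54655 : act 0 n26492 = n22342 := d0_1 D26492 F43641 (iv D22134) (iv D16849) (iv F28528) (iv F29705) (iv F43062) F43063 (iv F42656)
theorem F54656 : act 3 n26492 = n21962 := d7_2 (iv F42658) D26492 (iv D21962)
theorem F54657 : act 5 n26492 = n22133 := d9_2 (iv F42659) D26492 F43084 D22450 F43934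
theorem F54658 : act 6 n26492 = n22087 := d10_2 D21961 D26492 (iv D22087) (iv D16808) (iv F29432)
theorem F54659 : act 2 n22341 = n26492 := d25_24 (iv F3052) (iv F6028) (iv F12312) (iv F19567) F19566 (iv F23838) (iv D13588) (iv D10788) (iv F19119) D13543 F23800 D14692 D19922 (iv F37765) (iv D19988) (iv F37763) (iv D19985) (iv F37756) D24319 (iv F49157) (iv D23047) F43659 (iv D22346) (iv F43639) (iv D26492) (iv F47180) F47179 F35878 F29014 F26676 D16800 (iv F42932) (iv F48052) F48053 D23919 F48066 D23941 F48148 (iv F48135) F48134 (iv D22700) (iv F39828) F38934 (iv F39832) (iv D17809) F22877 (iv D10481) (iv D6041) F4569 F2340 (iv D1144) F1069 (iv F1093) (iv F1697) F1698 F942 (iv F510) F508 F15708 (iv F501) D492 (iv F1666) D1933 F32846 (iv F3327) D4353 F16772 (iv F32894) (iv D3901) F3024 D1950 (iv F3147) F32698 (iv F3167) (iv F32753) F3169 (iv D1924)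
def n26493 : Q := act 2 n21966
theorem D26493 : act 2 n21966 = n26493 := rfl
theorem F54660 : act 1 n26493 = n22074 := d6_1 D26493 F42930 F40506 (iv F48043) (iv F48047)
theorem F54661 : act 4 n26493 = n22075 := d12_2 F48054 D26493 (iv F48052)
theorem F54662 : act 6 n26493 = n26493 := d14_2 F42674 D26493 (iv D26493)
theorem F54663 : act 3 n26493 = n22039 := d21_1 D26493 (iv D22039) F29583 F21965 (iv F29363) D21945 D26485 F54631
def n26494 : Q := act 5 n21966
theorem D26494 : act 5 n21966 = n26494 := rfl
theorem F54664 : act 1 n26494 = n22294 := d9_1 D26494 (iv D22294) F36812 D23911 (iv F48047)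
theorem F54665 : act 3 n26494 = n21967 := d16_1 D26494 (iv D21967) D21966
theorem F54666 : act 4 n26494 = n25280 := d18_1 D26494 F51864 F48054
def n26495 : Q := act 3 n21968
theorem D26495 : act 3 n21968 = n26495 := rfl
theorem F54667 : act 0 n26495 = n26493 := d2_1 D26495 F54663 F42851
theorem F54668 : act 1 n26495 = n22838 := d7_1 D26495 F45110 (iv F42677)
theorem F54669 : act 2 n26495 = n26485 := d11_1 D26495 (iv D26485) (iv D21945) F29363 (iv F21965) (iv F29583) D22039 (iv F54663) (iv D26493) (iv D21966) (iv D16670) F21897 D12436 D16672 D21968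
theorem F54670 : act 6 n26495 = n26495 := d17_2 F42678 D26495 (iv D26495)
def n26496 : Q := act 4 n21968
theorem D26496 : act 4 n21968 = n26496 := rfl
theorem F54671 : act 0 n26496 = n22880 := d3_1 D26496 F45227 F42851
theorem F54672 : act 1 n26496 = n22828 := d8_1 D26496 F45063 (iv F42677)
theorem F54673 : act 2 n26496 = n21969 := d12_1 D26496 (iv D21969) D21968
theorem F54674 : act 6 n26496 = n26496 := d19_2 F42678 D26496 (iv D26496)
theorem F54675 : act 5 n26496 = n25855 := d24_1 F54674 (iv D25855) (iv F53056) (iv F53088) (iv F53089) D25904 F53207 (iv D25388) F40917 F40742 (iv F32028) D22831 F45076 (iv F54672)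
theorem F54676 : act 3 n25842 = n26496 := d16_3 F54675 F53078 F53043
def n26497 : Q := act 5 n21968
theorem D26497 : act 5 n21968 = n26497 := rfl
theorem F54677 : act 1 n26497 = n25853 := d9_1 D26497 F53073 (iv D22843) F32156 (iv F42677)
theorem F54678 : act 2 n26497 = n21970 := d13_1 D26497 (iv D21970) D21968
theorem F54679 : act 4 n26497 = n25855 := d18_1 D26497 (iv F54675) (iv D26496)
def n26498 : Q := act 5 n21969
theorem D26498 : act 5 n21969 = n26498 := rfl
theorem F54680 : act 2 n26498 = n25855 := d13_1 D26498 (iv F54675) F54673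
theorem F54681 : act 4 n26498 = n21970 := d18_1 D26498 (iv D21970) D21969
def n26499 : Q := act 1 n21970
theorem D26499 : act 1 n21970 = n26499 := rfl
theorem F54682 : act 3 n26499 = n21971 := d7_2 (iv F42681) D26499 (iv D21971)
theorem F54683 : act 5 n26499 = n21979 := d9_2 D21970 D26499 (iv D21979) (iv D16680) (iv F29455)
theorem F54684 : act 2 n23581 = n26499 := d25_19 (iv F573) F572 (iv F1082) (iv F1957) (iv F3727) D4907 (iv F12725) (iv F19608) D14137 (iv F35983) (iv F31970) F31971 (iv F35646) (iv F44157) (iv D22542) (iv D17279) (iv F30309) (iv F35853) (iv F47023) (iv D26499) F42681 F29457 (iv F29454) (iv F42676) F42675 (iv F43491) F43490 F40567 (iv F34432) F34431 D18530 (iv F39535) F29484 F21914 F18003 F8392 (iv F14281) (iv F20610) (iv F34747) (iv F21870) D16652 (iv F42635) F42638 F29735 D16864 F39565 (iv D12848) (iv D10340) (iv D5746) (iv D2771) (iv D1340) F1232 (iv F1190) (iv F16568) F1874 (iv F1929) (iv F32843) F1990 F1103 (iv F15730) F312 (iv F185) (iv F362) (iv F694) F32694 F1285 (iv F698) F699 (iv F721) F32858 F721 F385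 (iv F691) (iv F1285) (iv F32694) F694 F361
theorem F54685 : act 0 n26499 = n23582 := d1_1 F54684 (iv D23582) D23581
theorem F54686 : act 6 n26499 = n22521 := d14_2 (iv F47024) F54684 (iv F44143)
def n26500 : Q := act 4 n21972
theorem D26500 : act 4 n21972 = n26500 := rfl
theorem F54687 : act 1 n26500 = n21976 := d8_1 D26500 (iv D21976) (iv F42685)
theorem F54688 : act 2 n26500 = n22543 := d12_1 D26500 (iv D22543) (iv F42686)
def n26501 : Q := act 5 n21972
theorem D26501 : act 5 n21972 = n26501 := rfl
theorem F54689 : act 2 n26501 = n22544 := d13_1 D26501 (iv D22544) (iv F42686)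
theorem F54690 : act 3 n26501 = n21973 := d16_1 D26501 (iv D21973) D21972
theorem F54691 : act 6 n26501 = n21979 := d22_1 D26501 (iv F54683) F54686 F44109
def n26502 : Q := act 1 n21978
theorem D26502 : act 1 n21978 = n26502 := rfl
theorem F54692 : act 4 n26502 = n21979 := d8_2 (iv F42699) D26502 (iv D21979)
def n26503 : Q := act 0 n21979
theorem D26503 : act 0 n21979 = n26503 := rfl
theorem F54693 : act 3 n26503 = n21980 := d2_2 (iv F42700) D26503 (iv D21980)
theorem F54694 : act 5 n26503 = n23582 := d4_2 F54683 D26503 (iv F54685)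
theorem F54695 : act 2 n26503 = n23565 := d21_0 F46987 F35855 F30323 (iv F30299) F39559 F29685 (iv F42700) D26503
theorem F54696 : act 1 n23567 = n26503 := d6_5 F54695 (iv D23565) F35667 D19144 D23567
def n26504 : Q := act 2 n21979
theorem D26504 : act 2 n21979 = n26504 := rfl
theorem F54697 : act 0 n26504 = n23565 := d1_1 D26504 (iv F54695) (iv D26503)
theorem F54698 : act 1 n26504 = n22427 := d6_1 D26504 F43885 (iv F42697) F42698 D21979
theorem F54699 : act 3 n26504 = n22548 := d11_2 (iv F42700) D26504 F44163 F30320 (iv F30296) (iv F43031) F43030 (iv F54693) F54695 F46987 F35855 F30323 (iv F30299) F39559 F29685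
theorem F54700 : act 5 n26504 = n23581 := d13_2 F54683 D26504 F54684
theorem F54701 : act 6 n26504 = n22544 := d14_2 F54691 D26504 (iv F54689)
def n26505 : Q := act 3 n21981
theorem D26505 : act 3 n21981 = n26505 := rfl
theorem F54702 : act 0 n26505 = n26505 := d2_1 D26505 (iv D26505) F42702
theorem F54703 : act 1 n26505 = n21982 := d7_1 D26505 (iv D21982) D21981
theorem F54704 : act 4 n26505 = n26456 := d15_2 F52347 D26505 (iv D26456) (iv F46753) (iv F52348)
def n26506 : Q := act 4 n21982
theorem D26506 : act 4 n21982 = n26506 := rfl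
theorem F54705 : act 0 n26506 = n21984 := d3_1 D26506 (iv D21984) (iv F42703)
theorem F54706 : act 1 n26506 = n26456 := d8_1 D26506 (iv F54704) F54703
theorem F54707 : act 2 n26506 = n23252 := d12_1 D26506 F46228 F42705
theorem F54708 : act 3 n26506 = n26455 := d15_1 D26506 F54544 (iv D25510) F41134 D21982
theorem F54709 : act 5 n26506 = n23251 := d18_2 (iv F42704) D26506 F46226
def n26507 : Q := act 5 n21984
theorem D26507 : act 5 n21984 = n26507 := rfl
theorem F54710 : act 0 n26507 = n23251 := d4_1 D26507 (iv F54709) F54705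
theorem F54711 : act 2 n26507 = n23249 := d13_1 D26507 F46224 F46217
theorem F54712 : act 4 n26507 = n21985 := d18_1 D26507 (iv D21985) D21984
theorem F54713 : act 6 n26507 = n23248 := d22_3 (iv F46214) (iv F46215) D26507 F46219
def n26508 : Q := act 1 n21985
theorem D26508 : act 1 n21985 = n26508 := rfl
theorem F54714 : act 2 n26508 = n23758 := d6_2 (iv F42712) D26508 F47524 F36235 (iv F35688)
theorem F54715 : act 3 n26508 = n21986 := d7_2 (iv F42713) D26508 (iv D21986)
theorem F54716 : act 5 n26508 = n21989 := d9_2 D21985 D26508 (iv D21989) (iv D16691) (iv F29471)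
def n26509 : Q := act 1 n21988
theorem D26509 : act 1 n21988 = n26509 := rfl
theorem F54717 : act 4 n26509 = n21989 := d8_2 (iv F42722) D26509 (iv D21989)
def n26510 : Q := act 0 n21989
theorem D26510 : act 0 n21989 = n26510 := rfl
theorem F54718 : act 1 n26510 = n22462 := d0_2 D21989 D26510 F43959 F42795 F29559 (iv F29552) (iv F35216) (iv D16698) (iv F29477)
theorem F54719 : act 3 n26510 = n21990 := d2_2 (iv F42724) D26510 (iv D21990)
def n26511 : Q := act 2 n21989
theorem D26511 : act 2 n21989 = n26511 := rfl
theorem F54720 : act 1 n26511 = n22983 := d6_1 D26511 F45507 (iv F42717) F42718 D21989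
theorem F54721 : act 5 n26511 = n23758 := d13_2 F54716 D26511 (iv F54714)
theorem F54722 : act 3 n26511 = n23760 := d21_1 D26511 F47526 F36428 (iv F30345) F30346 (iv F42726) (iv F54719) (iv D26510)
def n26512 : Q := act 6 n21989
theorem D26512 : act 6 n21989 = n26512 := rfl
theorem F54723 : act 1 n26512 = n26501 := d10_1 D26512 F54691 (iv D21979) (iv F29479) D21989
theorem F54724 : act 3 n26512 = n21991 := d17_1 D26512 (iv D21991) (iv F42724)
theorem F54725 : act 5 n26512 = n21997 := d24_1 D26512 (iv D21997) (iv D16699) (iv D12450) F18002 (iv F21904) D16680 D21979 (iv F54691) (iv D26501) F42685 F29463 D16691 D21989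
def n26513 : Q := act 6 n21990
theorem D26513 : act 6 n21990 = n26513 := rfl
theorem F54726 : act 0 n26513 = n21991 := d5_1 D26513 (iv D21991) D21990
theorem F54727 : act 2 n26513 = n22469 := d14_1 D26513 (iv D22469) (iv F42726)
theorem F54728 : act 5 n26513 = n21999 := d20_1 D26513 F42743 F42715 D21991 F42728 (iv F42740) (iv F42741)
def n26514 : Q := act 6 n21993
theorem D26514 : act 6 n21993 = n26514 := rfl
theorem F54729 : act 4 n26514 = n21996 := d19_1 D26514 (iv D21996) (iv F42732)
def n26515 : Q := act 1 n21994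
theorem D26515 : act 1 n21994 = n26515 := rfl
theorem F54730 : act 4 n26515 = n21997 := d8_2 (iv F42735) D26515 (iv D21997)
def n26516 : Q := act 3 n21995
theorem D26516 : act 3 n21995 = n26516 := rfl
theorem F54731 : act 1 n26516 = n22288 := d7_1 D26516 (iv F45105) (iv F45107)
theorem F54732 : act 4 n26516 = n22290 := d15_2 F45264 D26516 F43474 (iv F41934) (iv F45263)
theorem F54733 : act 5 n26516 = n26516 := d16_2 F42737 D26516 (iv D26516)
theorem F54734 : act 2 n26516 = n22010 := d21_2 D21995 D26516 (iv D22010) (iv D16742) F21946 D12476 D16747 (iv F35216)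
def n26517 : Q := act 6 n21995
theorem D26517 : act 6 n21995 = n26517 := rfl
theorem F54735 : act 2 n26517 = n21996 := d14_1 D26517 (iv D21996) D21995
def n26518 : Q := act 1 n21996
theorem D26518 : act 1 n21996 = n26518 := rfl
theorem F54736 : act 3 n26518 = n21998 := d7_2 (iv F42738) D26518 (iv D21998)
theorem F54737 : act 6 n26518 = n21997 := d10_2 D21996 D26518 (iv D21997) (iv D16699) D16698
theorem F54738 : act 5 n26510 = n26518 := d22_0 F54737 (iv F54725) (iv D26512) D26510
theorem F54739 : act 0 n26518 = n26508 := d22_4 F54716 D26512 F54725 (iv F54737)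
def n26519 : Q := act 0 n21997
theorem D26519 : act 0 n21997 = n26519 := rfl
theorem F54740 : act 3 n26519 = n21999 := d2_2 (iv F42739) D26519 (iv D21999)
theorem F54741 : act 6 n26519 = n26508 := d5_2 F54737 D26519 (iv F54739)
def n26520 : Q := act 2 n21997
theorem D26520 : act 2 n21997 = n26520 := rfl
def n26521 : Q := act 1 n21999
theorem D26521 : act 1 n21999 = n26521 := rfl
theorem F54742 : act 6 n26521 = n24318 := d10_2 (iv F42743) D26521 (iv D24318) (iv F37743) D21986
theorem F54743 : act 2 n24361 = n26521 := d23_1 (iv F49272) (iv D26521) (iv D21999) (iv F42728) (iv F50902) (iv D25002) (iv F43447) F43448 (iv D17021) (iv F29950) (iv F43004) F43006 (iv F30276) F30275 (iv F30290) (iv F30297) F30296 D17288 D22553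
def n26522 : Q := act 2 n21999
theorem D26522 : act 2 n21999 = n26522 := rfl
theorem F54744 : act 0 n26522 = n22000 := d1_1 D26522 (iv D22000) D21999
theorem F54745 : act 5 n26522 = n22469 := d13_2 F54728 D26522 (iv F54727)
theorem F54746 : act 6 n26522 = n25003 := d14_2 (iv F42743) D26522 F50908
theorem F54747 : act 3 n25175 = n26522 := d16_3 F54745 (iv F44218) (iv F51513)
def n26523 : Q := act 1 n22005
theorem D26523 : act 1 n22005 = n26523 := rfl
theorem F54748 : act 0 n26523 = n22131 := d0_1 D26523 (iv F43091) F43090 (iv D17044) F34621 (iv F29979) (iv F43612) F43613 (iv F42762)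
theorem F54749 : act 3 n26523 = n22007 := d7_2 (iv F42764) D26523 (iv D22007)
theorem F54750 : act 5 n26523 = n22303 := d9_2 D22005 D26523 (iv D22303) (iv D16995) (iv F29519)
theorem F54751 : act 6 n26523 = n22343 := d10_2 (iv F42765) D26523 F43644 D22509 (iv F44080)
theorem F54752 : act 2 n22130 = n26523 := d23_1 F43080 (iv D26523) F42762 (iv D21055) (iv D15902) F21215 F17663 D12023 F21223 F34271 (iv F23715) (iv F31752) F31750 (iv F35131) (iv D16840) D16842 (iv F43069) (iv F43082) F43081
def n26524 : Q := act 6 n22010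
theorem D26524 : act 6 n22010 = n26524 := rfl
theorem F54753 : act 1 n26524 = n22079 := d10_1 D26524 (iv D22079) F36808 D23910 (iv F48041)
theorem F54754 : act 3 n26524 = n22011 := d17_1 D26524 (iv D22011) D22010
theorem F54755 : act 4 n26524 = n25266 := d19_1 D26524 F51820 F48050
def n26525 : Q := act 3 n22012
theorem D26525 : act 3 n22012 = n26525 := rfl
theorem F54756 : act 0 n26525 = n26516 := d2_1 D26525 (iv D26516) (iv F42783)
theorem F54757 : act 1 n26525 = n22839 := d7_1 D26525 F45114 (iv F42784)
theorem F54758 : act 2 n26525 = n26490 := d11_1 D26525 (iv D26490) (iv D21954) F29398 (iv F21915) (iv F29486) D21995 D26516 F54734 (iv D22010) (iv D16742) F21946 D12476 D16747 D22012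
theorem F54759 : act 5 n26525 = n26525 := d16_2 F42785 D26525 (iv D26525)
def n26526 : Q := act 4 n22012
theorem D26526 : act 4 n22012 = n26526 := rfl
theorem F54760 : act 0 n26526 = n22889 := d3_1 D26526 F45264 (iv F42783)
theorem F54761 : act 1 n26526 = n22829 := d8_1 D26526 F45067 (iv F42784)
theorem F54762 : act 2 n26526 = n22013 := d12_1 D26526 (iv D22013) D22012
theorem F54763 : act 5 n26526 = n26526 := d18_2 F42785 D26526 (iv D26526)
theorem F54764 : act 6 n26096 = n26526 := d24_0 F54763 F54761 (iv F45085) (iv D22833) F35257 (iv F40758) (iv F40947) D25400 (iv F53796) (iv D26139) F53693 F53692 F53659 D26096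
theorem F54765 : act 3 n26526 = n26083 := d17_1 F54764 (iv F53647) (iv F53680)
def n26527 : Q := act 6 n22012
theorem D26527 : act 6 n22012 = n26527 := rfl
theorem F54766 : act 0 n26527 = n26517 := d5_1 D26527 (iv D26517) (iv F42783)
theorem F54767 : act 1 n26527 = n26094 := d10_1 D26527 (iv F53688) (iv D22849) F32172 (iv F42784)
theorem F54768 : act 2 n26527 = n22014 := d14_1 D26527 (iv D22014) D22012
theorem F54769 : act 4 n26527 = n26096 := d19_1 D26527 F54764 (iv D26526)
theorem F54770 : act 5 n26527 = n26517 := d22_2 F42785 D26527 (iv D26517) (iv F42783)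
def n26528 : Q := act 6 n22013
theorem D26528 : act 6 n22013 = n26528 := rfl
theorem F54771 : act 0 n26528 = n26514 := d5_1 D26528 (iv D26514) (iv F42786)
theorem F54772 : act 2 n26528 = n26096 := d14_1 D26528 F54764 F54762
theorem F54773 : act 4 n26528 = n22014 := d19_1 D26528 (iv D22014) D22013
theorem F54774 : act 5 n26528 = n26514 := d22_2 F42788 D26528 (iv D26514) (iv F42786)
def n26529 : Q := act 1 n22014
theorem D26529 : act 1 n22014 = n26529 := rfl
theorem F54775 : act 0 n26529 = n23589 := d0_1 D26529 F47047 (iv F47038) (iv D23585) (iv F42711) D26508 (iv F54739) (iv D26518) (iv F42789)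
theorem F54776 : act 3 n26529 = n22015 := d7_2 (iv F42790) D26529 (iv D22015)
theorem F54777 : act 5 n26529 = n22462 := d9_2 (iv F42791) D26529 (iv F54718) F54738 (iv D26518)
theorem F54778 : act 6 n26529 = n22023 := d10_2 D22014 D26529 (iv D22023) (iv D16755) (iv F29552)
theorem F54779 : act 2 n23588 = n26529 := d25_19 (iv F568) F567 (iv F1068) (iv F1944) (iv F3702) D4869 (iv F12773) (iv F19673) D14194 (iv F36127) (iv F31995) F31996 (iv F35795) (iv F44018) (iv D22483) (iv D17186) (iv F30170) (iv F35714) D23588 (iv D26529) F42790 F29554 (iv F29547) (iv F42782) F42781 (iv F42952) F42951 F40503 F29109 F29102 D18524 (iv F39664) F29581 F21964 F18020 F8400 (iv F14279) (iv F20602) F20603 (iv F21859) D16628 (iv F42608) (iv F42611) F29994 D17062 F39673 (iv D12807) (iv D10319) (iv D5691) (iv D2741) (iv D1326) F1220 (iv F1177) F16822 F1864 (iv F1918) (iv F32552) F1974 F1095 F581 F300 (iv F192) (iv F367) (iv F702) F32756 F1294 F698 F691 (iv F706) F32799 F706 (iv F385) (iv F699) (iv F1294) (iv F32756) F702 F366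
def n26530 : Q := act 4 n22016
theorem D26530 : act 4 n22016 = n26530 := rfl
theorem F54780 : act 1 n26530 = n22020 := d8_1 D26530 (iv D22020) (iv F42795)
theorem F54781 : act 2 n26530 = n22484 := d12_1 D26530 (iv D22484) (iv F42796)
def n26531 : Q := act 6 n22016
theorem D26531 : act 6 n22016 = n26531 := rfl
theorem F54782 : act 2 n26531 = n22485 := d14_1 D26531 (iv D22485) (iv F42796)
theorem F54783 : act 3 n26531 = n22018 := d17_1 D26531 (iv D22018) D22016
theorem F54784 : act 5 n26531 = n22023 := d22_2 F47048 D26531 (iv F54778) F54775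
def n26532 : Q := act 1 n22022
theorem D26532 : act 1 n22022 = n26532 := rfl
theorem F54785 : act 4 n26532 = n22023 := d8_2 (iv F42809) D26532 (iv D22023)
def n26533 : Q := act 0 n22023
theorem D26533 : act 0 n22023 = n26533 := rfl
theorem F54786 : act 3 n26533 = n22024 := d2_2 (iv F42810) D26533 (iv D22024)
theorem F54787 : act 6 n26533 = n23589 := d5_2 F54778 D26533 (iv F54775)
theorem F54788 : act 2 n26533 = n23590 := d21_0 F47051 F35718 F30179 (iv F30159) F39641 F29962 (iv F42810) D26533
theorem F54789 : act 1 n23622 = n26533 := d6_5 F54788 F47050 F35814 D19210 D23622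
def n26534 : Q := act 2 n22023
theorem D26534 : act 2 n22023 = n26534 := rfl
theorem F54790 : act 0 n26534 = n23590 := d1_1 D26534 (iv F54788) (iv D26533)
theorem F54791 : act 1 n26534 = n22238 := d6_1 D26534 F43351 (iv F42807) F42808 D22023
theorem F54792 : act 3 n26534 = n22489 := d11_2 (iv F42810) D26534 F44024 F30182 (iv F30162) (iv F43575) F43574 (iv F54786) F54788 F47051 F35718 F30179 (iv F30159) F39641 F29962
theorem F54793 : act 5 n26534 = n22485 := d13_2 F54784 D26534 (iv F54782)
theorem F54794 : act 6 n26534 = n23588 := d14_2 F54778 D26534 F54779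
def n26535 : Q := act 3 n22025
theorem D26535 : act 3 n22025 = n26535 := rfl
theorem F54795 : act 0 n26535 = n26535 := d2_1 D26535 (iv D26535) F42812
theorem F54796 : act 1 n26535 = n22026 := d7_1 D26535 (iv D22026) D22025
theorem F54797 : act 4 n26535 = n26441 := d15_2 F52478 D26535 (iv D26441) (iv F46704) (iv F52481)
theorem F54798 : act 5 n26535 = n26505 := d16_2 (iv F42815) D26535 (iv D26505)
theorem F54799 : act 6 n26535 = n26505 := d17_2 (iv F42814) D26535 (iv D26505)
theorem F54800 : act 2 n26505 = n26535 := d23_1 F54798 F54796 F42816 F36886 (iv D19219) (iv D13975) (iv F19500) (iv D11001) (iv F19499) F19498 (iv F24475) (iv F35454) F35452 D13975 D19218 (iv F35839) F42818 (iv F54796) F54795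
def n26536 : Q := act 4 n22026
theorem D26536 : act 4 n22026 = n26536 := rfl
theorem F54801 : act 0 n26536 = n22028 := d3_1 D26536 (iv D22028) (iv F42816)
theorem F54802 : act 1 n26536 = n26441 := d8_1 D26536 (iv F54797) F54796
theorem F54803 : act 2 n26536 = n23323 := d12_1 D26536 F46398 F42818
theorem F54804 : act 3 n26536 = n26440 := d15_1 D26536 F54518 (iv D25568) F41221 D22026
theorem F54805 : act 6 n26536 = n23322 := d19_2 (iv F42817) D26536 F46395
def n26537 : Q := act 6 n22028
theorem D26537 : act 6 n22028 = n26537 := rfl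
theorem F54806 : act 0 n26537 = n23322 := d5_1 D26537 (iv F54805) F54801
theorem F54807 : act 2 n26537 = n23320 := d14_1 D26537 F46393 F46386
theorem F54808 : act 4 n26537 = n22029 := d19_1 D26537 (iv D22029) D22028
theorem F54809 : act 5 n23319 = n26537 := d22_0 (iv D26537) F46384 F46383 (iv F46388)
def n26538 : Q := act 1 n22029
theorem D26538 : act 1 n22029 = n26538 := rfl
theorem F54810 : act 2 n26538 = n23782 := d6_2 (iv F42825) D26538 F47601 F36334 (iv F35833)
theorem F54811 : act 3 n26538 = n22030 := d7_2 (iv F42826) D26538 (iv D22030)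
theorem F54812 : act 6 n26538 = n22033 := d10_2 D22029 D26538 (iv D22033) (iv D16767) (iv F29570)
def n26539 : Q := act 1 n22032
theorem D26539 : act 1 n22032 = n26539 := rfl
theorem F54813 : act 4 n26539 = n22033 := d8_2 (iv F42835) D26539 (iv D22033)
def n26540 : Q := act 0 n22033
theorem D26540 : act 0 n22033 = n26540 := rfl
theorem F54814 : act 1 n26540 = n22521 := d0_2 D22033 D26540 F44109 F42685 F29462 (iv F29455) F29585 (iv D16774) (iv F29574)
theorem F54815 : act 3 n26540 = n22034 := d2_2 (iv F42837) D26540 (iv D22034)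
def n26541 : Q := act 2 n22033
theorem D26541 : act 2 n22033 = n26541 := rfl
theorem F54816 : act 1 n26541 = n22974 := d6_1 D26541 F45482 (iv F42830) F42831 D22033
theorem F54817 : act 6 n26541 = n23782 := d14_2 F54812 D26541 (iv F54810)
theorem F54818 : act 3 n26541 = n23784 := d21_1 D26541 F47603 (iv D19455) (iv F30476) F30477 (iv F42839) (iv F54815) (iv D26540)
def n26542 : Q := act 5 n22033
theorem D26542 : act 5 n22033 = n26542 := rfl
theorem F54819 : act 1 n26542 = n26531 := d9_1 D26542 F54784 (iv D22023) (iv F29576) D22033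
theorem F54820 : act 3 n26542 = n22035 := d16_1 D26542 (iv D22035) (iv F42837)
theorem F54821 : act 6 n22041 = n26542 := d24_0 (iv D26542) (iv D22033) (iv D16767) (iv F29560) (iv F42795) D26531 F54784 (iv D22023) (iv D16755) F21953 F18019 D12490 D16775 D22041
def n26543 : Q := act 5 n22034
theorem D26543 : act 5 n22034 = n26543 := rfl
theorem F54822 : act 0 n26543 = n22035 := d4_1 D26543 (iv D22035) D22034
theorem F54823 : act 2 n26543 = n22527 := d13_1 D26543 (iv D22527) (iv F42839)
theorem F54824 : act 6 n26543 = n22043 := d20_2 F42859 D26543 F42860 F42828 D22035 (iv F42841) (iv F42858)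
def n26544 : Q := act 5 n22037
theorem D26544 : act 5 n22037 = n26544 := rfl
theorem F54825 : act 0 n26544 = n26498 := d4_1 D26544 (iv D26498) F42847
theorem F54826 : act 4 n26544 = n22040 := d18_1 D26544 (iv D22040) (iv F42845)
theorem F54827 : act 6 n26544 = n26498 := d22_1 D26544 (iv D26498) F42680 F42847
def n26545 : Q := act 1 n22038
theorem D26545 : act 1 n22038 = n26545 := rfl
theorem F54828 : act 4 n26545 = n22041 := d8_2 (iv F42849) D26545 (iv D22041)
def n26546 : Q := act 5 n22039
theorem D26546 : act 5 n22039 = n26546 := rfl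
theorem F54829 : act 0 n26546 = n26497 := d4_1 D26546 (iv D26497) (iv F42851)
theorem F54830 : act 2 n26546 = n22040 := d13_1 D26546 (iv D22040) D22039
theorem F54831 : act 6 n26546 = n26497 := d22_1 D26546 (iv D26497) F42678 (iv F42851)
def n26547 : Q := act 1 n22040
theorem D26547 : act 1 n22040 = n26547 := rfl
theorem F54832 : act 0 n26547 = n26538 := d0_1 D26547 (iv D26538) F42824 (iv F47029) F47028 (iv F47025) (iv F54685) (iv D26499) (iv F42853)
theorem F54833 : act 3 n26547 = n22042 := d7_2 (iv F42854) D26547 (iv D22042)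
theorem F54834 : act 5 n26547 = n22041 := d9_2 D22040 D26547 (iv D22041) (iv D16775) D16774
theorem F54835 : act 6 n26547 = n26540 := d10_2 (iv F42855) D26547 F54814 (iv F54686) (iv D26499)
def n26548 : Q := act 0 n22041
theorem D26548 : act 0 n22041 = n26548 := rfl
theorem F54836 : act 3 n26548 = n22043 := d2_2 (iv F42856) D26548 (iv D22043)
theorem F54837 : act 5 n26548 = n26538 := d4_2 F54834 D26548 (iv F54832)
def n26549 : Q := act 2 n22041
theorem D26549 : act 2 n22041 = n26549 := rfl
def n26550 : Q := act 1 n22043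
theorem D26550 : act 1 n22043 = n26550 := rfl
theorem F54838 : act 5 n26550 = n24303 := d9_2 (iv F42860) D26550 F49108 F37839 D22030
theorem F54839 : act 2 n24304 = n26550 := d23_1 D24304 (iv D26550) (iv D22043) (iv F42858) (iv F44123) F44122 F43132 D22155 F43158 D22156 F43161 (iv D17160) D17159 (iv F43945) (iv F49407) (iv D24407) (iv F49205) F49204 F49106
def n26551 : Q := act 2 n22043
theorem D26551 : act 2 n22043 = n26551 := rfl
theorem F54840 : act 0 n26551 = n22044 := d1_1 D26551 (iv D22044) D22043
theorem F54841 : act 5 n26551 = n24984 := d13_2 (iv F42860) D26551 F50843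
theorem F54842 : act 6 n26551 = n22527 := d14_2 F54824 D26551 (iv F54823)
theorem F54843 : act 3 n25223 = n26551 := d17_3 F54842 (iv F44379) (iv F51673)
def n26552 : Q := act 4 n22045
theorem D26552 : act 4 n22045 = n26552 := rfl
theorem F54844 : act 0 n26552 = n24962 := d3_1 D26552 (iv D24962) (iv F42862)
theorem F54845 : act 1 n26552 = n24972 := d8_1 D26552 (iv D24972) (iv F42863)
theorem F54846 : act 2 n26552 = n23090 := d12_1 D26552 F45839 (iv F42864)
theorem F54847 : act 5 n26552 = n23089 := d18_2 (iv F42865) D26552 F45836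
def n26553 : Q := act 2 n22046
theorem D26553 : act 2 n22046 = n26553 := rfl
theorem F54848 : act 0 n26553 = n22047 := d1_1 D26553 (iv D22047) D22046
theorem F54849 : act 1 n26553 = n24307 := d6_1 D26553 F49120 F37732 (iv F37761) F42872
theorem F54850 : act 5 n26553 = n22408 := d13_2 F42896 D26553 F43840
theorem F54851 : act 6 n26553 = n22058 := d14_2 (iv F42866) D26553 (iv D22058)
theorem F54852 : act 3 n24363 = n26553 := d17_3 F54851 (iv F50778) F50779
theorem F54853 : act 2 n23640 = n22683 := d21_4 (iv F49277) F54852 (iv D26553) (iv F47184) (iv D22683) (iv F44605) (iv F48842) F48840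
theorem F54854 : act 3 n23641 = n22682 := d21_1 D23641 F45738 F45736 (iv F49277) F54852 (iv D26553) (iv F47184) (iv D23640)
theorem F54855 : act 0 n23641 = n22683 := d21_8 (iv F54853) F47184 D26553 (iv F54852) F49277 (iv F45736) (iv F45738) (iv F54854)
theorem F54856 : act 4 n23882 = n23641 := d15_0 F54854 F44611 (iv D19612) (iv F36689) D23882
theorem F54857 : act 2 n23344 = n23882 := d12_3 F54856 (iv D23641) (iv F46467)
def n26554 : Q := act 3 n22047
theorem D26554 : act 3 n22047 = n26554 := rfl
theorem F54858 : act 0 n26554 = n24363 := d2_1 D26554 F54852 F54848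
theorem F54859 : act 1 n26554 = n22092 := d7_1 D26554 (iv D22092) (iv F42867)
theorem F54860 : act 2 n26554 = n24201 := d11_1 D26554 F48842 F44605 D22683 (iv F54853) F47184 D26553 (iv F54852) F49277 (iv F45736) (iv F45738) (iv F54854) (iv D23641) F35887 D22047
theorem F54861 : act 5 n26554 = n22198 := d16_2 F42869 D26554 F43264
theorem F54862 : act 6 n26554 = n22060 := d17_2 (iv F42868) D26554 (iv D22060)
def n26555 : Q := act 0 n22049
theorem D26555 : act 0 n22049 = n26555 := rfl
theorem F54863 : act 4 n26555 = n22050 := d3_2 (iv F42873) D26555 (iv D22050)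
def n26556 : Q := act 2 n22049
theorem D26556 : act 2 n22049 = n26556 := rfl
theorem F54864 : act 1 n26556 = n26556 := d6_1 D26556 (iv D26556) (iv D22049) F29604 D22049
theorem F54865 : act 4 n26556 = n22051 := d12_2 (iv F42873) D26556 (iv D22051)
theorem F54866 : act 6 n26556 = n23882 := d14_2 F46468 D26556 (iv F54857)
theorem F54867 : act 3 n23877 = n26556 := d17_3 F54866 (iv D23882) (iv F47945)
def n26557 : Q := act 5 n22049
theorem D26557 : act 5 n22049 = n26557 := rfl
theorem F54868 : act 4 n26557 = n22052 := d18_1 D26557 (iv D22052) (iv F42873)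
def n26558 : Q := act 1 n22050
theorem D26558 : act 1 n22050 = n26558 := rfl
theorem F54869 : act 0 n26558 = n25062 := d0_1 D26558 F51120 (iv F46946) F46947 F39046 (iv D20581) F26546 D16784 D22050
theorem F54870 : act 3 n26558 = n22057 := d7_2 (iv F42874) D26558 (iv D22057)
theorem F54871 : act 6 n26558 = n24319 := d10_2 F47185 D26558 F49156 D24322 (iv F49165)
def n26559 : Q := act 2 n22050
theorem D26559 : act 2 n22050 = n26559 := rfl
theorem F54872 : act 0 n26559 = n22051 := d1_1 D26559 (iv D22051) D22050
theorem F54873 : act 6 n26559 = n22683 := d14_2 F47185 D26559 (iv F54853)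
theorem F54874 : act 3 n26559 = n22685 := d21_1 D26559 (iv F48813) F48814 F42905 (iv D22060) (iv D16788) (iv F29606) D22050
def n26560 : Q := act 5 n22050
theorem D26560 : act 5 n22050 = n26560 := rfl
theorem F54875 : act 0 n26560 = n22052 := d4_1 D26560 (iv D22052) D22050
theorem F54876 : act 3 n26560 = n22059 := d16_1 D26560 (iv D22059) (iv F42874)
theorem F54877 : act 6 n26560 = n23642 := d22_1 D26560 (iv D23642) F35888 D22050
def n26561 : Q := act 3 n22051
theorem D26561 : act 3 n22051 = n26561 := rfl
theorem F54878 : act 0 n26561 = n22685 := d2_1 D26561 (iv F54874) F54872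
theorem F54879 : act 1 n26561 = n26561 := d7_1 D26561 (iv D26561) F42875
theorem F54880 : act 2 n26561 = n23768 := d11_1 D26561 F47552 (iv F50777) F50778 (iv D22058) (iv F42874) D26559 F54874 (iv F48813) F48814 F42905 (iv D22060) (iv D16788) (iv F29606) D22051
theorem F54881 : act 4 n26561 = n23933 := d15_2 F54865 D26561 F48118 (iv F47944) F54867
theorem F54882 : act 6 n26561 = n22682 := d17_2 F47186 D26561 (iv F54854)
theorem F54883 : act 5 n23922 = n26561 := d22_2 D22684 (iv F48079) F54882 (iv D22682)
def n26562 : Q := act 5 n22051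
theorem D26562 : act 5 n22051 = n26562 := rfl
theorem F54884 : act 2 n26562 = n22052 := d13_1 D26562 (iv D22052) D22051
theorem F54885 : act 3 n26562 = n23922 := d16_1 D26562 F54883 (iv D26561)
def n26563 : Q := act 6 n22052
theorem D26563 : act 6 n22052 = n26563 := rfl
theorem F54886 : act 0 n26563 = n23642 := d5_1 D26563 (iv F54877) F54875
theorem F54887 : act 1 n26563 = n23571 := d10_1 D26563 (iv D23571) D23569 (iv F46994) F43188
theorem F54888 : act 3 n26563 = n22062 := d17_1 D26563 (iv D22062) (iv F42876)
theorem F54889 : act 5 n26563 = n23640 := d20_1 D26563 F47185 D26560 F54877 (iv D23642) F35888 D22052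
def n26564 : Q := act 2 n22053
theorem D26564 : act 2 n22053 = n26564 := rfl
theorem F54890 : act 0 n26564 = n22253 := d1_1 D26564 (iv F46883) F43192
theorem F54891 : act 1 n26564 = n26564 := d6_1 D26564 (iv D26564) (iv D22053) F29608 D22053
theorem F54892 : act 0 n22179 = n22179 := d0_5 F54891 F54890 (iv D22253) F29846 D22179 (iv D22179) (iv F29846) D22253 (iv F54890)
theorem F54893 : act 0 n22384 = n22384 := d2_3 F43761 F54892 (iv F43761)
def n26565 : Q := act 6 n22053
theorem D26565 : act 6 n22053 = n26565 := rfl
theorem F54894 : act 1 n26565 = n23044 := d10_1 D26565 (iv D23044) (iv D18634) (iv F29610) D22053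
theorem F54895 : act 3 n26565 = n22064 := d17_1 D26565 (iv D22064) (iv F42877)
theorem F54896 : act 4 n26565 = n25382 := d19_1 D26565 F52082 F46695
theorem F54897 : act 5 n26565 = n22169 := d22_2 F43189 D26565 (iv D22169) (iv F43187)
def n26566 : Q := act 4 n22060
theorem D26566 : act 4 n22060 = n26566 := rfl
theorem F54898 : act 1 n26566 = n22067 := d8_1 D26566 (iv D22067) (iv F42893)
theorem F54899 : act 2 n26566 = n23982 := d12_1 D26566 F48294 F42905
def n26567 : Q := act 1 n22061
theorem D26567 : act 1 n22061 = n26567 := rfl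
theorem F54900 : act 0 n26567 = n22099 := d0_1 D26567 (iv D22099) F29670 F22015 (iv F22017) D16827 (iv F35583) D22407 F43838
theorem F54901 : act 2 n26567 = n24408 := d6_2 (iv F42894) D26567 (iv F49412) F43168 (iv F35275)
theorem F54902 : act 5 n26567 = n22069 := d9_2 D22061 D26567 (iv D22069) (iv D16794) (iv F29613)
theorem F54903 : act 6 n26567 = n24323 := d10_2 F43842 D26567 (iv D24323) D24326 (iv F49173)
def n26568 : Q := act 4 n22065
theorem D26568 : act 4 n22065 = n26568 := rfl
theorem F54904 : act 0 n26568 = n22067 := d3_1 D26568 (iv D22067) (iv F42901)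
theorem F54905 : act 1 n26568 = n26120 := d8_1 D26568 F53729 F43579
theorem F54906 : act 2 n26568 = n24594 := d12_1 D26568 F49908 (iv F42904)
theorem F54907 : act 5 n26568 = n24591 := d18_2 (iv F42902) D26568 F49902
theorem F54908 : act 6 n26568 = n22106 := d19_2 (iv F42903) D26568 (iv D22106)
def n26569 : Q := act 4 n22066
theorem D26569 : act 4 n22066 = n26569 := rfl
theorem F54909 : act 0 n26569 = n24594 := d3_1 D26569 F49908 (iv F42906)
theorem F54910 : act 1 n26569 = n23983 := d8_1 D26569 F48297 (iv F42907)
theorem F54911 : act 2 n26569 = n22067 := d12_1 D26569 (iv D22067) D22066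
theorem F54912 : act 5 n26569 = n24593 := d18_2 F42909 D26569 F49906
theorem F54913 : act 6 n26569 = n22111 := d19_2 (iv F42908) D26569 (iv D22111)
def n26570 : Q := act 5 n22067
theorem D26570 : act 5 n22067 = n26570 := rfl
theorem F54914 : act 0 n26570 = n24591 := d4_1 D26570 (iv F54907) F54904
theorem F54915 : act 2 n26570 = n24593 := d13_1 D26570 (iv F54912) F54911
theorem F54916 : act 4 n26570 = n22068 := d18_1 D26570 (iv D22068) D22067
def n26571 : Q := act 1 n22068
theorem D26571 : act 1 n22068 = n26571 := rfl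
theorem F54917 : act 3 n26571 = n22069 := d7_2 (iv F42913) D26571 (iv D22069)
def n26572 : Q := act 0 n22069
theorem D26572 : act 0 n22069 = n26572 := rfl
theorem F54918 : act 5 n26572 = n22099 := d4_2 F54902 D26572 (iv F54900)
theorem F54919 : act 1 n24205 = n26572 := d23_2 F48228 D24205 (iv D26572) (iv F54902) F54901 (iv F49412) (iv D22158) D22160 F43174 (iv F29854) (iv F43384) (iv D22259) D22258 F43383 (iv F48172) F48175 F48148 (iv F36980) (iv F48227)
theorem F54920 : act 3 n26572 = n24228 := d7_2 (iv F48856) F54919 (iv D24228)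
theorem F54921 : act 0 n24228 = n26571 := d2_1 F54920 F54917 D26572
theorem F54922 : act 2 n26571 = n24230 := d1_2 (iv F48908) F54921 (iv D24230)
def n26573 : Q := act 4 n22070
theorem D26573 : act 4 n22070 = n26573 := rfl
theorem F54923 : act 0 n26573 = n22323 := d3_1 D26573 F43572 (iv F42914)
theorem F54924 : act 1 n26573 = n26158 := d8_1 D26573 F53858 F43733
theorem F54925 : act 6 n26573 = n22319 := d19_2 (iv F42915) D26573 (iv D22319)
def n26574 : Q := act 0 n22075
theorem D26574 : act 0 n22075 = n26574 := rfl
theorem F54926 : act 2 n26574 = n25270 := d1_2 F48052 D26574 (iv F51832)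
theorem F54927 : act 3 n26574 = n22076 := d2_2 (iv F42932) D26574 (iv D22076)
theorem F54928 : act 4 n26574 = n26495 := d3_2 F54661 D26574 F54667
theorem F54929 : act 6 n26574 = n26574 := d5_2 F42933 D26574 (iv D26574)
theorem F54930 : act 1 n22449 = n26574 := d8_3 F54928 F54668 F45111
theorem F54931 : act 5 n26574 = n22095 := d9_2 (iv F43928) F54930 (iv D22095) D22096 (iv F42991)
def n26575 : Q := act 5 n22075
theorem D26575 : act 5 n22075 = n26575 := rfl
theorem F54932 : act 0 n26575 = n22095 := d4_1 D26575 (iv F54931) (iv D26574)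
theorem F54933 : act 1 n26575 = n22130 := d9_1 D26575 (iv F43080) (iv D22087) F29651 D22075
theorem F54934 : act 2 n26575 = n25280 := d13_1 D26575 F51864 F48052
theorem F54935 : act 3 n26575 = n22078 := d16_1 D26575 (iv D22078) (iv F42932)
theorem F54936 : act 6 n26575 = n22095 := d22_1 D26575 (iv F54931) F54929 (iv D26574)
def n26576 : Q := act 2 n22076
theorem D26576 : act 2 n22076 = n26576 := rfl
theorem F54937 : act 0 n26576 = n22077 := d1_1 D26576 (iv D22077) D22076
theorem F54938 : act 1 n26576 = n23958 := d6_1 D26576 (iv D23958) (iv D19645) (iv F30116) (iv F42940)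
theorem F54939 : act 5 n26576 = n22098 := d13_2 (iv F42938) D26576 (iv D22098)
theorem F54940 : act 6 n26576 = n26576 := d14_2 F42934 D26576 (iv D26576)
theorem F54941 : act 3 n26576 = n24341 := d21_7 D24342 (iv F51837) (iv D25271) (iv F51830) (iv F54926) F54927 D26576 (iv D24341)
theorem F54942 : act 1 n23965 = n24341 := d25_20 (iv F3056) (iv F5996) (iv F12236) (iv F19516) (iv F23906) D18666 F33398 (iv F30402) (iv F44272) (iv F50814) (iv D24977) (iv F44718) (iv D22722) (iv D17806) (iv D13062) D13061 (iv F35411) (iv F44578) F44579 (iv F48246) (iv F54941) (iv D26576) (iv F54927) F54926 (iv D25270) (iv F47171) F47170 F42956 F29655 (iv F29600) (iv F29603) (iv F35883) F39611 (iv D17112) (iv F30057) F30289 D17167 F39585 D22016 F42796 (iv F30435) (iv D17358) (iv D12829) (iv D10330) F8650 (iv D2904) (iv F4530) (iv D2900) (iv D1407) (iv D699) F1074 F1072 F581 F300 (iv F287) (iv F579) D585 (iv F1971) D2388 (iv F17309) (iv F2354) D2952 (iv F32669) F2933 (iv F2896) (iv F17150) (iv D1787) F1586 F883 (iv F997) F996 D1030 F1800 D1061 F32716 (iv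 D1954) F17069
def n26577 : Q := act 5 n22077
theorem D26577 : act 5 n22077 = n26577 := rfl
theorem F54943 : act 0 n26577 = n22098 := d4_1 D26577 (iv F54939) F54937
theorem F54944 : act 1 n26577 = n24380 := d9_1 D26577 F49337 F49122 (iv F37784) (iv F43966)
theorem F54945 : act 2 n26577 = n22078 := d13_1 D26577 (iv D22078) D22077
theorem F54946 : act 3 n26577 = n24343 := d16_1 D26577 (iv D24343) F43977
theorem F54947 : act 6 n26577 = n22098 := d22_1 D26577 (iv F54939) F54940 F54937
def n26578 : Q := act 1 n22084
theorem D26578 : act 1 n22084 = n26578 := rfl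
theorem F54948 : act 4 n26578 = n22087 := d8_2 (iv F42959) D26578 (iv D22087)
def n26579 : Q := act 0 n22085
theorem D26579 : act 0 n22085 = n26579 := rfl
theorem F54949 : act 4 n26579 = n22088 := d3_2 (iv F42961) D26579 (iv D22088)
theorem F54950 : act 6 n26579 = n22093 := d5_2 (iv F42962) D26579 (iv D22093)
def n26580 : Q := act 1 n22088
theorem D26580 : act 1 n22088 = n26580 := rfl
theorem F54951 : act 0 n26580 = n22133 := d0_1 D26580 F43084 (iv F43926) F54930 (iv D26574) (iv D22075) F29633 D16809 D22088
theorem F54952 : act 2 n26580 = n22343 := d6_2 F43540 D26580 F43644 (iv F42612) F43543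
theorem F54953 : act 3 n26580 = n22090 := d7_2 (iv F42968) D26580 (iv D22090)
theorem F54954 : act 5 n26580 = n22342 := d9_2 F42995 D26580 F43641 F43087 F42996
theorem F54955 : act 6 n26580 = n22130 := d10_2 (iv F42969) D26580 (iv F54933) F54936 (iv D22095)
def n26581 : Q := act 1 n22093
theorem D26581 : act 1 n22093 = n26581 := rfl
theorem F54956 : act 3 n26581 = n26497 := d7_2 F53071 D26581 F54677
theorem F54957 : act 4 n26581 = n22095 := d8_2 (iv F42984) D26581 (iv D22095)
theorem F54958 : act 5 n26495 = n26581 := d18_0 F54957 (iv F54931) F54928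
def n26582 : Q := act 5 n22093
theorem D26582 : act 5 n22093 = n26582 := rfl
theorem F54959 : act 0 n26582 = n22094 := d4_1 D26582 (iv D22094) D22093
theorem F54960 : act 1 n26582 = n22842 := d9_1 D26582 F45128 (iv F54668) F54958 (iv D26581)
theorem F54961 : act 3 n26582 = n22843 := d16_1 D26582 (iv F53073) F53071
theorem F54962 : act 4 n26582 = n22096 := d18_1 D26582 (iv D22096) (iv F42984)
theorem F54963 : act 6 n26582 = n26482 := d22_1 D26582 F54623 F42962 D22093
def n26583 : Q := act 6 n22094
theorem D26583 : act 6 n22094 = n26583 := rfl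
theorem F54964 : act 0 n26583 = n26482 := d5_1 D26583 (iv F54963) F54959
theorem F54965 : act 2 n26583 = n26487 := d14_1 D26583 F54639 (iv F43506)
theorem F54966 : act 4 n26583 = n22097 := d19_1 D26583 (iv D22097) (iv F42986)
theorem F54967 : act 5 n26583 = n26579 := d20_1 D26583 F54950 D26582 F54963 F54623 F42962 D22094
theorem F54968 : act 1 n22127 = n26583 := d8_3 F54966 (iv F42996) (iv F43075)
def n26584 : Q := act 2 n22095
theorem D26584 : act 2 n22095 = n26584 := rfl
theorem F54969 : act 0 n26584 = n25280 := d1_1 D26584 (iv F54934) F54932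
theorem F54970 : act 5 n26584 = n25270 := d13_2 F54931 D26584 (iv F54926)
theorem F54971 : act 6 n26584 = n25280 := d14_2 F54936 D26584 (iv F54934)
theorem F54972 : act 3 n25272 = n26584 := d17_3 F54971 F51863 (iv F51840)
def n26585 : Q := act 1 n22098
theorem D26585 : act 1 n22098 = n26585 := rfl
theorem F54973 : act 0 n26585 = n24408 := d0_1 D26585 (iv F49412) (iv D22158) (iv D16870) (iv F29757) (iv F37871) (iv F49334) (iv F54944) F54943
theorem F54974 : act 2 n26585 = n22099 := d6_2 D22098 D26585 (iv D22099) (iv D16821) D16820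
theorem F54975 : act 6 n26585 = n24377 := d10_2 F54947 D26585 (iv D24377) D24380 (iv F54944)
def n26586 : Q := act 3 n22098
theorem D26586 : act 3 n22098 = n26586 := rfl
theorem F54976 : act 0 n26586 = n24343 := d2_1 D26586 (iv F54946) F54943
theorem F54977 : act 5 n26586 = n24341 := d16_2 F54939 D26586 (iv F54941)
theorem F54978 : act 6 n26586 = n24343 := d17_2 F54947 D26586 (iv F54946)
def n26587 : Q := act 3 n22099
theorem D26587 : act 3 n22099 = n26587 := rfl
theorem F54979 : act 1 n26587 = n22100 := d7_1 D26587 (iv D22100) D22099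
theorem F54980 : act 5 n26587 = n24228 := d16_2 F54918 D26587 (iv F54920)
theorem F54981 : act 6 n26587 = n24397 := d17_2 (iv F42997) D26587 (iv D24397)
theorem F54982 : act 2 n22320 = n26587 := d13_3 F54980 F48908 (iv F43565)
def n26588 : Q := act 1 n22101
theorem D26588 : act 1 n22101 = n26588 := rfl
theorem F54983 : act 0 n26588 = n23965 := d0_1 D26588 F54942 (iv D24341) (iv D19998) F25710 D19974 (iv F39636) F39562 (iv F43001)
theorem F54984 : act 2 n26588 = n23959 := d6_2 (iv F43002) D26588 (iv D23959) F36961 F29673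
theorem F54985 : act 3 n26588 = n24229 := d7_2 F43261 D26588 (iv F48912)
theorem F54986 : act 5 n26588 = n24205 := d9_2 D22101 D26588 F54919 F54918 (iv D22099)
theorem F54987 : act 6 n26588 = n22403 := d10_2 (iv F43003) D26588 (iv D22403) F30054 (iv F42593)
def n26589 : Q := act 1 n22102
theorem D26589 : act 1 n22102 = n26589 := rfl
theorem F54988 : act 2 n26589 = n22109 := d6_2 D22102 D26589 (iv D22109) (iv D16830) (iv F29674)
theorem F54989 : act 3 n26589 = n22314 := d7_2 (iv F43005) D26589 (iv D22314)
theorem F54990 : act 5 n26589 = n24400 := d9_2 (iv F43006) D26589 (iv D24400) (iv D20062) (iv F30146)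
theorem F54991 : act 6 n26589 = n24206 := d10_2 F43817 D26589 (iv D24206) D24208 F48864
def n26590 : Q := act 4 n22104
theorem D26590 : act 4 n22104 = n26590 := rfl
theorem F54992 : act 1 n26590 = n26477 := d8_1 D26590 (iv D26477) (iv F43009)
theorem F54993 : act 2 n26590 = n23191 := d12_1 D26590 F46087 F43011
theorem F54994 : act 6 n26590 = n25892 := d19_2 (iv F43010) D26590 F53164
def n26591 : Q := act 5 n22106
theorem D26591 : act 5 n22106 = n26591 := rfl
theorem F54995 : act 0 n26591 = n22112 := d4_1 D26591 (iv D22112) (iv F43016)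
theorem F54996 : act 1 n26591 = n25922 := d9_1 D26591 (iv D25922) (iv D21553) D21555 (iv F43017)
theorem F54997 : act 4 n26591 = n22107 := d18_1 D26591 (iv D22107) D22106
theorem F54998 : act 6 n26591 = n26570 := d20_2 F54908 D26591 (iv D26570) F42910 D22112 (iv F49903) (iv F54907)
def n26592 : Q := act 0 n22109
theorem D26592 : act 0 n22109 = n26592 := rfl
theorem F54999 : act 1 n26592 = n24344 := d0_2 D22109 D26592 F49216 F40444 F27366 (iv F27328) F39745 (iv F43013) F43012
theorem F55000 : act 3 n26592 = n25241 := d2_2 (iv F49460) D26592 F51743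
theorem F55001 : act 6 n26592 = n24209 := d5_2 (iv F43022) D26592 (iv D24209)
def n26593 : Q := act 4 n22109
theorem D26593 : act 4 n22109 = n26593 := rfl
theorem F55002 : act 1 n26593 = n22111 := d8_1 D26593 (iv D22111) D22109
theorem F55003 : act 6 n26593 = n23989 := d19_2 (iv F43022) D26593 F48311
def n26594 : Q := act 5 n22109
theorem D26594 : act 5 n22109 = n26594 := rfl
theorem F55004 : act 1 n26594 = n25097 := d9_1 D26594 F51243 F44185 F39557 D22109
theorem F55005 : act 2 n26594 = n24400 := d13_1 D26594 (iv F54990) F54988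
theorem F55006 : act 3 n26594 = n24448 := d16_1 D26594 F49542 (iv F49460)
theorem F55007 : act 6 n26594 = n24446 := d22_1 D26594 (iv F49539) (iv F55001) (iv D26592)
def n26595 : Q := act 3 n22111
theorem D26595 : act 3 n22111 = n26595 := rfl
theorem F55008 : act 0 n26595 = n25239 := d2_1 D26595 (iv F53568) (iv F53570)
theorem F55009 : act 4 n26595 = n23643 := d15_2 D22111 D26595 F47191 F43026 (iv D22110)
theorem F55010 : act 5 n26595 = n24254 := d16_2 (iv F49912) D26595 (iv F49910)
theorem F55011 : act 2 n23345 = n26595 := d12_3 F55009 (iv D23643) (iv F46469)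
def n26596 : Q := act 2 n22116
theorem D26596 : act 2 n22116 = n26596 := rfl
theorem F55012 : act 0 n26596 = n22734 := d1_1 D26596 (iv D22734) F43045
theorem F55013 : act 1 n26596 = n25008 := d6_1 D26596 (iv D25008) (iv D20583) (iv F29690) D22116
theorem F55014 : act 4 n26596 = n22117 := d12_2 (iv F43043) D26596 (iv D22117)
theorem F55015 : act 6 n26596 = n26596 := d14_2 F43044 D26596 (iv D26596)
theorem F55016 : act 3 n26292 = n26596 := d15_5 F55014 (iv F43049) (iv F44244) F44243 (iv F54178)
theorem F55017 : act 5 n22699 = n26596 := d18_0 F55014 (iv F43050) (iv F44660)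
def n26597 : Q := act 5 n22116
theorem D26597 : act 5 n22116 = n26597 := rfl
theorem F55018 : act 0 n26597 = n22735 := d4_1 D26597 (iv D22735) F43045
theorem F55019 : act 2 n26597 = n22699 := d13_1 D26597 F55017 (iv D26596)
theorem F55020 : act 4 n26597 = n22118 := d18_1 D26597 (iv D22118) (iv F43043)
theorem F55021 : act 6 n26597 = n22735 := d22_1 D26597 (iv D22735) F31737 F43045
def n26598 : Q := act 5 n22119
theorem D26598 : act 5 n22119 = n26598 := rfl
theorem F55022 : act 2 n26598 = n22120 := d13_1 D26598 (iv D22120) D22119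
theorem F55023 : act 4 n26598 = n22123 := d18_1 D26598 (iv D22123) (iv F43056)
def n26599 : Q := act 2 n22121
theorem D26599 : act 2 n22121 = n26599 := rfl
theorem F55024 : act 1 n26599 = n22128 := d6_1 D26599 (iv D22128) (iv D16847) (iv F29700) D22121
theorem F55025 : act 4 n26599 = n22124 := d12_2 (iv F43060) D26599 (iv D22124)
theorem F55026 : act 6 n26599 = n23853 := d14_2 (iv F43061) D26599 (iv D23853)
def n26600 : Q := act 0 n22125
theorem D26600 : act 0 n22125 = n26600 := rfl
theorem F55027 : act 4 n26600 = n22130 := d3_2 (iv F43072) D26600 (iv D22130)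
theorem F55028 : act 5 n26578 = n26600 := d18_0 F55027 (iv F43080) (iv F54948)
def n26601 : Q := act 2 n22125
theorem D26601 : act 2 n22125 = n26601 := rfl
theorem F55029 : act 4 n26601 = n22131 := d12_2 (iv F43072) D26601 (iv D22131)
def n26602 : Q := act 5 n22125
theorem D26602 : act 5 n22125 = n26602 := rfl
theorem F55030 : act 0 n26602 = n26578 := d4_1 D26602 F55028 (iv D26600)
theorem F55031 : act 1 n26602 = n26598 := d9_1 D26602 (iv D26598) F43055 (iv F29712) D22125
theorem F55032 : act 4 n26602 = n22132 := d18_1 D26602 (iv D22132) (iv F43072)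
def n26603 : Q := act 6 n22125
theorem D26603 : act 6 n22125 = n26603 := rfl
theorem F55033 : act 1 n26603 = n22448 := d10_1 D26603 (iv D22448) (iv D17144) (iv F29709) D22125
theorem F55034 : act 3 n26603 = n22844 := d17_1 D26603 (iv F53169) F53167
theorem F55035 : act 4 n26603 = n22133 := d19_1 D26603 (iv D22133) (iv F43072)
def n26604 : Q := act 0 n22126
theorem D26604 : act 0 n22126 = n26604 := rfl
theorem F55036 : act 4 n26604 = n22134 := d3_2 (iv F43073) D26604 (iv D22134)
theorem F55037 : act 5 n26604 = n22127 := d4_2 (iv F43074) D26604 (iv D22127)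
theorem F55038 : act 6 n26604 = n22339 := d5_2 F54628 D26604 (iv F54629)
theorem F55039 : act 2 n26604 = n22337 := d21_0 (iv F53760) F53759 F46870 (iv F44131) (iv F47074) (iv F53170) F53171 D26604
def n26605 : Q := act 2 n22126
theorem D26605 : act 2 n22126 = n26605 := rfl
theorem F55040 : act 0 n26605 = n22337 := d1_1 D26605 (iv F55039) (iv D26604)
theorem F55041 : act 1 n26605 = n26601 := d6_1 D26605 (iv D26601) (iv D22125) (iv F29729) D22126
theorem F55042 : act 4 n26605 = n22135 := d12_2 (iv F43073) D26605 (iv D22135)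
theorem F55043 : act 5 n26605 = n22128 := d13_2 (iv F43074) D26605 (iv D22128)
theorem F55044 : act 6 n26605 = n22338 := d14_2 F54628 D26605 F54630
def n26606 : Q := act 6 n22127
theorem D26606 : act 6 n22127 = n26606 := rfl
theorem F55045 : act 0 n26606 = n22129 := d5_1 D26606 (iv D22129) D22127
theorem F55046 : act 1 n26606 = n26483 := d10_1 D26606 F54626 (iv F42985) D26583 (iv F54968)
theorem F55047 : act 3 n26606 = n22529 := d17_1 D26606 (iv F53176) F53174
theorem F55048 : act 4 n26606 = n22136 := d19_1 D26606 (iv D22136) (iv F43075)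
theorem F55049 : act 5 n26606 = n26484 := d20_1 D26606 F54628 F43074 D22129 F43634 (iv F55038) F55037
def n26607 : Q := act 3 n22128
theorem D26607 : act 3 n22128 = n26607 := rfl
theorem F55050 : act 4 n26607 = n26142 := d15_2 (iv F43076) D26607 F53802 F42067 F40592
theorem F55051 : act 6 n26607 = n23686 := d17_2 (iv F43638) D26607 F47299
def n26608 : Q := act 6 n22131
theorem D26608 : act 6 n22131 = n26608 := rfl
theorem F55052 : act 0 n26608 = n22343 := d5_1 D26608 (iv F54751) F54748
theorem F55053 : act 1 n26608 = n22302 := d10_1 D26608 (iv F43547) (iv F43548) (iv F43093) F43091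
theorem F55054 : act 2 n26608 = n22133 := d14_1 D26608 (iv D22133) D22131
theorem F55055 : act 3 n26608 = n22304 := d17_1 D26608 (iv F43663) F43662
theorem F55056 : act 5 n26608 = n22341 := d20_1 D26608 (iv F43640) (iv F54750) F54751 (iv D22343) D22344 (iv F43650)
def n26609 : Q := act 3 n22139
theorem D26609 : act 3 n22139 = n26609 := rfl
theorem F55057 : act 0 n26609 = n22140 := d2_1 D26609 (iv D22140) D22139
theorem F55058 : act 1 n26609 = n26560 := d7_1 D26609 F54876 (iv F43107)
theorem F55059 : act 2 n26609 = n22986 := d11_1 D26609 (iv D22986) (iv D18538) F23779 D13559 D18576 F34917 D22140 (iv F50067) F50068 F39781 F33162 D18575 (iv F35235) (iv F43108)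
theorem F55060 : act 6 n26609 = n22422 := d17_2 (iv F43109) D26609 (iv D22422)
def n26610 : Q := act 5 n22139
theorem D26610 : act 5 n22139 = n26610 := rfl
theorem F55061 : act 0 n26610 = n22141 := d4_1 D26610 (iv D22141) D22139
theorem F55062 : act 1 n26610 = n25063 := d9_1 D26610 F51125 (iv D22057) D22059 (iv F43107)
theorem F55063 : act 2 n26610 = n22421 := d13_1 D26610 (iv D22421) (iv F43108)
theorem F55064 : act 6 n26610 = n23014 := d20_2 (iv F43109) D26610 (iv D23014) (iv F34918) D22141 F43112 F39105
def n26611 : Q := act 5 n22140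
theorem D26611 : act 5 n22140 = n26611 := rfl
theorem F55065 : act 3 n26611 = n22141 := d16_1 D26611 (iv D22141) D22140
theorem F55066 : act 6 n26611 = n25018 := d22_1 D26611 F50958 (iv F55060) F55057
def n26612 : Q := act 0 n22143
theorem D26612 : act 0 n22143 = n26612 := rfl
theorem F55067 : act 1 n26612 = n24296 := d0_2 D22143 D26612 F49090 (iv D23666) F35936 D23663 (iv F47252) (iv D22453) F30136
theorem F55068 : act 2 n26612 = n22172 := d1_2 (iv F43115) D26612 (iv D22172)
theorem F55069 : act 3 n26612 = n22145 := d2_2 (iv F43116) D26612 (iv D22145)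
theorem F55070 : act 5 n26612 = n22181 := d4_2 (iv F43117) D26612 (iv D22181)
def n26613 : Q := act 4 n22143
theorem D26613 : act 4 n22143 = n26613 := rfl
theorem F55071 : act 1 n26613 = n22144 := d8_1 D26613 (iv D22144) D22143
theorem F55072 : act 2 n26613 = n22173 := d12_1 D26613 (iv D22173) (iv F43115)
theorem F55073 : act 5 n26613 = n22180 := d18_2 (iv F43117) D26613 F43210
def n26614 : Q := act 3 n22158
theorem D26614 : act 3 n22158 = n26614 := rfl
theorem F55074 : act 0 n26614 = n22159 := d2_1 D26614 (iv D22159) D22158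
theorem F55075 : act 5 n26614 = n22368 := d16_2 (iv F43169) D26614 F43735
theorem F55076 : act 6 n26614 = n24399 := d17_2 F49415 D26614 (iv F49414)
theorem F55077 : act 2 n26614 = n22377 := d25_14 F28767 F21808 F17964 (iv F14271) (iv F20583) D15154 (iv F36831) D23922 (iv F54885) F54884 (iv F43188) (iv D22164) (iv F43168) D26614 (iv F49545) F49544 (iv D23657) F35924 F29205 (iv D14012) F19512 (iv D10824) (iv D7810) (iv D3737) (iv D1803) F1599 (iv F1586) F1585 F1580 F879 D531 (iv F1794) D2090 (iv F32903) (iv D1866) (iv D921) F898 F481 F241 (iv F15664) D126 (iv F511) D496 D978 (iv F1973) F32552 F32518 (iv F32516) (iv D682) (iv D344) (iv D172) (iv F337) (iv F641) (iv F1197) (iv F1201) F1200 D658 F1212 D669 D1343 D2778 D5758 D10350 D12869 D17435 (iv F34202) (iv F42692) F42693 F39542 (iv D15199) (iv D11638) (iv D9561) F7050 (iv F8389) (iv F17995) (iv F21895) (iv F29273)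
def n26615 : Q := act 4 n22159
theorem D26615 : act 4 n22159 = n26615 := rfl
theorem F55078 : act 1 n26615 = n22162 := d8_1 D26615 (iv D22162) (iv F43170)
theorem F55079 : act 2 n26615 = n26073 := d12_1 D26615 F53620 F43431
theorem F55080 : act 5 n26615 = n25873 := d18_2 F43171 D26615 F53111
theorem F55081 : act 6 n26615 = n26157 := d19_2 F43731 D26615 F53855
def n26616 : Q := act 6 n22160
theorem D26616 : act 6 n22160 = n26616 := rfl
theorem F55082 : act 0 n26616 = n22366 := d5_1 D26616 (iv F43727) (iv F43172)
theorem F55083 : act 2 n26616 = n22170 := d14_1 D26616 (iv D22170) (iv F43174)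
theorem F55084 : act 3 n26616 = n22365 := d17_1 D26616 (iv F43724) (iv F43175)
theorem F55085 : act 5 n26616 = n24409 := d20_1 D26616 F49415 F43169 F43727 (iv F43728) (iv D22161) D22160
def n26617 : Q := act 1 n22161
theorem D26617 : act 1 n22161 = n26617 := rfl
theorem F55086 : act 0 n26617 = n26617 := d0_1 D26617 (iv D26617) F49416 (iv D24409) F37914 F25791 (iv F37914) D24409 (iv F49416)
theorem F55087 : act 2 n26617 = n22204 := d6_2 (iv F43176) D26617 (iv D22204) F29802 (iv F29765)
theorem F55088 : act 5 n26617 = n22204 := d9_2 (iv F43728) D26617 (iv D22204) F39623 (iv F43725)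
theorem F55089 : act 6 n26617 = n22163 := d10_2 D22161 D26617 (iv D22163) (iv D16873) D16870
def n26618 : Q := act 2 n22164
theorem D26618 : act 2 n22164 = n26618 := rfl
theorem F55090 : act 0 n26618 = n22166 := d1_1 D26618 (iv D22166) (iv F43187)
theorem F55091 : act 5 n26618 = n26564 := d13_2 (iv F43189) D26618 (iv D26564)
def n26619 : Q := act 4 n22164
theorem D26619 : act 4 n22164 = n26619 := rfl
theorem F55092 : act 0 n26619 = n22167 := d3_1 D26619 (iv D22167) (iv F43187)
theorem F55093 : act 1 n26619 = n26557 := d8_1 D26619 F54868 (iv F43188)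
theorem F55094 : act 5 n26619 = n23453 := d18_2 (iv F43189) D26619 F46695
def n26620 : Q := act 4 n22166
theorem D26620 : act 4 n22166 = n26620 := rfl
theorem F55095 : act 2 n26620 = n22167 := d12_1 D26620 (iv D22167) D22166
def n26621 : Q := act 6 n22166
theorem D26621 : act 6 n22166 = n26621 := rfl
theorem F55096 : act 1 n26621 = n22539 := d10_1 D26621 F44148 (iv F46984) (iv F47230) F47228
theorem F55097 : act 2 n26621 = n22169 := d14_1 D26621 (iv D22169) D22166
def n26622 : Q := act 5 n22167
theorem D26622 : act 5 n22167 = n26622 := rfl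
theorem F55098 : act 0 n26622 = n23453 := d4_1 D26622 (iv F55094) F55092
theorem F55099 : act 4 n26622 = n22168 := d18_1 D26622 (iv D22168) D22167
def n26623 : Q := act 6 n22167
theorem D26623 : act 6 n22167 = n26623 := rfl
theorem F55100 : act 1 n26623 = n22219 := d10_1 D26623 (iv D22219) F29814 (iv F29770) (iv F43191)
theorem F55101 : act 4 n26623 = n22169 := d19_1 D26623 (iv D22169) D22167
theorem F55102 : act 5 n26623 = n25382 := d22_2 (iv D26622) D26623 F52082 (iv F55098)
def n26624 : Q := act 6 n22168
theorem D26624 : act 6 n22168 = n26624 := rfl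
theorem F55103 : act 0 n26624 = n26565 := d5_1 D26624 (iv D26565) (iv F43192)
theorem F55104 : act 1 n26624 = n23709 := d10_1 D26624 F47376 F46890 (iv F46882) F46879
theorem F55105 : act 2 n26624 = n23707 := d14_1 D26624 F47372 (iv F46883)
theorem F55106 : act 3 n26624 = n22170 := d17_1 D26624 (iv D22170) (iv F43193)
theorem F55107 : act 5 n26624 = n23569 := d20_1 D26624 (iv F46994) F43189 D26565 F54897 (iv D22169) D22168
def n26625 : Q := act 3 n22171
theorem D26625 : act 3 n22171 = n26625 := rfl
theorem F55108 : act 0 n26625 = n22177 := d2_1 D26625 (iv D22177) (iv F43198)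
theorem F55109 : act 4 n26625 = n22435 := d15_2 D22171 D26625 F43898 F30091 (iv F29768)
theorem F55110 : act 6 n26625 = n22229 := d17_2 (iv F43200) D26625 (iv D22229)
def n26626 : Q := act 4 n22172
theorem D26626 : act 4 n22172 = n26626 := rfl
theorem F55111 : act 0 n26626 = n22173 := d3_1 D26626 (iv D22173) D22172
def n26627 : Q := act 6 n22172
theorem D26627 : act 6 n22172 = n26627 := rfl
theorem F55112 : act 0 n26627 = n22175 := d5_1 D26627 (iv D22175) D22172
theorem F55113 : act 1 n26627 = n25165 := d10_1 D26627 (iv D25165) (iv F51387) (iv F51389) F47262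
theorem F55114 : act 3 n26627 = n25148 := d17_1 D26627 F51428 (iv F45586)
theorem F55115 : act 5 n26627 = n22637 := d22_2 (iv F47432) D26627 (iv F44477) F47431
def n26628 : Q := act 3 n22173
theorem D26628 : act 3 n22173 = n26628 := rfl
theorem F55116 : act 1 n26628 = n22177 := d7_1 D26628 (iv D22177) (iv F43201)
def n26629 : Q := act 5 n22173
theorem D26629 : act 5 n22173 = n26629 := rfl
theorem F55117 : act 2 n26629 = n22180 := d13_1 D26629 (iv F55073) F55072
theorem F55118 : act 4 n26629 = n22174 := d18_1 D26629 (iv D22174) D22173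
def n26630 : Q := act 6 n22173
theorem D26630 : act 6 n22173 = n26630 := rfl
theorem F55119 : act 1 n26630 = n22245 := d10_1 D26630 (iv D22245) F29835 (iv F29775) (iv F43201)
theorem F55120 : act 4 n26630 = n22175 := d19_1 D26630 (iv D22175) D22173
def n26631 : Q := act 1 n22174
theorem D26631 : act 1 n22174 = n26631 := rfl
theorem F55121 : act 0 n26631 = n26631 := d0_1 D26631 (iv D26631) F47431 (iv D23731) F36091 F24588 (iv F36091) D23731 (iv F47431)
theorem F55122 : act 2 n26631 = n22179 := d6_2 (iv F43202) D26631 (iv D22179) F29776 D16885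
theorem F55123 : act 5 n26631 = n22179 := d9_2 D22174 D26631 (iv D22179) (iv D16883) D16880
def n26632 : Q := act 5 n22175
theorem D26632 : act 5 n22175 = n26632 := rfl
theorem F55124 : act 0 n26632 = n22637 := d4_1 D26632 (iv F55115) F55112
theorem F55125 : act 3 n26632 = n25159 := d16_1 D26632 F51462 F45596
theorem F55126 : act 6 n26632 = n23731 := d20_2 D22175 D26632 (iv F47432) D26627 F55115 (iv F44477) (iv D22174)
theorem F55127 : act 1 n23728 = n26632 := d10_5 F55126 (iv D23731) (iv D19338) D19335 D23728
def n26633 : Q := act 3 n22176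
theorem D26633 : act 3 n22176 = n26633 := rfl
theorem F55128 : act 0 n26633 = n22435 := d2_1 D26633 F43898 (iv F43204)
theorem F55129 : act 4 n26633 = n22177 := d15_2 D22176 D26633 (iv D22177) (iv D16882) D16881
theorem F55130 : act 6 n26633 = n22248 := d17_2 (iv F43206) D26633 (iv D22248)
def n26634 : Q := act 2 n22177
theorem D26634 : act 2 n22177 = n26634 := rfl
theorem F55131 : act 6 n26634 = n22250 := d14_2 (iv F43207) D26634 (iv D22250)
def n26635 : Q := act 5 n22177
theorem D26635 : act 5 n22177 = n26635 := rfl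
theorem F55132 : act 3 n26635 = n22178 := d16_1 D26635 (iv D22178) D22177
def n26636 : Q := act 1 n22178
theorem D26636 : act 1 n22178 = n26636 := rfl
theorem F55133 : act 4 n26636 = n22179 := d8_2 (iv F43209) D26636 (iv D22179)
theorem F55134 : act 0 n26636 = n26636 := d3_3 F55133 F54892 (iv F55133)
def n26637 : Q := act 6 n22179
theorem D26637 : act 6 n22179 = n26637 := rfl
theorem F55135 : act 0 n26637 = n26637 := d5_1 D26637 (iv D26637) F54892
theorem F55136 : act 1 n26637 = n23037 := d10_1 D26637 (iv D23037) F33311 F29827 D22179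
def n26638 : Q := act 0 n22180
theorem D26638 : act 0 n22180 = n26638 := rfl
theorem F55137 : act 4 n26638 = n22181 := d3_2 (iv F43210) D26638 (iv D22181)
def n26639 : Q := act 6 n22180
theorem D26639 : act 6 n22180 = n26639 := rfl
theorem F55138 : act 1 n26639 = n22948 := d10_1 D26639 (iv D22948) (iv F32360) F29830 D22180
theorem F55139 : act 4 n26639 = n22182 := d19_1 D26639 (iv D22182) (iv F43210)
def n26640 : Q := act 6 n22181
theorem D26640 : act 6 n22181 = n26640 := rfl
theorem F55140 : act 0 n26640 = n22182 := d5_1 D26640 (iv D22182) D22181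
theorem F55141 : act 2 n26640 = n26632 := d14_1 D26640 F55126 F47430
theorem F55142 : act 3 n26640 = n22185 := d17_1 D26640 (iv D22185) (iv F43211)
theorem F55143 : act 5 n26640 = n24421 := d22_2 F55070 D26640 F49452 D26612
def n26641 : Q := act 5 n22182
theorem D26641 : act 5 n22182 = n26641 := rfl
theorem F55144 : act 0 n26641 = n24421 := d4_1 D26641 (iv F55143) F55140
theorem F55145 : act 1 n26641 = n22713 := d9_1 D26641 F45652 (iv D23028) (iv F33319) (iv F43212)
theorem F55146 : act 2 n26641 = n26627 := d13_1 D26641 F55115 F44475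
theorem F55147 : act 3 n26641 = n22188 := d16_1 D26641 (iv D22188) (iv F43213)
theorem F55148 : act 6 n26641 = n26612 := d20_2 D22182 D26641 F55070 D26640 F55143 F49452 F43117
def n26642 : Q := act 5 n22187
theorem D26642 : act 5 n22187 = n26642 := rfl
theorem F55149 : act 0 n26642 = n22263 := d4_1 D26642 F43393 (iv F43227)
theorem F55150 : act 2 n26642 = n22188 := d13_1 D26642 (iv D22188) (iv F43228)
theorem F55151 : act 3 n26642 = n25149 := d16_1 D26642 F51431 (iv F43229)
theorem F55152 : act 6 n26642 = n24204 := d20_2 D22187 D26642 F48852 F43225 (iv F43393) F43394 F43124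
def n26643 : Q := act 5 n22192
theorem D26643 : act 5 n22192 = n26643 := rfl
theorem F55153 : act 0 n26643 = n26643 := d4_1 D26643 (iv D26643) F43248
theorem F55154 : act 1 n26643 = n25046 := d9_1 D26643 F51063 (iv D22190) (iv F29787) D22192
theorem F55155 : act 2 n26643 = n24986 := d13_1 D26643 (iv D24986) (iv F43249)
theorem F55156 : act 6 n26643 = n24986 := d22_1 D26643 (iv D24986) (iv F43250) F43248
def n26644 : Q := act 1 n22195
theorem D26644 : act 1 n22195 = n26644 := rfl
theorem F55157 : act 2 n26644 = n24241 := d6_2 (iv F43259) D26644 (iv D24241) F37532 D19887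
theorem F55158 : act 5 n26644 = n22196 := d9_2 D22195 D26644 (iv D22196) (iv D16899) D16898
def n26645 : Q := act 0 n22196
theorem D26645 : act 0 n22196 = n26645 := rfl
def n26646 : Q := act 5 n22199
theorem D26646 : act 5 n22199 = n26646 := rfl
theorem F55159 : act 0 n26646 = n23961 := d4_1 D26646 (iv D23961) F43268
theorem F55160 : act 1 n26646 = n22315 := d9_1 D26646 F43552 F42620 (iv F29798) D22199
theorem F55161 : act 2 n26646 = n23960 := d13_1 D26646 (iv D23960) (iv F43267)
theorem F55162 : act 3 n26646 = n24208 := d16_1 D26646 (iv F48863) F43819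
theorem F55163 : act 6 n26646 = n24207 := d20_2 F48911 D26646 F48860 F48226 D23961 (iv F48234) D24229
def n26647 : Q := act 6 n22205
theorem D26647 : act 6 n22205 = n26647 := rfl
theorem F55164 : act 0 n26647 = n24307 := d5_1 D26647 (iv D24307) F43289
theorem F55165 : act 1 n26647 = n22306 := d10_1 D26647 F43529 (iv D17095) (iv F39608) D22205
theorem F55166 : act 2 n26647 = n24225 := d14_1 D26647 F48901 (iv F43286)
theorem F55167 : act 3 n26647 = n22208 := d17_1 D26647 (iv D22208) (iv F43287)
theorem F55168 : act 5 n26647 = n22274 := d20_1 D26647 F49119 (iv D24306) D24307 (iv F50784) (iv D24967) (iv F43288)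
def n26648 : Q := act 6 n22206
theorem D26648 : act 6 n22206 = n26648 := rfl
theorem F55169 : act 0 n26648 = n22208 := d5_1 D26648 (iv D22208) D22206
theorem F55170 : act 1 n26648 = n24363 := d10_1 D26648 (iv F50779) F50776 F49346 (iv F49333)
theorem F55171 : act 2 n26648 = n22265 := d14_1 D26648 (iv F43428) F43427
theorem F55172 : act 3 n26648 = n24307 := d17_1 D26648 (iv D24307) (iv F43290)
theorem F55173 : act 5 n26648 = n22272 := d20_1 D26648 (iv F43411) F43279 D22208 (iv F43295) D22275 (iv F43425)
def n26649 : Q := act 4 n22209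
theorem D26649 : act 4 n22209 = n26649 := rfl
theorem F55174 : act 5 n26649 = n22233 := d18_2 (iv F43296) D26649 (iv D22233)
theorem F55175 : act 6 n26649 = n23398 := d19_2 (iv F43297) D26649 F46573
def n26650 : Q := act 6 n22210
theorem D26650 : act 6 n22210 = n26650 := rfl
theorem F55176 : act 0 n26650 = n22473 := d5_1 D26650 (iv D22473) (iv F43298)
theorem F55177 : act 1 n26650 = n22968 := d10_1 D26650 F45467 (iv F46810) (iv D22213) (iv F43299)
theorem F55178 : act 2 n26650 = n26607 := d14_1 D26650 F55051 F47298
theorem F55179 : act 3 n26650 = n22211 := d17_1 D26650 (iv D22211) D22210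
def n26651 : Q := act 6 n22212
theorem D26651 : act 6 n22212 = n26651 := rfl
theorem F55180 : act 0 n26651 = n22219 := d5_1 D26651 (iv D22219) (iv F43302)
theorem F55181 : act 2 n26651 = n26649 := d14_1 D26651 F55175 (iv F46576)
theorem F55182 : act 4 n26651 = n22213 := d19_1 D26651 (iv D22213) D22212
theorem F55183 : act 1 n23130 = n26651 := d8_3 F55182 F46810 (iv F45937)
def n26652 : Q := act 0 n22215
theorem D26652 : act 0 n22215 = n26652 := rfl
theorem F55184 : act 2 n26652 = n22225 := d1_2 (iv F43306) D26652 (iv D22225)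
theorem F55185 : act 3 n26652 = n22623 := d2_2 F44189 D26652 F44424
theorem F55186 : act 6 n26652 = n24990 := d5_2 F44173 D26652 F50858
theorem F55187 : act 5 n26652 = n23609 := d22_0 (iv F47161) F47160 F44173 D26652
def n26653 : Q := act 4 n22215
theorem D26653 : act 4 n22215 = n26653 := rfl
theorem F55188 : act 1 n26653 = n22216 := d8_1 D26653 (iv D22216) D22215
theorem F55189 : act 2 n26653 = n22226 := d12_1 D26653 (iv D22226) (iv F43306)
def n26654 : Q := act 5 n22215
theorem D26654 : act 5 n22215 = n26654 := rfl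
theorem F55190 : act 0 n26654 = n23609 := d4_1 D26654 (iv F55187) (iv D26652)
theorem F55191 : act 1 n26654 = n23619 := d9_1 D26654 F47132 (iv F42576) F42577 D22215
theorem F55192 : act 2 n26654 = n22227 := d13_1 D26654 (iv D22227) (iv F43306)
theorem F55193 : act 3 n26654 = n25047 := d16_1 D26654 F51064 F44189
def n26655 : Q := act 3 n22216
theorem D26655 : act 3 n22216 = n26655 := rfl
def n26656 : Q := act 6 n22216
theorem D26656 : act 6 n22216 = n26656 := rfl
theorem F55194 : act 0 n26656 = n26649 := d5_1 D26656 F55175 (iv F46575)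
theorem F55195 : act 2 n26656 = n22219 := d14_1 D26656 (iv D22219) (iv F43307)
theorem F55196 : act 4 n26656 = n22217 := d19_1 D26656 (iv D22217) D22216
theorem F55197 : act 5 n26656 = n26481 := d20_1 D26656 (iv D26481) (iv F46574) (iv F55175) F55174 (iv F54616) F54615
theorem F55198 : act 1 n26656 = n22540 := d24_2 D26481 (iv F55197) (iv F44169) (iv D22550) F35037 F35041 (iv F39336) (iv D20724) D20725 F39338 (iv F46269) (iv D23266) D23265 (iv F46267)
def n26657 : Q := act 6 n22218
theorem D26657 : act 6 n22218 = n26657 := rfl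
theorem F55199 : act 2 n26657 = n22233 := d14_1 D26657 (iv F54616) F54614
theorem F55200 : act 4 n26657 = n22220 := d19_1 D26657 (iv D22220) (iv F43313)
theorem F55201 : act 5 n26657 = n26651 := d22_2 D22218 D26657 (iv D26651) F43302
theorem F55202 : act 1 n24265 = n26657 := d8_3 F55200 (iv F43339) D24265
def n26658 : Q := act 5 n22219
theorem D26658 : act 5 n22219 = n26658 := rfl
theorem F55203 : act 0 n26658 = n26657 := d4_1 D26658 F55201 F55180
theorem F55204 : act 1 n26658 = n25383 := d9_1 D26658 (iv D25383) D25382 (iv F55102) F55100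
theorem F55205 : act 2 n26658 = n26481 := d13_1 D26658 (iv F55197) F55195
theorem F55206 : act 4 n26658 = n22221 := d18_1 D26658 (iv D22221) (iv F43314)
theorem F55207 : act 6 n26658 = n26480 := d20_2 D22219 D26658 F54619 D26651 (iv F55201) (iv D26657) (iv D22218)
def n26659 : Q := act 3 n22222
theorem D26659 : act 3 n22222 = n26659 := rfl
theorem F55208 : act 0 n26659 = n22348 := d2_1 D26659 (iv D22348) (iv F43322)
theorem F55209 : act 2 n26659 = n22990 := d11_1 D26659 (iv D22990) (iv D18552) F23794 D13582 D18617 F33306 D22348 (iv F49931) F49932 (iv F39737) F33190 D18616 (iv F33302) D22222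
theorem F55210 : act 5 n26659 = n22231 := d16_2 (iv F43323) D26659 (iv D22231)
def n26660 : Q := act 6 n22222
theorem D26660 : act 6 n22222 = n26660 := rfl
theorem F55211 : act 0 n26660 = n22349 := d5_1 D26660 (iv D22349) (iv F43322)
theorem F55212 : act 1 n26660 = n25096 := d10_1 D26660 F51241 (iv D22271) D22273 (iv F43415)
theorem F55213 : act 2 n26660 = n22223 := d14_1 D26660 (iv D22223) D22222
theorem F55214 : act 5 n26660 = n23039 := d20_1 D26660 (iv D23039) F33324 D22349 F43668 (iv F39399) (iv F43323)
def n26661 : Q := act 1 n22225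
theorem D26661 : act 1 n22225 = n26661 := rfl
theorem F55215 : act 3 n26661 = n22425 := d7_2 (iv F43326) D26661 (iv D22425)
theorem F55216 : act 0 n26661 = n23727 := d23_3 (iv F55187) F55184 D26661 (iv D23727) (iv F47044) (iv D23587) (iv D19167) F33243 (iv D12741) F18152 F8483 F17111 (iv F14359) D11744 D15360 D20696 (iv F47130) (iv F55191) F55190
theorem F55217 : act 2 n23675 = n26661 := d23_1 D23675 (iv D26661) (iv D22225) D22227 (iv F55192) F55191 (iv D23619) F35809 (iv D15361) (iv D11744) (iv F14475) (iv F17234) F8652 (iv F18152) (iv F22332) D17184 (iv F35714) D23587 F47043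
theorem F55218 : act 5 n26661 = n23633 := d13_2 D23675 F55217 F47163
def n26662 : Q := act 4 n22225
theorem D26662 : act 4 n22225 = n26662 := rfl
theorem F55219 : act 0 n26662 = n22226 := d3_1 D26662 (iv D22226) D22225
def n26663 : Q := act 5 n22225
theorem D26663 : act 5 n22225 = n26663 := rfl
theorem F55220 : act 0 n26663 = n22227 := d4_1 D26663 (iv D22227) D22225
theorem F55221 : act 1 n26663 = n22548 := d9_1 D26663 F44164 D23633 (iv F55218) (iv D26661)
theorem F55222 : act 2 n26663 = n23609 := d13_1 D26663 (iv F55187) F55184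
theorem F55223 : act 3 n26663 = n22427 := d16_1 D26663 (iv D22427) (iv F43326)
def n26664 : Q := act 6 n22225
theorem D26664 : act 6 n22225 = n26664 := rfl
theorem F55224 : act 0 n26664 = n22228 := d5_1 D26664 (iv D22228) D22225
theorem F55225 : act 2 n26664 = n24990 := d14_1 D26664 (iv F55186) F55184
theorem F55226 : act 3 n26664 = n22428 := d17_1 D26664 (iv D22428) (iv F43326)
theorem F55227 : act 1 n22237 = n26664 := d24_14 (iv D26664) D26663 F55221 (iv D22548) (iv D17282) (iv F22532) D17438 F35443 F30435 D22485 (iv F54793) F54791 (iv D22238) D22237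
def n26665 : Q := act 3 n22226
theorem D26665 : act 3 n22226 = n26665 := rfl
theorem F55228 : act 1 n26665 = n22229 := d7_1 D26665 (iv D22229) (iv F43327)
theorem F55229 : act 4 n26665 = n22429 := d15_2 D22226 D26665 (iv D22429) (iv D17129) (iv F29821)
def n26666 : Q := act 5 n22226
theorem D26666 : act 5 n22226 = n26666 := rfl
theorem F55230 : act 4 n26666 = n22227 := d18_1 D26666 (iv D22227) D22226
def n26667 : Q := act 6 n22226
theorem D26667 : act 6 n22226 = n26667 := rfl
theorem F55231 : act 4 n26667 = n22228 := d19_1 D26667 (iv D22228) D22226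
def n26668 : Q := act 6 n22227
theorem D26668 : act 6 n22227 = n26668 := rfl
theorem F55232 : act 3 n26668 = n22432 := d17_1 D26668 (iv D22432) (iv F43328)
theorem F55233 : act 5 n26668 = n26664 := d22_2 D22227 D26668 (iv D26664) (iv D22225)
def n26669 : Q := act 5 n22228
theorem D26669 : act 5 n22228 = n26669 := rfl
theorem F55234 : act 0 n26669 = n26668 := d4_1 D26669 F55233 F55224
theorem F55235 : act 1 n26669 = n23630 := d9_1 D26669 (iv D23630) (iv F46979) (iv F46982) F46977
theorem F55236 : act 2 n26669 = n23632 := d13_1 D26669 F47160 (iv F44174)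
theorem F55237 : act 3 n26669 = n22433 := d16_1 D26669 (iv D22433) (iv F43329)
theorem F55238 : act 6 n26669 = n26663 := d20_2 D22228 D26669 (iv D26663) D26664 (iv F55233) (iv D26668) (iv D22227)
def n26670 : Q := act 2 n22229
theorem D26670 : act 2 n22229 = n26670 := rfl
theorem F55239 : act 0 n26670 = n22250 := d1_1 D26670 (iv D22250) (iv F43330)
theorem F55240 : act 4 n26670 = n22434 := d12_2 (iv F43331) D26670 (iv D22434)
theorem F55241 : act 3 n26670 = n26040 := d21_1 D26670 (iv D26040) (iv D21622) F28292 F21580 (iv F22117) D16941 (iv F43330)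
def n26671 : Q := act 5 n22229
theorem D26671 : act 5 n22229 = n26671 := rfl
theorem F55242 : act 0 n26671 = n22251 := d4_1 D26671 (iv D22251) (iv F43330)
theorem F55243 : act 3 n26671 = n22230 := d16_1 D26671 (iv D22230) D22229
theorem F55244 : act 4 n26671 = n22382 := d18_1 D26671 F43757 (iv F43331)
theorem F55245 : act 6 n26671 = n26635 := d22_1 D26671 (iv D26635) F43207 (iv F43330)
def n26672 : Q := act 0 n22234
theorem D26672 : act 0 n22234 = n26672 := rfl
theorem F55246 : act 1 n26672 = n23727 := d0_2 D22234 D26672 (iv F55216) (iv D26661) (iv D22225) (iv D16927) F22108 D12591 D16934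
theorem F55247 : act 2 n26672 = n26095 := d1_2 F45146 D26672 (iv F53687)
theorem F55248 : act 4 n26100 = n26672 := d12_0 F55247 F53679 (iv F53689)
theorem F55249 : act 6 n23674 = n26672 := d14_0 F55247 (iv D26095) F47280
theorem F55250 : act 3 n26672 = n23676 := d17_1 F55249 (iv D23676) D23674
theorem F55251 : act 5 n26672 = n23730 := d24_1 F55249 (iv D23730) (iv F36101) (iv D19344) F24588 (iv D14082) D14081 (iv F36079) D23722 F47411 (iv F47404) F46857 (iv F45029) (iv F47279)
def n26673 : Q := act 3 n22234
theorem D26673 : act 3 n22234 = n26673 := rfl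
theorem F55252 : act 0 n26673 = n23676 := d2_1 D26673 (iv F55250) (iv D26672)
theorem F55253 : act 1 n26673 = n22235 := d7_1 D26673 (iv D22235) D22234
theorem F55254 : act 6 n23587 = n26673 := d5_0 F55252 (iv D23676) (iv F47043)
theorem F55255 : act 2 n26673 = n23728 := d14_1 F55254 (iv D23728) (iv F47044)
def n26674 : Q := act 4 n22234
theorem D26674 : act 4 n22234 = n26674 := rfl
theorem F55256 : act 0 n26674 = n26100 := d3_1 D26674 F55248 (iv D26672)
theorem F55257 : act 1 n26674 = n22236 := d8_1 D26674 (iv D22236) D22234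
theorem F55258 : act 2 n26674 = n26098 := d12_1 D26674 F53686 F45146
theorem F55259 : act 6 n26097 = n26674 := d14_0 F55258 (iv D26098) D26097
def n26675 : Q := act 5 n22234
theorem D26675 : act 5 n22234 = n26675 := rfl
theorem F55260 : act 0 n26675 = n23730 := d4_1 D26675 (iv F55251) (iv D26672)
theorem F55261 : act 1 n26675 = n26668 := d9_1 D26675 F55233 (iv F55227) (iv D22237) D22234
def n26676 : Q := act 6 n22234
theorem D26676 : act 6 n22234 = n26676 := rfl
theorem F55262 : act 0 n26676 = n23674 := d5_1 D26676 F55249 (iv D26672)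
theorem F55263 : act 1 n26676 = n23588 := d10_1 D26676 (iv F54794) F54791 (iv D22238) D22234
theorem F55264 : act 2 n26676 = n26094 := d14_1 D26676 (iv F53688) F45146
theorem F55265 : act 3 n26676 = n23587 := d17_1 D26676 F55254 (iv D26673)
theorem F55266 : act 4 n26676 = n26097 := d19_1 D26676 F55259 (iv D26674)
def n26677 : Q := act 2 n22235
theorem D26677 : act 2 n22235 = n26677 := rfl
theorem F55267 : act 0 n26677 = n22239 := d1_1 D26677 (iv D22239) (iv F43345)
theorem F55268 : act 1 n26677 = n26640 := d6_1 D26677 F55141 (iv F55127) (iv F55255) F55253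
theorem F55269 : act 3 n26677 = n22577 := d11_2 D22235 D26677 (iv D22577) (iv D17321) F22430 F18215 (iv F22114) D16935 D22239 (iv F44042) F44041 F39698 F30384 F22441 (iv F29833)
theorem F55270 : act 5 n24971 = n26677 := d16_0 F55269 F44261 (iv F50796)
theorem F55271 : act 6 n23549 = n26677 := d17_0 F55269 (iv F51139) F51138
def n26678 : Q := act 4 n22235
theorem D26678 : act 4 n22235 = n26678 := rfl
theorem F55272 : act 0 n26678 = n22240 := d3_1 D26678 (iv D22240) (iv F43345)
def n26679 : Q := act 5 n22235
theorem D26679 : act 5 n22235 = n26679 := rfl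
theorem F55273 : act 0 n26679 = n22241 := d4_1 D26679 (iv D22241) (iv F43345)
theorem F55274 : act 2 n26679 = n24971 := d13_1 D26679 F55270 (iv D26677)
theorem F55275 : act 3 n26679 = n22237 := d16_1 D26679 (iv D22237) D22235
theorem F55276 : act 1 n22428 = n26679 := d7_3 F55275 F55227 F55226
def n26680 : Q := act 6 n22235
theorem D26680 : act 6 n22235 = n26680 := rfl
theorem F55277 : act 0 n26680 = n22242 := d5_1 D26680 (iv D22242) (iv F43345)
theorem F55278 : act 1 n26680 = n22489 := d10_1 D26680 F44025 D23587 F55254 F55253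
theorem F55279 : act 2 n26680 = n23549 := d14_1 D26680 F55271 (iv D26677)
theorem F55280 : act 3 n26680 = n22238 := d17_1 D26680 (iv D22238) D22235
def n26681 : Q := act 3 n22236
theorem D26681 : act 3 n22236 = n26681 := rfl
theorem F55281 : act 0 n26681 = n22243 := d2_1 D26681 (iv D22243) (iv F43346)
def n26682 : Q := act 5 n22236
theorem D26682 : act 5 n22236 = n26682 := rfl
theorem F55282 : act 0 n26682 = n22244 := d4_1 D26682 (iv D22244) (iv F43346)
theorem F55283 : act 2 n26682 = n22500 := d13_1 D26682 (iv D22500) (iv F43347)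
theorem F55284 : act 4 n26682 = n22237 := d18_1 D26682 (iv D22237) D22236
def n26683 : Q := act 6 n22236
theorem D26683 : act 6 n22236 = n26683 := rfl
theorem F55285 : act 0 n26683 = n22245 := d5_1 D26683 (iv D22245) (iv F43346)
theorem F55286 : act 2 n26683 = n22501 := d14_1 D26683 (iv D22501) (iv F43347)
theorem F55287 : act 4 n26683 = n22238 := d19_1 D26683 (iv D22238) D22236
def n26684 : Q := act 4 n22239
theorem D26684 : act 4 n22239 = n26684 := rfl
theorem F55288 : act 1 n26684 = n22415 := d8_1 D26684 (iv D22415) (iv F43352)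
theorem F55289 : act 2 n26684 = n22240 := d12_1 D26684 (iv D22240) D22239
def n26685 : Q := act 6 n22239
theorem D26685 : act 6 n22239 = n26685 := rfl
theorem F55290 : act 0 n26685 = n23549 := d5_1 D26685 F55271 F55267
theorem F55291 : act 1 n26685 = n23560 := d10_1 D26685 F46970 (iv F42560) F42562 (iv F43352)
theorem F55292 : act 2 n26685 = n22242 := d14_1 D26685 (iv D22242) D22239
theorem F55293 : act 3 n26685 = n25026 := d17_1 D26685 F50988 F44042
def n26686 : Q := act 3 n22240
theorem D26686 : act 3 n22240 = n26686 := rfl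
theorem F55294 : act 1 n26686 = n22248 := d7_1 D26686 (iv D22248) (iv F43353)
theorem F55295 : act 4 n26686 = n22243 := d15_2 D22240 D26686 (iv D22243) (iv D16936) D16935
def n26687 : Q := act 5 n22240
theorem D26687 : act 5 n22240 = n26687 := rfl
theorem F55296 : act 4 n26687 = n22241 := d18_1 D26687 (iv D22241) D22240
def n26688 : Q := act 6 n22240
theorem D26688 : act 6 n22240 = n26688 := rfl
theorem F55297 : act 4 n26688 = n22242 := d19_1 D26688 (iv D22242) D22240
def n26689 : Q := act 6 n22241
theorem D26689 : act 6 n22241 = n26689 := rfl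
theorem F55298 : act 1 n26689 = n23578 := d10_1 D26689 (iv D23578) D23575 F47017 (iv F47018)
theorem F55299 : act 2 n26689 = n23586 := d14_1 D26689 F47042 (iv F44033)
theorem F55300 : act 3 n26689 = n22246 := d17_1 D26689 (iv D22246) (iv F43354)
theorem F55301 : act 5 n26689 = n26680 := d22_2 D22241 D26689 (iv D26680) F43345
def n26690 : Q := act 5 n22242
theorem D26690 : act 5 n22242 = n26690 := rfl
theorem F55302 : act 0 n26690 = n26689 := d4_1 D26690 F55301 F55277
theorem F55303 : act 3 n26690 = n22247 := d16_1 D26690 (iv D22247) (iv F43355)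
theorem F55304 : act 6 n26690 = n26679 := d20_2 D22242 D26690 (iv D26679) D26680 (iv F55301) (iv D26689) (iv D22241)
def n26691 : Q := act 2 n22243
theorem D26691 : act 2 n22243 = n26691 := rfl
def n26692 : Q := act 5 n22243
theorem D26692 : act 5 n22243 = n26692 := rfl
theorem F55305 : act 3 n26692 = n22244 := d16_1 D26692 (iv D22244) D22243
def n26693 : Q := act 6 n22243
theorem D26693 : act 6 n22243 = n26693 := rfl
theorem F55306 : act 3 n26693 = n22245 := d17_1 D26693 (iv D22245) D22243
theorem F55307 : act 2 n26346 = n26693 := d21_2 (iv D26348) (iv F54295) F55306 F43359 (iv F44061) (iv F45997) (iv F50287) (iv F54298)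
theorem E10351 : n26691 = n26362 := (c14_4 F54336 F55307 (iv D26693) D26691)
theorem F55308 : act 2 n26362 = n22243 := (sb E10351 (iv D26691))
theorem F55309 : act 1 n22250 = n26035 := d6_3 F55308 F43356 D22250 F53529 D26362
theorem F55310 : act 1 n26026 = n26256 := d9_3 (iv F54102) F55309 F53530 (iv D26256) D26253
theorem F55311 : act 2 n26434 = n26359 := d6_4 (iv F53518) F55310 F54107 D26434 (iv D26359)
theorem F55312 : act 1 n26267 = n22434 := d10_3 D26026 F55310 (iv F54124) F53511 (iv D26022)
theorem F55313 : act 2 n22429 = n26439 := d6_4 (iv F54123) F55312 (iv D22434) (iv F43888) (iv D26439)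
def n26694 : Q := act 6 n22244
theorem D26694 : act 6 n22244 = n26694 := rfl
theorem F55314 : act 2 n26694 = n22505 := d14_1 D26694 (iv D22505) (iv F43357)
theorem F55315 : act 4 n26694 = n22246 := d19_1 D26694 (iv D22246) (iv F43358)
theorem F55316 : act 5 n26694 = n26683 := d22_2 D22244 D26694 (iv D26683) F43346
def n26695 : Q := act 5 n22245
theorem D26695 : act 5 n22245 = n26695 := rfl
theorem F55317 : act 0 n26695 = n26694 := d4_1 D26695 F55316 F55285
theorem F55318 : act 2 n26695 = n22506 := d13_1 D26695 (iv D22506) (iv F43359)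
theorem F55319 : act 4 n26695 = n22247 := d18_1 D26695 (iv D22247) (iv F43360)
theorem F55320 : act 6 n26695 = n26682 := d20_2 D22245 D26695 (iv D26682) D26683 (iv F55316) (iv D26694) (iv D22244)
def n26696 : Q := act 1 n22247
theorem D26696 : act 1 n22247 = n26696 := rfl
theorem F55321 : act 5 n26696 = n23728 := d9_2 D22247 D26696 F55127 (iv D26632) F43203
theorem F55322 : act 6 n26696 = n26661 := d10_2 (iv F43365) D26696 (iv D26661) D26664 (iv F55227)
def n26697 : Q := act 2 n22248
theorem D26697 : act 2 n22248 = n26697 := rfl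
theorem F55323 : act 0 n26697 = n22434 := d1_1 D26697 (iv D22434) (iv F43366)
theorem F55324 : act 4 n26697 = n22250 := d12_2 (iv F43367) D26697 (iv D22250)
theorem F55325 : act 3 n26697 = n26271 := d21_1 D26697 (iv D26271) (iv D21781) F28496 F21670 (iv F22282) D17132 (iv F43366)
def n26698 : Q := act 5 n22248
theorem D26698 : act 5 n22248 = n26698 := rfl
theorem F55326 : act 0 n26698 = n22382 := d4_1 D26698 F43757 (iv F43366)
theorem F55327 : act 3 n26698 = n22249 := d16_1 D26698 (iv D22249) D22248
theorem F55328 : act 4 n26698 = n22251 := d18_1 D26698 (iv D22251) (iv F43367)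
def n26699 : Q := act 3 n22250
theorem D26699 : act 3 n22250 = n26699 := rfl
theorem F55329 : act 0 n26699 = n26040 := d2_1 D26699 (iv F55241) F55239
theorem F55330 : act 2 n26699 = n26013 := d11_1 D26699 (iv D26013) F41839 F28283 (iv F29823) D22229 D26670 F55241 (iv D26040) (iv D21622) F28292 F21580 (iv F22117) D16941 D22250
def n26700 : Q := act 6 n22251
theorem D26700 : act 6 n22251 = n26700 := rfl
theorem F55331 : act 0 n26700 = n26635 := d5_1 D26700 (iv F55245) F55242
theorem F55332 : act 3 n26700 = n22252 := d17_1 D26700 (iv D22252) (iv F43371)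
theorem F55333 : act 5 n26700 = n26625 := d20_1 D26700 F55110 D26671 F55245 (iv D26635) F43207 D22251
def n26701 : Q := act 1 n22252
theorem D26701 : act 1 n22252 = n26701 := rfl
theorem F55334 : act 4 n26701 = n22253 := d8_2 (iv F43374) D26701 (iv D22253)
theorem F55335 : act 2 n26622 = n26701 := d12_3 F55334 (iv F46883) (iv F55099)
theorem F55336 : act 5 n26620 = n26701 := d18_0 F55334 F46884 D26620
def n26702 : Q := act 0 n22254
theorem D26702 : act 0 n22254 = n26702 := rfl
theorem F55337 : act 4 n26702 = n22255 := d3_2 (iv F43376) D26702 (iv D22255)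
theorem F55338 : act 6 n26702 = n23200 := d5_2 F51169 D26702 F51170
theorem F55339 : act 1 n23194 = n26702 := d10_5 F55338 (iv D23200) (iv D18818) D18815 D23194
def n26703 : Q := act 2 n22254
theorem D26703 : act 2 n22254 = n26703 := rfl
theorem F55340 : act 1 n26703 = n26622 := d6_1 D26703 F55335 (iv D26701) F43373 D22254
theorem F55341 : act 4 n26703 = n22256 := d12_2 (iv F43376) D26703 (iv D22256)
theorem F55342 : act 5 n22254 = n26703 := d18_0 F55341 F46881 (iv F43376)
def n26704 : Q := act 2 n22255
theorem D26704 : act 2 n22255 = n26704 := rfl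
theorem F55343 : act 0 n26704 = n22256 := d1_1 D26704 (iv D22256) D22255
theorem F55344 : act 1 n26704 = n23542 := d6_1 D26704 (iv D23542) (iv D19123) (iv F35601) F43379
theorem F55345 : act 6 n26704 = n23533 := d14_2 (iv F43378) D26704 (iv D23533)
theorem F55346 : act 3 n22259 = n26704 := d17_3 F55345 F46874 (iv F43385)
theorem F55347 : act 5 n22255 = n26704 := d20_7 F55345 (iv F46873) F39290 (iv F46881) F46882 (iv D23534) (iv F43378)
def n26705 : Q := act 3 n22258
theorem D26705 : act 3 n22258 = n26705 := rfl
theorem F55348 : act 0 n26705 = n22260 := d2_1 D26705 (iv D22260) (iv F43382)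
theorem F55349 : act 1 n26705 = n23948 := d7_1 D26705 F48178 (iv F43383)
theorem F55350 : act 4 n25226 = n26705 := d8_0 F55349 (iv F48981) F51683
def n26706 : Q := act 5 n22258
theorem D26706 : act 5 n22258 = n26706 := rfl
theorem F55351 : act 0 n26706 = n22261 := d4_1 D26706 (iv D22261) (iv F43382)
theorem F55352 : act 1 n26706 = n26551 := d9_1 D26706 F54841 F50842 (iv D23949) (iv F43383)
theorem F55353 : act 2 n26706 = n22259 := d13_1 D26706 (iv D22259) D22258
theorem F55354 : act 6 n26706 = n25081 := d22_1 D26706 (iv D25081) F39303 (iv F43382)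
def n26707 : Q := act 2 n22260
theorem D26707 : act 2 n22260 = n26707 := rfl
theorem F55355 : act 1 n26707 = n25223 := d6_1 D26707 (iv D25223) (iv D20964) F39759 (iv F43386)
theorem F55356 : act 4 n26707 = n25224 := d12_2 F43387 D26707 F51675
theorem F55357 : act 3 n26707 = n26706 := d21_1 D26707 F55353 F55346 (iv D26704) F43377 D22258 D26705 F55348
theorem F55358 : act 5 n26705 = n26707 := d23_0 (iv D26707) F43386 (iv F39758) F27300 (iv D11962) (iv D9901) (iv F12726) F12728 F7478 F16595 F3724 D2364 (iv F7480) D9901 D11961 (iv F27298) F39759 (iv F43386) (iv F55348)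
def n26708 : Q := act 5 n22260
theorem D26708 : act 5 n22260 = n26708 := rfl
theorem F55359 : act 0 n26708 = n26707 := d4_1 D26708 (iv F55358) F55348
theorem F55360 : act 1 n26708 = n24242 := d9_1 D26708 F48948 F39067 F39761 (iv F43386)
theorem F55361 : act 2 n26708 = n26705 := d13_1 D26708 F55358 (iv D26707)
theorem F55362 : act 3 n26708 = n22261 := d16_1 D26708 (iv D22261) D22260
theorem F55363 : act 4 n26708 = n24252 := d18_1 D26708 F48983 F43387
def n26709 : Q := act 6 n22261
theorem D26709 : act 6 n22261 = n26709 := rfl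
theorem F55364 : act 0 n26709 = n25081 := d5_1 D26709 (iv F55354) F55351
theorem F55365 : act 2 n26709 = n22262 := d14_1 D26709 (iv D22262) (iv F43388)
theorem F55366 : act 5 n26709 = n25079 := d20_1 D26709 F51183 D26706 F55354 (iv D25081) F39303 D22261
def n26710 : Q := act 4 n22264
theorem D26710 : act 4 n22264 = n26710 := rfl
theorem F55367 : act 0 n26710 = n24964 := d3_1 D26710 (iv D24964) (iv F43395)
theorem F55368 : act 1 n26710 = n24991 := d8_1 D26710 (iv D24991) (iv F43396)
theorem F55369 : act 2 n26710 = n23097 := d12_1 D26710 F45861 (iv F43397)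
theorem F55370 : act 5 n26710 = n26590 := d18_2 (iv F43398) D26710 (iv D26590)
theorem F55371 : act 6 n26710 = n23095 := d19_2 (iv F43399) D26710 F45856
def n26711 : Q := act 0 n22266
theorem D26711 : act 0 n22266 = n26711 := rfl
theorem F55372 : act 4 n26711 = n22267 := d3_2 (iv F43402) D26711 (iv D22267)
def n26712 : Q := act 2 n22266
theorem D26712 : act 2 n22266 = n26712 := rfl
theorem F55373 : act 1 n26712 = n26712 := d6_1 D26712 (iv D26712) (iv D22266) F29877 D22266
theorem F55374 : act 4 n26712 = n22268 := d12_2 (iv F43402) D26712 (iv D22268)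
theorem F55375 : act 5 n26712 = n23891 := d13_2 F46592 D26712 (iv F47981)
theorem F55376 : act 3 n23886 = n26712 := d16_3 F55375 (iv D23891) (iv F47968)
def n26713 : Q := act 6 n22266
theorem D26713 : act 6 n22266 = n26713 := rfl
theorem F55377 : act 4 n26713 = n22269 := d19_1 D26713 (iv D22269) (iv F43402)
def n26714 : Q := act 1 n22267
theorem D26714 : act 1 n22267 = n26714 := rfl
theorem F55378 : act 0 n26714 = n25094 := d0_1 D26714 F51231 (iv F47113) F47114 F39124 (iv D20619) F26605 D16965 D22267
theorem F55379 : act 3 n26714 = n22271 := d7_2 (iv F43403) D26714 (iv D22271)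
theorem F55380 : act 5 n26714 = n24373 := d9_2 F47322 D26714 F49314 D24376 (iv F49323)
def n26715 : Q := act 2 n22267
theorem D26715 : act 2 n22267 = n26715 := rfl
theorem F55381 : act 0 n26715 = n22268 := d1_1 D26715 (iv D22268) D22267
theorem F55382 : act 5 n26715 = n22719 := d13_2 F47322 D26715 (iv F47323)
theorem F55383 : act 3 n26715 = n22720 := d21_1 D26715 (iv F48821) F48822 (iv F43450) (iv D22274) (iv D16970) (iv F29881) D22267
def n26716 : Q := act 6 n22267
theorem D26716 : act 6 n22267 = n26716 := rfl
theorem F55384 : act 0 n26716 = n22269 := d5_1 D26716 (iv D22269) D22267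
theorem F55385 : act 3 n26716 = n22273 := d17_1 D26716 (iv D22273) (iv F43403)
theorem F55386 : act 5 n26716 = n23695 := d22_2 F47322 D26716 (iv D23695) D23693
theorem F55387 : act 1 n26659 = n26716 := d24_14 (iv D26716) (iv F47322) F49323 F49322 (iv D23710) (iv D19319) (iv D14068) (iv F24459) D19207 D23620 F47137 D25039 F51035 (iv F55210)
def n26717 : Q := act 3 n22268
theorem D26717 : act 3 n22268 = n26717 := rfl
theorem F55388 : act 0 n26717 = n22720 := d2_1 D26717 (iv F55383) F55381
theorem F55389 : act 1 n26717 = n26717 := d7_1 D26717 (iv D26717) F43404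
theorem F55390 : act 2 n26717 = n23738 := d11_1 D26717 F47447 (iv F50782) F50783 (iv D22272) (iv F43403) D26715 F55383 (iv F48821) F48822 (iv F43450) (iv D22274) (iv D16970) (iv F29881) D22268
theorem F55391 : act 4 n26717 = n23942 := d15_2 F55374 D26717 F48152 (iv F47967) F55376
theorem F55392 : act 5 n26717 = n22718 := d16_2 F47325 D26717 F47326
theorem F55393 : act 6 n23925 = n26717 := d22_1 (iv F48091) F55392 (iv F48982) F48980
def n26718 : Q := act 6 n22268
theorem D26718 : act 6 n22268 = n26718 := rfl
theorem F55394 : act 2 n26718 = n22269 := d14_1 D26718 (iv D22269) D22268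
theorem F55395 : act 3 n26718 = n23925 := d17_1 D26718 F55393 (iv D26717)
def n26719 : Q := act 5 n22269
theorem D26719 : act 5 n22269 = n26719 := rfl
theorem F55396 : act 0 n26719 = n23695 := d4_1 D26719 (iv F55386) F55384
theorem F55397 : act 1 n26719 = n23626 := d9_1 D26719 (iv D23626) D23624 (iv F47143) F43744
theorem F55398 : act 3 n26719 = n22276 := d16_1 D26719 (iv D22276) (iv F43405)
theorem F55399 : act 6 n26719 = n23693 := d20_2 D22269 D26719 F47322 D26716 F55386 (iv D23695) F36022
def n26720 : Q := act 2 n22270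
theorem D26720 : act 2 n22270 = n26720 := rfl
theorem F55400 : act 0 n26720 = n22437 := d1_1 D26720 F46885 F43750
theorem F55401 : act 1 n26720 = n26720 := d6_1 D26720 (iv D26720) (iv D22270) F29882 D22270
theorem F55402 : act 3 n26720 = n26564 := d11_2 (iv F43406) D26720 (iv D26564) F42877 D22063 (iv F43735) F43734 (iv F43751) (iv F46885) F43903 (iv F46883) F43193 (iv F43174) F43175 F43021
def n26721 : Q := act 5 n22270
theorem D26721 : act 5 n22270 = n26721 := rfl
theorem F55403 : act 1 n26721 = n23048 := d9_1 D26721 (iv D23048) (iv D18643) (iv F34770) D22270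
theorem F55404 : act 3 n26721 = n22277 := d16_1 D26721 (iv D22277) (iv F43406)
theorem F55405 : act 4 n26721 = n25394 := d18_1 D26721 F52121 F46744
theorem F55406 : act 6 n26721 = n22375 := d22_1 D26721 (iv D22375) D22376 F43750
def n26722 : Q := act 4 n22274
theorem D26722 : act 4 n22274 = n26722 := rfl
theorem F55407 : act 1 n26722 = n22283 := d8_1 D26722 (iv D22283) (iv F43422)
theorem F55408 : act 2 n26722 = n24007 := d12_1 D26722 F48361 (iv F43450)
def n26723 : Q := act 1 n22275
theorem D26723 : act 1 n22275 = n26723 := rfl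
theorem F55409 : act 0 n26723 = n22314 := d0_1 D26723 (iv D22314) F29947 F22189 (iv F22193) D17019 F29956 D22202 (iv F43423)
theorem F55410 : act 2 n26723 = n24398 := d6_2 (iv F43424) D26723 F49383 F43723 (iv F43416)
theorem F55411 : act 5 n26723 = n24377 := d9_2 F43425 D26723 (iv D24377) D24379 (iv F49333)
theorem F55412 : act 6 n26723 = n22285 := d10_2 D22275 D26723 (iv D22285) (iv D16978) (iv F29890)
def n26724 : Q := act 4 n22281
theorem D26724 : act 4 n22281 = n26724 := rfl
theorem F55413 : act 0 n26724 = n22283 := d3_1 D26724 (iv D22283) (iv F43442)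
theorem F55414 : act 1 n26724 = n25881 := d8_1 D26724 F53126 (iv F43443)
theorem F55415 : act 2 n26724 = n24650 := d12_1 D26724 F50048 (iv F43446)
theorem F55416 : act 5 n26724 = n22319 := d18_2 (iv F43444) D26724 (iv D22319)
theorem F55417 : act 6 n26724 = n24646 := d19_2 (iv F43445) D26724 F50038
def n26725 : Q := act 4 n22282
theorem D26725 : act 4 n22282 = n26725 := rfl
theorem F55418 : act 0 n26725 = n24650 := d3_1 D26725 F50048 (iv F43447)
theorem F55419 : act 1 n26725 = n24008 := d8_1 D26725 F48364 (iv F43449)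
theorem F55420 : act 2 n26725 = n22283 := d12_1 D26725 (iv D22283) D22282
theorem F55421 : act 5 n26725 = n22322 := d18_2 (iv F43448) D26725 (iv D22322)
theorem F55422 : act 6 n26725 = n24648 := d19_2 (iv F43451) D26725 F50042
def n26726 : Q := act 6 n22283
theorem D26726 : act 6 n22283 = n26726 := rfl
theorem F55423 : act 0 n26726 = n24646 := d5_1 D26726 (iv F55417) F55413
theorem F55424 : act 2 n26726 = n24648 := d14_1 D26726 (iv F55422) F55420
theorem F55425 : act 4 n26726 = n22284 := d19_1 D26726 (iv D22284) D22283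
theorem F55426 : act 5 n26726 = n26573 := d20_1 D26726 F54925 (iv F55416) F55417 F50039 (iv D22323) (iv F43452)
def n26727 : Q := act 1 n22284
theorem D26727 : act 1 n22284 = n26727 := rfl
theorem F55427 : act 0 n26727 = n24206 := d0_1 D26727 (iv D24206) (iv F48854) F54919 (iv D26572) (iv D22069) F29620 (iv F39643) (iv F43453)
theorem F55428 : act 3 n26727 = n22285 := d7_2 (iv F43455) D26727 (iv D22285)
theorem F55429 : act 2 n24209 = n26727 := d21_0 F55428 F43457 (iv F54917) F54922 F49528 F49464 (iv D24210) D24209
def n26728 : Q := act 0 n22285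
theorem D26728 : act 0 n22285 = n26728 := rfl
theorem F55430 : act 1 n26728 = n24207 := d0_2 D22285 D26728 F48858 D24228 F54921 (iv D26571) F42911 (iv D20520) (iv F29895)
theorem F55431 : act 2 n26728 = n26572 := d1_2 (iv F43457) D26728 (iv D26572)
theorem F55432 : act 3 n26728 = n24206 := d2_2 F55428 D26728 (iv F55427)
theorem F55433 : act 5 n26728 = n26585 := d4_2 F49411 D26728 F54973
theorem F55434 : act 6 n26728 = n22314 := d5_2 F55412 D26728 (iv F55409)
def n26729 : Q := act 0 n22290
theorem D26729 : act 0 n22290 = n26729 := rfl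
theorem F55435 : act 1 n26729 = n22508 := d0_2 D22290 D26729 F44072 (iv F43644) (iv F55052) F55053 (iv D22302) (iv D16993) (iv F29907)
theorem F55436 : act 2 n26729 = n25283 := d1_2 F48048 D26729 F51873
theorem F55437 : act 3 n26729 = n22291 := d2_2 (iv F43474) D26729 (iv D22291)
theorem F55438 : act 4 n26729 = n26525 := d3_2 F54732 D26729 F54756
theorem F55439 : act 5 n26729 = n26729 := d4_2 F43475 D26729 (iv D26729)
theorem F55440 : act 6 n22310 = n26729 := d24_0 F55439 F55435 F44074 (iv D21948) F29384 (iv F29331) (iv F29402) D21956 (iv F43655) (iv D22345) F43548 F43547 F43515 D22310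
def n26730 : Q := act 6 n22290
theorem D26730 : act 6 n22290 = n26730 := rfl
theorem F55441 : act 0 n26730 = n22310 := d5_1 D26730 F55440 (iv D26729)
theorem F55442 : act 1 n26730 = n22341 := d10_1 D26730 (iv F43640) (iv D22303) F29929 D22290
theorem F55443 : act 2 n26730 = n25266 := d14_1 D26730 F51820 F48048
theorem F55444 : act 3 n26730 = n22293 := d17_1 D26730 (iv D22293) (iv F43474)
theorem F55445 : act 5 n26730 = n22310 := d22_2 F43475 D26730 F55440 (iv D26729)
def n26731 : Q := act 2 n22291
theorem D26731 : act 2 n22291 = n26731 := rfl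
theorem F55446 : act 0 n26731 = n22292 := d1_1 D26731 (iv D22292) D22291
theorem F55447 : act 1 n26731 = n23964 := d6_1 D26731 (iv D23964) (iv D19653) (iv F30225) F43484
theorem F55448 : act 5 n26731 = n26731 := d13_2 F43476 D26731 (iv D26731)
theorem F55449 : act 6 n26731 = n22313 := d14_2 (iv F43483) D26731 (iv D22313)
theorem F55450 : act 3 n26731 = n24393 := d21_7 D24394 (iv F51880) (iv D25284) (iv F51874) (iv F55436) F55437 D26731 (iv D24393)
def n26732 : Q := act 6 n22292
theorem D26732 : act 6 n22292 = n26732 := rfl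
theorem F55451 : act 0 n26732 = n22313 := d5_1 D26732 (iv F55449) F55446
theorem F55452 : act 1 n26732 = n24325 := d10_1 D26732 (iv F49185) F49183 (iv F37881) (iv F43477)
theorem F55453 : act 2 n26732 = n22293 := d14_1 D26732 (iv D22293) D22292
theorem F55454 : act 3 n26732 = n24395 := d17_1 D26732 (iv D24395) F43479
theorem F55455 : act 5 n26732 = n22313 := d22_2 F43478 D26732 (iv F55449) F55446
def n26733 : Q := act 0 n22299
theorem D26733 : act 0 n22299 = n26733 := rfl
theorem F55456 : act 2 n26733 = n26582 := d1_2 F43506 D26733 F54959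
theorem F55457 : act 4 n26733 = n22302 := d3_2 (iv F43504) D26733 (iv D22302)
theorem F55458 : act 5 n26733 = n22308 := d4_2 (iv F43505) D26733 (iv D22308)
def n26734 : Q := act 1 n22301
theorem D26734 : act 1 n22301 = n26734 := rfl
theorem F55459 : act 2 n26734 = n26578 := d6_2 F51859 D26734 (iv D26578) (iv F51815) (iv F51858)
theorem F55460 : act 4 n26734 = n22303 := d8_2 (iv F43511) D26734 (iv D22303)
def n26735 : Q := act 1 n22308
theorem D26735 : act 1 n22308 = n26735 := rfl
theorem F55461 : act 3 n26735 = n26527 := d7_2 F53675 D26735 F54767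
theorem F55462 : act 4 n26735 = n22310 := d8_2 (iv F43534) D26735 (iv D22310)
theorem F55463 : act 6 n26525 = n26735 := d19_0 F55462 F55440 F55438
def n26736 : Q := act 6 n22308
theorem D26736 : act 6 n22308 = n26736 := rfl
theorem F55464 : act 0 n26736 = n22309 := d5_1 D26736 (iv D22309) D22308
theorem F55465 : act 1 n26736 = n22848 := d10_1 D26736 F45145 (iv F54757) F55463 (iv D26735)
theorem F55466 : act 2 n26736 = n26579 := d14_1 D26736 F54950 (iv F43533)
theorem F55467 : act 3 n26736 = n22849 := d17_1 D26736 F53688 F53675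
theorem F55468 : act 4 n26736 = n22311 := d19_1 D26736 (iv D22311) (iv F43534)
theorem F55469 : act 5 n26736 = n26487 := d22_2 F55458 D26736 F54639 D26733
def n26737 : Q := act 5 n22309
theorem D26737 : act 5 n22309 = n26737 := rfl
theorem F55470 : act 0 n26737 = n26487 := d4_1 D26737 (iv F55469) F55464
theorem F55471 : act 2 n26737 = n26482 := d13_1 D26737 F54623 (iv F43536)
theorem F55472 : act 4 n26737 = n22312 := d18_1 D26737 (iv D22312) (iv F43537)
theorem F55473 : act 6 n26737 = n26733 := d20_2 D22309 D26737 F55458 D26736 F55469 F54639 F43505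
theorem F55474 : act 1 n26737 = n22338 := d24_2 D22309 D26737 (iv F55044) F55043 (iv F55024) F55026 F47872 F47870 F47315 (iv D22003) F29517 F21936 D12636 D17008
def n26738 : Q := act 2 n22310
theorem D26738 : act 2 n22310 = n26738 := rfl
theorem F55475 : act 0 n26738 = n25266 := d1_1 D26738 (iv F55443) F55441
theorem F55476 : act 1 n26738 = n26584 := d6_1 D26738 (iv D26584) (iv D22095) F35170 D22310
theorem F55477 : act 5 n26738 = n25266 := d13_2 F55445 D26738 (iv F55443)
theorem F55478 : act 6 n26738 = n25283 := d14_2 (iv F55440) D26738 (iv F55436)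
theorem F55479 : act 3 n25267 = n26738 := d17_3 F55478 F51874 (iv F51821)
def n26739 : Q := act 1 n22313
theorem D26739 : act 1 n22313 = n26739 := rfl
theorem F55480 : act 0 n26739 = n24398 := d0_1 D26739 F49383 (iv D22365) (iv D17068) (iv F30016) (iv F37774) (iv F49169) (iv F55452) F55451
theorem F55481 : act 2 n26739 = n22314 := d6_2 D22313 D26739 (iv D22314) (iv D17013) D17012
theorem F55482 : act 5 n26739 = n24323 := d9_2 F55455 D26739 (iv D24323) D24325 (iv F55452)
theorem F55483 : act 6 n26739 = n26572 := d10_2 F55449 D26739 (iv F54919) F48855 (iv F55447)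
def n26740 : Q := act 3 n22313
theorem D26740 : act 3 n22313 = n26740 := rfl
theorem F55484 : act 0 n26740 = n24395 := d2_1 D26740 (iv F55454) F55451
theorem F55485 : act 5 n26740 = n24395 := d16_2 F55455 D26740 (iv F55454)
theorem F55486 : act 6 n26740 = n24393 := d17_2 F55449 D26740 (iv F55450)
def n26741 : Q := act 4 n22317
theorem D26741 : act 4 n22317 = n26741 := rfl
theorem F55487 : act 1 n26741 = n26480 := d8_1 D26741 (iv D26480) (iv F43555)
theorem F55488 : act 2 n26741 = n23267 := d12_1 D26741 F46272 F43558
theorem F55489 : act 5 n26741 = n26127 := d18_2 (iv F43556) D26741 F53753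
theorem F55490 : act 6 n26741 = n26552 := d19_2 (iv F43557) D26741 (iv D26552)
def n26742 : Q := act 0 n22320
theorem D26742 : act 0 n22320 = n26742 := rfl
theorem F55491 : act 1 n26742 = n24396 := d0_2 D22320 D26742 F49378 F40216 F27211 (iv F27173) F39701 (iv F43560) F43559
theorem F55492 : act 3 n26742 = n25193 := d2_2 (iv F49523) D26742 F51582
theorem F55493 : act 5 n26742 = n24230 := d4_2 (iv F43565) D26742 (iv D24230)
def n26743 : Q := act 4 n22320
theorem D26743 : act 4 n22320 = n26743 := rfl
theorem F55494 : act 1 n26743 = n22322 := d8_1 D26743 (iv D22322) D22320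
theorem F55495 : act 5 n26743 = n24014 := d18_2 (iv F43565) D26743 F48380
def n26744 : Q := act 6 n22320
theorem D26744 : act 6 n22320 = n26744 := rfl
theorem F55496 : act 1 n26744 = n25065 := d10_1 D26744 F51132 F44038 F39805 D22320
theorem F55497 : act 2 n26744 = n24397 := d14_1 D26744 (iv F54981) (iv F54982)
theorem F55498 : act 3 n26744 = n24426 := d17_1 D26744 F49525 (iv F49523)
theorem F55499 : act 5 n26744 = n24425 := d22_2 (iv F43565) D26744 F49529 (iv D24230)
def n26745 : Q := act 3 n22322
theorem D26745 : act 3 n22322 = n26745 := rfl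
theorem F55500 : act 0 n26745 = n25191 := d2_1 D26745 (iv F54159) (iv F54161)
theorem F55501 : act 4 n26745 = n23692 := d15_2 D22322 D26745 F47320 F43569 (iv D22321)
theorem F55502 : act 6 n26745 = n24273 := d17_2 (iv F50046) D26745 (iv F50044)
theorem F55503 : act 2 n23403 = n26745 := d12_3 F55501 (iv D23692) (iv F46590)
def n26746 : Q := act 2 n22327
theorem D26746 : act 2 n22327 = n26746 := rfl
theorem F55504 : act 0 n26746 = n22736 := d1_1 D26746 (iv D22736) (iv F43587)
theorem F55505 : act 1 n26746 = n25029 := d6_1 D26746 (iv D25029) (iv D20621) (iv F29967) D22327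
theorem F55506 : act 4 n26746 = n22328 := d12_2 (iv F43588) D26746 (iv D22328)
theorem F55507 : act 5 n26746 = n26746 := d13_2 F43589 D26746 (iv D26746)
theorem F55508 : act 3 n26368 = n26746 := d15_5 F55506 (iv F43593) (iv F44409) F44408 (iv F54354)
theorem F55509 : act 6 n22733 = n26746 := d19_0 F55506 (iv F43594) (iv F44759)
def n26747 : Q := act 6 n22327
theorem D26747 : act 6 n22327 = n26747 := rfl
theorem F55510 : act 0 n26747 = n22737 := d5_1 D26747 (iv D22737) (iv F43587)
theorem F55511 : act 1 n26747 = n26597 := d10_1 D26747 F55021 F44764 F39001 D22327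
theorem F55512 : act 2 n26747 = n22733 := d14_1 D26747 F55509 (iv D26746)
theorem F55513 : act 4 n26747 = n22329 := d19_1 D26747 (iv D22329) (iv F43588)
theorem F55514 : act 5 n26747 = n22737 := d22_2 F43589 D26747 (iv D22737) (iv F43587)
def n26748 : Q := act 6 n22330
theorem D26748 : act 6 n22330 = n26748 := rfl
theorem F55515 : act 0 n26748 = n26599 := d5_1 D26748 F55026 F47869
theorem F55516 : act 2 n26748 = n22331 := d14_1 D26748 (iv D22331) D22330
theorem F55517 : act 4 n26748 = n22334 := d19_1 D26748 (iv D22334) (iv F43601)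
theorem F55518 : act 5 n26748 = n26599 := d22_2 F43602 D26748 F55026 F47869
def n26749 : Q := act 2 n22332
theorem D26749 : act 2 n22332 = n26749 := rfl
theorem F55519 : act 0 n26749 = n26598 := d1_1 D26749 F55022 (iv F43607)
theorem F55520 : act 1 n26749 = n22339 := d6_1 D26749 (iv D22339) (iv D17039) (iv F29975) D22332
theorem F55521 : act 4 n26749 = n22335 := d12_2 (iv F43609) D26749 (iv D22335)
theorem F55522 : act 5 n26749 = n23852 := d13_2 (iv F43610) D26749 (iv D23852)
theorem F55523 : act 6 n26749 = n26598 := d14_2 (iv F43611) D26749 F55022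
def n26750 : Q := act 0 n22336
theorem D26750 : act 0 n22336 = n26750 := rfl
theorem F55524 : act 4 n26750 = n22341 := d3_2 (iv F43629) D26750 (iv D22341)
theorem F55525 : act 6 n26734 = n26750 := d19_0 F55524 (iv F43640) (iv F55460)
def n26751 : Q := act 2 n22336
theorem D26751 : act 2 n22336 = n26751 := rfl
theorem F55526 : act 1 n26751 = n26604 := d6_1 D26751 F55039 (iv D22337) F34633 D22336
theorem F55527 : act 4 n26751 = n22342 := d12_2 (iv F43629) D26751 (iv D22342)
theorem F55528 : act 6 n26602 = n26751 := d19_0 F55527 (iv F43643) (iv F55032)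
def n26752 : Q := act 5 n22336
theorem D26752 : act 5 n22336 = n26752 := rfl
theorem F55529 : act 1 n26752 = n22507 := d9_1 D26752 (iv D22507) (iv D17207) (iv F29982) D22336
theorem F55530 : act 3 n26752 = n22850 := d16_1 D26752 (iv F53758) F53756
theorem F55531 : act 4 n26752 = n22343 := d18_1 D26752 (iv D22343) (iv F43629)
def n26753 : Q := act 6 n22336
theorem D26753 : act 6 n22336 = n26753 := rfl
theorem F55532 : act 0 n26753 = n26734 := d5_1 D26753 F55525 (iv D26750)
theorem F55533 : act 1 n26753 = n26748 := d10_1 D26753 (iv D26748) F43600 F34627 D22336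
theorem F55534 : act 2 n26753 = n26602 := d14_1 D26753 F55528 (iv D26751)
theorem F55535 : act 4 n26753 = n22344 := d19_1 D26753 (iv D22344) (iv F43629)
theorem F55536 : act 5 n26601 = n26753 := d18_0 F55535 (iv F43650) (iv F55029)
def n26754 : Q := act 5 n22338
theorem D26754 : act 5 n22338 = n26754 := rfl
theorem F55537 : act 0 n26754 = n22340 := d4_1 D26754 (iv D22340) D22338
theorem F55538 : act 1 n26754 = n26488 := d9_1 D26754 F54642 (iv F43535) D26737 F55474
theorem F55539 : act 2 n26754 = n26606 := d13_1 D26754 F55049 (iv F54630)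
theorem F55540 : act 3 n26754 = n22470 := d16_1 D26754 (iv F53765) F53763
theorem F55541 : act 4 n26754 = n22345 := d18_1 D26754 (iv D22345) (iv F43632)
theorem F55542 : act 6 n26754 = n26489 := d20_2 F55044 D26754 F54644 F43631 D22340 (iv F43638) (iv F55043)
def n26755 : Q := act 3 n22339
theorem D26755 : act 3 n22339 = n26755 := rfl
theorem F55543 : act 4 n26755 = n25907 := d15_2 (iv F43633) D26755 F53213 F41723 (iv F40593)
theorem F55544 : act 5 n26755 = n23634 := d16_2 F43634 D26755 F47165
def n26756 : Q := act 6 n22348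
theorem D26756 : act 6 n22348 = n26756 := rfl
theorem F55545 : act 3 n26756 = n22349 := d17_1 D26756 (iv D22349) D22348
theorem F55546 : act 5 n26756 = n25039 := d22_2 (iv F43666) D26756 F51035 F43336
def n26757 : Q := act 0 n22351
theorem D26757 : act 0 n22351 = n26757 := rfl
theorem F55547 : act 1 n26757 = n24353 := d0_2 D22351 D26757 F49250 (iv D23718) F36074 D23715 (iv F47390) (iv D22512) (iv F34610)
theorem F55548 : act 2 n26757 = n22378 := d1_2 (iv F43671) D26757 (iv D22378)
theorem F55549 : act 3 n26757 = n22353 := d2_2 (iv F43672) D26757 (iv D22353)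
theorem F55550 : act 6 n26757 = n22386 := d5_2 (iv F43673) D26757 (iv D22386)
def n26758 : Q := act 4 n22351
theorem D26758 : act 4 n22351 = n26758 := rfl
theorem F55551 : act 1 n26758 = n22352 := d8_1 D26758 (iv D22352) D22351
theorem F55552 : act 2 n26758 = n22379 := d12_1 D26758 (iv D22379) (iv F43671)
theorem F55553 : act 6 n26758 = n22385 := d19_2 (iv F43673) D26758 F43762
def n26759 : Q := act 4 n22366
theorem D26759 : act 4 n22366 = n26759 := rfl
theorem F55554 : act 1 n26759 = n22369 := d8_1 D26759 (iv D22369) (iv F43725)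
theorem F55555 : act 2 n26759 = n25834 := d12_1 D26759 F53025 F43726
theorem F55556 : act 5 n26759 = n25923 := d18_2 F43728 D26759 F53269
theorem F55557 : act 6 n26759 = n25833 := d19_2 F43727 D26759 F53023
def n26760 : Q := act 1 n22367
theorem D26760 : act 1 n22367 = n26760 := rfl
theorem F55558 : act 0 n26760 = n26760 := d0_1 D26760 (iv D26760) (iv F49387) (iv D24399) F37892 F25771 (iv F37892) D24399 F49387
theorem F55559 : act 2 n26760 = n22406 := d6_2 (iv F43729) D26760 (iv D22406) F30059 (iv F30024)
theorem F55560 : act 3 n26760 = n26617 := d7_2 (iv F43730) D26760 (iv D26617)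
theorem F55561 : act 5 n26760 = n22370 := d9_2 D22367 D26760 (iv D22370) (iv D17070) D17068
theorem F55562 : act 6 n26760 = n22406 := d10_2 (iv F43731) D26760 (iv D22406) (iv F39617) (iv F43170)
def n26761 : Q := act 2 n22371
theorem D26761 : act 2 n22371 = n26761 := rfl
theorem F55563 : act 0 n26761 = n22373 := d1_1 D26761 (iv D22373) (iv F43743)
theorem F55564 : act 6 n26761 = n26720 := d14_2 (iv F43745) D26761 (iv D26720)
def n26762 : Q := act 4 n22371
theorem D26762 : act 4 n22371 = n26762 := rfl
theorem F55565 : act 0 n26762 = n22374 := d3_1 D26762 (iv D22374) (iv F43743)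
theorem F55566 : act 1 n26762 = n26713 := d8_1 D26762 F55377 (iv F43744)
theorem F55567 : act 6 n26762 = n23477 := d19_2 (iv F43745) D26762 F46744
def n26763 : Q := act 4 n22373
theorem D26763 : act 4 n22373 = n26763 := rfl
theorem F55568 : act 2 n26763 = n22374 := d12_1 D26763 (iv D22374) D22373
def n26764 : Q := act 5 n22373
theorem D26764 : act 5 n22373 = n26764 := rfl
theorem F55569 : act 1 n26764 = n22480 := d9_1 D26764 F44009 (iv F47020) (iv F47367) F47365
theorem F55570 : act 2 n26764 = n22375 := d13_1 D26764 (iv D22375) D22373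
def n26765 : Q := act 5 n22374
theorem D26765 : act 5 n22374 = n26765 := rfl
theorem F55571 : act 1 n26765 = n22417 := d9_1 D26765 (iv D22417) F30072 (iv F30026) (iv F43747)
theorem F55572 : act 4 n26765 = n22375 := d18_1 D26765 (iv D22375) D22374
theorem F55573 : act 6 n26765 = n25394 := d22_1 D26765 F52121 (iv F55567) F55565
def n26766 : Q := act 6 n22374
theorem D26766 : act 6 n22374 = n26766 := rfl
theorem F55574 : act 0 n26766 = n23477 := d5_1 D26766 (iv F55567) F55565
theorem F55575 : act 4 n26766 = n22376 := d19_1 D26766 (iv D22376) D22374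
def n26767 : Q := act 5 n22376
theorem D26767 : act 5 n22376 = n26767 := rfl
theorem F55576 : act 0 n26767 = n26721 := d4_1 D26767 (iv D26721) (iv F43750)
theorem F55577 : act 1 n26767 = n23657 := d9_1 D26767 F47239 F47067 F47066 F46886
theorem F55578 : act 2 n26767 = n23655 := d13_1 D26767 F47235 F46885
theorem F55579 : act 3 n26767 = n22377 := d16_1 D26767 (iv D22377) (iv F43751)
theorem F55580 : act 6 n26767 = n23624 := d20_2 D22376 D26767 (iv F47143) F43745 D26721 F55406 (iv D22375)
def n26768 : Q := act 4 n22378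
theorem D26768 : act 4 n22378 = n26768 := rfl
theorem F55581 : act 0 n26768 = n22379 := d3_1 D26768 (iv D22379) D22378
def n26769 : Q := act 5 n22378
theorem D26769 : act 5 n22378 = n26769 := rfl
theorem F55582 : act 0 n26769 = n22380 := d4_1 D26769 (iv D22380) D22378
theorem F55583 : act 1 n26769 = n25136 := d9_1 D26769 (iv D25136) D25133 (iv F51370) F47400
theorem F55584 : act 3 n26769 = n25116 := d16_1 D26769 F51316 (iv F45670)
theorem F55585 : act 6 n26769 = n22592 := d22_1 D26769 (iv F44315) (iv D22381) D22378
def n26770 : Q := act 3 n22379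
theorem D26770 : act 3 n22379 = n26770 := rfl
theorem F55586 : act 1 n26770 = n22382 := d7_1 D26770 (iv D22382) (iv F43754)
def n26771 : Q := act 5 n22379
theorem D26771 : act 5 n22379 = n26771 := rfl
theorem F55587 : act 1 n26771 = n22430 := d9_1 D26771 (iv D22430) F30086 (iv F30028) (iv F43754)
theorem F55588 : act 4 n26771 = n22380 := d18_1 D26771 (iv D22380) D22379
def n26772 : Q := act 6 n22379
theorem D26772 : act 6 n22379 = n26772 := rfl
theorem F55589 : act 2 n26772 = n22385 := d14_1 D26772 (iv F55553) F55552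
theorem F55590 : act 4 n26772 = n22381 := d19_1 D26772 (iv D22381) D22379
def n26773 : Q := act 6 n22380
theorem D26773 : act 6 n22380 = n26773 := rfl
theorem F55591 : act 0 n26773 = n22592 := d5_1 D26773 (iv F55585) F55582
theorem F55592 : act 3 n26773 = n25128 := d17_1 D26773 F51353 F45677
theorem F55593 : act 5 n26773 = n23678 := d20_1 D26773 (iv F47287) D26769 F55585 (iv F44315) (iv D22381) D22380
theorem F55594 : act 1 n23675 = n26773 := d9_5 F55593 (iv D23678) (iv D19280) D19278 D23675
def n26774 : Q := act 1 n22381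
theorem D26774 : act 1 n22381 = n26774 := rfl
theorem F55595 : act 0 n26774 = n26774 := d0_1 D26774 (iv D26774) (iv F47285) (iv D23678) F35948 F24532 (iv F35948) D23678 F47285
theorem F55596 : act 2 n26774 = n22384 := d6_2 (iv F43756) D26774 (iv D22384) F30029 D17081
theorem F55597 : act 3 n26774 = n26637 := d7_2 F45679 D26774 F55136
theorem F55598 : act 6 n26774 = n22384 := d10_2 D22381 D26774 (iv D22384) (iv D17079) D17077
def n26775 : Q := act 2 n22382
theorem D26775 : act 2 n22382 = n26775 := rfl
theorem F55599 : act 5 n26775 = n22434 := d13_2 (iv F43757) D26775 (iv D22434)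
def n26776 : Q := act 6 n22382
theorem D26776 : act 6 n22382 = n26776 := rfl
theorem F55600 : act 3 n26776 = n22383 := d17_1 D26776 (iv D22383) D22382
theorem F55601 : act 4 n26776 = n26635 := d19_1 D26776 (iv F55245) F55244
theorem F55602 : act 5 n26776 = n26633 := d22_2 (iv F43757) D26776 F55130 F43366
def n26777 : Q := act 1 n22383
theorem D26777 : act 1 n22383 = n26777 := rfl
theorem F55603 : act 4 n26777 = n22384 := d8_2 (iv F43759) D26777 (iv D22384)
theorem F55604 : act 0 n26777 = n26777 := d3_3 F55603 F54893 (iv F55603)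
def n26778 : Q := act 5 n22384
theorem D26778 : act 5 n22384 = n26778 := rfl
theorem F55605 : act 0 n26778 = n26778 := d4_1 D26778 (iv D26778) F54893
theorem F55606 : act 1 n26778 = n23011 := d9_1 D26778 (iv D23011) F35232 (iv F30031) D22384
theorem F55607 : act 3 n26778 = n26631 := d16_1 D26778 F55123 (iv F43761)
def n26779 : Q := act 0 n22385
theorem D26779 : act 0 n22385 = n26779 := rfl
theorem F55608 : act 4 n26779 = n22386 := d3_2 (iv F43762) D26779 (iv D22386)
def n26780 : Q := act 5 n22385
theorem D26780 : act 5 n22385 = n26780 := rfl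
theorem F55609 : act 1 n26780 = n22919 := d9_1 D26780 (iv D22919) F35233 F30081 D22385
theorem F55610 : act 4 n26780 = n22387 := d18_1 D26780 (iv D22387) (iv F43762)
def n26781 : Q := act 5 n22386
theorem D26781 : act 5 n22386 = n26781 := rfl
theorem F55611 : act 0 n26781 = n22387 := d4_1 D26781 (iv D22387) D22386
theorem F55612 : act 1 n26781 = n26652 := d9_1 D26781 F55187 (iv D23609) (iv F47087) F47085
theorem F55613 : act 2 n26781 = n26773 := d13_1 D26781 F55593 (iv F47286)
theorem F55614 : act 3 n26781 = n22390 := d16_1 D26781 (iv D22390) (iv F43763)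
theorem F55615 : act 6 n26781 = n24442 := d22_1 D26781 F49515 F43673 D22386
def n26782 : Q := act 6 n22387
theorem D26782 : act 6 n22387 = n26782 := rfl
theorem F55616 : act 0 n26782 = n24442 := d5_1 D26782 (iv F55615) F55611
theorem F55617 : act 1 n26782 = n22677 := d10_1 D26782 (iv F45569) (iv D23003) (iv F33239) (iv F43764)
theorem F55618 : act 2 n26782 = n26769 := d14_1 D26782 F55585 F44313
theorem F55619 : act 3 n26782 = n22393 := d17_1 D26782 (iv D22393) (iv F43765)
theorem F55620 : act 5 n26782 = n26757 := d20_1 D26782 F55550 D26781 F55615 F49515 F43673 D22387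
def n26783 : Q := act 6 n22392
theorem D26783 : act 6 n22392 = n26783 := rfl
theorem F55621 : act 0 n26783 = n22447 := d5_1 D26783 F43922 (iv F43777)
theorem F55622 : act 2 n26783 = n22393 := d14_1 D26783 (iv D22393) (iv F43778)
theorem F55623 : act 3 n26783 = n25117 := d17_1 D26783 F51321 (iv F43779)
theorem F55624 : act 5 n26783 = n24227 := d20_1 D26783 F48906 F43770 (iv F43922) F43921 F43679 D22392
def n26784 : Q := act 6 n22397
theorem D26784 : act 6 n22397 = n26784 := rfl
theorem F55625 : act 0 n26784 = n26784 := d5_1 D26784 (iv D26784) F43801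
theorem F55626 : act 1 n26784 = n25025 := d10_1 D26784 F50986 (iv D22395) (iv F30044) D22397
theorem F55627 : act 2 n26784 = n25005 := d14_1 D26784 (iv D25005) (iv F43802)
theorem F55628 : act 5 n26784 = n25005 := d22_2 (iv F43803) D26784 (iv D25005) F39043
def n26785 : Q := act 1 n22400
theorem D26785 : act 1 n22400 = n26785 := rfl
theorem F55629 : act 2 n26785 = n24221 := d6_2 (iv F43812) D26785 (iv D24221) F37498 D19865
theorem F55630 : act 6 n26785 = n22401 := d10_2 D22400 D26785 (iv D22401) (iv D17094) D17093
def n26786 : Q := act 0 n22401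
theorem D26786 : act 0 n22401 = n26786 := rfl
theorem F55631 : act 2 n26786 = n26645 := d1_2 (iv F43813) D26786 (iv D26645)
def n26787 : Q := act 4 n22409
theorem D26787 : act 4 n22409 = n26787 := rfl
theorem F55632 : act 5 n26787 = n23339 := d18_2 (iv F43843) D26787 F46450
theorem F55633 : act 6 n26787 = n22424 := d19_2 (iv F43844) D26787 (iv D22424)
def n26788 : Q := act 5 n22410
theorem D26788 : act 5 n22410 = n26788 := rfl
theorem F55634 : act 0 n26788 = n22531 := d4_1 D26788 (iv D22531) (iv F43845)
theorem F55635 : act 1 n26788 = n22977 := d9_1 D26788 F45492 (iv F43855) (iv D22413) (iv F43846)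
theorem F55636 : act 2 n26788 = n26755 := d13_1 D26788 F55544 F47164
theorem F55637 : act 3 n26788 = n22411 := d16_1 D26788 (iv D22411) D22410
def n26789 : Q := act 5 n22412
theorem D26789 : act 5 n22412 = n26789 := rfl
theorem F55638 : act 0 n26789 = n22417 := d4_1 D26789 (iv D22417) (iv F43849)
theorem F55639 : act 2 n26789 = n26787 := d13_1 D26789 F55632 (iv F46453)
theorem F55640 : act 4 n26789 = n22413 := d18_1 D26789 (iv D22413) D22412
theorem F55641 : act 1 n23145 = n26789 := d8_3 F55640 F43855 (iv F45976)
def n26790 : Q := act 3 n22415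
theorem D26790 : act 3 n22415 = n26790 := rfl
def n26791 : Q := act 5 n22415
theorem D26791 : act 5 n22415 = n26791 := rfl
theorem F55642 : act 0 n26791 = n26787 := d4_1 D26791 F55632 (iv F46452)
theorem F55643 : act 2 n26791 = n22417 := d13_1 D26791 (iv D22417) (iv F43856)
theorem F55644 : act 4 n26791 = n22416 := d18_1 D26791 (iv D22416) D22415
theorem F55645 : act 6 n26791 = n26478 := d20_2 F54606 D26791 (iv D26478) (iv F46451) (iv F55632) F55633 (iv F54605)
theorem F55646 : act 1 n22482 = n26791 := d24_14 F55645 (iv D26478) F46086 (iv D23190) D23189 F46080 (iv F39235) (iv D20672) D20671 F39232 F33739 (iv F33738) D22490 F44027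
def n26792 : Q := act 6 n22417
theorem D26792 : act 6 n22417 = n26792 := rfl
theorem F55647 : act 1 n26792 = n25395 := d10_1 D26792 (iv D25395) D25394 (iv F55573) F55571
theorem F55648 : act 2 n26792 = n26478 := d14_1 D26792 (iv F55645) F55643
theorem F55649 : act 4 n26792 = n22419 := d19_1 D26792 (iv D22419) (iv F43862)
theorem F55650 : act 5 n26792 = n26477 := d22_2 D22417 D26792 F54609 F43849
def n26793 : Q := act 5 n22418
theorem D26793 : act 5 n22418 = n26793 := rfl
theorem F55651 : act 0 n26793 = n26792 := d4_1 D26793 F55650 F54607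
theorem F55652 : act 2 n26793 = n22424 := d13_1 D26793 (iv F54605) F54604
theorem F55653 : act 4 n26793 = n22420 := d18_1 D26793 (iv D22420) (iv F43863)
theorem F55654 : act 6 n26793 = n26789 := d20_2 D22418 D26793 (iv D26789) (iv F54609) (iv F55650) (iv D26792) (iv D22417)
theorem F55655 : act 1 n24284 = n26793 := d8_3 F55653 (iv F43871) D24284
def n26794 : Q := act 0 n22425
theorem D26794 : act 0 n22425 = n26794 := rfl
theorem F55656 : act 1 n26794 = n23676 := d0_2 D22425 D26794 (iv F55252) F55253 F43345 F29834 F22115 D12700 D17128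
theorem F55657 : act 2 n26794 = n25854 := d1_2 F45129 D26794 F53074
theorem F55658 : act 3 n26794 = n23727 := d2_2 F55215 D26794 (iv F55216)
theorem F55659 : act 5 n26794 = n23726 := d23_4 (iv D17292) (iv F30085) D22425 D26794 F47425 (iv D21501) F28159 D16293 (iv F31957) D22816 (iv F45005) (iv D19047) D19046 (iv F37974) F37973 D20096 F37989 F25844 (iv F30327)
theorem F55660 : act 4 n25859 = n26794 := d18_3 F55659 (iv F47426) D25859
theorem F55661 : act 6 n23679 = n26794 := d24_0 F55659 F47424 (iv F45055) (iv F46829) F47248 (iv F47267) (iv D23670) F35939 (iv D14035) D14034 F24532 D19286 F35954 D23679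
def n26795 : Q := act 4 n22425
theorem D26795 : act 4 n22425 = n26795 := rfl
theorem F55662 : act 0 n26795 = n25859 := d3_1 D26795 F55660 (iv D26794)
theorem F55663 : act 1 n26795 = n22426 := d8_1 D26795 (iv D22426) D22425
theorem F55664 : act 2 n26795 = n25857 := d12_1 D26795 F53082 F45129
theorem F55665 : act 5 n25856 = n26795 := d13_0 F55664 (iv D25857) D25856
def n26796 : Q := act 5 n22425
theorem D26796 : act 5 n22425 = n26796 := rfl
theorem F55666 : act 0 n26796 = n23726 := d4_1 D26796 (iv F55659) (iv D26794)
theorem F55667 : act 1 n26796 = n23581 := d9_1 D26796 (iv F54700) F54698 (iv D22427) D22425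
theorem F55668 : act 2 n26796 = n25853 := d13_1 D26796 F53073 F45129
theorem F55669 : act 3 n26796 = n23633 := d16_1 D26796 (iv F55218) F55215
theorem F55670 : act 4 n26796 = n25856 := d18_1 D26796 F55665 (iv D26795)
def n26797 : Q := act 6 n22425
theorem D26797 : act 6 n22425 = n26797 := rfl
theorem F55671 : act 0 n26797 = n23679 := d5_1 D26797 F55661 (iv D26794)
theorem F55672 : act 1 n26797 = n26690 := d10_1 D26797 F55304 (iv F55276) (iv D22428) D22425
theorem F55673 : act 3 n26797 = n26696 := d17_1 D26797 F55322 F55215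
def n26798 : Q := act 3 n22426
theorem D26798 : act 3 n22426 = n26798 := rfl
theorem F55674 : act 0 n26798 = n22429 := d2_1 D26798 (iv D22429) (iv F43882)
def n26799 : Q := act 5 n22426
theorem D26799 : act 5 n22426 = n26799 := rfl
theorem F55675 : act 0 n26799 = n22430 := d4_1 D26799 (iv D22430) (iv F43882)
theorem F55676 : act 2 n26799 = n22559 := d13_1 D26799 (iv D22559) (iv F43883)
theorem F55677 : act 4 n26799 = n22427 := d18_1 D26799 (iv D22427) D22426
def n26800 : Q := act 6 n22426
theorem D26800 : act 6 n22426 = n26800 := rfl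
theorem F55678 : act 0 n26800 = n22431 := d5_1 D26800 (iv D22431) (iv F43882)
theorem F55679 : act 2 n26800 = n22560 := d14_1 D26800 (iv D22560) (iv F43883)
theorem F55680 : act 4 n26800 = n22428 := d19_1 D26800 (iv D22428) D22426
def n26801 : Q := act 5 n22429
theorem D26801 : act 5 n22429 = n26801 := rfl
theorem F55681 : act 2 n26801 = n26423 := d13_1 D26801 (iv F54516) (iv F55313)
theorem F55682 : act 3 n26801 = n22430 := d16_1 D26801 (iv D22430) D22429
def n26802 : Q := act 6 n22429
theorem D26802 : act 6 n22429 = n26802 := rfl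
theorem F55683 : act 3 n26802 = n22431 := d17_1 D26802 (iv D22431) D22429
def n26803 : Q := act 6 n22430
theorem D26803 : act 6 n22430 = n26803 := rfl
theorem F55684 : act 2 n26803 = n22564 := d14_1 D26803 (iv D22564) (iv F43889)
theorem F55685 : act 4 n26803 = n22432 := d19_1 D26803 (iv D22432) (iv F43890)
theorem F55686 : act 5 n26803 = n26800 := d22_2 D22430 D26803 (iv D26800) F43882
def n26804 : Q := act 5 n22431
theorem D26804 : act 5 n22431 = n26804 := rfl
theorem F55687 : act 0 n26804 = n26803 := d4_1 D26804 F55686 F55678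
theorem F55688 : act 2 n26804 = n22565 := d13_1 D26804 (iv D22565) (iv F43891)
theorem F55689 : act 4 n26804 = n22433 := d18_1 D26804 (iv D22433) (iv F43892)
theorem F55690 : act 6 n26804 = n26799 := d20_2 D22431 D26804 (iv D26799) D26800 (iv F55686) (iv D26803) (iv D22430)
def n26805 : Q := act 1 n22432
theorem D26805 : act 1 n22432 = n26805 := rfl
theorem F55691 : act 2 n26805 = n26696 := d6_2 (iv F43893) D26805 (iv D26696) F43364 (iv F34986)
theorem F55692 : act 3 n26805 = n26675 := d7_2 F55232 D26805 F55261
theorem F55693 : act 5 n26805 = n26673 := d9_2 (iv F43894) D26805 F55253 D26679 (iv F55276)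
theorem F55694 : act 6 n26805 = n23675 := d10_2 D22432 D26805 F55594 (iv D26773) F43755
def n26806 : Q := act 3 n22434
theorem D26806 : act 3 n22434 = n26806 := rfl
theorem F55695 : act 0 n26806 = n26271 := d2_1 D26806 (iv F55325) F55323
theorem F55696 : act 2 n26806 = n26244 := d11_1 D26806 (iv D26244) F42188 F28487 (iv F29840) D22248 D26697 F55325 (iv D26271) (iv D21781) F28496 F21670 (iv F22282) D17132 D22434
def n26807 : Q := act 5 n22435
theorem D26807 : act 5 n22435 = n26807 := rfl
theorem F55697 : act 0 n26807 = n26776 := d4_1 D26807 F55602 F55128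
theorem F55698 : act 3 n26807 = n22436 := d16_1 D26807 (iv D22436) (iv F43898)
theorem F55699 : act 4 n26807 = n26700 := d18_1 D26807 F55333 F55109
theorem F55700 : act 6 n26807 = n26698 := d20_2 D22435 D26807 (iv D26698) (iv F55130) (iv F55602) (iv D26776) F43757
def n26808 : Q := act 1 n22436
theorem D26808 : act 1 n22436 = n26808 := rfl
theorem F55701 : act 4 n26808 = n22437 := d8_2 (iv F43901) D26808 (iv D22437)
theorem F55702 : act 2 n26766 = n26808 := d12_3 F55701 F46885 (iv F55575)
theorem F55703 : act 6 n26763 = n26808 := d19_0 F55701 (iv F46889) D26763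
def n26809 : Q := act 0 n22438
theorem D26809 : act 0 n22438 = n26809 := rfl
theorem F55704 : act 4 n26809 = n22439 := d3_2 (iv F43904) D26809 (iv D22439)
theorem F55705 : act 5 n26809 = n23275 := d4_2 F51164 D26809 F51165
theorem F55706 : act 1 n23269 = n26809 := d9_5 F55705 (iv D23275) (iv D18864) D18862 D23269
def n26810 : Q := act 2 n22438
theorem D26810 : act 2 n22438 = n26810 := rfl
theorem F55707 : act 1 n26810 = n26766 := d6_1 D26810 F55702 (iv D26808) F43900 D22438
theorem F55708 : act 4 n26810 = n22440 := d12_2 (iv F43904) D26810 (iv D22440)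
theorem F55709 : act 6 n22438 = n26810 := d19_0 F55708 F46888 (iv F43904)
def n26811 : Q := act 2 n22439
theorem D26811 : act 2 n22439 = n26811 := rfl
theorem F55710 : act 0 n26811 = n22440 := d1_1 D26811 (iv D22440) D22439
theorem F55711 : act 1 n26811 = n23601 := d6_1 D26811 (iv D23601) (iv D19190) (iv F35749) F43907
theorem F55712 : act 5 n26811 = n23593 := d13_2 (iv F43906) D26811 (iv D23593)
theorem F55713 : act 3 n22443 = n26811 := d16_3 F55712 (iv F47061) (iv F43913)
theorem F55714 : act 6 n22439 = n26811 := d20_0 F55712 (iv F47062) F39288 (iv F46888) (iv F47066) (iv D23594) (iv F43906)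
def n26812 : Q := act 3 n22442
theorem D26812 : act 3 n22442 = n26812 := rfl
theorem F55715 : act 0 n26812 = n22444 := d2_1 D26812 (iv D22444) (iv F43910)
theorem F55716 : act 1 n26812 = n23945 := d7_1 D26812 F48166 (iv F43911)
theorem F55717 : act 4 n25179 = n26812 := d8_0 F55716 (iv F49023) F51527
def n26813 : Q := act 6 n22442
theorem D26813 : act 6 n22442 = n26813 := rfl
theorem F55718 : act 0 n26813 = n22445 := d5_1 D26813 (iv D22445) (iv F43910)
theorem F55719 : act 1 n26813 = n26522 := d10_1 D26813 F54746 F50907 (iv D23946) (iv F43911)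
theorem F55720 : act 2 n26813 = n22443 := d14_1 D26813 (iv D22443) D22442
theorem F55721 : act 5 n26813 = n25109 := d22_2 F51278 D26813 (iv D25109) (iv F51276)
def n26814 : Q := act 2 n22444
theorem D26814 : act 2 n22444 = n26814 := rfl
theorem F55722 : act 1 n26814 = n25175 := d6_1 D26814 (iv D25175) (iv D20880) F39715 (iv F43914)
theorem F55723 : act 4 n26814 = n25177 := d12_2 F43915 D26814 F51519
theorem F55724 : act 3 n26814 = n26813 := d21_1 D26814 F55720 F55713 (iv D26811) F43905 D22442 D26812 F55715
theorem F55725 : act 6 n26812 = n26814 := d17_0 F55724 (iv D26813) D26812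
def n26815 : Q := act 6 n22444
theorem D26815 : act 6 n22444 = n26815 := rfl
theorem F55726 : act 0 n26815 = n26814 := d5_1 D26815 (iv F55725) F55715
theorem F55727 : act 1 n26815 = n24246 := d10_1 D26815 F48964 F39145 F39717 (iv F43914)
theorem F55728 : act 2 n26815 = n26812 := d14_1 D26815 F55725 (iv D26814)
theorem F55729 : act 3 n26815 = n22445 := d17_1 D26815 (iv D22445) D22444
theorem F55730 : act 4 n26815 = n24271 := d19_1 D26815 F49025 F43915
def n26816 : Q := act 5 n22445
theorem D26816 : act 5 n22445 = n26816 := rfl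
theorem F55731 : act 0 n26816 = n25109 := d4_1 D26816 (iv F55721) F55718
theorem F55732 : act 2 n26816 = n22446 := d13_1 D26816 (iv D22446) (iv F43916)
theorem F55733 : act 6 n26816 = n25107 := d20_2 D22445 D26816 F51278 D26813 F55721 (iv D25109) F39402
def n26817 : Q := act 2 n22451
theorem D26817 : act 2 n22451 = n26817 := rfl
theorem F55734 : act 0 n26817 = n24918 := d1_1 D26817 F50646 (iv F43935)
theorem F55735 : act 4 n26817 = n24907 := d12_2 (iv F43936) D26817 F50621
theorem F55736 : act 5 n26817 = n24906 := d13_2 (iv F43937) D26817 F50618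
def n26818 : Q := act 5 n22453
theorem D26818 : act 5 n22453 = n26818 := rfl
theorem F55737 : act 1 n26818 = n26611 := d9_1 D26818 (iv D26611) F43110 (iv F30139) D22453
theorem F55738 : act 3 n26818 = n22456 := d16_1 D26818 (iv D22456) (iv F43942)
theorem F55739 : act 6 n26818 = n23664 := d22_1 D26818 (iv D23664) (iv F47251) (iv F47252)
def n26819 : Q := act 4 n22462
theorem D26819 : act 4 n22462 = n26819 := rfl
theorem F55740 : act 0 n26819 = n26530 := d3_1 D26819 (iv D26530) (iv F43959)
def n26820 : Q := act 6 n22462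
theorem D26820 : act 6 n22462 = n26820 := rfl
theorem F55741 : act 0 n26820 = n26531 := d5_1 D26820 (iv D26531) (iv F43959)
theorem F55742 : act 3 n26820 = n22464 := d17_1 D26820 (iv D22464) D22462
theorem F55743 : act 5 n26820 = n26533 := d20_1 D26820 F54787 F47048 D26531 F54784 (iv F54778) F54777
theorem F55744 : act 1 n23570 = n26820 := d7_3 F55742 (iv F49104) F49105
def n26821 : Q := act 3 n22463
theorem D26821 : act 3 n22463 = n26821 := rfl
theorem F55745 : act 0 n26821 = n25555 := d2_1 D26821 (iv D25555) (iv F43960)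
def n26822 : Q := act 6 n22463
theorem D26822 : act 6 n22463 = n26822 := rfl
theorem F55746 : act 0 n26822 = n25557 := d5_1 D26822 (iv D25557) (iv F43960)
theorem F55747 : act 2 n26822 = n22466 := d14_1 D26822 (iv D22466) (iv F43961)
theorem F55748 : act 4 n26822 = n22464 := d19_1 D26822 (iv D22464) D22463
theorem F55749 : act 5 n26822 = n25566 := d20_1 D26822 F52475 (iv D25556) D25557 F52458 (iv F52451) F52450
def n26823 : Q := act 5 n22467
theorem D26823 : act 5 n22467 = n26823 := rfl
theorem F55750 : act 1 n26823 = n26148 := d9_1 D26823 (iv D26148) (iv F42058) F30366 (iv F43983)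
theorem F55751 : act 2 n26823 = n25540 := d13_1 D26823 (iv F52415) F52380
theorem F55752 : act 4 n26823 = n22468 := d18_1 D26823 (iv D22468) D22467
theorem F55753 : act 6 n25542 = n26823 := d19_0 F55752 (iv F43986) (iv F52420)
def n26824 : Q := act 6 n22467
theorem D26824 : act 6 n22467 = n26824 := rfl
theorem F55754 : act 1 n26824 = n24406 := d10_1 D26824 (iv D24406) F37909 (iv F30165) (iv F43983)
theorem F55755 : act 4 n26824 = n22469 := d19_1 D26824 (iv D22469) D22467
def n26825 : Q := act 1 n22470
theorem D26825 : act 1 n22470 = n26825 := rfl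
theorem F55756 : act 0 n26825 = n25547 := d0_1 D26825 (iv F53677) (iv F53687) (iv D22849) F32170 (iv F24539) (iv F35996) D23686 F47302
theorem F55757 : act 2 n26825 = n22477 := d6_2 D22470 D26825 (iv D22477) (iv D17182) (iv F30166)
theorem F55758 : act 3 n26825 = n26488 := d7_2 F55540 D26825 (iv F55538)
theorem F55759 : act 4 n26825 = n25399 := d8_2 F53795 D26825 (iv F53792)
theorem F55760 : act 5 n25547 = n26825 := d23_4 (iv D22472) D22470 D26825 F55756 F55757 (iv D22477) F30167 (iv F33243) F33242 (iv F33244) (iv F34130) (iv F34134) (iv F35699) (iv F44948) F44947 (iv F45041) (iv F45044) (iv F53768) F53767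
theorem F55761 : act 6 n26825 = n25396 := d22_3 F41198 D25547 F55760 (iv F52129)
def n26826 : Q := act 6 n22470
theorem D26826 : act 6 n22470 = n26826 := rfl
theorem F55762 : act 0 n26826 = n26607 := d5_1 D26826 F55051 F47302
theorem F55763 : act 1 n26826 = n25397 := d10_1 D26826 (iv D25397) D25396 (iv F55761) (iv D26825)
theorem F55764 : act 2 n26826 = n22473 := d14_1 D26826 (iv D22473) D22470
theorem F55765 : act 3 n26826 = n26489 := d17_1 D26826 (iv F55542) F55540
theorem F55766 : act 4 n26826 = n25400 := d19_1 D26826 (iv F53796) F53795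
theorem F55767 : act 5 n26826 = n26129 := d22_2 F53765 D26826 F53762 D26130
def n26827 : Q := act 6 n22471
theorem D26827 : act 6 n22471 = n26827 := rfl
theorem F55768 : act 1 n26827 = n26478 := d10_1 D26827 (iv F55645) (iv F55646) (iv D22482) (iv F43988)
theorem F55769 : act 2 n26827 = n25400 := d14_1 D26827 (iv F53796) F53793
theorem F55770 : act 4 n26827 = n22473 := d19_1 D26827 (iv D22473) D22471
theorem F55771 : act 5 n26827 = n26137 := d22_2 (iv F53790) D26827 F53786 (iv F53787)
def n26828 : Q := act 6 n22472
theorem D26828 : act 6 n22472 = n26828 := rfl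
theorem F55772 : act 0 n26828 = n23532 := d5_1 D26828 (iv F53771) F53767
theorem F55773 : act 1 n26828 = n25011 := d10_1 D26828 F50931 (iv D23666) F35937 (iv F43989)
theorem F55774 : act 3 n26828 = n22475 := d17_1 D26828 (iv D22475) (iv F43990)
theorem F55775 : act 5 n26828 = n26650 := d20_1 D26828 (iv D26650) (iv F53770) F53771 F46871 (iv D22473) D22472
def n26829 : Q := act 0 n22477
theorem D26829 : act 0 n22477 = n26829 := rfl
theorem F55776 : act 2 n26829 = n25547 := d1_2 F55757 D26829 (iv F55756)
theorem F55777 : act 5 n26829 = n22477 := d23_4 (iv D17184) D17182 D22477 D26829 (iv F55757) (iv D26825) (iv F47302) F47301 D26131 F53768 (iv F46796) (iv F50767) F50765 F44948 F35698 (iv D13933) D13932 F33244 (iv F30169)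
theorem F55778 : act 6 n25546 = n26829 := d24_0 F55777 (iv D22477) D22480 F44009 (iv F47020) (iv D23580) F35679 F24570 (iv F24582) F24581 (iv F24586) (iv F36132) (iv F45045) (iv F52431)
theorem F55779 : act 4 n26829 = n25549 := d19_1 F55778 (iv D25549) (iv F52432)
def n26830 : Q := act 3 n22477
theorem D26830 : act 3 n22477 = n26830 := rfl
theorem F55780 : act 1 n26830 = n22478 := d7_1 D26830 (iv D22478) D22477
def n26831 : Q := act 4 n22477
theorem D26831 : act 4 n22477 = n26831 := rfl
theorem F55781 : act 0 n26831 = n25549 := d3_1 D26831 (iv F55779) (iv D26829)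
theorem F55782 : act 1 n26831 = n22479 := d8_1 D26831 (iv D22479) D22477
theorem F55783 : act 2 n26831 = n25399 := d12_1 D26831 (iv F55759) F55757
theorem F55784 : act 5 n26831 = n25549 := d18_2 F55777 D26831 (iv F55779)
theorem F55785 : act 6 n25398 = n26831 := d22_1 F52136 F55784 (iv D25549) (iv F52135)
def n26832 : Q := act 6 n22477
theorem D26832 : act 6 n22477 = n26832 := rfl
theorem F55786 : act 0 n26832 = n25546 := d5_1 D26832 F55778 (iv D26829)
theorem F55787 : act 2 n26832 = n25396 := d14_1 D26832 (iv F55761) F55757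
theorem F55788 : act 4 n26832 = n25398 := d19_1 D26832 F55785 (iv D26831)
theorem F55789 : act 5 n26832 = n26832 := d20_1 D26832 (iv D26832) (iv F55777) (iv F55778) F52433 F55778 F55777
def n26833 : Q := act 4 n22478
theorem D26833 : act 4 n22478 = n26833 := rfl
theorem F55790 : act 0 n26833 = n22484 := d3_1 D26833 (iv D22484) (iv F44003)
theorem F55791 : act 2 n26833 = n26819 := d12_1 D26833 (iv D26819) (iv F44004)
def n26834 : Q := act 6 n22478
theorem D26834 : act 6 n22478 = n26834 := rfl
theorem F55792 : act 0 n26834 = n22485 := d5_1 D26834 (iv D22485) (iv F44003)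
theorem F55793 : act 2 n26834 = n26820 := d14_1 D26834 (iv D26820) (iv F44004)
theorem F55794 : act 3 n26834 = n22480 := d17_1 D26834 (iv D22480) D22478
theorem F55795 : act 5 n26834 = n23590 := d20_1 D26834 (iv D23590) F35717 D22485 (iv F54793) F54794 F47046
def n26835 : Q := act 3 n22479
theorem D26835 : act 3 n22479 = n26835 := rfl
theorem F55796 : act 0 n26835 = n22486 := d2_1 D26835 (iv D22486) (iv F44005)
def n26836 : Q := act 6 n22479
theorem D26836 : act 6 n22479 = n26836 := rfl
theorem F55797 : act 0 n26836 = n22487 := d5_1 D26836 (iv D22487) (iv F44005)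
theorem F55798 : act 2 n26836 = n22482 := d14_1 D26836 (iv D22482) (iv F44006)
theorem F55799 : act 4 n26836 = n22480 := d19_1 D26836 (iv D22480) D22479
theorem F55800 : act 5 n26836 = n23259 := d22_2 F46245 D26836 (iv D23259) D23257
def n26837 : Q := act 3 n22484
theorem D26837 : act 3 n22484 = n26837 := rfl
theorem F55801 : act 4 n26837 = n22486 := d15_2 D22484 D26837 (iv D22486) (iv D17189) D17188
def n26838 : Q := act 6 n22484
theorem D26838 : act 6 n22484 = n26838 := rfl
theorem F55802 : act 4 n26838 = n22485 := d19_1 D26838 (iv D22485) D22484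
def n26839 : Q := act 1 n22485
theorem D26839 : act 1 n22485 = n26839 := rfl
theorem F55803 : act 3 n26839 = n22488 := d7_2 (iv F44019) D26839 (iv D22488)
theorem F55804 : act 5 n26839 = n25161 := d9_2 F54793 D26839 F51466 F43362 (iv F54791)
theorem F55805 : act 0 n26839 = n25153 := d23_3 (iv F54784) F54782 D26839 F51444 (iv D20853) F27061 (iv F26935) F26937 F21143 (iv F22748) (iv F30856) (iv F44596) (iv F48892) F48891 F47148 (iv D23623) D23622 F54789 (iv D26533)
theorem F55806 : act 2 n25152 = n26839 := d1_0 F55805 (iv D25153) (iv F51441)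
def n26840 : Q := act 2 n22486
theorem D26840 : act 2 n22486 = n26840 := rfl
def n26841 : Q := act 6 n22486
theorem D26841 : act 6 n22486 = n26841 := rfl
theorem F55807 : act 3 n26841 = n22487 := d17_1 D26841 (iv D22487) D22486
def n26842 : Q := act 1 n22487
theorem D26842 : act 1 n22487 = n26842 := rfl
theorem F55808 : act 2 n26842 = n24299 := d6_2 (iv F44020) D26842 (iv D24299) F37715 (iv F30177)
theorem F55809 : act 4 n26842 = n22488 := d8_2 (iv F44021) D26842 (iv D22488)
def n26843 : Q := act 5 n22487
theorem D26843 : act 5 n22487 = n26843 := rfl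
theorem F55810 : act 0 n26843 = n23259 := d4_1 D26843 (iv F55800) F55797
theorem F55811 : act 2 n26843 = n22491 := d13_1 D26843 (iv D22491) (iv F44020)
theorem F55812 : act 4 n26843 = n22489 := d18_1 D26843 (iv D22489) (iv F44021)
theorem F55813 : act 6 n26843 = n23257 := d20_2 D22487 D26843 F46245 D26836 F55800 (iv D23259) (iv F33745)
def n26844 : Q := act 1 n22490
theorem D26844 : act 1 n22490 = n26844 := rfl
theorem F55814 : act 4 n26844 = n22492 := d8_2 (iv F44026) D26844 (iv D22492)
theorem F55815 : act 5 n26844 = n26684 := d9_2 (iv F44027) D26844 F55288 D26791 (iv F55646)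
theorem F55816 : act 2 n26687 = n26844 := d13_3 F55815 F55289 D26687
def n26845 : Q := act 1 n22491
theorem D26845 : act 1 n22491 = n26845 := rfl
theorem F55817 : act 4 n26845 = n22493 := d8_2 (iv F44029) D26845 (iv D22493)
theorem F55818 : act 5 n26845 = n24300 := d9_2 D22491 D26845 (iv D24300) (iv D19960) (iv F30177)
theorem F55819 : act 0 n23215 = n26845 := d3_3 F55817 F44046 (iv F46141)
theorem F55820 : act 2 n23214 = n26845 := d12_3 F55817 (iv F44047) (iv F46139)
def n26846 : Q := act 2 n22496
theorem D26846 : act 2 n22496 = n26846 := rfl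
theorem F55821 : act 0 n26846 = n22497 := d1_1 D26846 (iv D22497) D22496
theorem F55822 : act 5 n26846 = n24301 := d13_2 (iv F44044) D26846 (iv D24301)
theorem F55823 : act 6 n26846 = n26550 := d14_2 F49114 D26846 (iv F54839)
def n26847 : Q := act 6 n22497
theorem D26847 : act 6 n22497 = n26847 := rfl
theorem F55824 : act 0 n26847 = n26550 := d5_1 D26847 (iv F55823) F55821
theorem F55825 : act 2 n26847 = n22498 := d14_1 D26847 (iv D22498) D22497
def n26848 : Q := act 2 n22499
theorem D26848 : act 2 n22499 = n26848 := rfl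
theorem F55826 : act 0 n26848 = n22502 := d1_1 D26848 (iv D22502) (iv F44052)
theorem F55827 : act 4 n26848 = n22851 := d12_2 (iv F44054) D26848 (iv D22851)
theorem F55828 : act 5 n26848 = n25212 := d13_2 F49021 D26848 F51633
def n26849 : Q := act 3 n22502
theorem D26849 : act 3 n22502 = n26849 := rfl
theorem F55829 : act 1 n26849 = n24748 := d7_1 D26849 F50277 (iv F45212)
theorem F55830 : act 4 n26849 = n25024 := d15_2 F44285 D26849 F50981 F44266 (iv F44287)
theorem F55831 : act 6 n26849 = n24751 := d17_2 F46000 D26849 F50287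
def n26850 : Q := act 5 n22502
theorem D26850 : act 5 n22502 = n26850 := rfl
theorem F55832 : act 0 n26850 = n25212 := d4_1 D26850 (iv F55828) F55826
theorem F55833 : act 2 n26850 = n22503 := d13_1 D26850 (iv D22503) D22502
theorem F55834 : act 4 n26850 = n25213 := d18_1 D26850 F51638 F44285
theorem F55835 : act 6 n26850 = n25210 := d22_3 (iv F45999) F46000 D26850 (iv D25210)
def n26851 : Q := act 6 n22503
theorem D26851 : act 6 n22503 = n26851 := rfl
theorem F55836 : act 0 n26851 = n25211 := d5_1 D26851 (iv F51632) F49018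
theorem F55837 : act 1 n26851 = n22853 := d10_1 D26851 (iv F51271) F51268 (iv F45217) F45214
theorem F55838 : act 2 n26851 = n25210 := d14_1 D26851 (iv F55835) F55833
theorem F55839 : act 3 n26851 = n22505 := d17_1 D26851 (iv D22505) (iv F44059)
theorem F55840 : act 4 n26851 = n23018 := d19_1 D26851 F45620 F44291
theorem F55841 : act 5 n26851 = n22924 := d20_1 D26851 F45359 (iv F49021) F51632 F51630 (iv D22504) D22503
def n26852 : Q := act 2 n22510
theorem D26852 : act 2 n22510 = n26852 := rfl
theorem F55842 : act 0 n26852 = n24948 := d1_1 D26852 F50726 (iv F44081)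
theorem F55843 : act 4 n26852 = n24937 := d12_2 (iv F44082) D26852 F50700
theorem F55844 : act 6 n26852 = n24935 := d14_2 (iv F44083) D26852 F50695
def n26853 : Q := act 6 n22512
theorem D26853 : act 6 n22512 = n26853 := rfl
theorem F55845 : act 1 n26853 = n26756 := d10_1 D26853 (iv D26756) F43665 (iv F30266) D22512
theorem F55846 : act 3 n26853 = n22515 := d17_1 D26853 (iv D22515) (iv F44088)
theorem F55847 : act 5 n26853 = n23716 := d22_2 (iv F44089) D26853 (iv D23716) F44098
def n26854 : Q := act 4 n22521
theorem D26854 : act 4 n22521 = n26854 := rfl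
theorem F55848 : act 0 n26854 = n26500 := d3_1 D26854 (iv D26500) (iv F44109)
def n26855 : Q := act 5 n22521
theorem D26855 : act 5 n22521 = n26855 := rfl
theorem F55849 : act 0 n26855 = n26501 := d4_1 D26855 (iv D26501) (iv F44109)
theorem F55850 : act 3 n26855 = n22523 := d16_1 D26855 (iv D22523) D22521
theorem F55851 : act 6 n26855 = n26503 := d20_2 F54686 D26855 F54694 F47026 D26501 F54691 (iv F54683)
theorem F55852 : act 1 n23625 = n26855 := d7_3 F55850 F49265 F49264
def n26856 : Q := act 3 n22522
theorem D26856 : act 3 n22522 = n26856 := rfl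
theorem F55853 : act 0 n26856 = n25497 := d2_1 D26856 (iv D25497) (iv F44110)
def n26857 : Q := act 5 n22522
theorem D26857 : act 5 n22522 = n26857 := rfl
theorem F55854 : act 0 n26857 = n25498 := d4_1 D26857 (iv D25498) (iv F44110)
theorem F55855 : act 2 n26857 = n22524 := d13_1 D26857 (iv D22524) (iv F44111)
theorem F55856 : act 4 n26857 = n22523 := d18_1 D26857 (iv D22523) D22522
theorem F55857 : act 6 n26857 = n25508 := d20_2 (iv F52321) D26857 F52345 (iv D25499) D25498 F52324 (iv F52320)
def n26858 : Q := act 5 n22526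
theorem D26858 : act 5 n22526 = n26858 := rfl
theorem F55858 : act 1 n26858 = n24414 := d9_1 D26858 (iv D24414) F37921 (iv F30302) (iv F44120)
theorem F55859 : act 4 n26858 = n22527 := d18_1 D26858 (iv D22527) D22526
def n26859 : Q := act 6 n22526
theorem D26859 : act 6 n22526 = n26859 := rfl
theorem F55860 : act 1 n26859 = n25913 := d10_1 D26859 (iv D25913) (iv F41714) F30492 (iv F44120)
theorem F55861 : act 2 n26859 = n25598 := d14_1 D26859 F52553 F52513
theorem F55862 : act 4 n26859 = n22528 := d19_1 D26859 (iv D22528) D22526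
theorem F55863 : act 5 n25600 = n26859 := d18_0 F55862 (iv F44124) (iv F52557)
def n26860 : Q := act 1 n22529
theorem D26860 : act 1 n22529 = n26860 := rfl
theorem F55864 : act 0 n26860 = n25489 := d0_1 D26860 (iv F53075) F53074 (iv D22843) F32154 (iv F24491) (iv F35864) D23634 (iv F47168)
theorem F55865 : act 2 n26860 = n22536 := d6_2 D22529 D26860 (iv D22536) (iv D17274) (iv F30303)
theorem F55866 : act 3 n26860 = n26483 := d7_2 F55047 D26860 (iv F55046)
theorem F55867 : act 4 n26860 = n25387 := d8_2 F53206 D26860 (iv F53203)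
theorem F55868 : act 5 n25384 = n26860 := d18_0 F55867 (iv D25387) (iv F52088)
theorem F55869 : act 6 n25489 = n26860 := d19_0 F55867 F52100 (iv F52310)
def n26861 : Q := act 5 n22529
theorem D26861 : act 5 n22529 = n26861 := rfl
theorem F55870 : act 0 n26861 = n26755 := d4_1 D26861 F55544 (iv F47168)
theorem F55871 : act 1 n26861 = n25385 := d9_1 D26861 (iv D25385) D25384 F55868 (iv D26860)
theorem F55872 : act 2 n26861 = n22531 := d13_1 D26861 (iv D22531) D22529
theorem F55873 : act 3 n26861 = n26484 := d16_1 D26861 (iv F55049) F55047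
theorem F55874 : act 4 n26861 = n25388 := d18_1 D26861 (iv F53207) F53206
theorem F55875 : act 6 n26861 = n25894 := d22_1 D26861 F53173 (iv F47167) (iv F47168)
def n26862 : Q := act 5 n22530
theorem D26862 : act 5 n22530 = n26862 := rfl
theorem F55876 : act 1 n26862 = n26481 := d9_1 D26862 (iv F55197) F55198 (iv D22540) (iv F44125)
theorem F55877 : act 2 n26862 = n25388 := d13_1 D26862 (iv F53207) F53204
theorem F55878 : act 4 n26862 = n22531 := d18_1 D26862 (iv D22531) D22530
theorem F55879 : act 6 n26862 = n25902 := d22_1 D26862 F53197 D25906 F53208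
def n26863 : Q := act 5 n22532
theorem D26863 : act 5 n22532 = n26863 := rfl
theorem F55880 : act 0 n26863 = n23596 := d4_1 D26863 (iv F53181) F53178
theorem F55881 : act 1 n26863 = n25032 := d9_1 D26863 F51008 (iv D23718) F36076 (iv F44128)
theorem F55882 : act 3 n26863 = n22535 := d16_1 D26863 (iv D22535) (iv F44129)
theorem F55883 : act 6 n26863 = n26788 := d20_2 D22532 D26863 (iv D26788) (iv F53182) F53181 F47075 (iv D22531)
def n26864 : Q := act 0 n22536
theorem D26864 : act 0 n22536 = n26864 := rfl
theorem F55884 : act 2 n26864 = n25489 := d1_2 F55865 D26864 (iv F55864)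
theorem F55885 : act 5 n26864 = n25488 := d23_4 (iv D17276) D17274 D22536 D26864 (iv D25488) (iv D21258) (iv F28205) (iv D16293) (iv F28196) (iv F35542) F35541 (iv D13880) D13879 F34563 F25725 D14791 F25736 (iv F22385) (iv F30306)
theorem F55886 : act 4 n25491 = n26864 := d18_3 F55885 F52306 D25491
theorem F55887 : act 6 n26864 = n22536 := d22_3 F55885 F52307 (iv F55885) D26864
def n26865 : Q := act 3 n22536
theorem D26865 : act 3 n22536 = n26865 := rfl
theorem F55888 : act 1 n26865 = n22537 := d7_1 D26865 (iv D22537) D22536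
def n26866 : Q := act 4 n22536
theorem D26866 : act 4 n22536 = n26866 := rfl
theorem F55889 : act 0 n26866 = n25491 := d3_1 D26866 F55886 (iv D26864)
theorem F55890 : act 1 n26866 = n22538 := d8_1 D26866 (iv D22538) D22536
theorem F55891 : act 2 n26866 = n25387 := d12_1 D26866 (iv F55867) F55865
theorem F55892 : act 6 n26866 = n25491 := d19_2 F55887 D26866 F55886
theorem F55893 : act 5 n25386 = n26866 := d22_0 F55892 (iv D25491) F41115 (iv F52096)
def n26867 : Q := act 5 n22536
theorem D26867 : act 5 n22536 = n26867 := rfl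
theorem F55894 : act 0 n26867 = n25488 := d4_1 D26867 (iv F55885) (iv D26864)
theorem F55895 : act 2 n26867 = n25384 := d13_1 D26867 F55868 F55865
theorem F55896 : act 4 n26867 = n25386 := d18_1 D26867 F55893 (iv D26866)
theorem F55897 : act 6 n26867 = n26867 := d20_2 F55887 D26867 (iv D26867) (iv F55887) F55885 F52307 (iv F55885)
def n26868 : Q := act 4 n22537
theorem D26868 : act 4 n22537 = n26868 := rfl
theorem F55898 : act 0 n26868 = n22543 := d3_1 D26868 (iv D22543) (iv F44142)
theorem F55899 : act 2 n26868 = n26854 := d12_1 D26868 (iv D26854) (iv F44143)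
def n26869 : Q := act 5 n22537
theorem D26869 : act 5 n22537 = n26869 := rfl
theorem F55900 : act 0 n26869 = n22544 := d4_1 D26869 (iv D22544) (iv F44142)
theorem F55901 : act 2 n26869 = n26855 := d13_1 D26869 (iv D26855) (iv F44143)
theorem F55902 : act 3 n26869 = n22539 := d16_1 D26869 (iv D22539) D22537
theorem F55903 : act 6 n26869 = n23565 := d20_2 F47024 D26869 F46988 F35681 D22544 (iv F54701) F54700
def n26870 : Q := act 3 n22538
theorem D26870 : act 3 n22538 = n26870 := rfl
theorem F55904 : act 0 n26870 = n22545 := d2_1 D26870 (iv D22545) (iv F44144)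
def n26871 : Q := act 5 n22538
theorem D26871 : act 5 n22538 = n26871 := rfl
theorem F55905 : act 0 n26871 = n22546 := d4_1 D26871 (iv D22546) (iv F44144)
theorem F55906 : act 2 n26871 = n22540 := d13_1 D26871 (iv D22540) (iv F44145)
theorem F55907 : act 4 n26871 = n22539 := d18_1 D26871 (iv D22539) D22538
theorem F55908 : act 6 n26871 = n23330 := d22_1 D26871 (iv D23330) (iv F35035) (iv F44144)
def n26872 : Q := act 3 n22543
theorem D26872 : act 3 n22543 = n26872 := rfl
theorem F55909 : act 4 n26872 = n22545 := d15_2 D22543 D26872 (iv D22545) (iv D17281) D17280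
def n26873 : Q := act 5 n22543
theorem D26873 : act 5 n22543 = n26873 := rfl
theorem F55910 : act 4 n26873 = n22544 := d18_1 D26873 (iv D22544) D22543
def n26874 : Q := act 1 n22544
theorem D26874 : act 1 n22544 = n26874 := rfl
theorem F55911 : act 3 n26874 = n22547 := d7_2 (iv F44158) D26874 (iv D22547)
theorem F55912 : act 6 n26874 = n25130 := d10_2 F54701 D26874 F51357 F43897 (iv F54698)
theorem F55913 : act 0 n25121 = n26874 := d5_3 F55912 F51356 (iv F51333)
theorem F55914 : act 2 n25120 = n26874 := d14_3 F55912 (iv D25130) (iv F51331)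
def n26875 : Q := act 2 n22545
theorem D26875 : act 2 n22545 = n26875 := rfl
def n26876 : Q := act 5 n22545
theorem D26876 : act 5 n22545 = n26876 := rfl
theorem F55915 : act 3 n26876 = n22546 := d16_1 D26876 (iv D22546) D22545
def n26877 : Q := act 1 n22546
theorem D26877 : act 1 n22546 = n26877 := rfl
theorem F55916 : act 2 n26877 = n24356 := d6_2 (iv F44159) D26877 (iv D24356) F37811 (iv F30317)
theorem F55917 : act 4 n26877 = n22547 := d8_2 (iv F44160) D26877 (iv D22547)
def n26878 : Q := act 6 n22546
theorem D26878 : act 6 n22546 = n26878 := rfl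
theorem F55918 : act 0 n26878 = n23330 := d5_1 D26878 (iv F55908) F55905
theorem F55919 : act 2 n26878 = n22549 := d14_1 D26878 (iv D22549) (iv F44159)
theorem F55920 : act 4 n26878 = n22548 := d19_1 D26878 (iv D22548) (iv F44160)
theorem F55921 : act 5 n26878 = n23328 := d20_1 D26878 F46415 D26871 F55908 (iv D23330) (iv F35035) D22546
def n26879 : Q := act 1 n22549
theorem D26879 : act 1 n22549 = n26879 := rfl
theorem F55922 : act 4 n26879 = n22551 := d8_2 (iv F44165) D26879 (iv D22551)
theorem F55923 : act 6 n26879 = n24357 := d10_2 D22549 D26879 (iv D24357) (iv D20014) (iv F30317)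
theorem F55924 : act 0 n23290 = n26879 := d3_3 F55922 F44179 (iv F46325)
theorem F55925 : act 2 n23289 = n26879 := d12_3 F55922 (iv F44180) (iv F46323)
def n26880 : Q := act 1 n22550
theorem D26880 : act 1 n22550 = n26880 := rfl
theorem F55926 : act 4 n26880 = n22552 := d8_2 (iv F44168) D26880 (iv D22552)
theorem F55927 : act 6 n26880 = n26653 := d10_2 (iv F44169) D26880 F55188 D26656 F55198
theorem F55928 : act 2 n26667 = n26880 := d14_3 F55927 F55189 D26667
def n26881 : Q := act 2 n22553
theorem D26881 : act 2 n22553 = n26881 := rfl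
theorem F55929 : act 0 n26881 = n22554 := d1_1 D26881 (iv D22554) D22553
theorem F55930 : act 1 n26881 = n26847 := d6_1 D26881 F55825 F44051 F42880 (iv F44176)
theorem F55931 : act 5 n26881 = n26521 := d13_2 F49272 D26881 (iv F54743)
theorem F55932 : act 6 n26881 = n24359 := d14_2 (iv F44177) D26881 (iv D24359)
def n26882 : Q := act 5 n22554
theorem D26882 : act 5 n22554 = n26882 := rfl
theorem F55933 : act 0 n26882 = n26521 := d4_1 D26882 (iv F55931) F55929
theorem F55934 : act 1 n26882 = n26846 := d9_1 D26882 F55822 F49104 F43964 (iv F44181)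
theorem F55935 : act 2 n26882 = n22555 := d13_1 D26882 (iv D22555) D22554
def n26883 : Q := act 2 n22558
theorem D26883 : act 2 n22558 = n26883 := rfl
theorem F55936 : act 0 n26883 = n22561 := d1_1 D26883 (iv D22561) (iv F44190)
theorem F55937 : act 4 n26883 = n22845 := d12_2 (iv F44192) D26883 (iv D22845)
theorem F55938 : act 6 n26883 = n25260 := d14_2 F48979 D26883 F51800
def n26884 : Q := act 3 n22561
theorem D26884 : act 3 n22561 = n26884 := rfl
theorem F55939 : act 1 n26884 = n24797 := d7_1 D26884 F50389 (iv F45184)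
theorem F55940 : act 4 n26884 = n25045 := d15_2 F44451 D26884 F51058 F44435 (iv F44453)
theorem F55941 : act 5 n26884 = n24800 := d16_2 F45959 D26884 F50399
def n26885 : Q := act 6 n22561
theorem D26885 : act 6 n22561 = n26885 := rfl
theorem F55942 : act 0 n26885 = n25260 := d5_1 D26885 (iv F55938) F55936
theorem F55943 : act 2 n26885 = n22563 := d14_1 D26885 (iv D22563) D22561
theorem F55944 : act 4 n26885 = n25261 := d19_1 D26885 F51805 F44451
theorem F55945 : act 5 n25258 = n26885 := d22_0 (iv D26885) (iv F45959) F45960 D25258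
def n26886 : Q := act 5 n22563
theorem D26886 : act 5 n22563 = n26886 := rfl
theorem F55946 : act 0 n26886 = n25259 := d4_1 D26886 (iv F51798) F48976
theorem F55947 : act 1 n26886 = n22855 := d9_1 D26886 (iv F51160) F51157 (iv F45189) F45186
theorem F55948 : act 2 n26886 = n25258 := d13_1 D26886 F55945 F55943
theorem F55949 : act 3 n26886 = n22565 := d16_1 D26886 (iv D22565) (iv F44200)
theorem F55950 : act 4 n26886 = n23043 := d18_1 D26886 F45704 F44457
theorem F55951 : act 6 n26886 = n22953 := d20_2 D22563 D26886 F45429 (iv F48979) F51798 F51796 (iv D22562)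
def n26887 : Q := act 5 n22566
theorem D26887 : act 5 n22566 = n26887 := rfl
theorem F55952 : act 0 n26887 = n22567 := d4_1 D26887 (iv D22567) D22566
theorem F55953 : act 1 n26887 = n23930 := d9_1 D26887 F50891 (iv D24999) (iv F39035) (iv F44208)
theorem F55954 : act 2 n26887 = n23834 := d13_1 D26887 (iv D23834) (iv F44209)
theorem F55955 : act 3 n26887 = n25003 := d16_1 D26887 (iv D25003) (iv F44210)
theorem F55956 : act 4 n26887 = n23751 := d18_1 D26887 (iv D23751) (iv F44211)
theorem F55957 : act 6 n26887 = n25175 := d20_2 F48975 D26887 F51513 (iv D22568) D22567 (iv F51561) F51560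
def n26888 : Q := act 4 n22572
theorem D26888 : act 4 n22572 = n26888 := rfl
theorem F55958 : act 0 n26888 = n26293 := d3_1 D26888 F54181 (iv F44235)
theorem F55959 : act 1 n26888 = n22574 := d8_1 D26888 (iv D22574) (iv F44236)
theorem F55960 : act 2 n26888 = n25918 := d12_1 D26888 F53256 (iv F44238)
theorem F55961 : act 3 n26888 = n22699 := d15_1 D26888 F44660 F30884 (iv F32693) D22572
theorem F55962 : act 5 n26888 = n26292 := d18_2 F44239 D26888 F54178
theorem F55963 : act 6 n26888 = n26293 := d19_2 (iv F44237) D26888 F54181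
def n26889 : Q := act 1 n22576
theorem D26889 : act 1 n22576 = n26889 := rfl
theorem F55964 : act 0 n26889 = n26889 := d0_1 D26889 (iv D26889) F44256 F37960 F37956 F25833 (iv F37956) (iv F37960) (iv F44256)
theorem F55965 : act 2 n26889 = n25004 := d6_2 (iv F44257) D26889 (iv D25004) F44283 (iv D22584)
theorem F55966 : act 3 n26889 = n25005 := d7_2 F50885 D26889 F50912
theorem F55967 : act 4 n26889 = n25214 := d8_2 (iv F44258) D26889 (iv D25214)
theorem F55968 : act 6 n26889 = n25004 := d10_2 D22576 D26889 (iv D25004) F39042 (iv F39696)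
def n26890 : Q := act 4 n22577
theorem D26890 : act 4 n22577 = n26890 := rfl
theorem F55969 : act 0 n26890 = n26349 := d3_1 D26890 F54304 (iv F44259)
theorem F55970 : act 1 n26890 = n25953 := d8_1 D26890 F53323 (iv F44260)
theorem F55971 : act 2 n26890 = n22578 := d12_1 D26890 (iv D22578) D22577
theorem F55972 : act 5 n26890 = n24557 := d18_2 (iv F44261) D26890 F49820
def n26891 : Q := act 6 n22578
theorem D26891 : act 6 n22578 = n26891 := rfl
theorem F55973 : act 3 n26891 = n25212 := d17_1 D26891 (iv D25212) (iv F44263)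
theorem F55974 : act 4 n26891 = n22579 := d19_1 D26891 (iv D22579) D22578
def n26892 : Q := act 6 n22588
theorem D26892 : act 6 n22588 = n26892 := rfl
theorem F55975 : act 1 n26892 = n26559 := d10_1 D26892 F54873 F44612 (iv F35421) (iv F44297)
theorem F55976 : act 3 n26892 = n22589 := d17_1 D26892 (iv D22589) D22588
theorem F55977 : act 4 n26892 = n24644 := d19_1 D26892 (iv D24644) (iv F44298)
theorem F55978 : act 5 n26892 = n22986 := d22_2 (iv F44299) D26892 F45517 F39793
def n26893 : Q := act 4 n22592
theorem D26893 : act 4 n22592 = n26893 := rfl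
theorem F55979 : act 1 n26893 = n22593 := d8_1 D26893 (iv D22593) D22592
theorem F55980 : act 2 n26893 = n26780 := d12_1 D26893 F55610 (iv F44313)
theorem F55981 : act 5 n26893 = n26772 := d18_2 F44315 D26893 F55590
def n26894 : Q := act 3 n22593
theorem D26894 : act 3 n22593 = n26894 := rfl
theorem F55982 : act 0 n26894 = n22603 := d2_1 D26894 (iv D22603) (iv F44316)
def n26895 : Q := act 5 n22593
theorem D26895 : act 5 n22593 = n26895 := rfl
theorem F55983 : act 0 n26895 = n22604 := d4_1 D26895 (iv D22604) (iv F44316)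
theorem F55984 : act 2 n26895 = n22597 := d13_1 D26895 (iv D22597) (iv F44317)
theorem F55985 : act 4 n26895 = n22594 := d18_1 D26895 (iv D22594) D22593
theorem F55986 : act 6 n26895 = n22647 := d22_1 D26895 F44507 (iv D22605) (iv F44316)
def n26896 : Q := act 6 n22593
theorem D26896 : act 6 n22593 = n26896 := rfl
theorem F55987 : act 0 n26896 = n22605 := d5_1 D26896 (iv D22605) (iv F44316)
theorem F55988 : act 2 n26896 = n22598 := d14_1 D26896 (iv D22598) (iv F44317)
theorem F55989 : act 4 n26896 = n22595 := d19_1 D26896 (iv D22595) D22593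
theorem F55990 : act 5 n26896 = n22642 := d20_1 D26896 F44494 (iv D22604) D22605 (iv F44507) (iv F55986) (iv D26895)
def n26897 : Q := act 1 n22594
theorem D26897 : act 1 n22594 = n26897 := rfl
theorem F55991 : act 0 n26897 = n26897 := d0_1 D26897 (iv D26897) F44318 F33240 F24421 F19473 (iv F24421) (iv F33240) (iv F44318)
theorem F55992 : act 2 n26897 = n26778 := d6_2 (iv F44319) D26897 F55606 F45591 F33234
theorem F55993 : act 5 n26897 = n26774 := d9_2 D22594 D26897 (iv D26774) F44315 (iv D22592)
theorem F55994 : act 6 n26897 = n26778 := d10_2 (iv F44320) D26897 F55606 (iv F45593) F40011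
def n26898 : Q := act 1 n22595
theorem D26898 : act 1 n22595 = n26898 := rfl
theorem F55995 : act 2 n26898 = n25138 := d6_2 (iv F44322) D26898 F51383 F48874 (iv D22599)
theorem F55996 : act 3 n26898 = n22646 := d7_2 (iv F44323) D26898 (iv D22646)
theorem F55997 : act 5 n26898 = n26874 := d9_2 (iv F44324) D26898 (iv D26874) (iv D22544) (iv F30558)
theorem F55998 : act 6 n26898 = n25136 := d10_2 D22595 D26898 (iv F55583) F55585 (iv D22592)
def n26899 : Q := act 1 n22598
theorem D26899 : act 1 n22598 = n26899 := rfl
theorem F55999 : act 4 n26899 = n22599 := d8_2 (iv F44333) D26899 (iv D22599)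
theorem F56000 : act 6 n26899 = n22912 := d10_2 D22598 D26899 (iv D22912) (iv F32323) (iv F32407)
theorem F56001 : act 0 n26899 = n24194 := d22_4 F48819 (iv D22913) (iv F45328) (iv F56000)
def n26900 : Q := act 3 n22601
theorem D26900 : act 3 n22601 = n26900 := rfl
theorem F56002 : act 1 n26900 = n26837 := d7_1 D26900 (iv D26837) (iv F44340)
theorem F56003 : act 4 n26900 = n22603 := d15_2 D22601 D26900 (iv D22603) (iv D17359) D17358
def n26901 : Q := act 6 n22601
theorem D26901 : act 6 n22601 = n26901 := rfl
theorem F56004 : act 0 n26901 = n22644 := d5_1 D26901 (iv F44498) F44354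
theorem F56005 : act 2 n26901 = n22639 := d14_1 D26901 F44483 (iv F44341)
theorem F56006 : act 4 n26901 = n22602 := d19_1 D26901 (iv D22602) D22601
theorem F56007 : act 5 n22638 = n26901 := d22_0 (iv D26901) F44502 (iv D22645) (iv F44478)
def n26902 : Q := act 1 n22602
theorem D26902 : act 1 n22602 = n26902 := rfl
theorem F56008 : act 2 n26902 = n25167 := d6_2 (iv F44343) D26902 F51483 F48928 (iv D22640)
theorem F56009 : act 3 n26902 = n22606 := d7_2 (iv F44344) D26902 (iv D22606)
theorem F56010 : act 5 n26902 = n25165 := d9_2 F44345 D26902 (iv F55113) F55115 (iv D22637)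
theorem F56011 : act 6 n26902 = n26839 := d10_2 D22602 D26902 (iv D26839) (iv D22485) (iv F30435)
def n26903 : Q := act 2 n22603
theorem D26903 : act 2 n22603 = n26903 := rfl
def n26904 : Q := act 5 n22603
theorem D26904 : act 5 n22603 = n26904 := rfl
theorem F56012 : act 1 n26904 = n23261 := d9_1 D26904 (iv D23261) (iv F46246) F46247 (iv F44346)
theorem F56013 : act 3 n26904 = n22604 := d16_1 D26904 (iv D22604) D22603
def n26905 : Q := act 6 n22603
theorem D26905 : act 6 n22603 = n26905 := rfl
theorem F56014 : act 3 n26905 = n22605 := d17_1 D26905 (iv D22605) D22603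
def n26906 : Q := act 1 n22605
theorem D26906 : act 1 n22605 = n26906 := rfl
theorem F56015 : act 2 n26906 = n22742 := d6_2 (iv F44350) D26906 (iv D22742) (iv F32185) (iv F32189)
theorem F56016 : act 4 n26906 = n22606 := d8_2 (iv F44351) D26906 (iv D22606)
theorem F56017 : act 6 n26906 = n26842 := d10_2 D22605 D26906 (iv D26842) (iv D22487) (iv F30436)
def n26907 : Q := act 3 n22607
theorem D26907 : act 3 n22607 = n26907 := rfl
theorem F56018 : act 0 n26907 = n26900 := d2_1 D26907 (iv D26900) (iv F44354)
theorem F56019 : act 4 n26907 = n26894 := d15_2 (iv F44355) D26907 (iv D26894) (iv D22593) (iv F32527)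
def n26908 : Q := act 5 n22607
theorem D26908 : act 5 n22607 = n26908 := rfl
theorem F56020 : act 0 n26908 = n22645 := d4_1 D26908 (iv F44502) (iv F44354)
theorem F56021 : act 2 n26908 = n22608 := d13_1 D26908 (iv D22608) D22607
theorem F56022 : act 4 n26908 = n22610 := d18_1 D26908 (iv D22610) (iv F44355)
theorem F56023 : act 6 n26908 = n22638 := d20_2 (iv F44498) D26908 F56007 (iv D26901) F44502 (iv D22645) D22644
def n26909 : Q := act 1 n22610
theorem D26909 : act 1 n22610 = n26909 := rfl
theorem F56024 : act 0 n26909 = n26909 := d0_1 D26909 (iv D26909) F44364 (iv F35032) F24475 F19498 (iv F24475) F35032 (iv F44364)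
theorem F56025 : act 2 n26909 = n26637 := d6_2 (iv F44365) D26909 F55136 F45678 (iv F33314)
theorem F56026 : act 3 n26909 = n26897 := d7_2 (iv F44366) D26909 (iv D26897)
theorem F56027 : act 5 n26909 = n26637 := d9_2 D22610 D26909 F55136 (iv F45680) F39849
theorem F56028 : act 6 n26909 = n26631 := d10_2 (iv F44367) D26909 (iv D26631) F44477 (iv D22637)
def n26910 : Q := act 6 n22612
theorem D26910 : act 6 n22612 = n26910 := rfl
theorem F56029 : act 0 n26910 = n22614 := d5_1 D26910 (iv D22614) D22612
theorem F56030 : act 1 n26910 = n23939 := d10_1 D26910 F50828 (iv D24980) (iv F38956) (iv F44373)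
theorem F56031 : act 2 n26910 = n23809 := d14_1 D26910 (iv D23809) (iv F44374)
theorem F56032 : act 3 n26910 = n24984 := d17_1 D26910 (iv D24984) (iv F44375)
theorem F56033 : act 4 n26910 = n23775 := d19_1 D26910 (iv D23775) (iv F44376)
theorem F56034 : act 5 n26910 = n25223 := d20_1 D26910 F51673 (iv D22613) D22614 (iv F51721) F51722 F48960
def n26911 : Q := act 4 n22618
theorem D26911 : act 4 n22618 = n26911 := rfl
theorem F56035 : act 0 n26911 = n26369 := d3_1 D26911 F54357 (iv F44400)
theorem F56036 : act 1 n26911 = n22620 := d8_1 D26911 (iv D22620) (iv F44401)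
theorem F56037 : act 2 n26911 = n26153 := d12_1 D26911 F53845 (iv F44403)
theorem F56038 : act 3 n26911 = n22733 := d15_1 D26911 F44759 F31114 (iv F32741) D22618
theorem F56039 : act 5 n26911 = n26369 := d18_2 (iv F44402) D26911 F54357
theorem F56040 : act 6 n26911 = n26368 := d19_2 F44404 D26911 F54354
def n26912 : Q := act 1 n22621
theorem D26912 : act 1 n22621 = n26912 := rfl
theorem F56041 : act 0 n26912 = n26912 := d0_1 D26912 (iv D26912) F44416 F38007 F38003 F25874 (iv F38003) (iv F38007) (iv F44416)
theorem F56042 : act 2 n26912 = n24985 := d6_2 (iv F44417) D26912 (iv D24985) F44449 (iv D22630)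
theorem F56043 : act 3 n26912 = n24986 := d7_2 F50822 D26912 F50847
theorem F56044 : act 4 n26912 = n25262 := d8_2 (iv F44418) D26912 (iv D25262)
theorem F56045 : act 5 n26912 = n24985 := d9_2 D22621 D26912 (iv D24985) F38963 (iv F39840)
def n26913 : Q := act 4 n22623
theorem D26913 : act 4 n22623 = n26913 := rfl
theorem F56046 : act 0 n26913 = n26428 := d3_1 D26913 F54490 (iv F44424)
theorem F56047 : act 1 n26913 = n26188 := d8_1 D26913 F53915 (iv F44425)
theorem F56048 : act 2 n26913 = n22624 := d12_1 D26913 (iv D22624) D22623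
theorem F56049 : act 6 n26913 = n24611 := d19_2 (iv F44426) D26913 F49953
def n26914 : Q := act 5 n22624
theorem D26914 : act 5 n22624 = n26914 := rfl
theorem F56050 : act 3 n26914 = n25260 := d16_1 D26914 (iv D25260) (iv F44428)
theorem F56051 : act 4 n26914 = n22625 := d18_1 D26914 (iv D22625) D22624
def n26915 : Q := act 5 n22634
theorem D26915 : act 5 n22634 = n26915 := rfl
theorem F56052 : act 1 n26915 = n26715 := d9_1 D26915 F55382 F44715 (iv F35427) (iv F44463)
theorem F56053 : act 3 n26915 = n22635 := d16_1 D26915 (iv D22635) D22634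
theorem F56054 : act 4 n26915 = n24589 := d18_1 D26915 (iv D24589) (iv F44464)
theorem F56055 : act 6 n26915 = n22990 := d22_1 D26915 F45527 D22992 F45530
def n26916 : Q := act 4 n22637
theorem D26916 : act 4 n22637 = n26916 := rfl
theorem F56056 : act 1 n26916 = n22638 := d8_1 D26916 (iv D22638) D22637
theorem F56057 : act 2 n26916 = n26639 := d12_1 D26916 F55139 (iv F44475)
theorem F56058 : act 6 n26916 = n26629 := d19_2 F44477 D26916 F55118
def n26917 : Q := act 3 n22638
theorem D26917 : act 3 n22638 = n26917 := rfl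
theorem F56059 : act 0 n26917 = n22643 := d2_1 D26917 (iv D22643) (iv F44478)
def n26918 : Q := act 1 n22639
theorem D26918 : act 1 n22639 = n26918 := rfl
theorem F56060 : act 0 n26918 = n24197 := d0_1 D26918 F48827 (iv F56001) (iv D26899) F44332 F32189 F32184 F35482 (iv F44480)
theorem F56061 : act 3 n26918 = n26899 := d7_2 (iv F44481) D26918 (iv D26899)
theorem F56062 : act 4 n26918 = n22640 := d8_2 (iv F44482) D26918 (iv D22640)
theorem F56063 : act 5 n26918 = n22941 := d9_2 D22639 D26918 (iv D22941) (iv F32363) (iv F34992)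
def n26919 : Q := act 3 n22642
theorem D26919 : act 3 n22642 = n26919 := rfl
theorem F56064 : act 1 n26919 = n26872 := d7_1 D26919 (iv D26872) (iv F44492)
theorem F56065 : act 4 n26919 = n22643 := d15_2 D22642 D26919 (iv D22643) (iv D17436) D17435
theorem F56066 : act 6 n26919 = n26904 := d17_2 (iv F44494) D26919 F56013
def n26920 : Q := act 2 n22643
theorem D26920 : act 2 n22643 = n26920 := rfl
def n26921 : Q := act 5 n22643
theorem D26921 : act 5 n22643 = n26921 := rfl
theorem F56067 : act 3 n26921 = n22644 := d16_1 D26921 (iv D22644) D22643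
theorem F56068 : act 6 n26907 = n26921 := d17_0 F56067 (iv F44498) D26907
def n26922 : Q := act 6 n22643
theorem D26922 : act 6 n22643 = n26922 := rfl
theorem F56069 : act 1 n26922 = n23331 := d10_1 D26922 (iv D23331) (iv F46416) F46417 (iv F44495)
theorem F56070 : act 3 n26922 = n22645 := d17_1 D26922 (iv D22645) D22643
theorem F56071 : act 4 n26922 = n26904 := d19_1 D26922 (iv F56066) F56065
theorem F56072 : act 5 n26900 = n26922 := d22_0 (iv D26922) D26921 (iv F56068) F56018
def n26923 : Q := act 1 n22644
theorem D26923 : act 1 n22644 = n26923 := rfl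
theorem F56073 : act 2 n26923 = n22743 := d6_2 (iv F44496) D26923 (iv D22743) (iv F32179) F35482
theorem F56074 : act 4 n26923 = n22646 := d8_2 (iv F44497) D26923 (iv D22646)
theorem F56075 : act 5 n26923 = n26877 := d9_2 D22644 D26923 (iv D26877) (iv D22546) (iv F30559)
def n26924 : Q := act 3 n22647
theorem D26924 : act 3 n22647 = n26924 := rfl
theorem F56076 : act 0 n26924 = n26919 := d2_1 D26924 (iv D26919) (iv F44505)
theorem F56077 : act 4 n26924 = n26917 := d15_2 (iv F44506) D26924 (iv D26917) (iv D22638) (iv F32974)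
theorem F56078 : act 5 n26924 = n26905 := d16_2 (iv F44507) D26924 F56014
def n26925 : Q := act 5 n22649
theorem D26925 : act 5 n22649 = n26925 := rfl
theorem F56079 : act 0 n26925 = n22703 := d4_1 D26925 F44672 F44591
theorem F56080 : act 1 n26925 = n22654 := d9_1 D26925 (iv D22654) (iv D17555) (iv F30765) D22649
theorem F56081 : act 2 n26925 = n23954 := d13_1 D26925 (iv F51516) F51514
theorem F56082 : act 3 n26925 = n22673 := d16_1 D26925 (iv D22673) (iv F44513)
theorem F56083 : act 4 n26925 = n22673 := d18_1 D26925 (iv D22673) (iv F44514)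
theorem F56084 : act 6 n26925 = n22673 := d20_2 (iv F44588) D26925 (iv D22673) D22674 (iv F44672) F44673 (iv F44587)
def n26926 : Q := act 1 n22650
theorem D26926 : act 1 n22650 = n26926 := rfl
theorem F56085 : act 0 n26926 = n25182 := d0_1 D26926 F51537 F48922 (iv F43788) F43787 (iv F43773) F43772 F39857 (iv F44515)
theorem F56086 : act 2 n26926 = n25181 := d6_2 D22650 D26926 F51533 F51514 (iv D22649)
theorem F56087 : act 4 n26926 = n22675 := d8_2 (iv F44516) D26926 (iv D22675)
theorem F56088 : act 5 n26926 = n25274 := d9_2 (iv F44517) D26926 F51844 (iv F48098) (iv D22655)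
theorem F56089 : act 6 n26926 = n23759 := d10_2 F44544 D26926 F47525 D23763 (iv F47538)
def n26927 : Q := act 4 n22651
theorem D26927 : act 4 n22651 = n26927 := rfl
theorem F56090 : act 1 n26927 = n26187 := d8_1 D26927 F53910 (iv F44518)
theorem F56091 : act 2 n26927 = n24006 := d12_1 D26927 F48358 F44521
theorem F56092 : act 3 n26927 = n22678 := d15_1 D26927 (iv D22678) (iv D17603) (iv F32639) D22651
theorem F56093 : act 5 n26927 = n22656 := d18_2 (iv F44519) D26927 (iv D22656)
theorem F56094 : act 6 n26927 = n24005 := d19_2 (iv F44520) D26927 F48356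
def n26928 : Q := act 2 n22652
theorem D26928 : act 2 n22652 = n26928 := rfl
theorem F56095 : act 0 n26928 = n22653 := d1_1 D26928 (iv D22653) D22652
theorem F56096 : act 1 n26928 = n23747 := d6_1 D26928 F47491 (iv F44604) (iv D22679) (iv F44522)
theorem F56097 : act 3 n26928 = n23960 := d11_2 (iv F44523) D26928 (iv F55161) F55162 F48862 F37489 (iv D17626) (iv F30778) D22653 (iv F44529) (iv F48233) (iv F48245) (iv D23964) F44603 (iv D22679)
theorem F56098 : act 4 n26928 = n22679 := d12_2 (iv F44524) D26928 (iv D22679)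
theorem F56099 : act 5 n26928 = n22717 := d13_2 (iv F44526) D26928 F44710
theorem F56100 : act 6 n26928 = n22708 := d14_2 (iv F44525) D26928 (iv D22708)
def n26929 : Q := act 0 n22658
theorem D26929 : act 0 n22658 = n26929 := rfl
theorem F56101 : act 1 n26929 = n22670 := d0_2 D22658 D26929 F44582 (iv F44590) F44589 (iv D17814) F35386 F35385 F35383
theorem F56102 : act 2 n26929 = n23956 := d1_2 F47728 D26929 F48216
theorem F56103 : act 3 n26929 = n22693 := d2_2 (iv F44545) D26929 (iv D22693)
theorem F56104 : act 4 n26929 = n22693 := d3_2 (iv F44546) D26929 (iv D22693)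
theorem F56105 : act 5 n26929 = n22693 := d4_2 (iv F44547) D26929 (iv D22693)
theorem F56106 : act 6 n26929 = n22663 := d5_2 F44696 D26929 (iv F44692)
def n26930 : Q := act 5 n22659
theorem D26930 : act 5 n22659 = n26930 := rfl
theorem F56107 : act 1 n26930 = n24009 := d9_1 D26930 F48367 F37055 (iv F38383) (iv F44548)
theorem F56108 : act 3 n26930 = n24005 := d16_1 D26930 F48357 (iv F44549)
theorem F56109 : act 4 n26930 = n22660 := d18_1 D26930 (iv D22660) D22659
theorem F56110 : act 6 n26930 = n22678 := d22_1 D26930 F44599 D22689 F44621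
def n26931 : Q := act 1 n22664
theorem D26931 : act 1 n22664 = n26931 := rfl
theorem F56111 : act 0 n26931 = n25229 := d0_1 D26931 F51692 F48870 (iv F43235) F43234 (iv F43219) F43222 F40015 (iv F44563)
theorem F56112 : act 2 n26931 = n25228 := d6_2 D22664 D26931 (iv F51699) F51700 (iv D22663)
theorem F56113 : act 4 n26931 = n22711 := d8_2 (iv F44564) D26931 (iv D22711)
theorem F56114 : act 5 n26931 = n23783 := d9_2 F44669 D26931 F47602 D23786 (iv F47612)
theorem F56115 : act 6 n26931 = n25286 := d10_2 (iv F44565) D26931 F51884 (iv F48132) (iv D22700)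
def n26932 : Q := act 4 n22665
theorem D26932 : act 4 n22665 = n26932 := rfl
theorem F56116 : act 1 n26932 = n25952 := d8_1 D26932 F53318 (iv F44566)
theorem F56117 : act 2 n26932 = n23981 := d12_1 D26932 F48291 F44569
theorem F56118 : act 3 n26932 = n22714 := d15_1 D26932 (iv D22714) (iv D17782) (iv F34420) D22665
theorem F56119 : act 5 n26932 = n23980 := d18_2 (iv F44567) D26932 F48289
theorem F56120 : act 6 n26932 = n22701 := d19_2 (iv F44568) D26932 (iv D22701)
def n26933 : Q := act 5 n22667
theorem D26933 : act 5 n22667 = n26933 := rfl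
theorem F56121 : act 0 n26933 = n22669 := d4_1 D26933 (iv D22669) (iv F44571)
theorem F56122 : act 1 n26933 = n23771 := d9_1 D26933 F47570 (iv F44706) F44704 F44689
theorem F56123 : act 2 n26933 = n22668 := d13_1 D26933 (iv D22668) D22667
theorem F56124 : act 3 n26933 = n23959 := d16_1 D26933 F48228 F44572
theorem F56125 : act 4 n26933 = n22715 := d18_1 D26933 F44704 F44688
theorem F56126 : act 6 n26933 = n22681 := d20_2 F44602 D26933 (iv D22681) F35417 D22669 (iv F44581) (iv F44601)
def n26934 : Q := act 1 n22672
theorem D26934 : act 1 n22672 = n26934 := rfl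
theorem F56127 : act 0 n26934 = n25174 := d0_1 D26934 (iv D25174) (iv D20879) (iv D15639) (iv F29065) D15641 (iv F36574) D23837 (iv F47808)
theorem F56128 : act 2 n26934 = n22675 := d6_2 D22672 D26934 (iv D22675) (iv D17602) D17601
theorem F56129 : act 3 n26934 = n23835 := d7_2 F51569 D26934 (iv F51565)
theorem F56130 : act 4 n26934 = n25181 := d8_2 F51515 D26934 F51533
theorem F56131 : act 5 n26934 = n25192 := d9_2 F47820 D26934 F51578 (iv F48187) (iv F48188)
theorem F56132 : act 6 n26934 = n23757 := d10_2 (iv F47715) D26934 F47521 F36389 D20881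
def n26935 : Q := act 0 n22675
theorem D26935 : act 0 n22675 = n26935 := rfl
theorem F56133 : act 1 n26935 = n24218 := d0_2 D22675 D26935 (iv F48934) F48935 F40344 (iv F39870) F39869 F26921 (iv F30828)
theorem F56134 : act 2 n26935 = n25174 := d1_2 F56128 D26935 (iv F56127)
theorem F56135 : act 4 n26935 = n25182 := d3_2 F56087 D26935 (iv F56085)
theorem F56136 : act 6 n26935 = n23756 := d5_2 (iv F44594) D26935 (iv D23756)
theorem F56137 : act 5 n26935 = n25119 := d22_0 F51329 (iv D23760) (iv F44594) D26935
theorem F56138 : act 3 n26520 = n26935 := d21_7 (iv F56128) F56129 F51563 F51558 (iv D22000) (iv F42739) D26520 (iv D26935)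
def n26936 : Q := act 3 n22675
theorem D26936 : act 3 n22675 = n26936 := rfl
theorem F56139 : act 0 n26936 = n26520 := d2_1 D26936 F56138 (iv D26935)
theorem F56140 : act 1 n26936 = n22676 := d7_1 D26936 (iv D22676) D22675
theorem F56141 : act 2 n26936 = n26519 := d11_1 D26936 F54740 D26522 (iv F54747) (iv D25175) (iv F51509) (iv F56134) (iv F56138) (iv D26520) F42739 D22000 (iv F51558) (iv F51563) (iv F56129) F56128
theorem F56142 : act 6 n26936 = n23758 := d17_2 (iv F44594) D26936 (iv D23758)
def n26937 : Q := act 5 n22675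
theorem D26937 : act 5 n22675 = n26937 := rfl
theorem F56143 : act 0 n26937 = n25119 := d4_1 D26937 (iv F56137) (iv D26935)
theorem F56144 : act 1 n26937 = n22684 := d9_1 D26937 (iv D22684) (iv D17629) (iv F30829) D22675
theorem F56145 : act 2 n26937 = n25192 := d13_1 D26937 (iv F56131) F56128
theorem F56146 : act 4 n26937 = n25274 := d18_1 D26937 (iv F56088) F56087
theorem F56147 : act 6 n26937 = n25273 := d20_2 (iv F44594) D26937 F51843 (iv F56136) F56137 F51329 (iv D23760)
def n26938 : Q := act 4 n22676
theorem D26938 : act 4 n22676 = n26938 := rfl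
theorem F56148 : act 0 n26938 = n22678 := d3_1 D26938 (iv D22678) (iv F44595)
theorem F56149 : act 5 n26938 = n22687 := d18_2 (iv F44596) D26938 (iv D22687)
def n26939 : Q := act 4 n22677
theorem D26939 : act 4 n22677 = n26939 := rfl
theorem F56150 : act 2 n26939 = n22678 := d12_1 D26939 (iv D22678) D22677
theorem F56151 : act 5 n26939 = n22688 := d18_2 (iv F44597) D26939 (iv D22688)
def n26940 : Q := act 1 n22682
theorem D26940 : act 1 n22682 = n26940 := rfl
theorem F56152 : act 0 n26940 = n22697 := d0_1 D26940 (iv D22697) (iv D17648) (iv D12987) F18448 (iv F18438) (iv F22745) D17629 D22682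
theorem F56153 : act 2 n26940 = n24437 := d6_2 (iv F45738) D26940 (iv D24437) F37970 D23053
theorem F56154 : act 4 n26940 = n23856 := d8_2 (iv F44611) D26940 F47879
theorem F56155 : act 6 n26940 = n26940 := d10_2 F54882 D26940 (iv D26940) (iv F54882) F54879
def n26941 : Q := act 4 n22683
theorem D26941 : act 4 n22683 = n26941 := rfl
theorem F56156 : act 0 n26941 = n23882 := d3_1 D26941 F54856 F54855
theorem F56157 : act 1 n26941 = n22687 := d8_1 D26941 (iv D22687) (iv F44612)
theorem F56158 : act 3 n26941 = n23880 := d15_1 D26941 F47952 (iv F44536) F44537 D22683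
def n26942 : Q := act 5 n22683
theorem D26942 : act 5 n22683 = n26942 := rfl
theorem F56159 : act 2 n26942 = n26563 := d13_1 D26942 F54889 F54853
theorem F56160 : act 3 n26942 = n22684 := d16_1 D26942 (iv D22684) D22683
theorem F56161 : act 6 n26942 = n26562 := d22_1 D26942 (iv D26562) (iv F47186) F54855
def n26943 : Q := act 5 n22685
theorem D26943 : act 5 n22685 = n26943 := rfl
theorem F56162 : act 0 n26943 = n23922 := d4_1 D26943 F54883 F54878
theorem F56163 : act 1 n26943 = n23751 := d9_1 D26943 (iv D23751) F36419 (iv F44302) (iv F44613)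
theorem F56164 : act 2 n26943 = n23921 := d13_1 D26943 (iv F48816) F48813
theorem F56165 : act 4 n26943 = n23930 := d18_1 D26943 F50891 F50888
theorem F56166 : act 6 n26943 = n24270 := d20_2 D22685 D26943 F49024 (iv F54882) (iv F54883) F48079 (iv D22684)
def n26944 : Q := act 1 n22686
theorem D26944 : act 1 n22686 = n26944 := rfl
theorem F56167 : act 0 n26944 = n23595 := d0_1 D26944 (iv D23595) (iv F35757) D23596 (iv F55880) F55881 F51005 (iv F39687) (iv F44614)
theorem F56168 : act 2 n26944 = n24322 := d6_2 D22686 D26944 (iv F49165) F54853 F44612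
theorem F56169 : act 3 n26944 = n24996 := d7_2 (iv F44615) D26944 (iv D24996)
theorem F56170 : act 5 n26944 = n25090 := d9_2 F48894 D26944 F51218 (iv F47150) (iv F48891)
theorem F56171 : act 6 n26944 = n23025 := d10_2 (iv F44616) D26944 (iv D23025) (iv F33391) F39011
def n26945 : Q := act 4 n22686
theorem D26945 : act 4 n22686 = n26945 := rfl
theorem F56172 : act 0 n26945 = n22688 := d3_1 D26945 (iv D22688) (iv F44614)
theorem F56173 : act 2 n26945 = n22687 := d12_1 D26945 (iv D22687) D22686
theorem F56174 : act 6 n26945 = n24995 := d19_2 (iv F44616) D26945 F50874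
def n26946 : Q := act 3 n22688
theorem D26946 : act 3 n22688 = n26946 := rfl
theorem F56175 : act 4 n26946 = n24634 := d15_2 D22688 D26946 F50000 F38376 (iv F39688)
theorem F56176 : act 6 n26946 = n24631 := d17_2 (iv F44620) D26946 F49997
def n26947 : Q := act 1 n22689
theorem D26947 : act 1 n22689 = n26947 := rfl
theorem F56177 : act 0 n26947 = n22699 := d0_1 D26947 (iv D22699) F30881 D20942 D25210 (iv F51628) F50026 (iv F44548) (iv F44621)
theorem F56178 : act 2 n26947 = n22735 := d6_2 (iv F44622) D26947 F44764 F38999 D20549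
theorem F56179 : act 3 n26947 = n26293 := d7_2 (iv F50006) D26947 (iv F54182)
theorem F56180 : act 4 n26947 = n22690 := d8_2 (iv F44623) D26947 (iv D22690)
theorem F56181 : act 6 n26947 = n22699 := d10_2 D22689 D26947 (iv D22699) (iv D17651) (iv F30860)
theorem F56182 : act 5 n22734 = n26947 := d22_0 F56181 F55017 F55015 F55012
def n26948 : Q := act 5 n22689
theorem D26948 : act 5 n22689 = n26948 := rfl
theorem F56183 : act 0 n26948 = n26930 := d4_1 D26948 (iv D26930) (iv F44621)
theorem F56184 : act 1 n26948 = n22773 := d9_1 D26948 (iv D22773) (iv F44760) F56182 (iv D26947)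
theorem F56185 : act 2 n26948 = n24222 := d13_1 D26948 F48889 (iv F44622)
theorem F56186 : act 4 n26948 = n22691 := d18_1 D26948 (iv D22691) (iv F44623)
theorem F56187 : act 6 n26948 = n26938 := d20_2 D22689 D26948 F56149 F44618 D26930 F56110 F44599
def n26949 : Q := act 5 n22697
theorem D26949 : act 5 n22697 = n26949 := rfl
def n26950 : Q := act 1 n22698
theorem D26950 : act 1 n22698 = n26950 := rfl
theorem F56188 : act 0 n26950 = n24280 := d0_1 D26950 F49048 F48866 F39879 F39876 D25124 F51343 F39888 (iv F44656)
theorem F56189 : act 2 n26950 = n24247 := d6_2 (iv F44657) D26950 (iv D24247) (iv D19902) D19901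
theorem F56190 : act 4 n26950 = n24275 := d8_2 (iv F44658) D26950 (iv D24275)
theorem F56191 : act 6 n26950 = n24277 := d10_2 (iv F44659) D26950 (iv F51611) (iv F51603) (iv D23755)
def n26951 : Q := act 6 n22704
theorem D26951 : act 6 n22704 = n26951 := rfl
theorem F56192 : act 1 n26951 = n23984 := d10_1 D26951 F48300 F37018 (iv F38317) (iv F44674)
theorem F56193 : act 3 n26951 = n23980 := d17_1 D26951 F48290 (iv F44675)
theorem F56194 : act 4 n26951 = n22705 := d19_1 D26951 (iv D22705) D22704
theorem F56195 : act 5 n26951 = n22714 := d22_2 F44721 D26951 F44702 (iv F44720)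
def n26952 : Q := act 1 n22709
theorem D26952 : act 1 n22709 = n26952 := rfl
theorem F56196 : act 0 n26952 = n25222 := d0_1 D26952 (iv D25222) (iv D20963) (iv D15766) F34209 (iv F35014) (iv F36496) D23814 F47711
theorem F56197 : act 2 n26952 = n22711 := d6_2 D22709 D26952 (iv D22711) (iv D17781) D17780
theorem F56198 : act 3 n26952 = n23810 := d7_2 F51730 D26952 (iv F51726)
theorem F56199 : act 4 n26952 = n25228 := d8_2 F51701 D26952 (iv F51699)
theorem F56200 : act 5 n26952 = n23781 := d9_2 (iv F47714) D26952 F47598 F36515 D20975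
theorem F56201 : act 6 n26952 = n25240 := d10_2 F47737 D26952 F51739 (iv F48198) F48199
def n26953 : Q := act 0 n22711
theorem D26953 : act 0 n22711 = n26953 := rfl
theorem F56202 : act 1 n26953 = n24238 := d0_2 D22711 D26953 F48930 F48881 F40127 (iv F39513) F39512 F27062 (iv F31066)
theorem F56203 : act 2 n26953 = n25222 := d1_2 F56197 D26953 (iv F56196)
theorem F56204 : act 4 n26953 = n25229 := d3_2 F56113 D26953 (iv F56111)
theorem F56205 : act 5 n26953 = n23780 := d4_2 (iv F44697) D26953 (iv D23780)
theorem F56206 : act 3 n26549 = n26953 := d21_7 (iv F56197) F56198 F51723 F51719 (iv D22044) (iv F42856) D26549 (iv D26953)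
theorem F56207 : act 6 n25151 = n26953 := d22_3 F44697 D23784 (iv F51440) (iv D26953)
def n26954 : Q := act 3 n22711
theorem D26954 : act 3 n22711 = n26954 := rfl
theorem F56208 : act 0 n26954 = n26549 := d2_1 D26954 F56206 (iv D26953)
theorem F56209 : act 1 n26954 = n22712 := d7_1 D26954 (iv D22712) D22711
theorem F56210 : act 2 n26954 = n26548 := d11_1 D26954 F54836 D26551 (iv F54843) (iv D25223) (iv F51668) (iv F56203) (iv F56206) (iv D26549) F42856 D22044 (iv F51719) (iv F51723) (iv F56198) F56197
theorem F56211 : act 5 n26954 = n23782 := d16_2 (iv F44697) D26954 (iv D23782)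
def n26955 : Q := act 6 n22711
theorem D26955 : act 6 n22711 = n26955 := rfl
theorem F56212 : act 0 n26955 = n25151 := d5_1 D26955 F56207 (iv D26953)
theorem F56213 : act 1 n26955 = n22721 := d10_1 D26955 (iv D22721) (iv D17805) (iv F31067) D22711
theorem F56214 : act 2 n26955 = n25240 := d14_1 D26955 (iv F56201) F56197
theorem F56215 : act 4 n26955 = n25286 := d19_1 D26955 (iv F56115) F56113
theorem F56216 : act 5 n26955 = n25285 := d20_1 D26955 F51883 (iv F56205) (iv F56207) F51440 (iv D23784) (iv F44697)
def n26956 : Q := act 4 n22712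
theorem D26956 : act 4 n22712 = n26956 := rfl
theorem F56217 : act 0 n26956 = n22714 := d3_1 D26956 (iv D22714) (iv F44698)
theorem F56218 : act 6 n26956 = n22723 := d19_2 (iv F44699) D26956 (iv D22723)
def n26957 : Q := act 4 n22713
theorem D26957 : act 4 n22713 = n26957 := rfl
theorem F56219 : act 2 n26957 = n22714 := d12_1 D26957 (iv D22714) D22713
theorem F56220 : act 6 n26957 = n22724 := d19_2 (iv F44700) D26957 (iv D22724)
def n26958 : Q := act 1 n22718
theorem D26958 : act 1 n22718 = n26958 := rfl
theorem F56221 : act 0 n26958 = n22731 := d0_1 D26958 (iv D22731) (iv D17822) (iv D13072) F18527 (iv F18517) (iv F22874) D17805 D22718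
theorem F56222 : act 2 n26958 = n24458 := d6_2 (iv F45748) D26958 (iv D24458) F38017 D23055
theorem F56223 : act 4 n26958 = n23860 := d8_2 (iv F44714) D26958 F47889
theorem F56224 : act 5 n26958 = n26958 := d9_2 F55392 D26958 (iv D26958) (iv F55392) F55389
def n26959 : Q := act 4 n22719
theorem D26959 : act 4 n22719 = n26959 := rfl
theorem F56225 : act 0 n26959 = n23891 := d3_1 D26959 F47980 F47324
theorem F56226 : act 1 n26959 = n22723 := d8_1 D26959 (iv D22723) (iv F44715)
theorem F56227 : act 3 n26959 = n23889 := d15_1 D26959 F47975 (iv F44661) F44662 D22719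
def n26960 : Q := act 6 n22719
theorem D26960 : act 6 n22719 = n26960 := rfl
theorem F56228 : act 2 n26960 = n26719 := d14_1 D26960 F55399 F47323
theorem F56229 : act 3 n26960 = n22721 := d17_1 D26960 (iv D22721) D22719
theorem F56230 : act 5 n26960 = n26718 := d22_2 F55382 D26960 (iv D26718) (iv F55381)
def n26961 : Q := act 6 n22720
theorem D26961 : act 6 n22720 = n26961 := rfl
theorem F56231 : act 0 n26961 = n23925 := d5_1 D26961 F55393 F55388
theorem F56232 : act 1 n26961 = n23775 := d10_1 D26961 (iv D23775) F36489 (iv F44468) (iv F44716)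
theorem F56233 : act 2 n26961 = n23924 := d14_1 D26961 (iv F48825) F48821
theorem F56234 : act 4 n26961 = n23939 := d19_1 D26961 F50828 F50825
theorem F56235 : act 5 n26961 = n24251 := d20_1 D26961 F48982 (iv F55392) (iv F55393) F48091 (iv D22721) D22720
def n26962 : Q := act 1 n22722
theorem D26962 : act 1 n22722 = n26962 := rfl
theorem F56236 : act 0 n26962 = n23535 := d0_1 D26962 (iv D23535) F35607 D23532 (iv F55772) F55773 F50928 (iv F39831) (iv F44717)
theorem F56237 : act 2 n26962 = n24376 := d6_2 D22722 D26962 (iv F49323) F47323 F44715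
theorem F56238 : act 3 n26962 = n24977 := d7_2 (iv F44718) D26962 (iv D24977)
theorem F56239 : act 5 n26962 = n23000 := d9_2 (iv F44719) D26962 (iv D23000) (iv F33355) (iv F38932)
theorem F56240 : act 6 n26962 = n25057 := d10_2 F48836 D26962 F51100 (iv F47003) (iv F48833)
def n26963 : Q := act 4 n22722
theorem D26963 : act 4 n22722 = n26963 := rfl
theorem F56241 : act 0 n26963 = n22724 := d3_1 D26963 (iv D22724) (iv F44717)
theorem F56242 : act 2 n26963 = n22723 := d12_1 D26963 (iv D22723) D22722
theorem F56243 : act 5 n26963 = n24976 := d18_2 (iv F44719) D26963 F50811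
def n26964 : Q := act 3 n22724
theorem D26964 : act 3 n22724 = n26964 := rfl
theorem F56244 : act 4 n26964 = n24579 := d15_2 D22724 D26964 F49864 F38310 (iv F39832)
theorem F56245 : act 5 n26964 = n24576 := d16_2 (iv F44723) D26964 F49861
def n26965 : Q := act 1 n22725
theorem D26965 : act 1 n22725 = n26965 := rfl
theorem F56246 : act 0 n26965 = n22733 := d0_1 D26965 (iv D22733) F31110 D21023 D25258 (iv F51793) F49890 (iv F44674) (iv F44724)
theorem F56247 : act 2 n26965 = n22737 := d6_2 (iv F44725) D26965 F44770 F38920 D20503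
theorem F56248 : act 3 n26965 = n26369 := d7_2 (iv F49870) D26965 (iv F54358)
theorem F56249 : act 4 n26965 = n22726 := d8_2 (iv F44726) D26965 (iv D22726)
theorem F56250 : act 5 n26965 = n22733 := d9_2 D22725 D26965 (iv D22733) (iv D17825) (iv F31095)
theorem F56251 : act 6 n22736 = n26965 := d22_1 F44768 F56250 F55509 F55504
def n26966 : Q := act 6 n22725
theorem D26966 : act 6 n22725 = n26966 := rfl
theorem F56252 : act 0 n26966 = n26951 := d5_1 D26966 (iv D26951) (iv F44724)
theorem F56253 : act 1 n26966 = n22782 := d10_1 D26966 (iv D22782) (iv F44766) F56251 (iv D26965)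
theorem F56254 : act 2 n26966 = n24198 := d14_1 D26966 F48831 (iv F44725)
theorem F56255 : act 4 n26966 = n22727 := d19_1 D26966 (iv D22727) (iv F44726)
theorem F56256 : act 5 n26966 = n26956 := d20_1 D26966 F56218 F44721 D26951 F56195 F44702 D22725
def n26967 : Q := act 6 n22731
theorem D26967 : act 6 n22731 = n26967 := rfl
def n26968 : Q := act 1 n22732
theorem D26968 : act 1 n22732 = n26968 := rfl
theorem F56257 : act 0 n26968 = n24260 := d0_1 D26968 F49006 F48914 F40032 F40029 D25156 F51456 F40040 (iv F44755)
theorem F56258 : act 2 n26968 = n24243 := d6_2 (iv F44756) D26968 (iv D24243) (iv D19893) D19892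
theorem F56259 : act 4 n26968 = n24256 := d8_2 (iv F44757) D26968 (iv D24256)
theorem F56260 : act 5 n24258 = n26968 := d23_0 F56258 (iv D24243) F37559 D19896 F37566 F25595 (iv F36919) (iv D19631) D19630 F36917 F25200 D14435 F25205 (iv F20173) (iv F25635) (iv D14691) D14690 D19919 D24258
theorem F56261 : act 1 n25248 = n24258 := d9_5 F56260 (iv D26968) F44758 D23779 (iv F51768)
theorem F56262 : act 6 n25252 = n24258 := d24_0 F56260 (iv D26968) (iv D22732) F36331 F36328 (iv D19413) (iv F35213) (iv F40040) (iv D20860) D20859 F40039 D21018 F40474 D25252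
theorem F56263 : act 0 n24261 = n25252 := d5_3 F56262 (iv D24258) D24261
def n26969 : Q := act 1 n22740
theorem D26969 : act 1 n22740 = n26969 := rfl
theorem F56264 : act 3 n26969 = n22742 := d7_2 (iv F44781) D26969 (iv D22742)
theorem F56265 : act 4 n26969 = n23061 := d8_2 (iv F44782) D26969 (iv D23061)
def n26970 : Q := act 1 n22741
theorem D26970 : act 1 n22741 = n26970 := rfl
theorem F56266 : act 3 n26970 = n22743 := d7_2 (iv F44786) D26970 (iv D22743)
theorem F56267 : act 4 n26970 = n23065 := d8_2 (iv F44787) D26970 (iv D23065)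
def n26971 : Q := act 1 n22744
theorem D26971 : act 1 n22744 = n26971 := rfl
theorem F56268 : act 3 n26971 = n22750 := d7_2 (iv F44791) D26971 (iv D22750)
theorem F56269 : act 4 n26971 = n23076 := d8_2 (iv F44792) D26971 (iv D23076)
def n26972 : Q := act 2 n22744
theorem D26972 : act 2 n22744 = n26972 := rfl
theorem F56270 : act 0 n26972 = n22745 := d1_1 D26972 (iv D22745) D22744
theorem F56271 : act 4 n26972 = n23077 := d12_2 (iv F44792) D26972 (iv D23077)
theorem F56272 : act 1 n26972 = n23077 := d23_2 F49071 D26972 F45811 (iv F45757) (iv D23059) (iv D18703) (iv F33465) (iv D18699) (iv F23961) D15973 F27624 F33537 (iv F38053) (iv D20122) (iv D14928) D14929 (iv F31787) (iv F37712) (iv F49068)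
theorem F56273 : act 2 n26971 = n23076 := d6_2 (iv D26972) D26971 (iv D23076) D23077 (iv F56272)
theorem F56274 : act 0 n25301 = n24497 := d0_5 F56272 F45811 F33501 (iv F40710) D25301 (iv D24497) F38133 (iv F44793) (iv F56270)
def n26973 : Q := act 6 n22744
theorem D26973 : act 6 n22744 = n26973 := rfl
theorem F56275 : act 0 n26973 = n22746 := d5_1 D26973 (iv D22746) D22744
theorem F56276 : act 3 n26973 = n22751 := d17_1 D26973 (iv D22751) (iv F44791)
theorem F56277 : act 4 n26973 = n23078 := d19_1 D26973 (iv D23078) (iv F44792)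
theorem F56278 : act 5 n26973 = n24298 := d22_2 F49071 D26973 (iv D24298) (iv F49068)
def n26974 : Q := act 3 n22745
theorem D26974 : act 3 n22745 = n26974 := rfl
theorem F56279 : act 1 n26974 = n24463 := d7_1 D26974 (iv D24463) (iv F44793)
def n26975 : Q := act 6 n22745
theorem D26975 : act 6 n22745 = n26975 := rfl
theorem F56280 : act 2 n26975 = n22746 := d14_1 D26975 (iv D22746) D22745
theorem F56281 : act 4 n26975 = n23080 := d19_1 D26975 (iv D23080) (iv F44794)
def n26976 : Q := act 5 n22746
theorem D26976 : act 5 n22746 = n26976 := rfl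
theorem F56282 : act 0 n26976 = n24298 := d4_1 D26976 (iv F56278) F56275
theorem F56283 : act 3 n26976 = n22752 := d16_1 D26976 (iv D22752) (iv F44795)
theorem F56284 : act 4 n26976 = n23081 := d18_1 D26976 (iv D23081) (iv F44796)
theorem F56285 : act 6 n26976 = n24290 := d20_2 D22746 D26976 F49071 D26973 F56278 (iv D24298) F37714
theorem F56286 : act 1 n23180 = n26976 := d7_3 F56283 (iv F44812) (iv F46059)
def n26977 : Q := act 1 n22747
theorem D26977 : act 1 n22747 = n26977 := rfl
theorem F56287 : act 3 n26977 = n22753 := d7_2 (iv F44797) D26977 (iv D22753)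
theorem F56288 : act 4 n26977 = n23082 := d8_2 (iv F44798) D26977 (iv D23082)
def n26978 : Q := act 2 n22747
theorem D26978 : act 2 n22747 = n26978 := rfl
theorem F56289 : act 0 n26978 = n22748 := d1_1 D26978 (iv D22748) D22747
theorem F56290 : act 4 n26978 = n23083 := d12_2 (iv F44798) D26978 (iv D23083)
def n26979 : Q := act 5 n22747
theorem D26979 : act 5 n22747 = n26979 := rfl
theorem F56291 : act 0 n26979 = n22749 := d4_1 D26979 (iv D22749) D22747
theorem F56292 : act 3 n26979 = n22754 := d16_1 D26979 (iv D22754) (iv F44797)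
theorem F56293 : act 4 n26979 = n23084 := d18_1 D26979 (iv D23084) (iv F44798)
theorem F56294 : act 6 n26979 = n24355 := d22_1 D26979 (iv D24355) F37810 D22747
def n26980 : Q := act 3 n22748
theorem D26980 : act 3 n22748 = n26980 := rfl
theorem F56295 : act 1 n26980 = n24467 := d7_1 D26980 (iv D24467) (iv F44799)
def n26981 : Q := act 5 n22748
theorem D26981 : act 5 n22748 = n26981 := rfl
theorem F56296 : act 2 n26981 = n22749 := d13_1 D26981 (iv D22749) D22748
theorem F56297 : act 4 n26981 = n23086 := d18_1 D26981 (iv D23086) (iv F44800)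
def n26982 : Q := act 6 n22749
theorem D26982 : act 6 n22749 = n26982 := rfl
theorem F56298 : act 0 n26982 = n24355 := d5_1 D26982 (iv F56294) F56291
theorem F56299 : act 3 n26982 = n22755 := d17_1 D26982 (iv D22755) (iv F44801)
theorem F56300 : act 4 n26982 = n23087 := d19_1 D26982 (iv D23087) (iv F44802)
theorem F56301 : act 5 n26982 = n24347 := d20_1 D26982 F49231 D26979 F56294 (iv D24355) F37810 D22749
theorem F56302 : act 1 n23164 = n26982 := d7_3 F56299 (iv F44822) (iv F46025)
def n26983 : Q := act 6 n22750
theorem D26983 : act 6 n22750 = n26983 := rfl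
theorem F56303 : act 0 n26983 = n23267 := d5_1 D26983 F46274 F45837
theorem F56304 : act 1 n26983 = n23253 := d10_1 D26983 (iv F46241) F46242 (iv D22751) D22750
theorem F56305 : act 4 n26983 = n22802 := d19_1 D26983 (iv D22802) (iv F44803)
theorem F56306 : act 5 n26983 = n23091 := d20_1 D26983 (iv D23091) D23090 (iv F46274) F46273 F45834 (iv F45833)
def n26984 : Q := act 5 n22753
theorem D26984 : act 5 n22753 = n26984 := rfl
theorem F56307 : act 0 n26984 = n23191 := d4_1 D26984 F46088 F45859
theorem F56308 : act 1 n26984 = n23325 := d9_1 D26984 (iv F46411) (iv F46412) (iv D22754) D22753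
theorem F56309 : act 4 n26984 = n22803 := d18_1 D26984 (iv D22803) (iv F44813)
theorem F56310 : act 6 n26984 = n23096 := d20_2 (iv F45854) D26984 (iv D23096) D23097 (iv F46088) F46089 F45853
def n26985 : Q := act 0 n22758
theorem D26985 : act 0 n22758 = n26985 := rfl
theorem F56311 : act 3 n26985 = n22766 := d2_2 (iv F44831) D26985 (iv D22766)
theorem F56312 : act 4 n26985 = n23105 := d3_2 (iv F44832) D26985 (iv D23105)
theorem F56313 : act 6 n26985 = n22759 := d5_2 (iv F44833) D26985 (iv D22759)
def n26986 : Q := act 2 n22758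
theorem D26986 : act 2 n22758 = n26986 := rfl
theorem F56314 : act 4 n26986 = n23106 := d12_2 (iv F44832) D26986 (iv D23106)
theorem F56315 : act 6 n26986 = n22760 := d14_2 (iv F44833) D26986 (iv D22760)
def n26987 : Q := act 5 n22758
theorem D26987 : act 5 n22758 = n26987 := rfl
theorem F56316 : act 1 n26987 = n25730 := d9_1 D26987 F52792 (iv D22784) F31856 D22758
theorem F56317 : act 3 n26987 = n22768 := d16_1 D26987 (iv D22768) (iv F44831)
theorem F56318 : act 4 n26987 = n23107 := d18_1 D26987 (iv D23107) (iv F44832)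
def n26988 : Q := act 1 n22759
theorem D26988 : act 1 n22759 = n26988 := rfl
theorem F56319 : act 3 n26988 = n22769 := d7_2 (iv F44834) D26988 (iv D22769)
theorem F56320 : act 4 n26988 = n23108 := d8_2 (iv F44835) D26988 (iv D23108)
theorem F56321 : act 5 n23176 = n26988 := d18_0 F56320 F52616 F52614
def n26989 : Q := act 2 n22759
theorem D26989 : act 2 n22759 = n26989 := rfl
theorem F56322 : act 0 n26989 = n22760 := d1_1 D26989 (iv D22760) D22759
theorem F56323 : act 4 n26989 = n23109 := d12_2 (iv F44835) D26989 (iv D23109)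
theorem F56324 : act 3 n26989 = n25771 := d21_1 D26989 F53947 F50667 F44866 (iv D22772) (iv D18202) (iv F31825) D22759
def n26990 : Q := act 5 n22759
theorem D26990 : act 5 n22759 = n26990 := rfl
theorem F56325 : act 0 n26990 = n22761 := d4_1 D26990 (iv D22761) D22759
theorem F56326 : act 1 n26990 = n23122 := d9_1 D26990 F45918 (iv F46046) F56321 (iv D26988)
theorem F56327 : act 3 n26990 = n22771 := d16_1 D26990 (iv D22771) (iv F44834)
theorem F56328 : act 4 n26990 = n23110 := d18_1 D26990 (iv D23110) (iv F44835)
theorem F56329 : act 6 n26990 = n26987 := d22_1 D26990 (iv D26987) F44833 D22759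
def n26991 : Q := act 3 n22760
theorem D26991 : act 3 n22760 = n26991 := rfl
theorem F56330 : act 0 n26991 = n25771 := d2_1 D26991 (iv F56324) F56322
theorem F56331 : act 4 n26991 = n25768 := d15_2 (iv F44836) D26991 (iv D25768) F45899 (iv D23111)
def n26992 : Q := act 5 n22760
theorem D26992 : act 5 n22760 = n26992 := rfl
theorem F56332 : act 2 n26992 = n22761 := d13_1 D26992 (iv D22761) D22760
theorem F56333 : act 4 n26992 = n23112 := d18_1 D26992 (iv D23112) (iv F44836)
def n26993 : Q := act 6 n22761
theorem D26993 : act 6 n22761 = n26993 := rfl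
theorem F56334 : act 0 n26993 = n26987 := d5_1 D26993 (iv F56329) F56325
theorem F56335 : act 3 n26993 = n22774 := d17_1 D26993 (iv D22774) (iv F44838)
theorem F56336 : act 4 n26993 = n23113 := d19_1 D26993 (iv D23113) (iv F44839)
theorem F56337 : act 5 n26993 = n26985 := d20_1 D26993 F56313 D26990 F56329 (iv D26987) F44833 D22761
def n26994 : Q := act 0 n22762
theorem D26994 : act 0 n22762 = n26994 := rfl
theorem F56338 : act 3 n26994 = n22775 := d2_2 (iv F44840) D26994 (iv D22775)
theorem F56339 : act 4 n26994 = n23117 := d3_2 (iv F44841) D26994 (iv D23117)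
theorem F56340 : act 5 n26994 = n22763 := d4_2 (iv F44842) D26994 (iv D22763)
def n26995 : Q := act 2 n22762
theorem D26995 : act 2 n22762 = n26995 := rfl
theorem F56341 : act 4 n26995 = n23118 := d12_2 (iv F44841) D26995 (iv D23118)
theorem F56342 : act 5 n26995 = n22764 := d13_2 (iv F44842) D26995 (iv D22764)
def n26996 : Q := act 6 n22762
theorem D26996 : act 6 n22762 = n26996 := rfl
theorem F56343 : act 1 n26996 = n25625 := d10_1 D26996 F52615 (iv D22787) F31872 D22762
theorem F56344 : act 3 n26996 = n22777 := d17_1 D26996 (iv D22777) (iv F44840)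
theorem F56345 : act 4 n26996 = n23119 := d19_1 D26996 (iv D23119) (iv F44841)
def n26997 : Q := act 1 n22763
theorem D26997 : act 1 n22763 = n26997 := rfl
theorem F56346 : act 3 n26997 = n22778 := d7_2 (iv F44843) D26997 (iv D22778)
theorem F56347 : act 4 n26997 = n23120 := d8_2 (iv F44844) D26997 (iv D23120)
theorem F56348 : act 6 n23160 = n26997 := d19_0 F56347 F52793 F52791
def n26998 : Q := act 2 n22763
theorem D26998 : act 2 n22763 = n26998 := rfl
theorem F56349 : act 0 n26998 = n22764 := d1_1 D26998 (iv D22764) D22763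
theorem F56350 : act 4 n26998 = n23121 := d12_2 (iv F44844) D26998 (iv D23121)
theorem F56351 : act 3 n26998 = n25667 := d21_1 D26998 F53355 F50747 F44890 (iv D22781) (iv D18207) (iv F31837) D22763
def n26999 : Q := act 6 n22763
theorem D26999 : act 6 n22763 = n26999 := rfl
theorem F56352 : act 0 n26999 = n22765 := d5_1 D26999 (iv D22765) D22763
theorem F56353 : act 1 n26999 = n23110 := d10_1 D26999 F45896 (iv F46014) F56348 (iv D26997)
theorem F56354 : act 3 n26999 = n22780 := d17_1 D26999 (iv D22780) (iv F44843)
theorem F56355 : act 4 n26999 = n23122 := d19_1 D26999 (iv D23122) (iv F44844)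
theorem F56356 : act 5 n26999 = n26996 := d22_2 F56340 D26999 (iv D26996) D26994
def n27000 : Q := act 3 n22764
theorem D27000 : act 3 n22764 = n27000 := rfl
theorem F56357 : act 0 n27000 = n25667 := d2_1 D27000 (iv F56351) F56349
theorem F56358 : act 4 n27000 = n25664 := d15_2 (iv F44845) D27000 (iv D25664) F45921 (iv D23123)
def n27001 : Q := act 6 n22764
theorem D27001 : act 6 n22764 = n27001 := rfl
theorem F56359 : act 2 n27001 = n22765 := d14_1 D27001 (iv D22765) D22764
theorem F56360 : act 4 n27001 = n23124 := d19_1 D27001 (iv D23124) (iv F44845)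
def n27002 : Q := act 5 n22765
theorem D27002 : act 5 n22765 = n27002 := rfl
theorem F56361 : act 0 n27002 = n26996 := d4_1 D27002 (iv F56356) F56352
theorem F56362 : act 3 n27002 = n22783 := d16_1 D27002 (iv D22783) (iv F44847)
theorem F56363 : act 4 n27002 = n23125 := d18_1 D27002 (iv D23125) (iv F44848)
theorem F56364 : act 6 n27002 = n26994 := d20_2 D22765 D27002 F56340 D26999 F56356 (iv D26996) F44842
def n27003 : Q := act 1 n22766
theorem D27003 : act 1 n22766 = n27003 := rfl
theorem F56365 : act 0 n27003 = n23072 := d0_1 D27003 (iv D23072) (iv F33526) F44926 (iv D22793) (iv D18217) F23463 D18200 D22766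
theorem F56366 : act 4 n27003 = n22805 := d8_2 (iv F44849) D27003 (iv D22805)
theorem F56367 : act 5 n27003 = n23073 := d9_2 F44872 D27003 (iv F46216) (iv F46224) F46222
theorem F56368 : act 6 n27003 = n22931 := d10_2 (iv F44850) D27003 F46297 (iv F46296) (iv D22769)
theorem F56369 : act 2 n22932 = n27003 := d23_1 (iv F45378) (iv D27003) (iv D22766) D22768 F44855 F36245 F24697 F24536 F24535 (iv F24424) F35457 (iv F33833) F33831 D18900 (iv F45783) (iv D23070) D23069 (iv F45800) F45799
def n27004 : Q := act 2 n22766
theorem D27004 : act 2 n22766 = n27004 := rfl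
theorem F56370 : act 0 n27004 = n22767 := d1_1 D27004 (iv D22767) D22766
theorem F56371 : act 4 n27004 = n22806 := d12_2 (iv F44849) D27004 (iv D22806)
theorem F56372 : act 5 n27004 = n23761 := d13_2 F44872 D27004 F47529
theorem F56373 : act 6 n27004 = n22770 := d14_2 (iv F44850) D27004 (iv D22770)
def n27005 : Q := act 2 n22769
theorem D27005 : act 2 n22769 = n27005 := rfl
theorem F56374 : act 0 n27005 = n25036 := d1_1 D27005 F51023 F46302
theorem F56375 : act 4 n27005 = n22807 := d12_2 (iv F44857) D27005 (iv D22807)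
theorem F56376 : act 5 n27005 = n23295 := d13_2 F44858 D27005 F46335
theorem F56377 : act 6 n27005 = n22930 := d14_2 (iv F46296) D27005 (iv F46298)
def n27006 : Q := act 1 n22770
theorem D27006 : act 1 n22770 = n27006 := rfl
theorem F56378 : act 4 n27006 = n22808 := d8_2 (iv F44860) D27006 (iv D22808)
def n27007 : Q := act 3 n22770
theorem D27007 : act 3 n22770 = n27007 := rfl
theorem F56379 : act 0 n27007 = n22772 := d2_1 D27007 (iv D22772) (iv F44859)
theorem F56380 : act 4 n27007 = n24407 := d15_2 (iv F44860) D27007 F49409 F47549 F36257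
theorem F56381 : act 5 n27007 = n24406 := d16_2 (iv F47546) D27007 F49405
theorem F56382 : act 2 n24928 = n27007 := d21_0 (iv D27007) (iv D22770) (iv F44834) D26989 F56324 F53947 F50667 D24928
def n27008 : Q := act 5 n22772
theorem D27008 : act 5 n22772 = n27008 := rfl
theorem F56383 : act 0 n27008 = n24406 := d4_1 D27008 (iv F56381) F56379
theorem F56384 : act 2 n27008 = n24929 := d13_1 D27008 (iv D24929) F44866
theorem F56385 : act 3 n27008 = n22773 := d16_1 D27008 (iv D22773) D22772
theorem F56386 : act 4 n27008 = n24404 := d18_1 D27008 F49398 F44867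
theorem F56387 : act 6 n27008 = n24402 := d22_3 D24405 (iv F49404) D27008 F49390
def n27009 : Q := act 1 n22775
theorem D27009 : act 1 n22775 = n27009 := rfl
theorem F56388 : act 0 n27009 = n23067 := d0_1 D27009 (iv D23067) (iv F33515) F44941 (iv D22799) (iv D18223) F23472 D18205 D22775
theorem F56389 : act 4 n27009 = n22811 := d8_2 (iv F44873) D27009 (iv D22811)
theorem F56390 : act 5 n27009 = n22902 := d9_2 (iv F44874) D27009 (iv F46112) F46111 (iv D22778)
theorem F56391 : act 6 n27009 = n23068 := d10_2 F44896 D27009 (iv F46385) (iv F46393) F46391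
theorem F56392 : act 2 n22903 = n27009 := d23_1 D22903 (iv D27009) (iv D22775) F31847 D18207 (iv F44766) (iv F55504) F55507 (iv D26746) (iv D22327) F29966 (iv D15302) F20730 F14327 (iv F14386) D11763 (iv F20958) D15573 (iv F35063)
def n27010 : Q := act 2 n22775
theorem D27010 : act 2 n22775 = n27010 := rfl
theorem F56393 : act 0 n27010 = n22776 := d1_1 D27010 (iv D22776) D22775
theorem F56394 : act 4 n27010 = n22812 := d12_2 (iv F44873) D27010 (iv D22812)
theorem F56395 : act 5 n27010 = n22779 := d13_2 (iv F44874) D27010 (iv D22779)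
theorem F56396 : act 6 n27010 = n23785 := d14_2 F44896 D27010 F47606
def n27011 : Q := act 2 n22778
theorem D27011 : act 2 n22778 = n27011 := rfl
theorem F56397 : act 0 n27011 = n25015 := d1_1 D27011 (iv F50947) F46117
theorem F56398 : act 4 n27011 = n22813 := d12_2 (iv F44881) D27011 (iv D22813)
theorem F56399 : act 5 n27011 = n22901 := d13_2 F46111 D27011 F46113
theorem F56400 : act 6 n27011 = n23221 := d14_2 F44882 D27011 F46155
def n27012 : Q := act 1 n22779
theorem D27012 : act 1 n22779 = n27012 := rfl
theorem F56401 : act 4 n27012 = n22814 := d8_2 (iv F44884) D27012 (iv D22814)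
def n27013 : Q := act 3 n22779
theorem D27013 : act 3 n22779 = n27013 := rfl
theorem F56402 : act 0 n27013 = n22781 := d2_1 D27013 (iv D22781) (iv F44883)
theorem F56403 : act 4 n27013 = n24416 := d15_2 (iv F44884) D27013 F49437 F47626 F36357
theorem F56404 : act 6 n27013 = n24414 := d17_2 F47623 D27013 F49428
theorem F56405 : act 2 n24960 = n27013 := d21_0 (iv D27013) (iv D22779) (iv F44843) D26998 F56351 F53355 F50747 D24960
def n27014 : Q := act 6 n22781
theorem D27014 : act 6 n22781 = n27014 := rfl
theorem F56406 : act 0 n27014 = n24414 := d5_1 D27014 (iv F56404) F56402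
theorem F56407 : act 2 n27014 = n24961 := d14_1 D27014 (iv D24961) F44890
theorem F56408 : act 3 n27014 = n22782 := d17_1 D27014 (iv D22782) D22781
theorem F56409 : act 4 n27014 = n24412 := d19_1 D27014 F49423 F44891
theorem F56410 : act 5 n24411 = n27014 := d22_0 (iv D27014) F49434 (iv D24415) (iv F49418)
def n27015 : Q := act 2 n22784
theorem D27015 : act 2 n22784 = n27015 := rfl
theorem F56411 : act 1 n27015 = n24659 := d6_1 D27015 (iv D24659) (iv D20265) (iv F31853) D22784
theorem F56412 : act 4 n27015 = n23159 := d12_2 (iv F44898) D27015 (iv D23159)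
def n27016 : Q := act 0 n22786
theorem D27016 : act 0 n22786 = n27016 := rfl
theorem F56413 : act 3 n27016 = n22793 := d2_2 (iv F44905) D27016 (iv D22793)
theorem F56414 : act 4 n27016 = n23164 := d3_2 (iv F44906) D27016 (iv D23164)
theorem F56415 : act 1 n23087 = n27016 := d8_3 F56414 F56302 F56300
def n27017 : Q := act 2 n22786
theorem D27017 : act 2 n22786 = n27017 := rfl
theorem F56416 : act 1 n27017 = n24030 := d6_1 D27017 F48435 F38404 F38400 D22786
theorem F56417 : act 4 n27017 = n23165 := d12_2 (iv F44906) D27017 (iv D23165)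
theorem F56418 : act 5 n27017 = n25369 := d13_2 F46076 D27017 F52056
def n27018 : Q := act 6 n22786
theorem D27018 : act 6 n22786 = n27018 := rfl
theorem F56419 : act 1 n27018 = n25887 := d10_1 D27018 (iv D25887) F41661 (iv F31864) D22786
theorem F56420 : act 3 n27018 = n22795 := d17_1 D27018 (iv D22795) (iv F44905)
theorem F56421 : act 4 n27018 = n23166 := d19_1 D27018 (iv D23166) (iv F44906)
def n27019 : Q := act 2 n22787
theorem D27019 : act 2 n22787 = n27019 := rfl
theorem F56422 : act 1 n27019 = n24681 := d6_1 D27019 (iv D24681) (iv D20284) (iv F31869) D22787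
theorem F56423 : act 4 n27019 = n23175 := d12_2 (iv F44908) D27019 (iv D23175)
def n27020 : Q := act 0 n22789
theorem D27020 : act 0 n22789 = n27020 := rfl
theorem F56424 : act 3 n27020 = n22799 := d2_2 (iv F44915) D27020 (iv D22799)
theorem F56425 : act 4 n27020 = n23180 := d3_2 (iv F44916) D27020 (iv D23180)
theorem F56426 : act 1 n23081 = n27020 := d8_3 F56425 F56286 F56284
def n27021 : Q := act 2 n22789
theorem D27021 : act 2 n22789 = n27021 := rfl
theorem F56427 : act 1 n27021 = n24022 := d6_1 D27021 F48407 (iv F38459) F38455 D22789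
theorem F56428 : act 4 n27021 = n23181 := d12_2 (iv F44916) D27021 (iv D23181)
theorem F56429 : act 6 n27021 = n25359 := d14_2 F46036 D27021 F52041
def n27022 : Q := act 5 n22789
theorem D27022 : act 5 n22789 = n27022 := rfl
theorem F56430 : act 1 n27022 = n26125 := d9_1 D27022 (iv D26125) F42006 (iv F31880) D22789
theorem F56431 : act 3 n27022 = n22801 := d16_1 D27022 (iv D22801) (iv F44915)
theorem F56432 : act 4 n27022 = n23182 := d18_1 D27022 (iv D23182) (iv F44916)
def n27023 : Q := act 2 n22790
theorem D27023 : act 2 n22790 = n27023 := rfl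
theorem F56433 : act 0 n27023 = n22791 := d1_1 D27023 (iv D22791) D22790
theorem F56434 : act 4 n27023 = n22820 := d12_2 (iv F44917) D27023 (iv D22820)
theorem F56435 : act 5 n27023 = n23677 := d13_2 (iv F45025) D27023 F47284
def n27024 : Q := act 3 n22791
theorem D27024 : act 3 n22791 = n27024 := rfl
theorem F56436 : act 1 n27024 = n27024 := d7_1 D27024 (iv D27024) F44918
theorem F56437 : act 4 n27024 = n23385 := d15_2 (iv F44919) D27024 F46544 F33914 (iv F35985)
theorem F56438 : act 5 n27024 = n23384 := d16_2 F44920 D27024 F46542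
def n27025 : Q := act 5 n22795
theorem D27025 : act 5 n22795 = n27025 := rfl
theorem F56439 : act 0 n27025 = n23333 := d4_1 D27025 F46429 (iv F45964)
theorem F56440 : act 4 n27025 = n22822 := d18_1 D27025 (iv D22822) (iv F44931)
theorem F56441 : act 6 n27025 = n23332 := d20_2 D22795 D27025 F46426 (iv F45963) (iv F46429) (iv D23333) F33844
def n27026 : Q := act 2 n22796
theorem D27026 : act 2 n22796 = n27026 := rfl
theorem F56442 : act 0 n27026 = n22797 := d1_1 D27026 (iv D22797) D22796
theorem F56443 : act 4 n27026 = n22826 := d12_2 (iv F44932) D27026 (iv D22826)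
theorem F56444 : act 6 n27026 = n23729 := d14_2 F45014 D27026 F47429
def n27027 : Q := act 3 n22797
theorem D27027 : act 3 n22797 = n27027 := rfl
theorem F56445 : act 1 n27027 = n27027 := d7_1 D27027 (iv D27027) F44933
theorem F56446 : act 4 n27027 = n23445 := d15_2 (iv F44934) D27027 F46680 F33994 (iv F36131)
theorem F56447 : act 6 n27027 = n23443 := d17_2 F44935 D27027 F46677
def n27028 : Q := act 6 n22801
theorem D27028 : act 6 n22801 = n27028 := rfl
theorem F56448 : act 0 n27028 = n23263 := d5_1 D27028 F46261 (iv F46004)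
theorem F56449 : act 1 n27028 = n27025 := d10_1 D27028 F56441 F46424 (iv F42025) (iv F44945)
theorem F56450 : act 4 n27028 = n22827 := d19_1 D27028 (iv D22827) (iv F44946)
theorem F56451 : act 5 n27028 = n23262 := d20_1 D27028 F46258 (iv F46003) (iv F46261) (iv D23263) F33761 D22801
def n27029 : Q := act 0 n22808
theorem D27029 : act 0 n22808 = n27029 := rfl
theorem F56452 : act 2 n27029 = n23522 := d1_2 (iv F45496) D27029 F46842
theorem F56453 : act 5 n27029 = n23521 := d22_0 (iv D23521) (iv F45494) F45497 D27029
def n27030 : Q := act 5 n22808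
theorem D27030 : act 5 n22808 = n27030 := rfl
theorem F56454 : act 0 n27030 = n23521 := d4_1 D27030 (iv F56453) (iv D27029)
theorem F56455 : act 1 n27030 = n25178 := d9_1 D27030 F51523 F47516 (iv F36249) D22808
theorem F56456 : act 2 n27030 = n23520 := d13_1 D27030 F46840 (iv F45496)
theorem F56457 : act 3 n27030 = n25177 := d16_1 D27030 F51520 F47551
theorem F56458 : act 6 n27030 = n23519 := d22_3 (iv F45494) F45497 D27030 F46838
def n27031 : Q := act 0 n22814
theorem D27031 : act 0 n22814 = n27031 := rfl
theorem F56459 : act 2 n27031 = n23509 := d1_2 (iv F45471) D27031 F46814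
theorem F56460 : act 6 n23508 = n27031 := d22_3 (iv F45472) F45469 D23508 (iv D27031)
def n27032 : Q := act 6 n22814
theorem D27032 : act 6 n22814 = n27032 := rfl
theorem F56461 : act 0 n27032 = n23508 := d5_1 D27032 F56460 (iv D27031)
theorem F56462 : act 1 n27032 = n25225 := d10_1 D27032 F51679 F47593 F36349 D22814
theorem F56463 : act 2 n27032 = n23507 := d14_1 D27032 F46809 (iv F45471)
theorem F56464 : act 3 n27032 = n25224 := d17_1 D27032 F51676 F47628
theorem F56465 : act 5 n23506 = n27032 := d22_0 (iv D27032) (iv F45472) F45469 (iv F46807)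
def n27033 : Q := act 1 n22820
theorem D27033 : act 1 n22820 = n27033 := rfl
theorem F56466 : act 2 n27033 = n23035 := d6_2 D22820 D27033 F45672 F45020 (iv D22819)
theorem F56467 : act 3 n27033 = n23678 := d7_2 (iv F45028) D27033 (iv D23678)
theorem F56468 : act 6 n27033 = n23034 := d10_2 F46857 D27033 F45669 (iv F47385) (iv F47404)
theorem F56469 : act 0 n27033 = n23037 := d23_3 (iv D22821) D22820 D27033 (iv F45680) (iv D20796) (iv D15499) F32486 (iv F32488) F32487 (iv F32489) (iv F33115) F33117 (iv F45505) F45504 F44966 (iv F35980) (iv F35983) (iv F31970) (iv F45030)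
theorem F56470 : act 5 n25128 = n27033 := d24_1 (iv F51353) (iv D27033) (iv F46857) (iv D23526) D23525 F46853 (iv F47244) (iv D23659) (iv F46980) (iv F46982) F46977 (iv D22228) D22227 (iv F45675)
def n27034 : Q := act 1 n22826
theorem D27034 : act 1 n22826 = n27034 := rfl
theorem F56471 : act 2 n27034 = n23010 := d6_2 D22826 D27034 F45588 (iv F45052) (iv D22825)
theorem F56472 : act 3 n27034 = n23731 := d7_2 (iv F45054) D27034 (iv D23731)
theorem F56473 : act 5 n27034 = n23009 := d9_2 F46829 D27034 (iv F45585) (iv F47247) (iv F47248)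
theorem F56474 : act 0 n27034 = n23011 := d23_3 (iv F35530) D22826 D27034 (iv D23011) (iv D18583) (iv D13562) (iv D10777) D10779 (iv F23820) F23819 (iv F24548) (iv D14045) (iv F24537) (iv F34648) F27908 D16135 F34650 D18279 (iv F35529)
theorem F56475 : act 6 n27034 = n25159 := d24_3 D23513 F46829 D27034 F51462 F45594 (iv D22242) D22241 F47018 (iv F47017) (iv F47007) D23711 F47381 (iv F46825) (iv D23512)
def n27035 : Q := act 1 n22841
theorem D27035 : act 1 n22841 = n27035 := rfl
theorem F56476 : act 3 n27035 = n26482 := d7_2 (iv F45122) D27035 (iv D26482)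
theorem F56477 : act 4 n27035 = n25378 := d8_2 (iv F45123) D27035 (iv D25378)
theorem F56478 : act 5 n27035 = n25845 := d9_2 F50807 D27035 (iv D25845) (iv F51144) F51140
theorem F56479 : act 6 n27035 = n22843 := d10_2 D22841 D27035 (iv D22843) (iv D18333) D18331
theorem F56480 : act 2 n26797 = n27035 := d14_3 F56479 F45129 D26797
def n27036 : Q := act 0 n22844
theorem D27036 : act 0 n22844 = n27036 := rfl
def n27037 : Q := act 2 n22844
theorem D27037 : act 2 n22844 = n27037 := rfl
theorem F56481 : act 1 n27037 = n22845 := d6_1 D27037 (iv D22845) (iv D18338) (iv F32164) D22844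
theorem F56482 : act 6 n27037 = n23734 := d14_2 F53169 D27037 (iv F53166)
theorem F56483 : act 3 n27037 = n25263 := d25_3 (iv F55035) F55034 D27037 F51807 (iv D25215) (iv F45149) (iv D22851) F32411 F32509 F35378 (iv F45521) (iv F50956) F50957 (iv F39106) F30084 (iv F43765) (iv F44313) F44314 (iv D20796) (iv D15499) F20880 F14478 F7150 (iv F17019) (iv F32520) F3710 (iv F32610) (iv F4412) (iv F32737) (iv F16699) (iv F32734) (iv D2873) (iv D1393) (iv F2157) D2637 (iv F16772) (iv F32928) (iv D3882) F3015 D1931 (iv F32868) (iv D3755) (iv D1810) (iv F2897) (iv F17075) (iv F16954) F2896 (iv F2933) F32669 (iv F32651) D4016 F32719 F32653 D14118 F34973 F34975 (iv D15890) F21203 (iv F24625) (iv F36181) F36180 (iv F30124) (iv F43931) F43930 F43927 F30116 D19645 F44707 (iv D22715) (iv F44574) (iv F56123) F56122 F47568 F36961 (iv F42586) F42585 (iv F43084)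
def n27038 : Q := act 1 n22846
theorem D27038 : act 1 n22846 = n27038 := rfl
theorem F56484 : act 3 n27038 = n26487 := d7_2 (iv F45134) D27038 (iv D26487)
theorem F56485 : act 4 n27038 = n25390 := d8_2 (iv F45135) D27038 (iv D25390)
theorem F56486 : act 5 n27038 = n22849 := d9_2 D22846 D27038 (iv D22849) (iv D18345) D18343
theorem F56487 : act 6 n27038 = n26086 := d10_2 F50870 D27038 (iv D26086) (iv F51255) F51251
theorem F56488 : act 2 n26675 = n27038 := d13_3 F56486 F45146 D26675
def n27039 : Q := act 0 n22850
theorem D27039 : act 0 n22850 = n27039 := rfl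
def n27040 : Q := act 2 n22850
theorem D27040 : act 2 n22850 = n27040 := rfl
theorem F56489 : act 1 n27040 = n22851 := d6_1 D27040 (iv D22851) (iv D18351) (iv F32177) D22850
theorem F56490 : act 5 n27040 = n23682 := d13_2 F53758 D27040 (iv F53755)
theorem F56491 : act 3 n27040 = n25215 := d25_3 (iv F55531) F55530 D27040 (iv F51807) (iv D25263) (iv F45132) (iv D22845) F34995 F32891 (iv F34994) (iv F45531) (iv F51033) F51034 F39400 F29832 (iv F43213) (iv F44475) F44476 (iv D20847) (iv D15578) F20967 F14590 F7208 F16499 F32702 F3735 F32700 (iv F4495) (iv F32671) F16699 (iv F32788) (iv D2818) (iv D1363) (iv F2131) D2594 F17083 (iv F32800) (iv D3905) F3029 D1954 F32711 (iv D3774) (iv D1818) (iv F2902) F17150 F16954 F2901 (iv F2941) (iv F32809) (iv F32863) D4065 F32803 (iv F32817) D14175 F34923 (iv F34975) (iv D15924) F21235 (iv F34872) (iv F36194) F36198 F34828 (iv F44077) F44076 F44073 F30225 D19653 F44603 (iv D22679) (iv F44523) D26928 F56096 F47492 F36971 (iv F42613) F42612 (iv F43644)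
def n27041 : Q := act 1 n22858
theorem D27041 : act 1 n22858 = n27041 := rfl
theorem F56492 : act 3 n27041 = n22859 := d7_2 (iv F45168) D27041 (iv D22859)
theorem F56493 : act 6 n27041 = n23129 := d10_2 D22858 D27041 (iv D23129) (iv D18754) (iv F32221)
def n27042 : Q := act 0 n22859
theorem D27042 : act 0 n22859 = n27042 := rfl
theorem F56494 : act 4 n27042 = n22968 := d3_2 (iv F45169) D27042 (iv D22968)
theorem F56495 : act 6 n27042 = n23130 := d5_2 (iv F45170) D27042 (iv D23130)
def n27043 : Q := act 2 n22859
theorem D27043 : act 2 n22859 = n27043 := rfl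
theorem F56496 : act 1 n27043 = n22861 := d6_1 D27043 (iv D22861) (iv D18371) (iv F32223) D22859
theorem F56497 : act 4 n27043 = n22969 := d12_2 (iv F45169) D27043 (iv D22969)
theorem F56498 : act 6 n27043 = n23131 := d14_2 (iv F45170) D27043 (iv D23131)
theorem F56499 : act 3 n24851 = n27043 := d17_3 F56498 (iv F45940) (iv F50503)
theorem F56500 : act 5 n27012 = n27043 := d18_0 F56497 F45472 (iv F56401)
def n27044 : Q := act 5 n22859
theorem D27044 : act 5 n22859 = n27044 := rfl
theorem F56501 : act 1 n27044 = n27011 := d9_1 D27044 F56399 (iv D22901) F32301 D22859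
theorem F56502 : act 2 n27044 = n27012 := d13_1 D27044 F56500 (iv D27043)
theorem F56503 : act 4 n27044 = n22970 := d18_1 D27044 (iv D22970) (iv F45169)
def n27045 : Q := act 2 n22860
theorem D27045 : act 2 n22860 = n27045 := rfl
theorem F56504 : act 0 n27045 = n22861 := d1_1 D27045 (iv D22861) D22860
theorem F56505 : act 4 n27045 = n22971 := d12_2 (iv F45171) D27045 (iv D22971)
theorem F56506 : act 6 n27045 = n22863 := d14_2 (iv F45172) D27045 (iv D22863)
theorem F56507 : act 1 n25958 = n27045 := d10_5 F56506 (iv F51470) F53328 F53326 D25958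
theorem F56508 : act 3 n25959 = n27045 := d17_3 F56506 (iv F50384) (iv F53347)
def n27046 : Q := act 5 n22861
theorem D27046 : act 5 n22861 = n27046 := rfl
theorem F56509 : act 1 n27046 = n27010 := d9_1 D27046 F56395 D27012 F56500 F56496
theorem F56510 : act 2 n27046 = n22862 := d13_1 D27046 (iv D22862) D22861
theorem F56511 : act 4 n27046 = n22973 := d18_1 D27046 (iv D22973) (iv F45173)
def n27047 : Q := act 5 n22863
theorem D27047 : act 5 n22863 = n27047 := rfl
theorem F56512 : act 0 n27047 = n22865 := d4_1 D27047 (iv D22865) (iv F45176)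
theorem F56513 : act 2 n27047 = n22864 := d13_1 D27047 (iv D22864) D22863
theorem F56514 : act 4 n27047 = n22974 := d18_1 D27047 (iv D22974) (iv F45177)
theorem F56515 : act 6 n27047 = n27046 := d22_1 D27047 (iv D27046) F45174 (iv F45176)
def n27048 : Q := act 6 n22865
theorem D27048 : act 6 n22865 = n27048 := rfl
theorem F56516 : act 0 n27048 = n27046 := d5_1 D27048 (iv F56515) F56512
theorem F56517 : act 2 n27048 = n22866 := d14_1 D27048 (iv D22866) (iv F45182)
theorem F56518 : act 4 n27048 = n22976 := d19_1 D27048 (iv D22976) (iv F45183)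
theorem F56519 : act 5 n27048 = n27045 := d20_1 D27048 F56506 D27047 F56515 (iv D27046) F45174 D22865
def n27049 : Q := act 1 n22869
theorem D27049 : act 1 n22869 = n27049 := rfl
theorem F56520 : act 3 n27049 = n22870 := d7_2 (iv F45196) D27049 (iv D22870)
theorem F56521 : act 5 n27049 = n23144 := d9_2 D22869 D27049 (iv D23144) (iv D18772) (iv F32236)
def n27050 : Q := act 0 n22870
theorem D27050 : act 0 n22870 = n27050 := rfl
theorem F56522 : act 4 n27050 = n22977 := d3_2 (iv F45197) D27050 (iv D22977)
theorem F56523 : act 5 n27050 = n23145 := d4_2 (iv F45198) D27050 (iv D23145)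
def n27051 : Q := act 2 n22870
theorem D27051 : act 2 n22870 = n27051 := rfl
theorem F56524 : act 1 n27051 = n22872 := d6_1 D27051 (iv D22872) (iv D18379) (iv F32238) D22870
theorem F56525 : act 4 n27051 = n22978 := d12_2 (iv F45197) D27051 (iv D22978)
theorem F56526 : act 5 n27051 = n23146 := d13_2 (iv F45198) D27051 (iv D23146)
theorem F56527 : act 3 n24902 = n27051 := d16_3 F56526 (iv F45979) (iv F50603)
theorem F56528 : act 6 n27006 = n27051 := d19_0 F56525 F45497 (iv F56378)
def n27052 : Q := act 6 n22870
theorem D27052 : act 6 n22870 = n27052 := rfl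
theorem F56529 : act 1 n27052 = n27005 := d10_1 D27052 F56377 (iv D22930) F32340 D22870
theorem F56530 : act 2 n27052 = n27006 := d14_1 D27052 F56528 (iv D27051)
theorem F56531 : act 4 n27052 = n22979 := d19_1 D27052 (iv D22979) (iv F45197)
def n27053 : Q := act 2 n22871
theorem D27053 : act 2 n22871 = n27053 := rfl
theorem F56532 : act 0 n27053 = n22872 := d1_1 D27053 (iv D22872) D22871
theorem F56533 : act 4 n27053 = n22980 := d12_2 (iv F45199) D27053 (iv D22980)
theorem F56534 : act 5 n27053 = n22874 := d13_2 (iv F45200) D27053 (iv D22874)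
theorem F56535 : act 1 n27053 = n26193 := d23_2 (iv F45200) D27053 (iv F53971) F53973 (iv F53934) (iv D25052) (iv F39233) (iv D20672) (iv F39222) (iv F45866) F45862 (iv D18730) (iv D13668) (iv D10837) F11937 D8005 (iv F19026) D13423 D18380
theorem F56536 : act 3 n26194 = n27053 := d7_0 F56535 F53935 D26194
def n27054 : Q := act 6 n22872
theorem D27054 : act 6 n22872 = n27054 := rfl
theorem F56537 : act 1 n27054 = n27004 := d10_1 D27054 F56373 D27006 F56528 F56524
theorem F56538 : act 2 n27054 = n22873 := d14_1 D27054 (iv D22873) D22872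
theorem F56539 : act 4 n27054 = n22982 := d19_1 D27054 (iv D22982) (iv F45201)
def n27055 : Q := act 6 n22874
theorem D27055 : act 6 n22874 = n27055 := rfl
theorem F56540 : act 0 n27055 = n22876 := d5_1 D27055 (iv D22876) (iv F45204)
theorem F56541 : act 2 n27055 = n22875 := d14_1 D27055 (iv D22875) D22874
theorem F56542 : act 4 n27055 = n22983 := d19_1 D27055 (iv D22983) (iv F45205)
theorem F56543 : act 5 n27055 = n27054 := d22_2 F56534 D27055 (iv D27054) (iv F56532)
def n27056 : Q := act 5 n22876
theorem D27056 : act 5 n22876 = n27056 := rfl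
theorem F56544 : act 0 n27056 = n27054 := d4_1 D27056 (iv F56543) F56540
theorem F56545 : act 2 n27056 = n22877 := d13_1 D27056 (iv D22877) (iv F45210)
theorem F56546 : act 4 n27056 = n22985 := d18_1 D27056 (iv D22985) (iv F45211)
theorem F56547 : act 6 n27056 = n27053 := d20_2 D22876 D27056 F56534 D27055 F56543 (iv D27054) F45202
def n27057 : Q := act 1 n22878
theorem D27057 : act 1 n22878 = n27057 := rfl
theorem F56548 : act 0 n27057 = n22916 := d0_1 D27057 F45334 F44328 (iv F39520) F45363 (iv D22925) (iv F39956) (iv F51299) F51298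
theorem F56549 : act 3 n27057 = n22896 := d7_2 (iv F45219) D27057 (iv D22896)
theorem F56550 : act 4 n27057 = n23010 := d8_2 (iv F45220) D27057 F45588
theorem F56551 : act 5 n27057 = n22914 := d9_2 (iv F45221) D27057 (iv F45400) F51308 (iv D25114)
theorem F56552 : act 6 n27057 = n22879 := d10_2 D22878 D27057 (iv D22879) (iv D18384) D18383
def n27058 : Q := act 2 n22879
theorem D27058 : act 2 n22879 = n27058 := rfl
theorem F56553 : act 0 n27058 = n25157 := d1_1 D27058 (iv D25157) F45224
theorem F56554 : act 1 n27058 = n25848 := d6_1 D27058 (iv D25848) (iv D21493) (iv F32252) D22879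
theorem F56555 : act 4 n27058 = n25159 := d12_2 (iv F45223) D27058 (iv D25159)
def n27059 : Q := act 5 n22880
theorem D27059 : act 5 n22880 = n27059 := rfl
theorem F56556 : act 0 n27059 = n25855 := d4_1 D27059 (iv F54675) F54671
theorem F56557 : act 1 n27059 = n25897 := d9_1 D27059 (iv F53185) (iv D25846) F41597 D22880
theorem F56558 : act 2 n27059 = n26544 := d13_1 D27059 (iv D26544) (iv F45225)
theorem F56559 : act 3 n27059 = n25844 := d16_1 D27059 (iv D25844) (iv F45226)
theorem F56560 : act 4 n27059 = n26546 := d18_1 D27059 (iv D26546) (iv F45227)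
theorem F56561 : act 6 n27059 = n25855 := d22_1 D27059 (iv F54675) F54674 F54671
def n27060 : Q := act 1 n22882
theorem D27060 : act 1 n22882 = n27060 := rfl
theorem F56562 : act 0 n27060 = n22942 := d0_1 D27060 F45398 (iv F51201) F51206 F49443 F37948 (iv F44057) (iv F45250) F45249
theorem F56563 : act 3 n27060 = n22912 := d7_2 (iv F45235) D27060 (iv D22912)
theorem F56564 : act 4 n27060 = n23032 := d8_2 (iv F45236) D27060 F45664
theorem F56565 : act 5 n27060 = n22883 := d9_2 D22882 D27060 (iv D22883) (iv D18387) D18386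
theorem F56566 : act 6 n27060 = n26918 := d10_2 F45248 D27060 (iv D26918) F44483 (iv F45244)
def n27061 : Q := act 6 n22883
theorem D27061 : act 6 n22883 = n27061 := rfl
theorem F56567 : act 0 n27061 = n22941 := d5_1 D27061 F45397 F45239
theorem F56568 : act 1 n27061 = n25048 := d10_1 D27061 (iv D25048) F39202 (iv F32263) D22883
theorem F56569 : act 3 n27061 = n22913 := d17_1 D27061 (iv D22913) (iv F45237)
theorem F56570 : act 4 n27061 = n23029 := d19_1 D27061 F45658 (iv F45238)
theorem F56571 : act 5 n27061 = n24197 := d20_1 D27061 F48829 (iv D22942) (iv F45397) (iv F56063) (iv F56566) F56565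
def n27062 : Q := act 1 n22887
theorem D27062 : act 1 n22887 = n27062 := rfl
theorem F56572 : act 0 n27062 = n22946 := d0_1 D27062 F45407 F44356 (iv F40001) F45294 (iv D22896) (iv F39463) D25115 F51313
theorem F56573 : act 3 n27062 = n22925 := d7_2 (iv F45256) D27062 (iv D22925)
theorem F56574 : act 4 n27062 = n23035 := d8_2 (iv F45257) D27062 F45672
theorem F56575 : act 5 n27062 = n22888 := d9_2 D22887 D27062 (iv D22888) (iv D18392) D18391
theorem F56576 : act 6 n27062 = n22943 := d10_2 (iv F45258) D27062 F45400 F51424 (iv D25147)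
def n27063 : Q := act 2 n22888
theorem D27063 : act 2 n22888 = n27063 := rfl
theorem F56577 : act 0 n27063 = n25126 := d1_1 D27063 (iv D25126) F45261
theorem F56578 : act 1 n27063 = n26088 := d6_1 D27063 (iv D26088) (iv D21652) (iv F32275) D22888
theorem F56579 : act 4 n27063 = n25128 := d12_2 (iv F45260) D27063 (iv D25128)
def n27064 : Q := act 6 n22889
theorem D27064 : act 6 n22889 = n27064 := rfl
theorem F56580 : act 0 n27064 = n26096 := d5_1 D27064 F54764 F54760
theorem F56581 : act 1 n27064 = n26132 := d10_1 D27064 (iv F53774) (iv D26089) F41947 D22889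
theorem F56582 : act 2 n27064 = n26514 := d14_1 D27064 (iv D26514) (iv F45262)
theorem F56583 : act 3 n27064 = n26085 := d17_1 D27064 (iv D26085) (iv F45263)
theorem F56584 : act 4 n27064 = n26517 := d19_1 D27064 (iv D26517) (iv F45264)
theorem F56585 : act 5 n27064 = n26096 := d22_2 F45265 D27064 F54764 F54760
def n27065 : Q := act 1 n22891
theorem D27065 : act 1 n22891 = n27065 := rfl
theorem F56586 : act 0 n27065 = n22913 := d0_1 D27065 F45329 (iv F51080) (iv F51085) F49506 F37990 (iv F44193) (iv F45287) F45286
theorem F56587 : act 3 n27065 = n22941 := d7_2 (iv F45272) D27065 (iv D22941)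
theorem F56588 : act 4 n27065 = n23007 := d8_2 (iv F45273) D27065 F45580
theorem F56589 : act 5 n27065 = n26899 := d9_2 F45285 D27065 (iv D26899) (iv F44363) (iv F45281)
theorem F56590 : act 6 n27065 = n22892 := d10_2 D22891 D27065 (iv D22892) (iv D18395) D18394
def n27066 : Q := act 5 n22892
theorem D27066 : act 5 n22892 = n27066 := rfl
theorem F56591 : act 0 n27066 = n22912 := d4_1 D27066 F45328 F45276
theorem F56592 : act 1 n27066 = n25082 := d9_1 D27066 (iv D25082) F39308 (iv F32286) D22892
theorem F56593 : act 3 n27066 = n22942 := d16_1 D27066 (iv D22942) (iv F45274)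
theorem F56594 : act 4 n27066 = n23004 := d18_1 D27066 F45573 (iv F45275)
theorem F56595 : act 6 n27066 = n24194 := d20_2 F56590 D27066 F48819 (iv D22913) (iv F45328) (iv F56000) (iv F56589)
def n27067 : Q := act 6 n22897
theorem D27067 : act 6 n22897 = n27067 := rfl
theorem F56596 : act 3 n27067 = n22898 := d17_1 D27067 (iv D22898) D22897
theorem F56597 : act 4 n27067 = n26082 := d19_1 D27067 F53643 F49804
def n27068 : Q := act 5 n22898
theorem D27068 : act 5 n22898 = n27068 := rfl
theorem F56598 : act 0 n27068 = n24420 := d4_1 D27068 (iv F50794) F50791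
theorem F56599 : act 2 n27068 = n24418 := d13_1 D27068 (iv F49457) F49454
theorem F56600 : act 4 n27068 = n22994 := d18_1 D27068 (iv D22994) (iv F45296)
theorem F56601 : act 6 n27068 = n24417 := d20_2 D22898 D27068 F49442 D24970 F50794 (iv D24420) F37941
def n27069 : Q := act 6 n22899
theorem D27069 : act 6 n22899 = n27069 := rfl
theorem F56602 : act 0 n27069 = n22904 := d5_1 D27069 (iv D22904) (iv F45297)
theorem F56603 : act 2 n27069 = n23343 := d14_1 D27069 F46466 F46444
theorem F56604 : act 3 n27069 = n22995 := d17_1 D27069 (iv D22995) (iv F45298)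
theorem F56605 : act 4 n27069 = n22900 := d19_1 D27069 (iv D22900) D22899
theorem F56606 : act 5 n27069 = n23340 := d20_1 D27069 (iv D23340) (iv F33860) D22904 (iv F50610) (iv D24904) (iv F45299)
def n27070 : Q := act 1 n22900
theorem D27070 : act 1 n22900 = n27070 := rfl
theorem F56607 : act 3 n27070 = n22901 := d7_2 (iv F45301) D27070 (iv D22901)
def n27071 : Q := act 3 n22902
theorem D27071 : act 3 n22902 = n27071 := rfl
theorem F56608 : act 0 n27071 = n25158 := d2_1 D27071 (iv D25158) (iv F45304)
def n27072 : Q := act 1 n22904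
theorem D27072 : act 1 n22904 = n27072 := rfl
theorem F56609 : act 3 n27072 = n22998 := d7_2 (iv F45310) D27072 (iv D22998)
theorem F56610 : act 4 n27072 = n22905 := d8_2 (iv F45311) D27072 (iv D22905)
theorem F56611 : act 6 n27072 = n22954 := d10_2 D22904 D27072 (iv D22954) (iv D18439) (iv F32303)
def n27073 : Q := act 0 n22905
theorem D27073 : act 0 n22905 = n27073 := rfl
theorem F56612 : act 3 n27073 = n22907 := d2_2 (iv F45312) D27073 (iv D22907)
theorem F56613 : act 6 n27073 = n22955 := d5_2 (iv F45313) D27073 (iv D22955)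
def n27074 : Q := act 2 n22905
theorem D27074 : act 2 n22905 = n27074 := rfl
theorem F56614 : act 6 n27074 = n22956 := d14_2 (iv F45313) D27074 (iv D22956)
def n27075 : Q := act 5 n22905
theorem D27075 : act 5 n22905 = n27075 := rfl
theorem F56615 : act 3 n27075 = n22908 := d16_1 D27075 (iv D22908) (iv F45312)
def n27076 : Q := act 1 n22907
theorem D27076 : act 1 n22907 = n27076 := rfl
theorem F56616 : act 4 n27076 = n23000 := d8_2 (iv F45317) D27076 (iv D23000)
theorem F56617 : act 0 n25104 = n27076 := d3_3 F56616 F46891 (iv F51272)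
theorem F56618 : act 2 n24375 = n27076 := d12_3 F56616 (iv F46892) D24375
def n27077 : Q := act 3 n22909
theorem D27077 : act 3 n22909 = n27077 := rfl
theorem F56619 : act 0 n27077 = n22910 := d2_1 D27077 (iv D22910) (iv F45320)
theorem F56620 : act 1 n27077 = n26235 := d7_1 D27077 F54065 F45323
theorem F56621 : act 4 n27077 = n26237 := d15_2 (iv F45321) D27077 F54069 F42181 F35235
theorem F56622 : act 6 n27077 = n22918 := d17_2 (iv F45322) D27077 (iv D22918)
def n27078 : Q := act 2 n22910
theorem D27078 : act 2 n22910 = n27078 := rfl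
theorem F56623 : act 6 n27078 = n22920 := d14_2 (iv F45324) D27078 (iv D22920)
def n27079 : Q := act 4 n22910
theorem D27079 : act 4 n22910 = n27079 := rfl
theorem F56624 : act 0 n27079 = n26237 := d3_1 D27079 (iv F56621) F56619
theorem F56625 : act 1 n27079 = n25909 := d8_1 D27079 F53220 F45453
theorem F56626 : act 3 n27079 = n23002 := d15_1 D27079 (iv D23002) (iv D18576) (iv F32314) D22910
theorem F56627 : act 6 n27079 = n22921 := d19_2 (iv F45324) D27079 (iv D22921)
def n27080 : Q := act 5 n22910
theorem D27080 : act 5 n22910 = n27080 := rfl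
theorem F56628 : act 3 n27080 = n22911 := d16_1 D27080 (iv D22911) D22910
def n27081 : Q := act 1 n22911
theorem D27081 : act 1 n22911 = n27081 := rfl
theorem F56629 : act 2 n27081 = n26930 := d6_2 (iv F45325) D27081 F56107 (iv F48368) (iv D22912)
theorem F56630 : act 4 n27081 = n23003 := d8_2 (iv F45326) D27081 (iv D23003)
theorem F56631 : act 5 n27081 = n24995 := d9_2 D22911 D27081 (iv F50875) (iv D22967) F32389
theorem F56632 : act 0 n27081 = n24222 := d23_3 D18410 (iv F45325) D27081 F48889 (iv F44622) D26947 F56177 F55017 (iv D26596) (iv D22116) F29689 D20595 F39084 D20597 D25016 (iv F51258) (iv D25100) F39367 (iv D18408)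
theorem F56633 : act 6 n27081 = n26939 := d24_3 (iv F32315) D22911 D27081 F56151 (iv F50998) (iv D25030) (iv F46751) (iv D23479) (iv D19006) (iv D13812) (iv D10909) F17458 (iv F19056) (iv F23637)
def n27082 : Q := act 2 n22914
theorem D27082 : act 2 n22914 = n27082 := rfl
theorem F56634 : act 0 n27082 = n22915 := d1_1 D27082 (iv D22915) D22914
theorem F56635 : act 4 n27082 = n23009 := d12_2 (iv F45331) D27082 (iv D23009)
theorem F56636 : act 1 n27082 = n23373 := d23_2 F56551 D27082 (iv D23373) (iv F46509) (iv F46659) F46658 (iv F46670) (iv D23440) F33987 F44012 F44010 (iv D17192) (iv F30173) (iv F30436) (iv F44316) D26895 F55984 (iv F45334) (iv F56548)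
def n27083 : Q := act 3 n22915
theorem D27083 : act 3 n22915 = n27083 := rfl
theorem F56637 : act 1 n27083 = n26633 := d7_1 D27083 (iv D26633) (iv F45332)
theorem F56638 : act 4 n27083 = n26628 := d15_2 (iv F45333) D27083 (iv D26628) (iv D22173) F35243
def n27084 : Q := act 5 n22915
theorem D27084 : act 5 n22915 = n27084 := rfl
theorem F56639 : act 2 n27084 = n22916 := d13_1 D27084 (iv D22916) D22915
theorem F56640 : act 4 n27084 = n23011 := d18_1 D27084 (iv D23011) (iv F45333)
theorem F56641 : act 6 n25157 = n27084 := d19_0 F56640 (iv F45593) (iv F51458)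
def n27085 : Q := act 6 n22915
theorem D27085 : act 6 n22915 = n27085 := rfl
theorem F56642 : act 1 n27085 = n26688 := d10_1 D27085 (iv D26688) F43353 (iv F43206) (iv F45332)
theorem F56643 : act 2 n27085 = n22917 := d14_1 D27085 (iv D22917) D22915
theorem F56644 : act 4 n27085 = n23012 := d19_1 D27085 (iv D23012) (iv F45333)
theorem F56645 : act 5 n27058 = n27085 := d22_0 (iv D27085) D27084 (iv F56641) (iv F56553)
def n27086 : Q := act 5 n22918
theorem D27086 : act 5 n22918 = n27086 := rfl
theorem F56646 : act 0 n27086 = n22922 := d4_1 D27086 (iv D22922) (iv F45341)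
theorem F56647 : act 3 n27086 = n22919 := d16_1 D27086 (iv D22919) D22918
theorem F56648 : act 4 n27086 = n26248 := d18_1 D27086 (iv D26248) (iv F45343)
theorem F56649 : act 6 n27086 = n27080 := d22_1 D27086 (iv D27080) F45324 (iv F45341)
def n27087 : Q := act 4 n22920
theorem D27087 : act 4 n22920 = n27087 := rfl
theorem F56650 : act 0 n27087 = n26247 := d3_1 D27087 F54087 F52529
theorem F56651 : act 2 n27087 = n22921 := d12_1 D27087 (iv D22921) D22920
theorem F56652 : act 3 n27087 = n25476 := d15_1 D27087 (iv D25476) (iv F41228) D25576 (iv F52502)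
def n27088 : Q := act 5 n22920
theorem D27088 : act 5 n22920 = n27088 := rfl
theorem F56653 : act 2 n27088 = n22922 := d13_1 D27088 (iv D22922) D22920
def n27089 : Q := act 5 n22921
theorem D27089 : act 5 n22921 = n27089 := rfl
theorem F56654 : act 0 n27089 = n26248 := d4_1 D27089 (iv D26248) (iv F45348)
theorem F56655 : act 1 n27089 = n23400 := d9_1 D27089 (iv D23400) F33940 (iv F32381) (iv F45349)
theorem F56656 : act 3 n27089 = n23015 := d16_1 D27089 (iv D23015) (iv F45350)
theorem F56657 : act 4 n27089 = n22922 := d18_1 D27089 (iv D22922) D22921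
def n27090 : Q := act 6 n22922
theorem D27090 : act 6 n22922 = n27090 := rfl
theorem F56658 : act 0 n27090 = n27080 := d5_1 D27090 (iv F56649) F56646
theorem F56659 : act 3 n27090 = n22923 := d17_1 D27090 (iv D22923) (iv F45352)
theorem F56660 : act 5 n27090 = n27077 := d20_1 D27090 F56622 D27086 F56649 (iv D27080) F45324 D22922
def n27091 : Q := act 1 n22923
theorem D27091 : act 1 n22923 = n27091 := rfl
theorem F56661 : act 4 n27091 = n23016 := d8_2 (iv F45355) D27091 (iv D23016)
theorem F56662 : act 5 n27091 = n24284 := d9_2 (iv F45356) D27091 F55655 (iv D26793) F45323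
theorem F56663 : act 6 n27091 = n23403 := d10_2 D22923 D27091 (iv D23403) (iv D18955) (iv F32325)
theorem F56664 : act 2 n24273 = n27091 := d14_3 F56663 F55503 F55502
def n27092 : Q := act 2 n22924
theorem D27092 : act 2 n22924 = n27092 := rfl
theorem F56665 : act 0 n27092 = n23154 := d1_1 D27092 F45997 F45360
theorem F56666 : act 1 n27092 = n24273 := d6_1 D27092 F56664 (iv D27091) F45354 D22924
theorem F56667 : act 4 n27092 = n23017 := d12_2 (iv F45358) D27092 (iv D23017)
theorem F56668 : act 5 n27092 = n25210 := d13_2 F55841 D27092 (iv F55838)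
theorem F56669 : act 6 n27092 = n26848 := d14_2 (iv F45359) D27092 (iv D26848)
theorem F56670 : act 3 n27092 = n26348 := d21_1 D27092 (iv D26348) (iv F54295) F55307 F55306 F43359 (iv F44061) F45360
def n27093 : Q := act 5 n22926
theorem D27093 : act 5 n22926 = n27093 := rfl
theorem F56671 : act 3 n27093 = n22927 := d16_1 D27093 (iv D22927) D22926
theorem F56672 : act 4 n27093 = n25835 := d18_1 D27093 F53028 F49941
def n27094 : Q := act 6 n22927
theorem D27094 : act 6 n22927 = n27094 := rfl
theorem F56673 : act 0 n27094 = n24441 := d5_1 D27094 (iv F50857) F50854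
theorem F56674 : act 2 n27094 = n24439 := d14_1 D27094 (iv F49520) F49517
theorem F56675 : act 4 n27094 = n23019 := d19_1 D27094 (iv D23019) (iv F45365)
theorem F56676 : act 5 n27094 = n24438 := d20_1 D27094 F49505 D24989 F50857 (iv D24441) F37988 D22927
def n27095 : Q := act 5 n22928
theorem D27095 : act 5 n22928 = n27095 := rfl
theorem F56677 : act 0 n27095 = n22933 := d4_1 D27095 (iv D22933) (iv F45366)
theorem F56678 : act 2 n27095 = n23401 := d13_1 D27095 F46584 F46569
theorem F56679 : act 3 n27095 = n23020 := d16_1 D27095 (iv D23020) (iv F45367)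
theorem F56680 : act 4 n27095 = n22929 := d18_1 D27095 (iv D22929) D22928
theorem F56681 : act 6 n27095 = n23399 := d20_2 (iv F45368) D27095 (iv D23399) F34798 D22933 (iv F50687) (iv D24933)
def n27096 : Q := act 1 n22929
theorem D27096 : act 1 n22929 = n27096 := rfl
theorem F56682 : act 3 n27096 = n22930 := d7_2 (iv F45370) D27096 (iv D22930)
def n27097 : Q := act 3 n22931
theorem D27097 : act 3 n22931 = n27097 := rfl
theorem F56683 : act 0 n27097 = n25127 := d2_1 D27097 (iv D25127) (iv F45373)
def n27098 : Q := act 1 n22933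
theorem D27098 : act 1 n22933 = n27098 := rfl
theorem F56684 : act 3 n27098 = n23023 := d7_2 (iv F45379) D27098 (iv D23023)
theorem F56685 : act 4 n27098 = n22934 := d8_2 (iv F45380) D27098 (iv D22934)
theorem F56686 : act 5 n27098 = n22961 := d9_2 D22933 D27098 (iv D22961) (iv D18444) (iv F32342)
def n27099 : Q := act 0 n22934
theorem D27099 : act 0 n22934 = n27099 := rfl
theorem F56687 : act 3 n27099 = n22936 := d2_2 (iv F45381) D27099 (iv D22936)
theorem F56688 : act 5 n27099 = n22962 := d4_2 (iv F45382) D27099 (iv D22962)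
def n27100 : Q := act 2 n22934
theorem D27100 : act 2 n22934 = n27100 := rfl
theorem F56689 : act 5 n27100 = n22963 := d13_2 (iv F45382) D27100 (iv D22963)
def n27101 : Q := act 6 n22934
theorem D27101 : act 6 n22934 = n27101 := rfl
theorem F56690 : act 3 n27101 = n22937 := d17_1 D27101 (iv D22937) (iv F45381)
def n27102 : Q := act 1 n22936
theorem D27102 : act 1 n22936 = n27102 := rfl
theorem F56691 : act 4 n27102 = n23025 := d8_2 (iv F45386) D27102 (iv D23025)
theorem F56692 : act 0 n25072 = n27102 := d3_3 F56691 F47068 (iv F51161)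
theorem F56693 : act 2 n24321 = n27102 := d12_3 F56691 (iv F47069) D24321
def n27103 : Q := act 3 n22938
theorem D27103 : act 3 n22938 = n27103 := rfl
theorem F56694 : act 0 n27103 = n22939 := d2_1 D27103 (iv D22939) (iv F45389)
theorem F56695 : act 1 n27103 = n26003 := d7_1 D27103 F53472 F45392
theorem F56696 : act 4 n27103 = n26005 := d15_2 (iv F45390) D27103 F53476 F41830 F33302
theorem F56697 : act 5 n27103 = n22947 := d16_2 (iv F45391) D27103 (iv D22947)
def n27104 : Q := act 2 n22939
theorem D27104 : act 2 n22939 = n27104 := rfl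
theorem F56698 : act 5 n27104 = n22949 := d13_2 (iv F45393) D27104 (iv D22949)
def n27105 : Q := act 4 n22939
theorem D27105 : act 4 n22939 = n27105 := rfl
theorem F56699 : act 0 n27105 = n26005 := d3_1 D27105 (iv F56696) F56694
theorem F56700 : act 1 n27105 = n26144 := d8_1 D27105 F53809 F45435
theorem F56701 : act 3 n27105 = n23027 := d15_1 D27105 (iv D23027) (iv D18617) (iv F32353) D22939
theorem F56702 : act 5 n27105 = n22950 := d18_2 (iv F45393) D27105 (iv D22950)
def n27106 : Q := act 6 n22939
theorem D27106 : act 6 n22939 = n27106 := rfl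
theorem F56703 : act 3 n27106 = n22940 := d17_1 D27106 (iv D22940) D22939
def n27107 : Q := act 1 n22940
theorem D27107 : act 1 n22940 = n27107 := rfl
theorem F56704 : act 2 n27107 = n26951 := d6_2 (iv F45394) D27107 F56192 (iv F48301) (iv D22941)
theorem F56705 : act 4 n27107 = n23028 := d8_2 (iv F45395) D27107 (iv D23028)
theorem F56706 : act 6 n27107 = n24976 := d10_2 D22940 D27107 (iv F50812) (iv D22960) F32376
theorem F56707 : act 5 n26957 = n27107 := d24_1 (iv F56220) (iv D27107) (iv D22940) F32354 F23656 F19065 (iv F16325) D10902 D13799 D18987 D23455 F46702 D25009 F50921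
theorem F56708 : act 0 n24198 = n27107 := d22_4 (iv F56707) F56220 F44723 (iv F48831)
def n27108 : Q := act 2 n22943
theorem D27108 : act 2 n22943 = n27108 := rfl
theorem F56709 : act 0 n27108 = n22944 := d1_1 D27108 (iv D22944) D22943
theorem F56710 : act 1 n27108 = n23432 := d6_1 D27108 F46655 (iv F56636) (iv D27082) (iv F45400)
theorem F56711 : act 4 n27108 = n23034 := d12_2 (iv F45401) D27108 (iv D23034)
def n27109 : Q := act 3 n22944
theorem D27109 : act 3 n22944 = n27109 := rfl
theorem F56712 : act 1 n27109 = n26671 := d7_1 D27109 F55243 (iv F45402)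
theorem F56713 : act 4 n27109 = n26770 := d15_2 (iv F45403) D27109 (iv D26770) (iv D22379) F33312
def n27110 : Q := act 5 n22944
theorem D27110 : act 5 n22944 = n27110 := rfl
theorem F56714 : act 1 n27110 = n26666 := d9_1 D27110 (iv D26666) F43327 D22230 (iv F45402)
theorem F56715 : act 2 n27110 = n22945 := d13_1 D27110 (iv D22945) D22944
theorem F56716 : act 4 n27110 = n23036 := d18_1 D27110 (iv D23036) (iv F45403)
theorem F56717 : act 6 n27063 = n27110 := d19_0 F56716 (iv F51353) (iv F56579)
def n27111 : Q := act 6 n22944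
theorem D27111 : act 6 n22944 = n27111 := rfl
theorem F56718 : act 2 n27111 = n22946 := d14_1 D27111 (iv D22946) D22944
theorem F56719 : act 4 n27111 = n23037 := d19_1 D27111 (iv D23037) (iv F45403)
theorem F56720 : act 5 n25126 = n27111 := d22_0 (iv D27111) D27110 (iv F56717) F56577
def n27112 : Q := act 6 n22947
theorem D27112 : act 6 n22947 = n27112 := rfl
theorem F56721 : act 0 n27112 = n22951 := d5_1 D27112 (iv D22951) (iv F45411)
theorem F56722 : act 3 n27112 = n22948 := d17_1 D27112 (iv D22948) D22947
theorem F56723 : act 4 n27112 = n26017 := d19_1 D27112 (iv D26017) (iv F45413)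
theorem F56724 : act 5 n27112 = n27106 := d22_2 F56697 D27112 (iv D27106) (iv F56694)
def n27113 : Q := act 4 n22949
theorem D27113 : act 4 n22949 = n27113 := rfl
theorem F56725 : act 0 n27113 = n26016 := d3_1 D27113 F53496 F52396
theorem F56726 : act 2 n27113 = n22950 := d12_1 D27113 (iv D22950) D22949
theorem F56727 : act 3 n27113 = n25442 := d15_1 D27113 (iv D25442) (iv F41141) D25518 (iv F52369)
def n27114 : Q := act 6 n22949
theorem D27114 : act 6 n22949 = n27114 := rfl
theorem F56728 : act 2 n27114 = n22951 := d14_1 D27114 (iv D22951) D22949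
def n27115 : Q := act 6 n22950
theorem D27115 : act 6 n22950 = n27115 := rfl
theorem F56729 : act 0 n27115 = n26017 := d5_1 D27115 (iv D26017) (iv F45418)
theorem F56730 : act 1 n27115 = n23341 := d10_1 D27115 (iv D23341) F33861 (iv F32395) (iv F45419)
theorem F56731 : act 3 n27115 = n23040 := d17_1 D27115 (iv D23040) (iv F45420)
theorem F56732 : act 4 n27115 = n22951 := d19_1 D27115 (iv D22951) D22950
def n27116 : Q := act 5 n22951
theorem D27116 : act 5 n22951 = n27116 := rfl
theorem F56733 : act 0 n27116 = n27106 := d4_1 D27116 (iv F56724) F56721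
theorem F56734 : act 3 n27116 = n22952 := d16_1 D27116 (iv D22952) (iv F45422)
theorem F56735 : act 6 n27116 = n27103 := d20_2 D22951 D27116 F56697 D27112 F56724 (iv D27106) F45393
def n27117 : Q := act 1 n22952
theorem D27117 : act 1 n22952 = n27117 := rfl
theorem F56736 : act 4 n27117 = n23041 := d8_2 (iv F45425) D27117 (iv D23041)
theorem F56737 : act 5 n27117 = n23345 := d9_2 D22952 D27117 (iv D23345) (iv D18916) (iv F32365)
theorem F56738 : act 6 n27117 = n24265 := d10_2 (iv F45426) D27117 F55202 (iv D26657) F45392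
theorem F56739 : act 2 n24254 = n27117 := d14_3 F56738 F49007 (iv F48989)
def n27118 : Q := act 2 n22953
theorem D27118 : act 2 n22953 = n27118 := rfl
theorem F56740 : act 0 n27118 = n23139 := d1_1 D27118 F45957 F45430
theorem F56741 : act 1 n27118 = n24254 := d6_1 D27118 F56739 (iv D27117) F45424 D22953
theorem F56742 : act 4 n27118 = n23042 := d12_2 (iv F45428) D27118 (iv D23042)
theorem F56743 : act 5 n27118 = n26883 := d13_2 (iv F45429) D27118 (iv D26883)
theorem F56744 : act 6 n27118 = n25258 := d14_2 F55951 D27118 (iv F55948)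
theorem F56745 : act 3 n27118 = n26427 := d21_1 D27118 (iv D26427) (iv F54475) (iv F55681) F55682 F43889 (iv F44198) F45430
def n27119 : Q := act 2 n22954
theorem D27119 : act 2 n22954 = n27119 := rfl
theorem F56746 : act 1 n27119 = n23347 := d6_1 D27119 (iv D23347) (iv D18917) (iv F32371) D22954
theorem F56747 : act 4 n27119 = n22956 := d12_2 (iv F45432) D27119 (iv D22956)
def n27120 : Q := act 2 n22955
theorem D27120 : act 2 n22955 = n27120 := rfl
theorem F56748 : act 0 n27120 = n22956 := d1_1 D27120 (iv D22956) D22955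
theorem F56749 : act 1 n24141 = n27120 := d0_0 F56748 F45434 (iv F46483) F48553 F37234 F25345 (iv F25392) (iv F37340) (iv F48706)
theorem F56750 : act 3 n27120 = n24140 := d7_2 D24141 F56749 (iv D24140)
def n27121 : Q := act 5 n22955
theorem D27121 : act 5 n22955 = n27121 := rfl
theorem F56751 : act 0 n27121 = n22957 := d4_1 D27121 (iv D22957) D22955
theorem F56752 : act 3 n27121 = n22959 := d16_1 D27121 (iv D22959) (iv F45433)
theorem F56753 : act 6 n27121 = n27075 := d22_1 D27121 (iv D27075) F45313 D22955
def n27122 : Q := act 3 n22956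
theorem D27122 : act 3 n22956 = n27122 := rfl
theorem F56754 : act 0 n27122 = n24140 := d2_1 D27122 (iv F56750) F56748
theorem F56755 : act 1 n27122 = n23353 := d7_1 D27122 (iv D23353) (iv F45434)
theorem F56756 : act 2 n24153 = n27122 := d6_0 F56755 F48551 (iv D20391) (iv F37376) D24153
theorem F56757 : act 4 n24323 = n27122 := d8_0 F56755 F48552 D24323
def n27123 : Q := act 5 n22956
theorem D27123 : act 5 n22956 = n27123 := rfl
theorem F56758 : act 2 n27123 = n22957 := d13_1 D27123 (iv D22957) D22956
def n27124 : Q := act 6 n22957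
theorem D27124 : act 6 n22957 = n27124 := rfl
theorem F56759 : act 0 n27124 = n27075 := d5_1 D27124 (iv F56753) F56751
theorem F56760 : act 3 n27124 = n22960 := d17_1 D27124 (iv D22960) (iv F45436)
theorem F56761 : act 5 n27124 = n27073 := d20_1 D27124 F56613 D27121 F56753 (iv D27075) F45313 D22957
def n27125 : Q := act 1 n22959
theorem D27125 : act 1 n22959 = n27125 := rfl
theorem F56762 : act 4 n27125 = n23047 := d8_2 (iv F45443) D27125 (iv D23047)
theorem F56763 : act 5 n27125 = n25060 := d9_2 D22959 D27125 (iv D25060) F45440 (iv D22958)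
def n27126 : Q := act 2 n22961
theorem D27126 : act 2 n22961 = n27126 := rfl
theorem F56764 : act 1 n27126 = n23406 := d6_1 D27126 (iv D23406) (iv D18957) (iv F32382) D22961
theorem F56765 : act 4 n27126 = n22963 := d12_2 (iv F45450) D27126 (iv D22963)
def n27127 : Q := act 2 n22962
theorem D27127 : act 2 n22962 = n27127 := rfl
theorem F56766 : act 0 n27127 = n22963 := d1_1 D27127 (iv D22963) D22962
theorem F56767 : act 3 n27127 = n24153 := d21_1 D27127 F56756 (iv D27122) (iv D22956) F32374 (iv F23674) (iv F32386) D22962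
theorem F56768 : act 1 n24154 = n27127 := d7_3 F56767 (iv D24153) D24154
def n27128 : Q := act 6 n22962
theorem D27128 : act 6 n22962 = n27128 := rfl
theorem F56769 : act 0 n27128 = n22964 := d5_1 D27128 (iv D22964) D22962
theorem F56770 : act 3 n27128 = n22966 := d17_1 D27128 (iv D22966) (iv F45451)
theorem F56771 : act 5 n27128 = n27101 := d22_2 F56688 D27128 (iv D27101) D27099
def n27129 : Q := act 3 n22963
theorem D27129 : act 3 n22963 = n27129 := rfl
theorem F56772 : act 0 n27129 = n24153 := d2_1 D27129 (iv F56767) F56766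
theorem F56773 : act 1 n27129 = n23412 := d7_1 D27129 (iv D23412) (iv F45452)
theorem F56774 : act 2 n27129 = n24140 := d11_1 D27129 (iv F56750) (iv D27120) F45433 (iv F32387) (iv F45451) D27127 F56767 F56756 (iv D27122) (iv D22956) F32374 (iv F23674) (iv F32386) D22963
theorem F56775 : act 4 n24377 = n27129 := d12_0 F56774 F48705 (iv F49325)
def n27130 : Q := act 6 n22963
theorem D27130 : act 6 n22963 = n27130 := rfl
theorem F56776 : act 2 n27130 = n22964 := d14_1 D27130 (iv D22964) D22963
def n27131 : Q := act 5 n22964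
theorem D27131 : act 5 n22964 = n27131 := rfl
theorem F56777 : act 0 n27131 = n27101 := d4_1 D27131 (iv F56771) F56769
theorem F56778 : act 3 n27131 = n22967 := d16_1 D27131 (iv D22967) (iv F45454)
theorem F56779 : act 6 n27131 = n27099 := d20_2 D22964 D27131 F56688 D27128 F56771 (iv D27101) F45382
def n27132 : Q := act 1 n22966
theorem D27132 : act 1 n22966 = n27132 := rfl
theorem F56780 : act 4 n27132 = n23051 := d8_2 (iv F45461) D27132 (iv D23051)
theorem F56781 : act 6 n27132 = n25092 := d10_2 D22966 D27132 (iv D25092) F45458 (iv D22965)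
def n27133 : Q := act 2 n22968
theorem D27133 : act 2 n22968 = n27133 := rfl
theorem F56782 : act 0 n27133 = n22969 := d1_1 D27133 (iv D22969) D22968
theorem F56783 : act 5 n27133 = n27031 := d13_2 F46816 D27133 F56459
theorem F56784 : act 6 n27133 = n23506 := d14_2 (iv F45467) D27133 (iv D23506)
def n27134 : Q := act 1 n22976
theorem D27134 : act 1 n22976 = n27134 := rfl
theorem F56785 : act 0 n27134 = n27134 := d0_1 D27134 (iv D27134) F45489 F45479 F44989 F31942 (iv F44989) (iv F45479) (iv F45489)
def n27135 : Q := act 2 n22977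
theorem D27135 : act 2 n22977 = n27135 := rfl
theorem F56786 : act 0 n27135 = n22978 := d1_1 D27135 (iv D22978) D22977
theorem F56787 : act 5 n27135 = n23519 := d13_2 (iv F45492) D27135 (iv D23519)
theorem F56788 : act 6 n27135 = n27029 := d14_2 F46844 D27135 F56452
def n27136 : Q := act 1 n22985
theorem D27136 : act 1 n22985 = n27136 := rfl
theorem F56789 : act 0 n27136 = n27136 := d0_1 D27136 (iv D27136) F45514 F45504 F44966 F31921 (iv F44966) (iv F45504) (iv F45514)
def n27137 : Q := act 6 n22988
theorem D27137 : act 6 n22988 = n27137 := rfl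
theorem F56790 : act 0 n27137 = n26892 := d5_1 D27137 (iv D26892) (iv F45520)
theorem F56791 : act 2 n27137 = n26611 := d14_1 D27137 F55066 F50956
theorem F56792 : act 3 n27137 = n22989 := d17_1 D27137 (iv D22989) (iv F45521)
theorem F56793 : act 4 n27137 = n24657 := d19_1 D27137 F50072 F50027
theorem F56794 : act 5 n27137 = n24656 := d20_1 D27137 (iv D24656) (iv F44299) D26892 F55978 F45517 D22988
def n27138 : Q := act 1 n22989
theorem D27138 : act 1 n22989 = n27138 := rfl
theorem F56795 : act 0 n27138 = n27138 := d0_1 D27138 (iv D27138) F45523 (iv F44613) (iv F54878) F54879 F54878 F44613 (iv F45523)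
theorem F56796 : act 2 n27138 = n25214 := d6_2 (iv F45524) D27138 (iv D25214) (iv F44276) F44275
theorem F56797 : act 4 n27138 = n25004 := d8_2 (iv F45525) D27138 (iv D25004)
theorem F56798 : act 6 n27138 = n25214 := d10_2 D22989 D27138 (iv D25214) (iv D20946) F35378
def n27139 : Q := act 5 n22992
theorem D27139 : act 5 n22992 = n27139 := rfl
theorem F56799 : act 0 n27139 = n26915 := d4_1 D27139 (iv D26915) (iv F45530)
theorem F56800 : act 2 n27139 = n26756 := d13_1 D27139 F55546 F51033
theorem F56801 : act 3 n27139 = n22993 := d16_1 D27139 (iv D22993) (iv F45531)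
theorem F56802 : act 4 n27139 = n24602 := d18_1 D27139 F49936 F49891
theorem F56803 : act 6 n27139 = n24601 := d20_2 D22992 D27139 (iv D24601) (iv F44465) D26915 F56055 F45527
def n27140 : Q := act 1 n22993
theorem D27140 : act 1 n22993 = n27140 := rfl
theorem F56804 : act 0 n27140 = n27140 := d0_1 D27140 (iv D27140) F45533 (iv F44716) (iv F55388) F55389 F55388 F44716 (iv F45533)
theorem F56805 : act 2 n27140 = n25262 := d6_2 (iv F45534) D27140 (iv D25262) (iv F44441) F44440
theorem F56806 : act 4 n27140 = n24985 := d8_2 (iv F45535) D27140 (iv D24985)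
theorem F56807 : act 5 n27140 = n25262 := d9_2 D22993 D27140 (iv D25262) (iv D21027) (iv F34994)
def n27141 : Q := act 1 n22995
theorem D27141 : act 1 n22995 = n27141 := rfl
theorem F56808 : act 2 n27141 = n26076 := d6_2 (iv F45542) D27141 F53629 F50294 (iv D24038)
theorem F56809 : act 4 n27141 = n22996 := d8_2 (iv F45543) D27141 (iv D22996)
theorem F56810 : act 6 n27141 = n26075 := d10_2 D22995 D27141 F53626 F41933 F38269
theorem F56811 : act 0 n27141 = n24741 := d23_3 D19728 (iv F45542) D27141 (iv D24741) (iv F47349) (iv D23701) F36040 (iv F47122) (iv D23616) (iv D19202) (iv F35783) (iv D19193) F24446 F19482 (iv F19533) (iv F23860) (iv F24737) D19400 (iv F36297)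
theorem F56812 : act 5 n24740 = n27141 := d4_0 F56811 (iv D24741) D24740
def n27142 : Q := act 4 n22997
theorem D27142 : act 4 n22997 = n27142 := rfl
theorem F56813 : act 0 n27142 = n23239 := d3_1 D27142 F46194 (iv F45550)
theorem F56814 : act 1 n27142 = n23151 := d8_1 D27142 F45989 (iv F45551)
theorem F56815 : act 5 n27142 = n23148 := d18_2 (iv F45552) D27142 F45981
theorem F56816 : act 6 n27142 = n23236 := d19_2 (iv F45553) D27142 F46187
def n27143 : Q := act 0 n22998
theorem D27143 : act 0 n22998 = n27143 := rfl
theorem F56817 : act 2 n27143 = n26145 := d1_2 F52421 D27143 F53811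
theorem F56818 : act 4 n27143 = n22999 := d3_2 (iv F45554) D27143 (iv D22999)
theorem F56819 : act 5 n27143 = n24580 := d4_2 F53674 D27143 (iv F53672)
theorem F56820 : act 6 n27143 = n23046 := d5_2 (iv F45555) D27143 (iv D23046)
def n27144 : Q := act 6 n23001
theorem D27144 : act 6 n23001 = n27144 := rfl
theorem F56821 : act 0 n27144 = n26611 := d5_1 D27144 F55066 F50955
theorem F56822 : act 2 n27144 = n26892 := d14_1 D27144 (iv D26892) (iv F45560)
theorem F56823 : act 3 n27144 = n26610 := d17_1 D27144 F55064 F45604
theorem F56824 : act 5 n27144 = n26609 := d20_1 D27144 F55060 (iv F50958) (iv F55066) (iv D26611) F43111 (iv F45561)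
def n27145 : Q := act 2 n23004
theorem D27145 : act 2 n23004 = n27145 := rfl
theorem F56825 : act 0 n27145 = n23005 := d1_1 D27145 (iv D23005) D23004
theorem F56826 : act 1 n27145 = n24282 := d6_1 D27145 F49040 (iv D20716) (iv F39312) (iv F45571)
theorem F56827 : act 3 n27145 = n24283 := d11_2 (iv F45572) D27145 F49044 (iv D24202) (iv D19852) (iv F37430) F44312 F44309 D23005 F45577 (iv F44555) (iv D19853) (iv D14607) (iv F25482) D19829
theorem F56828 : act 5 n27145 = n23006 := d13_2 (iv F45573) D27145 (iv D23006)
theorem F56829 : act 6 n27145 = n24193 := d14_2 (iv F45574) D27145 (iv D24193)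
def n27146 : Q := act 1 n23006
theorem D27146 : act 1 n23006 = n27146 := rfl
def n27147 : Q := act 6 n23006
theorem D27147 : act 6 n23006 = n27147 := rfl
theorem F56830 : act 0 n27147 = n23008 := d5_1 D27147 (iv D23008) (iv F45578)
theorem F56831 : act 2 n27147 = n23007 := d14_1 D27147 (iv D23007) D23006
theorem F56832 : act 3 n27147 = n24218 := d17_1 D27147 F48921 F48920
theorem F56833 : act 5 n27147 = n24216 := d20_1 D27147 F48875 F45576 D23008 (iv F48818) (iv F56829) F56828
theorem F56834 : act 1 n26520 = n27147 := d7_3 F56832 (iv F56133) (iv F56138)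
def n27148 : Q := act 3 n23013
theorem D27148 : act 3 n23013 = n27148 := rfl
theorem F56835 : act 0 n27148 = n26249 := d2_1 D27148 (iv D26249) (iv F45597)
theorem F56836 : act 1 n27148 = n24904 := d7_1 D27148 F50608 (iv F45598)
theorem F56837 : act 4 n27148 = n24654 := d15_2 D23013 D27148 (iv D24654) (iv F39792) F34920
theorem F56838 : act 6 n27148 = n24911 := d17_2 (iv F45600) D27148 F50631
def n27149 : Q := act 5 n23013
theorem D27149 : act 5 n23013 = n27149 := rfl
theorem F56839 : act 0 n27149 = n24745 := d4_1 D27149 F50268 (iv F45597)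
theorem F56840 : act 1 n27149 = n26093 := d9_1 D27149 F53674 (iv D22998) (iv F38788) (iv F45598)
theorem F56841 : act 2 n27149 = n23015 := d13_1 D27149 (iv D23015) (iv F45599)
theorem F56842 : act 4 n27149 = n23014 := d18_1 D27149 (iv D23014) D23013
def n27150 : Q := act 1 n23020
theorem D27150 : act 1 n23020 = n27150 := rfl
theorem F56843 : act 2 n27150 = n25826 := d6_2 (iv F45626) D27150 F53003 F50188 F48481
theorem F56844 : act 4 n27150 = n23021 := d8_2 (iv F45627) D27150 (iv D23021)
theorem F56845 : act 5 n27150 = n25825 := d9_2 D23020 D27150 F53000 F41579 F38335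
theorem F56846 : act 0 n24790 = n27150 := d4_3 F56845 F52999 F50370
theorem F56847 : act 6 n24789 = n27150 := d20_0 F56845 F53002 F47221 D24790 (iv F50370) (iv F54268) F54267
def n27151 : Q := act 4 n23022
theorem D27151 : act 4 n23022 = n27151 := rfl
theorem F56848 : act 0 n27151 = n23312 := d3_1 D27151 F46371 (iv F45634)
theorem F56849 : act 1 n27151 = n23136 := d8_1 D27151 F45949 (iv F45635)
theorem F56850 : act 5 n27151 = n23310 := d18_2 (iv F45636) D27151 F46367
theorem F56851 : act 6 n27151 = n23133 := d19_2 (iv F45637) D27151 F45942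
def n27152 : Q := act 0 n23023
theorem D27152 : act 0 n23023 = n27152 := rfl
theorem F56852 : act 2 n27152 = n25910 := d1_2 F52295 D27152 F53222
theorem F56853 : act 4 n27152 = n23024 := d3_2 (iv F45638) D27152 (iv D23024)
theorem F56854 : act 5 n27152 = n23050 := d4_2 (iv F45639) D27152 (iv D23050)
theorem F56855 : act 6 n27152 = n24635 := d5_2 F53060 D27152 (iv F53058)
def n27153 : Q := act 5 n23026
theorem D27153 : act 5 n23026 = n27153 := rfl
theorem F56856 : act 0 n27153 = n26756 := d4_1 D27153 F55546 F51032
theorem F56857 : act 2 n27153 = n26915 := d13_1 D27153 (iv D26915) (iv F45644)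
theorem F56858 : act 3 n27153 = n26660 := d16_1 D27153 F55214 F45688
theorem F56859 : act 6 n27153 = n26659 := d20_2 (iv F45645) D27153 F55210 (iv F51035) (iv F55546) (iv D26756) F43666
def n27154 : Q := act 2 n23029
theorem D27154 : act 2 n23029 = n27154 := rfl
theorem F56860 : act 0 n27154 = n23030 := d1_1 D27154 (iv D23030) D23029
theorem F56861 : act 1 n27154 = n24263 := d6_1 D27154 F48998 (iv D20662) (iv F39206) (iv F45655)
theorem F56862 : act 3 n27154 = n24264 := d11_2 (iv F45656) D27154 F49002 (iv D24226) (iv D19874) (iv F37451) F44474 F44470 D23030 F45661 F44678 (iv D19875) (iv D14626) (iv F25492) D19838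
theorem F56863 : act 5 n27154 = n24196 := d13_2 (iv F45657) D27154 (iv D24196)
theorem F56864 : act 6 n27154 = n23031 := d14_2 (iv F45658) D27154 (iv D23031)
def n27155 : Q := act 1 n23031
theorem D27155 : act 1 n23031 = n27155 := rfl
def n27156 : Q := act 5 n23031
theorem D27156 : act 5 n23031 = n27156 := rfl
theorem F56865 : act 0 n27156 = n23033 := d4_1 D27156 (iv D23033) (iv F45662)
theorem F56866 : act 2 n27156 = n23032 := d13_1 D27156 (iv D23032) D23031
theorem F56867 : act 3 n27156 = n24238 := d16_1 D27156 (iv F48933) F48869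
theorem F56868 : act 6 n27156 = n24237 := d20_2 F56864 D27156 F48929 F45660 D23033 (iv F48826) (iv F56863)
theorem F56869 : act 1 n26549 = n27156 := d7_3 F56867 (iv F56202) (iv F56206)
def n27157 : Q := act 3 n23038
theorem D27157 : act 3 n23038 = n27157 := rfl
theorem F56870 : act 0 n27157 = n26018 := d2_1 D27157 (iv D26018) (iv F45681)
theorem F56871 : act 1 n27157 = n24933 := d7_1 D27157 F50685 (iv F45682)
theorem F56872 : act 4 n27157 = n24599 := d15_2 D23038 D27157 (iv D24599) (iv F39819) F35359
theorem F56873 : act 5 n27157 = n24939 := d16_2 (iv F45684) D27157 F50704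
def n27158 : Q := act 6 n23038
theorem D27158 : act 6 n23038 = n27158 := rfl
theorem F56874 : act 0 n27158 = n24794 := d5_1 D27158 F50380 (iv F45681)
theorem F56875 : act 1 n27158 = n25849 := d10_1 D27158 F53060 (iv D23023) (iv F38827) (iv F45682)
theorem F56876 : act 2 n27158 = n23040 := d14_1 D27158 (iv D23040) (iv F45683)
theorem F56877 : act 4 n27158 = n23039 := d19_1 D27158 (iv D23039) D23038
def n27159 : Q := act 6 n23047
theorem D27159 : act 6 n23047 = n27159 := rfl
theorem F56878 : act 0 n27159 = n23544 := d5_1 D27159 F51119 F51115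
theorem F56879 : act 1 n27159 = n27144 := d10_1 D27159 (iv D27144) (iv D23001) (iv F33352) D23047
theorem F56880 : act 2 n27159 = n26558 := d14_1 D27159 F54871 (iv F49157)
theorem F56881 : act 3 n27159 = n25063 := d17_1 D27159 (iv D25063) (iv F45715)
theorem F56882 : act 5 n27159 = n26558 := d20_1 D27159 F54871 (iv F51118) (iv F51119) (iv F51123) (iv D25062) (iv F45716)
def n27160 : Q := act 5 n23051
theorem D27160 : act 5 n23051 = n27160 := rfl
theorem F56883 : act 0 n27160 = n23603 := d4_1 D27160 (iv F51230) F51226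
theorem F56884 : act 1 n27160 = n27153 := d9_1 D27160 (iv D27153) (iv D23026) (iv F33388) D23051
theorem F56885 : act 2 n27160 = n26714 := d13_1 D27160 F55380 (iv F49315)
theorem F56886 : act 3 n27160 = n25096 := d16_1 D27160 (iv D25096) (iv F45727)
theorem F56887 : act 6 n27160 = n26714 := d20_2 (iv F45728) D27160 F55380 (iv F51229) F51230 (iv F51234) (iv D25094)
def n27161 : Q := act 2 n23058
theorem D27161 : act 2 n23058 = n27161 := rfl
theorem F56888 : act 0 n27161 = n23059 := d1_1 D27161 (iv D23059) D23058
theorem F56889 : act 1 n27161 = n24804 := d6_1 D27161 F50412 (iv F38801) (iv F41649) (iv F45753)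
theorem F56890 : act 5 n27161 = n23077 := d13_2 (iv F45755) D27161 (iv D23077)
theorem F56891 : act 3 n27161 = n24803 := d21_1 D27161 F50410 (iv D22897) (iv F37945) F37946 (iv D18708) (iv F33473) D23058
def n27162 : Q := act 3 n23059
theorem D27162 : act 3 n23059 = n27162 := rfl
theorem F56892 : act 0 n27162 = n24803 := d2_1 D27162 (iv F56891) F56888
theorem F56893 : act 1 n27162 = n25337 := d7_1 D27162 (iv D25337) (iv F45756)
theorem F56894 : act 2 n27162 = n24553 := d11_1 D27162 F49813 F38895 F32022 (iv F33486) (iv F45754) D27161 F56891 F50410 (iv D22897) (iv F37945) F37946 (iv D18708) (iv F33473) D23059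
theorem F56895 : act 5 n27162 = n23079 := d16_2 (iv F45757) D27162 (iv D23079)
theorem F56896 : act 4 n24552 = n27162 := d12_0 F56894 (iv D24553) D24552
def n27163 : Q := act 6 n23059
theorem D27163 : act 6 n23059 = n27163 := rfl
theorem F56897 : act 2 n27163 = n23060 := d14_1 D27163 (iv D23060) D23059
def n27164 : Q := act 1 n23060
theorem D27164 : act 1 n23060 = n27164 := rfl
theorem F56898 : act 3 n27164 = n23067 := d7_2 (iv F45758) D27164 (iv D23067)
theorem F56899 : act 6 n27164 = n23061 := d10_2 D23060 D27164 (iv D23061) (iv D18704) D18703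
theorem F56900 : act 5 n25158 = n27164 := d24_1 (iv F51460) (iv D27164) (iv D23060) F33474 (iv D13662) (iv F19263) (iv D10843) D10842 F19260 D10858 D13707 D18804 (iv F33666) D23186
def n27165 : Q := act 0 n23061
theorem D27165 : act 0 n23061 = n27165 := rfl
theorem F56901 : act 3 n27165 = n23068 := d2_2 (iv F45759) D27165 (iv D23068)
theorem F56902 : act 5 n27165 = n23186 := d22_0 (iv F51460) F56900 F56899 D27165
def n27166 : Q := act 2 n23061
theorem D27166 : act 2 n23061 = n27166 := rfl
theorem F56903 : act 1 n27166 = n25339 := d6_1 D27166 (iv D25339) (iv D21129) (iv F33475) D23061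
def n27167 : Q := act 5 n23061
theorem D27167 : act 5 n23061 = n27167 := rfl
theorem F56904 : act 0 n27167 = n23186 := d4_1 D27167 (iv F56902) (iv D27165)
theorem F56905 : act 1 n27167 = n25725 := d9_1 D27167 (iv D25725) (iv F41427) (iv F33477) D23061
theorem F56906 : act 3 n27167 = n23070 := d16_1 D27167 (iv D23070) (iv F45759)
theorem F56907 : act 6 n27167 = n27071 := d22_3 F56900 F56899 D27167 F56608
def n27168 : Q := act 2 n23062
theorem D27168 : act 2 n23062 = n27168 := rfl
theorem F56908 : act 0 n27168 = n23063 := d1_1 D27168 (iv D23063) D23062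
theorem F56909 : act 1 n27168 = n24856 := d6_1 D27168 F50516 (iv F38840) (iv F41993) (iv F45760)
theorem F56910 : act 6 n27168 = n23083 := d14_2 (iv F45762) D27168 (iv D23083)
theorem F56911 : act 3 n27168 = n24855 := d21_1 D27168 F50514 (iv D22926) (iv F37995) F37996 (iv D18712) (iv F33478) D23062
def n27169 : Q := act 3 n23063
theorem D27169 : act 3 n23063 = n27169 := rfl
theorem F56912 : act 0 n27169 = n24855 := d2_1 D27169 (iv F56911) F56908
theorem F56913 : act 1 n27169 = n25340 := d7_1 D27169 (iv D25340) (iv F45763)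
theorem F56914 : act 2 n27169 = n24608 := d11_1 D27169 F49950 F38974 (iv F35364) F35366 (iv F45761) D27168 F56911 F50514 (iv D22926) (iv F37995) F37996 (iv D18712) (iv F33478) D23063
theorem F56915 : act 6 n27169 = n23085 := d17_2 (iv F45764) D27169 (iv D23085)
theorem F56916 : act 4 n24607 = n27169 := d12_0 F56914 (iv D24608) D24607
def n27170 : Q := act 5 n23063
theorem D27170 : act 5 n23063 = n27170 := rfl
theorem F56917 : act 2 n27170 = n23064 := d13_1 D27170 (iv D23064) D23063
def n27171 : Q := act 1 n23064
theorem D27171 : act 1 n23064 = n27171 := rfl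
theorem F56918 : act 3 n27171 = n23072 := d7_2 (iv F45765) D27171 (iv D23072)
theorem F56919 : act 5 n27171 = n23065 := d9_2 D23064 D27171 (iv D23065) (iv D18706) D18705
theorem F56920 : act 6 n27171 = n25127 := d24_3 (iv F33479) D23064 D27171 F51351 (iv D23170) F33638 (iv D18789) (iv D13699) (iv D10854) (iv F19256) (iv D10840) D10841 F19258 D13663
def n27172 : Q := act 0 n23065
theorem D27172 : act 0 n23065 = n27172 := rfl
theorem F56921 : act 3 n27172 = n23073 := d2_2 (iv F45766) D27172 (iv D23073)
theorem F56922 : act 6 n23170 = n27172 := d22_3 (iv F56919) F56920 F51351 (iv D27172)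
def n27173 : Q := act 2 n23065
theorem D27173 : act 2 n23065 = n27173 := rfl
theorem F56923 : act 1 n27173 = n25342 := d6_1 D27173 (iv D25342) (iv D21131) (iv F33481) D23065
def n27174 : Q := act 6 n23065
theorem D27174 : act 6 n23065 = n27174 := rfl
theorem F56924 : act 0 n27174 = n23170 := d5_1 D27174 F56922 (iv D27172)
theorem F56925 : act 1 n27174 = n25620 := d10_1 D27174 (iv D25620) (iv F41294) (iv F33483) D23065
theorem F56926 : act 3 n27174 = n23075 := d17_1 D27174 (iv D23075) (iv F45766)
theorem F56927 : act 5 n27097 = n27174 := d22_0 (iv D27174) (iv F56919) F56920 (iv F56683)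
def n27175 : Q := act 0 n23076
theorem D27175 : act 0 n23076 = n27175 := rfl
theorem F56928 : act 1 n27175 = n23102 := d0_2 D23076 D27175 (iv D23102) (iv D18738) (iv D13672) (iv D10840) (iv F19241) D13662 D18715
theorem F56929 : act 3 n27175 = n23088 := d2_2 (iv F45810) D27175 (iv D23088)
theorem F56930 : act 5 n27175 = n26971 := d23_4 F56890 (iv D23077) D23076 D27175 F56273 (iv D23076) (iv D18715) (iv F33474) D23059 F45756 (iv F40965) F40966 (iv D21138) F27645 (iv D15985) (iv F27636) D21128 (iv F45756) (iv F56888)
theorem F56931 : act 6 n25454 = n27175 := d17_0 F56929 (iv F45834) (iv F52248)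
def n27176 : Q := act 5 n23076
theorem D27176 : act 5 n23076 = n27176 := rfl
theorem F56932 : act 0 n27176 = n26971 := d4_1 D27176 (iv F56930) (iv D27175)
theorem F56933 : act 1 n27176 = n25882 := d9_1 D27176 (iv D25882) (iv F45753) F45755 D23076
theorem F56934 : act 2 n27176 = n27175 := d13_1 D27176 F56930 F56273
theorem F56935 : act 3 n27176 = n23090 := d16_1 D27176 (iv D23090) (iv F45810)
theorem F56936 : act 4 n27176 = n27175 := d18_1 D27176 F56930 F56269
def n27177 : Q := act 6 n23076
theorem D27177 : act 6 n23076 = n27177 := rfl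
theorem F56937 : act 0 n27177 = n25454 := d5_1 D27177 F56931 (iv D27175)
theorem F56938 : act 3 n27177 = n23091 := d17_1 D27177 (iv D23091) (iv F45810)
def n27178 : Q := act 3 n23077
theorem D27178 : act 3 n23077 = n27178 := rfl
theorem F56939 : act 0 n27178 = n23079 := d2_1 D27178 (iv D23079) (iv F45811)
theorem F56940 : act 5 n27178 = n24803 := d16_2 F56890 D27178 (iv F56891)
theorem F56941 : act 2 n27178 = n24419 := d21_2 D23077 D27178 (iv D24419) F37940 (iv F29245) (iv D13665) (iv F23982) D18715
def n27179 : Q := act 6 n23077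
theorem D27179 : act 6 n23077 = n27179 := rfl
theorem F56942 : act 0 n27179 = n23080 := d5_1 D27179 (iv D23080) (iv F45811)
theorem F56943 : act 2 n27179 = n23078 := d14_1 D27179 (iv D23078) D23077
theorem F56944 : act 5 n27179 = n27163 := d22_2 F56890 D27179 (iv D27163) (iv F56888)
def n27180 : Q := act 1 n23078
theorem D27180 : act 1 n23078 = n27180 := rfl
theorem F56945 : act 3 n27180 = n23093 := d7_2 (iv F45813) D27180 (iv D23093)
theorem F56946 : act 5 n27180 = n23185 := d9_2 (iv F45814) D27180 (iv F51459) F56900 (iv D27164)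
theorem F56947 : act 2 n25682 = n27180 := d13_3 F56946 F46069 D25682
def n27181 : Q := act 2 n23079
theorem D27181 : act 2 n23079 = n27181 := rfl
theorem F56948 : act 0 n27181 = n24419 := d1_1 D27181 (iv F56941) F56939
theorem F56949 : act 3 n27181 = n24417 := d11_2 D23079 D27181 F49441 F37932 (iv D18722) (iv F33500) D23077 D27178 F56941 (iv D24419) F37940 (iv F29245) (iv D13665) (iv F23982) D18716
theorem F56950 : act 5 n27181 = n24553 := d13_2 F56895 D27181 (iv F56894)
theorem F56951 : act 4 n24554 = n27181 := d18_3 F56950 (iv D24553) D24554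
def n27182 : Q := act 4 n23079
theorem D27182 : act 4 n23079 = n27182 := rfl
theorem F56952 : act 1 n27182 = n25304 := d8_1 D27182 (iv D25304) (iv F45815)
theorem F56953 : act 2 n27182 = n24554 := d12_1 D27182 F56951 (iv D27181)
theorem F56954 : act 5 n27182 = n24552 := d18_2 F56895 D27182 F56896
def n27183 : Q := act 6 n23079
theorem D27183 : act 6 n23079 = n27183 := rfl
theorem F56955 : act 3 n27183 = n23080 := d17_1 D27183 (iv D23080) D23079
def n27184 : Q := act 1 n23080
theorem D27184 : act 1 n23080 = n27184 := rfl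
theorem F56956 : act 6 n27184 = n25306 := d10_2 D23080 D27184 (iv D25306) (iv D21094) (iv F33501)
def n27185 : Q := act 5 n23080
theorem D27185 : act 5 n23080 = n27185 := rfl
theorem F56957 : act 0 n27185 = n27163 := d4_1 D27185 (iv F56944) F56942
theorem F56958 : act 2 n27185 = n23081 := d13_1 D27185 (iv D23081) (iv F45816)
theorem F56959 : act 6 n27185 = n27161 := d20_2 D23080 D27185 F56890 D27179 F56944 (iv D27163) F45757
def n27186 : Q := act 0 n23082
theorem D27186 : act 0 n23082 = n27186 := rfl
theorem F56960 : act 1 n27186 = n23114 := d0_2 D23082 D27186 (iv D23114) (iv D18743) (iv D13676) (iv D10842) (iv F19244) D13663 D18718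
theorem F56961 : act 3 n27186 = n23094 := d2_2 (iv F45820) D27186 (iv D23094)
theorem F56962 : act 5 n25420 = n27186 := d16_0 F56961 (iv F45853) (iv F52192)
theorem F56963 : act 6 n26977 = n27186 := d17_0 F56961 (iv F45854) (iv F56287)
def n27187 : Q := act 2 n23082
theorem D27187 : act 2 n23082 = n27187 := rfl
def n27188 : Q := act 5 n23082
theorem D27188 : act 5 n23082 = n27188 := rfl
theorem F56964 : act 0 n27188 = n25420 := d4_1 D27188 F56962 (iv D27186)
theorem F56965 : act 3 n27188 = n23096 := d16_1 D27188 (iv D23096) (iv F45820)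
def n27189 : Q := act 6 n23082
theorem D27189 : act 6 n23082 = n27189 := rfl
theorem F56966 : act 0 n27189 = n26977 := d5_1 D27189 F56963 (iv D27186)
theorem F56967 : act 1 n27189 = n26122 := d10_1 D27189 (iv D26122) (iv F45760) F45762 D23082
theorem F56968 : act 3 n27189 = n23097 := d17_1 D27189 (iv D23097) (iv F45820)
theorem F56969 : act 4 n27189 = n27186 := d19_1 D27189 (iv F56963) F56288
theorem F56970 : act 2 n27186 = n27189 := d25_2 (iv F45851) (iv F56961) F56968 (iv F55369) F55368 (iv F51951) (iv D25315) (iv D21101) (iv D15954) (iv D12047) F17687 (iv F17684) (iv F21259) F21258 D13414 F23593 D13421 D18377 (iv F35265) F33940 F24203 (iv F19625) D14163 (iv F33371) F33370 (iv D13610) (iv F19196) (iv D10817) (iv D7799) (iv D3732) F16776 (iv F5707) D7768 D10798 (iv F19202) F34535 F34513 F19200 D11459 D14872 F25842 (iv F34609) F22361 (iv F34614) (iv D12756) D12755 F22348 D12762 D17229 (iv F36286) (iv D19396) (iv F35187) F29195 (iv F26621) (iv F34549) (iv D13510) D13509 (iv F34430) (iv F35435) F35438 F35441 (iv F35739) F35741 F35102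 (iv D12647) F18096 F8424 (iv F7962) (iv F17907) F17908 F17417 D10293 (iv F21714) (iv F28391) F34636 (iv F34662) (iv F34155)
theorem E10352 : n27187 = n26977 := ((c1_2 F56970 F56966 (iv D27187) D27186)).symm
theorem F56971 : act 2 n26977 = n23082 := (sb E10352 (iv D27187))
theorem F56972 : act 1 n23083 = n26978 := d6_3 F56971 (iv D23082) D23083 (iv D26978) D26977
theorem F56973 : act 0 n24499 = n25313 := d0_5 F56972 F56289 F44799 (iv F38140) D24499 (iv D25313) F40727 (iv F33504) (iv F45821)
def n27190 : Q := act 3 n23083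
theorem D27190 : act 3 n23083 = n27190 := rfl
theorem F56974 : act 0 n27190 = n23085 := d2_1 D27190 (iv D23085) (iv F45821)
theorem F56975 : act 6 n27190 = n24855 := d17_2 F56910 D27190 (iv F56911)
theorem F56976 : act 2 n27190 = n24440 := d21_2 D23083 D27190 (iv D24440) F37987 F35505 (iv D13668) (iv F23983) D18718
def n27191 : Q := act 5 n23083
theorem D27191 : act 5 n23083 = n27191 := rfl
theorem F56977 : act 0 n27191 = n23086 := d4_1 D27191 (iv D23086) (iv F45821)
theorem F56978 : act 2 n27191 = n23084 := d13_1 D27191 (iv D23084) D23083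
theorem F56979 : act 6 n27191 = n27170 := d22_1 D27191 (iv D27170) F45764 (iv F45821)
def n27192 : Q := act 1 n23084
theorem D27192 : act 1 n23084 = n27192 := rfl
theorem F56980 : act 3 n27192 = n23099 := d7_2 (iv F45823) D27192 (iv D23099)
theorem F56981 : act 6 n27192 = n23168 := d10_2 (iv F45824) D27192 (iv F51350) (iv F56920) (iv D27171)
theorem F56982 : act 2 n25784 = n27192 := d14_3 F56981 F46030 D25784
def n27193 : Q := act 2 n23085
theorem D27193 : act 2 n23085 = n27193 := rfl
theorem F56983 : act 0 n27193 = n24440 := d1_1 D27193 (iv F56976) F56974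
theorem F56984 : act 3 n27193 = n24438 := d11_2 D23085 D27193 F49504 F37979 (iv D18727) (iv F33503) D23083 D27190 F56976 (iv D24440) F37987 F35505 (iv D13668) (iv F23983) D18719
theorem F56985 : act 6 n27193 = n24608 := d14_2 F56915 D27193 (iv F56914)
theorem F56986 : act 4 n24610 = n27193 := d19_3 F56985 (iv D24608) D24610
def n27194 : Q := act 4 n23085
theorem D27194 : act 4 n23085 = n27194 := rfl
theorem F56987 : act 1 n27194 = n25316 := d8_1 D27194 (iv D25316) (iv F45825)
theorem F56988 : act 2 n27194 = n24610 := d12_1 D27194 F56986 (iv D27193)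
theorem F56989 : act 6 n27194 = n24607 := d19_2 F56915 D27194 F56916
def n27195 : Q := act 5 n23085
theorem D27195 : act 5 n23085 = n27195 := rfl
theorem F56990 : act 3 n27195 = n23086 := d16_1 D27195 (iv D23086) D23085
def n27196 : Q := act 1 n23086
theorem D27196 : act 1 n23086 = n27196 := rfl
theorem F56991 : act 5 n27196 = n25318 := d9_2 D23086 D27196 (iv D25318) (iv D21102) (iv F33504)
def n27197 : Q := act 6 n23086
theorem D27197 : act 6 n23086 = n27197 := rfl
theorem F56992 : act 0 n27197 = n27170 := d5_1 D27197 (iv F56979) F56977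
theorem F56993 : act 2 n27197 = n23087 := d14_1 D27197 (iv D23087) (iv F45826)
theorem F56994 : act 5 n27197 = n27168 := d20_1 D27197 F56910 D27191 F56979 (iv D27170) F45764 D23086
def n27198 : Q := act 3 n23089
theorem D27198 : act 3 n23089 = n27198 := rfl
theorem F56995 : act 0 n27198 = n25291 := d2_1 D27198 F51898 (iv F45835)
theorem F56996 : act 1 n27198 = n27181 := d7_1 D27198 F56949 F49440
theorem F56997 : act 4 n27198 = n25290 := d15_2 (iv F45836) D27198 (iv D25290) F40640 F34144
def n27199 : Q := act 6 n23089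
theorem D27199 : act 6 n23089 = n27199 := rfl
theorem F56998 : act 0 n27199 = n26127 := d5_1 D27199 F53754 (iv F45835)
theorem F56999 : act 2 n27199 = n23091 := d14_1 D27199 (iv D23091) D23089
theorem F57000 : act 4 n27199 = n23500 := d19_1 D27199 (iv D23500) (iv F45836)
def n27200 : Q := act 3 n23095
theorem D27200 : act 3 n23095 = n27200 := rfl
theorem F57001 : act 0 n27200 = n25295 := d2_1 D27200 F51907 (iv F45855)
theorem F57002 : act 1 n27200 = n27193 := d7_1 D27200 F56984 F49503
theorem F57003 : act 4 n27200 = n25294 := d15_2 (iv F45856) D27200 (iv D25294) F40645 (iv F35177)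
def n27201 : Q := act 5 n23095
theorem D27201 : act 5 n23095 = n27201 := rfl
theorem F57004 : act 0 n27201 = n25892 := d4_1 D27201 F53165 (iv F45855)
theorem F57005 : act 2 n27201 = n23096 := d13_1 D27201 (iv D23096) D23095
theorem F57006 : act 4 n27201 = n23501 := d18_1 D27201 (iv D23501) (iv F45856)
def n27202 : Q := act 2 n23102
theorem D27202 : act 2 n23102 = n27202 := rfl
theorem F57007 : act 0 n27202 = n23103 := d1_1 D27202 (iv D23103) D23102
theorem F57008 : act 1 n27202 = n24915 := d6_1 D27202 (iv F53129) (iv F56933) F56934 F56928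
theorem F57009 : act 3 n27202 = n24920 := d11_2 (iv F45882) D27202 F50650 (iv F50640) F50639 (iv D23126) (iv D18749) (iv F33549) D23103 (iv F48277) F48276 D24569 F49851 F41659 F33566
theorem F57010 : act 4 n27202 = n24915 := d12_2 F53131 D27202 (iv F53129)
theorem F57011 : act 5 n27202 = n24914 := d13_2 F45928 D27202 F50639
theorem F57012 : act 6 n27202 = n26126 := d14_2 F45883 D27202 (iv D26126)
def n27203 : Q := act 6 n23103
theorem D27203 : act 6 n23103 = n27203 := rfl
theorem F57013 : act 0 n27203 = n26126 := d5_1 D27203 (iv F57012) F57007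
theorem F57014 : act 2 n27203 = n23104 := d14_1 D27203 (iv D23104) D23103
def n27204 : Q := act 5 n23104
theorem D27204 : act 5 n23104 = n27204 := rfl
theorem F57015 : act 0 n27204 = n25886 := d4_1 D27204 F53145 (iv F45885)
theorem F57016 : act 3 n27204 = n23127 := d16_1 D27204 F45932 (iv F45886)
theorem F57017 : act 4 n27204 = n25883 := d18_1 D27204 (iv F53149) F53148
theorem F57018 : act 6 n27204 = n23126 := d20_2 D23104 D27204 F45928 (iv F45883) (iv F53145) (iv D25886) (iv F41660)
def n27205 : Q := act 1 n23105
theorem D27205 : act 1 n23105 = n27205 := rfl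
theorem F57019 : act 3 n27205 = n23133 := d7_2 (iv F45887) D27205 (iv D23133)
def n27206 : Q := act 5 n23106
theorem D27206 : act 5 n23106 = n27206 := rfl
theorem F57020 : act 2 n27206 = n23107 := d13_1 D27206 (iv D23107) D23106
def n27207 : Q := act 2 n23108
theorem D27207 : act 2 n23108 = n27207 := rfl
def n27208 : Q := act 6 n23108
theorem D27208 : act 6 n23108 = n27208 := rfl
theorem F57021 : act 0 n27208 = n25544 := d5_1 D27208 (iv F52620) F52618
theorem F57022 : act 3 n27208 = n23136 := d17_1 D27208 (iv D23136) (iv F45891)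
theorem F57023 : act 5 n27208 = n25622 := d20_1 D27208 F52602 D25627 F52620 F52427 (iv F52615) (iv F52616)
def n27209 : Q := act 1 n23109
theorem D27209 : act 1 n23109 = n27209 := rfl
theorem F57024 : act 3 n27209 = n24700 := d7_2 (iv F45893) D27209 F50175
def n27210 : Q := act 5 n23109
theorem D27210 : act 5 n23109 = n27210 := rfl
theorem F57025 : act 0 n27210 = n23112 := d4_1 D27210 (iv D23112) (iv F45892)
theorem F57026 : act 2 n27210 = n23110 := d13_1 D27210 (iv D23110) D23109
theorem F57027 : act 3 n27210 = n24701 := d16_1 D27210 (iv D24701) (iv F45893)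
theorem F57028 : act 6 n27210 = n27206 := d22_1 D27210 (iv D27206) F45889 (iv F45892)
def n27211 : Q := act 1 n23112
theorem D27211 : act 1 n23112 = n27211 := rfl
theorem F57029 : act 2 n27211 = n27196 := d6_2 (iv F45900) D27211 (iv D27196) F45826 (iv F33553)
def n27212 : Q := act 6 n23112
theorem D27212 : act 6 n23112 = n27212 := rfl
theorem F57030 : act 0 n27212 = n27206 := d5_1 D27212 (iv F57028) F57025
theorem F57031 : act 2 n27212 = n23113 := d14_1 D27212 (iv D23113) (iv F45900)
theorem F57032 : act 3 n27212 = n25707 := d17_1 D27212 F52740 F52294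
theorem F57033 : act 5 n27212 = n25706 := d20_1 D27212 F52738 D27210 F57028 (iv D27206) F45889 D23112
def n27213 : Q := act 1 n23113
theorem D27213 : act 1 n23113 = n27213 := rfl
theorem F57034 : act 0 n27213 = n27018 := d0_1 D27213 F56419 (iv F53154) F53155 F42026 D25729 F52789 F46014 (iv F45901)
theorem F57035 : act 3 n27213 = n23140 := d7_2 (iv F45902) D27213 (iv D23140)
theorem F57036 : act 6 n27213 = n27016 := d10_2 D23113 D27213 (iv F56415) (iv D23087) (iv F33553)
def n27214 : Q := act 2 n23114
theorem D27214 : act 2 n23114 = n27214 := rfl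
theorem F57037 : act 0 n27214 = n23115 := d1_1 D27214 (iv D23115) D23114
theorem F57038 : act 1 n27214 = n24945 := d6_1 D27214 (iv F53735) (iv F56967) (iv F56970) F56960
theorem F57039 : act 3 n27214 = n24951 := d11_2 (iv F45904) D27214 F50732 (iv F50717) F50716 (iv D23141) (iv D18766) (iv F33555) D23115 (iv F48344) F48343 D24624 F49987 F42003 F34669
theorem F57040 : act 4 n27214 = n24945 := d12_2 F53737 D27214 (iv F53735)
theorem F57041 : act 5 n27214 = n25891 := d13_2 F45905 D27214 (iv D25891)
theorem F57042 : act 6 n27214 = n24943 := d14_2 F45967 D27214 F50716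
def n27215 : Q := act 5 n23115
theorem D27215 : act 5 n23115 = n27215 := rfl
theorem F57043 : act 0 n27215 = n25891 := d4_1 D27215 (iv F57041) F57037
theorem F57044 : act 2 n27215 = n23116 := d13_1 D27215 (iv D23116) D23115
def n27216 : Q := act 6 n23116
theorem D27216 : act 6 n23116 = n27216 := rfl
theorem F57045 : act 0 n27216 = n25888 := d5_1 D27216 F53152 (iv F45907)
theorem F57046 : act 3 n27216 = n23142 := d17_1 D27216 F45971 (iv F45908)
theorem F57047 : act 4 n27216 = n26121 := d19_1 D27216 (iv F53750) F53749
theorem F57048 : act 5 n27216 = n23141 := d20_1 D27216 F45967 (iv F45905) (iv F53152) (iv F53153) (iv F42004) D23116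
def n27217 : Q := act 1 n23117
theorem D27217 : act 1 n23117 = n27217 := rfl
theorem F57049 : act 3 n27217 = n23148 := d7_2 (iv F45909) D27217 (iv D23148)
def n27218 : Q := act 6 n23118
theorem D27218 : act 6 n23118 = n27218 := rfl
theorem F57050 : act 2 n27218 = n23119 := d14_1 D27218 (iv D23119) D23118
def n27219 : Q := act 2 n23120
theorem D27219 : act 2 n23120 = n27219 := rfl
def n27220 : Q := act 5 n23120
theorem D27220 : act 5 n23120 = n27220 := rfl
theorem F57051 : act 0 n27220 = n25486 := d4_1 D27220 (iv F52798) F52795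
theorem F57052 : act 3 n27220 = n23151 := d16_1 D27220 (iv D23151) (iv F45913)
theorem F57053 : act 6 n27220 = n25727 := d20_2 (iv F52793) D27220 F52779 D25732 F52798 F52301 (iv F52792)
def n27221 : Q := act 1 n23121
theorem D27221 : act 1 n23121 = n27221 := rfl
theorem F57054 : act 3 n27221 = n24678 := d7_2 (iv F45915) D27221 F50121
def n27222 : Q := act 6 n23121
theorem D27222 : act 6 n23121 = n27222 := rfl
theorem F57055 : act 0 n27222 = n23124 := d5_1 D27222 (iv D23124) (iv F45914)
theorem F57056 : act 2 n27222 = n23122 := d14_1 D27222 (iv D23122) D23121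
theorem F57057 : act 3 n27222 = n24679 := d17_1 D27222 (iv D24679) (iv F45915)
theorem F57058 : act 5 n27222 = n27218 := d22_2 F52961 D27222 (iv D27218) (iv F52959)
def n27223 : Q := act 1 n23124
theorem D27223 : act 1 n23124 = n27223 := rfl
theorem F57059 : act 2 n27223 = n27184 := d6_2 (iv F45922) D27223 (iv D27184) F45816 (iv F33559)
def n27224 : Q := act 5 n23124
theorem D27224 : act 5 n23124 = n27224 := rfl
theorem F57060 : act 0 n27224 = n27218 := d4_1 D27224 (iv F57058) F57055
theorem F57061 : act 2 n27224 = n23125 := d13_1 D27224 (iv D23125) (iv F45922)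
theorem F57062 : act 3 n27224 = n25811 := d16_1 D27224 F52964 F52238
theorem F57063 : act 6 n27224 = n25810 := d20_2 D23124 D27224 F52961 D27222 F57058 (iv D27218) F45911
def n27225 : Q := act 1 n23125
theorem D27225 : act 1 n23125 = n27225 := rfl
theorem F57064 : act 0 n27225 = n27022 := d0_1 D27225 F56430 F53747 (iv D25890) F41682 D25624 (iv F52612) F46046 (iv F45923)
theorem F57065 : act 3 n27225 = n23155 := d7_2 (iv F45924) D27225 (iv D23155)
theorem F57066 : act 5 n27225 = n27020 := d9_2 D23125 D27225 (iv F56426) (iv D23081) (iv F33559)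
def n27226 : Q := act 1 n23128
theorem D27226 : act 1 n23128 = n27226 := rfl
theorem F57067 : act 3 n27226 = n23502 := d7_2 (iv F45934) D27226 (iv D23502)
theorem F57068 : act 4 n27226 = n23129 := d8_2 (iv F45935) D27226 (iv D23129)
def n27227 : Q := act 0 n23129
theorem D27227 : act 0 n23129 = n27227 := rfl
theorem F57069 : act 3 n27227 = n23130 := d2_2 (iv F45936) D27227 (iv D23130)
def n27228 : Q := act 2 n23129
theorem D27228 : act 2 n23129 = n27228 := rfl
def n27229 : Q := act 5 n23129
theorem D27229 : act 5 n23129 = n27229 := rfl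
theorem F57070 : act 3 n27229 = n23132 := d16_1 D27229 (iv D23132) (iv F45936)
def n27230 : Q := act 2 n23130
theorem D27230 : act 2 n23130 = n27230 := rfl
theorem F57071 : act 0 n27230 = n23131 := d1_1 D27230 (iv D23131) D23130
theorem F57072 : act 4 n27230 = n23506 := d12_2 (iv F45937) D27230 (iv D23506)
theorem F57073 : act 3 n26051 = n27230 := d15_5 F57072 (iv F51681) F55350 (iv D26705) (iv F53553)
def n27231 : Q := act 5 n23130
theorem D27231 : act 5 n23130 = n27231 := rfl
theorem F57074 : act 0 n27231 = n23132 := d4_1 D27231 (iv D23132) D23130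
theorem F57075 : act 4 n27231 = n23507 := d18_1 D27231 (iv D23507) (iv F45937)
theorem F57076 : act 6 n27231 = n27044 := d22_1 D27231 (iv D27044) F45170 D23130
def n27232 : Q := act 5 n23131
theorem D27232 : act 5 n23131 = n27232 := rfl
theorem F57077 : act 2 n27232 = n23132 := d13_1 D27232 (iv D23132) D23131
theorem F57078 : act 3 n27232 = n26053 := d16_1 D27232 (iv D26053) F45940
theorem F57079 : act 4 n27232 = n23508 := d18_1 D27232 (iv D23508) (iv F45939)
def n27233 : Q := act 6 n23132
theorem D27233 : act 6 n23132 = n27233 := rfl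
theorem F57080 : act 0 n27233 = n27044 := d5_1 D27233 (iv F57076) F57074
theorem F57081 : act 4 n27233 = n23509 := d19_1 D27233 (iv D23509) (iv F45941)
theorem F57082 : act 5 n27233 = n27042 := d20_1 D27233 F56495 D27231 F57076 (iv D27044) F45170 D23132
theorem F57083 : act 1 n25007 = n27233 := d8_3 F57081 (iv F46817) (iv F50917)
def n27234 : Q := act 2 n23133
theorem D27234 : act 2 n23133 = n27234 := rfl
theorem F57084 : act 0 n27234 = n26877 := d1_1 D27234 F55916 F49258
theorem F57085 : act 4 n27234 = n23510 := d12_2 (iv F45942) D27234 (iv D23510)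
def n27235 : Q := act 2 n23134
theorem D27235 : act 2 n23134 = n27235 := rfl
theorem F57086 : act 0 n27235 = n23135 := d1_1 D27235 (iv D23135) D23134
theorem F57087 : act 4 n27235 = n23511 := d12_2 (iv F45943) D27235 (iv D23511)
theorem F57088 : act 5 n27235 = n23729 := d13_2 (iv F45944) D27235 F47429
theorem F57089 : act 6 n27235 = n25545 := d14_2 F45945 D27235 (iv D25545)
def n27236 : Q := act 1 n23135
theorem D27236 : act 1 n23135 = n27236 := rfl
theorem F57090 : act 2 n27236 = n23137 := d6_2 D23135 D27236 (iv D23137) (iv D18760) D18759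
theorem F57091 : act 4 n27236 = n23512 := d8_2 (iv F45946) D27236 (iv D23512)
theorem F57092 : act 5 n27236 = n23721 := d9_2 (iv F45947) D27236 F47408 F36082 (iv F36093)
def n27237 : Q := act 3 n23135
theorem D27237 : act 3 n23135 = n27237 := rfl
theorem F57093 : act 4 n27237 = n23444 := d15_2 (iv F45946) D27237 F46678 F33991 (iv F36129)
theorem F57094 : act 5 n27237 = n23443 := d16_2 (iv F45947) D27237 F46677
def n27238 : Q := act 6 n23135
theorem D27238 : act 6 n23135 = n27238 := rfl
theorem F57095 : act 0 n27238 = n25545 := d5_1 D27238 (iv F57089) F57086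
theorem F57096 : act 2 n27238 = n23136 := d14_1 D27238 (iv D23136) D23135
theorem F57097 : act 4 n27238 = n23513 := d19_1 D27238 (iv D23513) (iv F45946)
theorem F57098 : act 5 n27238 = n27026 := d20_1 D27238 F56444 (iv F57088) F57089 F52430 (iv F44935) (iv F45947)
def n27239 : Q := act 5 n23137
theorem D27239 : act 5 n23137 = n27239 := rfl
theorem F57099 : act 0 n27239 = n25915 := d4_1 D27239 (iv F53241) F51397
theorem F57100 : act 2 n27239 = n23721 := d13_1 D27239 (iv F57092) F57090
theorem F57101 : act 3 n27239 = n25913 := d16_1 D27239 F53236 F50395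
theorem F57102 : act 4 n27239 = n23514 := d18_1 D27239 (iv D23514) (iv F45951)
theorem F57103 : act 6 n27239 = n23724 := d22_3 (iv F53231) F53232 D27239 F47417
def n27240 : Q := act 1 n23138
theorem D27240 : act 1 n23138 = n27240 := rfl
theorem F57104 : act 3 n27240 = n25600 := d7_2 (iv F45954) D27240 F52556
theorem F57105 : act 4 n27240 = n23516 := d8_2 (iv F45955) D27240 (iv D23516)
def n27241 : Q := act 1 n23143
theorem D27241 : act 1 n23143 = n27241 := rfl
theorem F57106 : act 3 n27241 = n23517 := d7_2 (iv F45973) D27241 (iv D23517)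
theorem F57107 : act 4 n27241 = n23144 := d8_2 (iv F45974) D27241 (iv D23144)
def n27242 : Q := act 0 n23144
theorem D27242 : act 0 n23144 = n27242 := rfl
theorem F57108 : act 3 n27242 = n23145 := d2_2 (iv F45975) D27242 (iv D23145)
def n27243 : Q := act 2 n23144
theorem D27243 : act 2 n23144 = n27243 := rfl
def n27244 : Q := act 6 n23144
theorem D27244 : act 6 n23144 = n27244 := rfl
theorem F57109 : act 3 n27244 = n23147 := d17_1 D27244 (iv D23147) (iv F45975)
def n27245 : Q := act 2 n23145
theorem D27245 : act 2 n23145 = n27245 := rfl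
theorem F57110 : act 0 n27245 = n23146 := d1_1 D27245 (iv D23146) D23145
theorem F57111 : act 4 n27245 = n23519 := d12_2 (iv F45976) D27245 (iv D23519)
theorem F57112 : act 3 n26282 = n27245 := d15_5 F57111 (iv F51525) F55717 (iv D26812) (iv F54144)
def n27246 : Q := act 6 n23145
theorem D27246 : act 6 n23145 = n27246 := rfl
theorem F57113 : act 0 n27246 = n23147 := d5_1 D27246 (iv D23147) D23145
theorem F57114 : act 4 n27246 = n23520 := d19_1 D27246 (iv D23520) (iv F45976)
theorem F57115 : act 5 n27246 = n27052 := d22_2 F56523 D27246 (iv D27052) D27050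
def n27247 : Q := act 6 n23146
theorem D27247 : act 6 n23146 = n27247 := rfl
theorem F57116 : act 2 n27247 = n23147 := d14_1 D27247 (iv D23147) D23146
theorem F57117 : act 3 n27247 = n26284 := d17_1 D27247 (iv D26284) F45979
theorem F57118 : act 4 n27247 = n23521 := d19_1 D27247 (iv D23521) (iv F45978)
def n27248 : Q := act 5 n23147
theorem D27248 : act 5 n23147 = n27248 := rfl
theorem F57119 : act 0 n27248 = n27052 := d4_1 D27248 (iv F57115) F57113
theorem F57120 : act 4 n27248 = n23522 := d18_1 D27248 (iv D23522) (iv F45980)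
theorem F57121 : act 6 n27248 = n27050 := d20_2 D23147 D27248 F56523 D27246 F57115 (iv D27052) F45198
theorem F57122 : act 1 n25028 = n27248 := d8_3 F57120 (iv F46845) (iv F50994)
def n27249 : Q := act 2 n23148
theorem D27249 : act 2 n23148 = n27249 := rfl
theorem F57123 : act 0 n27249 = n26842 := d1_1 D27249 F55808 F49098
theorem F57124 : act 4 n27249 = n23523 := d12_2 (iv F45981) D27249 (iv D23523)
def n27250 : Q := act 2 n23149
theorem D27250 : act 2 n23149 = n27250 := rfl
theorem F57125 : act 0 n27250 = n23150 := d1_1 D27250 (iv D23150) D23149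
theorem F57126 : act 4 n27250 = n23524 := d12_2 (iv F45983) D27250 (iv D23524)
theorem F57127 : act 5 n27250 = n25487 := d13_2 (iv F45985) D27250 (iv D25487)
theorem F57128 : act 6 n27250 = n23677 := d14_2 (iv F45984) D27250 F47284
def n27251 : Q := act 1 n23150
theorem D27251 : act 1 n23150 = n27251 := rfl
theorem F57129 : act 2 n27251 = n23152 := d6_2 D23150 D27251 (iv D23152) (iv D18778) D18777
theorem F57130 : act 4 n27251 = n23525 := d8_2 (iv F45986) D27251 (iv D23525)
theorem F57131 : act 6 n27251 = n23669 := d10_2 (iv F45987) D27251 F47265 F35942 (iv F35950)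
def n27252 : Q := act 3 n23150
theorem D27252 : act 3 n23150 = n27252 := rfl
theorem F57132 : act 4 n27252 = n23386 := d15_2 (iv F45986) D27252 F46545 F33915 (iv F35987)
theorem F57133 : act 6 n27252 = n23384 := d17_2 (iv F45987) D27252 F46542
def n27253 : Q := act 5 n23150
theorem D27253 : act 5 n23150 = n27253 := rfl
theorem F57134 : act 0 n27253 = n25487 := d4_1 D27253 (iv F57127) F57125
theorem F57135 : act 2 n27253 = n23151 := d13_1 D27253 (iv D23151) D23150
theorem F57136 : act 4 n27253 = n23526 := d18_1 D27253 (iv D23526) (iv F45986)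
theorem F57137 : act 6 n27253 = n27023 := d20_2 (iv F45987) D27253 F56435 (iv F57128) F57127 F52304 (iv F44920)
def n27254 : Q := act 6 n23152
theorem D27254 : act 6 n23152 = n27254 := rfl
theorem F57138 : act 0 n27254 = n26150 := d5_1 D27254 F53830 F51390
theorem F57139 : act 2 n27254 = n23669 := d14_1 D27254 (iv F57131) F57129
theorem F57140 : act 3 n27254 = n26148 := d17_1 D27254 F53825 F50283
theorem F57141 : act 4 n27254 = n23528 := d19_1 D27254 (iv D23528) (iv F45991)
theorem F57142 : act 5 n27254 = n23672 := d24_1 D27254 F47273 F35946 F24536 (iv F35958) D23685 (iv F47297) F40478 F27385 (iv D15713) (iv F27190) (iv F40118) F40117 D23152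
def n27255 : Q := act 1 n23153
theorem D27255 : act 1 n23153 = n27255 := rfl
theorem F57143 : act 3 n27255 = n25542 := d7_2 (iv F45994) D27255 F52419
theorem F57144 : act 4 n27255 = n23529 := d8_2 (iv F45995) D27255 (iv D23529)
def n27256 : Q := act 1 n23156
theorem D27256 : act 1 n23156 = n27256 := rfl
theorem F57145 : act 2 n27256 = n25420 := d6_2 (iv F46006) D27256 (iv D25420) F41001 (iv F41005)
theorem F57146 : act 3 n27256 = n23191 := d7_2 (iv F46007) D27256 (iv D23191)
theorem F57147 : act 4 n27256 = n25420 := d8_2 (iv F46008) D27256 (iv D25420)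
theorem F57148 : act 5 n27256 = n27189 := d9_2 (iv F46009) D27256 F56967 F53738 (iv D25890)
theorem F57149 : act 6 n27256 = n25420 := d10_2 D23156 D27256 (iv D25420) (iv D21206) (iv F33620)
def n27257 : Q := act 0 n23157
theorem D27257 : act 0 n23157 = n27257 := rfl
theorem F57150 : act 3 n27257 = n23202 := d2_2 (iv F46010) D27257 (iv D23202)
theorem F57151 : act 4 n27257 = n27220 := d3_2 F52300 D27257 F57051
theorem F57152 : act 6 n27257 = n23158 := d5_2 (iv F46011) D27257 (iv D23158)
theorem F57153 : act 5 n27257 = n26997 := d22_0 (iv F56348) (iv D23160) (iv F46011) D27257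
theorem F57154 : act 1 n27257 = n27071 := d24_2 F56348 (iv F57153) (iv F56907) (iv D27167) (iv D23061) (iv D18704) (iv D13656) F19237 D10835 (iv F19258) D13675 (iv F33551) D23107 (iv F46014)
def n27258 : Q := act 2 n23157
theorem D27258 : act 2 n23157 = n27258 := rfl
theorem F57155 : act 1 n27258 = n25607 := d6_1 D27258 (iv D25607) (iv D21335) (iv F33625) D23157
theorem F57156 : act 6 n27258 = n23159 := d14_2 (iv F46011) D27258 (iv D23159)
def n27259 : Q := act 5 n23157
theorem D27259 : act 5 n23157 = n27259 := rfl
theorem F57157 : act 0 n27259 = n26997 := d4_1 D27259 (iv F57153) (iv D27257)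
theorem F57158 : act 3 n27259 = n23204 := d16_1 D27259 (iv D23204) (iv F46010)
theorem F57159 : act 4 n27259 = n25732 := d18_1 D27259 F52798 F52300
theorem F57160 : act 6 n27259 = n25729 := d20_2 (iv F46011) D27259 F52788 (iv F57152) F57153 (iv F56348) (iv D23160)
def n27260 : Q := act 2 n23158
theorem D27260 : act 2 n23158 = n27260 := rfl
theorem F57161 : act 0 n27260 = n23159 := d1_1 D27260 (iv D23159) D23158
theorem F57162 : act 1 n27260 = n27260 := d6_1 D27260 (iv D27260) F52776 F52772 (iv F52776)
def n27261 : Q := act 3 n23159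
theorem D27261 : act 3 n23159 = n27261 := rfl
theorem F57163 : act 1 n27261 = n25603 := d7_1 D27261 (iv D25603) (iv F46013)
def n27262 : Q := act 5 n23159
theorem D27262 : act 5 n23159 = n27262 := rfl
theorem F57164 : act 2 n27262 = n23160 := d13_1 D27262 (iv D23160) D23159
def n27263 : Q := act 0 n23162
theorem D27263 : act 0 n23162 = n27263 := rfl
theorem F57165 : act 1 n27263 = n25728 := d0_2 D23162 D27263 F52781 (iv F52776) (iv D23158) (iv D18785) F24042 D13699 D18787
theorem F57166 : act 3 n27263 = n23236 := d2_2 (iv F46022) D27263 (iv D23236)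
theorem F57167 : act 4 n27263 = n27167 := d3_2 F46073 D27263 F56904
theorem F57168 : act 5 n26969 = n27263 := d18_0 F57167 (iv D27167) (iv F56265)
def n27264 : Q := act 2 n23162
theorem D27264 : act 2 n23162 = n27264 := rfl
theorem F57169 : act 1 n27264 = n25775 := d6_1 D27264 (iv D25775) (iv D21452) (iv F37355) D23162
def n27265 : Q := act 5 n23162
theorem D27265 : act 5 n23162 = n27265 := rfl
theorem F57170 : act 0 n27265 = n26969 := d4_1 D27265 F57168 (iv D27263)
theorem F57171 : act 3 n27265 = n23238 := d16_1 D27265 (iv D23238) (iv F46022)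
theorem F57172 : act 4 n27265 = n27165 := d18_1 D27265 F56902 F46073
theorem F57173 : act 6 n27217 = n27265 := d17_0 F57171 (iv F46192) (iv F57049)
def n27266 : Q := act 6 n23162
theorem D27266 : act 6 n23162 = n27266 := rfl
theorem F57174 : act 1 n27266 = n23169 := d10_1 D27266 (iv D23169) (iv D18791) (iv F33630) D23162
theorem F57175 : act 3 n27266 = n23239 := d17_1 D27266 (iv D23239) (iv F46022)
theorem F57176 : act 4 n27266 = n25158 := d19_1 D27266 F51460 F46073
def n27267 : Q := act 0 n23163
theorem D27267 : act 0 n23163 = n27267 := rfl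
theorem F57177 : act 3 n27267 = n23245 := d2_2 (iv F46023) D27267 (iv D23245)
theorem F57178 : act 5 n27267 = n23164 := d4_2 (iv F46024) D27267 (iv D23164)
theorem F57179 : act 1 n27216 = n27267 := d9_5 F57178 F56302 F56301 F49229 (iv F57048)
def n27268 : Q := act 2 n23163
theorem D27268 : act 2 n23163 = n27268 := rfl
theorem F57180 : act 1 n27268 = n24492 := d6_1 D27268 F49658 F41504 F41500 D23163
theorem F57181 : act 4 n27268 = n25369 := d12_2 F46075 D27268 F52056
theorem F57182 : act 5 n27268 = n23165 := d13_2 (iv F46024) D27268 (iv D23165)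
def n27269 : Q := act 6 n23163
theorem D27269 : act 6 n23163 = n27269 := rfl
theorem F57183 : act 1 n27269 = n27172 := d10_1 D27269 (iv F56922) (iv D23170) F33638 D23163
theorem F57184 : act 3 n27269 = n23247 := d17_1 D27269 (iv D23247) (iv F46023)
def n27270 : Q := act 2 n23164
theorem D27270 : act 2 n23164 = n27270 := rfl
theorem F57185 : act 0 n27270 = n23165 := d1_1 D27270 (iv D23165) D23164
def n27271 : Q := act 6 n23164
theorem D27271 : act 6 n23164 = n27271 := rfl
theorem F57186 : act 0 n27271 = n23166 := d5_1 D27271 (iv D23166) D23164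
theorem F57187 : act 1 n27271 = n26993 := d10_1 D27271 (iv D26993) F44837 D26982 (iv F56302)
theorem F57188 : act 3 n27271 = n23249 := d17_1 D27271 (iv D23249) (iv F46025)
theorem F57189 : act 4 n27271 = n27213 := d19_1 D27271 F57036 F56414
theorem F57190 : act 5 n27271 = n27269 := d22_2 F57178 D27271 (iv D27269) D27267
def n27272 : Q := act 3 n23165
theorem D27272 : act 3 n23165 = n27272 := rfl
def n27273 : Q := act 6 n23165
theorem D27273 : act 6 n23165 = n27273 := rfl
theorem F57191 : act 2 n27273 = n23166 := d14_1 D27273 (iv D23166) D23165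
def n27274 : Q := act 5 n23166
theorem D27274 : act 5 n23166 = n27274 := rfl
theorem F57192 : act 0 n27274 = n27269 := d4_1 D27274 (iv F57190) F57186
theorem F57193 : act 3 n27274 = n23252 := d16_1 D27274 (iv D23252) (iv F46027)
theorem F57194 : act 6 n27274 = n27267 := d20_2 D23166 D27274 F57178 D27271 F57190 (iv D27269) F46024
def n27275 : Q := act 5 n23167
theorem D27275 : act 5 n23167 = n27275 := rfl
theorem F57195 : act 0 n27275 = n23168 := d4_1 D27275 (iv D23168) D23167
theorem F57196 : act 2 n27275 = n25778 := d13_1 D27275 (iv D25778) (iv F46028)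
theorem F57197 : act 3 n27275 = n23253 := d16_1 D27275 (iv D23253) (iv F46029)
def n27276 : Q := act 6 n23167
theorem D27276 : act 6 n23167 = n27276 := rfl
theorem F57198 : act 0 n27276 = n23169 := d5_1 D27276 (iv D23169) D23167
theorem F57199 : act 2 n27276 = n25779 := d14_1 D27276 (iv D25779) (iv F46028)
theorem F57200 : act 3 n27276 = n23254 := d17_1 D27276 (iv D23254) (iv F46029)
theorem F57201 : act 5 n27276 = n27192 := d22_2 (iv D27275) D27276 F56981 (iv F57195)
theorem F57202 : act 1 n27188 = n27276 := d9_5 F57201 (iv D27192) (iv D23084) D23082 D27188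
def n27277 : Q := act 5 n23169
theorem D27277 : act 5 n23169 = n27277 := rfl
theorem F57203 : act 0 n27277 = n27192 := d4_1 D27277 (iv F57201) F57198
theorem F57204 : act 2 n27277 = n25786 := d13_1 D27277 (iv D25786) (iv F46032)
theorem F57205 : act 3 n27277 = n23256 := d16_1 D27277 (iv D23256) (iv F46033)
theorem F57206 : act 4 n27277 = n27180 := d18_1 D27277 F56946 F46071
theorem F57207 : act 6 n27277 = n27275 := d20_2 D23169 D27277 (iv D27275) D27276 F57201 F56981 (iv D23168)
theorem F57208 : act 1 n27277 = n26973 := d24_2 D23169 D27277 (iv D26973) (iv F49071) F49069 (iv F57018) (iv D27204) (iv F46026) (iv D23166) (iv F46024) (iv D23163) (iv F33638) (iv D18793) D18791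
def n27278 : Q := act 2 n23170
theorem D27278 : act 2 n23170 = n27278 := rfl
theorem F57209 : act 1 n27278 = n25750 := d6_1 D27278 F52837 F41464 (iv F37360) D23170
def n27279 : Q := act 0 n23171
theorem D27279 : act 0 n23171 = n27279 := rfl
theorem F57210 : act 1 n27279 = n25883 := d0_2 D23171 D27279 F53132 D25888 (iv F57045) F57179 (iv D27267) (iv D23163) (iv F33640)
theorem F57211 : act 3 n27279 = n23262 := d2_2 (iv F46035) D27279 (iv D23262)
theorem F57212 : act 6 n27279 = n27020 := d5_2 (iv F46036) D27279 (iv D27020)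
def n27280 : Q := act 5 n23171
theorem D27280 : act 5 n23171 = n27280 := rfl
theorem F57213 : act 1 n27280 = n27265 := d9_1 D27280 (iv D27265) (iv D23162) (iv F33642) D23171
theorem F57214 : act 3 n27280 = n23263 := d16_1 D27280 (iv D23263) (iv F46035)
theorem F57215 : act 6 n27280 = n27225 := d22_1 D27280 F57066 (iv F57212) (iv D27279)
def n27281 : Q := act 1 n23172
theorem D27281 : act 1 n23172 = n27281 := rfl
theorem F57216 : act 2 n27281 = n25454 := d6_2 (iv F46038) D27281 (iv D25454) F41046 (iv F41050)
theorem F57217 : act 3 n27281 = n23267 := d7_2 (iv F46039) D27281 (iv D23267)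
theorem F57218 : act 4 n27281 = n25454 := d8_2 (iv F46040) D27281 (iv D25454)
theorem F57219 : act 5 n27281 = n25454 := d9_2 D23172 D27281 (iv D25454) (iv D21230) (iv F35351)
theorem F57220 : act 6 n27281 = n27176 := d10_2 (iv F46041) D27281 F56933 (iv F53158) F53155
def n27282 : Q := act 0 n23173
theorem D27282 : act 0 n23173 = n27282 := rfl
theorem F57221 : act 3 n27282 = n23278 := d2_2 (iv F46042) D27282 (iv D23278)
theorem F57222 : act 4 n27282 = n27208 := d3_2 F52426 D27282 F57021
theorem F57223 : act 5 n27282 = n23174 := d4_2 (iv F46043) D27282 (iv D23174)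
theorem F57224 : act 6 n26988 = n27282 := d22_3 F46043 D23176 F56321 (iv D27282)
theorem F57225 : act 1 n27097 = n27282 := d24_14 (iv F57224) (iv F56321) F46046 (iv D23119) F33557 (iv D13679) F19263 (iv D10834) (iv F19237) D13657 D18706 D23065 D27174 (iv F56927)
def n27283 : Q := act 2 n23173
theorem D27283 : act 2 n23173 = n27283 := rfl
theorem F57226 : act 1 n27283 = n25712 := d6_1 D27283 (iv D25712) (iv D21408) (iv F33645) D23173
theorem F57227 : act 5 n27283 = n23175 := d13_2 (iv F46043) D27283 (iv D23175)
def n27284 : Q := act 6 n23173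
theorem D27284 : act 6 n23173 = n27284 := rfl
theorem F57228 : act 0 n27284 = n26988 := d5_1 D27284 F57224 (iv D27282)
theorem F57229 : act 1 n27284 = n27259 := d10_1 D27284 F57160 (iv D25729) F41435 D23173
theorem F57230 : act 3 n27284 = n23280 := d17_1 D27284 (iv D23280) (iv F46042)
theorem F57231 : act 4 n27284 = n25627 := d19_1 D27284 F52620 F52426
theorem F57232 : act 5 n27284 = n25624 := d20_1 D27284 F52611 (iv F57223) (iv F57224) (iv F56321) (iv D23176) (iv F46043)
def n27285 : Q := act 2 n23174
theorem D27285 : act 2 n23174 = n27285 := rfl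
theorem F57233 : act 0 n27285 = n23175 := d1_1 D27285 (iv D23175) D23174
theorem F57234 : act 1 n27285 = n27285 := d6_1 D27285 (iv D27285) F52599 F52595 (iv F52599)
def n27286 : Q := act 3 n23175
theorem D27286 : act 3 n23175 = n27286 := rfl
theorem F57235 : act 1 n27286 = n25709 := d7_1 D27286 (iv D25709) (iv F46045)
def n27287 : Q := act 6 n23175
theorem D27287 : act 6 n23175 = n27287 := rfl
theorem F57236 : act 2 n27287 = n23176 := d14_1 D27287 (iv D23176) D23175
def n27288 : Q := act 0 n23178
theorem D27288 : act 0 n23178 = n27288 := rfl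
theorem F57237 : act 1 n27288 = n25623 := d0_2 D23178 D27288 F52604 (iv F52599) (iv D23174) (iv D18800) F24059 D13707 D18802
theorem F57238 : act 3 n27288 = n23310 := d2_2 (iv F46054) D27288 (iv D23310)
theorem F57239 : act 4 n27288 = n27174 := d3_2 (iv F46055) D27288 F56924
theorem F57240 : act 6 n26970 = n27288 := d19_0 F57239 (iv D27174) (iv F56267)
def n27289 : Q := act 2 n23178
theorem D27289 : act 2 n23178 = n27289 := rfl
theorem F57241 : act 1 n27289 = n25671 := d6_1 D27289 (iv D25671) (iv D21382) F37349 D23178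
theorem F57242 : act 4 n27289 = n27278 := d12_2 (iv F46055) D27289 (iv D27278)
def n27290 : Q := act 5 n23178
theorem D27290 : act 5 n23178 = n27290 := rfl
theorem F57243 : act 1 n27290 = n23184 := d9_1 D27290 (iv D23184) (iv D18806) (iv F33653) D23178
theorem F57244 : act 3 n27290 = n23312 := d16_1 D27290 (iv D23312) (iv F46054)
theorem F57245 : act 4 n27290 = n25127 := d18_1 D27290 F51351 (iv F46055)
def n27291 : Q := act 6 n23178
theorem D27291 : act 6 n23178 = n27291 := rfl
theorem F57246 : act 0 n27291 = n26970 := d5_1 D27291 F57240 (iv D27288)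
theorem F57247 : act 3 n27291 = n23313 := d17_1 D27291 (iv D23313) (iv F46054)
theorem F57248 : act 4 n27291 = n27172 := d19_1 D27291 (iv F56922) (iv F46055)
theorem F57249 : act 5 n27205 = n27291 := d16_0 F57247 (iv F46374) (iv F57019)
def n27292 : Q := act 0 n23179
theorem D27292 : act 0 n23179 = n27292 := rfl
theorem F57250 : act 3 n27292 = n23316 := d2_2 (iv F46056) D27292 (iv D23316)
theorem F57251 : act 4 n27292 = n27279 := d3_2 (iv F46057) D27292 (iv D27279)
theorem F57252 : act 6 n27292 = n23180 := d5_2 (iv F46058) D27292 (iv D23180)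
theorem F57253 : act 1 n27204 = n27292 := d10_5 F57252 F56286 F56285 F49069 (iv F57018)
def n27293 : Q := act 2 n23179
theorem D27293 : act 2 n23179 = n27293 := rfl
theorem F57254 : act 1 n27293 = n24486 := d6_1 D27293 F49646 (iv F41372) F41368 D23179
theorem F57255 : act 4 n27293 = n25359 := d12_2 (iv F46057) D27293 F52041
theorem F57256 : act 6 n27293 = n23181 := d14_2 (iv F46058) D27293 (iv D23181)
def n27294 : Q := act 5 n23179
theorem D27294 : act 5 n23179 = n27294 := rfl
theorem F57257 : act 1 n27294 = n27165 := d9_1 D27294 F56902 (iv D23186) F33666 D23179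
theorem F57258 : act 3 n27294 = n23318 := d16_1 D27294 (iv D23318) (iv F46056)
theorem F57259 : act 4 n27294 = n27280 := d18_1 D27294 (iv D27280) (iv F46057)
def n27295 : Q := act 2 n23180
theorem D27295 : act 2 n23180 = n27295 := rfl
theorem F57260 : act 0 n27295 = n23181 := d1_1 D27295 (iv D23181) D23180
def n27296 : Q := act 5 n23180
theorem D27296 : act 5 n23180 = n27296 := rfl
theorem F57261 : act 0 n27296 = n23182 := d4_1 D27296 (iv D23182) D23180
theorem F57262 : act 1 n27296 = n27002 := d9_1 D27296 (iv D27002) F44846 D26976 (iv F56286)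
theorem F57263 : act 3 n27296 = n23320 := d16_1 D27296 (iv D23320) (iv F46059)
theorem F57264 : act 4 n27296 = n27225 := d18_1 D27296 F57066 F56425
theorem F57265 : act 6 n27296 = n27294 := d22_1 D27296 (iv D27294) F46058 D23180
def n27297 : Q := act 3 n23181
theorem D27297 : act 3 n23181 = n27297 := rfl
def n27298 : Q := act 5 n23181
theorem D27298 : act 5 n23181 = n27298 := rfl
theorem F57266 : act 2 n27298 = n23182 := d13_1 D27298 (iv D23182) D23181
def n27299 : Q := act 6 n23182
theorem D27299 : act 6 n23182 = n27299 := rfl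
theorem F57267 : act 0 n27299 = n27294 := d5_1 D27299 (iv F57265) F57261
theorem F57268 : act 1 n27299 = n27274 := d10_1 D27299 F57194 (iv F57179) (iv D27216) (iv F46060)
theorem F57269 : act 3 n27299 = n23323 := d17_1 D27299 (iv D23323) (iv F46061)
theorem F57270 : act 5 n27299 = n27292 := d20_1 D27299 F57252 D27296 F57265 (iv D27294) F46058 D23182
def n27300 : Q := act 5 n23183
theorem D27300 : act 5 n23183 = n27300 := rfl
theorem F57271 : act 0 n27300 = n23184 := d4_1 D27300 (iv D23184) D23183
theorem F57272 : act 2 n27300 = n25674 := d13_1 D27300 (iv D25674) (iv F46063)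
theorem F57273 : act 3 n27300 = n23324 := d16_1 D27300 (iv D23324) (iv F46064)
theorem F57274 : act 4 n27300 = n27275 := d18_1 D27300 (iv D27275) (iv F46065)
theorem F57275 : act 6 n27300 = n27180 := d22_1 D27300 F56946 (iv D23185) D23183
theorem F57276 : act 1 n27177 = n27300 := d10_5 F57275 (iv D27180) (iv D23078) D23076 D27177
def n27301 : Q := act 6 n23183
theorem D27301 : act 6 n23183 = n27301 := rfl
theorem F57277 : act 0 n27301 = n23185 := d5_1 D27301 (iv D23185) D23183
theorem F57278 : act 2 n27301 = n25675 := d14_1 D27301 (iv D25675) (iv F46063)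
theorem F57279 : act 3 n27301 = n23325 := d17_1 D27301 (iv D23325) (iv F46064)
theorem F57280 : act 4 n27301 = n27276 := d19_1 D27301 (iv D27276) (iv F46065)
def n27302 : Q := act 6 n23184
theorem D27302 : act 6 n23184 = n27302 := rfl
theorem F57281 : act 0 n27302 = n27180 := d5_1 D27302 (iv F57275) F57271
theorem F57282 : act 2 n27302 = n25681 := d14_1 D27302 (iv D25681) (iv F46066)
theorem F57283 : act 3 n27302 = n23327 := d17_1 D27302 (iv D23327) (iv F46067)
theorem F57284 : act 4 n27302 = n27192 := d19_1 D27302 F56981 (iv F46068)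
theorem F57285 : act 5 n27302 = n27301 := d20_1 D27302 (iv D27301) D27300 F57275 F56946 (iv D23185) D23184
theorem F57286 : act 1 n26979 = n27302 := d24_14 (iv D27302) (iv D23184) (iv D18806) D18808 F33666 D23179 F46058 D23182 F46060 D27216 F57048 (iv F49229) F49231 D26979
def n27303 : Q := act 2 n23186
theorem D27303 : act 2 n23186 = n27303 := rfl
theorem F57287 : act 1 n27303 = n25646 := d6_1 D27303 F52656 F41341 F37350 D23186
theorem F57288 : act 4 n27303 = n27264 := d12_2 (iv F46073) D27303 (iv D27264)
def n27304 : Q := act 0 n23187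
theorem D27304 : act 0 n23187 = n27304 := rfl
theorem F57289 : act 1 n27304 = n26121 := d0_2 D23187 D27304 F53731 F53146 (iv F57015) F57253 (iv D27292) (iv D23179) (iv F33670)
theorem F57290 : act 3 n27304 = n23332 := d2_2 (iv F46074) D27304 (iv D23332)
theorem F57291 : act 4 n27304 = n27267 := d3_2 (iv F46075) D27304 (iv D27267)
theorem F57292 : act 5 n27304 = n27016 := d4_2 (iv F46076) D27304 (iv D27016)
def n27305 : Q := act 6 n23187
theorem D27305 : act 6 n23187 = n27305 := rfl
theorem F57293 : act 1 n27305 = n27291 := d10_1 D27305 (iv D27291) (iv D23178) (iv F33673) D23187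
theorem F57294 : act 3 n27305 = n23333 := d17_1 D27305 (iv D23333) (iv F46074)
theorem F57295 : act 4 n27305 = n27269 := d19_1 D27305 (iv D27269) (iv F46075)
theorem F57296 : act 5 n27305 = n27213 := d22_2 (iv F46076) D27305 F57036 (iv D27016)
def n27306 : Q := act 4 n23188
theorem D27306 : act 4 n23188 = n27306 := rfl
theorem F57297 : act 0 n27306 = n23196 := d3_1 D27306 (iv D23196) (iv F46077)
theorem F57298 : act 1 n27306 = n23336 := d8_1 D27306 (iv D23336) (iv F46078)
theorem F57299 : act 2 n27306 = n24573 := d12_1 D27306 F50614 F50611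
theorem F57300 : act 3 n27306 = n23530 := d15_1 D27306 (iv D23530) (iv D19103) (iv F33676) D23188
theorem F57301 : act 5 n24722 = n27306 := d16_0 F57300 F46865 (iv F50230)
theorem F57302 : act 6 n25298 = n27306 := d17_0 F57300 F46866 D25298
def n27307 : Q := act 5 n23188
theorem D27307 : act 5 n23188 = n27307 := rfl
theorem F57303 : act 0 n27307 = n23197 := d4_1 D27307 (iv D23197) (iv F46077)
theorem F57304 : act 1 n27307 = n24808 := d9_1 D27307 (iv D24808) F46447 (iv D23337) (iv F46078)
theorem F57305 : act 2 n27307 = n24719 := d13_1 D27307 F50615 F50611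
theorem F57306 : act 3 n27307 = n23189 := d16_1 D27307 (iv D23189) D23188
theorem F57307 : act 4 n27307 = n24722 := d18_1 D27307 F57301 (iv D27306)
def n27308 : Q := act 6 n23188
theorem D27308 : act 6 n23188 = n27308 := rfl
theorem F57308 : act 0 n27308 = n23198 := d5_1 D27308 (iv D23198) (iv F46077)
theorem F57309 : act 3 n27308 = n23190 := d17_1 D27308 (iv D23190) D23188
theorem F57310 : act 4 n27308 = n25298 := d19_1 D27308 F57302 (iv D27306)
theorem F57311 : act 1 n25327 = n27308 := d8_3 F57310 F51913 D25327
def n27309 : Q := act 5 n23192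
theorem D27309 : act 5 n23192 = n27309 := rfl
theorem F57312 : act 0 n27309 = n23207 := d4_1 D27309 (iv D23207) (iv F46090)
theorem F57313 : act 3 n27309 = n23193 := d16_1 D27309 (iv D23193) D23192
def n27310 : Q := act 6 n23192
theorem D27310 : act 6 n23192 = n27310 := rfl
theorem F57314 : act 0 n27310 = n23208 := d5_1 D27310 (iv D23208) (iv F46090)
theorem F57315 : act 3 n27310 = n23194 := d17_1 D27310 (iv D23194) D23192
def n27311 : Q := act 4 n23195
theorem D27311 : act 4 n23195 = n27311 := rfl
theorem F57316 : act 0 n27311 = n24573 := d3_1 D27311 F50614 (iv F50613)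
theorem F57317 : act 2 n27311 = n23196 := d12_1 D27311 (iv D23196) D23195
theorem F57318 : act 3 n27311 = n24567 := d15_1 D27311 (iv D24567) F38294 D24514 (iv F49717)
theorem F57319 : act 5 n27311 = n24709 := d18_2 F50101 D27311 F50199
def n27312 : Q := act 6 n23196
theorem D27312 : act 6 n23196 = n27312 := rfl
theorem F57320 : act 0 n27312 = n25298 := d5_1 D27312 F57302 F57297
theorem F57321 : act 3 n27312 = n23531 := d17_1 D27312 (iv D23531) (iv F46098)
theorem F57322 : act 4 n27312 = n23198 := d19_1 D27312 (iv D23198) D23196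
def n27313 : Q := act 6 n23197
theorem D27313 : act 6 n23197 = n27313 := rfl
theorem F57323 : act 3 n27313 = n23199 := d17_1 D27313 (iv D23199) (iv F46099)
theorem F57324 : act 5 n27313 = n27308 := d22_2 D23197 D27313 (iv D27308) F46077
def n27314 : Q := act 1 n23198
theorem D27314 : act 1 n23198 = n27314 := rfl
theorem F57325 : act 3 n27314 = n23200 := d7_2 (iv F46100) D27314 (iv D23200)
def n27315 : Q := act 5 n23198
theorem D27315 : act 5 n23198 = n27315 := rfl
theorem F57326 : act 0 n27315 = n27313 := d4_1 D27315 F57324 F57308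
theorem F57327 : act 3 n27315 = n23201 := d16_1 D27315 (iv D23201) (iv F46100)
theorem F57328 : act 6 n27315 = n27307 := d20_2 D23198 D27315 (iv D27307) D27308 (iv F57324) (iv D27313) (iv D23197)
def n27316 : Q := act 2 n23200
theorem D27316 : act 2 n23200 = n27316 := rfl
theorem F57329 : act 1 n27316 = n23203 := d6_1 D27316 (iv D23203) (iv D18820) (iv F33687) D23200
theorem F57330 : act 4 n27316 = n23533 := d12_2 (iv F46104) D27316 (iv D23533)
theorem F57331 : act 5 n25076 = n27316 := d23_0 (iv D27316) (iv D23200) (iv F46083) (iv F46103) F46101 (iv F42018) (iv F42022) (iv D21688) F28393 F21715 (iv F28587) F28589 (iv F42019) F42018 (iv F33693) (iv D18821) (iv F33687) D23200 F51170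
def n27317 : Q := act 5 n23200
theorem D27317 : act 5 n23200 = n27317 := rfl
theorem F57332 : act 0 n27317 = n27316 := d4_1 D27317 (iv F57331) (iv F51170)
theorem F57333 : act 2 n27317 = n25076 := d13_1 D27317 F57331 (iv D27316)
theorem F57334 : act 4 n27317 = n23534 := d18_1 D27317 (iv D23534) (iv F46104)
theorem F57335 : act 6 n27317 = n26703 := d22_1 D27317 (iv F55342) (iv F51169) (iv F51170)
theorem F57336 : act 1 n25104 = n27317 := d8_3 F57334 (iv F46890) (iv F51272)
def n27318 : Q := act 1 n23201
theorem D27318 : act 1 n23201 = n27318 := rfl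
theorem F57337 : act 4 n27318 = n23535 := d8_2 (iv F46107) D27318 (iv D23535)
theorem F57338 : act 5 n27318 = n25104 := d9_2 D23201 D27318 F57336 (iv D27317) (iv D23200)
theorem F57339 : act 6 n27318 = n25055 := d10_2 (iv F46108) D27318 (iv D25055) F39235 (iv F46080)
theorem F57340 : act 2 n25105 = n27318 := d13_3 F57338 (iv D25104) D25105
def n27319 : Q := act 3 n23203
theorem D27319 : act 3 n23203 = n27319 := rfl
theorem F57341 : act 0 n27319 = n27070 := d2_1 D27319 F56607 (iv F46114)
theorem F57342 : act 6 n27319 = n23220 := d17_2 (iv F46116) D27319 (iv D23220)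
def n27320 : Q := act 2 n23205
theorem D27320 : act 2 n23205 = n27320 := rfl
theorem F57343 : act 0 n27320 = n23295 := d1_1 D27320 F46335 (iv F46119)
theorem F57344 : act 1 n27320 = n25105 := d6_1 D27320 F57340 (iv D27318) F46106 D23205
theorem F57345 : act 4 n27320 = n23536 := d12_2 (iv F46120) D27320 (iv D23536)
theorem F57346 : act 5 n27320 = n25036 := d13_2 F46305 D27320 F51023
theorem F57347 : act 6 n27320 = n23293 := d14_2 F46121 D27320 (iv D23293)
def n27321 : Q := act 6 n23206
theorem D27321 : act 6 n23206 = n27321 := rfl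
theorem F57348 : act 3 n27321 = n23537 := d17_1 D27321 (iv D23537) (iv F46123)
theorem F57349 : act 4 n27321 = n23208 := d19_1 D27321 (iv D23208) D23206
def n27322 : Q := act 6 n23207
theorem D27322 : act 6 n23207 = n27322 := rfl
theorem F57350 : act 3 n27322 = n23209 := d17_1 D27322 (iv D23209) (iv F46124)
theorem F57351 : act 5 n27322 = n27310 := d22_2 D23207 D27322 (iv D27310) F46090
def n27323 : Q := act 1 n23208
theorem D27323 : act 1 n23208 = n27323 := rfl
theorem F57352 : act 3 n27323 = n23210 := d7_2 (iv F46125) D27323 (iv D23210)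
theorem F57353 : act 6 n27323 = n23213 := d10_2 D23208 D27323 (iv D23213) (iv D18826) (iv F33696)
def n27324 : Q := act 5 n23208
theorem D27324 : act 5 n23208 = n27324 := rfl
theorem F57354 : act 0 n27324 = n27322 := d4_1 D27324 F57351 F57314
theorem F57355 : act 3 n27324 = n23211 := d16_1 D27324 (iv D23211) (iv F46125)
theorem F57356 : act 6 n27324 = n27309 := d20_2 D23208 D27324 (iv D27309) D27310 (iv F57351) (iv D27322) (iv D23207)
def n27325 : Q := act 1 n23209
theorem D27325 : act 1 n23209 = n27325 := rfl
theorem F57357 : act 4 n27325 = n23540 := d8_2 (iv F46126) D27325 (iv D23540)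
theorem F57358 : act 6 n27325 = n24300 := d10_2 D23209 D27325 (iv D24300) F37723 F37473
def n27326 : Q := act 0 n23210
theorem D27326 : act 0 n23210 = n27326 := rfl
theorem F57359 : act 1 n27326 = n26638 := d0_2 D23210 D27326 (iv D26638) (iv D22180) (iv F29849) D22254 D26702 (iv F55339) F46095
theorem F57360 : act 4 n27326 = n23541 := d3_2 (iv F46128) D27326 (iv D23541)
theorem F57361 : act 6 n27326 = n23214 := d5_2 (iv F46129) D27326 (iv D23214)
def n27327 : Q := act 2 n23210
theorem D27327 : act 2 n23210 = n27327 := rfl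
theorem F57362 : act 4 n27327 = n23542 := d12_2 (iv F46128) D27327 (iv D23542)
theorem F57363 : act 6 n27327 = n23215 := d14_2 (iv F46129) D27327 (iv D23215)
theorem F57364 : act 5 n27325 = n27327 := d22_2 F55818 (iv F57358) F57363 F55819
def n27328 : Q := act 5 n23210
theorem D27328 : act 5 n23210 = n27328 := rfl
theorem F57365 : act 2 n27328 = n27325 := d13_1 D27328 F57364 (iv D27327)
theorem F57366 : act 4 n27328 = n23543 := d18_1 D27328 (iv D23543) (iv F46128)
def n27329 : Q := act 1 n23211
theorem D27329 : act 1 n23211 = n27329 := rfl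
theorem F57367 : act 4 n27329 = n23544 := d8_2 (iv F46132) D27329 (iv D23544)
def n27330 : Q := act 1 n23212
theorem D27330 : act 1 n23212 = n27330 := rfl
theorem F57368 : act 3 n27330 = n23545 := d7_2 (iv F46135) D27330 (iv D23545)
theorem F57369 : act 4 n27330 = n23213 := d8_2 (iv F46136) D27330 (iv D23213)
def n27331 : Q := act 0 n23213
theorem D27331 : act 0 n23213 = n27331 := rfl
theorem F57370 : act 3 n27331 = n23214 := d2_2 (iv F46138) D27331 (iv D23214)
def n27332 : Q := act 2 n23213
theorem D27332 : act 2 n23213 = n27332 := rfl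
def n27333 : Q := act 5 n23213
theorem D27333 : act 5 n23213 = n27333 := rfl
theorem F57371 : act 1 n27333 = n27229 := d9_1 D27333 (iv D27229) (iv D23129) (iv F33703) D23213
theorem F57372 : act 3 n27333 = n23216 := d16_1 D27333 (iv D23216) (iv F46138)
def n27334 : Q := act 1 n23214
theorem D27334 : act 1 n23214 = n27334 := rfl
theorem F57373 : act 4 n27334 = n23549 := d8_2 (iv F46139) D27334 (iv D23549)
def n27335 : Q := act 5 n23214
theorem D27335 : act 5 n23214 = n27335 := rfl
theorem F57374 : act 0 n27335 = n23216 := d4_1 D27335 (iv D23216) D23214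
theorem F57375 : act 2 n27335 = n24300 := d13_1 D27335 (iv F55818) (iv F55820)
theorem F57376 : act 4 n27335 = n23550 := d18_1 D27335 (iv D23550) (iv F46139)
theorem F57377 : act 6 n27335 = n27328 := d22_1 D27335 (iv D27328) F46129 D23214
theorem F57378 : act 1 n25053 = n27335 := d24_14 F57377 (iv D27328) (iv D23210) (iv D18824) D18823 (iv F37473) (iv F37723) (iv D19960) (iv F30177) (iv D17193) D17192 F33738 D23255 (iv F51091)
def n27336 : Q := act 3 n23215
theorem D27336 : act 3 n23215 = n27336 := rfl
theorem F57379 : act 1 n27336 = n23220 := d7_1 D27336 (iv D23220) (iv F46140)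
def n27337 : Q := act 5 n23215
theorem D27337 : act 5 n23215 = n27337 := rfl
theorem F57380 : act 0 n27337 = n24300 := d4_1 D27337 (iv F55818) (iv F55819)
theorem F57381 : act 2 n27337 = n23216 := d13_1 D27337 (iv D23216) D23215
theorem F57382 : act 4 n27337 = n23551 := d18_1 D27337 (iv D23551) (iv F46141)
def n27338 : Q := act 6 n23216
theorem D27338 : act 6 n23216 = n27338 := rfl
theorem F57383 : act 0 n27338 = n27328 := d5_1 D27338 (iv F57377) F57374
theorem F57384 : act 1 n27338 = n24295 := d10_1 D27338 (iv F50918) F57083 (iv D27233) (iv F46142)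
theorem F57385 : act 4 n27338 = n23552 := d19_1 D27338 (iv D23552) (iv F46143)
theorem F57386 : act 5 n27338 = n27326 := d20_1 D27338 F57361 D27335 F57377 (iv D27328) F46129 D23216
def n27339 : Q := act 3 n23218
theorem D27339 : act 3 n23218 = n27339 := rfl
theorem F57387 : act 0 n27339 = n23220 := d2_1 D27339 (iv D23220) (iv F46147)
theorem F57388 : act 1 n27339 = n27067 := d7_1 D27339 F56596 F46150
theorem F57389 : act 6 n27339 = n27070 := d17_2 (iv F46149) D27339 F56607
def n27340 : Q := act 5 n23218
theorem D27340 : act 5 n23218 = n27340 := rfl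
theorem F57390 : act 0 n27340 = n23221 := d4_1 D27340 (iv D23221) (iv F46147)
theorem F57391 : act 2 n27340 = n23219 := d13_1 D27340 (iv D23219) D23218
theorem F57392 : act 4 n27340 = n23553 := d18_1 D27340 (iv D23553) (iv F46148)
theorem F57393 : act 6 n27340 = n25015 := d20_2 (iv F46149) D27340 F50948 F46116 D23221 (iv F56400) F56399
theorem F57394 : act 1 n27340 = n25073 := d24_2 (iv F46149) D27340 (iv D25073) (iv F46504) (iv D23362) F33892 (iv D18836) (iv D13722) (iv D10864) (iv F19267) (iv F23600) D18370 (iv F32301) D22901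
def n27341 : Q := act 2 n23220
theorem D27341 : act 2 n23220 = n27341 := rfl
def n27342 : Q := act 4 n23220
theorem D27342 : act 4 n23220 = n27342 := rfl
theorem F57395 : act 3 n27342 = n23554 := d15_1 D27342 (iv D23554) (iv D19133) (iv F33706) D23220
def n27343 : Q := act 5 n23220
theorem D27343 : act 5 n23220 = n27343 := rfl
theorem F57396 : act 3 n27343 = n23221 := d16_1 D27343 (iv D23221) D23220
def n27344 : Q := act 1 n23221
theorem D27344 : act 1 n23221 = n27344 := rfl
theorem F57397 : act 2 n27344 = n25239 := d6_2 (iv F46155) D27344 F51737 F40420 (iv F33707)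
theorem F57398 : act 4 n27344 = n23555 := d8_2 (iv F46156) D27344 (iv D23555)
theorem F57399 : act 0 n27344 = n23345 := d23_3 D18830 (iv F46155) D27344 (iv F56737) (iv F56739) (iv F56741) F56740 F45959 (iv D22561) F30329 (iv F22546) (iv F25785) F25787 (iv F27015) (iv F39932) D25144 F51406 (iv D23217) (iv D18828)
def n27345 : Q := act 0 n23222
theorem D27345 : act 0 n23222 = n27345 := rfl
theorem F57400 : act 3 n27345 = n23556 := d2_2 (iv F46157) D27345 (iv D23556)
theorem F57401 : act 4 n27345 = n23224 := d3_2 (iv F46158) D27345 (iv D23224)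
theorem F57402 : act 6 n27345 = n23346 := d5_2 (iv F46159) D27345 (iv D23346)
def n27346 : Q := act 2 n23222
theorem D27346 : act 2 n23222 = n27346 := rfl
theorem F57403 : act 4 n27346 = n23225 := d12_2 (iv F46158) D27346 (iv D23225)
theorem F57404 : act 6 n27346 = n23347 := d14_2 (iv F46159) D27346 (iv D23347)
def n27347 : Q := act 5 n23222
theorem D27347 : act 5 n23222 = n27347 := rfl
theorem F57405 : act 3 n27347 = n23557 := d16_1 D27347 (iv F46961) (iv F46157)
theorem F57406 : act 4 n27347 = n23226 := d18_1 D27347 (iv D23226) (iv F46158)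
theorem F57407 : act 6 n27347 = n23648 := d22_1 D27347 F47211 (iv F57402) (iv D27345)
def n27348 : Q := act 1 n23223
theorem D27348 : act 1 n23223 = n27348 := rfl
theorem F57408 : act 3 n27348 = n23558 := d7_2 (iv F46161) D27348 (iv D23558)
theorem F57409 : act 4 n27348 = n23227 := d8_2 (iv F46162) D27348 (iv D23227)
theorem F57410 : act 6 n27348 = n24042 := d10_2 (iv F46163) D27348 (iv D24042) (iv D19732) (iv F37181)
def n27349 : Q := act 1 n23224
theorem D27349 : act 1 n23224 = n27349 := rfl
theorem F57411 : act 3 n27349 = n23228 := d7_2 (iv F46164) D27349 (iv D23228)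
theorem F57412 : act 6 n27349 = n25102 := d10_2 (iv F46165) D27349 F51264 F46482 (iv D23350)
def n27350 : Q := act 2 n23224
theorem D27350 : act 2 n23224 = n27350 := rfl
theorem F57413 : act 0 n27350 = n23225 := d1_1 D27350 (iv D23225) D23224
theorem F57414 : act 6 n27350 = n23351 := d14_2 (iv F46165) D27350 (iv D23351)
theorem F57415 : act 3 n24076 = n27350 := d17_3 F57414 F48554 D24076
def n27351 : Q := act 3 n23225
theorem D27351 : act 3 n23225 = n27351 := rfl
theorem F57416 : act 0 n27351 = n24076 := d2_1 D27351 F57415 F57413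
theorem F57417 : act 6 n27351 = n23353 := d17_2 (iv F46166) D27351 (iv D23353)
theorem F57418 : act 2 n24830 = n27351 := d14_3 F57417 F48551 D24830
theorem F57419 : act 4 n24326 = n27351 := d19_3 F57417 F48552 D24326
theorem F57420 : act 1 n27351 = n26222 := d8_1 F57419 F54040 F49173
theorem F57421 : act 3 n26222 = n25821 := d7_2 D27351 F57420 F52993
theorem F57422 : act 0 n25821 = n26221 := d2_1 F57421 F54038 D26222
theorem F57423 : act 2 n26221 = n25820 := d1_2 D25821 F57422 (iv D25820)
def n27352 : Q := act 5 n23225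
theorem D27352 : act 5 n23225 = n27352 := rfl
theorem F57424 : act 2 n27352 = n23226 := d13_1 D27352 (iv D23226) D23225
def n27353 : Q := act 1 n23226
theorem D27353 : act 1 n23226 = n27353 := rfl
theorem F57425 : act 3 n27353 = n23232 := d7_2 (iv F46167) D27353 (iv D23232)
theorem F57426 : act 5 n27353 = n23227 := d9_2 D23226 D27353 (iv D23227) (iv D18833) D18832
def n27354 : Q := act 0 n23227
theorem D27354 : act 0 n23227 = n27354 := rfl
theorem F57427 : act 3 n27354 = n23233 := d2_2 (iv F46168) D27354 (iv D23233)
def n27355 : Q := act 2 n23227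
theorem D27355 : act 2 n23227 = n27355 := rfl
def n27356 : Q := act 6 n23227
theorem D27356 : act 6 n23227 = n27356 := rfl
theorem F57428 : act 1 n27356 = n24041 := d10_1 D27356 (iv D24041) F37188 (iv F33715) D23227
theorem F57429 : act 3 n27356 = n23235 := d17_1 D27356 (iv D23235) (iv F46168)
theorem F57430 : act 4 n27356 = n24042 := d19_1 D27356 (iv F57410) F57409
def n27357 : Q := act 0 n23228
theorem D27357 : act 0 n23228 = n27357 := rfl
theorem F57431 : act 2 n27357 = n25101 := d1_2 F46171 D27357 F51259
theorem F57432 : act 4 n27357 = n23560 := d3_2 (iv F46169) D27357 (iv D23560)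
theorem F57433 : act 6 n27357 = n25100 := d5_2 (iv F46170) D27357 F51256
theorem F57434 : act 5 n27357 = n25017 := d22_0 (iv D25017) (iv F39371) (iv F46170) D27357
def n27358 : Q := act 5 n23228
theorem D27358 : act 5 n23228 = n27358 := rfl
theorem F57435 : act 0 n27358 = n25017 := d4_1 D27358 (iv F57434) (iv D27357)
theorem F57436 : act 2 n27358 = n25103 := d13_1 D27358 (iv D25103) F46171
theorem F57437 : act 4 n27358 = n23561 := d18_1 D27358 (iv D23561) (iv F46169)
theorem F57438 : act 6 n27358 = n25016 := d20_2 (iv F46170) D27358 (iv F51258) (iv F57433) F57434 (iv D25017) (iv F39371)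
def n27359 : Q := act 3 n23229
theorem D27359 : act 3 n23229 = n27359 := rfl
theorem F57439 : act 0 n27359 = n23230 := d2_1 D27359 (iv D23230) (iv F46172)
theorem F57440 : act 1 n27359 = n26802 := d7_1 D27359 F55683 (iv F46173)
theorem F57441 : act 6 n27359 = n23360 := d17_2 (iv F46175) D27359 (iv D23360)
theorem F57442 : act 2 n27359 = n26355 := d21_2 D23229 D27359 F54316 F57418 (iv D27351) (iv D23225) F33711 D18834
def n27360 : Q := act 2 n23230
theorem D27360 : act 2 n23230 = n27360 := rfl
theorem F57443 : act 0 n27360 = n26355 := d1_1 D27360 (iv F57442) F57439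
theorem F57444 : act 1 n27360 = n25820 := d6_1 D27360 (iv F57423) (iv D26221) F42158 (iv F46176)
theorem F57445 : act 3 n27360 = n25827 := d11_2 D23230 D27360 (iv F53008) F57415 (iv D27350) F46164 D23229 D27359 F57442 F54316 F57418 (iv D27351) (iv D23225) F33711 D18835
theorem F57446 : act 6 n27360 = n23363 := d14_2 (iv F46177) D27360 (iv D23363)
def n27361 : Q := act 4 n23230
theorem D27361 : act 4 n23230 = n27361 := rfl
theorem F57447 : act 1 n27361 = n23242 := d8_1 D27361 (iv D23242) (iv F46176)
theorem F57448 : act 3 n27361 = n23314 := d15_1 D27361 F46375 (iv D19142) (iv F33719) D23230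
theorem F57449 : act 6 n27361 = n23364 := d19_2 (iv F46177) D27361 (iv D23364)
def n27362 : Q := act 5 n23230
theorem D27362 : act 5 n23230 = n27362 := rfl
theorem F57450 : act 3 n27362 = n23231 := d16_1 D27362 (iv D23231) D23230
def n27363 : Q := act 1 n23231
theorem D27363 : act 1 n23231 = n27363 := rfl
theorem F57451 : act 4 n27363 = n23565 := d8_2 (iv F46179) D27363 (iv D23565)
theorem F57452 : act 5 n27363 = n23244 := d9_2 D23231 D27363 (iv D23244) (iv D18841) (iv F33718)
def n27364 : Q := act 0 n23232
theorem D27364 : act 0 n23232 = n27364 := rfl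
theorem F57453 : act 4 n27364 = n23566 := d3_2 (iv F46180) D27364 (iv D23566)
theorem F57454 : act 5 n27364 = n23233 := d4_2 (iv F46181) D27364 (iv D23233)
def n27365 : Q := act 2 n23232
theorem D27365 : act 2 n23232 = n27365 := rfl
theorem F57455 : act 4 n27365 = n23567 := d12_2 (iv F46180) D27365 (iv D23567)
theorem F57456 : act 5 n27365 = n23234 := d13_2 (iv F46181) D27365 (iv D23234)
def n27366 : Q := act 6 n23232
theorem D27366 : act 6 n23232 = n27366 := rfl
theorem F57457 : act 4 n27366 = n23568 := d19_1 D27366 (iv D23568) (iv F46180)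
def n27367 : Q := act 1 n23233
theorem D27367 : act 1 n23233 = n27367 := rfl
theorem F57458 : act 0 n27367 = n26623 := d0_1 D27367 F55100 (iv F55180) (iv F55183) (iv D23130) (iv D18755) (iv F24095) D18837 D23233
theorem F57459 : act 4 n27367 = n23569 := d8_2 (iv F46182) D27367 (iv D23569)
theorem F57460 : act 6 n26619 = n27367 := d19_0 F57459 (iv F46994) D26619
def n27368 : Q := act 2 n23233
theorem D27368 : act 2 n23233 = n27368 := rfl
theorem F57461 : act 0 n27368 = n23234 := d1_1 D27368 (iv D23234) D23233
theorem F57462 : act 4 n27368 = n23570 := d12_2 (iv F46182) D27368 (iv D23570)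
def n27369 : Q := act 6 n23233
theorem D27369 : act 6 n23233 = n27369 := rfl
theorem F57463 : act 0 n27369 = n23235 := d5_1 D27369 (iv D23235) D23233
theorem F57464 : act 4 n27369 = n23571 := d19_1 D27369 (iv D23571) (iv F46182)
theorem F57465 : act 5 n27369 = n27366 := d22_2 F57454 D27369 (iv D27366) D27364
def n27370 : Q := act 3 n23234
theorem D27370 : act 3 n23234 = n27370 := rfl
theorem F57466 : act 1 n27370 = n23250 := d7_1 D27370 (iv D23250) (iv F46183)
def n27371 : Q := act 6 n23234
theorem D27371 : act 6 n23234 = n27371 := rfl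
theorem F57467 : act 2 n27371 = n23235 := d14_1 D27371 (iv D23235) D23234
theorem F57468 : act 4 n27371 = n23572 := d19_1 D27371 (iv D23572) (iv F46184)
theorem F57469 : act 1 n23319 = n27371 := d8_3 F57468 (iv F47000) (iv F46389)
def n27372 : Q := act 5 n23235
theorem D27372 : act 5 n23235 = n27372 := rfl
theorem F57470 : act 0 n27372 = n27366 := d4_1 D27372 (iv F57465) F57463
theorem F57471 : act 4 n27372 = n23573 := d18_1 D27372 (iv D23573) (iv F46186)
theorem F57472 : act 6 n27372 = n27364 := d20_2 D23235 D27372 F57454 D27369 F57465 (iv D27366) F46181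
def n27373 : Q := act 2 n23236
theorem D27373 : act 2 n23236 = n27373 := rfl
theorem F57473 : act 0 n27373 = n23237 := d1_1 D27373 (iv D23237) D23236
theorem F57474 : act 4 n27373 = n23574 := d12_2 (iv F46187) D27373 (iv D23574)
theorem F57475 : act 5 n27373 = n26906 := d13_2 F46188 D27373 F56015
def n27374 : Q := act 1 n23237
theorem D27374 : act 1 n23237 = n27374 := rfl
theorem F57476 : act 2 n27374 = n23240 := d6_2 D23237 D27374 (iv D23240) (iv D18839) D18838
theorem F57477 : act 4 n27374 = n23575 := d8_2 (iv F46189) D27374 (iv D23575)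
theorem F57478 : act 5 n23712 = n27374 := d18_0 F57477 (iv F47007) D23712
def n27375 : Q := act 3 n23237
theorem D27375 : act 3 n23237 = n27375 := rfl
def n27376 : Q := act 5 n23237
theorem D27376 : act 5 n23237 = n27376 := rfl
theorem F57479 : act 0 n27376 = n26906 := d4_1 D27376 (iv F57475) F57473
theorem F57480 : act 2 n27376 = n23238 := d13_1 D27376 (iv D23238) D23237
theorem F57481 : act 4 n27376 = n23577 := d18_1 D27376 (iv D23577) (iv F46189)
theorem F57482 : act 6 n27249 = n27376 := d19_0 F57481 (iv F47012) (iv F57124)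
def n27377 : Q := act 6 n23237
theorem D27377 : act 6 n23237 = n27377 := rfl
theorem F57483 : act 2 n27377 = n23239 := d14_1 D27377 (iv D23239) D23237
theorem F57484 : act 4 n27377 = n23578 := d19_1 D27377 (iv D23578) (iv F46189)
theorem F57485 : act 5 n27377 = n26842 := d22_2 (iv D27376) D27377 (iv F56017) (iv F57479)
def n27378 : Q := act 0 n23240
theorem D27378 : act 0 n23240 = n27378 := rfl
theorem F57486 : act 4 n27378 = n23579 := d3_2 (iv F46195) D27378 (iv D23579)
theorem F57487 : act 5 n27378 = n23706 := d4_2 (iv F46196) D27378 F47369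
theorem F57488 : act 6 n27374 = n27378 := d22_3 F46196 (iv F47383) F57478 (iv D27378)
theorem F57489 : act 1 n26687 = n27378 := d9_5 F57487 F47370 (iv D22249) (iv F43353) D26687
def n27379 : Q := act 3 n23240
theorem D27379 : act 3 n23240 = n27379 := rfl
theorem F57490 : act 1 n27379 = n23241 := d7_1 D27379 (iv D23241) D23240
theorem F57491 : act 4 n27379 = n23304 := d15_2 (iv F46195) D27379 (iv D23304) F33806 (iv F35678)
theorem F57492 : act 5 n27379 = n23423 := d16_2 (iv F46196) D27379 F46629
def n27380 : Q := act 6 n23240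
theorem D27380 : act 6 n23240 = n27380 := rfl
theorem F57493 : act 0 n27380 = n27374 := d5_1 D27380 F57488 (iv D27378)
theorem F57494 : act 1 n27380 = n23259 := d10_1 D27380 (iv D23259) (iv D18850) (iv F33726) D23240
theorem F57495 : act 2 n27380 = n27378 := d14_1 D27380 (iv F57488) F57476
theorem F57496 : act 4 n27380 = n23580 := d19_1 D27380 (iv D23580) (iv F46195)
def n27381 : Q := act 1 n23243
theorem D27381 : act 1 n23243 = n27381 := rfl
theorem F57497 : act 3 n27381 = n23244 := d7_2 (iv F46206) D27381 (iv D23244)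
theorem F57498 : act 4 n27381 = n23329 := d8_2 (iv F46207) D27381 F46416
theorem F57499 : act 6 n27381 = n26872 := d10_2 F46255 D27381 (iv F56064) F56066 F56012
def n27382 : Q := act 0 n23244
theorem D27382 : act 0 n23244 = n27382 := rfl
theorem F57500 : act 1 n27382 = n25856 := d0_2 D23244 D27382 F53079 (iv F47428) F47427 F36093 F24590 (iv F24479) F35468
theorem F57501 : act 4 n27382 = n23581 := d3_2 (iv F46208) D27382 (iv D23581)
theorem F57502 : act 6 n27382 = n26868 := d5_2 (iv F46209) D27382 F55898
def n27383 : Q := act 2 n23244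
theorem D27383 : act 2 n23244 = n27383 := rfl
theorem F57503 : act 1 n27383 = n23246 := d6_1 D27383 (iv D23246) (iv D18842) (iv F33728) D23244
theorem F57504 : act 4 n27383 = n23582 := d12_2 (iv F46208) D27383 (iv D23582)
theorem F57505 : act 6 n27383 = n26500 := d14_2 (iv F46209) D27383 F54688
def n27384 : Q := act 2 n23245
theorem D27384 : act 2 n23245 = n27384 := rfl
theorem F57506 : act 0 n27384 = n23246 := d1_1 D27384 (iv D23246) D23245
theorem F57507 : act 1 n27384 = n23322 := d6_1 D27384 F46394 F33821 (iv F45969) F46212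
theorem F57508 : act 4 n27384 = n23583 := d12_2 (iv F46210) D27384 (iv D23583)
theorem F57509 : act 5 n27384 = n23248 := d13_2 (iv F46211) D27384 (iv D23248)
theorem F57510 : act 6 n27384 = n26506 := d14_2 F46229 D27384 F54707
def n27385 : Q := act 3 n23246
theorem D27385 : act 3 n23246 = n27385 := rfl
theorem F57511 : act 4 n27385 = n25515 := d15_2 (iv F46213) D27385 F52362 F41138 (iv F36231)
theorem F57512 : act 5 n27385 = n23250 := d16_2 (iv F46214) D27385 (iv D23250)
theorem F57513 : act 6 n27385 = n25513 := d17_2 F46215 D27385 F52360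
def n27386 : Q := act 1 n23248
theorem D27386 : act 1 n23248 = n27386 := rfl
theorem F57514 : act 2 n27386 = n23309 := d6_2 D23248 D27386 F46365 (iv F44819) (iv F44822)
theorem F57515 : act 4 n27386 = n23584 := d8_2 (iv F46220) D27386 (iv D23584)
theorem F57516 : act 5 n27386 = n23308 := d9_2 F57509 D27386 F46363 D23322 (iv F57507)
def n27387 : Q := act 3 n23248
theorem D27387 : act 3 n23248 = n27387 := rfl
theorem F57517 : act 0 n27387 = n23250 := d2_1 D27387 (iv D23250) (iv F46219)
def n27388 : Q := act 2 n23250
theorem D27388 : act 2 n23250 = n27388 := rfl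
def n27389 : Q := act 6 n23250
theorem D27389 : act 6 n23250 = n27389 := rfl
theorem F57518 : act 3 n27389 = n23251 := d17_1 D27389 (iv D23251) D23250
theorem F57519 : act 5 n26455 = n27389 := d22_0 (iv D27389) (iv F57512) F57513 F54545
theorem F57520 : act 2 n27389 = n26458 := d13_1 F57519 (iv D26458) (iv F54543)
theorem F57521 : act 6 n26458 = n27388 := d14_2 D27389 F57520 (iv D27388)
def n27390 : Q := act 1 n23251
theorem D27390 : act 1 n23251 = n27390 := rfl
theorem F57522 : act 2 n27390 = n23316 := d6_2 (iv F46225) D27390 (iv F46381) F45930 (iv F33734)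
theorem F57523 : act 4 n27390 = n23585 := d8_2 (iv F46226) D27390 (iv D23585)
theorem F57524 : act 5 n27390 = n26536 := d9_2 F54709 D27390 F54802 (iv F54547) (iv F54706)
theorem F57525 : act 6 n27390 = n23319 := d10_2 D23251 D27390 F57469 (iv D27371) F46183
theorem F57526 : act 0 n27390 = n23317 := d23_3 (iv D23252) (iv F46225) D27390 (iv F46384) (iv F46386) F46385 (iv D23068) D23070 F45785 (iv D22896) (iv F39463) F39466 F39447 D20776 (iv F45375) F45378 (iv F45798) (iv F46216) (iv F46227)
def n27391 : Q := act 1 n23255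
theorem D27391 : act 1 n23255 = n27391 := rfl
theorem F57527 : act 4 n27391 = n23586 := d8_2 (iv F46238) D27391 (iv D23586)
theorem F57528 : act 5 n27391 = n27334 := d9_2 F51091 D27391 (iv D27334) D27335 (iv F57378)
theorem F57529 : act 6 n27391 = n26844 := d10_2 D23255 D27391 (iv D26844) (iv D22490) F33738
def n27392 : Q := act 1 n23257
theorem D27392 : act 1 n23257 = n27392 := rfl
theorem F57530 : act 0 n27392 = n23379 := d0_1 D27392 (iv D23379) (iv D18936) (iv D13772) F19340 (iv F19298) (iv F24106) D18850 D23257
theorem F57531 : act 2 n27392 = n23438 := d6_2 (iv F46243) D27392 (iv D23438) F33987 F44012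
theorem F57532 : act 4 n27392 = n23587 := d8_2 (iv F46244) D27392 (iv D23587)
def n27393 : Q := act 3 n23257
theorem D27393 : act 3 n23257 = n27393 := rfl
theorem F57533 : act 0 n27393 = n23258 := d2_1 D27393 (iv D23258) D23257
theorem F57534 : act 5 n27393 = n26835 := d16_2 (iv F46245) D27393 (iv D26835)
def n27394 : Q := act 2 n23258
theorem D27394 : act 2 n23258 = n27394 := rfl
theorem F57535 : act 5 n27394 = n26840 := d13_2 (iv F46247) D27394 (iv D26840)
def n27395 : Q := act 4 n23258
theorem D27395 : act 4 n23258 = n27395 := rfl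
theorem F57536 : act 1 n27395 = n23260 := d8_1 D27395 (iv D23260) (iv F46246)
theorem F57537 : act 3 n27395 = n23315 := d15_1 D27395 F46377 (iv D19168) (iv F33744) D23258
theorem F57538 : act 5 n27395 = n26837 := d18_2 (iv F46247) D27395 F55801
def n27396 : Q := act 6 n23258
theorem D27396 : act 6 n23258 = n27396 := rfl
theorem F57539 : act 3 n27396 = n23259 := d17_1 D27396 (iv D23259) D23258
def n27397 : Q := act 4 n23264
theorem D27397 : act 4 n23264 = n27397 := rfl
theorem F57540 : act 0 n27397 = n23272 := d3_1 D27397 (iv D23272) (iv F46262)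
theorem F57541 : act 1 n27397 = n23395 := d8_1 D27397 (iv D23395) (iv F46263)
theorem F57542 : act 2 n27397 = n24628 := d12_1 D27397 F50691 F50688
theorem F57543 : act 3 n27397 = n23591 := d15_1 D27397 (iv D23591) (iv D19172) (iv F33763) D23264
theorem F57544 : act 5 n25299 = n27397 := d16_0 F57543 F47055 D25299
theorem F57545 : act 6 n24771 = n27397 := d17_0 F57543 F47056 (iv F50336)
def n27398 : Q := act 5 n23264
theorem D27398 : act 5 n23264 = n27398 := rfl
theorem F57546 : act 0 n27398 = n23273 := d4_1 D27398 (iv D23273) (iv F46262)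
theorem F57547 : act 3 n27398 = n23265 := d16_1 D27398 (iv D23265) D23264
theorem F57548 : act 4 n27398 = n25299 := d18_1 D27398 F57544 (iv D27397)
theorem F57549 : act 1 n25332 = n27398 := d8_3 F57548 F51914 D25332
def n27399 : Q := act 6 n23264
theorem D27399 : act 6 n23264 = n27399 := rfl
theorem F57550 : act 0 n27399 = n23274 := d5_1 D27399 (iv D23274) (iv F46262)
theorem F57551 : act 1 n27399 = n24861 := d10_1 D27399 (iv D24861) F46572 (iv D23397) (iv F46263)
theorem F57552 : act 2 n27399 = n24768 := d14_1 D27399 F50692 F50688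
theorem F57553 : act 3 n27399 = n23266 := d17_1 D27399 (iv D23266) D23264
theorem F57554 : act 4 n27399 = n24771 := d19_1 D27399 F57545 (iv D27397)
def n27400 : Q := act 5 n23268
theorem D27400 : act 5 n23268 = n27400 := rfl
theorem F57555 : act 0 n27400 = n23282 := d4_1 D27400 (iv D23282) (iv F46275)
theorem F57556 : act 3 n27400 = n23269 := d16_1 D27400 (iv D23269) D23268
def n27401 : Q := act 6 n23268
theorem D27401 : act 6 n23268 = n27401 := rfl
theorem F57557 : act 0 n27401 = n23283 := d5_1 D27401 (iv D23283) (iv F46275)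
theorem F57558 : act 3 n27401 = n23270 := d17_1 D27401 (iv D23270) D23268
def n27402 : Q := act 4 n23271
theorem D27402 : act 4 n23271 = n27402 := rfl
theorem F57559 : act 0 n27402 = n24628 := d3_1 D27402 F50691 (iv F50690)
theorem F57560 : act 2 n27402 = n23272 := d12_1 D27402 (iv D23272) D23271
theorem F57561 : act 3 n27402 = n24622 := d15_1 D27402 (iv D24622) F38360 D24534 (iv F49769)
theorem F57562 : act 6 n27402 = n24758 := d19_2 F50155 D27402 F50305
def n27403 : Q := act 5 n23272
theorem D27403 : act 5 n23272 = n27403 := rfl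
theorem F57563 : act 0 n27403 = n25299 := d4_1 D27403 F57544 F57540
theorem F57564 : act 3 n27403 = n23592 := d16_1 D27403 (iv D23592) (iv F46283)
theorem F57565 : act 4 n27403 = n23273 := d18_1 D27403 (iv D23273) D23272
def n27404 : Q := act 1 n23273
theorem D27404 : act 1 n23273 = n27404 := rfl
theorem F57566 : act 3 n27404 = n23275 := d7_2 (iv F46284) D27404 (iv D23275)
def n27405 : Q := act 6 n23273
theorem D27405 : act 6 n23273 = n27405 := rfl
theorem F57567 : act 3 n27405 = n23276 := d17_1 D27405 (iv D23276) (iv F46284)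
theorem F57568 : act 5 n27405 = n27399 := d22_2 D23273 D27405 (iv D27399) F46262
def n27406 : Q := act 5 n23274
theorem D27406 : act 5 n23274 = n27406 := rfl
theorem F57569 : act 0 n27406 = n27405 := d4_1 D27406 F57568 F57550
theorem F57570 : act 3 n27406 = n23277 := d16_1 D27406 (iv D23277) (iv F46285)
theorem F57571 : act 6 n27406 = n27398 := d20_2 D23274 D27406 (iv D27398) D27399 (iv F57568) (iv D27405) (iv D23273)
def n27407 : Q := act 2 n23275
theorem D27407 : act 2 n23275 = n27407 := rfl
theorem F57572 : act 1 n27407 = n23279 := d6_1 D27407 (iv D23279) (iv D18866) (iv F33772) D23275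
theorem F57573 : act 4 n27407 = n23593 := d12_2 (iv F46286) D27407 (iv D23593)
theorem F57574 : act 6 n25074 = n27407 := d19_0 F57573 (iv F47062) (iv F51163)
def n27408 : Q := act 6 n23275
theorem D27408 : act 6 n23275 = n27408 := rfl
theorem F57575 : act 0 n27408 = n27407 := d5_1 D27408 (iv F57574) (iv F51165)
theorem F57576 : act 2 n27408 = n25074 := d14_1 D27408 F57574 (iv D27407)
theorem F57577 : act 4 n27408 = n23594 := d19_1 D27408 (iv D23594) (iv F46286)
theorem F57578 : act 5 n27408 = n26810 := d22_2 F55705 D27408 (iv F55709) D26809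
theorem F57579 : act 1 n25072 = n27408 := d8_3 F57577 (iv F47067) (iv F51161)
def n27409 : Q := act 1 n23276
theorem D27409 : act 1 n23276 = n27409 := rfl
theorem F57580 : act 2 n27409 = n25073 := d6_2 (iv F46287) D27409 (iv F57394) F57391 F46152
theorem F57581 : act 4 n27409 = n23595 := d8_2 (iv F46288) D27409 (iv D23595)
theorem F57582 : act 5 n27409 = n25088 := d9_2 (iv F46289) D27409 (iv D25088) F39338 (iv F46269)
theorem F57583 : act 6 n27409 = n25072 := d10_2 D23276 D27409 F57579 (iv D27408) (iv D23275)
def n27410 : Q := act 3 n23279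
theorem D27410 : act 3 n23279 = n27410 := rfl
theorem F57584 : act 0 n27410 = n27096 := d2_1 D27410 F56682 (iv F46299)
theorem F57585 : act 5 n27410 = n23294 := d16_2 (iv F46301) D27410 (iv D23294)
def n27411 : Q := act 5 n23281
theorem D27411 : act 5 n23281 = n27411 := rfl
theorem F57586 : act 3 n27411 = n23597 := d16_1 D27411 (iv D23597) (iv F46307)
theorem F57587 : act 4 n27411 = n23282 := d18_1 D27411 (iv D23282) D23281
def n27412 : Q := act 1 n23282
theorem D27412 : act 1 n23282 = n27412 := rfl
theorem F57588 : act 3 n27412 = n23284 := d7_2 (iv F46308) D27412 (iv D23284)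
theorem F57589 : act 5 n27412 = n23288 := d9_2 D23282 D27412 (iv D23288) (iv D18873) (iv F33783)
def n27413 : Q := act 6 n23282
theorem D27413 : act 6 n23282 = n27413 := rfl
theorem F57590 : act 3 n27413 = n23285 := d17_1 D27413 (iv D23285) (iv F46308)
theorem F57591 : act 5 n27413 = n27401 := d22_2 D23282 D27413 (iv D27401) F46275
def n27414 : Q := act 5 n23283
theorem D27414 : act 5 n23283 = n27414 := rfl
theorem F57592 : act 0 n27414 = n27413 := d4_1 D27414 F57591 F57557
theorem F57593 : act 3 n27414 = n23286 := d16_1 D27414 (iv D23286) (iv F46309)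
theorem F57594 : act 6 n27414 = n27400 := d20_2 D23283 D27414 (iv D27400) D27401 (iv F57591) (iv D27413) (iv D23282)
def n27415 : Q := act 0 n23284
theorem D27415 : act 0 n23284 = n27415 := rfl
theorem F57595 : act 1 n27415 = n26779 := d0_2 D23284 D27415 (iv D26779) (iv D22385) (iv F30096) D22438 D26809 (iv F55706) F46277
theorem F57596 : act 4 n27415 = n23600 := d3_2 (iv F46310) D27415 (iv D23600)
theorem F57597 : act 5 n27415 = n23289 := d4_2 (iv F46311) D27415 (iv D23289)
def n27416 : Q := act 2 n23284
theorem D27416 : act 2 n23284 = n27416 := rfl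
theorem F57598 : act 4 n27416 = n23601 := d12_2 (iv F46310) D27416 (iv D23601)
theorem F57599 : act 5 n27416 = n23290 := d13_2 (iv F46311) D27416 (iv D23290)
def n27417 : Q := act 6 n23284
theorem D27417 : act 6 n23284 = n27417 := rfl
theorem F57600 : act 4 n27417 = n23602 := d19_1 D27417 (iv D23602) (iv F46310)
def n27418 : Q := act 1 n23285
theorem D27418 : act 1 n23285 = n27418 := rfl
theorem F57601 : act 4 n27418 = n23603 := d8_2 (iv F46312) D27418 (iv D23603)
def n27419 : Q := act 1 n23286
theorem D27419 : act 1 n23286 = n27419 := rfl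
theorem F57602 : act 4 n27419 = n23604 := d8_2 (iv F46316) D27419 (iv D23604)
theorem F57603 : act 5 n27419 = n24357 := d9_2 D23286 D27419 (iv D24357) F37819 F37506
theorem F57604 : act 6 n27419 = n27416 := d24_3 D18871 D23286 D27419 F57599 F46324 D23295 (iv F56376) (iv F56529) (iv D27052) F45198 (iv D18773) (iv F24127) (iv D13740) D13738
theorem F57605 : act 2 n27417 = n27419 := d14_3 F57604 (iv D27416) D27417
def n27420 : Q := act 1 n23287
theorem D27420 : act 1 n23287 = n27420 := rfl
theorem F57606 : act 3 n27420 = n23605 := d7_2 (iv F46319) D27420 (iv D23605)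
theorem F57607 : act 4 n27420 = n23288 := d8_2 (iv F46320) D27420 (iv D23288)
def n27421 : Q := act 0 n23288
theorem D27421 : act 0 n23288 = n27421 := rfl
theorem F57608 : act 3 n27421 = n23289 := d2_2 (iv F46322) D27421 (iv D23289)
def n27422 : Q := act 2 n23288
theorem D27422 : act 2 n23288 = n27422 := rfl
def n27423 : Q := act 6 n23288
theorem D27423 : act 6 n23288 = n27423 := rfl
theorem F57609 : act 1 n27423 = n27244 := d10_1 D27423 (iv D27244) (iv D23144) (iv F33790) D23288
theorem F57610 : act 3 n27423 = n23291 := d17_1 D27423 (iv D23291) (iv F46322)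
def n27424 : Q := act 1 n23289
theorem D27424 : act 1 n23289 = n27424 := rfl
theorem F57611 : act 4 n27424 = n23609 := d8_2 (iv F46323) D27424 (iv D23609)
def n27425 : Q := act 6 n23289
theorem D27425 : act 6 n23289 = n27425 := rfl
theorem F57612 : act 0 n27425 = n23291 := d5_1 D27425 (iv D23291) D23289
theorem F57613 : act 2 n27425 = n24357 := d14_1 D27425 (iv F55923) (iv F55925)
theorem F57614 : act 4 n27425 = n23610 := d19_1 D27425 (iv D23610) (iv F46323)
theorem F57615 : act 5 n27425 = n27417 := d22_2 F57597 D27425 (iv D27417) D27415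
theorem F57616 : act 1 n27425 = n25086 := d24_2 D27417 (iv F57615) (iv F51210) (iv D23326) (iv F35037) (iv D17285) D17284 F30317 D20014 F37819 F37506 (iv D18871) D18870 D23284
def n27426 : Q := act 3 n23290
theorem D27426 : act 3 n23290 = n27426 := rfl
theorem F57617 : act 1 n27426 = n23294 := d7_1 D27426 (iv D23294) (iv F46324)
def n27427 : Q := act 6 n23290
theorem D27427 : act 6 n23290 = n27427 := rfl
theorem F57618 : act 0 n27427 = n24357 := d5_1 D27427 (iv F55923) (iv F55924)
theorem F57619 : act 2 n27427 = n23291 := d14_1 D27427 (iv D23291) D23290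
theorem F57620 : act 4 n27427 = n23611 := d19_1 D27427 (iv D23611) (iv F46325)
def n27428 : Q := act 5 n23291
theorem D27428 : act 5 n23291 = n27428 := rfl
theorem F57621 : act 0 n27428 = n27417 := d4_1 D27428 (iv F57615) F57612
theorem F57622 : act 1 n27428 = n24352 := d9_1 D27428 (iv F50995) F57122 (iv D27248) (iv F46326)
theorem F57623 : act 4 n27428 = n23612 := d18_1 D27428 (iv D23612) (iv F46327)
theorem F57624 : act 6 n27428 = n27415 := d20_2 D23291 D27428 F57597 D27425 F57615 (iv D27417) F46311
def n27429 : Q := act 3 n23293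
theorem D27429 : act 3 n23293 = n27429 := rfl
theorem F57625 : act 0 n27429 = n23294 := d2_1 D27429 (iv D23294) (iv F46331)
theorem F57626 : act 1 n27429 = n27093 := d7_1 D27429 F56671 F46334
theorem F57627 : act 5 n27429 = n27096 := d16_2 (iv F46333) D27429 F56682
def n27430 : Q := act 2 n23294
theorem D27430 : act 2 n23294 = n27430 := rfl
def n27431 : Q := act 4 n23294
theorem D27431 : act 4 n23294 = n27431 := rfl
theorem F57628 : act 3 n27431 = n23613 := d15_1 D27431 (iv D23613) (iv D19200) (iv F33793) D23294
def n27432 : Q := act 6 n23294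
theorem D27432 : act 6 n23294 = n27432 := rfl
theorem F57629 : act 3 n27432 = n23295 := d17_1 D27432 (iv D23295) D23294
def n27433 : Q := act 1 n23295
theorem D27433 : act 1 n23295 = n27433 := rfl
theorem F57630 : act 2 n27433 = n25191 := d6_2 (iv F46335) D27433 F51576 F40192 (iv F33794)
theorem F57631 : act 4 n27433 = n23614 := d8_2 (iv F46336) D27433 (iv D23614)
theorem F57632 : act 0 n23403 = n27433 := d3_3 F57631 (iv F47118) (iv F46590)
def n27434 : Q := act 0 n23296
theorem D27434 : act 0 n23296 = n27434 := rfl
theorem F57633 : act 3 n27434 = n23615 := d2_2 (iv F46337) D27434 (iv D23615)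
theorem F57634 : act 4 n27434 = n23298 := d3_2 (iv F46338) D27434 (iv D23298)
theorem F57635 : act 5 n27434 = n23405 := d4_2 (iv F46339) D27434 (iv D23405)
def n27435 : Q := act 2 n23296
theorem D27435 : act 2 n23296 = n27435 := rfl
theorem F57636 : act 4 n27435 = n23299 := d12_2 (iv F46338) D27435 (iv D23299)
theorem F57637 : act 5 n27435 = n23406 := d13_2 (iv F46339) D27435 (iv D23406)
def n27436 : Q := act 6 n23296
theorem D27436 : act 6 n23296 = n27436 := rfl
theorem F57638 : act 3 n27436 = n23616 := d17_1 D27436 (iv F47123) (iv F46337)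
theorem F57639 : act 4 n27436 = n23300 := d19_1 D27436 (iv D23300) (iv F46338)
theorem F57640 : act 5 n27436 = n23700 := d22_2 (iv F46339) D27436 F47348 (iv D23405)
def n27437 : Q := act 1 n23297
theorem D27437 : act 1 n23297 = n27437 := rfl
theorem F57641 : act 3 n27437 = n23617 := d7_2 (iv F46341) D27437 (iv D23617)
theorem F57642 : act 4 n27437 = n23301 := d8_2 (iv F46342) D27437 (iv D23301)
theorem F57643 : act 5 n27437 = n24094 := d9_2 (iv F46343) D27437 (iv D24094) (iv D19770) (iv F37267)
def n27438 : Q := act 1 n23298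
theorem D27438 : act 1 n23298 = n27438 := rfl
theorem F57644 : act 3 n27438 = n23302 := d7_2 (iv F46344) D27438 (iv D23302)
theorem F57645 : act 5 n27438 = n25070 := d9_2 (iv F46345) D27438 F51153 F46604 (iv D23409)
def n27439 : Q := act 2 n23298
theorem D27439 : act 2 n23298 = n27439 := rfl
theorem F57646 : act 0 n27439 = n23299 := d1_1 D27439 (iv D23299) D23298
theorem F57647 : act 5 n27439 = n23410 := d13_2 (iv F46345) D27439 (iv D23410)
theorem F57648 : act 3 n24126 = n27439 := d16_3 F57647 F48675 D24126
def n27440 : Q := act 3 n23299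
theorem D27440 : act 3 n23299 = n27440 := rfl
theorem F57649 : act 0 n27440 = n24126 := d2_1 D27440 F57648 F57646
theorem F57650 : act 5 n27440 = n23412 := d16_2 (iv F46346) D27440 (iv D23412)
theorem F57651 : act 2 n24882 = n27440 := d13_3 F57650 F48672 D24882
theorem F57652 : act 4 n24379 = n27440 := d18_3 F57650 F48673 D24379
theorem F57653 : act 1 n27440 = n25989 := d8_1 F57652 F53444 F49333
theorem F57654 : act 3 n25989 = n26063 := d7_2 D27440 F57653 F53591
theorem F57655 : act 0 n26063 = n25987 := d2_1 F57654 F53440 D25989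
theorem F57656 : act 2 n25987 = n26062 := d1_2 D26063 F57655 (iv D26062)
def n27441 : Q := act 6 n23299
theorem D27441 : act 6 n23299 = n27441 := rfl
theorem F57657 : act 2 n27441 = n23300 := d14_1 D27441 (iv D23300) D23299
def n27442 : Q := act 1 n23300
theorem D27442 : act 1 n23300 = n27442 := rfl
theorem F57658 : act 3 n27442 = n23306 := d7_2 (iv F46347) D27442 (iv D23306)
theorem F57659 : act 6 n27442 = n23301 := d10_2 D23300 D27442 (iv D23301) (iv D18880) D18879
def n27443 : Q := act 0 n23301
theorem D27443 : act 0 n23301 = n27443 := rfl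
theorem F57660 : act 3 n27443 = n23307 := d2_2 (iv F46348) D27443 (iv D23307)
def n27444 : Q := act 2 n23301
theorem D27444 : act 2 n23301 = n27444 := rfl
def n27445 : Q := act 5 n23301
theorem D27445 : act 5 n23301 = n27445 := rfl
theorem F57661 : act 1 n27445 = n24093 := d9_1 D27445 (iv D24093) F37274 (iv F33802) D23301
theorem F57662 : act 3 n27445 = n23309 := d16_1 D27445 (iv D23309) (iv F46348)
theorem F57663 : act 4 n27445 = n24094 := d18_1 D27445 (iv F57643) F57642
def n27446 : Q := act 0 n23302
theorem D27446 : act 0 n23302 = n27446 := rfl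
theorem F57664 : act 2 n27446 = n25069 := d1_2 F46351 D27446 F51148
theorem F57665 : act 4 n27446 = n23619 := d3_2 (iv F46349) D27446 (iv D23619)
theorem F57666 : act 5 n27446 = n25068 := d4_2 (iv F46350) D27446 F51145
theorem F57667 : act 6 n25038 = n27446 := d22_3 F46350 F39263 D25038 (iv D27446)
def n27447 : Q := act 6 n23302
theorem D27447 : act 6 n23302 = n27447 := rfl
theorem F57668 : act 0 n27447 = n25038 := d5_1 D27447 F57667 (iv D27446)
theorem F57669 : act 2 n27447 = n25071 := d14_1 D27447 (iv D25071) F46351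
theorem F57670 : act 4 n27447 = n23620 := d19_1 D27447 (iv D23620) (iv F46349)
theorem F57671 : act 5 n27447 = n25037 := d20_1 D27447 (iv F51147) (iv F57666) (iv F57667) (iv D25038) (iv F39263) (iv F46350)
def n27448 : Q := act 3 n23303
theorem D27448 : act 3 n23303 = n27448 := rfl
theorem F57672 : act 0 n27448 = n23304 := d2_1 D27448 (iv D23304) (iv F46352)
theorem F57673 : act 1 n27448 = n26692 := d7_1 D27448 F55305 (iv F46353)
theorem F57674 : act 5 n27448 = n23419 := d16_2 (iv F46355) D27448 (iv D23419)
theorem F57675 : act 2 n27448 = n26430 := d21_2 D23303 D27448 F54493 F57651 (iv D27440) (iv D23299) F33798 D18881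
def n27449 : Q := act 2 n23304
theorem D27449 : act 2 n23304 = n27449 := rfl
theorem F57676 : act 0 n27449 = n26430 := d1_1 D27449 (iv F57675) F57672
theorem F57677 : act 1 n27449 = n26062 := d6_1 D27449 (iv F57656) (iv D25987) F41809 (iv F46356)
theorem F57678 : act 3 n27449 = n26067 := d11_2 D23304 D27449 (iv F53600) F57648 (iv D27439) F46344 D23303 D27448 F57675 F54493 F57651 (iv D27440) (iv D23299) F33798 D18882
theorem F57679 : act 5 n27449 = n23422 := d13_2 (iv F46357) D27449 (iv D23422)
def n27450 : Q := act 6 n23304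
theorem D27450 : act 6 n23304 = n27450 := rfl
theorem F57680 : act 3 n27450 = n23305 := d17_1 D27450 (iv D23305) D23304
def n27451 : Q := act 1 n23305
theorem D27451 : act 1 n23305 = n27451 := rfl
theorem F57681 : act 4 n27451 = n23590 := d8_2 (iv F46359) D27451 F47050
theorem F57682 : act 6 n27451 = n23315 := d10_2 D23305 D27451 (iv D23315) (iv D18888) (iv F33805)
def n27452 : Q := act 0 n23306
theorem D27452 : act 0 n23306 = n27452 := rfl
theorem F57683 : act 4 n27452 = n23621 := d3_2 (iv F46360) D27452 (iv D23621)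
theorem F57684 : act 6 n27452 = n23307 := d5_2 (iv F46361) D27452 (iv D23307)
def n27453 : Q := act 2 n23306
theorem D27453 : act 2 n23306 = n27453 := rfl
theorem F57685 : act 4 n27453 = n23622 := d12_2 (iv F46360) D27453 (iv D23622)
theorem F57686 : act 6 n27453 = n23308 := d14_2 (iv F46361) D27453 (iv D23308)
def n27454 : Q := act 5 n23306
theorem D27454 : act 5 n23306 = n27454 := rfl
theorem F57687 : act 4 n27454 = n23623 := d18_1 D27454 (iv D23623) (iv F46360)
def n27455 : Q := act 1 n23307
theorem D27455 : act 1 n23307 = n27455 := rfl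
theorem F57688 : act 0 n27455 = n26765 := d0_1 D27455 F55571 (iv F55638) (iv F55641) (iv D23145) (iv D18773) (iv F24134) D18884 D23307
theorem F57689 : act 4 n27455 = n23624 := d8_2 (iv F46362) D27455 (iv D23624)
theorem F57690 : act 5 n26762 = n27455 := d18_0 F57689 (iv F47143) D26762
def n27456 : Q := act 2 n23307
theorem D27456 : act 2 n23307 = n27456 := rfl
theorem F57691 : act 0 n27456 = n23308 := d1_1 D27456 (iv D23308) D23307
theorem F57692 : act 4 n27456 = n23625 := d12_2 (iv F46362) D27456 (iv D23625)
def n27457 : Q := act 5 n23307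
theorem D27457 : act 5 n23307 = n27457 := rfl
theorem F57693 : act 0 n27457 = n23309 := d4_1 D27457 (iv D23309) D23307
theorem F57694 : act 4 n27457 = n23626 := d18_1 D27457 (iv D23626) (iv F46362)
theorem F57695 : act 6 n27457 = n27454 := d22_1 D27457 (iv D27454) F46361 D23307
def n27458 : Q := act 3 n23308
theorem D27458 : act 3 n23308 = n27458 := rfl
theorem F57696 : act 1 n27458 = n23321 := d7_1 D27458 (iv D23321) (iv F46363)
def n27459 : Q := act 6 n23309
theorem D27459 : act 6 n23309 = n27459 := rfl
theorem F57697 : act 0 n27459 = n27454 := d5_1 D27459 (iv F57695) F57693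
theorem F57698 : act 4 n27459 = n23627 := d19_1 D27459 (iv D23627) (iv F46366)
theorem F57699 : act 5 n27459 = n27452 := d20_1 D27459 F57684 D27457 F57695 (iv D27454) F46361 D23309
def n27460 : Q := act 2 n23310
theorem D27460 : act 2 n23310 = n27460 := rfl
theorem F57700 : act 0 n27460 = n23311 := d1_1 D27460 (iv D23311) D23310
theorem F57701 : act 4 n27460 = n23628 := d12_2 (iv F46367) D27460 (iv D23628)
theorem F57702 : act 6 n27460 = n26923 := d14_2 F46368 D27460 F56073
def n27461 : Q := act 1 n23311
theorem D27461 : act 1 n23311 = n27461 := rfl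
theorem F57703 : act 2 n27461 = n23314 := d6_2 D23311 D27461 (iv D23314) (iv D18886) D18885
theorem F57704 : act 4 n27461 = n23563 := d8_2 (iv F46369) D27461 F46979
theorem F57705 : act 6 n23660 = n27461 := d19_0 F57704 F46980 D23660
def n27462 : Q := act 3 n23311
theorem D27462 : act 3 n23311 = n27462 := rfl
def n27463 : Q := act 5 n23311
theorem D27463 : act 5 n23311 = n27463 := rfl
theorem F57706 : act 2 n27463 = n23312 := d13_1 D27463 (iv D23312) D23311
theorem F57707 : act 4 n27463 = n23630 := d18_1 D27463 (iv D23630) (iv F46369)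
theorem F57708 : act 6 n27463 = n26877 := d22_1 D27463 (iv F56075) (iv F57702) F57700
def n27464 : Q := act 6 n23311
theorem D27464 : act 6 n23311 = n27464 := rfl
theorem F57709 : act 0 n27464 = n26923 := d5_1 D27464 (iv F57702) F57700
theorem F57710 : act 2 n27464 = n23313 := d14_1 D27464 (iv D23313) D23311
theorem F57711 : act 4 n27464 = n23631 := d19_1 D27464 (iv D23631) (iv F46369)
theorem F57712 : act 5 n27234 = n27464 := d22_0 (iv D27464) D27463 F57708 (iv F57084)
def n27465 : Q := act 0 n23314
theorem D27465 : act 0 n23314 = n27465 := rfl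
theorem F57713 : act 4 n27465 = n23562 := d3_2 (iv F46375) D27465 F46976
theorem F57714 : act 6 n27465 = n23654 := d5_2 (iv F46376) D27465 F47232
theorem F57715 : act 5 n27465 = n27461 := d22_0 (iv F57705) F47246 (iv F46376) D27465
theorem F57716 : act 1 n26667 = n27465 := d10_5 F57714 F47233 F43200 (iv F43327) D26667
def n27466 : Q := act 5 n23314
theorem D27466 : act 5 n23314 = n27466 := rfl
theorem F57717 : act 0 n27466 = n27461 := d4_1 D27466 (iv F57715) (iv D27465)
theorem F57718 : act 1 n27466 = n23330 := d9_1 D27466 (iv D23330) (iv D18897) (iv F33813) D23314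
theorem F57719 : act 2 n27466 = n27465 := d13_1 D27466 F57715 F57703
theorem F57720 : act 4 n27466 = n23564 := d18_1 D27466 (iv D23564) (iv F46375)
def n27467 : Q := act 0 n23315
theorem D27467 : act 0 n23315 = n27467 := rfl
theorem F57721 : act 1 n27467 = n26097 := d0_2 D23315 D27467 F53681 (iv F47283) F47282 F35950 F24533 (iv F24424) F35457
theorem F57722 : act 4 n27467 = n23588 := d3_2 (iv F46377) D27467 F47045
theorem F57723 : act 5 n27467 = n26833 := d4_2 (iv F46378) D27467 F55790
def n27468 : Q := act 2 n23315
theorem D27468 : act 2 n23315 = n27468 := rfl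
theorem F57724 : act 1 n27468 = n23317 := d6_1 D27468 (iv D23317) (iv D18889) (iv F33815) D23315
theorem F57725 : act 4 n27468 = n23589 := d12_2 (iv F46377) D27468 (iv D23589)
theorem F57726 : act 5 n27468 = n26530 := d13_2 (iv F46378) D27468 F54781
def n27469 : Q := act 3 n23317
theorem D27469 : act 3 n23317 = n27469 := rfl
theorem F57727 : act 4 n27469 = n25572 := d15_2 (iv F46382) D27469 F52494 F41224 (iv F36885)
theorem F57728 : act 5 n27469 = n25571 := d16_2 F46384 D27469 F52493
theorem F57729 : act 6 n27469 = n23321 := d17_2 (iv F46383) D27469 (iv D23321)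
def n27470 : Q := act 3 n23319
theorem D27470 : act 3 n23319 = n27470 := rfl
theorem F57730 : act 0 n27470 = n23321 := d2_1 D27470 (iv D23321) (iv F46388)
def n27471 : Q := act 2 n23321
theorem D27471 : act 2 n23321 = n27471 := rfl
def n27472 : Q := act 5 n23321
theorem D27472 : act 5 n23321 = n27472 := rfl
theorem F57731 : act 3 n27472 = n23322 := d16_1 D27472 (iv D23322) D23321
theorem F57732 : act 6 n27472 = n26440 := d22_3 (iv F57728) F57729 D27472 (iv F54519)
theorem F57733 : act 2 n26444 = n27472 := d14_3 F57732 F54517 D26444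
theorem F57734 : act 5 n27471 = n26444 := d13_0 F57733 (iv D27472) D27471
def n27473 : Q := act 1 n23326
theorem D27473 : act 1 n23326 = n27473 := rfl
theorem F57735 : act 4 n27473 = n23632 := d8_2 (iv F46408) D27473 (iv D23632)
theorem F57736 : act 5 n27473 = n26880 := d9_2 D23326 D27473 (iv D26880) (iv D22550) F35037
theorem F57737 : act 6 n27473 = n27424 := d10_2 (iv F51210) D27473 (iv D27424) D27425 F57616
def n27474 : Q := act 1 n23328
theorem D27474 : act 1 n23328 = n27474 := rfl
theorem F57738 : act 0 n27474 = n23438 := d0_1 D27474 (iv D23438) (iv D18976) (iv D13792) F19364 (iv F19317) (iv F24145) D18897 D23328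
theorem F57739 : act 2 n27474 = n23379 := d6_2 (iv F46413) D27474 (iv D23379) (iv F33974) F44153
theorem F57740 : act 4 n27474 = n23633 := d8_2 (iv F46414) D27474 (iv D23633)
def n27475 : Q := act 3 n23328
theorem D27475 : act 3 n23328 = n27475 := rfl
theorem F57741 : act 0 n27475 = n23329 := d2_1 D27475 (iv D23329) D23328
theorem F57742 : act 6 n27475 = n26870 := d17_2 (iv F46415) D27475 (iv D26870)
def n27476 : Q := act 2 n23329
theorem D27476 : act 2 n23329 = n27476 := rfl
theorem F57743 : act 6 n27476 = n26875 := d14_2 (iv F46417) D27476 (iv D26875)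
def n27477 : Q := act 5 n23329
theorem D27477 : act 5 n23329 = n27477 := rfl
theorem F57744 : act 3 n27477 = n23330 := d16_1 D27477 (iv D23330) D23329
def n27478 : Q := act 1 n23335
theorem D27478 : act 1 n23335 = n27478 := rfl
theorem F57745 : act 3 n27478 = n25485 := d7_2 (iv F46436) D27478 (iv D25485)
theorem F57746 : act 4 n27478 = n23639 := d8_2 (iv F46437) D27478 (iv D23639)
theorem F57747 : act 5 n27478 = n25900 := d9_2 D23335 D27478 F53190 F42241 (iv F33848)
theorem F57748 : act 6 n27478 = n25846 := d10_2 (iv F46438) D27478 (iv D25846) (iv D21492) (iv F41091)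
def n27479 : Q := act 1 n23338
theorem D27479 : act 1 n23338 = n27479 := rfl
theorem F57749 : act 3 n27479 = n23339 := d7_2 (iv F46449) D27479 (iv D23339)
theorem F57750 : act 4 n27479 = n25324 := d8_2 F52974 D27479 F52976
theorem F57751 : act 6 n27479 = n25327 := d10_2 D23338 D27479 F57311 (iv D27308) F46078
theorem F57752 : act 0 n26790 = n27479 := d2_3 F57749 (iv F46452) D26790
def n27480 : Q := act 1 n23340
theorem D27480 : act 1 n23340 = n27480 := rfl
theorem F57753 : act 3 n27480 = n24036 := d7_2 (iv F46455) D27480 (iv D24036)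
theorem F57754 : act 4 n27480 = n27041 := d8_2 (iv F46456) D27480 (iv D27041)
theorem F57755 : act 6 n27480 = n27226 := d10_2 D23340 D27480 (iv D27226) (iv D23128) (iv F33857)
def n27481 : Q := act 1 n23342
theorem D27481 : act 1 n23342 = n27481 := rfl
theorem F57756 : act 3 n27481 = n23344 := d7_2 (iv F46461) D27481 (iv D23344)
theorem F57757 : act 4 n27481 = n25813 := d8_2 (iv F46462) D27481 (iv D25813)
theorem F57758 : act 6 n27481 = n25818 := d10_2 D23342 D27481 (iv D25818) (iv D21476) (iv F33865)
def n27482 : Q := act 1 n23343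
theorem D27482 : act 1 n23343 = n27482 := rfl
theorem F57759 : act 3 n27482 = n23345 := d7_2 (iv F46465) D27482 (iv D23345)
def n27483 : Q := act 0 n23344
theorem D27483 : act 0 n23344 = n27483 := rfl
theorem F57760 : act 2 n27483 = n26941 := d1_2 (iv F54857) D27483 F56156
theorem F57761 : act 4 n27483 = n23640 := d3_2 (iv F46467) D27483 (iv D23640)
theorem F57762 : act 6 n27483 = n26555 := d5_2 (iv F46468) D27483 (iv D26555)
def n27484 : Q := act 5 n23344
theorem D27484 : act 5 n23344 = n27484 := rfl
theorem F57763 : act 1 n27484 = n26787 := d9_1 D27484 F55632 (iv D23339) (iv F33871) D23344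
theorem F57764 : act 4 n27484 = n23642 := d18_1 D27484 (iv D23642) (iv F46467)
def n27485 : Q := act 2 n23346
theorem D27485 : act 2 n23346 = n27485 := rfl
theorem F57765 : act 0 n27485 = n23347 := d1_1 D27485 (iv D23347) D23346
theorem F57766 : act 4 n27485 = n23351 := d12_2 (iv F46472) D27485 (iv D23351)
theorem F57767 : act 1 n24078 = n27485 := d8_3 F57766 F48553 D24078
theorem F57768 : act 3 n24328 = n27485 := d15_5 F57766 F48554 F37233 D19985 D24328
def n27486 : Q := act 3 n23347
theorem D27486 : act 3 n23347 = n27486 := rfl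
theorem F57769 : act 0 n27486 = n24328 := d2_1 D27486 F57768 F57765
theorem F57770 : act 4 n27486 = n24324 := d15_2 (iv F46473) D27486 (iv D24324) (iv F48552) (iv D23353)
def n27487 : Q := act 5 n23347
theorem D27487 : act 5 n23347 = n27487 := rfl
theorem F57771 : act 2 n27487 = n23348 := d13_1 D27487 (iv D23348) D23347
theorem F57772 : act 4 n27487 = n23354 := d18_1 D27487 (iv D23354) (iv F46473)
def n27488 : Q := act 1 n23348
theorem D27488 : act 1 n23348 = n27488 := rfl
theorem F57773 : act 3 n27488 = n23649 := d7_2 (iv F46474) D27488 (iv D23649)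
theorem F57774 : act 4 n27488 = n23355 := d8_2 (iv F46475) D27488 (iv D23355)
theorem F57775 : act 5 n27488 = n23349 := d9_2 D23348 D27488 (iv D23349) (iv D18918) D18917
def n27489 : Q := act 6 n23348
theorem D27489 : act 6 n23348 = n27489 := rfl
theorem F57776 : act 0 n27489 = n27347 := d5_1 D27489 F57407 F47209
theorem F57777 : act 3 n27489 = n23650 := d17_1 D27489 (iv D23650) (iv F46474)
theorem F57778 : act 4 n27489 = n23356 := d19_1 D27489 (iv D23356) (iv F46475)
theorem F57779 : act 5 n27489 = n27345 := d20_1 D27489 F57402 (iv F47211) (iv F57407) (iv D27347) F46159 D23348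
def n27490 : Q := act 2 n23349
theorem D27490 : act 2 n23349 = n27490 := rfl
theorem F57780 : act 1 n27490 = n27113 := d6_1 D27490 F56726 F45419 (iv F33878) D23349
theorem F57781 : act 4 n27490 = n23358 := d12_2 (iv F46477) D27490 (iv D23358)
def n27491 : Q := act 2 n23350
theorem D27491 : act 2 n23350 = n27491 := rfl
theorem F57782 : act 0 n27491 = n24835 := d1_1 D27491 F50470 (iv F46478)
theorem F57783 : act 1 n27491 = n24077 := d6_1 D27491 (iv D24077) (iv F48553) (iv D23351) D23350
theorem F57784 : act 4 n27491 = n24842 := d12_2 (iv F46480) D27491 F50483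
theorem F57785 : act 5 n27491 = n24833 := d13_2 F46481 D27491 (iv D24833)
theorem F57786 : act 6 n27491 = n25106 := d14_2 F46482 D27491 (iv D25106)
def n27492 : Q := act 5 n23351
theorem D27492 : act 5 n23351 = n27492 := rfl
theorem F57787 : act 0 n27492 = n23354 := d4_1 D27492 (iv D23354) (iv F46483)
theorem F57788 : act 2 n27492 = n23352 := d13_1 D27492 (iv D23352) D23351
theorem F57789 : act 3 n27492 = n24075 := d16_1 D27492 (iv D24075) (iv F48554)
theorem F57790 : act 6 n27492 = n27352 := d22_1 D27492 (iv D27352) F46166 (iv F46483)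
theorem F57791 : act 1 n26154 = n27492 := d7_3 F57789 (iv F48543) D26154
def n27493 : Q := act 1 n23352
theorem D27493 : act 1 n23352 = n27493 := rfl
theorem F57792 : act 3 n27493 = n23362 := d7_2 (iv F46485) D27493 (iv D23362)
theorem F57793 : act 4 n27493 = n24838 := d8_2 F47210 D27493 F50477
theorem F57794 : act 5 n27493 = n24832 := d9_2 D23352 D27493 (iv D24832) F46481 (iv D23350)
def n27494 : Q := act 5 n23353
theorem D27494 : act 5 n23353 = n27494 := rfl
theorem F57795 : act 0 n27494 = n24075 := d4_1 D27494 (iv D24075) (iv F48550)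
theorem F57796 : act 2 n27494 = n24829 := d13_1 D27494 (iv D24829) (iv F48551)
theorem F57797 : act 3 n27494 = n23354 := d16_1 D27494 (iv D23354) D23353
theorem F57798 : act 4 n27494 = n24325 := d18_1 D27494 (iv D24325) (iv F48552)
def n27495 : Q := act 1 n23354
theorem D27495 : act 1 n23354 = n27495 := rfl
def n27496 : Q := act 6 n23354
theorem D27496 : act 6 n23354 = n27496 := rfl
theorem F57799 : act 0 n27496 = n27352 := d5_1 D27496 (iv F57790) F57787
theorem F57800 : act 2 n27496 = n23356 := d14_1 D27496 (iv D23356) (iv F46487)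
theorem F57801 : act 5 n27496 = n27350 := d20_1 D27496 F57414 D27492 F57790 (iv D27352) F46166 D23354
def n27497 : Q := act 0 n23355
theorem D27497 : act 0 n23355 = n27497 := rfl
theorem F57802 : act 3 n27497 = n23368 := d2_2 (iv F46488) D27497 (iv D23368)
theorem F57803 : act 5 n27497 = n23357 := d4_2 (iv F46489) D27497 (iv D23357)
def n27498 : Q := act 2 n23355
theorem D27498 : act 2 n23355 = n27498 := rfl
theorem F57804 : act 5 n27498 = n23358 := d13_2 (iv F46489) D27498 (iv D23358)
def n27499 : Q := act 6 n23355
theorem D27499 : act 6 n23355 = n27499 := rfl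
theorem F57805 : act 3 n27499 = n23369 := d17_1 D27499 (iv D23369) (iv F46488)
theorem F57806 : act 1 n26199 = n27499 := d7_3 F57805 F46937 D26199
def n27500 : Q := act 1 n23356
theorem D27500 : act 1 n23356 = n27500 := rfl
theorem F57807 : act 3 n27500 = n23370 := d7_2 (iv F46491) D27500 (iv D23370)
theorem F57808 : act 6 n27500 = n26199 := d10_2 D23356 D27500 F57806 (iv D27499) (iv D23355)
def n27501 : Q := act 2 n23357
theorem D27501 : act 2 n23357 = n27501 := rfl
theorem F57809 : act 0 n27501 = n23358 := d1_1 D27501 (iv D23358) D23357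
def n27502 : Q := act 6 n23357
theorem D27502 : act 6 n23357 = n27502 := rfl
theorem F57810 : act 0 n27502 = n23359 := d5_1 D27502 (iv D23359) D23357
theorem F57811 : act 3 n27502 = n23371 := d17_1 D27502 (iv D23371) (iv F46493)
theorem F57812 : act 5 n27502 = n27499 := d22_2 F57803 D27502 (iv D27499) D27497
def n27503 : Q := act 3 n23358
theorem D27503 : act 3 n23358 = n27503 := rfl
theorem F57813 : act 1 n27503 = n25518 := d7_1 D27503 (iv F52369) (iv F46494)
theorem F57814 : act 4 n25517 = n27503 := d8_0 F57813 (iv D25518) D25517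
def n27504 : Q := act 6 n23358
theorem D27504 : act 6 n23358 = n27504 := rfl
theorem F57815 : act 2 n27504 = n23359 := d14_1 D27504 (iv D23359) D23358
def n27505 : Q := act 5 n23359
theorem D27505 : act 5 n23359 = n27505 := rfl
theorem F57816 : act 0 n27505 = n27499 := d4_1 D27505 (iv F57812) F57810
theorem F57817 : act 3 n27505 = n23372 := d16_1 D27505 (iv D23372) (iv F46496)
theorem F57818 : act 6 n27505 = n27497 := d20_2 D23359 D27505 F57803 D27502 F57812 (iv D27499) F46489
def n27506 : Q := act 4 n23360
theorem D27506 : act 4 n23360 = n27506 := rfl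
theorem F57819 : act 0 n27506 = n23364 := d3_1 D27506 (iv D23364) (iv F46497)
theorem F57820 : act 1 n27506 = n26625 := d8_1 D27506 F55109 (iv F46498)
theorem F57821 : act 2 n27506 = n26353 := d12_1 D27506 (iv D26353) F48555
theorem F57822 : act 3 n27506 = n23654 := d15_1 D27506 (iv D23654) (iv D19260) (iv F33889) D23360
def n27507 : Q := act 5 n23360
theorem D27507 : act 5 n23360 = n27507 := rfl
theorem F57823 : act 0 n27507 = n23365 := d4_1 D27507 (iv D23365) (iv F46497)
theorem F57824 : act 2 n27507 = n26354 := d13_1 D27507 (iv D26354) F48555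
theorem F57825 : act 3 n27507 = n23361 := d16_1 D27507 (iv D23361) D23360
theorem F57826 : act 6 n27507 = n27362 := d22_1 D27507 (iv D27362) F46177 (iv F46497)
def n27508 : Q := act 1 n23361
theorem D27508 : act 1 n23361 = n27508 := rfl
theorem F57827 : act 4 n27508 = n23655 := d8_2 (iv F46501) D27508 (iv D23655)
theorem F57828 : act 5 n27508 = n26808 := d9_2 D23361 D27508 (iv D26808) (iv D22436) F35162
def n27509 : Q := act 0 n23362
theorem D27509 : act 0 n23362 = n27509 := rfl
theorem F57829 : act 1 n27509 = n27199 := d0_2 D23362 D27509 F56998 F53752 (iv F53787) (iv F53789) (iv D23368) (iv D18928) (iv F33890)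
theorem F57830 : act 4 n27509 = n23656 := d3_2 (iv F46503) D27509 (iv D23656)
theorem F57831 : act 5 n27509 = n24321 := d4_2 (iv F46504) D27509 F49161
def n27510 : Q := act 2 n23362
theorem D27510 : act 2 n23362 = n27510 := rfl
theorem F57832 : act 4 n27510 = n23657 := d12_2 (iv F46503) D27510 (iv D23657)
theorem F57833 : act 5 n27510 = n25072 := d13_2 (iv F46504) D27510 (iv D25072)
def n27511 : Q := act 6 n23362
theorem D27511 : act 6 n23362 = n27511 := rfl
theorem F57834 : act 1 n27511 = n27366 := d10_1 D27511 (iv D27366) (iv D23232) (iv F33892) D23362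
theorem F57835 : act 4 n27511 = n23658 := d19_1 D27511 (iv D23658) (iv F46503)
def n27512 : Q := act 4 n23363
theorem D27512 : act 4 n23363 = n27512 := rfl
theorem F57836 : act 0 n27512 = n26353 := d3_1 D27512 (iv D26353) (iv F48548)
theorem F57837 : act 2 n27512 = n23364 := d12_1 D27512 (iv D23364) D23363
def n27513 : Q := act 5 n23363
theorem D27513 : act 5 n23363 = n27513 := rfl
theorem F57838 : act 0 n27513 = n26354 := d4_1 D27513 (iv D26354) (iv F48548)
theorem F57839 : act 2 n27513 = n23365 := d13_1 D27513 (iv D23365) D23363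
def n27514 : Q := act 5 n23364
theorem D27514 : act 5 n23364 = n27514 := rfl
theorem F57840 : act 3 n27514 = n23660 := d16_1 D27514 F47246 (iv F46506)
theorem F57841 : act 4 n27514 = n23365 := d18_1 D27514 (iv D23365) D23364
def n27515 : Q := act 1 n23365
theorem D27515 : act 1 n23365 = n27515 := rfl
theorem F57842 : act 3 n27515 = n23366 := d7_2 (iv F46507) D27515 (iv D23366)
theorem F57843 : act 5 n27515 = n23374 := d9_2 D23365 D27515 F46525 F33906 (iv F33893)
def n27516 : Q := act 6 n23365
theorem D27516 : act 6 n23365 = n27516 := rfl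
theorem F57844 : act 0 n27516 = n27362 := d5_1 D27516 (iv F57826) F57823
theorem F57845 : act 3 n27516 = n23367 := d17_1 D27516 (iv D23367) (iv F46507)
theorem F57846 : act 5 n27516 = n27359 := d20_1 D27516 F57441 D27507 F57826 (iv D27362) F46177 D23365
def n27517 : Q := act 0 n23366
theorem D27517 : act 0 n23366 = n27517 := rfl
theorem F57847 : act 4 n27517 = n23661 := d3_2 (iv F46508) D27517 (iv D23661)
theorem F57848 : act 5 n27517 = n23373 := d4_2 (iv F46509) D27517 (iv D23373)
theorem F57849 : act 1 n27238 = n27517 := d23_2 (iv F45950) (iv F57096) (iv D27517) F46509 (iv F33979) (iv D18972) F24217 F19363 (iv D8036) (iv D3843) F2992 F2989 (iv F5094) D6810 D10660 D13331 F23469 D18222 D22796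
def n27518 : Q := act 6 n23366
theorem D27518 : act 6 n23366 = n27518 := rfl
theorem F57850 : act 4 n27518 = n23662 := d19_1 D27518 (iv D23662) (iv F46508)
def n27519 : Q := act 1 n23367
theorem D27519 : act 1 n23367 = n27519 := rfl
theorem F57851 : act 2 n27519 = n26189 := d6_2 (iv F46511) D27519 F53918 (iv F46935) (iv D23370)
theorem F57852 : act 4 n27519 = n23629 := d8_2 (iv F46512) D27519 F47153
def n27520 : Q := act 5 n23370
theorem D27520 : act 5 n23370 = n27520 := rfl
theorem F57853 : act 1 n27520 = n27358 := d9_1 D27520 (iv D27358) (iv D23228) (iv F33900) D23370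
theorem F57854 : act 2 n27520 = n26193 := d13_1 D27520 (iv D26193) (iv F46935)
theorem F57855 : act 4 n27520 = n23664 := d18_1 D27520 (iv D23664) (iv F46517)
def n27521 : Q := act 1 n23371
theorem D27521 : act 1 n23371 = n27521 := rfl
theorem F57856 : act 4 n27521 = n23665 := d8_2 (iv F46519) D27521 (iv D23665)
theorem F57857 : act 6 n27521 = n26845 := d10_2 D23371 D27521 (iv D26845) F44030 (iv F44012)
theorem F57858 : act 0 n27327 = n27521 := d5_3 F57857 (iv F55819) (iv F57363)
theorem F57859 : act 2 n27326 = n27521 := d14_3 F57857 (iv F55820) (iv F57361)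
def n27522 : Q := act 1 n23372
theorem D27522 : act 1 n23372 = n27522 := rfl
theorem F57860 : act 4 n27522 = n23666 := d8_2 (iv F46522) D27522 (iv D23666)
theorem F57861 : act 5 n27522 = n23455 := d9_2 D23372 D27522 (iv D23455) (iv D18987) (iv F33902)
def n27523 : Q := act 6 n23373
theorem D27523 : act 6 n23373 = n27523 := rfl
theorem F57862 : act 0 n27523 = n23375 := d5_1 D27523 (iv D23375) D23373
theorem F57863 : act 4 n27523 = n23668 := d19_1 D27523 (iv D23668) (iv F46524)
theorem F57864 : act 5 n27523 = n27518 := d22_2 F57848 D27523 (iv D27518) D27517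
def n27524 : Q := act 4 n23374
theorem D27524 : act 4 n23374 = n27524 := rfl
theorem F57865 : act 1 n27524 = n23376 := d8_1 D27524 (iv D23376) (iv F46525)
theorem F57866 : act 3 n27524 = n23669 := d15_1 D27524 (iv D23669) (iv D19273) (iv F33904) D23374
def n27525 : Q := act 6 n23374
theorem D27525 : act 6 n23374 = n27525 := rfl
theorem F57867 : act 1 n27525 = n23386 := d10_1 D27525 (iv D23386) F33912 (iv F33907) (iv F46525)
theorem F57868 : act 3 n27525 = n23375 := d17_1 D27525 (iv D23375) D23374
def n27526 : Q := act 5 n23375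
theorem D27526 : act 5 n23375 = n27526 := rfl
theorem F57869 : act 0 n27526 = n27518 := d4_1 D27526 (iv F57864) F57862
theorem F57870 : act 4 n27526 = n23670 := d18_1 D27526 (iv D23670) (iv F46527)
theorem F57871 : act 6 n27526 = n27517 := d20_2 D23375 D27526 F57848 D27523 F57864 (iv D27518) F46509
def n27527 : Q := act 4 n23377
theorem D27527 : act 4 n23377 = n27527 := rfl
theorem F57872 : act 1 n27527 = n23378 := d8_1 D27527 (iv D23378) D23377
theorem F57873 : act 3 n27527 = n26313 := d15_1 D27527 (iv D26313) (iv F42479) (iv F46706) F46705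
def n27528 : Q := act 5 n23377
theorem D27528 : act 5 n23377 = n27528 := rfl
def n27529 : Q := act 6 n23377
theorem D27529 : act 6 n23377 = n27529 := rfl
theorem F57874 : act 1 n27529 = n23392 := d10_1 D27529 (iv D23392) (iv D18941) (iv F33908) D23377
def n27530 : Q := act 3 n23379
theorem D27530 : act 3 n23379 = n27530 := rfl
theorem F57875 : act 1 n27530 = n23380 := d7_1 D27530 (iv D23380) D23379
theorem F57876 : act 4 n27530 = n26099 := d15_2 (iv F46535) D27530 (iv D26099) (iv F47281) (iv D23674)
def n27531 : Q := act 5 n23379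
theorem D27531 : act 5 n23379 = n27531 := rfl
theorem F57877 : act 4 n27531 = n23675 := d18_1 D27531 (iv D23675) (iv F46535)
def n27532 : Q := act 6 n23379
theorem D27532 : act 6 n23379 = n27532 := rfl
theorem F57878 : act 4 n27532 = n23676 := d19_1 D27532 (iv D23676) (iv F46535)
theorem F57879 : act 1 n25859 = n27532 := d8_3 F57878 (iv F55656) (iv F55660)
def n27533 : Q := act 2 n23380
theorem D27533 : act 2 n23380 = n27533 := rfl
theorem F57880 : act 0 n27533 = n23383 := d1_1 D27533 (iv D23383) (iv F46536)
def n27534 : Q := act 4 n23380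
theorem D27534 : act 4 n23380 = n27534 := rfl
theorem F57881 : act 0 n27534 = n23384 := d3_1 D27534 (iv D23384) (iv F46536)
theorem F57882 : act 1 n27534 = n26099 := d8_1 D27534 (iv F57876) F57875
theorem F57883 : act 3 n27534 = n23677 := d15_1 D27534 (iv D23677) (iv D19279) (iv F33911) D23380
def n27535 : Q := act 5 n23380
theorem D27535 : act 5 n23380 = n27535 := rfl
theorem F57884 : act 0 n27535 = n23385 := d4_1 D27535 (iv D23385) (iv F46536)
theorem F57885 : act 3 n27535 = n23381 := d16_1 D27535 (iv D23381) D23380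
def n27536 : Q := act 6 n23380
theorem D27536 : act 6 n23380 = n27536 := rfl
theorem F57886 : act 0 n27536 = n23386 := d5_1 D27536 (iv D23386) (iv F46536)
theorem F57887 : act 3 n27536 = n23382 := d17_1 D27536 (iv D23382) D23380
def n27537 : Q := act 1 n23381
theorem D27537 : act 1 n23381 = n27537 := rfl
theorem F57888 : act 4 n27537 = n23678 := d8_2 (iv F46538) D27537 (iv D23678)
theorem F57889 : act 0 n27537 = n26772 := d23_3 D23430 F46648 D27537 (iv F55981) F55980 F55609 F45344 (iv D18416) (iv D13440) (iv D10718) (iv F11401) (iv D7670) F5643 D3678 (iv F16903) (iv F17036) (iv F19354) D13789 D18970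
theorem F57890 : act 2 n26779 = n27537 := d1_0 F57889 F55589 D26779
theorem F57891 : act 6 n26768 = n27537 := d5_0 F57889 (iv D26772) (iv F55581)
def n27538 : Q := act 1 n23382
theorem D27538 : act 1 n23382 = n27538 := rfl
theorem F57892 : act 2 n27538 = n25860 := d6_2 F46638 D27538 (iv F53089) D25903 (iv F53200)
theorem F57893 : act 4 n27538 = n23679 := d8_2 (iv F46540) D27538 (iv D23679)
theorem F57894 : act 6 n27538 = n25859 := d10_2 D23382 D27538 F57879 (iv D27532) (iv D23379)
def n27539 : Q := act 3 n23383
theorem D27539 : act 3 n23383 = n27539 := rfl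
def n27540 : Q := act 4 n23383
theorem D27540 : act 4 n23383 = n27540 := rfl
theorem F57895 : act 2 n27540 = n23384 := d12_1 D27540 (iv D23384) D23383
def n27541 : Q := act 5 n23383
theorem D27541 : act 5 n23383 = n27541 := rfl
theorem F57896 : act 2 n27541 = n23385 := d13_1 D27541 (iv D23385) D23383
def n27542 : Q := act 6 n23383
theorem D27542 : act 6 n23383 = n27542 := rfl
theorem F57897 : act 2 n27542 = n23386 := d14_1 D27542 (iv D23386) D23383
def n27543 : Q := act 6 n23385
theorem D27543 : act 6 n23385 = n27543 := rfl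
theorem F57898 : act 3 n27543 = n23387 := d17_1 D27543 (iv D23387) (iv F46544)
theorem F57899 : act 5 n27543 = n27536 := d22_2 D23385 D27543 (iv D27536) F46536
def n27544 : Q := act 5 n23386
theorem D27544 : act 5 n23386 = n27544 := rfl
theorem F57900 : act 0 n27544 = n27543 := d4_1 D27544 F57899 F57886
theorem F57901 : act 3 n27544 = n23388 := d16_1 D27544 (iv D23388) (iv F46545)
theorem F57902 : act 6 n27544 = n27535 := d20_2 D23386 D27544 (iv D27535) D27536 (iv F57899) (iv D27543) (iv D23385)
def n27545 : Q := act 1 n23387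
theorem D27545 : act 1 n23387 = n27545 := rfl
theorem F57903 : act 4 n27545 = n23680 := d8_2 (iv F46546) D27545 (iv D23680)
theorem F57904 : act 6 n27545 = n27545 := d10_2 D23387 D27545 (iv D27545) (iv D23387) F33913
def n27546 : Q := act 1 n23389
theorem D27546 : act 1 n23389 = n27546 := rfl
def n27547 : Q := act 4 n23389
theorem D27547 : act 4 n23389 = n27547 := rfl
theorem F57905 : act 0 n27547 = n23390 := d3_1 D27547 (iv D23390) D23389
theorem F57906 : act 2 n27547 = n25554 := d12_1 D27547 (iv F54002) F54001
def n27548 : Q := act 5 n23389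
theorem D27548 : act 5 n23389 = n27548 := rfl
theorem F57907 : act 0 n27548 = n23391 := d4_1 D27548 (iv D23391) D23389
def n27549 : Q := act 6 n23389
theorem D27549 : act 6 n23389 = n27549 := rfl
theorem F57908 : act 0 n27549 = n23392 := d5_1 D27549 (iv D23392) D23389
theorem F57909 : act 2 n27549 = n25869 := d14_1 D27549 (iv F54003) F54001
def n27550 : Q := act 5 n23390
theorem D27550 : act 5 n23390 = n27550 := rfl
theorem F57910 : act 1 n27550 = n27550 := d9_1 D27550 (iv D27550) F46551 F33920 (iv F46551)
theorem F57911 : act 2 n27550 = n25927 := d13_1 D27550 F54012 F54010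
theorem F57912 : act 4 n27550 = n23391 := d18_1 D27550 (iv D23391) D23390
theorem F57913 : act 6 n25924 = n27550 := d14_0 F57911 (iv D25927) D25924
def n27551 : Q := act 6 n23390
theorem D27551 : act 6 n23390 = n27551 := rfl
theorem F57914 : act 2 n27551 = n24471 := d14_1 D27551 F54013 F54010
theorem F57915 : act 4 n27551 = n23392 := d19_1 D27551 (iv D23392) D23390
def n27552 : Q := act 6 n23391
theorem D27552 : act 6 n23391 = n27552 := rfl
theorem F57916 : act 2 n27552 = n25925 := d14_1 D27552 (iv F54017) F54014
theorem F57917 : act 4 n27552 = n25924 := d19_1 D27552 F57913 F57912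
theorem F57918 : act 5 n27552 = n27549 := d22_2 D23391 D27552 (iv D27549) (iv D23389)
def n27553 : Q := act 5 n23392
theorem D27553 : act 5 n23392 = n27553 := rfl
theorem F57919 : act 0 n27553 = n27552 := d4_1 D27553 F57918 F57908
theorem F57920 : act 6 n27553 = n27548 := d20_2 D23392 D27553 (iv D27548) D27549 (iv F57918) (iv D27552) (iv D23391)
def n27554 : Q := act 1 n23393
theorem D27554 : act 1 n23393 = n27554 := rfl
theorem F57921 : act 3 n27554 = n25543 := d7_2 (iv F46554) D27554 (iv D25543)
theorem F57922 : act 4 n27554 = n23690 := d8_2 (iv F46555) D27554 (iv D23690)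
theorem F57923 : act 5 n27554 = n26089 := d9_2 (iv F46556) D27554 (iv D26089) (iv D21654) (iv F41179)
theorem F57924 : act 6 n27554 = n26134 := d10_2 D23393 D27554 F53777 F42360 (iv F33924)
def n27555 : Q := act 1 n23396
theorem D27555 : act 1 n23396 = n27555 := rfl
theorem F57925 : act 3 n27555 = n23398 := d7_2 (iv F46567) D27555 (iv D23398)
theorem F57926 : act 4 n27555 = n25329 := d8_2 F53582 D27555 F53584
theorem F57927 : act 5 n27555 = n25332 := d9_2 D23396 D27555 F57549 (iv D27398) F46263
theorem F57928 : act 0 n26655 = n27555 := d2_3 F57925 (iv F46575) D26655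
def n27556 : Q := act 1 n23399
theorem D27556 : act 1 n23399 = n27556 := rfl
theorem F57929 : act 3 n27556 = n24089 := d7_2 (iv F46578) D27556 (iv D24089)
theorem F57930 : act 4 n27556 = n27049 := d8_2 (iv F46579) D27556 (iv D27049)
theorem F57931 : act 5 n27556 = n27241 := d9_2 D23399 D27556 (iv D27241) (iv D23143) F34795
def n27557 : Q := act 1 n23401
theorem D27557 : act 1 n23401 = n27557 := rfl
theorem F57932 : act 3 n27557 = n23403 := d7_2 (iv F46583) D27557 (iv D23403)
def n27558 : Q := act 1 n23402
theorem D27558 : act 1 n23402 = n27558 := rfl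
theorem F57933 : act 3 n27558 = n23404 := d7_2 (iv F46587) D27558 (iv D23404)
theorem F57934 : act 4 n27558 = n26058 := d8_2 (iv F46588) D27558 (iv D26058)
theorem F57935 : act 5 n27558 = n26061 := d9_2 D23402 D27558 (iv D26061) (iv D21637) F34787
def n27559 : Q := act 0 n23404
theorem D27559 : act 0 n23404 = n27559 := rfl
theorem F57936 : act 2 n27559 = n26959 := d1_2 (iv F47981) D27559 F56225
theorem F57937 : act 4 n27559 = n23693 := d3_2 (iv F46591) D27559 (iv D23693)
theorem F57938 : act 5 n27559 = n26711 := d4_2 (iv F46592) D27559 (iv D26711)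
def n27560 : Q := act 6 n23404
theorem D27560 : act 6 n23404 = n27560 := rfl
theorem F57939 : act 1 n27560 = n26649 := d10_1 D27560 F55175 (iv D23398) (iv F33948) D23404
theorem F57940 : act 4 n27560 = n23695 := d19_1 D27560 (iv D23695) (iv F46591)
def n27561 : Q := act 2 n23405
theorem D27561 : act 2 n23405 = n27561 := rfl
theorem F57941 : act 0 n27561 = n23406 := d1_1 D27561 (iv D23406) D23405
theorem F57942 : act 4 n27561 = n23410 := d12_2 (iv F46595) D27561 (iv D23410)
theorem F57943 : act 1 n24129 = n27561 := d8_3 F57942 F48674 D24129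
theorem F57944 : act 3 n24382 = n27561 := d15_5 F57942 F48675 F37322 D20039 D24382
def n27562 : Q := act 3 n23406
theorem D27562 : act 3 n23406 = n27562 := rfl
theorem F57945 : act 0 n27562 = n24382 := d2_1 D27562 F57944 F57941
theorem F57946 : act 4 n27562 = n24378 := d15_2 (iv F46596) D27562 (iv D24378) (iv F48673) (iv D23412)
def n27563 : Q := act 6 n23406
theorem D27563 : act 6 n23406 = n27563 := rfl
theorem F57947 : act 2 n27563 = n23407 := d14_1 D27563 (iv D23407) D23406
theorem F57948 : act 4 n27563 = n23413 := d19_1 D27563 (iv D23413) (iv F46596)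
def n27564 : Q := act 1 n23407
theorem D27564 : act 1 n23407 = n27564 := rfl
theorem F57949 : act 3 n27564 = n23701 := d7_2 (iv F46597) D27564 (iv D23701)
theorem F57950 : act 4 n27564 = n23414 := d8_2 (iv F46598) D27564 (iv D23414)
theorem F57951 : act 6 n27564 = n23408 := d10_2 D23407 D27564 (iv D23408) (iv D18958) D18957
def n27565 : Q := act 5 n23407
theorem D27565 : act 5 n23407 = n27565 := rfl
theorem F57952 : act 0 n27565 = n27436 := d4_1 D27565 F57640 F47346
theorem F57953 : act 3 n27565 = n23702 := d16_1 D27565 (iv D23702) (iv F46597)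
theorem F57954 : act 4 n27565 = n23415 := d18_1 D27565 (iv D23415) (iv F46598)
theorem F57955 : act 6 n27565 = n27434 := d20_2 D23407 D27565 F57635 (iv F47348) (iv F57640) (iv D27436) F46339
def n27566 : Q := act 2 n23408
theorem D27566 : act 2 n23408 = n27566 := rfl
theorem F57956 : act 1 n27566 = n27087 := d6_1 D27566 F56651 F45349 (iv F33952) D23408
theorem F57957 : act 4 n27566 = n23417 := d12_2 (iv F46600) D27566 (iv D23417)
def n27567 : Q := act 2 n23409
theorem D27567 : act 2 n23409 = n27567 := rfl
theorem F57958 : act 0 n27567 = n24888 := d1_1 D27567 F50574 (iv F46601)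
theorem F57959 : act 1 n27567 = n24128 := d6_1 D27567 (iv D24128) (iv F48674) (iv D23410) D23409
theorem F57960 : act 4 n27567 = n24894 := d12_2 (iv F46603) D27567 F50585
theorem F57961 : act 5 n27567 = n25075 := d13_2 F46604 D27567 (iv D25075)
theorem F57962 : act 6 n27567 = n24886 := d14_2 F46605 D27567 (iv D24886)
def n27568 : Q := act 6 n23410
theorem D27568 : act 6 n23410 = n27568 := rfl
theorem F57963 : act 0 n27568 = n23413 := d5_1 D27568 (iv D23413) (iv F46606)
theorem F57964 : act 2 n27568 = n23411 := d14_1 D27568 (iv D23411) D23410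
theorem F57965 : act 3 n27568 = n24127 := d17_1 D27568 (iv D24127) (iv F48675)
theorem F57966 : act 5 n27568 = n27441 := d22_2 F57647 D27568 (iv D27441) (iv F57646)
theorem F57967 : act 1 n25919 = n27568 := d7_3 F57965 (iv F48665) D25919
def n27569 : Q := act 1 n23411
theorem D27569 : act 1 n23411 = n27569 := rfl
theorem F57968 : act 3 n27569 = n23421 := d7_2 (iv F46608) D27569 (iv D23421)
theorem F57969 : act 4 n27569 = n24892 := d8_2 F47347 D27569 F50582
theorem F57970 : act 6 n27569 = n24885 := d10_2 D23411 D27569 (iv D24885) F46605 (iv D23409)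
def n27570 : Q := act 6 n23412
theorem D27570 : act 6 n23412 = n27570 := rfl
theorem F57971 : act 0 n27570 = n24127 := d5_1 D27570 (iv D24127) (iv F48671)
theorem F57972 : act 2 n27570 = n24883 := d14_1 D27570 (iv D24883) (iv F48672)
theorem F57973 : act 3 n27570 = n23413 := d17_1 D27570 (iv D23413) D23412
theorem F57974 : act 4 n27570 = n24380 := d19_1 D27570 (iv D24380) (iv F48673)
def n27571 : Q := act 1 n23413
theorem D27571 : act 1 n23413 = n27571 := rfl
def n27572 : Q := act 5 n23413
theorem D27572 : act 5 n23413 = n27572 := rfl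
theorem F57975 : act 0 n27572 = n27441 := d4_1 D27572 (iv F57966) F57963
theorem F57976 : act 2 n27572 = n23415 := d13_1 D27572 (iv D23415) (iv F46610)
theorem F57977 : act 6 n27572 = n27439 := d20_2 D23413 D27572 F57647 D27568 F57966 (iv D27441) F46346
def n27573 : Q := act 0 n23414
theorem D27573 : act 0 n23414 = n27573 := rfl
theorem F57978 : act 3 n27573 = n23427 := d2_2 (iv F46611) D27573 (iv D23427)
theorem F57979 : act 6 n27573 = n23416 := d5_2 (iv F46612) D27573 (iv D23416)
def n27574 : Q := act 2 n23414
theorem D27574 : act 2 n23414 = n27574 := rfl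
theorem F57980 : act 6 n27574 = n23417 := d14_2 (iv F46612) D27574 (iv D23417)
def n27575 : Q := act 5 n23414
theorem D27575 : act 5 n23414 = n27575 := rfl
theorem F57981 : act 3 n27575 = n23428 := d16_1 D27575 (iv D23428) (iv F46611)
theorem F57982 : act 1 n25964 = n27575 := d7_3 F57981 (iv F46646) D25964
def n27576 : Q := act 1 n23415
theorem D27576 : act 1 n23415 = n27576 := rfl
theorem F57983 : act 3 n27576 = n23429 := d7_2 (iv F46614) D27576 (iv D23429)
theorem F57984 : act 5 n27576 = n25964 := d9_2 D23415 D27576 F57982 (iv D27575) (iv D23414)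
def n27577 : Q := act 2 n23416
theorem D27577 : act 2 n23416 = n27577 := rfl
theorem F57985 : act 0 n27577 = n23417 := d1_1 D27577 (iv D23417) D23416
def n27578 : Q := act 5 n23416
theorem D27578 : act 5 n23416 = n27578 := rfl
theorem F57986 : act 0 n27578 = n23418 := d4_1 D27578 (iv D23418) D23416
theorem F57987 : act 3 n27578 = n23430 := d16_1 D27578 (iv D23430) (iv F46616)
theorem F57988 : act 6 n27578 = n27575 := d22_1 D27578 (iv D27575) F46612 D23416
def n27579 : Q := act 3 n23417
theorem D27579 : act 3 n23417 = n27579 := rfl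
theorem F57989 : act 1 n27579 = n25576 := d7_1 D27579 (iv F52502) (iv F46617)
theorem F57990 : act 4 n25575 = n27579 := d8_0 F57989 (iv D25576) D25575
def n27580 : Q := act 5 n23417
theorem D27580 : act 5 n23417 = n27580 := rfl
theorem F57991 : act 2 n27580 = n23418 := d13_1 D27580 (iv D23418) D23417
def n27581 : Q := act 6 n23418
theorem D27581 : act 6 n23418 = n27581 := rfl
theorem F57992 : act 0 n27581 = n27575 := d5_1 D27581 (iv F57988) F57986
theorem F57993 : act 3 n27581 = n23431 := d17_1 D27581 (iv D23431) (iv F46619)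
theorem F57994 : act 5 n27581 = n27573 := d20_1 D27581 F57979 D27578 F57988 (iv D27575) F46612 D23418
def n27582 : Q := act 4 n23419
theorem D27582 : act 4 n23419 = n27582 := rfl
theorem F57995 : act 0 n27582 = n23423 := d3_1 D27582 (iv D23423) (iv F46620)
theorem F57996 : act 1 n27582 = n26698 := d8_1 D27582 F55328 (iv F46621)
theorem F57997 : act 2 n27582 = n26429 := d12_1 D27582 (iv D26429) F48676
theorem F57998 : act 3 n27582 = n23706 := d15_1 D27582 (iv D23706) (iv D19317) (iv F33961) D23419
def n27583 : Q := act 6 n23419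
theorem D27583 : act 6 n23419 = n27583 := rfl
theorem F57999 : act 0 n27583 = n23424 := d5_1 D27583 (iv D23424) (iv F46620)
theorem F58000 : act 2 n27583 = n26431 := d14_1 D27583 (iv D26431) F48676
theorem F58001 : act 3 n27583 = n23420 := d17_1 D27583 (iv D23420) D23419
theorem F58002 : act 5 n27583 = n27450 := d22_2 F57674 D27583 (iv D27450) (iv F57672)
def n27584 : Q := act 1 n23420
theorem D27584 : act 1 n23420 = n27584 := rfl
theorem F58003 : act 4 n27584 = n23707 := d8_2 (iv F46624) D27584 (iv D23707)
theorem F58004 : act 6 n27584 = n26701 := d10_2 D23420 D27584 (iv D26701) (iv D22252) F35241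
def n27585 : Q := act 0 n23421
theorem D27585 : act 0 n23421 = n27585 := rfl
theorem F58005 : act 1 n27585 = n27201 := d0_2 D23421 D27585 F57004 F53163 (iv F53198) (iv F53200) (iv D23427) (iv D18968) (iv F33962)
theorem F58006 : act 4 n27585 = n23708 := d3_2 (iv F46626) D27585 (iv D23708)
theorem F58007 : act 6 n27585 = n24375 := d5_2 (iv F46627) D27585 F49319
def n27586 : Q := act 2 n23421
theorem D27586 : act 2 n23421 = n27586 := rfl
theorem F58008 : act 4 n27586 = n23709 := d12_2 (iv F46626) D27586 (iv D23709)
theorem F58009 : act 6 n27586 = n25104 := d14_2 (iv F46627) D27586 (iv D25104)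
def n27587 : Q := act 5 n23421
theorem D27587 : act 5 n23421 = n27587 := rfl
theorem F58010 : act 1 n27587 = n27454 := d9_1 D27587 (iv D27454) (iv D23306) (iv F33964) D23421
theorem F58011 : act 4 n27587 = n23710 := d18_1 D27587 (iv D23710) (iv F46626)
def n27588 : Q := act 4 n23422
theorem D27588 : act 4 n23422 = n27588 := rfl
theorem F58012 : act 0 n27588 = n26429 := d3_1 D27588 (iv D26429) (iv F48669)
theorem F58013 : act 2 n27588 = n23423 := d12_1 D27588 (iv D23423) D23422
def n27589 : Q := act 6 n23422
theorem D27589 : act 6 n23422 = n27589 := rfl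
theorem F58014 : act 0 n27589 = n26431 := d5_1 D27589 (iv D26431) (iv F48669)
theorem F58015 : act 2 n27589 = n23424 := d14_1 D27589 (iv D23424) D23422
def n27590 : Q := act 6 n23423
theorem D27590 : act 6 n23423 = n27590 := rfl
theorem F58016 : act 3 n27590 = n23712 := d17_1 D27590 F47383 (iv F46629)
theorem F58017 : act 4 n27590 = n23424 := d19_1 D27590 (iv D23424) D23423
def n27591 : Q := act 1 n23424
theorem D27591 : act 1 n23424 = n27591 := rfl
theorem F58018 : act 3 n27591 = n23425 := d7_2 (iv F46630) D27591 (iv D23425)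
theorem F58019 : act 6 n27591 = n23433 := d10_2 D23424 D27591 F46657 F33983 (iv F33965)
def n27592 : Q := act 5 n23424
theorem D27592 : act 5 n23424 = n27592 := rfl
theorem F58020 : act 0 n27592 = n27450 := d4_1 D27592 (iv F58002) F57999
theorem F58021 : act 3 n27592 = n23426 := d16_1 D27592 (iv D23426) (iv F46630)
theorem F58022 : act 6 n27592 = n27448 := d20_2 D23424 D27592 F57674 D27583 F58002 (iv D27450) F46357
def n27593 : Q := act 0 n23425
theorem D27593 : act 0 n23425 = n27593 := rfl
theorem F58023 : act 2 n27593 = n27523 := d1_2 (iv F46631) D27593 F57862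
theorem F58024 : act 4 n27593 = n23713 := d3_2 (iv F46632) D27593 (iv D23713)
theorem F58025 : act 6 n27593 = n23432 := d5_2 (iv F46633) D27593 (iv D23432)
theorem F58026 : act 1 n27253 = n27593 := d8_3 F58024 (iv F47404) (iv F57136)
def n27594 : Q := act 5 n23425
theorem D27594 : act 5 n23425 = n27594 := rfl
theorem F58027 : act 2 n27594 = n27526 := d13_1 D27594 (iv D27526) (iv F46631)
theorem F58028 : act 4 n27594 = n23714 := d18_1 D27594 (iv D23714) (iv F46632)
def n27595 : Q := act 1 n23426
theorem D27595 : act 1 n23426 = n27595 := rfl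
theorem F58029 : act 2 n27595 = n25954 := d6_2 (iv F46635) D27595 F53326 F46644 (iv D23429)
theorem F58030 : act 4 n27595 = n23576 := d8_2 (iv F46636) D27595 F47009
def n27596 : Q := act 6 n23429
theorem D27596 : act 6 n23429 = n27596 := rfl
theorem F58031 : act 1 n27596 = n27447 := d10_1 D27596 (iv D27447) (iv D23302) (iv F33973) D23429
theorem F58032 : act 2 n27596 = n25958 := d14_1 D27596 (iv D25958) F46644
theorem F58033 : act 4 n27596 = n23716 := d19_1 D27596 (iv D23716) (iv F46643)
def n27597 : Q := act 1 n23430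
theorem D27597 : act 1 n23430 = n27597 := rfl
theorem F58034 : act 2 n27597 = n27415 := d6_2 (iv F46648) D27597 F57595 F57890 (iv D27537)
theorem F58035 : act 4 n27597 = n23717 := d8_2 (iv F46649) D27597 (iv D23717)
theorem F58036 : act 5 n27597 = n26879 := d9_2 D23430 D27597 (iv D26879) F44166 (iv F44153)
theorem F58037 : act 0 n27597 = n27416 := d23_3 D23381 (iv F46648) D27597 F57599 (iv D23290) (iv D18874) F24124 (iv D10874) (iv D8015) (iv D3834) (iv F5093) (iv F5871) F5869 D3839 D8025 F17248 D10889 D13772 D18936
def n27598 : Q := act 1 n23431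
theorem D27598 : act 1 n23431 = n27598 := rfl
theorem F58038 : act 4 n27598 = n23718 := d8_2 (iv F46653) D27598 (iv D23718)
theorem F58039 : act 6 n27598 = n23479 := d10_2 D23431 D27598 (iv D23479) (iv D19006) (iv F33976)
def n27599 : Q := act 5 n23432
theorem D27599 : act 5 n23432 = n27599 := rfl
theorem F58040 : act 0 n27599 = n23434 := d4_1 D27599 (iv D23434) D23432
theorem F58041 : act 2 n27599 = n27517 := d13_1 D27599 F57848 (iv F46655)
theorem F58042 : act 4 n27599 = n23720 := d18_1 D27599 (iv D23720) (iv F46656)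
theorem F58043 : act 6 n27599 = n27594 := d22_1 D27599 (iv D27594) F46633 D23432
def n27600 : Q := act 4 n23433
theorem D27600 : act 4 n23433 = n27600 := rfl
theorem F58044 : act 1 n27600 = n23435 := d8_1 D27600 (iv D23435) (iv F46657)
theorem F58045 : act 3 n27600 = n23721 := d15_1 D27600 (iv D23721) (iv D19330) (iv F33980) D23433
def n27601 : Q := act 5 n23433
theorem D27601 : act 5 n23433 = n27601 := rfl
theorem F58046 : act 1 n27601 = n23444 := d9_1 D27601 (iv D23444) F33989 (iv F33982) (iv F46657)
theorem F58047 : act 3 n27601 = n23434 := d16_1 D27601 (iv D23434) D23433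
def n27602 : Q := act 6 n23434
theorem D27602 : act 6 n23434 = n27602 := rfl
theorem F58048 : act 0 n27602 = n27594 := d5_1 D27602 (iv F58043) F58040
theorem F58049 : act 2 n27602 = n27518 := d14_1 D27602 (iv D27518) (iv F46659)
theorem F58050 : act 4 n27602 = n23722 := d19_1 D27602 (iv D23722) (iv F46660)
theorem F58051 : act 5 n27602 = n27593 := d20_1 D27602 F58025 D27599 F58043 (iv D27594) F46633 D23434
def n27603 : Q := act 4 n23436
theorem D27603 : act 4 n23436 = n27603 := rfl
theorem F58052 : act 1 n27603 = n23437 := d8_1 D27603 (iv D23437) D23436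
theorem F58053 : act 3 n27603 = n26389 := d15_1 D27603 (iv D26389) (iv F42489) (iv F46757) F46756
def n27604 : Q := act 5 n23436
theorem D27604 : act 5 n23436 = n27604 := rfl
theorem F58054 : act 1 n27604 = n23450 := d9_1 D27604 (iv D23450) (iv D18981) (iv F33984) D23436
def n27605 : Q := act 6 n23436
theorem D27605 : act 6 n23436 = n27605 := rfl
def n27606 : Q := act 3 n23438
theorem D27606 : act 3 n23438 = n27606 := rfl
theorem F58055 : act 1 n27606 = n23439 := d7_1 D27606 (iv D23439) D23438
theorem F58056 : act 4 n27606 = n25858 := d15_2 (iv F46668) D27606 (iv D25858) F47426 (iv D23726)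
def n27607 : Q := act 5 n23438
theorem D27607 : act 5 n23438 = n27607 := rfl
theorem F58057 : act 4 n27607 = n23727 := d18_1 D27607 (iv D23727) (iv F46668)
theorem F58058 : act 1 n26100 = n27607 := d8_3 F58057 (iv F55246) (iv F55248)
def n27608 : Q := act 6 n23438
theorem D27608 : act 6 n23438 = n27608 := rfl
theorem F58059 : act 4 n27608 = n23728 := d19_1 D27608 (iv D23728) (iv F46668)
def n27609 : Q := act 2 n23439
theorem D27609 : act 2 n23439 = n27609 := rfl
theorem F58060 : act 0 n27609 = n23442 := d1_1 D27609 (iv D23442) (iv F46669)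
def n27610 : Q := act 4 n23439
theorem D27610 : act 4 n23439 = n27610 := rfl
theorem F58061 : act 0 n27610 = n23443 := d3_1 D27610 (iv D23443) (iv F46669)
theorem F58062 : act 1 n27610 = n25858 := d8_1 D27610 (iv F58056) F58055
theorem F58063 : act 3 n27610 = n23729 := d15_1 D27610 (iv D23729) (iv D19336) (iv F33988) D23439
def n27611 : Q := act 5 n23439
theorem D27611 : act 5 n23439 = n27611 := rfl
theorem F58064 : act 0 n27611 = n23444 := d4_1 D27611 (iv D23444) (iv F46669)
theorem F58065 : act 3 n27611 = n23440 := d16_1 D27611 (iv D23440) D23439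
def n27612 : Q := act 6 n23439
theorem D27612 : act 6 n23439 = n27612 := rfl
theorem F58066 : act 0 n27612 = n23445 := d5_1 D27612 (iv D23445) (iv F46669)
theorem F58067 : act 3 n27612 = n23441 := d17_1 D27612 (iv D23441) D23439
def n27613 : Q := act 1 n23440
theorem D27613 : act 1 n23440 = n27613 := rfl
theorem F58068 : act 2 n27613 = n26101 := d6_2 (iv F46671) D27613 (iv F53693) D26138 (iv F53789)
theorem F58069 : act 4 n27613 = n23730 := d8_2 (iv F46672) D27613 (iv D23730)
theorem F58070 : act 5 n27613 = n26100 := d9_2 D23440 D27613 F58058 (iv D27607) (iv D23438)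
def n27614 : Q := act 1 n23441
theorem D27614 : act 1 n23441 = n27614 := rfl
theorem F58071 : act 2 n27614 = n26638 := d6_2 (iv F46674) D27614 (iv F57359) F57859 (iv D27521)
theorem F58072 : act 4 n27614 = n23731 := d8_2 (iv F46675) D27614 (iv D23731)
theorem F58073 : act 0 n26629 = n27614 := d3_3 F58072 (iv F47431) (iv F55118)
theorem F58074 : act 5 n26626 = n27614 := d18_0 F58072 (iv F47432) D26626
def n27615 : Q := act 3 n23442
theorem D27615 : act 3 n23442 = n27615 := rfl
def n27616 : Q := act 4 n23442
theorem D27616 : act 4 n23442 = n27616 := rfl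
theorem F58075 : act 2 n27616 = n23443 := d12_1 D27616 (iv D23443) D23442
def n27617 : Q := act 5 n23442
theorem D27617 : act 5 n23442 = n27617 := rfl
theorem F58076 : act 2 n27617 = n23444 := d13_1 D27617 (iv D23444) D23442
def n27618 : Q := act 6 n23442
theorem D27618 : act 6 n23442 = n27618 := rfl
theorem F58077 : act 2 n27618 = n23445 := d14_1 D27618 (iv D23445) D23442
def n27619 : Q := act 6 n23444
theorem D27619 : act 6 n23444 = n27619 := rfl
theorem F58078 : act 3 n27619 = n23446 := d17_1 D27619 (iv D23446) (iv F46678)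
theorem F58079 : act 5 n27619 = n27612 := d22_2 D23444 D27619 (iv D27612) F46669
def n27620 : Q := act 5 n23445
theorem D27620 : act 5 n23445 = n27620 := rfl
theorem F58080 : act 0 n27620 = n27619 := d4_1 D27620 F58079 F58066
theorem F58081 : act 3 n27620 = n23447 := d16_1 D27620 (iv D23447) (iv F46680)
theorem F58082 : act 6 n27620 = n27611 := d20_2 D23445 D27620 (iv D27611) D27612 (iv F58079) (iv D27619) (iv D23444)
def n27621 : Q := act 1 n23447
theorem D27621 : act 1 n23447 = n27621 := rfl
theorem F58083 : act 4 n27621 = n23733 := d8_2 (iv F46686) D27621 (iv D23733)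
theorem F58084 : act 5 n27621 = n27621 := d9_2 D23447 D27621 (iv D27621) (iv D23447) F33992
def n27622 : Q := act 1 n23448
theorem D27622 : act 1 n23448 = n27622 := rfl
def n27623 : Q := act 4 n23448
theorem D27623 : act 4 n23448 = n27623 := rfl
theorem F58085 : act 0 n27623 = n23449 := d3_1 D27623 (iv D23449) D23448
theorem F58086 : act 2 n27623 = n25496 := d12_1 D27623 (iv F53411) F53410
def n27624 : Q := act 5 n23448
theorem D27624 : act 5 n23448 = n27624 := rfl
theorem F58087 : act 0 n27624 = n23450 := d4_1 D27624 (iv D23450) D23448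
theorem F58088 : act 2 n27624 = n26110 := d13_1 D27624 F53710 F53410
def n27625 : Q := act 6 n23448
theorem D27625 : act 6 n23448 = n27625 := rfl
theorem F58089 : act 0 n27625 = n23451 := d5_1 D27625 (iv D23451) D23448
def n27626 : Q := act 5 n23449
theorem D27626 : act 5 n23449 = n27626 := rfl
theorem F58090 : act 2 n27626 = n24472 := d13_1 D27626 F53420 F53418
theorem F58091 : act 4 n27626 = n23450 := d18_1 D27626 (iv D23450) D23449
def n27627 : Q := act 6 n23449
theorem D27627 : act 6 n23449 = n27627 := rfl
theorem F58092 : act 1 n27627 = n27627 := d10_1 D27627 (iv D27627) F46688 F33999 (iv F46688)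
theorem F58093 : act 2 n27627 = n26161 := d14_1 D27627 F53864 F53418
theorem F58094 : act 4 n27627 = n23451 := d19_1 D27627 (iv D23451) D23449
theorem F58095 : act 5 n26159 = n27627 := d13_0 F58093 (iv D26161) D26159
def n27628 : Q := act 6 n23450
theorem D27628 : act 6 n23450 = n27628 := rfl
theorem F58096 : act 5 n27628 = n27625 := d22_2 D23450 D27628 (iv D27625) (iv D23448)
def n27629 : Q := act 5 n23451
theorem D27629 : act 5 n23451 = n27629 := rfl
theorem F58097 : act 0 n27629 = n27628 := d4_1 D27629 F58096 F58089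
theorem F58098 : act 2 n27629 = n26160 := d13_1 D27629 (iv F53860) F53424
theorem F58099 : act 4 n27629 = n26159 := d18_1 D27629 F58095 F58094
theorem F58100 : act 6 n27629 = n27624 := d20_2 D23451 D27629 (iv D27624) D27625 (iv F58096) (iv D27628) (iv D23450)
def n27630 : Q := act 1 n23452
theorem D27630 : act 1 n23452 = n27630 := rfl
theorem F58101 : act 3 n27630 = n23453 := d7_2 (iv F46692) D27630 (iv D23453)
theorem F58102 : act 4 n27630 = n25823 := d8_2 (iv F46693) D27630 (iv D25823)
def n27631 : Q := act 2 n23453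
theorem D27631 : act 2 n23453 = n27631 := rfl
theorem F58103 : act 0 n27631 = n26701 := d1_1 D27631 (iv F55335) F55098
theorem F58104 : act 1 n27631 = n27631 := d6_1 D27631 (iv D27631) (iv D23453) F34003 D23453
theorem F58105 : act 4 n27631 = n26564 := d12_2 (iv F46695) D27631 (iv D26564)
def n27632 : Q := act 1 n23454
theorem D27632 : act 1 n23454 = n27632 := rfl
theorem F58106 : act 3 n27632 = n23455 := d7_2 (iv F46698) D27632 (iv D23455)
theorem F58107 : act 4 n27632 = n24703 := d8_2 (iv F46699) D27632 (iv D24703)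
theorem F58108 : act 6 n27632 = n24712 := d10_2 (iv F46700) D27632 (iv D24712) (iv D20310) (iv F38494)
theorem F58109 : act 2 n24098 = n27632 := d21_6 F53970 F53967 F42121 F37128 D19773 D24098 F58106 (iv F49089)
def n27633 : Q := act 2 n23455
theorem D27633 : act 2 n23455 = n27633 := rfl
theorem F58110 : act 0 n27633 = n26202 := d1_1 D27633 (iv F53970) F49089
theorem F58111 : act 1 n27633 = n27633 := d6_1 D27633 (iv D27633) (iv D23455) F34008 D23455
theorem F58112 : act 4 n27633 = n25006 := d12_2 (iv F46701) D27633 (iv D25006)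
theorem F58113 : act 6 n27633 = n25008 := d14_2 (iv F46702) D27633 (iv D25008)
theorem F58114 : act 3 n27633 = n23902 := d21_3 F58109 F58106 D27633 (iv D23902) (iv F37280) (iv F38586) (iv F50290) (iv F50292)
def n27634 : Q := act 5 n23457
theorem D27634 : act 5 n23457 = n27634 := rfl
theorem F58115 : act 1 n27634 = n23460 := d9_1 D27634 (iv D23460) (iv D18990) (iv F34016) D23457
theorem F58116 : act 3 n27634 = n27528 := d16_1 D27634 (iv D27528) (iv F46705)
theorem F58117 : act 4 n27634 = n26443 := d18_1 D27634 (iv D26443) (iv F46706)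
def n27635 : Q := act 6 n23457
theorem D27635 : act 6 n23457 = n27635 := rfl
theorem F58118 : act 1 n27635 = n23465 := d10_1 D27635 (iv D23465) (iv D18992) (iv F34017) D23457
theorem F58119 : act 3 n27635 = n27529 := d17_1 D27635 (iv D27529) (iv F46705)
theorem F58120 : act 4 n27635 = n26444 := d19_1 D27635 (iv D26444) (iv F46706)
def n27636 : Q := act 1 n23458
theorem D27636 : act 1 n23458 = n27636 := rfl
theorem F58121 : act 3 n27636 = n25999 := d7_2 F46708 D27636 (iv D25999)
theorem F58122 : act 4 n27636 = n26445 := d8_2 (iv F46707) D27636 (iv D26445)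
def n27637 : Q := act 5 n23458
theorem D27637 : act 5 n23458 = n27637 := rfl
theorem F58123 : act 0 n27637 = n23460 := d4_1 D27637 (iv D23460) D23458
theorem F58124 : act 3 n27637 = n26001 := d16_1 D27637 (iv D26001) F46708
theorem F58125 : act 4 n27637 = n26447 := d18_1 D27637 (iv D26447) (iv F46707)
def n27638 : Q := act 6 n23458
theorem D27638 : act 6 n23458 = n27638 := rfl
theorem F58126 : act 0 n27638 = n23461 := d5_1 D27638 (iv D23461) D23458
theorem F58127 : act 3 n27638 = n26002 := d17_1 D27638 (iv D26002) F46708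
theorem F58128 : act 4 n27638 = n26448 := d19_1 D27638 (iv D26448) (iv F46707)
def n27639 : Q := act 4 n23459
theorem D27639 : act 4 n23459 = n27639 := rfl
theorem F58129 : act 0 n27639 = n26000 := d3_1 D27639 (iv D26000) (iv F46709)
theorem F58130 : act 1 n27639 = n23462 := d8_1 D27639 (iv D23462) (iv F46710)
theorem F58131 : act 2 n27639 = n25995 := d12_1 D27639 (iv D25995) (iv F46711)
theorem F58132 : act 3 n27639 = n26450 := d15_1 D27639 (iv D26450) (iv D21899) (iv F34019) D23459
def n27640 : Q := act 5 n23459
theorem D27640 : act 5 n23459 = n27640 := rfl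
theorem F58133 : act 0 n27640 = n26001 := d4_1 D27640 (iv D26001) (iv F46709)
theorem F58134 : act 1 n27640 = n27528 := d9_1 D27640 (iv D27528) (iv D23377) (iv F34022) (iv F46710)
theorem F58135 : act 2 n27640 = n25996 := d13_1 D27640 (iv D25996) (iv F46711)
theorem F58136 : act 3 n27640 = n23460 := d16_1 D27640 (iv D23460) D23459
def n27641 : Q := act 6 n23459
theorem D27641 : act 6 n23459 = n27641 := rfl
theorem F58137 : act 0 n27641 = n26002 := d5_1 D27641 (iv D26002) (iv F46709)
theorem F58138 : act 1 n27641 = n23473 := d10_1 D27641 (iv D23473) F34026 (iv F34023) (iv F46710)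
theorem F58139 : act 2 n27641 = n25997 := d14_1 D27641 (iv D25997) (iv F46711)
theorem F58140 : act 3 n27641 = n23461 := d17_1 D27641 (iv D23461) D23459
def n27642 : Q := act 6 n23460
theorem D27642 : act 6 n23460 = n27642 := rfl
theorem F58141 : act 4 n27642 = n26453 := d19_1 D27642 (iv D26453) (iv F46712)
theorem F58142 : act 5 n27642 = n27638 := d22_2 D23460 D27642 (iv D27638) (iv D23458)
def n27643 : Q := act 5 n23461
theorem D27643 : act 5 n23461 = n27643 := rfl
theorem F58143 : act 0 n27643 = n27642 := d4_1 D27643 F58142 F58126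
theorem F58144 : act 4 n27643 = n26454 := d18_1 D27643 (iv D26454) (iv F46714)
theorem F58145 : act 6 n27643 = n27637 := d20_2 D23461 D27643 (iv D27637) D27638 (iv F58142) (iv D27642) (iv D23460)
def n27644 : Q := act 1 n23463
theorem D27644 : act 1 n23463 = n27644 := rfl
theorem F58146 : act 3 n27644 = n27546 := d7_2 (iv F46720) D27644 (iv D27546)
def n27645 : Q := act 5 n23463
theorem D27645 : act 5 n23463 = n27645 := rfl
theorem F58147 : act 0 n27645 = n23464 := d4_1 D27645 (iv D23464) D23463
theorem F58148 : act 3 n27645 = n27548 := d16_1 D27645 (iv D27548) (iv F46720)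
def n27646 : Q := act 6 n23463
theorem D27646 : act 6 n23463 = n27646 := rfl
theorem F58149 : act 0 n27646 = n23465 := d5_1 D27646 (iv D23465) D23463
theorem F58150 : act 3 n27646 = n27549 := d17_1 D27646 (iv D27549) (iv F46720)
def n27647 : Q := act 6 n23464
theorem D27647 : act 6 n23464 = n27647 := rfl
theorem F58151 : act 3 n27647 = n27552 := d17_1 D27647 (iv D27552) (iv F46722)
theorem F58152 : act 5 n27647 = n27646 := d22_2 D23464 D27647 (iv D27646) (iv D23463)
def n27648 : Q := act 5 n23465
theorem D27648 : act 5 n23465 = n27648 := rfl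
theorem F58153 : act 0 n27648 = n27647 := d4_1 D27648 F58152 F58149
theorem F58154 : act 3 n27648 = n27553 := d16_1 D27648 (iv D27553) (iv F46723)
theorem F58155 : act 6 n27648 = n27645 := d20_2 D23465 D27648 (iv D27645) D27646 (iv F58152) (iv D27647) (iv D23464)
def n27651 : Q := act 3 n23466
theorem D27651 : act 3 n23466 = n27651 := rfl
theorem F58157 : act 1 n27651 = n23467 := d7_1 D27651 (iv D23467) D23466
def n27654 : Q := act 2 n23467
theorem D27654 : act 2 n23467 = n27654 := rfl
theorem F58158 : act 0 n27654 = n23470 := d1_1 D27654 (iv D23470) (iv F46724)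
def n27655 : Q := act 4 n23467
theorem D27655 : act 4 n23467 = n27655 := rfl
theorem F58159 : act 0 n27655 = n23471 := d3_1 D27655 (iv D23471) (iv F46724)
def n27656 : Q := act 5 n23467
theorem D27656 : act 5 n23467 = n27656 := rfl
theorem F58160 : act 0 n27656 = n23472 := d4_1 D27656 (iv D23472) (iv F46724)
theorem F58161 : act 3 n27656 = n23468 := d16_1 D27656 (iv D23468) D23467
def n27657 : Q := act 6 n23467
theorem D27657 : act 6 n23467 = n27657 := rfl
theorem F58162 : act 0 n27657 = n23473 := d5_1 D27657 (iv D23473) (iv F46724)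
def n27658 : Q := act 1 n23468
theorem D27658 : act 1 n23468 = n27658 := rfl
def n27659 : Q := act 1 n23469
theorem D27659 : act 1 n23469 = n27659 := rfl
def n27660 : Q := act 3 n23470
theorem D27660 : act 3 n23470 = n27660 := rfl
theorem F58164 : act 1 n27660 = n27539 := d7_1 D27660 (iv D27539) (iv F46729)
theorem F58165 : act 2 n27660 = n26445 := d25_9 (iv F5883) F5882 D3852 D8058 D10907 D13807 D18994 D23470 D27660 (iv D26445) D26446 F54529 (iv D25435) (iv F52213) (iv D25432) F41021 (iv D19795) (iv D14537) (iv D11300) (iv D8941) (iv F13374) F13373 F13369 F6570 D4319 F6586 F3360 D2126 D4431 D9164 D11455 D14861 D20086 D24431 F49478 (iv F47375) F46801 (iv D20590) F26557 D16826 F35585 (iv F42565) (iv D21930) (iv D16599) (iv D12381) (iv D10113) (iv F14271) (iv F20583) (iv F25156) (iv F36818) D23914 F48057 (iv F48049) F48048 F43474 D22292 F43477 F37880 F25756 (iv F25666) (iv F37577) (iv D15678) D15679 F36110 (iv F31944) F36127 F24800 (iv D11106) (iv D8351) (iv D3988) (iv D1911) (iv D940) (iv F1646) (iv F3035) F3036 F3032 D1888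
theorem F58166 : act 0 n27660 = n26445 := d21_8 (iv F58165) (iv D27660) (iv D23470) (iv D18994) F24255 D18994 D23470 D27660
theorem F58167 : act 3 n27654 = n26445 := d21_1 D27654 (iv F58165) (iv D27660) (iv D23470) (iv D18994) F24255 D18994 (iv F46724)
theorem F58168 : act 1 n26446 = n27654 := d25_15 (iv F1781) (iv F3295) (iv F6570) (iv F13369) (iv F13373) D11281 F20012 D11300 D14537 D19795 D24132 (iv F52214) F52213 D25435 (iv F54529) F58167 (iv F58165) (iv D27660) (iv D23470) F34026 (iv D13808) (iv D10907) (iv D8058) (iv D3852) (iv D1853) F1627 F898 F481 F241 (iv F15664) D126 (iv F511) D496 D978 (iv F1973) F32552 F32518 (iv F32516) (iv D682) (iv D344) (iv D172) (iv F323) (iv F328) F329 F167 D85 F178 D90 F32859 (iv D90) (iv D41) F61 (iv F93) (iv F167) (iv F329) F328 D322 F630 D344 D682 F32516 (iv D1166) (iv F1974) F1973 (iv D978) (iv D496) (iv D253) F246 F15664 (iv F241) (iv F481) D478 (iv F1635) D1866 F32903 (iv D2090) (iv D1026)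
theorem F58169 : act 1 n27533 = n26312 := d0_4 F58168 F58158 F46729 (iv F57880) (iv D26312) (iv D21815) (iv F28657) (iv F42480) (iv F54528)
theorem E10353 : n27651 = n21280 := (c6_4 (iv F54529) F58168 (iv D27654) (iv F58157) F41150 (iv F52219))
theorem E10354 : n25525 = n23467 := (((iv F52386)).symm.trans (sb E10353 F58157))
theorem F58170 : act 1 n23467 = n21280 := (sb E10354 F52386)
theorem E10356 : n21279 = n18993 := ((((iv D23467)).symm.trans (sb E10354 (iv D25525)))).symm
theorem F58171 : act 1 n18993 = n16110 := (sb E10356 (iv D21279))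
theorem E10363 : n25526 = n19815 := ((((iv F37394)).symm.trans (sb E10356 D25526))).symm
theorem F58172 : act 1 n19815 = n21281 := (sb E10363 F52387)
theorem F58173 : act 1 n25531 = n24170 := d7_3 (iv D24170) F58172 D25531
theorem F58174 : act 1 n24149 = n27501 := d0_6 F58173 F48761 F37395 F25412 D19805 D24149 F57809 F46494 (iv F52396)
theorem F58175 : act 0 n25517 = n27644 := d0_3 F58171 (iv F41140) D25517 (iv D27644) (iv D23463) (iv D18992) F24249 D13807 D18993
theorem F58176 : act 5 n25533 = n27658 := d9_4 (iv D23468) F58171 D21282 D25533 (iv D27658)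
theorem F58177 : act 6 n25502 = n27659 := d10_4 (iv D23469) F58171 (iv F41129) D25502 (iv D27659)
theorem F58178 : act 0 n27546 = n25441 := d2_3 (iv F52366) F58175 F58146
theorem F58179 : act 1 n25529 = n27655 := d8_3 (iv D27655) F58170 D25529
def n27661 : Q := act 4 n23470
theorem D27661 : act 4 n23470 = n27661 := rfl
theorem F58180 : act 1 n27661 = n27540 := d8_1 D27661 (iv D27540) (iv F46729)
theorem F58181 : act 2 n27661 = n23471 := d12_1 D27661 (iv D23471) D23470
def n27662 : Q := act 5 n23470
theorem D27662 : act 5 n23470 = n27662 := rfl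
theorem F58182 : act 2 n27662 = n23472 := d13_1 D27662 (iv D23472) D23470
def n27663 : Q := act 6 n23470
theorem D27663 : act 6 n23470 = n27663 := rfl
theorem F58183 : act 2 n27663 = n23473 := d14_1 D27663 (iv D23473) D23470
def n27664 : Q := act 5 n23471
theorem D27664 : act 5 n23471 = n27664 := rfl
theorem F58184 : act 1 n27664 = n27664 := d9_1 D27664 (iv D27664) F46730 F34032 (iv F46730)
theorem F58185 : act 4 n27664 = n23472 := d18_1 D27664 (iv D23472) D23471
def n27665 : Q := act 6 n23471
theorem D27665 : act 6 n23471 = n27665 := rfl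
theorem F58186 : act 4 n27665 = n23473 := d19_1 D27665 (iv D23473) D23471
def n27666 : Q := act 6 n23472
theorem D27666 : act 6 n23472 = n27666 := rfl
theorem F58188 : act 5 n27666 = n27657 := d22_2 D23472 D27666 (iv D27657) F46724
def n27667 : Q := act 5 n23473
theorem D27667 : act 5 n23473 = n27667 := rfl
theorem F58191 : act 6 n27667 = n27656 := d20_2 D23473 D27667 (iv D27656) D27657 (iv F58188) (iv D27666) (iv D23472)
def n27670 : Q := act 1 n23476
theorem D27670 : act 1 n23476 = n27670 := rfl
theorem F58193 : act 3 n27670 = n23477 := d7_2 (iv F46741) D27670 (iv D23477)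
theorem F58194 : act 4 n27670 = n26065 := d8_2 (iv F46742) D27670 (iv D26065)
def n27671 : Q := act 2 n23477
theorem D27671 : act 2 n23477 = n27671 := rfl
theorem F58195 : act 0 n27671 = n26808 := d1_1 D27671 (iv F55702) F55574
theorem F58196 : act 1 n27671 = n27671 := d6_1 D27671 (iv D27671) (iv D23477) F34036 D23477
theorem F58197 : act 4 n27671 = n26720 := d12_2 (iv F46744) D27671 (iv D26720)
def n27672 : Q := act 1 n23478
theorem D27672 : act 1 n23478 = n27672 := rfl
theorem F58198 : act 3 n27672 = n23479 := d7_2 (iv F46747) D27672 (iv D23479)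
theorem F58199 : act 4 n27672 = n24752 := d8_2 (iv F46748) D27672 (iv D24752)
theorem F58200 : act 5 n27672 = n24761 := d9_2 (iv F46749) D27672 (iv D24761) (iv D20344) (iv F38575)
theorem F58201 : act 2 n24047 = n27672 := d21_6 F53378 F53375 F41780 F37086 D19735 D24047 F58198 (iv F49249)
def n27673 : Q := act 2 n23479
theorem D27673 : act 2 n23479 = n27673 := rfl
theorem F58202 : act 0 n27673 = n25967 := d1_1 D27673 (iv F53378) F49249
theorem F58203 : act 1 n27673 = n27673 := d6_1 D27673 (iv D27673) (iv D23479) F34047 D23479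
theorem F58204 : act 4 n27673 = n25027 := d12_2 (iv F46750) D27673 (iv D25027)
theorem F58205 : act 5 n27673 = n25029 := d13_2 (iv F46751) D27673 (iv D25029)
theorem F58206 : act 3 n27673 = n23908 := d21_3 F58201 F58198 D27673 (iv D23908) (iv F37194) (iv F38505) (iv F50184) (iv F50186)
def n27674 : Q := act 5 n23481
theorem D27674 : act 5 n23481 = n27674 := rfl
theorem F58207 : act 1 n27674 = n23488 := d9_1 D27674 (iv D23488) (iv D19012) (iv F34061) D23481
theorem F58208 : act 3 n27674 = n27604 := d16_1 D27674 (iv D27604) (iv F46756)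
theorem F58209 : act 4 n27674 = n26458 := d18_1 D27674 (iv D26458) (iv F46757)
def n27675 : Q := act 6 n23481
theorem D27675 : act 6 n23481 = n27675 := rfl
theorem F58210 : act 1 n27675 = n23485 := d10_1 D27675 (iv D23485) (iv D19010) (iv F34062) D23481
theorem F58211 : act 3 n27675 = n27605 := d17_1 D27675 (iv D27605) (iv F46756)
theorem F58212 : act 4 n27675 = n26459 := d19_1 D27675 (iv D26459) (iv F46757)
def n27676 : Q := act 1 n23482
theorem D27676 : act 1 n23482 = n27676 := rfl
theorem F58213 : act 3 n27676 = n26230 := d7_2 F46760 D27676 (iv D26230)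
theorem F58214 : act 4 n27676 = n26460 := d8_2 (iv F46759) D27676 (iv D26460)
def n27677 : Q := act 5 n23482
theorem D27677 : act 5 n23482 = n27677 := rfl
theorem F58215 : act 0 n27677 = n23484 := d4_1 D27677 (iv D23484) D23482
theorem F58216 : act 2 n27677 = n27645 := d13_1 D27677 (iv D27645) (iv F46758)
theorem F58217 : act 3 n27677 = n26232 := d16_1 D27677 (iv D26232) F46760
theorem F58218 : act 4 n27677 = n26462 := d18_1 D27677 (iv D26462) (iv F46759)
def n27678 : Q := act 6 n23482
theorem D27678 : act 6 n23482 = n27678 := rfl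
theorem F58219 : act 0 n27678 = n23485 := d5_1 D27678 (iv D23485) D23482
theorem F58220 : act 2 n27678 = n27646 := d14_1 D27678 (iv D27646) (iv F46758)
theorem F58221 : act 3 n27678 = n26233 := d17_1 D27678 (iv D26233) F46760
theorem F58222 : act 4 n27678 = n26463 := d19_1 D27678 (iv D26463) (iv F46759)
def n27679 : Q := act 4 n23483
theorem D27679 : act 4 n23483 = n27679 := rfl
theorem F58223 : act 0 n27679 = n26231 := d3_1 D27679 (iv D26231) (iv F46761)
theorem F58224 : act 1 n27679 = n23486 := d8_1 D27679 (iv D23486) (iv F46762)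
theorem F58225 : act 2 n27679 = n26226 := d12_1 D27679 (iv D26226) (iv F46763)
theorem F58226 : act 3 n27679 = n26465 := d15_1 D27679 (iv D26465) (iv D21906) (iv F34065) D23483
def n27680 : Q := act 5 n23483
theorem D27680 : act 5 n23483 = n27680 := rfl
theorem F58227 : act 0 n27680 = n26232 := d4_1 D27680 (iv D26232) (iv F46761)
theorem F58228 : act 1 n27680 = n23496 := d9_1 D27680 (iv D23496) F34073 (iv F34068) (iv F46762)
theorem F58229 : act 2 n27680 = n26227 := d13_1 D27680 (iv D26227) (iv F46763)
theorem F58230 : act 3 n27680 = n23484 := d16_1 D27680 (iv D23484) D23483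
def n27681 : Q := act 6 n23483
theorem D27681 : act 6 n23483 = n27681 := rfl
theorem F58231 : act 0 n27681 = n26233 := d5_1 D27681 (iv D26233) (iv F46761)
theorem F58232 : act 1 n27681 = n27605 := d10_1 D27681 (iv D27605) (iv D23436) (iv F34069) (iv F46762)
theorem F58233 : act 2 n27681 = n26228 := d14_1 D27681 (iv D26228) (iv F46763)
theorem F58234 : act 3 n27681 = n23485 := d17_1 D27681 (iv D23485) D23483
def n27682 : Q := act 6 n23484
theorem D27682 : act 6 n23484 = n27682 := rfl
theorem F58235 : act 2 n27682 = n27647 := d14_1 D27682 (iv D27647) (iv F46765)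
theorem F58236 : act 4 n27682 = n26468 := d19_1 D27682 (iv D26468) (iv F46766)
theorem F58237 : act 5 n27682 = n27678 := d22_2 D23484 D27682 (iv D27678) (iv D23482)
def n27683 : Q := act 5 n23485
theorem D27683 : act 5 n23485 = n27683 := rfl
theorem F58238 : act 0 n27683 = n27682 := d4_1 D27683 F58237 F58219
theorem F58239 : act 2 n27683 = n27648 := d13_1 D27683 (iv D27648) (iv F46767)
theorem F58240 : act 4 n27683 = n26469 := d18_1 D27683 (iv D26469) (iv F46768)
theorem F58241 : act 6 n27683 = n27677 := d20_2 D23485 D27683 (iv D27677) D27678 (iv F58237) (iv D27682) (iv D23484)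
def n27684 : Q := act 1 n23487
theorem D27684 : act 1 n23487 = n27684 := rfl
theorem F58242 : act 3 n27684 = n27622 := d7_2 (iv F46775) D27684 (iv D27622)
def n27685 : Q := act 5 n23487
theorem D27685 : act 5 n23487 = n27685 := rfl
theorem F58243 : act 0 n27685 = n23488 := d4_1 D27685 (iv D23488) D23487
theorem F58244 : act 2 n27685 = n27637 := d13_1 D27685 (iv D27637) (iv F46774)
theorem F58245 : act 3 n27685 = n27624 := d16_1 D27685 (iv D27624) (iv F46775)
def n27686 : Q := act 6 n23487
theorem D27686 : act 6 n23487 = n27686 := rfl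
theorem F58246 : act 0 n27686 = n23489 := d5_1 D27686 (iv D23489) D23487
theorem F58247 : act 2 n27686 = n27638 := d14_1 D27686 (iv D27638) (iv F46774)
theorem F58248 : act 3 n27686 = n27625 := d17_1 D27686 (iv D27625) (iv F46775)
def n27687 : Q := act 6 n23488
theorem D27687 : act 6 n23488 = n27687 := rfl
theorem F58249 : act 2 n27687 = n27642 := d14_1 D27687 (iv D27642) (iv F46776)
theorem F58250 : act 3 n27687 = n27628 := d17_1 D27687 (iv D27628) (iv F46777)
theorem F58251 : act 5 n27687 = n27686 := d22_2 D23488 D27687 (iv D27686) (iv D23487)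
def n27688 : Q := act 5 n23489
theorem D27688 : act 5 n23489 = n27688 := rfl
theorem F58252 : act 0 n27688 = n27687 := d4_1 D27688 F58251 F58246
theorem F58253 : act 2 n27688 = n27643 := d13_1 D27688 (iv D27643) (iv F46779)
theorem F58254 : act 3 n27688 = n27629 := d16_1 D27688 (iv D27629) (iv F46780)
theorem F58255 : act 6 n27688 = n27685 := d20_2 D23489 D27688 (iv D27685) D27686 (iv F58251) (iv D27687) (iv D23488)
def n27691 : Q := act 3 n23490
theorem D27691 : act 3 n23490 = n27691 := rfl
theorem F58257 : act 1 n27691 = n23491 := d7_1 D27691 (iv D23491) D23490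
def n27694 : Q := act 2 n23491
theorem D27694 : act 2 n23491 = n27694 := rfl
theorem F58258 : act 0 n27694 = n23494 := d1_1 D27694 (iv D23494) (iv F46781)
def n27695 : Q := act 4 n23491
theorem D27695 : act 4 n23491 = n27695 := rfl
theorem F58259 : act 0 n27695 = n23495 := d3_1 D27695 (iv D23495) (iv F46781)
def n27696 : Q := act 5 n23491
theorem D27696 : act 5 n23491 = n27696 := rfl
def n27697 : Q := act 6 n23491
theorem D27697 : act 6 n23491 = n27697 := rfl
def n27698 : Q := act 1 n23492
theorem D27698 : act 1 n23492 = n27698 := rfl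
def n27699 : Q := act 1 n23493
theorem D27699 : act 1 n23493 = n27699 := rfl
def n27700 : Q := act 3 n23494
theorem D27700 : act 3 n23494 = n27700 := rfl
theorem F58264 : act 1 n27700 = n27615 := d7_1 D27700 (iv D27615) (iv F46786)
theorem F58265 : act 2 n27700 = n26460 := d25_9 (iv F5890) F5889 D3862 D8081 D10914 D13821 D19014 D23494 D27700 (iv D26460) D26461 F54558 (iv D25469) (iv F52269) (iv D25466) F41066 (iv D19757) (iv D14515) (iv D11290) (iv D8937) (iv F13369) (iv F13373) F13374 F6575 D4323 F6595 F3365 D2134 D4448 D9194 D11469 D14888 D20103 D24452 F49556 (iv F47238) F46798 (iv D20628) F26633 D17018 F29958 (iv F42581) (iv D21936) (iv D16611) (iv D12389) (iv D10117) (iv F14276) (iv F20586) (iv F25163) (iv F36823) D23915 F48060 (iv F48053) F48052 F42932 D22077 F43966 F37783 F25711 (iv F25640) (iv F37545) (iv D15806) D15807 F35965 (iv F31923) F35983 F24691 (iv D11076) (iv D8308) (iv D3965) (iv D1901) (iv D936) (iv F1642) (iv F3032) (iv F3036) F3035 D1892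
theorem F58266 : act 0 n27700 = n26460 := d21_8 (iv F58265) (iv D27700) (iv D23494) (iv D19014) F24292 D19014 D23494 D27700
theorem F58267 : act 3 n27694 = n26460 := d21_1 D27694 (iv F58265) (iv D27700) (iv D23494) (iv D19014) F24292 D19014 (iv F46781)
theorem F58268 : act 1 n26461 = n27694 := d25_15 (iv F1787) (iv F3302) (iv F6575) (iv F13374) F13373 D11277 F20009 D11290 D14515 D19757 D24081 (iv F52270) F52269 D25469 (iv F54558) F58267 (iv F58265) (iv D27700) (iv D23494) F34073 (iv D13822) (iv D10914) (iv D8081) (iv D3862) (iv D1857) F1631 F902 F484 F246 F15664 D122 (iv F501) D492 D971 (iv F15735) F32843 (iv F32813) F32812 (iv D696) (iv D350) (iv D175) (iv F329) F328 F323 F162 D84 F176 D87 F32797 (iv D87) (iv D40) F57 (iv F90) (iv F162) (iv F323) (iv F328) D326 F635 D350 D696 (iv F32812) (iv D1182) (iv F1990) F15735 (iv D971) (iv D492) (iv D249) F241 (iv F15664) (iv F246) (iv F484) D482 (iv F1638) D1876 F32842 (iv D2098) (iv D1030)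
theorem F58269 : act 1 n27609 = n26388 := d0_4 F58268 F58258 F46786 (iv F58060) (iv D26388) (iv D21867) (iv F28675) (iv F42490) (iv F54557)
theorem E10366 : n27691 = n21319 := (c6_4 (iv F54558) F58268 (iv D27694) (iv F58257) F41237 (iv F52275))
theorem E10367 : n25583 = n23491 := (((iv F52519)).symm.trans (sb E10366 F58257))
theorem F58270 : act 1 n23491 = n21319 := (sb E10367 F52519)
theorem E10369 : n21318 = n19013 := ((((iv D23491)).symm.trans (sb E10367 (iv D25583)))).symm
theorem F58271 : act 1 n19013 = n16150 := (sb E10369 (iv D21318))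
theorem E10376 : n25584 = n19821 := ((((iv F37409)).symm.trans (sb E10369 D25584))).symm
theorem F58272 : act 1 n19821 = n21320 := (sb E10376 F52520)
theorem F58273 : act 1 n25589 = n24183 := d7_3 (iv D24183) F58272 D25589
theorem F58274 : act 1 n24162 = n27577 := d0_6 F58273 F48792 F37410 F25425 D19812 D24162 F57985 F46617 (iv F52529)
theorem F58275 : act 0 n25575 = n27684 := d0_3 F58271 (iv F41227) D25575 (iv D27684) (iv D23487) (iv D19012) F24285 D13821 D19013
theorem F58276 : act 5 n25560 = n27698 := d9_4 (iv D23492) F58271 (iv F41216) D25560 (iv D27698)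
theorem F58277 : act 6 n25591 = n27699 := d10_4 (iv D23493) F58271 D21321 D25591 (iv D27699)
theorem F58278 : act 0 n27622 = n25475 := d2_3 (iv F52499) F58275 F58242
theorem F58279 : act 1 n25587 = n27695 := d8_3 (iv D27695) F58270 D25587
def n27701 : Q := act 4 n23494
theorem D27701 : act 4 n23494 = n27701 := rfl
theorem F58280 : act 1 n27701 = n27616 := d8_1 D27701 (iv D27616) (iv F46786)
theorem F58281 : act 2 n27701 = n23495 := d12_1 D27701 (iv D23495) D23494
def n27702 : Q := act 5 n23494
theorem D27702 : act 5 n23494 = n27702 := rfl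
theorem F58282 : act 2 n27702 = n23496 := d13_1 D27702 (iv D23496) D23494
def n27703 : Q := act 6 n23494
theorem D27703 : act 6 n23494 = n27703 := rfl
theorem F58283 : act 2 n27703 = n23497 := d14_1 D27703 (iv D23497) D23494
def n27704 : Q := act 5 n23495
theorem D27704 : act 5 n23495 = n27704 := rfl
theorem F58284 : act 4 n27704 = n23496 := d18_1 D27704 (iv D23496) D23495
def n27705 : Q := act 6 n23495
theorem D27705 : act 6 n23495 = n27705 := rfl
def n27706 : Q := act 6 n23496
theorem D27706 : act 6 n23496 = n27706 := rfl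
theorem F58287 : act 3 n27706 = n23498 := d17_1 D27706 (iv D23498) (iv F46788)
theorem F58288 : act 5 n27706 = n27697 := d22_2 D23496 D27706 (iv D27697) F46781
def n27707 : Q := act 5 n23497
theorem D27707 : act 5 n23497 = n27707 := rfl
theorem F58290 : act 3 n27707 = n23499 := d16_1 D27707 (iv D23499) (iv F46790)
theorem F58291 : act 6 n27707 = n27696 := d20_2 D23497 D27707 (iv D27696) D27697 (iv F58288) (iv D27706) (iv D23496)
def n27710 : Q := act 2 n23502
theorem D27710 : act 2 n23502 = n27710 := rfl
theorem F58293 : act 4 n27710 = n23504 := d12_2 (iv F46802) D27710 (iv D23504)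
theorem F58294 : act 6 n27710 = n24716 := d14_2 F48457 D27710 F50211
theorem F58295 : act 5 n27710 = n23502 := d24_1 (iv F58294) (iv D23502) (iv D19058) F24359 F19461 D11012 D14014 D19256 (iv F41571) D25826 F53003 (iv F50216) (iv D24717) D24716
def n27711 : Q := act 1 n23506
theorem D27711 : act 1 n23506 = n27711 := rfl
theorem F58296 : act 2 n27711 = n23695 := d6_2 D23506 D27711 F47327 (iv F43304) F46810
theorem F58297 : act 3 n27711 = n24251 := d7_2 F51681 D27711 F51683
theorem F58298 : act 0 n27711 = n26960 := d23_3 (iv D23507) D23506 D27711 F56230 F55394 (iv F43744) F43743 D22375 (iv F55570) F55569 F44007 D22489 F44024 D22493 F44046 D23551 F46944 F35638 (iv F46808)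
theorem F58299 : act 6 n23694 = n27711 := d5_0 F58298 (iv D26960) (iv F47324)
def n27712 : Q := act 1 n23511
theorem D27712 : act 1 n23511 = n27712 := rfl
theorem F58300 : act 0 n27712 = n26805 := d0_1 D27712 (iv D26805) (iv F43895) (iv F51357) F51356 D25133 (iv F51369) (iv D23512) (iv F46819)
theorem F58301 : act 3 n27712 = n23730 := d7_2 (iv F46820) D27712 (iv D23730)
theorem F58302 : act 5 n27712 = n23676 := d9_2 (iv F46821) D27712 (iv F55656) F55659 F47424
def n27713 : Q := act 6 n23512
theorem D27713 : act 6 n23512 = n27713 := rfl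
theorem F58303 : act 1 n27713 = n23670 := d10_1 D27713 F47267 (iv F47248) (iv D23513) D23512
theorem F58304 : act 2 n27713 = n23515 := d14_1 D27713 (iv D23515) (iv F46823)
theorem F58305 : act 3 n27713 = n23722 := d17_1 D27713 (iv D23722) (iv F46824)
theorem F58306 : act 5 n27713 = n23681 := d22_2 (iv F46825) D27713 F47401 F47399
def n27714 : Q := act 2 n23517
theorem D27714 : act 2 n23517 = n27714 := rfl
theorem F58307 : act 4 n27714 = n23518 := d12_2 (iv F46834) D27714 (iv D23518)
theorem F58308 : act 5 n27714 = n24765 := d13_2 F48585 D27714 F50317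
theorem F58309 : act 6 n23517 = n27714 := d24_0 F58308 (iv D24765) D24766 F50322 (iv F53629) (iv D26076) F41921 (iv D19313) (iv D14061) (iv D11035) (iv F19482) (iv F24373) D19082 D23517
def n27715 : Q := act 1 n23519
theorem D27715 : act 1 n23519 = n27715 := rfl
theorem F58310 : act 2 n27715 = n23642 := d6_2 D23519 D27715 F47187 (iv F43851) F43855
theorem F58311 : act 3 n27715 = n24270 := d7_2 F51525 D27715 F51527
theorem F58312 : act 0 n27715 = n26942 := d23_3 F45492 D23519 D27715 (iv D26942) (iv F54853) F49165 F49162 D25078 F51178 (iv D20729) (iv F26756) (iv D15394) F34428 (iv D13509) (iv D10754) D10756 (iv F23759) D18513 D22977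
theorem F58313 : act 5 n23641 = n27715 := d4_0 F58312 (iv D26942) (iv F54855)
def n27716 : Q := act 1 n23524
theorem D27716 : act 1 n23524 = n27716 := rfl
theorem F58314 : act 0 n27716 = n26696 := d0_1 D27716 (iv D26696) F43363 (iv F51466) F51465 (iv F51387) F51386 (iv D23525) (iv F46847)
theorem F58315 : act 2 n27716 = n27712 := d6_2 D23524 D27716 (iv D27712) (iv D23511) (iv F35558)
theorem F58316 : act 3 n27716 = n23679 := d7_2 (iv F46848) D27716 (iv D23679)
theorem F58317 : act 6 n27716 = n23727 := d10_2 (iv F46850) D27716 (iv F55246) (iv F55249) F47279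
def n27717 : Q := act 5 n23525
theorem D27717 : act 5 n23525 = n27717 := rfl
theorem F58318 : act 1 n27717 = n23722 := d9_1 D27717 F47411 (iv F47404) (iv D23526) D23525
theorem F58319 : act 2 n27717 = n23527 := d13_1 D27717 (iv D23527) (iv F46851)
theorem F58320 : act 3 n27717 = n23670 := d16_1 D27717 (iv D23670) (iv F46852)
theorem F58321 : act 6 n27717 = n23732 := d22_1 D27717 F47435 F51389 F51386
def n27718 : Q := act 1 n23537
theorem D27718 : act 1 n23537 = n27718 := rfl
theorem F58322 : act 0 n27718 = n25951 := d0_1 D27718 (iv D25951) (iv D21569) (iv D16311) (iv F21582) D16344 D21628 F47907 F47904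
theorem F58323 : act 4 n27718 = n23538 := d8_2 (iv F46903) D27718 (iv D23538)
theorem F58324 : act 6 n27718 = n23545 := d10_2 D23537 D27718 (iv D23545) (iv D19125) (iv F35623)
def n27719 : Q := act 5 n23537
theorem D27719 : act 5 n23537 = n27719 := rfl
theorem F58325 : act 0 n27719 = n23971 := d4_1 D27719 F48268 F47904
theorem F58326 : act 2 n27719 = n23646 := d13_1 D27719 (iv D23646) (iv F46902)
theorem F58327 : act 4 n27719 = n23539 := d18_1 D27719 (iv D23539) (iv F46903)
theorem F58328 : act 6 n27719 = n23862 := d20_2 D23537 D27719 F47896 D23865 (iv F48268) (iv D23971) F36997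
def n27720 : Q := act 0 n23540
theorem D27720 : act 0 n23540 = n27720 := rfl
theorem F58329 : act 2 n27720 = n23552 := d1_2 F46918 D27720 F46946
theorem F58330 : act 3 n27720 = n24302 := d2_2 (iv F46911) D27720 F49106
theorem F58331 : act 5 n27720 = n23665 := d4_2 (iv F46917) D27720 (iv F47257)
theorem F58332 : act 6 n27720 = n23551 := d5_2 (iv F46912) D27720 F46943
def n27721 : Q := act 0 n23545
theorem D27721 : act 0 n23545 = n27721 := rfl
theorem F58333 : act 4 n27721 = n23546 := d3_2 (iv F46919) D27721 (iv D23546)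
theorem F58334 : act 6 n27721 = n25951 := d5_2 F58324 D27721 (iv F58322)
theorem F58335 : act 5 n27721 = n24826 := d24_1 (iv F58334) (iv D24826) F38687 D20392 (iv F45713) (iv F56820) F56819 (iv D24580) (iv F48287) (iv F49883) (iv F53337) F53336 F50676 D25951
def n27722 : Q := act 2 n23545
theorem D27722 : act 2 n23545 = n27722 := rfl
theorem F58336 : act 1 n27722 = n23557 := d6_1 D27722 (iv D23557) (iv D19135) (iv F35633) D23545
theorem F58337 : act 4 n27722 = n23547 := d12_2 (iv F46919) D27722 (iv D23547)
theorem F58338 : act 5 n23558 = n27722 := d18_0 F58337 (iv F46925) (iv F46962)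
def n27723 : Q := act 5 n23545
theorem D27723 : act 5 n23545 = n27723 := rfl
theorem F58339 : act 0 n27723 = n24826 := d4_1 D27723 (iv F58335) (iv D27721)
theorem F58340 : act 1 n27723 = n27710 := d9_1 D27723 F58295 (iv D23502) (iv F35635) D23545
theorem F58341 : act 2 n27723 = n23558 := d13_1 D27723 F58338 (iv D27722)
theorem F58342 : act 4 n27723 = n23548 := d18_1 D27723 (iv D23548) (iv F46919)
theorem F58343 : act 6 n27723 = n24044 := d22_1 D27723 (iv F53315) (iv F58334) (iv D27721)
def n27724 : Q := act 0 n23558
theorem D27724 : act 0 n23558 = n27724 := rfl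
theorem F58344 : act 1 n27724 = n25930 := d0_2 D23558 D27724 F53285 F41742 (iv F41824) D25998 (iv F53467) (iv D23502) (iv F35649)
theorem F58345 : act 2 n27724 = n24826 := d1_2 F58341 D27724 (iv F58339)
theorem F58346 : act 4 n27724 = n23559 := d3_2 (iv F46962) D27724 (iv D23559)
theorem F58347 : act 6 n27724 = n24043 := d5_2 (iv F46963) D27724 (iv D24043)
def n27725 : Q := act 2 n23566
theorem D27725 : act 2 n23566 = n27725 := rfl
theorem F58348 : act 0 n27725 = n23567 := d1_1 D27725 (iv D23567) D23566
theorem F58349 : act 3 n27725 = n26846 := d11_2 F49084 D27725 (iv D26846) (iv F44045) (iv D19128) (iv F35636) D23547 (iv F46924) D23567 F46991 (iv D22497) (iv F44035) (iv F44047) (iv F46920) (iv F49083)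
theorem F58350 : act 5 n27725 = n23570 := d13_2 (iv F46989) D27725 (iv D23570)
def n27726 : Q := act 6 n23567
theorem D27726 : act 6 n23567 = n27726 := rfl
theorem F58351 : act 2 n27726 = n23568 := d14_1 D27726 (iv D23568) D23567
theorem F58352 : act 3 n27726 = n26847 := d17_1 D27726 (iv D26847) (iv F46991)
def n27727 : Q := act 2 n23569
theorem D27727 : act 2 n23569 = n27727 := rfl
theorem F58353 : act 0 n27727 = n26621 := d1_1 D27727 F55097 (iv F46992)
theorem F58354 : act 1 n27727 = n26834 := d6_1 D27727 F55793 (iv F55744) (iv D23570) D23569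
theorem F58355 : act 5 n27727 = n23707 := d13_2 F55107 D27727 (iv F55105)
theorem F58356 : act 6 n27727 = n26618 := d14_2 F46994 D27727 (iv D26618)
theorem F58357 : act 3 n27727 = n26764 := d21_1 D27727 F55570 F43749 (iv F43729) F43730 F43176 (iv F43195) (iv F46992)
def n27728 : Q := act 6 n23570
theorem D27728 : act 6 n23570 = n27728 := rfl
theorem F58358 : act 0 n27728 = n23572 := d5_1 D27728 (iv D23572) (iv F46995)
theorem F58359 : act 2 n27728 = n23571 := d14_1 D27728 (iv D23571) D23570
theorem F58360 : act 5 n27728 = n27726 := d22_2 F58350 D27728 (iv D27726) (iv F58348)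
def n27729 : Q := act 5 n23572
theorem D27729 : act 5 n23572 = n27729 := rfl
theorem F58361 : act 0 n27729 = n27726 := d4_1 D27729 (iv F58360) F58358
theorem F58362 : act 1 n27729 = n26548 := d9_1 D27729 F54837 (iv D26538) (iv F42827) F47000
theorem F58363 : act 2 n27729 = n23573 := d13_1 D27729 (iv D23573) (iv F46999)
theorem F58364 : act 3 n27729 = n26550 := d16_1 D27729 F54838 F49110
theorem F58365 : act 6 n27729 = n27725 := d20_2 D23572 D27729 F58350 D27728 F58360 (iv D27726) F46990
def n27730 : Q := act 5 n23576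
theorem D27730 : act 5 n23576 = n27730 := rfl
theorem F58366 : act 0 n27730 = n26902 := d4_1 D27730 F56010 F51477
theorem F58367 : act 1 n27730 = n23714 := d9_1 D27730 (iv D23714) (iv D19322) D19323 (iv F47009)
theorem F58368 : act 2 n27730 = n25155 := d13_1 D27730 F51450 F51347
theorem F58369 : act 3 n27730 = n23577 := d16_1 D27730 (iv D23577) D23576
theorem F58370 : act 6 n27730 = n25153 := d20_2 F51467 D27730 F51444 D25165 (iv F56010) F56011 F55804
def n27731 : Q := act 1 n23577
theorem D27731 : act 1 n23577 = n27731 := rfl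
theorem F58371 : act 2 n27731 = n23725 := d6_2 (iv F47011) D27731 F47421 F36105 F35720
theorem F58372 : act 3 n27731 = n23714 := d7_2 F58369 D27731 (iv F58367)
theorem F58373 : act 5 n27731 = n23711 := d9_2 D23577 D27731 (iv D23711) F47007 (iv D23575)
theorem F58374 : act 6 n27731 = n25133 := d10_2 F47012 D27731 (iv D25133) (iv F51333) F51332
theorem F58375 : act 0 n27731 = n27713 := d23_3 D19150 (iv F47011) D27731 F58306 (iv F47412) (iv F47415) (iv F53357) F53361 (iv D25091) (iv D20730) F26756 F26755 (iv F35441) F35439 F27008 D15562 (iv F39962) F39961 (iv D19148)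
def n27732 : Q := act 0 n23584
theorem D27732 : act 0 n23584 = n27732 := rfl
theorem F58376 : act 2 n27732 = n23626 := d1_2 (iv F47033) D27732 F47145
theorem F58377 : act 5 n27732 = n23625 := d4_2 (iv F47034) D27732 F47144
def n27733 : Q := act 6 n23584
theorem D27733 : act 6 n23584 = n27733 := rfl
theorem F58378 : act 1 n27733 = n26519 := d10_1 D27733 F54741 (iv D26508) F42714 D23584
theorem F58379 : act 2 n27733 = n23627 := d14_1 D27733 (iv D23627) (iv F47033)
theorem F58380 : act 3 n27733 = n26521 := d17_1 D27733 F54742 F49153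
def n27734 : Q := act 0 n23586
theorem D27734 : act 0 n23586 = n27734 := rfl
theorem F58381 : act 1 n27734 = n24968 := d0_2 D23586 D27734 F50785 (iv F54894) (iv F55103) F55104 (iv F49476) F49477 F39241
theorem F58382 : act 2 n27734 = n26690 := d1_2 F55299 D27734 F55302
theorem F58383 : act 3 n27734 = n24969 := d2_2 (iv F47040) D27734 F50789
theorem F58384 : act 5 n27734 = n26685 := d4_2 (iv F47041) D27734 F55290
theorem F58385 : act 6 n27734 = n24971 := d5_2 (iv F47042) D27734 F50795
def n27735 : Q := act 5 n23587
theorem D27735 : act 5 n23587 = n27735 := rfl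
theorem F58386 : act 0 n27735 = n23675 := d4_1 D27735 (iv D23675) (iv F47043)
theorem F58387 : act 1 n27735 = n26829 := d9_1 D27735 F55777 (iv D22477) (iv F35715) D23587
theorem F58388 : act 2 n27735 = n23727 := d13_1 D27735 (iv D23727) (iv F47044)
theorem F58389 : act 6 n27735 = n27712 := d20_2 (iv F55254) D27735 F58302 (iv D23676) D23675 (iv F55694) F55693
def n27736 : Q := act 1 n23597
theorem D27736 : act 1 n23597 = n27736 := rfl
theorem F58390 : act 0 n27736 = n26186 := d0_1 D27736 (iv D26186) (iv D21728) (iv D16414) (iv F21672) D16447 D21787 F47914 F47911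
theorem F58391 : act 4 n27736 = n23598 := d8_2 (iv F47077) D27736 (iv D23598)
theorem F58392 : act 5 n27736 = n23605 := d9_2 D23597 D27736 (iv D23605) (iv D19193) (iv F35774)
def n27737 : Q := act 6 n23597
theorem D27737 : act 6 n23597 = n27737 := rfl
theorem F58393 : act 0 n27737 = n23996 := d5_1 D27737 F48335 F47911
theorem F58394 : act 2 n27737 = n23698 := d14_1 D27737 (iv D23698) (iv F47076)
theorem F58395 : act 4 n27737 = n23599 := d19_1 D27737 (iv D23599) (iv F47077)
theorem F58396 : act 5 n27737 = n23863 := d20_1 D27737 F47900 D23867 (iv F48335) (iv D23996) F37030 D23597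
def n27738 : Q := act 0 n23604
theorem D27738 : act 0 n23604 = n27738 := rfl
theorem F58397 : act 2 n27738 = n23612 := d1_2 F47092 D27738 F47113
theorem F58398 : act 3 n27738 = n24360 := d2_2 (iv F47089) D27738 F49267
theorem F58399 : act 5 n27738 = n23611 := d4_2 (iv F47090) D27738 F47110
theorem F58400 : act 6 n27738 = n23717 := d5_2 (iv F47091) D27738 F47396
def n27739 : Q := act 0 n23605
theorem D27739 : act 0 n23605 = n27739 := rfl
theorem F58401 : act 4 n27739 = n23606 := d3_2 (iv F47093) D27739 (iv D23606)
theorem F58402 : act 5 n27739 = n26186 := d4_2 F58392 D27739 (iv F58390)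
theorem F58403 : act 6 n24878 = n27739 := d24_0 F58402 (iv D26186) (iv F50750) (iv F53928) (iv F53929) F50019 F48354 D24635 (iv F56855) F56854 F45725 (iv D20427) (iv F38749) D24878
def n27740 : Q := act 2 n23605
theorem D27740 : act 2 n23605 = n27740 := rfl
theorem F58404 : act 1 n27740 = n23616 := d6_1 D27740 (iv D23616) (iv D19202) (iv F35784) D23605
theorem F58405 : act 4 n27740 = n23607 := d12_2 (iv F47093) D27740 (iv D23607)
theorem F58406 : act 6 n23617 = n27740 := d19_0 F58405 (iv F47099) (iv F47124)
def n27741 : Q := act 6 n23605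
theorem D27741 : act 6 n23605 = n27741 := rfl
theorem F58407 : act 0 n27741 = n24878 := d5_1 D27741 F58403 (iv D27739)
theorem F58408 : act 1 n27741 = n27714 := d10_1 D27741 (iv F58309) (iv D23517) (iv F35786) D23605
theorem F58409 : act 2 n27741 = n23617 := d14_1 D27741 F58406 (iv D27740)
theorem F58410 : act 4 n27741 = n23608 := d19_1 D27741 (iv D23608) (iv F47093)
theorem F58411 : act 5 n27741 = n24096 := d22_2 F58392 D27741 (iv F53907) (iv F58390)
def n27742 : Q := act 0 n23617
theorem D27742 : act 0 n23617 = n27742 := rfl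
theorem F58412 : act 1 n27742 = n26165 := d0_2 D23617 D27742 F53877 F42082 (iv F42169) D26229 F54058 (iv D23517) (iv F35798)
theorem F58413 : act 2 n27742 = n24878 := d1_2 F58409 D27742 (iv F58407)
theorem F58414 : act 4 n27742 = n23618 := d3_2 (iv F47124) D27742 (iv D23618)
theorem F58415 : act 5 n27742 = n24095 := d4_2 (iv F47125) D27742 (iv D24095)
def n27743 : Q := act 2 n23621
theorem D27743 : act 2 n23621 = n27743 := rfl
theorem F58416 : act 0 n27743 = n23622 := d1_1 D27743 (iv D23622) D23621
theorem F58417 : act 1 n27743 = n27726 := d6_1 D27743 F58351 (iv F47240) (iv F51219) F51218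
theorem F58418 : act 3 n27743 = n26881 := d11_2 F49244 D27743 (iv D26881) (iv F44178) (iv D19196) (iv F35787) D23607 (iv F47098) D23622 F47140 (iv D22554) (iv F44170) (iv F44180) (iv F47094) (iv F49243)
theorem F58419 : act 5 n27743 = n27733 := d13_2 F47150 D27743 F58379
theorem F58420 : act 6 n27743 = n23625 := d14_2 (iv F47138) D27743 (iv D23625)
def n27744 : Q := act 5 n23622
theorem D27744 : act 5 n23622 = n27744 := rfl
theorem F58421 : act 0 n27744 = n27733 := d4_1 D27744 (iv F58419) F58416
theorem F58422 : act 1 n27744 = n27725 := d9_1 D27744 F58350 F55744 F55743 (iv F54789)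
theorem F58423 : act 2 n27744 = n23623 := d13_1 D27744 (iv D23623) D23622
theorem F58424 : act 3 n27744 = n26882 := d16_1 D27744 (iv D26882) (iv F47140)
theorem F58425 : act 6 n27744 = n27732 := d20_2 (iv F47139) D27744 F58377 (iv F58420) F58419 (iv D27733) F47034
def n27745 : Q := act 2 n23624
theorem D27745 : act 2 n23624 = n27745 := rfl
theorem F58426 : act 0 n27745 = n26764 := d1_1 D27745 F55570 (iv F47141)
theorem F58427 : act 1 n27745 = n26869 := d6_1 D27745 F55901 (iv F55852) (iv D23625) D23624
theorem F58428 : act 3 n27745 = n26621 := d11_2 (iv F47142) D27745 F55097 F43195 (iv F43176) (iv F43730) F43729 (iv F43749) (iv F55570) (iv F58357) (iv D27727) F46993 (iv F49413) F49414 F49385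
theorem F58429 : act 5 n27745 = n26761 := d13_2 F47143 D27745 (iv D26761)
theorem F58430 : act 6 n27745 = n23655 := d14_2 F55580 D27745 (iv F55578)
def n27746 : Q := act 6 n23629
theorem D27746 : act 6 n23629 = n27746 := rfl
theorem F58431 : act 0 n27746 = n26898 := d5_1 D27746 F55998 F51377
theorem F58432 : act 1 n27746 = n23662 := d10_1 D27746 (iv D23662) (iv D19265) D19266 (iv F47153)
theorem F58433 : act 2 n27746 = n25123 := d14_1 D27746 (iv F51366) F51364
theorem F58434 : act 3 n27746 = n23631 := d17_1 D27746 (iv D23631) D23629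
theorem F58435 : act 5 n27746 = n25121 := d20_1 D27746 F51333 D25136 (iv F55998) F55997 F55912 (iv F51359)
def n27747 : Q := act 1 n23631
theorem D27747 : act 1 n23631 = n27747 := rfl
theorem F58436 : act 0 n27747 = n27717 := d0_1 D27747 F58318 F47409 (iv F58367) F58366 (iv D26902) F44342 D22646 (iv F47156)
theorem F58437 : act 2 n27747 = n23673 := d6_2 (iv F47157) D27747 F47276 F35960 F35858
theorem F58438 : act 3 n27747 = n23662 := d7_2 F58434 D27747 (iv F58432)
theorem F58439 : act 5 n27747 = n25139 := d9_2 F47158 D27747 F51387 (iv F51444) F51443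
theorem F58440 : act 6 n27747 = n23659 := d10_2 D23631 D27747 (iv D23659) (iv F46980) F46979
def n27748 : Q := act 0 n23632
theorem D27748 : act 0 n23632 = n27748 := rfl
theorem F58441 : act 1 n27748 = n24987 := d0_2 D23632 D27748 F50848 (iv F55403) (iv F55576) F55577 (iv F49554) F49555 F39346
theorem F58442 : act 2 n27748 = n26668 := d1_2 F55236 D27748 (iv F55234)
theorem F58443 : act 3 n27748 = n24988 := d2_2 (iv F47159) D27748 F50852
theorem F58444 : act 5 n27748 = n24990 := d4_2 (iv F47160) D27748 F50858
theorem F58445 : act 6 n27748 = n26654 := d5_2 (iv F47161) D27748 F55190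
def n27749 : Q := act 6 n23633
theorem D27749 : act 6 n23633 = n27749 := rfl
theorem F58446 : act 0 n27749 = n23728 := d5_1 D27749 (iv D23728) (iv F47162)
theorem F58447 : act 1 n27749 = n26864 := d10_1 D27749 F55887 (iv D22536) (iv F35854) D23633
theorem F58448 : act 2 n27749 = n23676 := d14_1 D27749 (iv D23676) (iv F47163)
theorem F58449 : act 5 n27749 = n27716 := d20_1 D27749 F58317 (iv D23727) D23728 (iv F55321) F55322 F55218
def n27750 : Q := act 1 n23637
theorem D27750 : act 1 n23637 = n27750 := rfl
theorem F58450 : act 0 n27750 = n26751 := d0_1 D27750 F55526 (iv D26604) (iv D22126) F29728 (iv F43055) (iv F47864) F47865 (iv F47177)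
theorem F58451 : act 3 n27750 = n23639 := d7_2 (iv F47179) D27750 (iv D23639)
theorem F58452 : act 4 n27750 = n26492 := d8_2 (iv F47180) D27750 (iv D26492)
theorem F58453 : act 5 n27750 = n26603 := d9_2 D23637 D27750 F55033 F43925 (iv F35873)
theorem F58454 : act 6 n27750 = n26578 := d10_2 (iv F47181) D27750 (iv D26578) (iv D22084) (iv F42649)
theorem F58455 : act 2 n26750 = n27750 := d14_3 F58454 (iv F55459) F55525
def n27751 : Q := act 2 n23638
theorem D27751 : act 2 n23638 = n27751 := rfl
theorem F58456 : act 0 n27751 = n25254 := d1_1 D27751 (iv F54163) (iv F54167)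
theorem F58457 : act 1 n27751 = n23641 := d6_1 D27751 (iv D23641) (iv D19244) (iv F35875) D23638
theorem F58458 : act 3 n27751 = n26940 := d11_2 (iv F47868) D27751 F56153 F49499 (iv D23854) F36640 D22119 (iv F54164) F54163 F51778 (iv F47881) (iv D23856) (iv D19532) (iv F36632) D23852
theorem F58459 : act 6 n27751 = n27751 := d14_2 F47182 D27751 (iv D27751)
def n27752 : Q := act 5 n23638
theorem D27752 : act 5 n23638 = n27752 := rfl
theorem F58460 : act 1 n27752 = n26755 := d9_1 D27752 F55544 (iv D23634) (iv F35876) D23638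
theorem F58461 : act 3 n27752 = n26749 := d16_1 D27752 F55522 (iv F47868)
def n27753 : Q := act 0 n23639
theorem D27753 : act 0 n23639 = n27753 := rfl
theorem F58462 : act 3 n27753 = n26751 := d2_2 F58451 D27753 (iv F58450)
theorem F58463 : act 5 n27753 = n27036 := d4_2 (iv F47183) D27753 (iv D27036)
theorem F58464 : act 2 n27753 = n25246 := d23_1 (iv F58463) F51764 F40464 D21017 (iv F49251) (iv F55547) (iv D26757) (iv F49515) F49513 F43755 (iv F43884) (iv D22427) F30085 F34989 F23562 D13397 (iv F32164) D22844 D27036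
def n27754 : Q := act 2 n23639
theorem D27754 : act 2 n23639 = n27754 := rfl
theorem F58465 : act 0 n27754 = n25246 := d1_1 D27754 (iv F58464) (iv D27753)
theorem F58466 : act 1 n27754 = n23643 := d6_1 D27754 (iv D23643) (iv D19245) (iv F35878) D23639
theorem F58467 : act 5 n27754 = n27037 := d13_2 (iv F47183) D27754 (iv D27037)
theorem F58468 : act 3 n27754 = n24255 := d21_1 D27754 F48991 F47519 (iv F53755) F53756 D26751 (iv F58462) (iv D27753)
theorem F58469 : act 6 n27155 = n27754 := d24_0 F58467 F56481 F45131 (iv D21026) (iv D15842) (iv D11985) (iv F20982) (iv F27061) D20855 D25167 F51483 (iv F56868) (iv D27156) D27155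
def n27755 : Q := act 6 n23639
theorem D27755 : act 6 n23639 = n27755 := rfl
theorem F58470 : act 1 n27755 = n25172 := d10_1 D27755 (iv D25172) F40067 (iv F35879) D23639
theorem F58471 : act 2 n27755 = n27155 := d14_1 D27755 F58469 (iv D27754)
theorem F58472 : act 3 n27755 = n26578 := d17_1 D27755 (iv F58454) F58451
theorem F58473 : act 4 n27755 = n25846 := d19_1 D27755 (iv F57748) F57746
def n27756 : Q := act 2 n23648
theorem D27756 : act 2 n23648 = n27756 := rfl
theorem F58474 : act 0 n27756 = n27487 := d1_1 D27756 F57771 (iv F47209)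
theorem F58475 : act 4 n27756 = n27492 := d12_2 (iv F47210) D27756 F57788
theorem F58476 : act 5 n27756 = n27485 := d13_2 (iv F47211) D27756 (iv D27485)
def n27757 : Q := act 6 n23649
theorem D27757 : act 6 n23649 = n27757 := rfl
theorem F58477 : act 0 n27757 = n25826 := d5_1 D27757 (iv F54235) F54232
theorem F58478 : act 1 n27757 = n24928 := d10_1 D27757 F50672 (iv F50457) (iv D23650) D23649
theorem F58479 : act 2 n27757 = n24790 := d14_1 D27757 (iv D24790) (iv F47212)
theorem F58480 : act 4 n27757 = n23652 := d19_1 D27757 (iv D23652) (iv F47213)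
theorem F58481 : act 5 n27757 = n25824 := d20_1 D27757 F52997 (iv F54234) F54235 (iv D25826) F41571 (iv F47214)
def n27758 : Q := act 3 n23651
theorem D27758 : act 3 n23651 = n27758 := rfl
theorem F58482 : act 1 n27758 = n24891 := d7_1 D27758 F50581 (iv F47219)
theorem F58483 : act 5 n27758 = n24781 := d16_2 (iv F47221) D27758 F50354
def n27759 : Q := act 4 n23653
theorem D27759 : act 4 n23653 = n27759 := rfl
theorem F58484 : act 0 n27759 = n23660 := d3_1 D27759 (iv D23660) (iv F47227)
theorem F58485 : act 1 n27759 = n26620 := d8_1 D27759 (iv D26620) (iv F47228)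
theorem F58486 : act 2 n27759 = n23654 := d12_1 D27759 (iv D23654) D23653
theorem F58487 : act 5 n27759 = n23654 := d18_2 F47231 D27759 (iv D23654)
theorem F58488 : act 6 n27759 = n27466 := d19_2 (iv F47230) D27759 F57720
def n27760 : Q := act 0 n23655
theorem D27760 : act 0 n23655 = n27760 := rfl
theorem F58489 : act 1 n27760 = n26832 := d0_2 D23655 D27760 F55786 F52431 (iv F46826) F47248 (iv D23661) (iv D19265) (iv F35921)
theorem F58490 : act 2 n27760 = n26721 := d1_2 F55578 D27760 (iv F55576)
theorem F58491 : act 3 n27760 = n26618 := d2_2 (iv F47234) D27760 F55090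
theorem F58492 : act 5 n27760 = n26720 := d4_2 (iv F47235) D27760 F55400
theorem F58493 : act 6 n27760 = n26764 := d5_2 F58430 D27760 (iv F58426)
def n27761 : Q := act 4 n23659
theorem D27761 : act 4 n23659 = n27761 := rfl
theorem F58494 : act 0 n27761 = n26149 := d3_1 D27761 F53827 (iv F47436)
theorem F58495 : act 1 n27761 = n23660 := d8_1 D27761 (iv D23660) D23659
theorem F58496 : act 2 n27761 = n23672 := d12_1 D27761 (iv D23672) (iv F47242)
theorem F58497 : act 5 n27761 = n23669 := d18_2 (iv F47244) D27761 (iv D23669)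
def n27762 : Q := act 5 n23663
theorem D27762 : act 5 n23663 = n27762 := rfl
theorem F58498 : act 0 n27762 = n26818 := d4_1 D27762 (iv D26818) F47252
theorem F58499 : act 1 n27762 = n27720 := d9_1 D27762 F58331 (iv D23665) F35935 D23663
theorem F58500 : act 2 n27762 = n26201 := d13_1 D27762 (iv D26201) F47253
theorem F58501 : act 3 n27762 = n24337 := d16_1 D27762 F49206 (iv F47249)
theorem F58502 : act 4 n27762 = n26200 := d18_1 D27762 (iv D26200) (iv F47250)
theorem F58503 : act 6 n27762 = n24335 := d20_2 (iv F47251) D27762 F49199 (iv F43943) D26818 F55739 (iv D23664)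
def n27763 : Q := act 4 n23667
theorem D27763 : act 4 n23667 = n27763 := rfl
theorem F58504 : act 0 n27763 = n23669 := d3_1 D27763 (iv D23669) (iv F47261)
theorem F58505 : act 1 n27763 = n26626 := d8_1 D27763 (iv D26626) (iv F47262)
theorem F58506 : act 2 n27763 = n26150 := d12_1 D27763 F53829 F51394
theorem F58507 : act 5 n27763 = n26149 := d18_2 F47435 D27763 F53827
def n27764 : Q := act 6 n23672
theorem D27764 : act 6 n23672 = n27764 := rfl
theorem F58508 : act 0 n27764 = n26147 := d5_1 D27764 F53821 (iv F47272)
theorem F58509 : act 1 n27764 = n23685 := d10_1 D27764 (iv D23685) F35958 (iv F35946) (iv F47273)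
theorem F58510 : act 3 n27764 = n26146 := d17_1 D27764 F53817 (iv F47274)
theorem F58511 : act 4 n27764 = n23673 := d19_1 D27764 (iv D23673) D23672
theorem F58512 : act 5 n27764 = n25140 := d20_1 D27764 (iv F53830) (iv D26150) (iv F53821) F53820 D27254 F57142
def n27765 : Q := act 5 n23674
theorem D27765 : act 5 n23674 = n27765 := rfl
theorem F58513 : act 1 n27765 = n25128 := d9_1 D27765 F56470 (iv D27033) (iv F45029) (iv F47279)
theorem F58514 : act 2 n27765 = n26086 := d13_1 D27765 F53657 F47280
theorem F58515 : act 3 n27765 = n23675 := d16_1 D27765 (iv D23675) D23674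
theorem F58516 : act 4 n27765 = n26088 := d18_1 D27765 F53660 (iv F47281)
theorem F58517 : act 6 n27765 = n26675 := d22_1 D27765 (iv D26675) D26676 F55262
def n27766 : Q := act 2 n23679
theorem D27766 : act 2 n23679 = n27766 := rfl
theorem F58518 : act 0 n27766 = n27035 := d1_1 D27766 (iv F56480) F55671
theorem F58519 : act 1 n27766 = n25895 := d6_1 D27766 (iv F53177) F44128 F36068 D23679
theorem F58520 : act 4 n27766 = n25860 := d12_2 F57893 D27766 (iv F57892)
theorem F58521 : act 6 n27766 = n25854 := d14_2 (iv F55661) D27766 (iv F55657)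
theorem F58522 : act 3 n27766 = n26583 := d21_1 D27766 F54965 (iv F56484) (iv F56488) (iv F55692) F55691 (iv F55673) F55671
def n27767 : Q := act 5 n23679
theorem D27767 : act 5 n23679 = n27767 := rfl
theorem F58523 : act 3 n27767 = n27749 := d16_1 D27767 F58449 F58316
theorem F58524 : act 6 n27767 = n26796 := d22_1 D27767 (iv D26796) D26797 F55671
def n27768 : Q := act 0 n23680
theorem D27768 : act 0 n23680 = n27768 := rfl
theorem F58525 : act 1 n27768 = n26761 := d0_2 D23680 D27768 F55563 (iv F47365) F47364 D23711 F47402 (iv D23681) F35955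
theorem F58526 : act 3 n27768 = n26867 := d2_2 (iv F52308) D27768 F55894
theorem F58527 : act 6 n27768 = n27768 := d5_2 F47288 D27768 (iv D27768)
theorem F58528 : act 5 n27768 = n26865 := d24_1 F58527 F55888 (iv F47024) (iv F54700) F54698 (iv F43897) (iv D22433) (iv F35663) F35664 D19261 D23655 (iv F58430) F58429 (iv F58525)
def n27769 : Q := act 2 n23680
theorem D27769 : act 2 n23680 = n27769 := rfl
theorem F58529 : act 1 n27769 = n25250 := d6_1 D27769 F51771 (iv D23718) F36075 D23680
theorem F58530 : act 6 n27769 = n27769 := d14_2 F47288 D27769 (iv D27769)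
theorem F58531 : act 3 n27769 = n25251 := d21_1 D27769 F51774 (iv F54573) F54572 (iv F52087) (iv F55895) (iv F58526) (iv D27768)
def n27770 : Q := act 5 n23680
theorem D27770 : act 5 n23680 = n27770 := rfl
theorem F58532 : act 0 n27770 = n26865 := d4_1 D27770 (iv F58528) (iv D27768)
theorem F58533 : act 1 n27770 = n27767 := d9_1 D27770 (iv D27767) (iv D23679) (iv F35954) D23680
theorem F58534 : act 3 n27770 = n26864 := d16_1 D27770 F55885 (iv F52308)
theorem F58535 : act 6 n27770 = n26865 := d22_1 D27770 (iv F58528) F58527 (iv D27768)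
def n27771 : Q := act 0 n23682
theorem D27771 : act 0 n23682 = n27771 := rfl
theorem F58536 : act 3 n27771 = n25245 := d2_2 F47519 D27771 F51760
def n27772 : Q := act 6 n23682
theorem D27772 : act 6 n23682 = n27772 := rfl
theorem F58537 : act 3 n27772 = n25199 := d17_1 D27772 (iv F51603) F47519
theorem F58538 : act 5 n27772 = n25198 := d24_1 D27772 F51601 D25202 F51608 F50914 F50916 (iv F39838) F27221 (iv F26933) F26932 D15839 D21021 (iv F40483) D23682
def n27773 : Q := act 6 n23683
theorem D27773 : act 6 n23683 = n27773 := rfl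
theorem F58539 : act 0 n27773 = n23685 := d5_1 D27773 (iv D23685) (iv F47289)
theorem F58540 : act 2 n27773 = n27025 := d14_1 D27773 F56441 (iv F47290)
theorem F58541 : act 4 n27773 = n23684 := d19_1 D27773 (iv D23684) D23683
theorem F58542 : act 5 n27773 = n25255 := d20_1 D27773 F51782 F44929 D23685 (iv F47297) D25257 (iv F51790)
def n27774 : Q := act 1 n23684
theorem D27774 : act 1 n23684 = n27774 := rfl
theorem F58543 : act 3 n27774 = n26950 := d7_2 (iv F47293) D27774 (iv D26950)
def n27775 : Q := act 1 n23688
theorem D27775 : act 1 n23688 = n27775 := rfl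
theorem F58544 : act 0 n27775 = n26601 := d0_1 D27775 (iv F55041) F55040 (iv D22337) (iv F34626) (iv F43600) (iv F47869) F47870 F47311
theorem F58545 : act 3 n27775 = n23690 := d7_2 (iv F47308) D27775 (iv D23690)
theorem F58546 : act 4 n27775 = n26523 := d8_2 (iv F47309) D27775 (iv D26523)
theorem F58547 : act 5 n27775 = n26734 := d9_2 (iv F47310) D27775 (iv D26734) (iv D22301) (iv F42758)
theorem F58548 : act 6 n27775 = n26752 := d10_2 D23688 D27775 F55529 F44071 (iv F36003)
theorem F58549 : act 2 n26600 = n27775 := d23_1 F55028 (iv D27775) (iv F47311) (iv D23689) F36006 F27490 F21219 D15909 F27501 (iv F35503) (iv F32440) (iv F36627) F36625 D19529 (iv F36635) D22120 (iv F55022) (iv F55031) F55030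
def n27776 : Q := act 0 n23690
theorem D27776 : act 0 n23690 = n27776 := rfl
theorem F58550 : act 3 n27776 = n26601 := d2_2 F58545 D27776 (iv F58544)
theorem F58551 : act 6 n27776 = n27039 := d5_2 (iv F47316) D27776 (iv D27039)
theorem F58552 : act 2 n25198 = n27776 := d21_2 (iv D25197) D25198 F58550 (iv D26601) (iv F53167) F53166 (iv F47596) (iv F51598)
def n27777 : Q := act 2 n23690
theorem D27777 : act 2 n23690 = n27777 := rfl
theorem F58553 : act 0 n27777 = n25198 := d1_1 D27777 F58552 (iv D27776)
theorem F58554 : act 1 n27777 = n23692 := d6_1 D27777 (iv D23692) (iv D19301) (iv F36009) D23690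
theorem F58555 : act 6 n27777 = n27040 := d14_2 (iv F47316) D27777 (iv D27040)
theorem F58556 : act 3 n27777 = n24274 := d21_1 D27777 F49033 F47596 (iv F53166) F53167 D26601 (iv F58550) (iv D27776)
theorem F58557 : act 5 n27777 = n27146 := d24_1 (iv F58555) (iv D27146) D27147 F56833 (iv F51383) (iv D25138) (iv D20806) F26920 F20896 D11924 D15714 D20945 (iv F45148) (iv F56489)
theorem F58558 : act 0 n27146 = n27772 := d4_1 F58557 F58538 (iv F58553)
theorem F58559 : act 6 n27146 = n27771 := d22_3 (iv F56490) (iv F58555) F58557 (iv D27771)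
def n27778 : Q := act 5 n23690
theorem D27778 : act 5 n23690 = n27778 := rfl
theorem F58560 : act 1 n27778 = n25220 := d9_1 D27778 (iv D25220) F40289 (iv F36010) D23690
theorem F58561 : act 2 n27778 = n27146 := d13_1 D27778 (iv F58557) (iv D27777)
theorem F58562 : act 3 n27778 = n26734 := d16_1 D27778 (iv F58547) F58545
theorem F58563 : act 4 n27778 = n26089 := d18_1 D27778 (iv F57923) F57922
def n27779 : Q := act 2 n23691
theorem D27779 : act 2 n23691 = n27779 := rfl
theorem F58564 : act 0 n27779 = n25206 := d1_1 D27779 (iv F54339) (iv F54343)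
theorem F58565 : act 1 n27779 = n23694 := d6_1 D27779 (iv D23694) (iv D19302) (iv F36012) D23691
theorem F58566 : act 3 n27779 = n26958 := d11_2 (iv F47873) D27779 F56222 F49577 (iv D23858) F36647 D22330 (iv F54340) F54339 F51614 (iv F47891) (iv D23860) (iv D19535) (iv F36637) D23853
theorem F58567 : act 5 n27779 = n27779 := d13_2 F47317 D27779 (iv D27779)
def n27780 : Q := act 6 n23691
theorem D27780 : act 6 n23691 = n27780 := rfl
theorem F58568 : act 1 n27780 = n26607 := d10_1 D27780 F55051 (iv D23686) (iv F36013) D23691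
theorem F58569 : act 3 n27780 = n26599 := d17_1 D27780 F55026 (iv F47873)
def n27781 : Q := act 2 n23700
theorem D27781 : act 2 n23700 = n27781 := rfl
theorem F58570 : act 0 n27781 = n27563 := d1_1 D27781 F57947 (iv F47346)
theorem F58571 : act 4 n27781 = n27568 := d12_2 (iv F47347) D27781 F57964
theorem F58572 : act 6 n27781 = n27561 := d14_2 (iv F47348) D27781 (iv D27561)
def n27782 : Q := act 5 n23701
theorem D27782 : act 5 n23701 = n27782 := rfl
theorem F58573 : act 0 n27782 = n26076 := d4_1 D27782 F54415 F54412
theorem F58574 : act 1 n27782 = n24960 := d9_1 D27782 F50758 (iv F50565) (iv D23702) D23701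
theorem F58575 : act 2 n27782 = n24741 := d13_1 D27782 (iv D24741) (iv F47349)
theorem F58576 : act 4 n27782 = n23704 := d18_1 D27782 (iv D23704) (iv F47350)
theorem F58577 : act 6 n27782 = n26074 := d20_2 (iv F47351) D27782 F53623 (iv F54414) (iv F54415) (iv D26076) F41921
def n27783 : Q := act 3 n23703
theorem D27783 : act 3 n23703 = n27783 := rfl
theorem F58578 : act 1 n27783 = n24839 := d7_1 D27783 F50479 (iv F47356)
theorem F58579 : act 6 n27783 = n24732 := d17_2 (iv F47358) D27783 F50246
def n27784 : Q := act 4 n23705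
theorem D27784 : act 4 n23705 = n27784 := rfl
theorem F58580 : act 0 n27784 = n23712 := d3_1 D27784 (iv D23712) (iv F47364)
theorem F58581 : act 1 n27784 = n26763 := d8_1 D27784 (iv D26763) (iv F47365)
theorem F58582 : act 2 n27784 = n23706 := d12_1 D27784 (iv D23706) D23705
theorem F58583 : act 5 n27784 = n27380 := d18_2 (iv F47367) D27784 F57496
theorem F58584 : act 6 n27784 = n23706 := d19_2 F47368 D27784 (iv D23706)
def n27785 : Q := act 0 n23707
theorem D27785 : act 0 n23707 = n27785 := rfl
theorem F58585 : act 1 n27785 = n26867 := d0_2 D23707 D27785 F55894 F52305 (iv F46854) F47404 (iv D23713) (iv D19322) (iv F36055)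
theorem F58586 : act 2 n27785 = n26565 := d1_2 F55105 D27785 (iv F55103)
theorem F58587 : act 3 n27785 = n26761 := d2_2 (iv F47371) D27785 F55563
theorem F58588 : act 5 n27785 = n26621 := d4_2 F58355 D27785 (iv F58353)
theorem F58589 : act 6 n27785 = n26564 := d5_2 (iv F47372) D27785 F54890
def n27786 : Q := act 4 n23711
theorem D27786 : act 4 n23711 = n27786 := rfl
theorem F58590 : act 0 n27786 = n25914 := d3_1 D27786 F53238 (iv F47402)
theorem F58591 : act 1 n27786 = n23712 := d8_1 D27786 (iv D23712) D23711
theorem F58592 : act 2 n27786 = n23724 := d12_1 D27786 (iv D23724) (iv F47379)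
theorem F58593 : act 6 n27786 = n23721 := d19_2 (iv F47381) D27786 (iv D23721)
def n27787 : Q := act 6 n23715
theorem D27787 : act 6 n23715 = n27787 := rfl
theorem F58594 : act 0 n27787 = n26853 := d5_1 D27787 (iv D26853) F47390
theorem F58595 : act 1 n27787 = n27738 := d10_1 D27787 F58400 (iv D23717) F36073 D23715
theorem F58596 : act 2 n27787 = n25966 := d14_1 D27787 (iv D25966) F47391
theorem F58597 : act 3 n27787 = n24389 := d17_1 D27787 F49367 (iv F47387)
theorem F58598 : act 4 n27787 = n25965 := d19_1 D27787 (iv D25965) (iv F47388)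
theorem F58599 : act 5 n27787 = n24387 := d20_1 D27787 F49360 (iv F44089) D26853 F55847 (iv D23716) (iv F47389)
def n27788 : Q := act 4 n23719
theorem D27788 : act 4 n23719 = n27788 := rfl
theorem F58600 : act 0 n27788 = n23721 := d3_1 D27788 (iv D23721) (iv F47399)
theorem F58601 : act 1 n27788 = n26768 := d8_1 D27788 (iv D26768) (iv F47400)
theorem F58602 : act 2 n27788 = n25915 := d12_1 D27788 F53240 F51401
theorem F58603 : act 6 n27788 = n25914 := d19_2 F47401 D27788 F53238
def n27789 : Q := act 5 n23724
theorem D27789 : act 5 n23724 = n27789 := rfl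
theorem F58604 : act 0 n27789 = n25912 := d4_1 D27789 F53231 (iv F47417)
theorem F58605 : act 1 n27789 = n23737 := d9_1 D27789 (iv D23737) F36103 (iv F36087) (iv F47418)
theorem F58606 : act 3 n27789 = n25911 := d16_1 D27789 F53228 (iv F47419)
theorem F58607 : act 4 n27789 = n23725 := d18_1 D27789 (iv D23725) D23724
theorem F58608 : act 6 n27789 = n25142 := d20_2 F57103 D27789 F53241 (iv D25915) (iv F53231) F53232 D27239
def n27790 : Q := act 6 n23726
theorem D27790 : act 6 n23726 = n27790 := rfl
theorem F58609 : act 0 n27790 = n27767 := d5_1 D27790 F58524 F55666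
theorem F58610 : act 1 n27790 = n25159 := d10_1 D27790 (iv F56475) (iv D27034) F45055 (iv F47424)
theorem F58611 : act 2 n27790 = n25845 := d14_1 D27790 F53053 (iv F47425)
theorem F58612 : act 3 n27790 = n23728 := d17_1 D27790 (iv D23728) D23726
theorem F58613 : act 4 n27790 = n25848 := d19_1 D27790 F53057 F47426
theorem F58614 : act 5 n27790 = n26797 := d20_1 D27790 (iv D26797) D26796 (iv F58524) (iv D27767) F55661 F55659
def n27791 : Q := act 2 n23730
theorem D27791 : act 2 n23730 = n27791 := rfl
theorem F58615 : act 0 n27791 = n27038 := d1_1 D27791 (iv F56488) F55260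
theorem F58616 : act 1 n27791 = n26130 := d6_1 D27791 (iv F53766) F43989 (iv F36090) D23730
theorem F58617 : act 3 n27791 = n26737 := d11_2 F58301 D27791 F55471 (iv F56476) (iv F56480) F55673 (iv F55691) F55692 F56488 F56484 (iv F54965) (iv F58522) (iv D27766) (iv F58316) F58315
theorem F58618 : act 4 n27791 = n26101 := d12_2 F58069 D27791 (iv F58068)
theorem F58619 : act 5 n27791 = n26095 := d13_2 F55251 D27791 (iv F55247)
def n27792 : Q := act 6 n23730
theorem D27792 : act 6 n23730 = n27792 := rfl
theorem F58620 : act 0 n27792 = n27765 := d5_1 D27792 F58517 F55260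
theorem F58621 : act 3 n27792 = n27735 := d17_1 D27792 F58389 F58301
theorem F58622 : act 5 n27792 = n26676 := d20_1 D27792 (iv D26676) D26675 (iv F58517) (iv D27765) F55249 F55251
def n27793 : Q := act 0 n23733
theorem D27793 : act 0 n23733 = n27793 := rfl
theorem F58623 : act 1 n27793 = n26618 := d0_2 D23733 D27793 F55090 (iv F47228) F47227 D23659 F47436 (iv D23732) (iv F36099)
theorem F58624 : act 3 n27793 = n26832 := d2_2 (iv F52434) D27793 F55786
theorem F58625 : act 5 n27793 = n27793 := d4_2 F47437 D27793 (iv D27793)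
theorem F58626 : act 6 n26830 = n27793 := d24_0 F58625 F58623 (iv F58356) F58355 (iv D23707) (iv D19318) (iv F35813) F35812 D22246 F43362 (iv F54791) F54794 F47046 (iv F55780)
def n27794 : Q := act 2 n23733
theorem D27794 : act 2 n23733 = n27794 := rfl
theorem F58627 : act 1 n27794 = n25202 := d6_1 D27794 F51606 (iv D23666) (iv F36100) D23733
theorem F58628 : act 5 n27794 = n27794 := d13_2 F47437 D27794 (iv D27794)
theorem F58629 : act 3 n27794 = n25204 := d21_1 D27794 (iv F51649) (iv F54583) F54582 (iv F52126) (iv F55787) (iv F58624) (iv D27793)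
def n27795 : Q := act 6 n23733
theorem D27795 : act 6 n23733 = n27795 := rfl
theorem F58630 : act 0 n27795 = n26830 := d5_1 D27795 F58626 (iv D27793)
theorem F58631 : act 1 n27795 = n27792 := d10_1 D27795 (iv D27792) (iv D23730) (iv F36101) D23733
theorem F58632 : act 3 n27795 = n26829 := d17_1 D27795 (iv F55778) (iv F52434)
theorem F58633 : act 5 n27795 = n26830 := d22_2 F47437 D27795 F58626 (iv D27793)
def n27796 : Q := act 0 n23734
theorem D27796 : act 0 n23734 = n27796 := rfl
theorem F58634 : act 3 n27796 = n25197 := d2_2 F47596 D27796 F51598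
theorem F58635 : act 5 n27796 = n27155 := d22_0 F58469 F58467 F56482 D27796
def n27797 : Q := act 5 n23734
theorem D27797 : act 5 n23734 = n27797 := rfl
theorem F58636 : act 0 n27797 = n27155 := d4_1 D27797 (iv F58635) (iv D27796)
theorem F58637 : act 3 n27797 = n25248 := d16_1 D27797 F51768 F47596
theorem F58638 : act 6 n27797 = n25246 := d22_3 F58467 F56482 D27797 (iv F58465)
def n27798 : Q := act 5 n23735
theorem D27798 : act 5 n23735 = n27798 := rfl
theorem F58639 : act 0 n27798 = n23737 := d4_1 D27798 (iv D23737) (iv F47438)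
theorem F58640 : act 2 n27798 = n27028 := d13_1 D27798 F56451 (iv F47439)
theorem F58641 : act 4 n27798 = n23736 := d18_1 D27798 (iv D23736) D23735
theorem F58642 : act 6 n27798 = n25207 := d20_2 F51625 D27798 F51618 F44944 D23737 (iv F47446) D25209
def n27799 : Q := act 1 n23736
theorem D27799 : act 1 n23736 = n27799 := rfl
theorem F58643 : act 2 n27799 = n27774 := d6_2 (iv F47441) D27799 (iv D27774) F47292 (iv F45057)
theorem F58644 : act 3 n27799 = n26968 := d7_2 (iv F47442) D27799 (iv D26968)
def n27800 : Q := act 2 n23750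
theorem D27800 : act 2 n23750 = n27800 := rfl
theorem F58645 : act 0 n27800 = n23752 := d1_1 D27800 (iv D23752) (iv F47505)
theorem F58646 : act 3 n27800 = n23751 := d11_2 D23750 D27800 F47508 (iv F47643) F47642 F36565 F24984 D19372 D23752 (iv F47511) (iv F36568) (iv F47638) (iv D23797) F36373 F36418
theorem F58647 : act 6 n27800 = n25178 := d14_2 F49058 D27800 F51522
theorem F58648 : act 5 n23750 = n27800 := d23_0 (iv D27800) F47506 (iv F50066) (iv F56794) F56791 (iv F55737) (iv F58498) (iv D27762) (iv F47253) F47270 (iv D23671) (iv F46860) F46858 F35938 F24526 (iv F24527) (iv F24675) (iv F36215) (iv F47505)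
def n27801 : Q := act 4 n23750
theorem D27801 : act 4 n23750 = n27801 := rfl
theorem F58649 : act 0 n27801 = n23753 := d3_1 D27801 (iv D23753) (iv F47505)

end Cfsg.Agent.Helper17.SuzbTC
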