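import Cfsg.Agent.Helper17.SuzbTC.Facts6

set_option autoImplicit false
set_option linter.all false

noncomputable section

namespace Cfsg.Agent.Helper17.SuzbTC

theorem F58650 : act 1 n27801 = n24652 := d8_1 D27801 F50055 (iv F47506)
theorem F58651 : act 3 n27801 = n24653 := d15_1 D27801 F50059 (iv F44210) F44211 D23750
def n27802 : Q := act 4 n23752
theorem D27802 : act 4 n23752 = n27802 := rfl
theorem F58652 : act 1 n27802 = n27254 := d8_1 D27802 F57141 (iv F47510)
theorem F58653 : act 2 n27802 = n23753 := d12_1 D27802 (iv D23753) D23752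
theorem F58654 : act 3 n27802 = n26823 := d15_1 D27802 F55752 (iv F44214) F44215 F47511
theorem F58655 : act 5 n27802 = n23753 := d18_2 F47512 D27802 (iv D23753)
theorem F58656 : act 6 n27802 = n27255 := d19_2 F47513 D27802 F57144
def n27803 : Q := act 6 n23753
theorem D27803 : act 6 n23753 = n27803 := rfl
theorem F58657 : act 1 n27803 = n23765 := d10_1 D27803 (iv D23765) F36245 (iv F36221) (iv F47514)
theorem F58658 : act 2 n27803 = n27255 := d14_1 D27803 (iv F58656) F58653
theorem F58659 : act 3 n27803 = n26824 := d17_1 D27803 (iv D26824) (iv F47515)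
theorem F58660 : act 4 n27803 = n23754 := d19_1 D27803 (iv D23754) D23753
def n27804 : Q := act 3 n23756
theorem D27804 : act 3 n23756 = n27804 := rfl
theorem F58661 : act 0 n27804 = n23758 := d2_1 D27804 (iv D23758) D23756
theorem F58662 : act 1 n27804 = n27771 := d7_1 D27804 F58536 F51761
theorem F58663 : act 2 n27804 = n26518 := d11_1 D27804 F54736 (iv F43985) (iv F44214) F44213 (iv F47523) (iv D23757) D23758 (iv F54714) F54715 (iv F50908) (iv F55955) F55954 (iv F51755) (iv F51759)
theorem F58664 : act 6 n27804 = n26520 := d17_2 F56136 D27804 F56138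
def n27805 : Q := act 4 n23758
theorem D27805 : act 4 n23758 = n27805 := rfl
theorem F58665 : act 1 n27805 = n23761 := d8_1 D27805 (iv D23761) (iv F47524)
def n27806 : Q := act 1 n23762
theorem D27806 : act 1 n23762 = n27806 := rfl
theorem F58666 : act 2 n27806 = n23806 := d6_2 (iv F47532) D27806 (iv F47754) (iv F47755) (iv D23817)
theorem F58667 : act 3 n27806 = n25020 := d7_2 F49394 D27806 (iv F50964)
theorem F58668 : act 4 n27806 = n23764 := d8_2 (iv F47533) D27806 (iv D23764)
theorem F58669 : act 5 n27806 = n23805 := d9_2 D23762 D27806 (iv F51847) F51849 F47525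
theorem F58670 : act 0 n27806 = n25232 := d23_3 D19471 (iv F47532) D27806 F51707 F50977 (iv D21003) F27357 (iv D11974) D11973 F21128 F32886 (iv D9758) F7206 F3595 (iv F3724) (iv F6213) (iv F12727) (iv F19780) (iv F24924)
theorem F58671 : act 6 n27806 = n25019 := d24_3 (iv D23763) D23762 D27806 F50962 F39110 F39707 (iv D15668) F21032 (iv F20891) (iv F32548) (iv F22714) D17559 D22657 F47538
def n27807 : Q := act 1 n23766
theorem D27807 : act 1 n23766 = n27807 := rfl
theorem F58672 : act 2 n27807 = n25108 := d6_2 (iv F47548) D27807 F51279 F50960 F40350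
theorem F58673 : act 3 n27807 = n25109 := d7_2 F49409 D27807 F51281
theorem F58674 : act 4 n27807 = n23767 := d8_2 (iv F47549) D27807 (iv D23767)
theorem F58675 : act 5 n27807 = n26814 := d9_2 D23766 D27807 F55722 F51513 F44216
theorem F58676 : act 6 n27807 = n25108 := d10_2 (iv F47550) D27807 F51279 (iv F58671) (iv D27806)
def n27808 : Q := act 0 n23767
theorem D27808 : act 0 n23767 = n27808 := rfl
theorem F58677 : act 1 n27808 = n24279 := d0_2 D23767 D27808 (iv F51609) (iv D25203) F40231 (iv F30885) (iv F44634) F44635 (iv F36255)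
theorem F58678 : act 3 n27808 = n27029 := d2_2 (iv F47551) D27808 (iv D27029)
theorem F58679 : act 5 n27808 = n24271 := d4_2 F51520 D27808 (iv F51518)
def n27809 : Q := act 2 n23774
theorem D27809 : act 2 n23774 = n27809 := rfl
theorem F58680 : act 0 n27809 = n23776 := d1_1 D27809 (iv D23776) (iv F47582)
theorem F58681 : act 3 n27809 = n23775 := d11_2 D23774 D27809 F47585 (iv F47695) (iv D23811) F36434 F24922 D19408 D23776 (iv F47588) (iv F36437) (iv F47700) F47699 F36483 F36486
theorem F58682 : act 5 n27809 = n25225 := d13_2 F49015 D27809 F51678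
theorem F58683 : act 6 n23774 = n27809 := d20_0 F58682 F51679 (iv D23778) F47590 (iv F47589) (iv F49016) F49015
def n27810 : Q := act 4 n23774
theorem D27810 : act 4 n23774 = n27810 := rfl
theorem F58684 : act 0 n27810 = n23777 := d3_1 D27810 (iv D23777) (iv F47582)
theorem F58685 : act 1 n27810 = n24597 := d8_1 D27810 F49919 (iv F47583)
theorem F58686 : act 3 n27810 = n24598 := d15_1 D27810 F49923 (iv F44375) F44376 D23774
def n27811 : Q := act 4 n23776
theorem D27811 : act 4 n23776 = n27811 := rfl
theorem F58687 : act 1 n27811 = n27239 := d8_1 D27811 F57102 (iv F47587)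
theorem F58688 : act 2 n27811 = n23777 := d12_1 D27811 (iv D23777) D23776
theorem F58689 : act 3 n27811 = n26859 := d15_1 D27811 F55862 (iv F44383) F44384 F47588
theorem F58690 : act 5 n27811 = n27240 := d18_2 F47589 D27811 F57105
theorem F58691 : act 6 n27811 = n23777 := d19_2 F47590 D27811 (iv D23777)
def n27812 : Q := act 5 n23777
theorem D27812 : act 5 n23777 = n27812 := rfl
theorem F58692 : act 1 n27812 = n23789 := d9_1 D27812 (iv D23789) F36345 (iv F36322) (iv F47591)
theorem F58693 : act 2 n27812 = n27240 := d13_1 D27812 (iv F58690) F58688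
theorem F58694 : act 3 n27812 = n26858 := d16_1 D27812 (iv D26858) (iv F47592)
theorem F58695 : act 4 n27812 = n23778 := d18_1 D27812 (iv D23778) D23777
def n27813 : Q := act 3 n23780
theorem D27813 : act 3 n23780 = n27813 := rfl
theorem F58696 : act 0 n27813 = n23782 := d2_1 D27813 (iv D23782) D23780
theorem F58697 : act 1 n27813 = n27796 := d7_1 D27813 F58634 F51599
theorem F58698 : act 2 n27813 = n26547 := d11_1 D27813 F54833 (iv F44123) (iv F44383) F44382 F47599 (iv D23781) D23782 (iv F54810) F54811 (iv F50843) (iv F56032) F56031 (iv F51594) (iv F51597)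
theorem F58699 : act 5 n27813 = n26549 := d16_2 F56205 D27813 F56206
def n27814 : Q := act 4 n23782
theorem D27814 : act 4 n23782 = n27814 := rfl
theorem F58700 : act 1 n27814 = n23785 := d8_1 D27814 (iv D23785) (iv F47601)
def n27815 : Q := act 1 n23787
theorem D27815 : act 1 n23787 = n27815 := rfl
theorem F58701 : act 2 n27815 = n23832 := d6_2 (iv F47614) D27815 F47780 (iv F47652) F47651
theorem F58702 : act 3 n27815 = n25041 := d7_2 F49427 D27815 F51041
theorem F58703 : act 4 n27815 = n23788 := d8_2 (iv F47615) D27815 (iv D23788)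
theorem F58704 : act 6 n27815 = n23831 := d10_2 D23787 D27815 (iv F51887) F51889 F47602
theorem F58705 : act 0 n27815 = n25184 := d23_3 F36599 (iv F47614) D27815 (iv D25184) (iv D20894) (iv D15660) F21025 (iv F19823) F19825 D14247 D19442 (iv F36545) (iv F47619) (iv D23788) F36343 F36125 F36133 (iv F36601) F36600
theorem F58706 : act 5 n25040 = n27815 := d24_1 (iv F51039) (iv D27815) (iv D23787) D23786 (iv F47612) (iv D22702) (iv D17735) F22843 (iv F32780) F20977 (iv F21114) D15796 (iv F39751) (iv F39187)
def n27816 : Q := act 1 n23790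
theorem D27816 : act 1 n23790 = n27816 := rfl
theorem F58707 : act 2 n27816 = n25080 := d6_2 (iv F47625) D27816 F51184 F51037 F40128
theorem F58708 : act 3 n27816 = n25081 := d7_2 F49437 D27816 F51186
theorem F58709 : act 4 n27816 = n23791 := d8_2 (iv F47626) D27816 (iv D23791)
theorem F58710 : act 5 n27816 = n25080 := d9_2 (iv F47627) D27816 F51184 F58706 (iv D27815)
theorem F58711 : act 6 n27816 = n26707 := d10_2 D23790 D27816 F55355 F51673 F44377
def n27817 : Q := act 0 n23791
theorem D27817 : act 0 n23791 = n27817 := rfl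
theorem F58712 : act 1 n27817 = n24261 := d0_2 D23791 D27817 F56263 (iv D25252) F40468 (iv F31115) (iv F44737) F44738 (iv F36355)
theorem F58713 : act 3 n27817 = n27031 := d2_2 (iv F47628) D27817 (iv D27031)
theorem F58714 : act 6 n27817 = n24252 := d5_2 F51676 D27817 (iv F51674)
def n27818 : Q := act 1 n23803
theorem D27818 : act 1 n23803 = n27818 := rfl
theorem F58715 : act 0 n27818 = n27818 := d0_1 D27818 (iv D27818) F47666 (iv D23788) F36343 F24804 (iv F36343) D23788 (iv F47666)
theorem F58716 : act 3 n27818 = n27134 := d7_2 (iv F47668) D27818 (iv D27134)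
theorem F58717 : act 6 n27818 = n25262 := d10_2 (iv F47669) D27818 (iv D25262) F40498 (iv F45486)
def n27819 : Q := act 1 n23816
theorem D27819 : act 1 n23816 = n27819 := rfl
theorem F58718 : act 4 n27819 = n25233 := d8_2 (iv F47722) D27819 (iv D25233)
theorem F58719 : act 5 n27819 = n24280 := d9_2 (iv F47723) D27819 F49048 F48939 F48935
theorem F58720 : act 6 n27819 = n25203 := d10_2 (iv F47724) D27819 (iv D25203) (iv F40239) (iv F43804)
def n27820 : Q := act 3 n23816
theorem D27820 : act 3 n23816 = n27820 := rfl
theorem F58721 : act 0 n27820 = n23821 := d2_1 D27820 (iv D23821) (iv F47721)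
theorem F58722 : act 2 n27820 = n24335 := d11_1 D27820 (iv D24335) F37775 (iv F32937) F24693 D14272 D19475 D23821 (iv F47740) F49195 F49193 F37908 F36238 D19470 D23816
theorem F58723 : act 4 n27820 = n26203 := d15_2 (iv F47722) D27820 F53972 F42125 (iv F40365)
theorem F58724 : act 5 n27820 = n25056 := d16_2 (iv F47723) D27820 F51099
theorem F58725 : act 6 n27820 = n26201 := d17_2 (iv F47724) D27820 F53965
def n27821 : Q := act 6 n23821
theorem D27821 : act 6 n23821 = n27821 := rfl
theorem F58726 : act 0 n27821 = n26201 := d5_1 D27821 (iv F58725) F58721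
theorem F58727 : act 2 n27821 = n26818 := d14_1 D27821 F55739 F47740
theorem F58728 : act 3 n27821 = n23822 := d17_1 D27821 (iv D23822) D23821
theorem F58729 : act 4 n27821 = n26197 := d19_1 D27821 F53956 F53936
theorem F58730 : act 5 n27821 = n26196 := d20_1 D27821 F53953 (iv F58724) F58725 (iv D26201) F42119 (iv F47739)
def n27822 : Q := act 1 n23822
theorem D27822 : act 1 n23822 = n27822 := rfl
theorem F58731 : act 0 n27822 = n27822 := d0_1 D27822 (iv D27822) F47741 F43804 F40238 F40235 (iv F40238) (iv F43804) (iv F47741)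
theorem F58732 : act 4 n27822 = n25235 := d8_2 (iv F47743) D27822 (iv D25235)
theorem F58733 : act 5 n27822 = n27138 := d9_2 (iv F47744) D27822 (iv D27138) F45526 (iv F43798)
def n27823 : Q := act 1 n23830
theorem D27823 : act 1 n23830 = n27823 := rfl
theorem F58734 : act 0 n27823 = n27823 := d0_1 D27823 (iv D27823) F47774 (iv D23764) F36239 F24694 (iv F36239) D23764 (iv F47774)
theorem F58735 : act 2 n27823 = n27822 := d6_2 (iv F47775) D27823 (iv D27822) F47742 (iv F36535)
theorem F58736 : act 3 n27823 = n27136 := d7_2 (iv F47776) D27823 (iv D27136)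
theorem F58737 : act 5 n27823 = n25214 := d9_2 (iv F47777) D27823 (iv D25214) F40260 (iv F45511)
theorem F58738 : act 6 n27823 = n27822 := d10_2 D23830 D27823 (iv D27822) (iv D23822) (iv F36533)
def n27824 : Q := act 1 n23838
theorem D27824 : act 1 n23838 = n27824 := rfl
theorem F58739 : act 4 n27824 = n25185 := d8_2 (iv F47810) D27824 (iv D25185)
theorem F58740 : act 5 n27824 = n25252 := d9_2 (iv F47811) D27824 (iv D25252) (iv F40474) (iv F43251)
theorem F58741 : act 6 n27824 = n24260 := d10_2 (iv F47812) D27824 F49006 (iv F48916) F48881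
def n27825 : Q := act 3 n23838
theorem D27825 : act 3 n23838 = n27825 := rfl
theorem F58742 : act 0 n27825 = n23842 := d2_1 D27825 (iv D23842) (iv F47809)
theorem F58743 : act 2 n27825 = n24387 := d11_1 D27825 (iv D24387) F37872 (iv F32647) F24802 D14321 D19517 D23842 (iv F47828) F49357 F49354 F37920 F36337 D19512 D23838
theorem F58744 : act 4 n27825 = n25968 := d15_2 (iv F47810) D27825 F53380 F41784 (iv F40141)
theorem F58745 : act 5 n27825 = n25966 := d16_2 (iv F47811) D27825 F53373
theorem F58746 : act 6 n27825 = n25091 := d17_2 (iv F47812) D27825 F51224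
def n27826 : Q := act 5 n23842
theorem D27826 : act 5 n23842 = n27826 := rfl
theorem F58747 : act 0 n27826 = n25966 := d4_1 D27826 (iv F58745) F58742
theorem F58748 : act 2 n27826 = n26853 := d13_1 D27826 F55847 F47828
theorem F58749 : act 3 n27826 = n23843 := d16_1 D27826 (iv D23843) D23842
theorem F58750 : act 4 n27826 = n25962 := d18_1 D27826 F53364 F53344
theorem F58751 : act 6 n27826 = n25961 := d20_2 (iv F47827) D27826 F53361 (iv F58746) F58745 (iv D25966) F41778
def n27827 : Q := act 1 n23843
theorem D27827 : act 1 n23843 = n27827 := rfl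
theorem F58752 : act 0 n27827 = n27827 := d0_1 D27827 (iv D27827) F47829 F43251 F40472 F40052 (iv F40472) (iv F43251) (iv F47829)
theorem F58753 : act 2 n27827 = n27818 := d6_2 (iv F47830) D27827 (iv D27818) F47667 (iv F36595)
theorem F58754 : act 4 n27827 = n25187 := d8_2 (iv F47831) D27827 (iv D25187)
theorem F58755 : act 5 n27827 = n27818 := d9_2 D23843 D27827 (iv D27818) (iv D23803) (iv F36592)
theorem F58756 : act 6 n27827 = n27140 := d10_2 (iv F47832) D27827 (iv D27140) F45536 (iv F43245)
def n27828 : Q := act 2 n23844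
theorem D27828 : act 2 n23844 = n27828 := rfl
theorem F58757 : act 0 n27828 = n23845 := d1_1 D27828 (iv D23845) D23844
theorem F58758 : act 4 n27828 = n23854 := d12_2 (iv F47834) D27828 (iv D23854)
theorem F58759 : act 6 n27828 = n27828 := d14_2 F47835 D27828 (iv D27828)
theorem F58760 : act 3 n27828 = n26290 := d21_1 D27828 (iv D26290) F42252 D21800 F44763 (iv D22734) (iv F36613) D23844
def n27829 : Q := act 5 n23844
theorem D27829 : act 5 n23844 = n27829 := rfl
theorem F58761 : act 0 n27829 = n23846 := d4_1 D27829 (iv D23846) D23844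
theorem F58762 : act 3 n27829 = n26597 := d16_1 D27829 (iv D26597) (iv F47833)
theorem F58763 : act 4 n27829 = n23855 := d18_1 D27829 (iv D23855) (iv F47834)
theorem F58764 : act 6 n27829 = n23846 := d22_1 D27829 (iv D23846) F36615 D23844
def n27830 : Q := act 3 n23845
theorem D27830 : act 3 n23845 = n27830 := rfl
theorem F58765 : act 0 n27830 = n26290 := d2_1 D27830 (iv F58760) F58757
theorem F58766 : act 1 n27830 = n23882 := d7_1 D27830 (iv D23882) (iv F47837)
theorem F58767 : act 2 n27830 = n26289 := d11_1 D27830 F54168 D26292 F55016 (iv D26596) (iv F47833) D27828 F58760 (iv D26290) F42252 D21800 F44763 (iv D22734) (iv F36613) D23845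
theorem F58768 : act 4 n27830 = n27751 := d15_2 (iv F47838) D27830 F58458 F56154 (iv D23856)
theorem F58769 : act 6 n27830 = n27830 := d17_2 F47839 D27830 (iv D27830)
def n27831 : Q := act 5 n23845
theorem D27831 : act 5 n23845 = n27831 := rfl
theorem F58770 : act 2 n27831 = n23846 := d13_1 D27831 (iv D23846) D23845
theorem F58771 : act 4 n27831 = n23857 := d18_1 D27831 (iv D23857) (iv F47838)
def n27832 : Q := act 2 n23847
theorem D27832 : act 2 n23847 = n27832 := rfl
theorem F58772 : act 0 n27832 = n23848 := d1_1 D27832 (iv D23848) D23847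
theorem F58773 : act 4 n27832 = n23858 := d12_2 (iv F47845) D27832 (iv D23858)
theorem F58774 : act 5 n27832 = n27832 := d13_2 F47846 D27832 (iv D27832)
theorem F58775 : act 3 n27832 = n26366 := d21_1 D27832 (iv D26366) F42371 D21852 F44769 (iv D22736) (iv F36616) D23847
def n27833 : Q := act 6 n23847
theorem D27833 : act 6 n23847 = n27833 := rfl
theorem F58776 : act 0 n27833 = n23849 := d5_1 D27833 (iv D23849) D23847
theorem F58777 : act 1 n27833 = n27829 := d10_1 D27833 F58764 F47840 (iv F43586) (iv F47843)
theorem F58778 : act 3 n27833 = n26747 := d17_1 D27833 (iv D26747) (iv F47844)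
theorem F58779 : act 4 n27833 = n23859 := d19_1 D27833 (iv D23859) (iv F47845)
theorem F58780 : act 5 n27833 = n23849 := d22_2 F47846 D27833 (iv D23849) D23847
def n27834 : Q := act 3 n23848
theorem D27834 : act 3 n23848 = n27834 := rfl
theorem F58781 : act 0 n27834 = n26366 := d2_1 D27834 (iv F58775) F58772
theorem F58782 : act 1 n27834 = n23891 := d7_1 D27834 (iv D23891) (iv F47847)
theorem F58783 : act 2 n27834 = n26365 := d11_1 D27834 F54344 D26368 F55508 (iv D26746) (iv F47844) D27832 F58775 (iv D26366) F42371 D21852 F44769 (iv D22736) (iv F36616) D23848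
theorem F58784 : act 4 n27834 = n27779 := d15_2 (iv F47848) D27834 F58566 F56223 (iv D23860)
theorem F58785 : act 5 n27834 = n27834 := d16_2 F47849 D27834 (iv D27834)
def n27835 : Q := act 6 n23848
theorem D27835 : act 6 n23848 = n27835 := rfl
theorem F58786 : act 2 n27835 = n23849 := d14_1 D27835 (iv D23849) D23848
theorem F58787 : act 4 n27835 = n23861 := d19_1 D27835 (iv D23861) (iv F47848)
def n27836 : Q := act 5 n23854
theorem D27836 : act 5 n23854 = n27836 := rfl
theorem F58788 : act 0 n27836 = n23857 := d4_1 D27836 (iv D23857) (iv F47874)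
theorem F58789 : act 2 n27836 = n23855 := d13_1 D27836 (iv D23855) D23854
theorem F58790 : act 6 n27836 = n23857 := d22_1 D27836 (iv D23857) F36644 (iv F47874)
theorem F58791 : act 1 n27836 = n26786 := d23_2 D23855 (iv F58789) (iv D26786) (iv F48945) (iv F55157) (iv D26644) (iv F48249) (iv D23966) (iv D19660) (iv D14448) F19969 (iv D11244) F17253 (iv D8853) (iv F13224) (iv F13230) (iv F19868) D14341 D19531
def n27837 : Q := act 5 n23856
theorem D27837 : act 5 n23856 = n27837 := rfl
theorem F58792 : act 2 n27837 = n26949 := d13_1 D27837 (iv D26949) (iv F47881)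
theorem F58793 : act 3 n27837 = n23857 := d16_1 D27837 (iv D23857) D23856
def n27838 : Q := act 6 n23858
theorem D27838 : act 6 n23858 = n27838 := rfl
theorem F58794 : act 0 n27838 = n23861 := d5_1 D27838 (iv D23861) (iv F47883)
theorem F58795 : act 2 n27838 = n23859 := d14_1 D27838 (iv D23859) D23858
theorem F58796 : act 5 n27838 = n23861 := d22_2 F47884 D27838 (iv D23861) (iv F47883)
theorem F58797 : act 1 n26645 = n27838 := d6_5 F58795 F47886 (iv F58789) F58791 F55631
def n27839 : Q := act 6 n23860
theorem D27839 : act 6 n23860 = n27839 := rfl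
theorem F58798 : act 2 n27839 = n26967 := d14_1 D27839 (iv D26967) (iv F47891)
theorem F58799 : act 3 n27839 = n23861 := d17_1 D27839 (iv D23861) D23860
def n27840 : Q := act 3 n23862
theorem D27840 : act 3 n23862 = n27840 := rfl
theorem F58800 : act 0 n27840 = n23970 := d2_1 D27840 (iv D23970) (iv F47893)
theorem F58801 : act 1 n27840 = n24459 := d7_1 D27840 (iv D24459) (iv F47894)
theorem F58802 : act 4 n27840 = n27309 := d15_2 (iv F47895) D27840 F57313 F46094 (iv F36771)
theorem F58803 : act 5 n27840 = n23864 := d16_2 (iv F47896) D27840 (iv D23864)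
def n27841 : Q := act 3 n23863
theorem D27841 : act 3 n23863 = n27841 := rfl
theorem F58804 : act 0 n27841 = n23995 := d2_1 D27841 (iv D23995) (iv F47897)
theorem F58805 : act 1 n27841 = n24461 := d7_1 D27841 (iv D24461) (iv F47898)
theorem F58806 : act 4 n27841 = n27401 := d15_2 (iv F47899) D27841 F57558 F46282 (iv F36775)
theorem F58807 : act 6 n27841 = n23866 := d17_2 (iv F47900) D27841 (iv D23866)
def n27842 : Q := act 2 n23864
theorem D27842 : act 2 n23864 = n27842 := rfl
theorem F58808 : act 0 n27842 = n24706 := d1_1 D27842 F50193 (iv F47901)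
theorem F58809 : act 4 n27842 = n24705 := d12_2 (iv F47903) D27842 F50190
def n27843 : Q := act 6 n23864
theorem D27843 : act 6 n23864 = n27843 := rfl
theorem F58810 : act 0 n27843 = n27321 := d5_1 D27843 (iv D27321) (iv F47901)
theorem F58811 : act 3 n27843 = n23865 := d17_1 D27843 (iv D23865) D23864
theorem F58812 : act 4 n27843 = n27310 := d19_1 D27843 (iv D27310) (iv F47903)
theorem F58813 : act 1 n26048 = n27843 := d7_3 F58811 (iv F47907) (iv F53548)
def n27844 : Q := act 2 n23866
theorem D27844 : act 2 n23866 = n27844 := rfl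
theorem F58814 : act 0 n27844 = n24755 := d1_1 D27844 F50299 (iv F47908)
theorem F58815 : act 4 n27844 = n24754 := d12_2 (iv F47910) D27844 F50296
def n27845 : Q := act 5 n23866
theorem D27845 : act 5 n23866 = n27845 := rfl
theorem F58816 : act 0 n27845 = n27411 := d4_1 D27845 (iv D27411) (iv F47908)
theorem F58817 : act 3 n27845 = n23867 := d16_1 D27845 (iv D23867) D23866
theorem F58818 : act 4 n27845 = n27400 := d18_1 D27845 (iv D27400) (iv F47910)
theorem F58819 : act 1 n26279 = n27845 := d7_3 F58817 (iv F47914) (iv F54139)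
def n27846 : Q := act 5 n23868
theorem D27846 : act 5 n23868 = n27846 := rfl
theorem F58820 : act 0 n27846 = n24110 := d4_1 D27846 (iv D24110) (iv F47915)
theorem F58821 : act 1 n27846 = n23988 := d9_1 D27846 F48310 (iv D23895) F36718 D23868
theorem F58822 : act 3 n27846 = n23878 := d16_1 D27846 (iv D23878) (iv F47916)
theorem F58823 : act 4 n27846 = n24201 := d18_1 D27846 F48843 (iv F47917)
theorem F58824 : act 6 n27846 = n23982 := d20_2 (iv F47918) D27846 (iv F48295) F47921 D24110 F48630 (iv D23871)
def n27847 : Q := act 2 n23869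
theorem D27847 : act 2 n23869 = n27847 := rfl
theorem F58825 : act 0 n27847 = n23870 := d1_1 D27847 (iv D23870) D23869
theorem F58826 : act 4 n27847 = n24364 := d12_2 (iv F47920) D27847 F49279
theorem F58827 : act 5 n27847 = n26566 := d13_2 (iv F48295) D27847 F54899
theorem F58828 : act 6 n27847 = n24109 := d14_2 (iv F47921) D27847 (iv D24109)
def n27848 : Q := act 3 n23870
theorem D27848 : act 3 n23870 = n27848 := rfl
theorem F58829 : act 1 n27848 = n24471 := d7_1 D27848 (iv D24471) (iv F47922)
def n27849 : Q := act 5 n23870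
theorem D27849 : act 5 n23870 = n27849 := rfl
theorem F58830 : act 0 n27849 = n26566 := d4_1 D27849 (iv F58827) F58825
theorem F58831 : act 2 n27849 = n23871 := d13_1 D27849 (iv D23871) D23870
theorem F58832 : act 4 n27849 = n24966 := d18_1 D27849 (iv D24966) (iv F47923)
def n27850 : Q := act 6 n23872
theorem D27850 : act 6 n23872 = n27850 := rfl
theorem F58833 : act 0 n27850 = n24059 := d5_1 D27850 (iv D24059) (iv F47927)
theorem F58834 : act 1 n27850 = n24013 := d10_1 D27850 F48379 (iv D23897) F36740 D23872
theorem F58835 : act 3 n27850 = n23887 := d17_1 D27850 (iv D23887) (iv F47928)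
theorem F58836 : act 4 n27850 = n24225 := d19_1 D27850 F48901 (iv F47929)
theorem F58837 : act 5 n27850 = n24007 := d20_1 D27850 F48362 F47933 D24059 F48509 (iv D23875) (iv F47930)
def n27851 : Q := act 2 n23873
theorem D27851 : act 2 n23873 = n27851 := rfl
theorem F58838 : act 0 n27851 = n23874 := d1_1 D27851 (iv D23874) D23873
theorem F58839 : act 4 n27851 = n24306 := d12_2 (iv F47932) D27851 F49117
theorem F58840 : act 5 n27851 = n24058 := d13_2 (iv F47933) D27851 (iv D24058)
theorem F58841 : act 6 n27851 = n26722 := d14_2 F48362 D27851 F55408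
def n27852 : Q := act 3 n23874
theorem D27852 : act 3 n23874 = n27852 := rfl
theorem F58842 : act 1 n27852 = n24472 := d7_1 D27852 (iv D24472) (iv F47934)
def n27853 : Q := act 6 n23874
theorem D27853 : act 6 n23874 = n27853 := rfl
theorem F58843 : act 0 n27853 = n26722 := d5_1 D27853 (iv F58841) F58838
theorem F58844 : act 2 n27853 = n23875 := d14_1 D27853 (iv D23875) D23874
theorem F58845 : act 4 n27853 = n24967 := d19_1 D27853 (iv D24967) (iv F47935)
def n27854 : Q := act 5 n23877
theorem D27854 : act 5 n23877 = n27854 := rfl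
theorem F58846 : act 2 n27854 = n23878 := d13_1 D27854 (iv D23878) D23877
theorem F58847 : act 4 n27854 = n23932 := d18_1 D27854 (iv F48115) (iv F47944)
def n27855 : Q := act 5 n23880
theorem D27855 : act 5 n23880 = n27855 := rfl
theorem F58848 : act 0 n27855 = n23883 := d4_1 D27855 (iv D23883) (iv F47951)
theorem F58849 : act 2 n27855 = n23881 := d13_1 D27855 (iv D23881) D23880
theorem F58850 : act 4 n27855 = n23944 := d18_1 D27855 (iv D23944) (iv F47952)
theorem F58851 : act 6 n27855 = n27854 := d22_1 D27855 (iv D27854) F47945 (iv F47951)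
def n27856 : Q := act 5 n23882
theorem D27856 : act 5 n23882 = n27856 := rfl
theorem F58852 : act 2 n27856 = n27484 := d13_1 D27856 (iv D27484) F54857
theorem F58853 : act 3 n27856 = n23883 := d16_1 D27856 (iv D23883) D23882
theorem F58854 : act 4 n27856 = n27715 := d18_1 D27856 (iv F58313) (iv F54856)
theorem F58855 : act 1 n27245 = n27856 := d8_3 F58854 (iv D27715) (iv F57111)
def n27857 : Q := act 6 n23883
theorem D27857 : act 6 n23883 = n27857 := rfl
theorem F58856 : act 0 n27857 = n27854 := d5_1 D27857 (iv F58851) F58848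
theorem F58857 : act 2 n27857 = n23884 := d14_1 D27857 (iv D23884) (iv F47957)
theorem F58858 : act 4 n27857 = n23946 := d19_1 D27857 (iv D23946) (iv F47958)
theorem F58859 : act 5 n27857 = n24645 := d20_1 D27857 F50035 D27855 F58851 (iv D27854) F47945 D23883
def n27858 : Q := act 6 n23886
theorem D27858 : act 6 n23886 = n27858 := rfl
theorem F58860 : act 2 n27858 = n23887 := d14_1 D27858 (iv D23887) D23886
theorem F58861 : act 4 n27858 = n23941 := d19_1 D27858 (iv F48149) (iv F47967)
def n27859 : Q := act 6 n23889
theorem D27859 : act 6 n23889 = n27859 := rfl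
theorem F58862 : act 0 n27859 = n23892 := d5_1 D27859 (iv D23892) (iv F47974)
theorem F58863 : act 2 n27859 = n23890 := d14_1 D27859 (iv D23890) D23889
theorem F58864 : act 4 n27859 = n23947 := d19_1 D27859 (iv D23947) (iv F47975)
theorem F58865 : act 5 n27859 = n27858 := d22_2 F49899 D27859 (iv D27858) (iv F49900)
def n27860 : Q := act 6 n23891
theorem D27860 : act 6 n23891 = n27860 := rfl
theorem F58866 : act 2 n27860 = n27560 := d14_1 D27860 (iv D27560) F47981
theorem F58867 : act 3 n27860 = n23892 := d17_1 D27860 (iv D23892) D23891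
theorem F58868 : act 4 n27860 = n27711 := d19_1 D27860 (iv F58299) (iv F47980)
theorem F58869 : act 1 n27230 = n27860 := d8_3 F58868 (iv D27711) (iv F57072)
def n27861 : Q := act 5 n23892
theorem D27861 : act 5 n23892 = n27861 := rfl
theorem F58870 : act 0 n27861 = n27858 := d4_1 D27861 (iv F58865) F58862
theorem F58871 : act 2 n27861 = n23893 := d13_1 D27861 (iv D23893) (iv F47982)
theorem F58872 : act 4 n27861 = n23949 := d18_1 D27861 (iv D23949) (iv F47983)
theorem F58873 : act 6 n27861 = n24590 := d20_2 D23892 D27861 F49899 D27859 F58865 (iv D27858) F47968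
def n27862 : Q := act 1 n23894
theorem D27862 : act 1 n23894 = n27862 := rfl
theorem F58874 : act 0 n27862 = n23907 := d0_1 D27862 F48029 (iv F47984) (iv F48421) F48420 F37308 (iv F45720) (iv F48002) F48001
theorem F58875 : act 3 n27862 = n23899 := d7_2 (iv F47988) D27862 (iv D23899)
theorem F58876 : act 4 n27862 = n23959 := d8_2 (iv F47989) D27862 (iv D23959)
theorem F58877 : act 5 n27862 = n23986 := d9_2 (iv F47990) D27862 (iv F48371) F48374 (iv D23899)
theorem F58878 : act 6 n27862 = n23895 := d10_2 D23894 D27862 (iv D23895) (iv D19560) D19559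
def n27863 : Q := act 1 n23896
theorem D27863 : act 1 n23896 = n27863 := rfl
theorem F58879 : act 0 n27863 = n23901 := d0_1 D27863 F48011 (iv F47959) (iv F48450) F48449 F37221 (iv F45708) (iv F48022) F48021
theorem F58880 : act 3 n27863 = n23904 := d7_2 (iv F47995) D27863 (iv D23904)
theorem F58881 : act 4 n27863 = n23960 := d8_2 (iv F47996) D27863 F48231
theorem F58882 : act 5 n27863 = n23897 := d9_2 D23896 D27863 (iv D23897) (iv D19565) D19564
theorem F58883 : act 6 n27863 = n24011 := d10_2 (iv F47997) D27863 F48371 (iv F48305) (iv D23904)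
def n27864 : Q := act 2 n23899
theorem D27864 : act 2 n23899 = n27864 := rfl
theorem F58884 : act 4 n27864 = n23958 := d12_2 (iv F48007) D27864 (iv D23958)
theorem F58885 : act 6 n27864 = n23900 := d14_2 (iv F48008) D27864 (iv D23900)
def n27865 : Q := act 3 n23900
theorem D27865 : act 3 n23900 = n27865 := rfl
theorem F58886 : act 1 n27865 = n27865 := d7_1 D27865 (iv D27865) F48009
def n27866 : Q := act 5 n23900
theorem D27866 : act 5 n23900 = n27866 := rfl
theorem F58887 : act 2 n27866 = n23901 := d13_1 D27866 (iv D23901) D23900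
theorem F58888 : act 4 n27866 = n23961 := d18_1 D27866 (iv D23961) (iv F48010)
theorem F58889 : act 6 n24012 = n27866 := d19_0 F58888 (iv F48234) (iv F48375)
def n27867 : Q := act 6 n23902
theorem D27867 : act 6 n23902 = n27867 := rfl
theorem F58890 : act 0 n27867 = n26204 := d5_1 D27867 (iv D26204) (iv F48014)
theorem F58891 : act 2 n27867 = n23903 := d14_1 D27867 (iv D23903) D23902
theorem F58892 : act 3 n27867 = n25008 := d17_1 D27867 (iv F58113) F58114
theorem F58893 : act 4 n27867 = n23962 := d19_1 D27867 (iv D23962) (iv F48016)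
theorem F58894 : act 5 n27867 = n25195 := d22_2 F48700 D27867 F53837 (iv F53836)
theorem F58895 : act 1 n26292 = n27867 := d9_5 F58894 F51591 (iv F44249) (iv F55959) F55962
def n27868 : Q := act 5 n23903
theorem D27868 : act 5 n23903 = n27868 := rfl
theorem F58896 : act 0 n27868 = n24139 := d4_1 D27868 F48704 (iv F48329)
theorem F58897 : act 2 n27868 = n25195 := d13_1 D27868 (iv F58894) F58891
theorem F58898 : act 3 n27868 = n24090 := d16_1 D27868 F48589 F48461
theorem F58899 : act 4 n27868 = n23963 := d18_1 D27868 (iv D23963) (iv F48018)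
theorem F58900 : act 6 n27868 = n24028 := d20_2 D23903 D27868 F48430 (iv F48328) (iv F48704) (iv D24139) F37337
def n27869 : Q := act 2 n23904
theorem D27869 : act 2 n23904 = n27869 := rfl
theorem F58901 : act 4 n27869 = n23964 := d12_2 (iv F48019) D27869 (iv D23964)
theorem F58902 : act 5 n27869 = n23906 := d13_2 (iv F48020) D27869 (iv D23906)
def n27870 : Q := act 3 n23906
theorem D27870 : act 3 n23906 = n27870 := rfl
theorem F58903 : act 1 n27870 = n27870 := d7_1 D27870 (iv D27870) F48027
theorem F58904 : act 4 n27870 = n27865 := d15_2 (iv F48028) D27870 (iv D27865) F48010 F43821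
def n27871 : Q := act 6 n23906
theorem D27871 : act 6 n23906 = n27871 := rfl
theorem F58905 : act 2 n27871 = n23907 := d14_1 D27871 (iv D23907) D23906
theorem F58906 : act 4 n27871 = n23965 := d19_1 D27871 (iv D23965) (iv F48028)
theorem F58907 : act 5 n23987 = n27871 := d18_0 F58906 (iv F48248) (iv F48306)
def n27872 : Q := act 5 n23908
theorem D27872 : act 5 n23908 = n27872 := rfl
theorem F58908 : act 0 n27872 = n25969 := d4_1 D27872 (iv D25969) (iv F48032)
theorem F58909 : act 2 n27872 = n23909 := d13_1 D27872 (iv D23909) D23908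
theorem F58910 : act 3 n27872 = n25029 := d16_1 D27872 (iv F58205) F58206
theorem F58911 : act 4 n27872 = n23966 := d18_1 D27872 (iv D23966) (iv F48034)
theorem F58912 : act 6 n27872 = n25243 := d22_1 D27872 F53248 F53246 (iv F48032)
theorem F58913 : act 1 n26368 = n27872 := d10_5 F58912 F51752 (iv F44415) (iv F56036) F56040
def n27873 : Q := act 6 n23909
theorem D27873 : act 6 n23909 = n27873 := rfl
theorem F58914 : act 0 n27873 = n24088 := d5_1 D27873 F48583 (iv F48398)
theorem F58915 : act 1 n27873 = n27868 := d10_1 D27873 F58900 (iv D24028) (iv F47560) (iv F48035)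
theorem F58916 : act 2 n27873 = n25243 := d14_1 D27873 (iv F58912) F58909
theorem F58917 : act 3 n27873 = n24037 := d17_1 D27873 (iv F48484) F48482
theorem F58918 : act 4 n27873 = n23967 := d19_1 D27873 (iv D23967) (iv F48036)
theorem F58919 : act 5 n27873 = n24020 := d20_1 D27873 F48402 (iv F48397) (iv F48583) (iv D24088) F37248 D23909
def n27874 : Q := act 2 n23914
theorem D27874 : act 2 n23914 = n27874 := rfl
theorem F58920 : act 0 n27874 = n25204 := d1_1 D27874 (iv F51649) F51648
theorem F58921 : act 1 n27874 = n23922 := d6_1 D27874 (iv D23922) (iv D19595) (iv F36818) D23914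
theorem F58922 : act 4 n27874 = n23917 := d12_2 (iv F48057) D27874 (iv D23917)
theorem F58923 : act 5 n27874 = n27874 := d13_2 F48058 D27874 (iv D27874)
def n27875 : Q := act 2 n23915
theorem D27875 : act 2 n23915 = n27875 := rfl
theorem F58924 : act 0 n27875 = n25251 := d1_1 D27875 F51774 (iv F51492)
theorem F58925 : act 1 n27875 = n23925 := d6_1 D27875 (iv D23925) (iv D19597) (iv F36823) D23915
theorem F58926 : act 4 n27875 = n23919 := d12_2 (iv F48060) D27875 (iv D23919)
theorem F58927 : act 6 n27875 = n27875 := d14_2 F48061 D27875 (iv D27875)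
def n27876 : Q := act 3 n23917
theorem D27876 : act 3 n23917 = n27876 := rfl
theorem F58928 : act 0 n27876 = n24394 := d2_1 D27876 (iv F51880) F51876
theorem F58929 : act 1 n27876 = n23932 := d7_1 D27876 (iv D23932) (iv F48063)
theorem F58930 : act 2 n27876 = n24393 := d11_1 D27876 (iv F55450) (iv D26731) (iv F55437) F55436 F51874 D25284 F51880 (iv D24394) F43479 (iv D22292) (iv F43474) (iv F48048) F48049 D23917
theorem F58931 : act 5 n27876 = n27876 := d16_2 F48064 D27876 (iv D27876)
def n27877 : Q := act 3 n23919
theorem D27877 : act 3 n23919 = n27877 := rfl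
theorem F58932 : act 0 n27877 = n24342 := d2_1 D27877 (iv F51837) F51833
theorem F58933 : act 1 n27877 = n23941 := d7_1 D27877 (iv D23941) (iv F48066)
theorem F58934 : act 2 n27877 = n24341 := d11_1 D27877 (iv F54941) (iv D26576) (iv F54927) F54926 F51830 D25271 F51837 (iv D24342) F43977 (iv D22077) (iv F42932) (iv F48052) F48053 D23919
theorem F58935 : act 6 n27877 = n27877 := d17_2 F48067 D27877 (iv D27877)
def n27878 : Q := act 1 n23944
theorem D27878 : act 1 n23944 = n27878 := rfl
theorem F58936 : act 2 n27878 = n24236 := d6_2 (iv F48161) D27878 (iv D24236) F37527 F36853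
theorem F58937 : act 3 n27878 = n25274 := d7_2 (iv F48162) D27878 F51844
theorem F58938 : act 6 n25276 = n27878 := d17_0 F58937 F51845 D25276
def n27879 : Q := act 1 n23947
theorem D27879 : act 1 n23947 = n27879 := rfl
theorem F58939 : act 2 n27879 = n24215 := d6_2 (iv F48173) D27879 (iv D24215) F37493 (iv F36867)
theorem F58940 : act 3 n27879 = n25286 := d7_2 (iv F48174) D27879 F51884
theorem F58941 : act 5 n25288 = n27879 := d16_0 F58940 F51885 D25288
def n27880 : Q := act 1 n23968
theorem D27880 : act 1 n23968 = n27880 := rfl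
theorem F58942 : act 2 n27880 = n24497 := d6_2 D23968 D27880 (iv D24497) (iv D20148) (iv F36986)
theorem F58943 : act 5 n27880 = n25301 := d9_2 (iv F48260) D27880 (iv D25301) F40712 (iv F37090)
def n27881 : Q := act 1 n23969
theorem D27881 : act 1 n23969 = n27881 := rfl
theorem F58944 : act 2 n27881 = n24499 := d6_2 D23969 D27881 (iv D24499) (iv D20150) (iv F36989)
theorem F58945 : act 6 n27881 = n25313 := d10_2 (iv F48262) D27881 (iv D25313) F40729 (iv F37132)
def n27882 : Q := act 2 n23970
theorem D27882 : act 2 n23970 = n27882 := rfl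
theorem F58946 : act 4 n27882 = n24707 := d12_2 (iv F48264) D27882 F50194
theorem F58947 : act 5 n27882 = n24706 := d13_2 (iv F48265) D27882 F50193
theorem F58948 : act 3 n27882 = n27842 := d21_1 D27882 (iv D27842) (iv D23864) (iv D19539) (iv F36652) D23862 D27840 F58800
def n27883 : Q := act 6 n23970
theorem D27883 : act 6 n23970 = n27883 := rfl
theorem F58949 : act 3 n27883 = n23971 := d17_1 D27883 (iv D23971) D23970
theorem F58950 : act 4 n27883 = n27322 := d19_1 D27883 (iv D27322) (iv F48264)
theorem F58951 : act 5 n27883 = n27843 := d22_2 (iv F48265) D27883 (iv D27843) F47901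
def n27884 : Q := act 1 n23972
theorem D27884 : act 1 n23972 = n27884 := rfl
theorem F58952 : act 3 n27884 = n27880 := d7_2 (iv F48270) D27884 (iv D27880)
def n27885 : Q := act 4 n23972
theorem D27885 : act 4 n23972 = n27885 := rfl
theorem F58953 : act 0 n27885 = n23975 := d3_1 D27885 (iv D23975) (iv F48269)
theorem F58954 : act 2 n27885 = n23973 := d12_1 D27885 (iv D23973) D23972
theorem F58955 : act 5 n27885 = n24039 := d18_2 (iv F48271) D27885 (iv D24039)
def n27886 : Q := act 4 n23974
theorem D27886 : act 4 n23974 = n27886 := rfl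
theorem F58956 : act 1 n27886 = n23975 := d8_1 D27886 (iv D23975) D23974
theorem F58957 : act 2 n27886 = n24570 := d12_1 D27886 (iv D24570) (iv F48276)
theorem F58958 : act 3 n27886 = n26817 := d15_1 D27886 F55735 (iv F53138) F53139 (iv F48277)
theorem F58959 : act 5 n27886 = n24570 := d18_2 (iv F48278) D27886 (iv D24570)
def n27887 : Q := act 6 n23974
theorem D27887 : act 6 n23974 = n27887 := rfl
theorem F58960 : act 2 n27887 = n24571 := d14_1 D27887 (iv D24571) (iv F48276)
theorem F58961 : act 3 n27887 = n27203 := d17_1 D27887 (iv D27203) (iv F48277)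
def n27888 : Q := act 3 n23975
theorem D27888 : act 3 n23975 = n27888 := rfl
theorem F58962 : act 1 n27888 = n26817 := d7_1 D27888 (iv F58958) F58956
theorem F58963 : act 5 n27888 = n24049 := d16_2 (iv F48280) D27888 (iv D24049)
def n27889 : Q := act 6 n23975
theorem D27889 : act 6 n23975 = n27889 := rfl
theorem F58964 : act 2 n27889 = n23977 := d14_1 D27889 (iv D23977) (iv F48279)
theorem F58965 : act 4 n27889 = n23976 := d19_1 D27889 (iv D23976) D23975
def n27890 : Q := act 1 n23976
theorem D27890 : act 1 n23976 = n27890 := rfl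
def n27891 : Q := act 1 n23977
theorem D27891 : act 1 n23977 = n27891 := rfl
theorem F58966 : act 3 n27891 = n24198 := d7_2 (iv F48282) D27891 (iv D24198)
theorem F58967 : act 4 n27891 = n23978 := d8_2 (iv F48283) D27891 (iv D23978)
theorem F58968 : act 6 n27891 = n24576 := d10_2 D23977 D27891 (iv D24576) (iv D20213) (iv F37001)
def n27892 : Q := act 0 n23978
theorem D27892 : act 0 n23978 = n27892 := rfl
theorem F58969 : act 3 n27892 = n23979 := d2_2 (iv F48284) D27892 (iv D23979)
theorem F58970 : act 6 n27892 = n24577 := d5_2 (iv F48285) D27892 (iv D24577)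
def n27893 : Q := act 2 n23978
theorem D27893 : act 2 n23978 = n27893 := rfl
theorem F58971 : act 6 n27893 = n24578 := d14_2 (iv F48285) D27893 (iv D24578)
def n27894 : Q := act 5 n23978
theorem D27894 : act 5 n23978 = n27894 := rfl
theorem F58972 : act 3 n27894 = n23981 := d16_1 D27894 (iv D23981) (iv F48284)
def n27895 : Q := act 2 n23979
theorem D27895 : act 2 n23979 = n27895 := rfl
theorem F58973 : act 0 n27895 = n23980 := d1_1 D27895 (iv D23980) D23979
theorem F58974 : act 1 n27895 = n27014 := d6_1 D27895 F56407 F50759 (iv F53505) F53504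
theorem F58975 : act 4 n27895 = n24200 := d12_2 (iv F48286) D27895 (iv D24200)
theorem F58976 : act 6 n27895 = n24581 := d14_2 (iv F48287) D27895 (iv D24581)
theorem F58977 : act 3 n26966 = n27895 := d17_3 F58976 (iv F49870) D26966
def n27896 : Q := act 3 n23983
theorem D27896 : act 3 n23983 = n27896 := rfl
theorem F58978 : act 0 n27896 = n23984 := d2_1 D27896 (iv D23984) (iv F48296)
theorem F58979 : act 4 n27896 = n27154 := d15_2 (iv F48297) D27896 F56862 F49003 (iv D24202)
theorem F58980 : act 6 n27896 = n23990 := d17_2 (iv F48298) D27896 (iv D23990)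
theorem F58981 : act 2 n27896 = n27061 := d21_2 D23983 D27896 F56569 (iv F48388) F48389 F37056 F25262 D19671
def n27897 : Q := act 5 n23984
theorem D27897 : act 5 n23984 = n27897 := rfl
theorem F58982 : act 2 n27897 = n26918 := d13_1 D27897 F56063 F48301
theorem F58983 : act 3 n27897 = n23985 := d16_1 D27897 (iv D23985) D23984
theorem F58984 : act 4 n27897 = n24237 := d18_1 D27897 F48929 (iv F48299)
def n27898 : Q := act 1 n23985
theorem D27898 : act 1 n23985 = n27898 := rfl
theorem F58985 : act 2 n27898 = n24930 := d6_2 (iv F48302) D27898 (iv F50677) F48485 F37198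
theorem F58986 : act 4 n27898 = n24204 := d8_2 (iv F48303) D27898 (iv D24204)
theorem F58987 : act 5 n27898 = n25952 := d9_2 D23985 D27898 (iv F56116) F56119 F48288
theorem F58988 : act 0 n27898 = n24931 := d23_3 D19673 (iv F48302) D27898 F50680 (iv D21570) (iv D16311) (iv F21582) F21585 (iv D12224) D12223 D16302 (iv F28222) D20119 (iv F47922) (iv F58825) F58827 F54899 (iv D23982) (iv D19671)
def n27899 : Q := act 2 n23986
theorem D27899 : act 2 n23986 = n27899 := rfl
theorem F58989 : act 0 n27899 = n23987 := d1_1 D27899 (iv D23987) D23986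
theorem F58990 : act 4 n27899 = n24205 := d12_2 (iv F48304) D27899 (iv D24205)
theorem F58991 : act 6 n27899 = n27869 := d14_2 F48305 D27899 (iv D27869)
def n27900 : Q := act 1 n23987
theorem D27900 : act 1 n23987 = n27900 := rfl
theorem F58992 : act 2 n27900 = n23989 := d6_2 D23987 D27900 (iv D23989) (iv D19675) D19674
theorem F58993 : act 4 n27900 = n24206 := d8_2 (iv F48306) D27900 (iv D24206)
def n27901 : Q := act 3 n23987
theorem D27901 : act 3 n23987 = n27901 := rfl
def n27902 : Q := act 6 n23987
theorem D27902 : act 6 n23987 = n27902 := rfl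
theorem F58994 : act 0 n27902 = n27869 := d5_1 D27902 (iv F58991) F58989
theorem F58995 : act 2 n27902 = n23988 := d14_1 D27902 (iv D23988) D23987
theorem F58996 : act 4 n27902 = n24208 := d19_1 D27902 (iv D24208) (iv F48306)
theorem F58997 : act 5 n26210 = n27902 := d22_0 (iv D27902) F58907 (iv D27871) F53994
theorem F58998 : act 1 n27902 = n26207 := d9_1 F58997 (iv D26207) (iv D21741) D21743 D26210
def n27903 : Q := act 0 n23989
theorem D27903 : act 0 n23989 = n27903 := rfl
theorem F58999 : act 4 n27903 = n24209 := d3_2 (iv F48311) D27903 (iv D24209)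
def n27904 : Q := act 3 n23989
theorem D27904 : act 3 n23989 = n27904 := rfl
theorem F59000 : act 1 n27904 = n23990 := d7_1 D27904 (iv D23990) D23989
theorem F59001 : act 2 n25846 = n27904 := d6_0 F59000 F48313 (iv D22883) (iv F41595) D25846
theorem F59002 : act 4 n27155 = n27904 := d8_0 F59000 (iv F48314) D27155
def n27905 : Q := act 5 n23989
theorem D27905 : act 5 n23989 = n27905 := rfl
theorem F59003 : act 4 n27905 = n24211 := d18_1 D27905 (iv D24211) (iv F48311)
def n27906 : Q := act 5 n23990
theorem D27906 : act 5 n23990 = n27906 := rfl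
theorem F59004 : act 0 n27906 = n23992 := d4_1 D27906 (iv D23992) (iv F48312)
theorem F59005 : act 2 n27906 = n27060 := d13_1 D27906 F56565 (iv F48313)
theorem F59006 : act 3 n27906 = n23991 := d16_1 D27906 (iv D23991) D23990
theorem F59007 : act 4 n27906 = n27156 := d18_1 D27906 (iv D27156) F48314
theorem F59008 : act 6 n27906 = n27897 := d22_1 D27906 (iv D27897) F48300 (iv F48312)
def n27907 : Q := act 1 n23991
theorem D27907 : act 1 n23991 = n27907 := rfl
theorem F59009 : act 4 n27907 = n24215 := d8_2 (iv F48317) D27907 (iv D24215)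
def n27908 : Q := act 6 n23992
theorem D27908 : act 6 n23992 = n27908 := rfl
theorem F59010 : act 0 n27908 = n27897 := d5_1 D27908 (iv F59008) F59004
theorem F59011 : act 2 n27908 = n24197 := d14_1 D27908 F48829 (iv F48319)
theorem F59012 : act 3 n27908 = n23993 := d17_1 D27908 (iv D23993) (iv F48320)
theorem F59013 : act 4 n27908 = n24196 := d19_1 D27908 F48826 (iv F48321)
theorem F59014 : act 5 n27908 = n27896 := d20_1 D27908 F58980 D27906 F59008 (iv D27897) F48300 D23992
def n27909 : Q := act 1 n23993
theorem D27909 : act 1 n23993 = n27909 := rfl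
theorem F59015 : act 4 n27909 = n24221 := d8_2 (iv F48324) D27909 (iv D24221)
theorem F59016 : act 6 n27909 = n25970 := d10_2 D23993 D27909 (iv D25970) F41785 F41764
def n27910 : Q := act 2 n23995
theorem D27910 : act 2 n23995 = n27910 := rfl
theorem F59017 : act 4 n27910 = n24757 := d12_2 (iv F48331) D27910 F50302
theorem F59018 : act 6 n27910 = n24755 := d14_2 (iv F48332) D27910 F50299
theorem F59019 : act 3 n27910 = n27844 := d21_1 D27910 (iv D27844) (iv D23866) (iv D19541) (iv F36656) D23863 D27841 F58804
def n27911 : Q := act 5 n23995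
theorem D27911 : act 5 n23995 = n27911 := rfl
theorem F59020 : act 3 n27911 = n23996 := d16_1 D27911 (iv D23996) D23995
theorem F59021 : act 4 n27911 = n27414 := d18_1 D27911 (iv D27414) (iv F48331)
theorem F59022 : act 6 n27911 = n27845 := d22_1 D27911 (iv D27845) (iv F58807) F58804
def n27912 : Q := act 1 n23997
theorem D27912 : act 1 n23997 = n27912 := rfl
theorem F59023 : act 3 n27912 = n27881 := d7_2 (iv F48337) D27912 (iv D27881)
def n27913 : Q := act 4 n23997
theorem D27913 : act 4 n23997 = n27913 := rfl
theorem F59024 : act 0 n27913 = n24000 := d3_1 D27913 (iv D24000) (iv F48336)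
theorem F59025 : act 2 n27913 = n23998 := d12_1 D27913 (iv D23998) D23997
theorem F59026 : act 6 n27913 = n24091 := d19_2 (iv F48338) D27913 (iv D24091)
def n27914 : Q := act 4 n23999
theorem D27914 : act 4 n23999 = n27914 := rfl
theorem F59027 : act 1 n27914 = n24000 := d8_1 D27914 (iv D24000) D23999
theorem F59028 : act 2 n27914 = n24625 := d12_1 D27914 (iv D24625) (iv F48343)
theorem F59029 : act 3 n27914 = n26852 := d15_1 D27914 F55843 (iv F53745) F53746 (iv F48344)
theorem F59030 : act 6 n27914 = n24625 := d19_2 (iv F48345) D27914 (iv D24625)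
def n27915 : Q := act 5 n23999
theorem D27915 : act 5 n23999 = n27915 := rfl
theorem F59031 : act 2 n27915 = n24626 := d13_1 D27915 (iv D24626) (iv F48343)
theorem F59032 : act 3 n27915 = n27215 := d16_1 D27915 (iv D27215) (iv F48344)
def n27916 : Q := act 3 n24000
theorem D27916 : act 3 n24000 = n27916 := rfl
theorem F59033 : act 1 n27916 = n26852 := d7_1 D27916 (iv F59029) F59027
theorem F59034 : act 6 n27916 = n24100 := d17_2 (iv F48347) D27916 (iv D24100)
def n27917 : Q := act 5 n24000
theorem D27917 : act 5 n24000 = n27917 := rfl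
theorem F59035 : act 2 n27917 = n24002 := d13_1 D27917 (iv D24002) (iv F48346)
theorem F59036 : act 4 n27917 = n24001 := d18_1 D27917 (iv D24001) D24000
def n27918 : Q := act 1 n24001
theorem D27918 : act 1 n24001 = n27918 := rfl
def n27919 : Q := act 1 n24002
theorem D27919 : act 1 n24002 = n27919 := rfl
theorem F59037 : act 3 n27919 = n24222 := d7_2 (iv F48349) D27919 (iv D24222)
theorem F59038 : act 4 n27919 = n24003 := d8_2 (iv F48350) D27919 (iv D24003)
theorem F59039 : act 5 n27919 = n24631 := d9_2 D24002 D27919 (iv D24631) (iv D20247) (iv F37034)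
def n27920 : Q := act 0 n24003
theorem D27920 : act 0 n24003 = n27920 := rfl
theorem F59040 : act 3 n27920 = n24004 := d2_2 (iv F48351) D27920 (iv D24004)
theorem F59041 : act 5 n27920 = n24632 := d4_2 (iv F48352) D27920 (iv D24632)
def n27921 : Q := act 2 n24003
theorem D27921 : act 2 n24003 = n27921 := rfl
theorem F59042 : act 5 n27921 = n24633 := d13_2 (iv F48352) D27921 (iv D24633)
def n27922 : Q := act 6 n24003
theorem D27922 : act 6 n24003 = n27922 := rfl
theorem F59043 : act 3 n27922 = n24006 := d17_1 D27922 (iv D24006) (iv F48351)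
def n27923 : Q := act 2 n24004
theorem D27923 : act 2 n24004 = n27923 := rfl
theorem F59044 : act 0 n27923 = n24005 := d1_1 D27923 (iv D24005) D24004
theorem F59045 : act 1 n27923 = n27008 := d6_1 D27923 F56384 F50673 (iv F54096) F54095
theorem F59046 : act 4 n27923 = n24224 := d12_2 (iv F48353) D27923 (iv D24224)
theorem F59047 : act 5 n27923 = n24636 := d13_2 (iv F48354) D27923 (iv D24636)
theorem F59048 : act 3 n26948 = n27923 := d16_3 F59047 (iv F50006) D26948
def n27924 : Q := act 3 n24008
theorem D27924 : act 3 n24008 = n27924 := rfl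
theorem F59049 : act 0 n27924 = n24009 := d2_1 D27924 (iv D24009) (iv F48363)
theorem F59050 : act 2 n27924 = n27066 := d11_1 D27924 F56593 (iv F48319) F48320 F37019 (iv F25254) D19688 D24009 (iv F48368) (iv F56563) (iv F59005) F59006 F48316 (iv F37040) D24008
theorem F59051 : act 4 n27924 = n27145 := d15_2 (iv F48364) D27924 F56827 F49045 (iv D24226)
theorem F59052 : act 5 n27924 = n24015 := d16_2 (iv F48365) D27924 (iv D24015)
def n27925 : Q := act 6 n24009
theorem D27925 : act 6 n24009 = n27925 := rfl
theorem F59053 : act 2 n27925 = n26899 := d14_1 D27925 F56000 F48368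
theorem F59054 : act 3 n27925 = n24010 := d17_1 D27925 (iv D24010) D24009
theorem F59055 : act 4 n27925 = n24216 := d19_1 D27925 F48875 (iv F48366)
def n27926 : Q := act 1 n24010
theorem D27926 : act 1 n24010 = n27926 := rfl
theorem F59056 : act 2 n27926 = n24957 := d6_2 (iv F48369) D27926 (iv F50751) F48606 F37284
theorem F59057 : act 4 n27926 = n24227 := d8_2 (iv F48370) D27926 (iv D24227)
theorem F59058 : act 6 n27926 = n26187 := d10_2 D24010 D27926 (iv F56090) F56094 F48355
theorem F59059 : act 0 n27926 = n24958 := d23_3 F37054 (iv F48369) D27926 (iv F54156) F54153 F50755 (iv F49958) (iv D24613) F38341 F26097 (iv F26230) (iv F26236) (iv F26238) F26241 F25288 D16085 F27802 (iv F25261) (iv F37051)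
def n27927 : Q := act 2 n24011
theorem D27927 : act 2 n24011 = n27927 := rfl
theorem F59060 : act 0 n27927 = n24012 := d1_1 D27927 (iv D24012) D24011
theorem F59061 : act 4 n27927 = n24207 := d12_2 (iv F48373) D27927 F48859
theorem F59062 : act 5 n27927 = n27864 := d13_2 (iv F48374) D27927 (iv D27864)
def n27928 : Q := act 1 n24012
theorem D27928 : act 1 n24012 = n27928 := rfl
theorem F59063 : act 2 n27928 = n24014 := d6_2 D24012 D27928 (iv D24014) (iv D19691) D19690
theorem F59064 : act 4 n27928 = n24228 := d8_2 (iv F48375) D27928 (iv D24228)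
def n27929 : Q := act 3 n24012
theorem D27929 : act 3 n24012 = n27929 := rfl
def n27930 : Q := act 5 n24012
theorem D27930 : act 5 n24012 = n27930 := rfl
theorem F59065 : act 0 n27930 = n27864 := d4_1 D27930 (iv F59062) F59060
theorem F59066 : act 2 n27930 = n24013 := d13_1 D27930 (iv D24013) D24012
theorem F59067 : act 4 n27930 = n24229 := d18_1 D27930 (iv D24229) (iv F48375)
theorem F59068 : act 6 n27930 = n25977 := d22_3 D27866 (iv F58889) D27930 (iv F53407)
theorem F59069 : act 1 n25973 = n27930 := d10_5 F59068 (iv D25977) (iv D21585) D21582 D25973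
def n27931 : Q := act 0 n24014
theorem D27931 : act 0 n24014 = n27931 := rfl
theorem F59070 : act 4 n27931 = n24230 := d3_2 (iv F48380) D27931 (iv D24230)
def n27932 : Q := act 3 n24014
theorem D27932 : act 3 n24014 = n27932 := rfl
theorem F59071 : act 1 n27932 = n24015 := d7_1 D27932 (iv D24015) D24014
theorem F59072 : act 2 n26089 = n27932 := d6_0 F59071 F48382 (iv D22892) (iv F41945) D26089
theorem F59073 : act 4 n27146 = n27932 := d8_0 F59071 (iv F48383) D27146
def n27933 : Q := act 6 n24014
theorem D27933 : act 6 n24014 = n27933 := rfl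
theorem F59074 : act 4 n27933 = n24232 := d19_1 D27933 (iv D24232) (iv F48380)
def n27934 : Q := act 6 n24015
theorem D27934 : act 6 n24015 = n27934 := rfl
theorem F59075 : act 0 n27934 = n24017 := d5_1 D27934 (iv D24017) (iv F48381)
theorem F59076 : act 2 n27934 = n27065 := d14_1 D27934 F56590 (iv F48382)
theorem F59077 : act 3 n27934 = n24016 := d17_1 D27934 (iv D24016) D24015
theorem F59078 : act 4 n27934 = n27147 := d19_1 D27934 (iv D27147) F48383
theorem F59079 : act 5 n27934 = n27925 := d22_2 F59052 D27934 (iv D27925) (iv F59049)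
def n27935 : Q := act 1 n24016
theorem D27935 : act 1 n24016 = n27935 := rfl
theorem F59080 : act 4 n27935 = n24236 := d8_2 (iv F48386) D27935 (iv D24236)
def n27936 : Q := act 5 n24017
theorem D27936 : act 5 n24017 = n27936 := rfl
theorem F59081 : act 0 n27936 = n27925 := d4_1 D27936 (iv F59079) F59075
theorem F59082 : act 2 n27936 = n24194 := d13_1 D27936 F48819 (iv F48388)
theorem F59083 : act 3 n27936 = n24018 := d16_1 D27936 (iv D24018) (iv F48389)
theorem F59084 : act 4 n27936 = n24193 := d18_1 D27936 F48818 (iv F48390)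
theorem F59085 : act 6 n27936 = n27924 := d20_2 D24017 D27936 F59052 D27934 F59079 (iv D27925) F48367
def n27937 : Q := act 1 n24018
theorem D27937 : act 1 n24018 = n27937 := rfl
theorem F59086 : act 4 n27937 = n24241 := d8_2 (iv F48393) D27937 (iv D24241)
theorem F59087 : act 5 n27937 = n26205 := d9_2 D24018 D27937 (iv D26205) F42126 F42105
def n27938 : Q := act 3 n24021
theorem D27938 : act 3 n24021 = n27938 := rfl
theorem F59088 : act 0 n27938 = n24509 := d2_1 D27938 (iv D24509) (iv F48403)
theorem F59089 : act 1 n27938 = n24485 := d7_1 D27938 (iv D24485) (iv F48404)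
def n27939 : Q := act 2 n24023
theorem D27939 : act 2 n24023 = n27939 := rfl
theorem F59090 : act 0 n27939 = n24664 := d1_1 D27939 F50087 (iv F48408)
theorem F59091 : act 1 n27939 = n26995 := d6_1 D27939 (iv D26995) (iv D22762) (iv F38450) (iv F48409)
theorem F59092 : act 4 n27939 = n25615 := d12_2 (iv F48410) D27939 F52588
theorem F59093 : act 5 n27939 = n24662 := d13_2 (iv F48411) D27939 (iv D24662)
theorem F59094 : act 6 n27939 = n24027 := d14_2 (iv F48412) D27939 (iv D24027)
def n27940 : Q := act 3 n24024
theorem D27940 : act 3 n24024 = n27940 := rfl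
theorem F59095 : act 6 n27940 = n24891 := d17_2 (iv F48414) D27940 F50581
def n27941 : Q := act 1 n24027
theorem D27941 : act 1 n24027 = n27941 := rfl
theorem F59096 : act 3 n27941 = n27491 := d7_2 F48546 D27941 F57783
def n27942 : Q := act 3 n24029
theorem D27942 : act 3 n24029 = n27942 := rfl
theorem F59097 : act 0 n27942 = n24529 := d2_1 D27942 (iv D24529) (iv F48431)
theorem F59098 : act 1 n27942 = n24491 := d7_1 D27942 (iv D24491) (iv F48432)
def n27943 : Q := act 2 n24031
theorem D27943 : act 2 n24031 = n27943 := rfl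
theorem F59099 : act 0 n27943 = n24686 := d1_1 D27943 F50141 (iv F48436)
theorem F59100 : act 1 n27943 = n26986 := d6_1 D27943 (iv D26986) (iv D22758) (iv F38410) (iv F48437)
theorem F59101 : act 4 n27943 = n25605 := d12_2 (iv F48438) D27943 (iv D25605)
theorem F59102 : act 5 n27943 = n24035 := d13_2 (iv F48439) D27943 (iv D24035)
theorem F59103 : act 6 n27943 = n24684 := d14_2 (iv F48440) D27943 (iv D24684)
def n27944 : Q := act 3 n24032
theorem D27944 : act 3 n24032 = n27944 := rfl
theorem F59104 : act 5 n27944 = n24839 := d16_2 (iv F48442) D27944 F50479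
def n27945 : Q := act 1 n24035
theorem D27945 : act 1 n24035 = n27945 := rfl
theorem F59105 : act 2 n27945 = n27941 := d6_2 D24035 D27945 (iv D27941) (iv D24027) (iv F37162)
theorem F59106 : act 3 n27945 = n27567 := d7_2 F48667 D27945 F57959
def n27946 : Q := act 0 n24036
theorem D27946 : act 0 n24036 = n27946 := rfl
theorem F59107 : act 1 n27946 = n25994 := d0_2 D24036 D27946 F53457 (iv F42307) F40749 (iv F42198) (iv F45597) F45598 F38785
theorem F59108 : act 4 n27946 = n24288 := d3_2 (iv F48456) D27946 (iv D24288)
theorem F59109 : act 6 n27946 = n25998 := d5_2 (iv F48457) D27946 (iv F53467)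
theorem F59110 : act 5 n27946 = n24716 := d22_0 (iv F58294) F58295 (iv F48457) D27946
def n27947 : Q := act 5 n24036
theorem D27947 : act 5 n24036 = n27947 := rfl
theorem F59111 : act 0 n27947 = n24716 := d4_1 D27947 (iv F59110) (iv D27946)
theorem F59112 : act 1 n27947 = n24740 := d9_1 D27947 F56812 (iv D27141) F45544 D24036
theorem F59113 : act 2 n27947 = n27946 := d13_1 D27947 F59110 F50211
theorem F59114 : act 4 n27947 = n24289 := d18_1 D27947 (iv D24289) (iv F48456)
def n27948 : Q := act 3 n24039
theorem D27948 : act 3 n24039 = n27948 := rfl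
theorem F59115 : act 0 n27948 = n24049 := d2_1 D27948 (iv D24049) (iv F48464)
theorem F59116 : act 4 n27948 = n27938 := d15_2 D24039 D27948 (iv D27938) (iv D24021) (iv F37186)
def n27949 : Q := act 6 n24039
theorem D27949 : act 6 n24039 = n27949 := rfl
theorem F59117 : act 0 n27949 = n24050 := d5_1 D27949 (iv D24050) (iv F48464)
theorem F59118 : act 2 n27949 = n24041 := d14_1 D27949 (iv D24041) (iv F48465)
theorem F59119 : act 4 n27949 = n24040 := d19_1 D27949 (iv D24040) D24039
theorem F59120 : act 5 n27949 = n27889 := d22_2 F58955 D27949 (iv D27889) (iv F58953)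
def n27950 : Q := act 1 n24040
theorem D27950 : act 1 n24040 = n27950 := rfl
theorem F59121 : act 3 n27950 = n27021 := d7_2 (iv F48468) D27950 F56427
def n27951 : Q := act 0 n24042
theorem D27951 : act 0 n24042 = n27951 := rfl
theorem F59122 : act 3 n27951 = n24043 := d2_2 (iv F48474) D27951 (iv D24043)
def n27952 : Q := act 2 n24042
theorem D27952 : act 2 n24042 = n27952 := rfl
def n27953 : Q := act 5 n24042
theorem D27953 : act 5 n24042 = n27953 := rfl
theorem F59123 : act 1 n27953 = n27894 := d9_1 D27953 (iv D27894) (iv D23978) (iv F37192) D24042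
theorem F59124 : act 3 n27953 = n24045 := d16_1 D27953 (iv D24045) (iv F48474)
def n27954 : Q := act 2 n24043
theorem D27954 : act 2 n24043 = n27954 := rfl
theorem F59125 : act 0 n27954 = n24044 := d1_1 D27954 (iv D24044) D24043
theorem F59126 : act 1 n27954 = n24830 := d6_1 D27954 F57418 F57420 F54039 (iv F53021)
theorem F59127 : act 4 n27954 = n24291 := d12_2 (iv F48475) D27954 (iv D24291)
theorem F59128 : act 6 n27954 = n24826 := d14_2 F58347 D27954 (iv F58345)
theorem F59129 : act 5 n27718 = n27954 := d23_0 (iv D27954) F53021 F53018 (iv D25817) D25816 F52980 (iv F53065) F53068 F44104 (iv F41635) (iv D16299) (iv F28215) D21546 (iv F50678) (iv F58988) F58987 (iv D25952) D25951 (iv F58322)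
def n27955 : Q := act 5 n24043
theorem D27955 : act 5 n24043 = n27955 := rfl
theorem F59130 : act 0 n27955 = n24045 := d4_1 D27955 (iv D24045) D24043
theorem F59131 : act 1 n27955 = n24849 := d9_1 D27955 F50497 F52979 (iv F53020) (iv F53021)
theorem F59132 : act 2 n27955 = n27718 := d13_1 D27955 F59129 (iv D27954)
theorem F59133 : act 4 n27955 = n24292 := d18_1 D27955 (iv D24292) (iv F48475)
theorem F59134 : act 6 n27955 = n27722 := d22_1 D27955 (iv F58338) F46963 D24043
def n27956 : Q := act 3 n24044
theorem D27956 : act 3 n24044 = n27956 := rfl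
theorem F59135 : act 1 n27956 = n24047 := d7_1 D27956 (iv D24047) (iv F48476)
theorem F59136 : act 2 n27956 = n27420 := d25_14 (iv F23416) (iv F31835) (iv F38450) F38451 (iv F26238) F26241 (iv F37094) (iv F48407) (iv F48468) F48467 D24042 F48474 D24044 D27956 (iv D27420) F46319 F35784 (iv F33796) (iv F41903) D26061 F53588 D26712 (iv F55376) (iv D23886) (iv D19553) F25080 (iv F25174) F35096 F27518 (iv F36473) D23823 (iv F48221) F48220 (iv F47707) (iv F47710) F44640 F44592 (iv F47804) F47805 (iv F48210) (iv D23955) F36938 F36364 (iv F27461) F29130 D19598 F36837 D19607 (iv F48118) F48117 F36840 (iv F36274) F36273 (iv F47082) F47083 (iv F35781) D23604 F47089 (iv F49152) F49153 F47033 F35817 F25729 F20210 (iv F20178) (iv F25647) F34469 (iv F26866) F26865 F20856 F14472 D9864 (iv F19820) (iv F24805) (iv F36124) (iv D18256) (iv D13354)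
theorem F59137 : act 4 n27422 = n27956 := d12_0 F59136 F57607 D27422
theorem F59138 : act 3 n27338 = n27422 := d15_5 F59137 (iv D27956) F48477 (iv F46948) (iv F57385)
theorem F59139 : act 6 n27422 = n27333 := d17_2 D27338 F59138 F57372
theorem F59140 : act 2 n27333 = n27423 := d14_1 F59139 (iv D27423) D27422
theorem F59141 : act 5 n27423 = n27332 := d13_2 D27333 F59140 (iv D27332)
theorem F59142 : act 3 n27332 = n27428 := d16_1 F59141 (iv D27428) (iv F57610)
def n27957 : Q := act 6 n24045
theorem D27957 : act 6 n24045 = n27957 := rfl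
theorem F59143 : act 0 n27957 = n27722 := d5_1 D27957 (iv F59134) F59130
theorem F59144 : act 2 n27957 = n27721 := d14_1 D27957 F58334 (iv F53316)
theorem F59145 : act 4 n27957 = n24293 := d19_1 D27957 (iv D24293) (iv F48479)
theorem F59146 : act 5 n27957 = n27724 := d20_1 D27957 F58347 D27955 F59134 (iv F58338) F46963 D24045
theorem F59147 : act 1 n24827 = n27957 := d8_3 F59145 (iv F49086) (iv F50459)
def n27958 : Q := act 4 n24047
theorem D27958 : act 4 n24047 = n27958 := rfl
theorem F59148 : act 0 n27958 = n27632 := d3_1 D27958 F58107 (iv F50186)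
theorem F59149 : act 1 n27958 = n27422 := d8_1 D27958 F59137 F59135
theorem F59150 : act 2 n27958 = n24752 := d12_1 D27958 (iv F58199) (iv F58201)
theorem F59151 : act 3 n27958 = n24295 := d15_1 D27958 (iv D24295) (iv D19955) (iv F37197) D24047
theorem F59152 : act 5 n24763 = n27958 := d13_0 F59150 F50291 D24763
def n27959 : Q := act 5 n24047
theorem D27959 : act 5 n24047 = n27959 := rfl
theorem F59153 : act 2 n27959 = n24761 := d13_1 D27959 (iv F58200) (iv F58201)
theorem F59154 : act 3 n27959 = n24048 := d16_1 D27959 (iv D24048) D24047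
theorem F59155 : act 4 n27959 = n24763 := d18_1 D27959 F59152 (iv D27958)
theorem F59156 : act 6 n27959 = n24715 := d22_1 D27959 (iv D24715) (iv F50185) (iv F50186)
def n27960 : Q := act 2 n24049
theorem D27960 : act 2 n24049 = n27960 := rfl
theorem F59157 : act 1 n27960 = n24806 := d6_1 D27960 F50416 F50231 (iv D24722) (iv F48488)
def n27961 : Q := act 6 n24049
theorem D27961 : act 6 n24049 = n27961 := rfl
theorem F59158 : act 3 n27961 = n24050 := d17_1 D27961 (iv D24050) D24049
def n27962 : Q := act 1 n24050
theorem D27962 : act 1 n24050 = n27962 := rfl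
theorem F59159 : act 4 n27962 = n24051 := d8_2 (iv F48490) D27962 (iv D24051)
theorem F59160 : act 6 n27962 = n24724 := d10_2 D24050 D27962 (iv D24724) (iv D20319) (iv F37200)
def n27963 : Q := act 5 n24050
theorem D27963 : act 5 n24050 = n27963 := rfl
theorem F59161 : act 0 n27963 = n27889 := d4_1 D27963 (iv F59120) F59117
theorem F59162 : act 2 n27963 = n24053 := d13_1 D27963 (iv D24053) (iv F48489)
theorem F59163 : act 4 n27963 = n24052 := d18_1 D27963 (iv D24052) (iv F48490)
theorem F59164 : act 6 n27963 = n27885 := d20_2 D24050 D27963 F58955 D27949 F59120 (iv D27889) F48280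
def n27964 : Q := act 0 n24051
theorem D27964 : act 0 n24051 = n27964 := rfl
theorem F59165 : act 6 n27964 = n24726 := d5_2 (iv F48491) D27964 (iv D24726)
def n27965 : Q := act 5 n24051
theorem D27965 : act 5 n24051 = n27965 := rfl
def n27966 : Q := act 1 n24052
theorem D27966 : act 1 n24052 = n27966 := rfl
def n27967 : Q := act 1 n24053
theorem D27967 : act 1 n24053 = n27967 := rfl
theorem F59166 : act 3 n27967 = n24300 := d7_2 (iv F48496) D27967 (iv D24300)
theorem F59167 : act 4 n27967 = n24054 := d8_2 (iv F48497) D27967 (iv D24054)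
def n27968 : Q := act 0 n24054
theorem D27968 : act 0 n24054 = n27968 := rfl
theorem F59168 : act 3 n27968 = n24055 := d2_2 (iv F48499) D27968 (iv D24055)
def n27969 : Q := act 2 n24054
theorem D27969 : act 2 n24054 = n27969 := rfl
def n27970 : Q := act 6 n24054
theorem D27970 : act 6 n24054 = n27970 := rfl
theorem F59169 : act 1 n27970 = n27883 := d10_1 D27970 (iv D27883) F48263 (iv F37207) D24054
theorem F59170 : act 3 n27970 = n24057 := d17_1 D27970 (iv D24057) (iv F48499)
def n27971 : Q := act 2 n24055
theorem D27971 : act 2 n24055 = n27971 := rfl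
theorem F59171 : act 0 n27971 = n24056 := d1_1 D27971 (iv D24056) D24055
theorem F59172 : act 1 n27971 = n26822 := d6_1 D27971 F55747 F43981 (iv F49143) F49142
theorem F59173 : act 4 n27971 = n24301 := d12_2 (iv F48500) D27971 (iv D24301)
def n27972 : Q := act 6 n24055
theorem D27972 : act 6 n24055 = n27972 := rfl
theorem F59174 : act 0 n27972 = n24057 := d5_1 D27972 (iv D24057) D24055
theorem F59175 : act 4 n27972 = n24302 := d19_1 D27972 (iv D24302) (iv F48500)
theorem F59176 : act 5 n27972 = n26352 := d22_2 F54307 D27972 (iv D26352) D26350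
def n27973 : Q := act 3 n24056
theorem D27973 : act 3 n24056 = n27973 := rfl
theorem F59177 : act 1 n27973 = n24067 := d7_1 D27973 (iv D24067) (iv F48501)
theorem F59178 : act 4 n27973 = n27370 := d15_2 (iv F48502) D27973 (iv D27370) F46184 F37726
def n27974 : Q := act 6 n24056
theorem D27974 : act 6 n24056 = n27974 := rfl
theorem F59179 : act 1 n27974 = n24117 := d10_1 D27974 (iv F52489) F52486 (iv D24068) (iv F48501)
theorem F59180 : act 2 n27974 = n24057 := d14_1 D27974 (iv D24057) D24056
theorem F59181 : act 4 n27974 = n24303 := d19_1 D27974 (iv D24303) (iv F48502)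
def n27975 : Q := act 5 n24057
theorem D27975 : act 5 n24057 = n27975 := rfl
theorem F59182 : act 0 n27975 = n26352 := d4_1 D27975 (iv F59176) F59174
theorem F59183 : act 1 n27975 = n26052 := d9_1 D27975 (iv D26052) F47907 (iv F48268) (iv F48503)
theorem F59184 : act 4 n27975 = n24304 := d18_1 D27975 (iv D24304) (iv F48504)
theorem F59185 : act 6 n27975 = n26350 := d20_2 D24057 D27975 F54307 D27972 F59176 (iv D26352) F42338
def n27976 : Q := act 1 n24058
theorem D27976 : act 1 n24058 = n27976 := rfl
theorem F59186 : act 2 n27976 = n24060 := d6_2 D24058 D27976 (iv D24060) (iv D19743) D19742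
theorem F59187 : act 4 n27976 = n24305 := d8_2 (iv F48505) D27976 (iv D24305)
theorem F59188 : act 3 n27435 = n27976 := d15_5 F59187 (iv F49332) F57652 (iv D27440) (iv F57636)
theorem F59189 : act 5 n27562 = n27976 := d18_0 F59187 F49327 (iv F57946)
def n27977 : Q := act 3 n24058
theorem D27977 : act 3 n24058 = n27977 := rfl
theorem F59190 : act 1 n27977 = n27435 := d7_1 D27977 F59188 (iv D27976)
theorem F59191 : act 4 n27977 = n26063 := d15_2 (iv F48505) D27977 (iv F57654) F53444 F43290
theorem F59192 : act 2 n27977 = n26061 := d21_2 D24058 D27977 F53588 D26712 (iv F55376) (iv D23886) (iv F47928) F47927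
def n27978 : Q := act 6 n24058
theorem D27978 : act 6 n24058 = n27978 := rfl
theorem F59193 : act 2 n27978 = n24059 := d14_1 D27978 (iv D24059) D24058
theorem F59194 : act 4 n27978 = n24307 := d19_1 D27978 (iv D24307) (iv F48505)
theorem F59195 : act 5 n27978 = n27853 := d22_2 F58840 D27978 (iv D27853) (iv F58838)
def n27979 : Q := act 0 n24060
theorem D27979 : act 0 n24060 = n27979 := rfl
theorem F59196 : act 1 n27979 = n25828 := d0_2 D24060 D27979 F53009 F41573 (iv F41580) (iv F42287) F42286 F28554 (iv F37210)
theorem F59197 : act 4 n27979 = n24308 := d3_2 (iv F48510) D27979 (iv D24308)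
theorem F59198 : act 6 n27976 = n27979 := d19_0 F59197 (iv F49129) (iv F59187)
def n27980 : Q := act 3 n24060
theorem D27980 : act 3 n24060 = n27980 := rfl
theorem F59199 : act 1 n27980 = n24061 := d7_1 D27980 (iv D24061) D24060
theorem F59200 : act 2 n27980 = n27565 := d21_4 D27435 F59188 F59186 D27980 F57953 F47353 (iv F57633) (iv D27434)
theorem F59201 : act 4 n27572 = n27980 := d12_0 F59200 F57954 (iv F57976)
theorem F59202 : act 5 n27563 = n27980 := d13_0 F59200 (iv D27565) (iv F57947)
def n27981 : Q := act 5 n24060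
theorem D27981 : act 5 n24060 = n27981 := rfl
theorem F59203 : act 2 n27981 = n27562 := d13_1 D27981 F59189 F59186
theorem F59204 : act 3 n27981 = n27563 := d16_1 D27981 F59202 (iv D27980)
theorem F59205 : act 4 n27981 = n24310 := d18_1 D27981 (iv D24310) (iv F48510)
theorem F59206 : act 6 n27981 = n27562 := d22_1 D27981 F59189 F59198 (iv D27979)
def n27982 : Q := act 6 n24060
theorem D27982 : act 6 n24060 = n27982 := rfl
theorem F59207 : act 0 n27982 = n27976 := d5_1 D27982 F59198 (iv D27979)
theorem F59208 : act 1 n27982 = n24076 := d10_1 D27982 (iv D24076) (iv D19754) (iv F37212) D24060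
theorem F59209 : act 2 n27982 = n27979 := d14_1 D27982 (iv F59198) F59186
theorem F59210 : act 4 n27982 = n24311 := d19_1 D27982 (iv D24311) (iv F48510)
theorem F59211 : act 5 n27982 = n24382 := d24_1 D27982 F49343 D24385 F49352 (iv F49312) (iv F42301) (iv D21814) F28554 F25336 D14516 F25346 D19760 F37246 D24060
def n27983 : Q := act 2 n24061
theorem D27983 : act 2 n24061 = n27983 := rfl
theorem F59212 : act 0 n27983 = n24062 := d1_1 D27983 (iv D24062) (iv F48511)
theorem F59213 : act 3 n27983 = n27939 := d11_2 D24061 D27983 (iv D27939) (iv D24023) (iv D19705) F25291 D14509 D19744 D24062 (iv F50088) F50087 F38422 F37099 F37095 D19743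
theorem F59214 : act 6 n27983 = n24077 := d14_2 (iv F48512) D27983 (iv D24077)
def n27984 : Q := act 4 n24061
theorem D27984 : act 4 n24061 = n27984 := rfl
theorem F59215 : act 0 n27984 = n24063 := d3_1 D27984 (iv D24063) (iv F48511)
theorem F59216 : act 1 n27984 = n27572 := d8_1 D27984 F59201 F59199
theorem F59217 : act 3 n27984 = n24313 := d15_1 D27984 (iv D24313) (iv D19970) (iv F37211) D24061
theorem F59218 : act 6 n27984 = n24078 := d19_2 (iv F48512) D27984 (iv D24078)
def n27985 : Q := act 1 n24062
theorem D27985 : act 1 n24062 = n27985 := rfl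
def n27986 : Q := act 4 n24062
theorem D27986 : act 4 n24062 = n27986 := rfl
theorem F59219 : act 2 n27986 = n24063 := d12_1 D27986 (iv D24063) D24062
theorem F59220 : act 6 n27986 = n24082 := d19_2 (iv F48513) D27986 (iv D24082)
def n27987 : Q := act 5 n24063
theorem D27987 : act 5 n24063 = n27987 := rfl
theorem F59221 : act 3 n27987 = n24317 := d16_1 D27987 (iv D24317) (iv F48514)
theorem F59222 : act 4 n27987 = n24064 := d18_1 D27987 (iv D24064) D24063
theorem F59223 : act 1 n27987 = n26378 := d24_2 (iv F48515) D27987 (iv D26378) D26377 F54377 F53633 F49904 D26118 F54212 (iv D26308) F42290 F28559 F25396 (iv F37239)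
def n27988 : Q := act 1 n24064
theorem D27988 : act 1 n24064 = n27988 := rfl
theorem F59224 : act 3 n27988 = n24065 := d7_2 (iv F48516) D27988 (iv D24065)
theorem F59225 : act 4 n27988 = n26378 := d8_2 F59222 D27988 (iv F59223)
theorem F59226 : act 0 n26385 = n27988 := d3_3 F59225 F54379 (iv F54390)
theorem F59227 : act 6 n26376 = n27988 := d19_0 F59225 (iv D26378) D26376
def n27989 : Q := act 1 n24066
theorem D27989 : act 1 n24066 = n27989 := rfl
theorem F59228 : act 2 n27989 = n24108 := d6_2 D24066 D27989 F48624 F48333 (iv F47332)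
theorem F59229 : act 4 n27989 = n24318 := d8_2 (iv F48521) D27989 (iv D24318)
theorem F59230 : act 5 n27989 = n24107 := d9_2 F52355 D27989 F48622 D24119 F52356
def n27990 : Q := act 3 n24066
theorem D27990 : act 3 n24066 = n27990 := rfl
theorem F59231 : act 0 n27990 = n24067 := d2_1 D27990 (iv D24067) (iv F48520)
theorem F59232 : act 4 n27990 = n27387 := d15_2 (iv F48521) D27990 (iv D27387) F46220 (iv F37742)
theorem F59233 : act 6 n27990 = n25514 := d17_2 (iv F48522) D27990 F52361
def n27991 : Q := act 2 n24067
theorem D27991 : act 2 n24067 = n27991 := rfl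
theorem F59234 : act 4 n27991 = n27388 := d12_2 (iv F48523) D27991 (iv D27388)
theorem F59235 : act 6 n27674 = n27991 := d19_0 F59234 (iv F57521) (iv F58209)
def n27992 : Q := act 6 n24067
theorem D27992 : act 6 n24067 = n27992 := rfl
theorem F59236 : act 0 n27992 = n25514 := d5_1 D27992 (iv F59233) F59231
theorem F59237 : act 2 n27992 = n27674 := d14_1 D27992 F59235 (iv D27991)
theorem F59238 : act 3 n27992 = n24068 := d17_1 D27992 (iv D24068) D24067
theorem F59239 : act 4 n27992 = n27389 := d19_1 D27992 (iv D27389) (iv F48523)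
theorem F59240 : act 5 n25510 = n27992 := d22_0 (iv D27992) F52363 (iv D25515) (iv F52349)
def n27993 : Q := act 5 n24069
theorem D27993 : act 5 n24069 = n27993 := rfl
theorem F59241 : act 0 n27993 = n24829 := d4_1 D27993 (iv D24829) (iv F48528)
theorem F59242 : act 1 n27993 = n24460 := d9_1 D27993 (iv F50326) F50324 (iv D24071) D24069
theorem F59243 : act 2 n27993 = n24075 := d13_1 D27993 (iv D24075) (iv F48529)
theorem F59244 : act 3 n27993 = n27513 := d16_1 D27993 (iv D27513) (iv F48547)
theorem F59245 : act 4 n27993 = n24320 := d18_1 D27993 (iv D24320) (iv F48530)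
def n27994 : Q := act 4 n24070
theorem D27994 : act 4 n24070 = n27994 := rfl
theorem F59246 : act 0 n27994 = n24832 := d3_1 D27994 F50467 (iv F48531)
theorem F59247 : act 1 n27994 = n27512 := d8_1 D27994 (iv D27512) F48549
theorem F59248 : act 2 n27994 = n27527 := d12_1 D27994 (iv D27527) (iv F48556)
theorem F59249 : act 3 n27994 = n24321 := d15_1 D27994 (iv D24321) (iv D19981) (iv F37227) D24070
def n27995 : Q := act 5 n24070
theorem D27995 : act 5 n24070 = n27995 := rfl
theorem F59250 : act 0 n27995 = n24838 := d4_1 D27995 (iv D24838) (iv F48531)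
theorem F59251 : act 2 n27995 = n27528 := d13_1 D27995 (iv D27528) (iv F48556)
theorem F59252 : act 3 n27995 = n24071 := d16_1 D27995 (iv D24071) D24070
theorem F59253 : act 6 n27995 = n27944 := d22_1 D27995 F59104 (iv D24839) (iv F48531)
theorem E10379 : n26044 = n26034 := (c23_12 D27995 F59251 (iv F58134) F58133 (iv D26001) (iv D21600) F28277 F21573 D12241 (iv F28293) D21624 D26044 F53528 (iv F50488) (iv D24846) (iv F50482) (iv D24842) (iv D20398) D20397 (iv F48531))
theorem F59254 : act 0 n26034 = n21624 := (sb E10379 (iv D26044))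
theorem F59255 : act 0 n24846 = n26340 := d1_3 F54279 F59254 (iv F50488)
theorem F59256 : act 5 n26045 = n26045 := d22_2 F53528 D26045 (iv D26045) (iv F59254)
def n27996 : Q := act 6 n24070
theorem D27996 : act 6 n24070 = n27996 := rfl
theorem F59257 : act 0 n27996 = n24839 := d5_1 D27996 (iv D24839) (iv F48531)
theorem F59258 : act 2 n27996 = n27529 := d14_1 D27996 (iv D27529) (iv F48556)
theorem F59259 : act 3 n27996 = n24072 := d17_1 D27996 (iv D24072) D24070
def n27997 : Q := act 6 n24075
theorem D27997 : act 6 n24075 = n27997 := rfl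
theorem F59260 : act 1 n27997 = n27853 := d10_1 D27997 (iv D27853) F47934 (iv F42071) F48543
theorem F59261 : act 3 n27997 = n27352 := d17_1 D27997 (iv F57790) F57789
theorem F59262 : act 4 n27997 = n24330 := d19_1 D27997 (iv D24330) (iv F48542)
theorem F59263 : act 5 n27997 = n27351 := d22_2 D24075 D27997 F57417 F48550
def n27998 : Q := act 5 n24076
theorem D27998 : act 5 n24076 = n27998 := rfl
theorem F59264 : act 0 n27998 = n27997 := d4_1 D27998 F59263 F57416
theorem F59265 : act 1 n27998 = n24368 := d9_1 D27998 F49297 (iv F49343) (iv F59211) F59208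
theorem F59266 : act 3 n27998 = n27496 := d16_1 D27998 F57801 (iv F57415)
theorem F59267 : act 4 n27998 = n24331 := d18_1 D27998 (iv D24331) (iv F48544)
theorem F59268 : act 6 n27998 = n27494 := d20_2 D24076 D27998 (iv D27494) (iv F57417) (iv F59263) (iv D27997) (iv D24075)
def n27999 : Q := act 4 n24077
theorem D27999 : act 4 n24077 = n27999 := rfl
theorem F59269 : act 0 n27999 = n24082 := d3_1 D27999 (iv D24082) (iv F48545)
theorem F59270 : act 1 n27999 = n24842 := d8_1 D27999 (iv F57784) F57783
theorem F59271 : act 2 n27999 = n24078 := d12_1 D27999 (iv D24078) D24077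
def n28000 : Q := act 5 n24077
theorem D28000 : act 5 n24077 = n28000 := rfl
theorem F59272 : act 0 n28000 = n24083 := d4_1 D28000 (iv D24083) (iv F48545)
theorem F59273 : act 2 n28000 = n24079 := d13_1 D28000 (iv D24079) D24077
theorem F59274 : act 3 n28000 = n24659 := d16_1 D28000 F50076 (iv F48546)
theorem F59275 : act 6 n28000 = n24663 := d22_1 D28000 (iv F50086) F48513 (iv F48545)
def n28001 : Q := act 5 n24078
theorem D28001 : act 5 n24078 = n28001 := rfl
theorem F59276 : act 0 n28001 = n24084 := d4_1 D28001 (iv D24084) (iv F48557)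
theorem F59277 : act 3 n28001 = n24333 := d16_1 D28001 (iv D24333) (iv F48558)
theorem F59278 : act 4 n28001 = n24079 := d18_1 D28001 (iv D24079) D24078
theorem F59279 : act 6 n28001 = n27987 := d22_1 D28001 (iv D27987) F48515 (iv F48557)
def n28002 : Q := act 1 n24079
theorem D28002 : act 1 n24079 = n28002 := rfl
theorem F59280 : act 3 n28002 = n24080 := d7_2 (iv F48560) D28002 (iv D24080)
theorem F59281 : act 5 n28002 = n26154 := d9_2 D24079 D28002 F57791 (iv D27492) F48553
theorem F59282 : act 6 n28002 = n25496 := d10_2 (iv F48561) D28002 (iv F54374) F59227 (iv D27988)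
theorem F59283 : act 0 n26161 = n28002 := d5_3 F59282 (iv F53416) (iv F53864)
def n28003 : Q := act 0 n24081
theorem D28003 : act 0 n24081 = n28003 := rfl
theorem F59284 : act 2 n28003 = n24149 := d1_2 (iv F48567) D28003 (iv D24149)
def n28004 : Q := act 4 n24081
theorem D28004 : act 4 n24081 = n28004 := rfl
theorem F59285 : act 1 n28004 = n24082 := d8_1 D28004 (iv D24082) D24081
theorem F59286 : act 2 n28004 = n24150 := d12_1 D28004 (iv D24150) (iv F48567)
theorem F59287 : act 3 n25458 = n28004 := d21_1 D25458 F59286 F48724 (iv F54010) F54011 F43829 (iv F49595) F49594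
def n28005 : Q := act 5 n24081
theorem D28005 : act 5 n24081 = n28005 := rfl
theorem F59288 : act 2 n28005 = n24151 := d13_1 D28005 (iv D24151) (iv F48567)
def n28006 : Q := act 6 n24081
theorem D28006 : act 6 n24081 = n28006 := rfl
theorem F59289 : act 2 n28006 = n24152 := d14_1 D28006 (iv D24152) (iv F48567)
def n28007 : Q := act 3 n24082
theorem D28007 : act 3 n24082 = n28007 := rfl
theorem F59290 : act 1 n28007 = n25458 := d7_1 D28007 F59287 F59285
theorem F59291 : act 2 n25460 = n28007 := d6_0 F59290 (iv D25458) (iv D21235) D21236 D25460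
def n28008 : Q := act 5 n24082
theorem D28008 : act 5 n24082 = n28008 := rfl
theorem F59292 : act 2 n28008 = n24084 := d13_1 D28008 (iv D24084) (iv F48568)
theorem F59293 : act 4 n28008 = n24083 := d18_1 D28008 (iv D24083) D24082
def n28009 : Q := act 1 n24083
theorem D28009 : act 1 n24083 = n28009 := rfl
theorem F59294 : act 2 n28009 = n28009 := d6_2 (iv F48569) D28009 (iv D28009) F48569 F37241
def n28010 : Q := act 6 n24083
theorem D28010 : act 6 n24083 = n28010 := rfl
theorem F59295 : act 0 n28010 = n24663 := d5_1 D28010 (iv F59275) F59272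
theorem F59296 : act 2 n28010 = n24085 := d14_1 D28010 (iv D24085) (iv F48569)
theorem F59297 : act 3 n28010 = n24662 := d17_1 D28010 (iv F52274) F52273
theorem F59298 : act 5 n28010 = n27983 := d20_1 D28010 F59214 D28000 F59275 (iv F50086) F48513 D24083
def n28011 : Q := act 6 n24084
theorem D28011 : act 6 n24084 = n28011 := rfl
theorem F59299 : act 0 n28011 = n27987 := d5_1 D28011 (iv F59279) F59276
theorem F59300 : act 3 n28011 = n24340 := d17_1 D28011 (iv D24340) (iv F48571)
theorem F59301 : act 4 n28011 = n24085 := d19_1 D28011 (iv D24085) (iv F48572)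
theorem F59302 : act 5 n28011 = n27984 := d20_1 D28011 F59218 D28001 F59279 (iv D27987) F48515 D24084
def n28012 : Q := act 1 n24085
theorem D28012 : act 1 n24085 = n28012 := rfl
theorem F59303 : act 3 n28012 = n24086 := d7_2 (iv F48574) D28012 (iv D24086)
theorem F59304 : act 6 n28012 = n28012 := d10_2 D24085 D28012 (iv D28012) (iv D24085) F37241
def n28013 : Q := act 0 n24086
theorem D28013 : act 0 n24086 = n28013 := rfl
theorem F59305 : act 4 n28013 = n24341 := d3_2 (iv F48576) D28013 (iv D24341)
theorem F59306 : act 6 n28013 = n28013 := d5_2 F48577 D28013 (iv D28013)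
theorem F59307 : act 1 n27871 = n28013 := d8_3 F59305 (iv F54942) (iv F58906)
def n28014 : Q := act 2 n24086
theorem D28014 : act 2 n24086 = n28014 := rfl
theorem F59308 : act 1 n28014 = n24087 := d6_1 D28014 (iv D24087) (iv D19761) (iv F37244) D24086
theorem F59309 : act 4 n28014 = n24342 := d12_2 (iv F48576) D28014 (iv D24342)
theorem F59310 : act 6 n28014 = n28014 := d14_2 F48577 D28014 (iv D28014)
def n28015 : Q := act 5 n24086
theorem D28015 : act 5 n24086 = n28015 := rfl
theorem F59311 : act 1 n28015 = n27981 := d9_1 D28015 (iv D27981) (iv D24060) (iv F37246) D24086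
theorem F59312 : act 4 n28015 = n24343 := d18_1 D28015 (iv D24343) (iv F48576)
def n28016 : Q := act 3 n24087
theorem D28016 : act 3 n24087 = n28016 := rfl
theorem F59313 : act 0 n28016 = n25253 := d2_1 D28016 (iv F53244) (iv F53247)
theorem F59314 : act 4 n28016 = n25250 := d15_2 (iv F48578) D28016 F51772 (iv F40557) F40559
theorem F59315 : act 6 n28016 = n27673 := d17_2 (iv F48579) D28016 F58206
theorem F59316 : act 2 n27598 = n28016 := d14_3 F59315 (iv D27673) (iv F58039)
theorem F59317 : act 5 n25249 = n28016 := d22_0 F59315 F58205 (iv F50997) (iv F51769)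
def n28017 : Q := act 5 n24087
theorem D28017 : act 5 n24087 = n28017 := rfl
theorem F59318 : act 0 n28017 = n25243 := d4_1 D28017 F53248 (iv F53247)
theorem F59319 : act 2 n28017 = n24088 := d13_1 D28017 (iv D24088) D24087
theorem F59320 : act 3 n28017 = n25249 := d16_1 D28017 F59317 (iv D28016)
theorem F59321 : act 4 n28017 = n24344 := d18_1 D28017 (iv D24344) (iv F48578)
theorem F59322 : act 6 n28017 = n25969 := d20_2 (iv F48579) D28017 (iv D25969) (iv F53246) (iv F53248) (iv F58912) (iv D27872)
def n28018 : Q := act 0 n24089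
theorem D28018 : act 0 n24089 = n28018 := rfl
theorem F59323 : act 1 n28018 = n26225 := d0_2 D24089 D28018 F54047 (iv F42427) F40765 (iv F41849) (iv F45681) F45682 F38824
theorem F59324 : act 4 n28018 = n24345 := d3_2 (iv F48584) D28018 (iv D24345)
theorem F59325 : act 5 n28018 = n26229 := d4_2 (iv F48585) D28018 F54058
theorem F59326 : act 6 n24765 = n28018 := d22_3 F48585 F58309 F58308 (iv D28018)
def n28019 : Q := act 6 n24089
theorem D28019 : act 6 n24089 = n28019 := rfl
theorem F59327 : act 0 n28019 = n24765 := d5_1 D28019 F59326 (iv D28018)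
theorem F59328 : act 1 n28019 = n24789 := d10_1 D28019 F56847 (iv D27150) F45628 D24089
theorem F59329 : act 2 n28019 = n28018 := d14_1 D28019 (iv F59326) F50317
theorem F59330 : act 4 n28019 = n24346 := d19_1 D28019 (iv D24346) (iv F48584)
def n28020 : Q := act 3 n24091
theorem D28020 : act 3 n24091 = n28020 := rfl
theorem F59331 : act 0 n28020 = n24100 := d2_1 D28020 (iv D24100) (iv F48590)
theorem F59332 : act 4 n28020 = n27942 := d15_2 D24091 D28020 (iv D27942) (iv D24029) (iv F37272)
def n28021 : Q := act 5 n24091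
theorem D28021 : act 5 n24091 = n28021 := rfl
theorem F59333 : act 0 n28021 = n24101 := d4_1 D28021 (iv D24101) (iv F48590)
theorem F59334 : act 2 n28021 = n24093 := d13_1 D28021 (iv D24093) (iv F48591)
theorem F59335 : act 4 n28021 = n24092 := d18_1 D28021 (iv D24092) D24091
theorem F59336 : act 6 n28021 = n27917 := d22_1 D28021 (iv D27917) F48347 (iv F48590)
def n28022 : Q := act 1 n24092
theorem D28022 : act 1 n24092 = n28022 := rfl
theorem F59337 : act 3 n28022 = n27017 := d7_2 (iv F48594) D28022 F56416
def n28023 : Q := act 0 n24094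
theorem D28023 : act 0 n24094 = n28023 := rfl
theorem F59338 : act 3 n28023 = n24095 := d2_2 (iv F48600) D28023 (iv D24095)
def n28024 : Q := act 2 n24094
theorem D28024 : act 2 n24094 = n28024 := rfl
def n28025 : Q := act 6 n24094
theorem D28025 : act 6 n24094 = n28025 := rfl
theorem F59339 : act 1 n28025 = n27922 := d10_1 D28025 (iv D27922) (iv D24003) (iv F37278) D24094
theorem F59340 : act 3 n28025 = n24097 := d17_1 D28025 (iv D24097) (iv F48600)
def n28026 : Q := act 2 n24095
theorem D28026 : act 2 n24095 = n28026 := rfl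
theorem F59341 : act 0 n28026 = n24096 := d1_1 D28026 (iv D24096) D24095
theorem F59342 : act 1 n28026 = n24882 := d6_1 D28026 F57651 F57653 (iv F53615) (iv F53618)
theorem F59343 : act 4 n28026 = n24348 := d12_2 (iv F48601) D28026 (iv D24348)
theorem F59344 : act 5 n28026 = n24878 := d13_2 F58415 D28026 (iv F58413)
theorem F59345 : act 6 n27736 = n28026 := d20_0 F59344 F58403 F58402 F53907 (iv F58411) (iv D27741) (iv F58392)
def n28027 : Q := act 6 n24095
theorem D28027 : act 6 n24095 = n28027 := rfl
theorem F59346 : act 0 n28027 = n24097 := d5_1 D28027 (iv D24097) D24095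
theorem F59347 : act 1 n28027 = n24900 := d10_1 D28027 F50597 F53587 (iv F53617) (iv F53618)
theorem F59348 : act 2 n28027 = n27736 := d14_1 D28027 F59345 (iv D28026)
theorem F59349 : act 4 n28027 = n24349 := d19_1 D28027 (iv D24349) (iv F48601)
theorem F59350 : act 5 n28027 = n27740 := d22_2 F58415 D28027 (iv F58406) D27742
def n28028 : Q := act 3 n24096
theorem D28028 : act 3 n24096 = n28028 := rfl
theorem F59351 : act 1 n28028 = n24098 := d7_1 D28028 (iv D24098) (iv F48602)
theorem F59352 : act 4 n28028 = n27332 := d15_2 (iv F48603) D28028 F59142 F57623 F47115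
theorem F59353 : act 2 n28028 = n27330 := d25_14 (iv F23410) (iv F31823) (iv F38410) F38411 F26182 (iv F34712) (iv F37136) (iv F48435) (iv F48594) F48593 D24094 F48600 D24096 D28028 (iv D27330) F46135 F35633 (iv F33709) (iv F41558) D25818 F52987 D26556 (iv F54867) (iv D23877) (iv D19549) F25074 (iv F25169) (iv F29130) F27461 (iv F36364) D23792 (iv F48211) F48210 (iv F47805) F47804 (iv F44693) F44694 F47710 F47707 (iv F48220) (iv D23957) F36951 F36473 (iv F27518) (iv F35096) D19602 F36842 D19616 (iv F48152) F48151 F36845 (iv F36156) F36155 (iv F46908) F46909 F35630 D23540 F46911 (iv F49109) F49110 F46999 F35670 F25683 F20191 (iv F20164) (iv F25621) F35000 (iv F27004) F27003 F20942 F14583 D9896 (iv F19782) (iv F24695) (iv F35979) (iv D18243) (iv D13349)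
theorem F59354 : act 3 n28024 = n27957 := d21_7 (iv D27722) (iv F57368) (iv F59353) (iv D28028) (iv D24096) (iv F48600) D28024 F59143
theorem F59355 : act 6 n27953 = n28024 := d17_0 F59354 (iv D27957) (iv F59124)
theorem F59356 : act 2 n28025 = n27953 := d14_3 F59355 (iv D28024) D28025
theorem F59357 : act 5 n27952 = n28025 := d13_0 F59356 (iv D27953) D27952
def n28029 : Q := act 5 n24097
theorem D28029 : act 5 n24097 = n28029 := rfl
theorem F59358 : act 0 n28029 = n27740 := d4_1 D28029 (iv F59350) F59346
theorem F59359 : act 2 n28029 = n27739 := d13_1 D28029 F58402 (iv F53908)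
theorem F59360 : act 3 n28029 = n27952 := d16_1 D28029 F59357 F59340
theorem F59361 : act 4 n28029 = n24350 := d18_1 D28029 (iv D24350) (iv F48605)
theorem F59362 : act 6 n28029 = n27742 := d20_2 D24097 D28029 F58415 D28027 F59350 (iv F58406) F47125
theorem F59363 : act 1 n24879 = n28029 := d8_3 F59361 (iv F49246) (iv F50561)
def n28030 : Q := act 4 n24098
theorem D28030 : act 4 n24098 = n28030 := rfl
theorem F59364 : act 0 n28030 = n27672 := d3_1 D28030 F58199 (iv F50292)
theorem F59365 : act 1 n28030 = n27332 := d8_1 D28030 (iv F59352) F59351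
theorem F59366 : act 2 n28030 = n24703 := d12_1 D28030 (iv F58107) (iv F58109)
theorem F59367 : act 3 n28030 = n24352 := d15_1 D28030 (iv D24352) (iv D20009) (iv F37283) D24098
theorem F59368 : act 6 n24714 = n28030 := d14_0 F59366 F50185 D24714
def n28031 : Q := act 6 n24098
theorem D28031 : act 6 n24098 = n28031 := rfl
theorem F59369 : act 2 n28031 = n24712 := d14_1 D28031 (iv F58108) (iv F58109)
theorem F59370 : act 3 n28031 = n24099 := d17_1 D28031 (iv D24099) D24098
theorem F59371 : act 4 n28031 = n24714 := d19_1 D28031 F59368 (iv D28030)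
theorem F59372 : act 5 n28031 = n24764 := d22_2 F50314 D28031 (iv D24764) D24762
def n28032 : Q := act 2 n24100
theorem D28032 : act 2 n24100 = n28032 := rfl
theorem F59373 : act 1 n28032 = n24859 := d6_1 D28032 F50522 F50337 (iv D24771) (iv F48609)
def n28033 : Q := act 5 n24100
theorem D28033 : act 5 n24100 = n28033 := rfl
theorem F59374 : act 3 n28033 = n24101 := d16_1 D28033 (iv D24101) D24100
def n28034 : Q := act 1 n24101
theorem D28034 : act 1 n24101 = n28034 := rfl
theorem F59375 : act 4 n28034 = n24102 := d8_2 (iv F48611) D28034 (iv D24102)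
theorem F59376 : act 5 n28034 = n24773 := d9_2 D24101 D28034 (iv D24773) (iv D20353) (iv F37286)
def n28035 : Q := act 6 n24101
theorem D28035 : act 6 n24101 = n28035 := rfl
theorem F59377 : act 0 n28035 = n27917 := d5_1 D28035 (iv F59336) F59333
theorem F59378 : act 2 n28035 = n24104 := d14_1 D28035 (iv D24104) (iv F48610)
theorem F59379 : act 4 n28035 = n24103 := d19_1 D28035 (iv D24103) (iv F48611)
theorem F59380 : act 5 n28035 = n27913 := d20_1 D28035 F59026 D28021 F59336 (iv D27917) F48347 D24101
def n28036 : Q := act 0 n24102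
theorem D28036 : act 0 n24102 = n28036 := rfl
theorem F59381 : act 5 n28036 = n24775 := d4_2 (iv F48612) D28036 (iv D24775)
def n28037 : Q := act 6 n24102
theorem D28037 : act 6 n24102 = n28037 := rfl
def n28038 : Q := act 1 n24103
theorem D28038 : act 1 n24103 = n28038 := rfl
def n28039 : Q := act 1 n24104
theorem D28039 : act 1 n24104 = n28039 := rfl
theorem F59382 : act 3 n28039 = n24357 := d7_2 (iv F48617) D28039 (iv D24357)
theorem F59383 : act 4 n28039 = n24105 := d8_2 (iv F48618) D28039 (iv D24105)
def n28040 : Q := act 0 n24105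
theorem D28040 : act 0 n24105 = n28040 := rfl
theorem F59384 : act 3 n28040 = n24106 := d2_2 (iv F48620) D28040 (iv D24106)
def n28041 : Q := act 2 n24105
theorem D28041 : act 2 n24105 = n28041 := rfl
def n28042 : Q := act 5 n24105
theorem D28042 : act 5 n24105 = n28042 := rfl
theorem F59385 : act 1 n28042 = n27911 := d9_1 D28042 (iv D27911) F48330 (iv F37293) D24105
theorem F59386 : act 3 n28042 = n24108 := d16_1 D28042 (iv D24108) (iv F48620)
def n28043 : Q := act 2 n24106
theorem D28043 : act 2 n24106 = n28043 := rfl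
theorem F59387 : act 0 n28043 = n24107 := d1_1 D28043 (iv D24107) D24106
theorem F59388 : act 1 n28043 = n26857 := d6_1 D28043 F55855 F44115 (iv F49304) F49303
theorem F59389 : act 4 n28043 = n24359 := d12_2 (iv F48621) D28043 (iv D24359)
def n28044 : Q := act 5 n24106
theorem D28044 : act 5 n24106 = n28044 := rfl
theorem F59390 : act 0 n28044 = n24108 := d4_1 D28044 (iv D24108) D24106
theorem F59391 : act 4 n28044 = n24360 := d18_1 D28044 (iv D24360) (iv F48621)
theorem F59392 : act 6 n28044 = n26426 := d22_1 D28044 (iv D26426) F42458 D24106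
def n28045 : Q := act 3 n24107
theorem D28045 : act 3 n24107 = n28045 := rfl
theorem F59393 : act 1 n28045 = n24118 := d7_1 D28045 (iv D24118) (iv F48622)
theorem F59394 : act 4 n28045 = n27458 := d15_2 (iv F48623) D28045 (iv D27458) F46364 F37822
def n28046 : Q := act 6 n24108
theorem D28046 : act 6 n24108 = n28046 := rfl
theorem F59395 : act 0 n28046 = n26426 := d5_1 D28046 (iv F59392) F59390
theorem F59396 : act 1 n28046 = n26283 := d10_1 D28046 (iv D26283) F47914 (iv F48335) (iv F48624)
theorem F59397 : act 4 n28046 = n24361 := d19_1 D28046 (iv D24361) (iv F48625)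
theorem F59398 : act 5 n28046 = n26424 := d20_1 D28046 F54478 D28044 F59392 (iv D26426) F42458 D24108
def n28047 : Q := act 1 n24109
theorem D28047 : act 1 n24109 = n28047 := rfl
theorem F59399 : act 2 n28047 = n24111 := d6_2 D24109 D28047 (iv D24111) (iv D19781) D19780
theorem F59400 : act 4 n28047 = n24362 := d8_2 (iv F48626) D28047 (iv D24362)
theorem F59401 : act 3 n27346 = n28047 := d15_5 F59400 F49274 F57419 (iv D27351) (iv F57403)
theorem F59402 : act 6 n27486 = n28047 := d19_0 F59400 (iv F49276) (iv F57770)
def n28048 : Q := act 3 n24109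
theorem D28048 : act 3 n24109 = n28048 := rfl
theorem F59403 : act 1 n28048 = n27346 := d7_1 D28048 F59401 (iv D28047)
theorem F59404 : act 4 n28048 = n25821 := d15_2 (iv F48626) D28048 (iv F57421) F54040 F43841
theorem F59405 : act 2 n28048 = n25818 := d21_2 D24109 D28048 F52987 D26556 (iv F54867) (iv D23877) (iv F47916) F47915
def n28049 : Q := act 5 n24109
theorem D28049 : act 5 n24109 = n28049 := rfl
theorem F59406 : act 2 n28049 = n24110 := d13_1 D28049 (iv D24110) D24109
theorem F59407 : act 4 n28049 = n24363 := d18_1 D28049 (iv D24363) (iv F48626)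
theorem F59408 : act 6 n28049 = n27849 := d22_1 D28049 (iv D27849) (iv F53403) (iv F53404)
def n28050 : Q := act 0 n24111
theorem D28050 : act 0 n24111 = n28050 := rfl
theorem F59409 : act 1 n28050 = n26068 := d0_2 D24111 D28050 F53601 F41916 (iv F41922) (iv F42405) F42404 F28615 (iv F37296)
theorem F59410 : act 4 n28050 = n24365 := d3_2 (iv F48631) D28050 (iv D24365)
theorem F59411 : act 5 n28050 = n28047 := d23_4 (iv F25372) D19781 D24111 D28050 F59399 (iv D24111) F37296 F25374 (iv D11300) (iv D8941) F6574 F6572 F6458 F16892 F3249 D2075 (iv F6575) D8941 D11299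
def n28051 : Q := act 3 n24111
theorem D28051 : act 3 n24111 = n28051 := rfl
theorem F59412 : act 1 n28051 = n24112 := d7_1 D28051 (iv D24112) D24111
theorem F59413 : act 4 n28051 = n27496 := d15_2 (iv F48631) D28051 (iv F59266) F59267 F49184
theorem F59414 : act 2 n28051 = n27489 := d21_4 D27346 F59401 F59399 D28051 F57777 F47216 (iv F57400) (iv D27345)
theorem F59415 : act 6 n27487 = n28051 := d14_0 F59414 (iv D27489) (iv F57771)
def n28052 : Q := act 5 n24111
theorem D28052 : act 5 n24111 = n28052 := rfl
theorem F59416 : act 0 n28052 = n28047 := d4_1 D28052 (iv F59411) (iv D28050)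
theorem F59417 : act 1 n28052 = n24126 := d9_1 D28052 (iv D24126) (iv D19792) (iv F37298) D24111
theorem F59418 : act 2 n28052 = n28050 := d13_1 D28052 F59411 F59399
theorem F59419 : act 4 n28052 = n24329 := d18_1 D28052 F49180 (iv F48631)
theorem F59420 : act 6 n24328 = n28052 := d24_0 (iv D28052) (iv D24111) (iv F37335) (iv D19798) F25384 (iv D14538) (iv F25374) (iv F28615) D21865 F42418 (iv F49151) (iv F49191) (iv D24333) (iv F49177)
def n28053 : Q := act 6 n24111
theorem D28053 : act 6 n24111 = n28053 := rfl
theorem F59421 : act 2 n28053 = n27486 := d14_1 D28053 F59402 F59399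
theorem F59422 : act 3 n28053 = n27487 := d17_1 D28053 F59415 (iv D28051)
theorem F59423 : act 4 n28053 = n24366 := d19_1 D28053 (iv D24366) (iv F48631)
theorem F59424 : act 5 n28053 = n27486 := d22_2 (iv D28052) D28053 F59402 (iv F59416)
def n28054 : Q := act 2 n24112
theorem D28054 : act 2 n24112 = n28054 := rfl
theorem F59425 : act 0 n28054 = n24113 := d1_1 D28054 (iv D24113) (iv F48632)
theorem F59426 : act 3 n28054 = n27943 := d11_2 D24112 D28054 (iv D27943) (iv D24031) (iv D19718) F25305 D14531 D19782 D24113 (iv F50142) F50141 F38468 (iv F37141) F37137 D19781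
theorem F59427 : act 5 n28054 = n24128 := d13_2 (iv F48633) D28054 (iv D24128)
def n28055 : Q := act 4 n24112
theorem D28055 : act 4 n24112 = n28055 := rfl
theorem F59428 : act 0 n28055 = n24114 := d3_1 D28055 (iv D24114) (iv F48632)
theorem F59429 : act 1 n28055 = n27496 := d8_1 D28055 (iv F59413) F59412
theorem F59430 : act 3 n28055 = n24368 := d15_1 D28055 (iv D24368) (iv D20024) (iv F37297) D24112
theorem F59431 : act 5 n28055 = n24129 := d18_2 (iv F48633) D28055 (iv D24129)
def n28056 : Q := act 1 n24113
theorem D28056 : act 1 n24113 = n28056 := rfl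
theorem F59432 : act 0 n28056 = n26416 := d23_3 (iv F37299) D24113 D28056 F54458 (iv D24776) (iv D20354) (iv F38594) (iv D20343) (iv D15069) (iv F26243) F26242 D16354 F28324 D18879 D23298 F46345 D23410 F48674 F37323
theorem F59433 : act 2 n28036 = n28056 := d23_1 (iv F59381) (iv D28056) (iv F59425) F59427 (iv D24128) (iv F48674) F46606 (iv F46346) (iv D23299) (iv D18879) (iv F33788) (iv D18873) (iv F26244) F26243 F20498 D11572 (iv F26267) D20354 D24775
theorem F59434 : act 1 n26382 = n28036 := d6_5 F59433 (iv D28056) (iv D24113) (iv F42413) (iv F54383)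
def n28057 : Q := act 4 n24113
theorem D28057 : act 4 n24113 = n28057 := rfl
theorem F59435 : act 2 n28057 = n24114 := d12_1 D28057 (iv D24114) D24113
theorem F59436 : act 5 n28057 = n24133 := d18_2 (iv F48634) D28057 (iv D24133)
def n28058 : Q := act 6 n24114
theorem D28058 : act 6 n24114 = n28058 := rfl
theorem F59437 : act 3 n28058 = n24372 := d17_1 D28058 (iv D24372) (iv F48635)
theorem F59438 : act 4 n28058 = n24115 := d19_1 D28058 (iv D24115) D24114
theorem F59439 : act 1 n26301 = n28058 := d24_14 (iv D28058) F48636 F37328 F25403 (iv F28622) (iv F42411) D26385 (iv F54391) (iv D25879) (iv F50040) (iv F53030) (iv F54203) (iv D26302) D26301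
def n28059 : Q := act 1 n24115
theorem D28059 : act 1 n24115 = n28059 := rfl
theorem F59440 : act 3 n28059 = n24116 := d7_2 (iv F48637) D28059 (iv D24116)
theorem F59441 : act 4 n28059 = n26301 := d8_2 F59438 D28059 F59439
theorem F59442 : act 0 n26308 = n28059 := d3_3 F59441 F54200 (iv F54211)
theorem F59443 : act 5 n26300 = n28059 := d18_0 F59441 (iv D26301) D26300
def n28060 : Q := act 3 n24117
theorem D28060 : act 3 n24117 = n28060 := rfl
theorem F59444 : act 0 n28060 = n24118 := d2_1 D28060 (iv D24118) (iv F48641)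
theorem F59445 : act 4 n28060 = n27470 := d15_2 (iv F48642) D28060 (iv D27470) F46389 (iv F37838)
theorem F59446 : act 5 n28060 = n25573 := d16_2 (iv F48643) D28060 F52496
def n28061 : Q := act 2 n24118
theorem D28061 : act 2 n24118 = n28061 := rfl
theorem F59447 : act 4 n28061 = n27471 := d12_2 (iv F48644) D28061 (iv D27471)
theorem F59448 : act 5 n27635 = n28061 := d18_0 F59447 F57734 (iv F58120)
def n28062 : Q := act 5 n24118
theorem D28062 : act 5 n24118 = n28062 := rfl
theorem F59449 : act 0 n28062 = n25573 := d4_1 D28062 (iv F59446) F59444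
theorem F59450 : act 2 n28062 = n27635 := d13_1 D28062 F59448 (iv D28061)
theorem F59451 : act 3 n28062 = n24119 := d16_1 D28062 (iv D24119) D24118
theorem F59452 : act 4 n28062 = n27472 := d18_1 D28062 (iv D27472) (iv F48644)
theorem F59453 : act 6 n28062 = n25568 := d22_3 D25572 (iv F52495) D28062 F52482
def n28063 : Q := act 6 n24120
theorem D28063 : act 6 n24120 = n28063 := rfl
theorem F59454 : act 0 n28063 = n24883 := d5_1 D28063 (iv D24883) (iv F48649)
theorem F59455 : act 1 n28063 = n24462 := d10_1 D28063 (iv F50221) F50218 (iv D24123) D24120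
theorem F59456 : act 2 n28063 = n24127 := d14_1 D28063 (iv D24127) (iv F48650)
theorem F59457 : act 3 n28063 = n27589 := d17_1 D28063 (iv D27589) (iv F48668)
theorem F59458 : act 4 n28063 = n24374 := d19_1 D28063 (iv D24374) (iv F48651)
def n28064 : Q := act 4 n24121
theorem D28064 : act 4 n24121 = n28064 := rfl
theorem F59459 : act 0 n28064 = n24885 := d3_1 D28064 F50571 (iv F48652)
theorem F59460 : act 1 n28064 = n27588 := d8_1 D28064 (iv D27588) F48670
theorem F59461 : act 2 n28064 = n27603 := d12_1 D28064 (iv D27603) (iv F48677)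
theorem F59462 : act 3 n28064 = n24375 := d15_1 D28064 (iv D24375) (iv D20035) (iv F37315) D24121
def n28065 : Q := act 5 n24121
theorem D28065 : act 5 n24121 = n28065 := rfl
theorem F59463 : act 0 n28065 = n24891 := d4_1 D28065 (iv D24891) (iv F48652)
theorem F59464 : act 2 n28065 = n27604 := d13_1 D28065 (iv D27604) (iv F48677)
theorem F59465 : act 3 n28065 = n24122 := d16_1 D28065 (iv D24122) D24121
def n28066 : Q := act 6 n24121
theorem D28066 : act 6 n24121 = n28066 := rfl
theorem F59466 : act 0 n28066 = n24892 := d5_1 D28066 (iv D24892) (iv F48652)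
theorem F59467 : act 2 n28066 = n27605 := d14_1 D28066 (iv D27605) (iv F48677)
theorem F59468 : act 3 n28066 = n24123 := d17_1 D28066 (iv D24123) D24121
theorem F59469 : act 5 n28066 = n27940 := d22_2 (iv D28065) D28066 F59095 (iv F59463)
def n28067 : Q := act 6 n24126
theorem D28067 : act 6 n24126 = n28067 := rfl
theorem F59470 : act 1 n28067 = n24313 := d10_1 D28067 F49136 (iv F49177) F59420 F59417
theorem F59471 : act 3 n28067 = n27572 := d17_1 D28067 F57977 (iv F57648)
theorem F59472 : act 4 n28067 = n24309 := d19_1 D28067 F49123 (iv F48663)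
theorem F59473 : act 5 n28067 = n27570 := d22_2 D24126 D28067 (iv D27570) F48671
def n28068 : Q := act 5 n24127
theorem D28068 : act 5 n24127 = n28068 := rfl
theorem F59474 : act 0 n28068 = n28067 := d4_1 D28068 F59473 F57971
theorem F59475 : act 1 n28068 = n27849 := d9_1 D28068 (iv D27849) F47922 (iv F41727) F48665
theorem F59476 : act 3 n28068 = n27441 := d16_1 D28068 (iv F57966) F57965
theorem F59477 : act 4 n28068 = n24383 := d18_1 D28068 (iv D24383) (iv F48664)
theorem F59478 : act 6 n28068 = n27440 := d20_2 D24127 D28068 F57650 D27570 (iv F59473) (iv D28067) (iv D24126)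
def n28069 : Q := act 4 n24128
theorem D28069 : act 4 n24128 = n28069 := rfl
theorem F59479 : act 0 n28069 = n24133 := d3_1 D28069 (iv D24133) (iv F48666)
theorem F59480 : act 1 n28069 = n24894 := d8_1 D28069 (iv F57960) F57959
theorem F59481 : act 2 n28069 = n24129 := d12_1 D28069 (iv D24129) D24128
def n28070 : Q := act 6 n24128
theorem D28070 : act 6 n24128 = n28070 := rfl
theorem F59482 : act 0 n28070 = n24134 := d5_1 D28070 (iv D24134) (iv F48666)
theorem F59483 : act 2 n28070 = n24130 := d14_1 D28070 (iv D24130) D24128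
theorem F59484 : act 3 n28070 = n24681 := d17_1 D28070 F50131 (iv F48667)
theorem F59485 : act 5 n28070 = n24685 := d22_2 F59427 D28070 (iv F50140) (iv F59425)
def n28071 : Q := act 6 n24129
theorem D28071 : act 6 n24129 = n28071 := rfl
theorem F59486 : act 0 n28071 = n24135 := d5_1 D28071 (iv D24135) (iv F48678)
theorem F59487 : act 3 n28071 = n24385 := d17_1 D28071 (iv D24385) (iv F48679)
theorem F59488 : act 4 n28071 = n24130 := d19_1 D28071 (iv D24130) D24129
theorem F59489 : act 5 n28071 = n28058 := d22_2 F59431 D28071 (iv D28058) (iv F59428)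
def n28072 : Q := act 1 n24130
theorem D28072 : act 1 n24130 = n28072 := rfl
theorem F59490 : act 3 n28072 = n24131 := d7_2 (iv F48681) D28072 (iv D24131)
theorem F59491 : act 5 n28072 = n25554 := d9_2 (iv F48682) D28072 (iv F54198) F59443 (iv D28059)
theorem F59492 : act 6 n28072 = n25919 := d10_2 D24130 D28072 F57967 (iv D27568) F48674
theorem F59493 : act 0 n25927 = n28072 := d5_3 F59492 F53259 D25927
def n28073 : Q := act 0 n24132
theorem D28073 : act 0 n24132 = n28073 := rfl
theorem F59494 : act 2 n28073 = n24162 := d1_2 (iv F48688) D28073 (iv D24162)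
def n28074 : Q := act 4 n24132
theorem D28074 : act 4 n24132 = n28074 := rfl
theorem F59495 : act 1 n28074 = n24133 := d8_1 D28074 (iv D24133) D24132
theorem F59496 : act 2 n28074 = n24163 := d12_1 D28074 (iv D24163) (iv F48688)
theorem F59497 : act 3 n25424 = n28074 := d21_1 D25424 F59496 F48748 (iv F53418) F53419 F43275 (iv F49606) F49605
def n28075 : Q := act 5 n24132
theorem D28075 : act 5 n24132 = n28075 := rfl
theorem F59498 : act 2 n28075 = n24164 := d13_1 D28075 (iv D24164) (iv F48688)
def n28076 : Q := act 6 n24132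
theorem D28076 : act 6 n24132 = n28076 := rfl
theorem F59499 : act 2 n28076 = n24165 := d14_1 D28076 (iv D24165) (iv F48688)
def n28077 : Q := act 3 n24133
theorem D28077 : act 3 n24133 = n28077 := rfl
theorem F59500 : act 1 n28077 = n25424 := d7_1 D28077 F59497 F59495
theorem F59501 : act 2 n25426 = n28077 := d6_0 F59500 (iv D25424) (iv D21211) D21212 D25426
def n28078 : Q := act 6 n24133
theorem D28078 : act 6 n24133 = n28078 := rfl
theorem F59502 : act 2 n28078 = n24135 := d14_1 D28078 (iv D24135) (iv F48689)
theorem F59503 : act 4 n28078 = n24134 := d19_1 D28078 (iv D24134) D24133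
def n28079 : Q := act 1 n24134
theorem D28079 : act 1 n24134 = n28079 := rfl
theorem F59504 : act 2 n28079 = n28079 := d6_2 (iv F48690) D28079 (iv D28079) F48690 F37330
def n28080 : Q := act 5 n24134
theorem D28080 : act 5 n24134 = n28080 := rfl
theorem F59505 : act 0 n28080 = n24685 := d4_1 D28080 (iv F59485) F59482
theorem F59506 : act 2 n28080 = n24136 := d13_1 D28080 (iv D24136) (iv F48690)
theorem F59507 : act 3 n28080 = n24684 := d16_1 D28080 F52218 F52217
theorem F59508 : act 6 n28080 = n28054 := d20_2 D24134 D28080 F59427 D28070 F59485 (iv F50140) F48634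
def n28081 : Q := act 5 n24135
theorem D28081 : act 5 n24135 = n28081 := rfl
theorem F59509 : act 0 n28081 = n28058 := d4_1 D28081 (iv F59489) F59486
theorem F59510 : act 3 n28081 = n24392 := d16_1 D28081 (iv D24392) (iv F48692)
theorem F59511 : act 4 n28081 = n24136 := d18_1 D28081 (iv D24136) (iv F48693)
theorem F59512 : act 6 n28081 = n28055 := d20_2 D24135 D28081 F59431 D28071 F59489 (iv D28058) F48636
def n28082 : Q := act 1 n24136
theorem D28082 : act 1 n24136 = n28082 := rfl
theorem F59513 : act 3 n28082 = n24137 := d7_2 (iv F48695) D28082 (iv D24137)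
theorem F59514 : act 5 n28082 = n28082 := d9_2 D24136 D28082 (iv D28082) (iv D24136) F37330
def n28083 : Q := act 0 n24137
theorem D28083 : act 0 n24137 = n28083 := rfl
theorem F59515 : act 4 n28083 = n24393 := d3_2 (iv F48697) D28083 (iv D24393)
theorem F59516 : act 5 n28083 = n28083 := d4_2 F48698 D28083 (iv D28083)
theorem F59517 : act 1 n27866 = n28083 := d8_3 F59515 (iv F49376) (iv F58888)
def n28084 : Q := act 2 n24137
theorem D28084 : act 2 n24137 = n28084 := rfl
theorem F59518 : act 1 n28084 = n24138 := d6_1 D28084 (iv D24138) (iv D19799) (iv F37333) D24137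
theorem F59519 : act 4 n28084 = n24394 := d12_2 (iv F48697) D28084 (iv D24394)
theorem F59520 : act 5 n28084 = n28084 := d13_2 F48698 D28084 (iv D28084)
def n28085 : Q := act 6 n24137
theorem D28085 : act 6 n24137 = n28085 := rfl
theorem F59521 : act 1 n28085 = n28053 := d10_1 D28085 (iv D28053) (iv D24111) (iv F37335) D24137
theorem F59522 : act 4 n28085 = n24395 := d19_1 D28085 (iv D24395) (iv F48697)
def n28086 : Q := act 3 n24138
theorem D28086 : act 3 n24138 = n28086 := rfl
theorem F59523 : act 0 n28086 = n25205 := d2_1 D28086 (iv F53833) (iv F53836)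
theorem F59524 : act 4 n28086 = n25202 := d15_2 (iv F48699) D28086 F51607 (iv F40629) F40631
theorem F59525 : act 5 n28086 = n27633 := d16_2 (iv F48700) D28086 F58114
theorem F59526 : act 2 n27522 = n28086 := d13_3 F59525 (iv D27633) (iv F57861)
theorem F59527 : act 6 n28086 = n25201 := d22_3 F50920 (iv F58113) (iv F59525) F51604
def n28087 : Q := act 6 n24138
theorem D28087 : act 6 n24138 = n28087 := rfl
theorem F59528 : act 0 n28087 = n25195 := d5_1 D28087 F53837 (iv F53836)
theorem F59529 : act 2 n28087 = n24139 := d14_1 D28087 (iv D24139) D24138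
theorem F59530 : act 3 n28087 = n25201 := d17_1 D28087 (iv F59527) (iv D28086)
theorem F59531 : act 4 n28087 = n24396 := d19_1 D28087 (iv D24396) (iv F48699)
theorem F59532 : act 5 n28087 = n26204 := d20_1 D28087 (iv D26204) (iv F53835) (iv F53837) (iv F58894) (iv D27867) (iv F48700)
def n28088 : Q := act 5 n24140
theorem D28088 : act 5 n24140 = n28088 := rfl
theorem F59533 : act 4 n28088 = n24398 := d18_1 D28088 (iv D24398) (iv F48705)
theorem F59534 : act 1 n28088 = n26155 := d24_2 F53092 D28088 (iv F53852) (iv F55080) F55078 F43179 (iv D21747) (iv D16426) D16429 (iv F40905) (iv F52072) (iv F53097) (iv D25864) D25862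
theorem F59535 : act 6 n25840 = n28088 := d24_0 (iv D28088) (iv D24140) D24143 F48713 F37918 F25794 (iv F30278) (iv F44103) F44105 (iv D21509) F28165 (iv F28129) D21488 D25840
def n28089 : Q := act 2 n24141
theorem D28089 : act 2 n24141 = n28089 := rfl
theorem F59536 : act 0 n28089 = n24144 := d1_1 D28089 (iv D24144) (iv F48706)
theorem F59537 : act 3 n28089 = n26258 := d21_1 D28089 (iv D26258) (iv D21775) F28493 F21740 (iv F25390) D19801 (iv F48706)
def n28090 : Q := act 4 n24141
theorem D28090 : act 4 n24141 = n28090 := rfl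
theorem F59538 : act 0 n28090 = n24145 := d3_1 D28090 (iv D24145) (iv F48706)
theorem F59539 : act 3 n28090 = n24161 := d15_1 D28090 F48745 (iv D20057) (iv F37339) D24141
theorem F59540 : act 6 n24159 = n28090 := d17_0 F59539 (iv D24161) (iv F48738)
def n28091 : Q := act 5 n24141
theorem D28091 : act 5 n24141 = n28091 := rfl
theorem F59541 : act 0 n28091 = n24146 := d4_1 D28091 (iv D24146) (iv F48706)
theorem F59542 : act 3 n28091 = n24142 := d16_1 D28091 (iv D24142) D24141
def n28092 : Q := act 6 n24141
theorem D28092 : act 6 n24141 = n28092 := rfl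
theorem F59543 : act 0 n28092 = n24147 := d5_1 D28092 (iv D24147) (iv F48706)
theorem F59544 : act 3 n28092 = n24143 := d17_1 D28092 (iv D24143) D24141
theorem F59545 : act 4 n28092 = n24159 := d19_1 D28092 F59540 (iv D28090)
theorem F59546 : act 5 n28092 = n24158 := d22_2 (iv D28091) D28092 (iv F48737) (iv F59541)
def n28093 : Q := act 1 n24142
theorem D28093 : act 1 n24142 = n28093 := rfl
theorem F59547 : act 2 n28093 = n26165 := d6_2 (iv F48708) D28093 (iv F58412) F58413 (iv D24878)
theorem F59548 : act 4 n28093 = n24399 := d8_2 (iv F48709) D28093 (iv D24399)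
theorem F59549 : act 5 n28093 = n26155 := d9_2 D24142 D28093 (iv F59534) (iv D28088) (iv D24140)
theorem F59550 : act 0 n28093 = n26157 := d23_3 (iv F38749) (iv F48708) D28093 (iv D26157) F42072 (iv D16409) F21645 F17866 (iv D5191) (iv D2503) F2059 F2057 F1847 D1068 D2180 D4530 (iv F14005) D11591 D15119
def n28094 : Q := act 3 n24144
theorem D28094 : act 3 n24144 = n28094 := rfl
theorem F59551 : act 0 n28094 = n26258 := d2_1 D28094 (iv F59537) F59536
theorem F59552 : act 2 n28094 = n26254 := d11_1 D28094 (iv D26254) F42202 F28640 (iv F37338) D24141 D28089 F59537 (iv D26258) (iv D21775) F28493 F21740 (iv F25390) D19801 D24144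
def n28095 : Q := act 4 n24144
theorem D28095 : act 4 n24144 = n28095 := rfl
theorem F59553 : act 2 n28095 = n24145 := d12_1 D28095 (iv D24145) D24144
def n28096 : Q := act 5 n24144
theorem D28096 : act 5 n24144 = n28096 := rfl
theorem F59554 : act 2 n28096 = n24146 := d13_1 D28096 (iv D24146) D24144
def n28097 : Q := act 6 n24144
theorem D28097 : act 6 n24144 = n28097 := rfl
theorem F59555 : act 2 n28097 = n24147 := d14_1 D28097 (iv D24147) D24144
def n28098 : Q := act 6 n24145
theorem D28098 : act 6 n24145 = n28098 := rfl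
theorem F59556 : act 0 n28098 = n24159 := d5_1 D28098 F59540 F59538
theorem F59557 : act 3 n28098 = n24155 := d17_1 D28098 F48731 (iv F48715)
theorem F59558 : act 4 n28098 = n24147 := d19_1 D28098 (iv D24147) D24145
theorem F59559 : act 5 n24154 = n28098 := d22_0 (iv D28098) F48742 (iv D24160) (iv F48727)
def n28099 : Q := act 5 n24147
theorem D28099 : act 5 n24147 = n28099 := rfl
theorem F59560 : act 0 n28099 = n24158 := d4_1 D28099 (iv F59546) F59543
theorem F59561 : act 3 n28099 = n24148 := d16_1 D28099 (iv D24148) (iv F48718)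
theorem F59562 : act 4 n28099 = n24154 := d18_1 D28099 F59559 F59558
theorem F59563 : act 6 n28099 = n28091 := d20_2 D24147 D28099 (iv D28091) D28092 F59546 (iv F48737) (iv D24146)
def n28100 : Q := act 1 n24148
theorem D28100 : act 1 n24148 = n28100 := rfl
theorem F59564 : act 4 n28100 = n24400 := d8_2 (iv F48721) D28100 (iv D24400)
def n28101 : Q := act 4 n24149
theorem D28101 : act 4 n24149 = n28101 := rfl
theorem F59565 : act 0 n28101 = n24150 := d3_1 D28101 (iv D24150) D24149
theorem F59566 : act 3 n28101 = n27547 := d15_1 D28101 (iv D27547) (iv F46720) (iv F48752) F48751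
def n28102 : Q := act 5 n24149
theorem D28102 : act 5 n24149 = n28102 := rfl
theorem F59567 : act 0 n28102 = n24151 := d4_1 D28102 (iv D24151) D24149
def n28103 : Q := act 6 n24149
theorem D28103 : act 6 n24149 = n28103 := rfl
theorem F59568 : act 0 n28103 = n24152 := d5_1 D28103 (iv D24152) D24149
def n28104 : Q := act 5 n24150
theorem D28104 : act 5 n24150 = n28104 := rfl
theorem F59569 : act 1 n28104 = n28104 := d9_1 D28104 (iv D28104) F48723 F37375 (iv F48723)
theorem F59570 : act 3 n28104 = n27550 := d16_1 D28104 (iv D27550) (iv F48724)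
theorem F59571 : act 4 n28104 = n24151 := d18_1 D28104 (iv D24151) D24150
def n28105 : Q := act 6 n24150
theorem D28105 : act 6 n24150 = n28105 := rfl
theorem F59572 : act 3 n28105 = n27551 := d17_1 D28105 (iv D27551) (iv F48724)
theorem F59573 : act 4 n28105 = n24152 := d19_1 D28105 (iv D24152) D24150
def n28106 : Q := act 6 n24151
theorem D28106 : act 6 n24151 = n28106 := rfl
theorem F59574 : act 5 n28106 = n28103 := d22_2 D24151 D28106 (iv D28103) (iv D24149)
def n28107 : Q := act 5 n24152
theorem D28107 : act 5 n24152 = n28107 := rfl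
theorem F59575 : act 0 n28107 = n28106 := d4_1 D28107 F59574 F59568
theorem F59576 : act 6 n28107 = n28102 := d20_2 D24152 D28107 (iv D28102) D28103 (iv F59574) (iv D28106) (iv D24151)
def n28108 : Q := act 6 n24153
theorem D28108 : act 6 n24153 = n28108 := rfl
theorem F59577 : act 4 n28108 = n24408 := d19_1 D28108 (iv D24408) (iv F48726)
theorem F59578 : act 5 n28108 = n26081 := d24_1 D28108 (iv D26081) (iv D21648) F28341 (iv F28377) D21669 (iv F43955) F43953 F30149 F25775 (iv F37898) (iv F48731) (iv D24155) D24153
theorem F59579 : act 1 n25920 = n28108 := d24_14 (iv D28108) (iv F53696) (iv D26103) D26105 F53701 F52111 F40935 (iv D16325) D16323 D21589 (iv F43737) (iv F55554) F55557 (iv F53263)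
def n28109 : Q := act 2 n24154
theorem D28109 : act 2 n24154 = n28109 := rfl
theorem F59580 : act 0 n28109 = n24157 := d1_1 D28109 (iv D24157) (iv F48727)
theorem F59581 : act 3 n28109 = n26027 := d21_1 D28109 (iv D26027) (iv D21616) F28289 F21706 (iv F25397) D19808 (iv F48727)
def n28110 : Q := act 6 n24154
theorem D28110 : act 6 n24154 = n28110 := rfl
theorem F59582 : act 0 n28110 = n24160 := d5_1 D28110 (iv D24160) (iv F48727)
theorem F59583 : act 3 n28110 = n24156 := d17_1 D28110 (iv D24156) D24154
theorem F59584 : act 4 n28110 = n28091 := d19_1 D28110 (iv F59563) F59562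
theorem F59585 : act 5 n28110 = n28090 := d20_1 D28110 (iv F59540) (iv D24159) D24160 (iv F48742) D28098 (iv F59559)
def n28111 : Q := act 1 n24156
theorem D28111 : act 1 n24156 = n28111 := rfl
theorem F59586 : act 2 n28111 = n25930 := d6_2 (iv F48733) D28111 (iv F58344) F58345 (iv D24826)
theorem F59587 : act 4 n28111 = n24409 := d8_2 (iv F48734) D28111 (iv D24409)
theorem F59588 : act 6 n28111 = n25920 := d10_2 D24156 D28111 F59579 (iv D28108) (iv D24153)
theorem F59589 : act 0 n25923 = n28111 := d5_3 F59588 (iv D25920) D25923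
def n28112 : Q := act 3 n24157
theorem D28112 : act 3 n24157 = n28112 := rfl
theorem F59590 : act 0 n28112 = n26027 := d2_1 D28112 (iv F59581) F59580
theorem F59591 : act 2 n28112 = n26023 := d11_1 D28112 (iv D26023) F41853 F28577 (iv F37376) D24154 D28109 F59581 (iv D26027) (iv D21616) F28289 F21706 (iv F25397) D19808 D24157
def n28113 : Q := act 4 n24157
theorem D28113 : act 4 n24157 = n28113 := rfl
theorem F59592 : act 2 n28113 = n24158 := d12_1 D28113 (iv D24158) D24157
theorem F59593 : act 6 n28096 = n28113 := d14_0 F59592 (iv F48737) (iv F59554)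
def n28114 : Q := act 5 n24157
theorem D28114 : act 5 n24157 = n28114 := rfl
theorem F59594 : act 2 n28114 = n24159 := d13_1 D28114 (iv D24159) D24157
theorem F59595 : act 1 n28114 = n26173 := d23_2 D24159 (iv F59594) (iv D26173) D26176 F53895 (iv D24870) (iv F50519) (iv D24858) (iv D20408) (iv F38720) F38719 D21634 F41894 D22934 D27099 F56688 D27127 (iv F56768) F48727
def n28115 : Q := act 6 n24157
theorem D28115 : act 6 n24157 = n28115 := rfl
theorem F59596 : act 2 n28115 = n24160 := d14_1 D28115 (iv D24160) D24157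
theorem F59597 : act 4 n28115 = n28096 := d19_1 D28115 F59593 (iv D28113)
theorem F59598 : act 5 n28095 = n28115 := d18_0 F59597 (iv D28096) D28095
def n28116 : Q := act 1 n24161
theorem D28116 : act 1 n24161 = n28116 := rfl
theorem F59599 : act 4 n28116 = n24397 := d8_2 (iv F48745) D28116 F49382
def n28117 : Q := act 4 n24162
theorem D28117 : act 4 n24162 = n28117 := rfl
theorem F59600 : act 0 n28117 = n24163 := d3_1 D28117 (iv D24163) D24162
theorem F59601 : act 3 n28117 = n27623 := d15_1 D28117 (iv D27623) (iv F46775) (iv F48783) F48782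
def n28118 : Q := act 5 n24162
theorem D28118 : act 5 n24162 = n28118 := rfl
theorem F59602 : act 0 n28118 = n24164 := d4_1 D28118 (iv D24164) D24162
def n28119 : Q := act 6 n24162
theorem D28119 : act 6 n24162 = n28119 := rfl
theorem F59603 : act 0 n28119 = n24165 := d5_1 D28119 (iv D24165) D24162
def n28120 : Q := act 5 n24163
theorem D28120 : act 5 n24163 = n28120 := rfl
theorem F59604 : act 3 n28120 = n27626 := d16_1 D28120 (iv D27626) (iv F48748)
theorem F59605 : act 4 n28120 = n24164 := d18_1 D28120 (iv D24164) D24163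
def n28121 : Q := act 6 n24163
theorem D28121 : act 6 n24163 = n28121 := rfl
theorem F59606 : act 1 n28121 = n28121 := d10_1 D28121 (iv D28121) F48747 F37389 (iv F48747)
theorem F59607 : act 3 n28121 = n27627 := d17_1 D28121 (iv D27627) (iv F48748)
theorem F59608 : act 4 n28121 = n24165 := d19_1 D28121 (iv D24165) D24163
def n28122 : Q := act 6 n24164
theorem D28122 : act 6 n24164 = n28122 := rfl
theorem F59609 : act 5 n28122 = n28119 := d22_2 D24164 D28122 (iv D28119) (iv D24162)
def n28123 : Q := act 5 n24165
theorem D28123 : act 5 n24165 = n28123 := rfl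
theorem F59610 : act 0 n28123 = n28122 := d4_1 D28123 F59609 F59603
theorem F59611 : act 6 n28123 = n28118 := d20_2 D24165 D28123 (iv D28118) D28119 (iv F59609) (iv D28122) (iv D24164)
def n28124 : Q := act 1 n24166
theorem D28124 : act 1 n24166 = n28124 := rfl
theorem F59612 : act 0 n28124 = n27503 := d0_1 D28124 F57813 F52367 (iv F58172) (iv D19815) (iv D14550) (iv F25404) D19814 D24166
theorem F59613 : act 2 n28124 = n27615 := d6_2 (iv F48750) D28124 (iv F58264) F58265 (iv D26460)
theorem F59614 : act 3 n28124 = n27501 := d7_2 (iv F48751) D28124 (iv F58174)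
theorem F59615 : act 4 n28124 = n27644 := d8_2 (iv F48752) D28124 (iv D27644)
def n28125 : Q := act 5 n24166
theorem D28125 : act 5 n24166 = n28125 := rfl
theorem F59616 : act 0 n28125 = n24167 := d4_1 D28125 (iv D24167) D24166
theorem F59617 : act 2 n28125 = n26462 := d13_1 D28125 (iv D26462) (iv F48750)
theorem F59618 : act 3 n28125 = n28102 := d16_1 D28125 (iv D28102) (iv F48751)
theorem F59619 : act 4 n28125 = n27645 := d18_1 D28125 (iv D27645) (iv F48752)
def n28126 : Q := act 6 n24166
theorem D28126 : act 6 n24166 = n28126 := rfl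
theorem F59620 : act 0 n28126 = n24168 := d5_1 D28126 (iv D24168) D24166
theorem F59621 : act 2 n28126 = n26463 := d14_1 D28126 (iv D26463) (iv F48750)
theorem F59622 : act 3 n28126 = n28103 := d17_1 D28126 (iv D28103) (iv F48751)
theorem F59623 : act 4 n28126 = n27646 := d19_1 D28126 (iv D27646) (iv F48752)
def n28127 : Q := act 6 n24167
theorem D28127 : act 6 n24167 = n28127 := rfl
theorem F59624 : act 2 n28127 = n26468 := d14_1 D28127 (iv D26468) (iv F48754)
theorem F59625 : act 3 n28127 = n28106 := d17_1 D28127 (iv D28106) (iv F48755)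
theorem F59626 : act 4 n28127 = n27647 := d19_1 D28127 (iv D27647) (iv F48756)
theorem F59627 : act 5 n28127 = n28126 := d22_2 D24167 D28127 (iv D28126) (iv D24166)
def n28128 : Q := act 5 n24168
theorem D28128 : act 5 n24168 = n28128 := rfl
theorem F59628 : act 0 n28128 = n28127 := d4_1 D28128 F59627 F59620
theorem F59629 : act 2 n28128 = n26469 := d13_1 D28128 (iv D26469) (iv F48757)
theorem F59630 : act 3 n28128 = n28107 := d16_1 D28128 (iv D28107) (iv F48758)
theorem F59631 : act 4 n28128 = n27648 := d18_1 D28128 (iv D27648) (iv F48759)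
theorem F59632 : act 6 n28128 = n28125 := d20_2 D24168 D28128 (iv D28125) D28126 (iv F59627) (iv D28127) (iv D24167)
def n28129 : Q := act 2 n24170
theorem D28129 : act 2 n24170 = n28129 := rfl
theorem F59633 : act 0 n28129 = n24173 := d1_1 D28129 (iv D24173) (iv F48761)
theorem F59634 : act 1 n28129 = n26014 := d6_1 D28129 F53492 (iv F45412) (iv F52397) F58173
theorem F59635 : act 4 n26015 = n28129 := d8_0 F59634 F53493 D26015
def n28130 : Q := act 4 n24170
theorem D28130 : act 4 n24170 = n28130 := rfl
theorem F59636 : act 0 n28130 = n24174 := d3_1 D28130 (iv D24174) (iv F48761)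
theorem F59637 : act 1 n28130 = n26016 := d8_1 D28130 F53496 F58173
theorem F59638 : act 2 n28130 = n26015 := d12_1 D28130 F59635 (iv D28129)
theorem F59639 : act 3 n28130 = n27655 := d15_1 D28130 (iv D27655) (iv D23467) (iv F37394) D24170
def n28131 : Q := act 5 n24170
theorem D28131 : act 5 n24170 = n28131 := rfl
theorem F59640 : act 0 n28131 = n24175 := d4_1 D28131 (iv D24175) (iv F48761)
theorem F59641 : act 3 n28131 = n24171 := d16_1 D28131 (iv D24171) D24170
def n28132 : Q := act 6 n24170
theorem D28132 : act 6 n24170 = n28132 := rfl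
theorem F59642 : act 0 n28132 = n24176 := d5_1 D28132 (iv D24176) (iv F48761)
def n28133 : Q := act 1 n24171
theorem D28133 : act 1 n24171 = n28133 := rfl
theorem F59644 : act 4 n28133 = n27658 := d8_2 (iv F48764) D28133 (iv D27658)
def n28135 : Q := act 3 n24173
theorem D28135 : act 3 n24173 = n28135 := rfl
theorem F59646 : act 1 n28135 = n28094 := d7_1 D28135 (iv D28094) (iv F48768)
def n28136 : Q := act 4 n24173
theorem D28136 : act 4 n24173 = n28136 := rfl
theorem F59647 : act 0 n28136 = n26015 := d3_1 D28136 F59635 F59633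
theorem F59648 : act 1 n28136 = n28095 := d8_1 D28136 (iv D28095) (iv F48768)
theorem F59649 : act 2 n28136 = n24174 := d12_1 D28136 (iv D24174) D24173
def n28137 : Q := act 5 n24173
theorem D28137 : act 5 n24173 = n28137 := rfl
theorem F59650 : act 2 n28137 = n24175 := d13_1 D28137 (iv D24175) D24173
def n28138 : Q := act 6 n24173
theorem D28138 : act 6 n24173 = n28138 := rfl
theorem F59651 : act 2 n28138 = n24176 := d14_1 D28138 (iv D24176) D24173
def n28139 : Q := act 5 n24174
theorem D28139 : act 5 n24174 = n28139 := rfl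
theorem F59652 : act 1 n28139 = n28139 := d9_1 D28139 (iv D28139) F48769 F37404 (iv F48769)
theorem F59653 : act 3 n28139 = n27664 := d16_1 D28139 (iv D27664) (iv F48770)
theorem F59654 : act 4 n28139 = n24175 := d18_1 D28139 (iv D24175) D24174
def n28140 : Q := act 6 n24174
theorem D28140 : act 6 n24174 = n28140 := rfl
theorem F59655 : act 3 n28140 = n27665 := d17_1 D28140 (iv D27665) (iv F48770)
theorem F59656 : act 4 n28140 = n24176 := d19_1 D28140 (iv D24176) D24174
def n28141 : Q := act 6 n24175
theorem D28141 : act 6 n24175 = n28141 := rfl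
theorem F59658 : act 5 n28141 = n28132 := d22_2 D24175 D28141 (iv D28132) F48761
def n28142 : Q := act 5 n24176
theorem D28142 : act 5 n24176 = n28142 := rfl
theorem F59661 : act 6 n28142 = n28131 := d20_2 D24176 D28142 (iv D28131) D28132 (iv F59658) (iv D28141) (iv D24175)
def n28145 : Q := act 1 n24179
theorem D28145 : act 1 n24179 = n28145 := rfl
theorem F59665 : act 0 n28145 = n27579 := d0_1 D28145 F57989 F52500 (iv F58272) (iv D19821) (iv D14555) (iv F25417) D19820 D24179
theorem F59666 : act 2 n28145 = n27539 := d6_2 (iv F48781) D28145 (iv F58164) F58165 (iv D26445)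
theorem F59667 : act 3 n28145 = n27577 := d7_2 (iv F48782) D28145 (iv F58274)
theorem F59668 : act 4 n28145 = n27684 := d8_2 (iv F48783) D28145 (iv D27684)
def n28146 : Q := act 5 n24179
theorem D28146 : act 5 n24179 = n28146 := rfl
theorem F59669 : act 0 n28146 = n24180 := d4_1 D28146 (iv D24180) D24179
theorem F59670 : act 2 n28146 = n26447 := d13_1 D28146 (iv D26447) (iv F48781)
theorem F59671 : act 3 n28146 = n28118 := d16_1 D28146 (iv D28118) (iv F48782)
theorem F59672 : act 4 n28146 = n27685 := d18_1 D28146 (iv D27685) (iv F48783)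
def n28147 : Q := act 6 n24179
theorem D28147 : act 6 n24179 = n28147 := rfl
theorem F59673 : act 0 n28147 = n24181 := d5_1 D28147 (iv D24181) D24179
theorem F59674 : act 2 n28147 = n26448 := d14_1 D28147 (iv D26448) (iv F48781)
theorem F59675 : act 3 n28147 = n28119 := d17_1 D28147 (iv D28119) (iv F48782)
theorem F59676 : act 4 n28147 = n27686 := d19_1 D28147 (iv D27686) (iv F48783)
def n28148 : Q := act 6 n24180
theorem D28148 : act 6 n24180 = n28148 := rfl
theorem F59677 : act 2 n28148 = n26453 := d14_1 D28148 (iv D26453) (iv F48784)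
theorem F59678 : act 3 n28148 = n28122 := d17_1 D28148 (iv D28122) (iv F48785)
theorem F59679 : act 4 n28148 = n27687 := d19_1 D28148 (iv D27687) (iv F48786)
theorem F59680 : act 5 n28148 = n28147 := d22_2 D24180 D28148 (iv D28147) (iv D24179)
def n28149 : Q := act 5 n24181
theorem D28149 : act 5 n24181 = n28149 := rfl
theorem F59681 : act 0 n28149 = n28148 := d4_1 D28149 F59680 F59673
theorem F59682 : act 2 n28149 = n26454 := d13_1 D28149 (iv D26454) (iv F48788)
theorem F59683 : act 3 n28149 = n28123 := d16_1 D28149 (iv D28123) (iv F48789)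
theorem F59684 : act 4 n28149 = n27688 := d18_1 D28149 (iv D27688) (iv F48790)
theorem F59685 : act 6 n28149 = n28146 := d20_2 D24181 D28149 (iv D28146) D28147 (iv F59680) (iv D28148) (iv D24180)
def n28150 : Q := act 2 n24183
theorem D28150 : act 2 n24183 = n28150 := rfl
theorem F59686 : act 0 n28150 = n24186 := d1_1 D28150 (iv D24186) (iv F48792)
theorem F59687 : act 1 n28150 = n26245 := d6_1 D28150 F54083 (iv F45342) (iv F52530) F58273
theorem F59688 : act 4 n26246 = n28150 := d8_0 F59687 F54084 D26246
def n28151 : Q := act 4 n24183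
theorem D28151 : act 4 n24183 = n28151 := rfl
theorem F59689 : act 0 n28151 = n24187 := d3_1 D28151 (iv D24187) (iv F48792)
theorem F59690 : act 1 n28151 = n26247 := d8_1 D28151 F54087 F58273
theorem F59691 : act 2 n28151 = n26246 := d12_1 D28151 F59688 (iv D28150)
theorem F59692 : act 3 n28151 = n27695 := d15_1 D28151 (iv D27695) (iv D23491) (iv F37409) D24183
def n28152 : Q := act 5 n24183
theorem D28152 : act 5 n24183 = n28152 := rfl
def n28153 : Q := act 6 n24183
theorem D28153 : act 6 n24183 = n28153 := rfl
def n28156 : Q := act 3 n24186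
theorem D28156 : act 3 n24186 = n28156 := rfl
theorem F59699 : act 1 n28156 = n28112 := d7_1 D28156 (iv D28112) (iv F48799)
def n28157 : Q := act 4 n24186
theorem D28157 : act 4 n24186 = n28157 := rfl
theorem F59700 : act 0 n28157 = n26246 := d3_1 D28157 F59688 F59686
theorem F59701 : act 1 n28157 = n28113 := d8_1 D28157 (iv D28113) (iv F48799)
theorem F59702 : act 2 n28157 = n24187 := d12_1 D28157 (iv D24187) D24186
def n28158 : Q := act 5 n24186
theorem D28158 : act 5 n24186 = n28158 := rfl
theorem F59703 : act 2 n28158 = n24188 := d13_1 D28158 (iv D24188) D24186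
def n28159 : Q := act 6 n24186
theorem D28159 : act 6 n24186 = n28159 := rfl
theorem F59704 : act 2 n28159 = n24189 := d14_1 D28159 (iv D24189) D24186
def n28160 : Q := act 5 n24187
theorem D28160 : act 5 n24187 = n28160 := rfl
theorem F59705 : act 3 n28160 = n27704 := d16_1 D28160 (iv D27704) (iv F48801)
theorem F59706 : act 4 n28160 = n24188 := d18_1 D28160 (iv D24188) D24187
def n28161 : Q := act 6 n24187
theorem D28161 : act 6 n24187 = n28161 := rfl
theorem F59708 : act 3 n28161 = n27705 := d17_1 D28161 (iv D27705) (iv F48801)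
theorem F59709 : act 4 n28161 = n24189 := d19_1 D28161 (iv D24189) D24187
def n28162 : Q := act 6 n24188
theorem D28162 : act 6 n24188 = n28162 := rfl
theorem F59710 : act 3 n28162 = n24190 := d17_1 D28162 (iv D24190) (iv F48802)
theorem F59711 : act 5 n28162 = n28153 := d22_2 D24188 D28162 (iv D28153) F48792
def n28163 : Q := act 5 n24189
theorem D28163 : act 5 n24189 = n28163 := rfl
theorem F59713 : act 3 n28163 = n24191 := d16_1 D28163 (iv D24191) (iv F48804)
theorem F59714 : act 6 n28163 = n28152 := d20_2 D24189 D28163 (iv D28152) D28153 (iv F59711) (iv D28162) (iv D24188)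
def n28165 : Q := act 1 n24191
theorem D28165 : act 1 n24191 = n28165 := rfl
def n28166 : Q := act 1 n24193
theorem D28166 : act 1 n24193 = n28166 := rfl
theorem F59718 : act 0 n28166 = n27774 := d0_1 D28166 (iv D27774) F47291 (iv F47276) F47275 (iv F51337) (iv F51382) F51383 F48873
theorem F59719 : act 3 n28166 = n24280 := d7_2 F48867 D28166 F49048
theorem F59720 : act 6 n28166 = n24278 := d10_2 F56829 D28166 F49037 D24282 (iv F56826)
def n28167 : Q := act 1 n24196
theorem D28167 : act 1 n24196 = n28167 := rfl
theorem F59721 : act 0 n28167 = n27799 := d0_1 D28167 (iv D27799) F47440 (iv F47421) F47420 (iv F51448) (iv F51482) F51483 F48927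
theorem F59722 : act 2 n28167 = n28166 := d6_2 D24196 D28167 (iv D28166) (iv D24193) (iv F37462)
theorem F59723 : act 3 n28167 = n24260 := d7_2 F48915 D28167 F49006
theorem F59724 : act 5 n28167 = n24259 := d9_2 F56863 D28167 F48995 D24263 (iv F56861)
def n28168 : Q := act 5 n24198
theorem D28168 : act 5 n24198 = n28168 := rfl
theorem F59725 : act 0 n28168 = n26957 := d4_1 D28168 F56707 (iv F56708)
theorem F59726 : act 1 n28168 = n27372 := d9_1 D28168 (iv D27372) F46185 F37704 D24198
theorem F59727 : act 2 n28168 = n26956 := d13_1 D28168 (iv F56256) F56254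
theorem F59728 : act 4 n28168 = n24199 := d18_1 D28168 (iv D24199) (iv F48830)
theorem F59729 : act 6 n28168 = n26963 := d20_2 (iv F48831) D28168 F56243 (iv F56706) (iv F56707) F56220 F44723
def n28169 : Q := act 5 n24206
theorem D28169 : act 5 n24206 = n28169 := rfl
theorem F59730 : act 1 n28169 = n26586 := d9_1 D28169 F54977 (iv F54942) (iv F48248) D24206
theorem F59731 : act 2 n28169 = n24211 := d13_1 D28169 (iv D24211) (iv F48857)
theorem F59732 : act 3 n28169 = n26585 := d16_1 D28169 (iv F55433) F55432
def n28170 : Q := act 1 n24209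
theorem D28170 : act 1 n24209 = n28170 := rfl
theorem F59733 : act 0 n28170 = n24981 := d0_1 D28170 (iv D24981) (iv D20522) (iv D15202) F20628 (iv F20130) (iv F25515) D19858 D24209
theorem F59734 : act 2 n28170 = n25000 := d6_2 (iv F55429) D28170 (iv D25000) (iv F43454) D26727
theorem F59735 : act 6 n28170 = n26644 := d10_2 F55001 D28170 (iv D26644) (iv F49219) (iv F54999)
def n28171 : Q := act 4 n24210
theorem D28171 : act 4 n24210 = n28171 := rfl
theorem F59736 : act 0 n28171 = n25248 := d3_1 D28171 F51767 (iv F49534)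
theorem F59737 : act 1 n28171 = n24213 := d8_1 D28171 (iv D24213) (iv F48865)
theorem F59738 : act 2 n28171 = n25199 := d12_1 D28171 F51602 F49464
theorem F59739 : act 3 n28171 = n27155 := d15_1 D28171 F59002 (iv D27904) F48311 D24210
theorem F59740 : act 5 n28171 = n25197 := d18_2 F49536 D28171 F51600
theorem F59741 : act 6 n28171 = n24255 := d19_2 (iv F49461) D28171 (iv F49459)
def n28172 : Q := act 1 n24211
theorem D28172 : act 1 n24211 = n28172 := rfl
theorem F59742 : act 0 n28172 = n24410 := d0_1 D28172 (iv D24410) (iv D20070) (iv D14838) (iv F20290) (iv F25872) (iv F38002) (iv F49532) F49538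
theorem F59743 : act 3 n28172 = n25289 := d7_2 (iv F49537) D28172 (iv F51894)
theorem F59744 : act 5 n28172 = n24215 := d9_2 D24211 D28172 (iv D24215) (iv D19860) D19858
theorem F59745 : act 6 n28172 = n25288 := d24_3 F43022 D24211 D28172 F58941 (iv D27879) (iv D23947) (iv F38947) (iv D20519) (iv F26486) (iv D15204) D15202 D20525 F39557 D22109
theorem F59746 : act 2 n25288 = n28172 := d13_3 F59744 (iv F58939) (iv F58941)
def n28173 : Q := act 6 n24211
theorem D28173 : act 6 n24211 = n28173 := rfl
theorem F59747 : act 0 n28173 = n26594 := d5_1 D28173 F55007 F49538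
theorem F59748 : act 5 n28173 = n26592 := d20_1 D28173 F55001 F49539 (iv F55007) (iv D26594) F43022 D24211
def n28174 : Q := act 0 n24215
theorem D28174 : act 0 n24215 = n28174 := rfl
theorem F59749 : act 1 n28174 = n24978 := d0_2 D24215 D28174 F50817 F44566 F43216 F29779 (iv F29780) F35278 (iv F37492)
theorem F59750 : act 3 n28174 = n26931 := d2_2 (iv F51693) D28174 F56111
theorem F59751 : act 5 n28174 = n24410 := d4_2 F59744 D28174 (iv F59742)
theorem F59752 : act 6 n27879 = n28174 := d22_3 (iv F59744) F59745 F58941 (iv D28174)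
def n28175 : Q := act 6 n24215
theorem D28175 : act 6 n24215 = n28175 := rfl
theorem F59753 : act 0 n28175 = n27879 := d5_1 D28175 F59752 (iv D28174)
theorem F59754 : act 1 n28175 = n26642 := d10_1 D28175 F55152 (iv D24204) (iv F37494) D24215
theorem F59755 : act 2 n28175 = n28174 := d14_1 D28175 (iv F59752) F58939
def n28176 : Q := act 1 n24220
theorem D28176 : act 1 n24220 = n28176 := rfl
theorem F59756 : act 0 n28176 = n24256 := d0_1 D28176 (iv D24256) F37636 (iv F30488) (iv F43130) (iv F51434) F51433 (iv F48846) (iv F48884)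
theorem F59757 : act 3 n28176 = n24221 := d7_2 (iv F48885) D28176 (iv D24221)
theorem F59758 : act 4 n28176 = n24260 := d8_2 F48917 D28176 F49006
theorem F59759 : act 5 n28176 = n24243 := d9_2 (iv F48886) D28176 (iv D24243) D24244 (iv F48956)
theorem F59760 : act 6 n28176 = n25185 := d10_2 D24220 D28176 (iv D25185) (iv F43238) F43235
theorem F59761 : act 2 n24258 = n28176 := d23_1 (iv F56260) (iv D28176) F48884 (iv D24203) F44555 (iv D22661) F35393 (iv D17637) F22749 (iv F22715) F35396 D17533 (iv F44509) F44508 (iv F48902) F48903 D24233 (iv F49006) (iv F56257)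
def n28177 : Q := act 0 n24221
theorem D28177 : act 0 n24221 = n28177 := rfl
theorem F59762 : act 1 n28177 = n24257 := d0_2 D24221 D28177 F48993 F43128 F43126 (iv F43123) F48853 (iv D24204) (iv F37497)
theorem F59763 : act 3 n28177 = n24256 := d2_2 F59757 D28177 (iv F59756)
theorem F59764 : act 5 n28177 = n28170 := d4_2 F50830 D28177 F59733
theorem F59765 : act 6 n28177 = n26645 := d5_2 (iv F48887) D28177 (iv D26645)
def n28178 : Q := act 6 n24222
theorem D28178 : act 6 n24222 = n28178 := rfl
theorem F59766 : act 0 n28178 = n26939 := d5_1 D28178 (iv F56633) F56632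
theorem F59767 : act 1 n28178 = n27459 := d10_1 D28178 (iv D27459) F46365 F37803 D24222
theorem F59768 : act 2 n28178 = n26938 := d14_1 D28178 (iv F56187) F56185
theorem F59769 : act 4 n28178 = n24223 := d19_1 D28178 (iv D24223) (iv F48888)
theorem F59770 : act 5 n28178 = n26945 := d20_1 D28178 F56174 (iv F56631) F56633 F56151 F44620 (iv F48889)
def n28179 : Q := act 6 n24228
theorem D28179 : act 6 n24228 = n28179 := rfl
theorem F59771 : act 1 n28179 = n26740 := d10_1 D28179 F55486 (iv F49376) (iv F48234) D24228
theorem F59772 : act 2 n28179 = n24232 := d14_1 D28179 (iv D24232) (iv F48908)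
theorem F59773 : act 3 n28179 = n26739 := d17_1 D28179 F55483 F54920
def n28180 : Q := act 1 n24230
theorem D28180 : act 1 n24230 = n28180 := rfl
theorem F59774 : act 0 n28180 = n25000 := d0_1 D28180 (iv D25000) (iv D20568) (iv D15235) F20652 (iv F20138) (iv F25532) D19880 D24230
theorem F59775 : act 2 n28180 = n24981 := d6_2 F54922 D28180 (iv D24981) (iv F42912) D26571
theorem F59776 : act 5 n28180 = n26785 := d9_2 F55493 D28180 (iv D26785) (iv F49381) (iv F55491)
def n28181 : Q := act 4 n24231
theorem D28181 : act 4 n24231 = n28181 := rfl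
theorem F59777 : act 0 n28181 = n25199 := d3_1 D28181 F51602 F49527
theorem F59778 : act 1 n28181 = n24234 := d8_1 D28181 (iv D24234) (iv F48913)
theorem F59779 : act 2 n28181 = n25248 := d12_1 D28181 F51767 F49533
theorem F59780 : act 3 n28181 = n27146 := d15_1 D28181 F59073 (iv D27932) F48380 D24231
theorem F59781 : act 5 n28181 = n24274 := d18_2 (iv F49524) D28181 (iv F49522)
theorem F59782 : act 6 n28181 = n25245 := d19_2 (iv F49526) D28181 F51762
def n28182 : Q := act 1 n24232
theorem D28182 : act 1 n24232 = n28182 := rfl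
theorem F59783 : act 0 n28182 = n24401 := d0_1 D28182 (iv D24401) (iv D20063) (iv D14826) (iv F20265) (iv F25831) (iv F37955) (iv F49462) (iv F49530)
theorem F59784 : act 3 n28182 = n25277 := d7_2 F49531 D28182 F51853
theorem F59785 : act 6 n28182 = n24236 := d10_2 D24232 D28182 (iv D24236) (iv D19882) D19880
theorem F59786 : act 5 n25276 = n28182 := d24_1 (iv F58938) (iv D28182) (iv D24232) (iv F43565) (iv D22320) (iv F39805) (iv D20570) (iv D15235) D15237 F26526 D20565 F39026 D23944 D27878
theorem F59787 : act 2 n25276 = n28182 := d23_1 (iv F59786) (iv D28182) F49530 (iv F55499) F55497 F49382 F37889 F35706 F25792 (iv D11732) (iv F20747) (iv F20753) F20752 D15337 D20677 (iv F49194) F49193 D24401 (iv F59783)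
def n28183 : Q := act 5 n24232
theorem D28183 : act 5 n24232 = n28183 := rfl
theorem F59788 : act 0 n28183 = n26744 := d4_1 D28183 F55499 (iv F49530)
theorem F59789 : act 6 n28183 = n26742 := d20_2 D24232 D28183 F55493 (iv F49529) (iv F55499) (iv D26744) F43565
def n28184 : Q := act 0 n24236
theorem D28184 : act 0 n24236 = n28184 := rfl
theorem F59790 : act 1 n28184 = n24997 := d0_2 D24236 D28184 F50880 F44518 F43766 F30034 (iv F30035) F30036 (iv F37526)
theorem F59791 : act 3 n28184 = n26926 := d2_2 (iv F51538) D28184 F56085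
theorem F59792 : act 6 n28184 = n24401 := d5_2 F59785 D28184 (iv F59783)
theorem F59793 : act 5 n28184 = n27878 := d22_0 (iv F58938) F59786 F59785 D28184
def n28185 : Q := act 5 n24236
theorem D28185 : act 5 n24236 = n28185 := rfl
theorem F59794 : act 0 n28185 = n27878 := d4_1 D28185 (iv F59793) (iv D28184)
theorem F59795 : act 1 n28185 = n26783 := d9_1 D28185 F55624 (iv D24227) (iv F37528) D24236
theorem F59796 : act 2 n28185 = n28184 := d13_1 D28185 F59793 F58936
def n28186 : Q := act 1 n24240
theorem D28186 : act 1 n24240 = n28186 := rfl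
theorem F59797 : act 0 n28186 = n24275 := d0_1 D28186 (iv D24275) F37683 (iv F30363) (iv F43685) (iv F51323) F51322 (iv F48876) (iv F48940)
theorem F59798 : act 2 n28186 = n24277 := d6_2 (iv F48941) D28186 (iv F51611) (iv F59738) F59737
theorem F59799 : act 3 n28186 = n24241 := d7_2 (iv F48942) D28186 (iv D24241)
theorem F59800 : act 4 n28186 = n24280 := d8_2 (iv F48943) D28186 F49048
theorem F59801 : act 5 n28186 = n25233 := d9_2 D24240 D28186 (iv D25233) (iv F43790) F43788
theorem F59802 : act 6 n28186 = n24247 := d10_2 (iv F48944) D28186 (iv D24247) D24248 (iv F48971)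
def n28187 : Q := act 0 n24241
theorem D28187 : act 0 n24241 = n28187 := rfl
theorem F59803 : act 1 n28187 = n24276 := d0_2 D24241 D28187 F49035 F43684 F43681 (iv F43678) (iv F48907) (iv D24227) (iv F37531)
theorem F59804 : act 3 n28187 = n24275 := d2_2 F59799 D28187 (iv F59797)
theorem F59805 : act 5 n28187 = n26786 := d4_2 (iv F48945) D28187 (iv D26786)
theorem F59806 : act 6 n28187 = n28180 := d5_2 F50895 D28187 F59774
def n28188 : Q := act 0 n24243
theorem D28188 : act 0 n24243 = n28188 := rfl
theorem F59807 : act 1 n28188 = n24447 := d0_2 D24243 D28188 (iv F49534) F48865 F37491 F25518 (iv F26483) (iv F39547) (iv F37559)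
theorem F59808 : act 2 n28188 = n24260 := d1_2 F56258 D28188 (iv F56257)
theorem F59809 : act 3 n28188 = n28170 := d2_2 F50829 D28188 F59733
theorem F59810 : act 4 n28188 = n24258 := d3_2 (iv F48950) D28188 (iv D24258)
theorem F59811 : act 5 n28188 = n24256 := d4_2 F59759 D28188 (iv F59756)
def n28189 : Q := act 6 n24243
theorem D28189 : act 6 n24243 = n28189 := rfl
theorem F59812 : act 4 n28189 = n24261 := d19_1 D28189 (iv D24261) (iv F48950)
def n28190 : Q := act 0 n24247
theorem D28190 : act 0 n24247 = n28190 := rfl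
theorem F59813 : act 1 n28190 = n24427 := d0_2 D24247 D28190 F49527 F48913 F37525 F25535 (iv F26523) F39646 (iv F37591)
theorem F59814 : act 2 n28190 = n24280 := d1_2 F56189 D28190 (iv F56188)
theorem F59815 : act 3 n28190 = n28180 := d2_2 F50894 D28190 F59774
theorem F59816 : act 4 n28190 = n24277 := d3_2 (iv F48965) D28190 (iv D24277)
theorem F59817 : act 6 n28190 = n24275 := d5_2 F59802 D28190 (iv F59797)
def n28191 : Q := act 5 n24247
theorem D28191 : act 5 n24247 = n28191 := rfl
theorem F59818 : act 4 n28191 = n24279 := d18_1 D28191 (iv D24279) (iv F48965)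
def n28192 : Q := act 4 n24253
theorem D28192 : act 4 n24253 = n28192 := rfl
theorem F59819 : act 0 n28192 = n24254 := d3_1 D28192 (iv D24254) (iv F48985)
theorem F59820 : act 1 n28192 = n27232 := d8_1 D28192 F57079 (iv F48986)
theorem F59821 : act 5 n28192 = n25239 := d18_2 (iv F48987) D28192 (iv D25239)
theorem F59822 : act 6 n28192 = n24262 := d19_2 (iv F48988) D28192 (iv D24262)
def n28193 : Q := act 6 n24256
theorem D28193 : act 6 n24256 = n28193 := rfl
theorem F59823 : act 0 n28193 = n25185 := d5_1 D28193 (iv F59760) F59756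
theorem F59824 : act 2 n28193 = n24261 := d14_1 D28193 (iv D24261) (iv F48992)
theorem F59825 : act 3 n28193 = n26645 := d17_1 D28193 (iv F59765) F59763
theorem F59826 : act 5 n28193 = n28189 := d22_2 F59811 D28193 (iv D28189) D28188
def n28194 : Q := act 4 n24257
theorem D28194 : act 4 n24257 = n28194 := rfl
theorem F59827 : act 0 n28194 = n24455 := d3_1 D28194 F49566 (iv F48993)
theorem F59828 : act 3 n28194 = n27798 := d15_1 D28194 F58641 F47442 F44757 D24257
theorem F59829 : act 5 n28194 = n24450 := d18_2 (iv F48994) D28194 (iv D24450)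
def n28195 : Q := act 3 n24258
theorem D28195 : act 3 n24258 = n28195 := rfl
theorem F59830 : act 0 n28195 = n24259 := d2_1 D28195 (iv D24259) D24258
theorem F59831 : act 1 n28195 = n27797 := d7_1 D28195 F58637 F56261
theorem F59832 : act 5 n28195 = n27799 := d16_2 (iv F56260) D28195 F58644
def n28196 : Q := act 2 n24259
theorem D28196 : act 2 n24259 = n28196 := rfl
theorem F59833 : act 1 n28196 = n27820 := d6_1 D28196 F58722 F49198 F37777 (iv F48995)
theorem F59834 : act 5 n28196 = n28166 := d13_2 F59724 D28196 (iv F59722)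
theorem F59835 : act 3 n27819 = n28196 := d16_3 F59834 F59719 (iv F58719)
def n28197 : Q := act 4 n24259
theorem D28197 : act 4 n24259 = n28197 := rfl
theorem F59836 : act 1 n28197 = n24262 := d8_1 D28197 (iv D24262) (iv F48995)
def n28198 : Q := act 6 n24259
theorem D28198 : act 6 n24259 = n28198 := rfl
theorem F59837 : act 1 n28198 = n27031 := d10_1 D28198 (iv F56460) (iv F48986) F48988 (iv F48995)
theorem F59838 : act 3 n28198 = n24261 := d17_1 D28198 (iv D24261) D24259
def n28199 : Q := act 5 n24261
theorem D28199 : act 5 n24261 = n28199 := rfl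
theorem F59839 : act 0 n28199 = n27824 := d4_1 D28199 F58740 (iv F56263)
theorem F59840 : act 2 n28199 = n28189 := d13_1 D28199 (iv F59826) F59824
theorem F59841 : act 4 n28199 = n28193 := d18_1 D28199 F59826 F59812
theorem F59842 : act 6 n28199 = n26968 := d20_2 D24261 D28199 (iv F56260) (iv F56262) (iv F58740) F58741 (iv D24260)
theorem F59843 : act 1 n28199 = n26967 := d24_2 D24261 D28199 (iv D26967) F44754 (iv D22731) D22732 F44758 D23779 (iv F51810) F51809 (iv D24255) (iv F37641) (iv D19921) D19919
def n28200 : Q := act 5 n24262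
theorem D28200 : act 5 n24262 = n28200 := rfl
theorem F59844 : act 0 n28200 = n24267 := d4_1 D28200 (iv D24267) (iv F48996)
theorem F59845 : act 2 n28200 = n25049 := d13_1 D28200 (iv F51074) F49208
theorem F59846 : act 3 n28200 = n26569 := d16_1 D28200 F54912 F49905
theorem F59847 : act 4 n28200 = n24263 := d18_1 D28200 (iv D24263) D24262
theorem F59848 : act 6 n28200 = n26595 := d20_2 F59822 D28200 F55010 F48989 D24267 (iv F51738) (iv F59821)
theorem F59849 : act 1 n27896 = n28200 := d8_3 F59847 (iv F56861) (iv F58979)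
def n28201 : Q := act 3 n24265
theorem D28201 : act 3 n24265 = n28201 := rfl
def n28202 : Q := act 5 n24265
theorem D28202 : act 5 n24265 = n28202 := rfl
theorem F59850 : act 0 n28202 = n25049 := d4_1 D28202 (iv F51074) F49207
theorem F59851 : act 1 n28202 = n27231 := d9_1 D28202 (iv D27231) F55183 (iv F55201) (iv F55202)
theorem F59852 : act 2 n28202 = n24267 := d13_1 D28202 (iv D24267) (iv F49007)
theorem F59853 : act 4 n28202 = n24266 := d18_1 D28202 (iv D24266) D24265
theorem F59854 : act 6 n28202 = n27344 := d22_3 (iv F56737) F56738 D28202 F57399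
def n28203 : Q := act 1 n24267
theorem D28203 : act 1 n24267 = n28203 := rfl
theorem F59855 : act 0 n28203 = n27812 := d0_1 D28203 F58692 F47620 (iv F56253) F56252 F56192 (iv F58978) F59849 F59844
theorem F59856 : act 4 n28203 = n24268 := d8_2 (iv F49013) D28203 (iv D24268)
theorem F59857 : act 5 n28203 = n27810 := d9_2 D24267 D28203 F58685 (iv D24597) F39814
theorem F59858 : act 6 n28203 = n27240 := d10_2 F51738 D28203 (iv D27240) F45956 (iv F51737)
def n28204 : Q := act 4 n24272
theorem D28204 : act 4 n24272 = n28204 := rfl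
theorem F59859 : act 0 n28204 = n24273 := d3_1 D28204 (iv D24273) (iv F49027)
theorem F59860 : act 1 n28204 = n27247 := d8_1 D28204 F57118 (iv F49028)
theorem F59861 : act 5 n28204 = n24281 := d18_2 (iv F49029) D28204 (iv D24281)
theorem F59862 : act 6 n28204 = n25191 := d19_2 (iv F49030) D28204 (iv D25191)
def n28205 : Q := act 5 n24275
theorem D28205 : act 5 n24275 = n28205 := rfl
theorem F59863 : act 0 n28205 = n25233 := d4_1 D28205 (iv F59801) F59797
theorem F59864 : act 2 n28205 = n24279 := d13_1 D28205 (iv D24279) (iv F49034)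
theorem F59865 : act 3 n28205 = n26786 := d16_1 D28205 (iv F59805) F59804
theorem F59866 : act 6 n28205 = n28191 := d22_1 D28205 (iv D28191) (iv F59802) F59797
def n28206 : Q := act 4 n24276
theorem D28206 : act 4 n24276 = n28206 := rfl
theorem F59867 : act 0 n28206 = n24435 := d3_1 D28206 F49492 (iv F49035)
theorem F59868 : act 3 n28206 = n27773 := d15_1 D28206 F58541 F47293 F44658 D24276
theorem F59869 : act 6 n28206 = n24429 := d19_2 (iv F49036) D28206 (iv D24429)
def n28207 : Q := act 3 n24277
theorem D28207 : act 3 n24277 = n28207 := rfl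
theorem F59870 : act 0 n28207 = n24278 := d2_1 D28207 (iv D24278) D24277
theorem F59871 : act 1 n28207 = n27772 := d7_1 D28207 F58537 F51611
theorem F59872 : act 6 n28207 = n27774 := d17_2 F56191 D28207 F58543
def n28208 : Q := act 2 n24278
theorem D28208 : act 2 n24278 = n28208 := rfl
theorem F59873 : act 1 n28208 = n27825 := d6_1 D28208 F58743 F49359 F37874 (iv F49037)
theorem F59874 : act 6 n28208 = n28167 := d14_2 F59720 D28208 F59722
theorem F59875 : act 3 n27824 = n28208 := d17_3 F59874 F59723 (iv F58741)
def n28209 : Q := act 4 n24278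
theorem D28209 : act 4 n24278 = n28209 := rfl
theorem F59876 : act 1 n28209 = n24281 := d8_1 D28209 (iv D24281) (iv F49037)
def n28210 : Q := act 5 n24278
theorem D28210 : act 5 n24278 = n28210 := rfl
theorem F59877 : act 1 n28210 = n27029 := d9_1 D28210 F56453 (iv F49028) F49029 (iv F49037)
theorem F59878 : act 3 n28210 = n24279 := d16_1 D28210 (iv D24279) D24278
def n28211 : Q := act 6 n24279
theorem D28211 : act 6 n24279 = n28211 := rfl
theorem F59879 : act 0 n28211 = n27819 := d5_1 D28211 F58720 F51609
theorem F59880 : act 2 n28211 = n28191 := d14_1 D28211 (iv F59866) F59864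
theorem F59881 : act 4 n28211 = n28205 := d19_1 D28211 F59866 F59818
theorem F59882 : act 5 n28211 = n26950 := d20_1 D28211 F56191 F51610 (iv F58720) F58719 (iv D24280) D24279
theorem F59883 : act 1 n26949 = n28211 := d24_14 (iv D28211) (iv D24279) (iv D19939) D19941 F37688 D24274 (iv F51642) F51641 (iv D23755) (iv F44659) (iv D22698) D22697 F44655 D26949
def n28212 : Q := act 6 n24281
theorem D28212 : act 6 n24281 = n28212 := rfl
theorem F59884 : act 0 n28212 = n24286 := d5_1 D28212 (iv D24286) (iv F49038)
theorem F59885 : act 2 n28212 = n25083 := d14_1 D28212 (iv F51195) F49369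
theorem F59886 : act 3 n28212 = n26725 := d17_1 D28212 F55422 F50041
theorem F59887 : act 4 n28212 = n24282 := d19_1 D28212 (iv D24282) D24281
theorem F59888 : act 5 n28212 = n26745 := d20_1 D28212 F55502 F49031 D24286 (iv F51577) (iv F59862) F59861
theorem F59889 : act 1 n27924 = n28212 := d8_3 F59887 (iv F56826) (iv F59051)
def n28213 : Q := act 3 n24284
theorem D28213 : act 3 n24284 = n28213 := rfl
def n28214 : Q := act 6 n24284
theorem D28214 : act 6 n24284 = n28214 := rfl
theorem F59890 : act 0 n28214 = n25083 := d5_1 D28214 (iv F51195) F49368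
theorem F59891 : act 1 n28214 = n27246 := d10_1 D28214 (iv D27246) F55641 (iv F55654) (iv F55655)
theorem F59892 : act 2 n28214 = n24286 := d14_1 D28214 (iv D24286) (iv F49049)
theorem F59893 : act 4 n28214 = n24285 := d19_1 D28214 (iv D24285) D24284
theorem F59894 : act 5 n28214 = n27433 := d24_1 D28214 (iv D27433) (iv D23295) (iv F46301) (iv F57572) (iv F57574) F51164 (iv D22438) F30098 F30026 (iv F30072) D22418 D26793 (iv F55655)
def n28215 : Q := act 1 n24286
theorem D28215 : act 1 n24286 = n28215 := rfl
theorem F59895 : act 0 n28215 = n27803 := d0_1 D28215 F58657 F47543 (iv F56184) F56183 F56107 (iv F59049) F59889 F59884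
theorem F59896 : act 4 n28215 = n24287 := d8_2 (iv F49055) D28215 (iv D24287)
theorem F59897 : act 5 n28215 = n27255 := d9_2 F51577 D28215 (iv D27255) F45996 (iv F51576)
theorem F59898 : act 6 n28215 = n27801 := d10_2 D24286 D28215 F58650 (iv D24652) (iv F39795)
def n28216 : Q := act 2 n24290
theorem D28216 : act 2 n24290 = n28216 := rfl
theorem F59899 : act 0 n28216 = n24297 := d1_1 D28216 (iv D24297) (iv F49068)
theorem F59900 : act 4 n28216 = n27161 := d12_2 (iv F49070) D28216 (iv D27161)
theorem F59901 : act 5 n28216 = n26972 := d13_2 (iv F49071) D28216 (iv D26972)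
theorem F59902 : act 3 n28216 = n27960 := d21_1 D28216 (iv D27960) (iv D24049) F37201 F25327 (iv F25689) D19957 (iv F49068)
def n28217 : Q := act 5 n24295
theorem D28217 : act 5 n24295 = n28217 := rfl
theorem F59903 : act 0 n28217 = n27522 := d4_1 D28217 F57861 (iv F49089)
theorem F59904 : act 2 n28217 = n25205 := d13_1 D28217 (iv F53969) (iv F53970)
theorem F59905 : act 3 n28217 = n24763 := d16_1 D28217 F59152 F59151
theorem F59906 : act 4 n28217 = n24296 := d18_1 D28217 (iv D24296) D24295
theorem F59907 : act 6 n28217 = n25009 := d22_1 D28217 (iv D25009) (iv F46702) (iv F49089)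
def n28218 : Q := act 3 n24297
theorem D28218 : act 3 n24297 = n28218 := rfl
theorem F59908 : act 0 n28218 = n27960 := d2_1 D28218 (iv F59902) F59899
theorem F59909 : act 2 n28218 = n27948 := d11_1 D28218 (iv D27948) F48465 F37189 (iv F37700) D24290 D28216 F59902 (iv D27960) (iv D24049) F37201 F25327 (iv F25689) D19957 D24297
theorem F59910 : act 5 n28218 = n26974 := d16_2 (iv F49095) D28218 (iv D26974)
def n28219 : Q := act 6 n24297
theorem D28219 : act 6 n24297 = n28219 := rfl
theorem F59911 : act 2 n28219 = n24298 := d14_1 D28219 (iv D24298) D24297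
theorem F59912 : act 4 n28219 = n27163 := d19_1 D28219 (iv D27163) (iv F49094)
def n28220 : Q := act 1 n24298
theorem D28220 : act 1 n24298 = n28220 := rfl
theorem F59913 : act 0 n28220 = n27217 := d0_1 D28220 (iv D27217) (iv D23117) (iv D18744) (iv F24069) D18805 D23180 F56286 F56282
theorem F59914 : act 3 n28220 = n24299 := d7_2 (iv F49096) D28220 (iv D24299)
theorem F59915 : act 4 n28220 = n27164 := d8_2 (iv F49097) D28220 (iv D27164)
theorem F59916 : act 5 n28220 = n27266 := d9_2 F56278 D28220 F57174 D27277 F57208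
theorem F59917 : act 6 n28220 = n26969 := d10_2 D24298 D28220 (iv D26969) (iv D22740) (iv F37712)
def n28221 : Q := act 6 n24301
theorem D28221 : act 6 n24301 = n28221 := rfl
theorem F59918 : act 0 n28221 = n24303 := d5_1 D28221 (iv D24303) (iv F49103)
theorem F59919 : act 1 n28221 = n26513 := d10_1 D28221 (iv D26513) F42725 D22464 (iv F49104)
theorem F59920 : act 2 n28221 = n24302 := d14_1 D28221 (iv D24302) D24301
theorem F59921 : act 3 n28221 = n27728 := d17_1 D28221 (iv D27728) (iv F49105)
theorem F59922 : act 5 n28221 = n26847 := d20_1 D28221 (iv D26847) F44049 D24303 (iv F54838) (iv F55823) F55822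
def n28222 : Q := act 1 n24306
theorem D28222 : act 1 n24306 = n28222 := rfl
theorem F59923 : act 0 n28222 = n26589 := d0_1 D28222 (iv D26589) F43004 F29950 (iv F29960) (iv F39628) F30020 (iv F38874) (iv F49116)
theorem F59924 : act 2 n28222 = n26592 := d6_2 (iv F49117) D28222 F54999 F49217 F37790
theorem F59925 : act 3 n28222 = n26723 := d7_2 (iv F49118) D28222 (iv D26723)
theorem F59926 : act 6 n28222 = n26727 := d10_2 F49119 D28222 (iv D26727) (iv D22284) (iv F43422)
def n28223 : Q := act 4 n24312
theorem D28223 : act 4 n24312 = n28223 := rfl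
theorem F59927 : act 0 n28223 = n24315 := d3_1 D28223 (iv D24315) (iv F49130)
theorem F59928 : act 1 n28223 = n26008 := d8_1 D28223 F53483 F49134
theorem F59929 : act 2 n28223 = n24313 := d12_1 D28223 (iv D24313) D24312
theorem F59930 : act 5 n28223 = n24802 := d18_2 (iv F49131) D28223 F50407
theorem F59931 : act 6 n28223 = n24332 := d19_2 (iv F49132) D28223 (iv D24332)
def n28224 : Q := act 4 n24314
theorem D28224 : act 4 n24314 = n28224 := rfl
theorem F59932 : act 0 n28224 = n27117 := d3_1 D28224 F56736 (iv F49137)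
theorem F59933 : act 1 n28224 = n27337 := d8_1 D28224 F57382 (iv F49138)
theorem F59934 : act 2 n28224 = n28192 := d12_1 D28224 (iv D28192) (iv F49139)
theorem F59935 : act 5 n28224 = n27344 := d18_2 F49141 D28224 F57398
theorem F59936 : act 6 n28224 = n24338 := d19_2 (iv F49140) D28224 (iv D24338)
def n28225 : Q := act 3 n24315
theorem D28225 : act 3 n24315 = n28225 := rfl
theorem F59937 : act 1 n28225 = n27968 := d7_1 D28225 F59168 (iv F49142)
theorem F59938 : act 6 n28225 = n24339 := d17_2 (iv F49144) D28225 (iv D24339)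
def n28226 : Q := act 5 n24315
theorem D28226 : act 5 n24315 = n28226 := rfl
theorem F59939 : act 0 n28226 = n24802 := d4_1 D28226 (iv F59930) F59927
theorem F59940 : act 1 n28226 = n26408 := d9_1 D28226 F54445 (iv F54305) F54307 (iv F49142)
theorem F59941 : act 2 n28226 = n24317 := d13_1 D28226 (iv D24317) (iv F49143)
theorem F59942 : act 4 n28226 = n24316 := d18_1 D28226 (iv D24316) D24315
theorem F59943 : act 6 n28226 = n24812 := d20_2 (iv F49144) D28226 F50432 (iv F59931) F59930 F50408 F43974
def n28227 : Q := act 0 n24318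
theorem D28227 : act 0 n24318 = n28227 := rfl
theorem F59944 : act 1 n28227 = n26543 := d0_2 D24318 D28227 F54822 F42840 (iv F43962) (iv F49104) F49103 F37725 (iv F37741)
theorem F59945 : act 2 n28227 = n24360 := d1_2 (iv F49152) D28227 F49267
theorem F59946 : act 3 n28227 = n27732 := d2_2 (iv F49153) D28227 (iv D27732)
theorem F59947 : act 5 n28227 = n24359 := d4_2 (iv F49154) D28227 F49263
theorem F59948 : act 6 n28227 = n26882 := d5_2 F54742 D28227 F55933
def n28228 : Q := act 4 n24319
theorem D28228 : act 4 n24319 = n28228 := rfl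
theorem F59949 : act 0 n28228 = n25060 := d3_1 D28228 F51114 (iv F49155)
theorem F59950 : act 1 n28228 = n24321 := d8_1 D28228 (iv D24321) (iv F49156)
theorem F59951 : act 2 n28228 = n27125 := d12_1 D28228 F56762 F49157
theorem F59952 : act 3 n28228 = n27512 := d15_1 D28228 (iv D27512) (iv F48547) F48530 D24319
def n28229 : Q := act 6 n24321
theorem D28229 : act 6 n24321 = n28229 := rfl
theorem F59953 : act 0 n28229 = n25073 := d5_1 D28229 (iv D25073) (iv F49161)
theorem F59954 : act 4 n28229 = n24322 := d19_1 D28229 (iv D24322) D24321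
theorem F59955 : act 5 n28229 = n27511 := d22_2 F57831 D28229 (iv D27511) D27509
theorem F59956 : act 1 n27483 = n28229 := d8_3 F59954 (iv F49165) (iv F57761)
def n28230 : Q := act 3 n24323
theorem D28230 : act 3 n24323 = n28230 := rfl
theorem F59957 : act 0 n28230 = n24397 := d2_1 D28230 (iv D24397) (iv F49166)
theorem F59958 : act 1 n28230 = n24324 := d7_1 D28230 (iv D24324) D24323
theorem F59959 : act 5 n28230 = n28179 := d16_2 F55482 D28230 F59773
theorem F59960 : act 2 n28183 = n28230 := d21_0 (iv D28230) F49167 (iv F49388) (iv F55005) F55006 F49541 (iv F55498) (iv F59788)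
def n28231 : Q := act 4 n24327
theorem D28231 : act 4 n24327 = n28231 := rfl
theorem F59961 : act 0 n28231 = n28053 := d3_1 D28231 F59423 F49287
theorem F59962 : act 1 n28231 = n25984 := d8_1 D28231 F53430 (iv F49174)
theorem F59963 : act 2 n28231 = n24328 := d12_1 D28231 (iv D24328) D24327
theorem F59964 : act 3 n28231 = n27756 := d15_1 D28231 F58475 F57789 F48542 (iv F49175)
theorem F59965 : act 5 n28231 = n24328 := d18_2 F49176 D28231 (iv D24328)
theorem F59966 : act 6 n28231 = n28050 := d19_2 (iv F49286) D28231 F59410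
def n28232 : Q := act 3 n24332
theorem D28232 : act 3 n24332 = n28232 := rfl
theorem F59967 : act 0 n28232 = n24339 := d2_1 D28232 (iv D24339) (iv F49186)
theorem F59968 : act 1 n28232 = n26006 := d7_1 D28232 F53478 (iv F49187)
theorem F59969 : act 4 n28232 = n28201 := d15_2 D24332 D28232 (iv D28201) (iv D24265) (iv F37765)
def n28233 : Q := act 4 n24334
theorem D28233 : act 4 n24334 = n28233 := rfl
theorem F59970 : act 0 n28233 = n24336 := d3_1 D28233 (iv D24336) D24334
theorem F59971 : act 1 n28233 = n24747 := d8_1 D28233 F50274 (iv F49192)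
theorem F59972 : act 2 n28233 = n24402 := d12_1 D28233 (iv D24402) (iv F49193)
theorem F59973 : act 5 n28233 = n24825 := d18_2 (iv F49194) D28233 F50456
theorem F59974 : act 6 n28233 = n24929 := d19_2 F49196 D28233 F50674
def n28234 : Q := act 4 n24335
theorem D28234 : act 4 n24335 = n28234 := rfl
theorem F59975 : act 0 n28234 = n27520 := d3_1 D28234 F57855 (iv F49197)
theorem F59976 : act 1 n28234 = n24338 := d8_1 D28234 (iv D24338) (iv F49198)
theorem F59977 : act 2 n28234 = n26203 := d12_1 D28234 (iv F58723) F58722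
theorem F59978 : act 5 n28234 = n25052 := d18_2 (iv F49199) D28234 F51086
theorem F59979 : act 6 n28234 = n26200 := d19_2 F58503 D28234 (iv F58502)
def n28235 : Q := act 3 n24336
theorem D28235 : act 3 n24336 = n28235 := rfl
theorem F59980 : act 1 n28235 = n24339 := d7_1 D28235 (iv D24339) (iv F49200)
theorem F59981 : act 5 n28235 = n24823 := d16_2 (iv F49202) D28235 F50454
def n28236 : Q := act 6 n24336
theorem D28236 : act 6 n24336 = n28236 := rfl
theorem F59982 : act 0 n28236 = n24929 := d5_1 D28236 (iv F59974) F59970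
theorem F59983 : act 1 n28236 = n27972 := d10_1 D28236 (iv D27972) (iv F49142) F49144 (iv F49200)
theorem F59984 : act 2 n28236 = n24406 := d14_1 D28236 (iv D24406) (iv F49201)
theorem F59985 : act 4 n28236 = n24337 := d19_1 D28236 (iv D24337) D24336
theorem F59986 : act 5 n28236 = n24928 := d20_1 D28236 F50672 (iv F59973) F59974 (iv D24929) F38818 (iv F49202)
def n28237 : Q := act 3 n24338
theorem D28237 : act 3 n24338 = n28237 := rfl
theorem F59987 : act 0 n28237 = n28201 := d2_1 D28237 (iv D28201) (iv F49207)
theorem F59988 : act 4 n28237 = n24339 := d15_2 D24338 D28237 (iv D24339) (iv D19994) D19993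
def n28238 : Q := act 2 n24339
theorem D28238 : act 2 n24339 = n28238 := rfl
def n28239 : Q := act 5 n24342
theorem D28239 : act 5 n24342 = n28239 := rfl
theorem F59989 : act 1 n28239 = n28173 := d9_1 D28239 F59748 F54999 (iv D24344) (iv F49213)
theorem F59990 : act 2 n28239 = n24343 := d13_1 D28239 (iv D24343) D24342
def n28240 : Q := act 2 n24347
theorem D28240 : act 2 n24347 = n28240 := rfl
theorem F59991 : act 0 n28240 = n24354 := d1_1 D28240 (iv D24354) (iv F49228)
theorem F59992 : act 4 n28240 = n27168 := d12_2 (iv F49230) D28240 (iv D27168)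
theorem F59993 : act 6 n28240 = n26978 := d14_2 (iv F49231) D28240 (iv D26978)
theorem F59994 : act 3 n28240 = n28032 := d21_1 D28240 (iv D28032) (iv D24100) F37287 F25365 (iv F25735) D20011 (iv F49228)
def n28241 : Q := act 6 n24352
theorem D28241 : act 6 n24352 = n28241 := rfl
theorem F59995 : act 0 n28241 = n27598 := d5_1 D28241 F58039 (iv F49249)
theorem F59996 : act 2 n28241 = n25253 := d14_1 D28241 (iv F53377) (iv F53378)
theorem F59997 : act 3 n28241 = n24714 := d17_1 D28241 F59368 F59367
theorem F59998 : act 4 n28241 = n24353 := d19_1 D28241 (iv D24353) D24352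
theorem F59999 : act 5 n28241 = n25030 := d22_2 F50995 D28241 (iv D25030) D25028
def n28242 : Q := act 3 n24354
theorem D28242 : act 3 n24354 = n28242 := rfl
theorem F60000 : act 0 n28242 = n28032 := d2_1 D28242 (iv F59994) F59991
theorem F60001 : act 2 n28242 = n28020 := d11_1 D28242 (iv D28020) F48591 F37275 (iv F37799) D24347 D28240 F59994 (iv D28032) (iv D24100) F37287 F25365 (iv F25735) D20011 D24354
theorem F60002 : act 6 n28242 = n26980 := d17_2 (iv F49255) D28242 (iv D26980)
def n28243 : Q := act 5 n24354
theorem D28243 : act 5 n24354 = n28243 := rfl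
theorem F60003 : act 2 n28243 = n24355 := d13_1 D28243 (iv D24355) D24354
theorem F60004 : act 4 n28243 = n27170 := d18_1 D28243 (iv D27170) (iv F49254)
def n28244 : Q := act 1 n24355
theorem D28244 : act 1 n24355 = n28244 := rfl
theorem F60005 : act 0 n28244 = n27205 := d0_1 D28244 (iv D27205) (iv D23105) (iv D18739) (iv F24051) D18790 D23164 F56302 F56298
theorem F60006 : act 3 n28244 = n24356 := d7_2 (iv F49256) D28244 (iv D24356)
theorem F60007 : act 4 n28244 = n27171 := d8_2 (iv F49257) D28244 (iv D27171)
theorem F60008 : act 5 n28244 = n26970 := d9_2 D24355 D28244 (iv D26970) (iv D22741) (iv F37808)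
theorem F60009 : act 6 n28244 = n27290 := d10_2 F56294 D28244 F57243 D27302 (iv F57286)
def n28245 : Q := act 1 n24364
theorem D28245 : act 1 n24364 = n28245 := rfl
theorem F60010 : act 0 n28245 = n26587 := d0_1 D28245 F54979 F42998 F29674 (iv F29680) F39614 F29760 (iv F38870) (iv F49278)
theorem F60011 : act 2 n28245 = n26742 := d6_2 (iv F49279) D28245 F55491 F49379 F37887
theorem F60012 : act 3 n28245 = n26567 := d7_2 (iv F49280) D28245 (iv D26567)
theorem F60013 : act 5 n28245 = n26571 := d9_2 F49281 D28245 (iv D26571) (iv D22068) (iv F42893)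
theorem F60014 : act 6 n28245 = n28230 := d10_2 D24364 D28245 F59958 F49276 (iv D24362)
def n28246 : Q := act 4 n24367
theorem D28246 : act 4 n24367 = n28246 := rfl
theorem F60015 : act 0 n28246 = n24370 := d3_1 D28246 (iv D24370) (iv F49291)
theorem F60016 : act 1 n28246 = n26239 := d8_1 D28246 F54074 (iv F49295)
theorem F60017 : act 2 n28246 = n24368 := d12_1 D28246 (iv D24368) D24367
theorem F60018 : act 5 n28246 = n24384 := d18_2 (iv F49292) D28246 (iv D24384)
theorem F60019 : act 6 n28246 = n24854 := d19_2 (iv F49293) D28246 F50511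
def n28247 : Q := act 4 n24369
theorem D28247 : act 4 n24369 = n28247 := rfl
theorem F60020 : act 0 n28247 = n27091 := d3_1 D28247 F56661 (iv F49298)
theorem F60021 : act 1 n28247 = n27427 := d8_1 D28247 F57620 (iv F49299)
theorem F60022 : act 2 n28247 = n28204 := d12_1 D28247 (iv D28204) (iv F49300)
theorem F60023 : act 5 n28247 = n24390 := d18_2 (iv F49301) D28247 (iv D24390)
theorem F60024 : act 6 n28247 = n27433 := d19_2 F49302 D28247 F57631
def n28248 : Q := act 3 n24370
theorem D28248 : act 3 n24370 = n28248 := rfl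
theorem F60025 : act 1 n28248 = n28040 := d7_1 D28248 F59384 (iv F49303)
theorem F60026 : act 5 n28248 = n24391 := d16_2 (iv F49305) D28248 (iv D24391)
def n28249 : Q := act 6 n24370
theorem D28249 : act 6 n24370 = n28249 := rfl
theorem F60027 : act 0 n28249 = n24854 := d5_1 D28249 (iv F60019) F60015
theorem F60028 : act 1 n28249 = n26332 := d10_1 D28249 F54268 (iv F54476) F54478 (iv F49303)
theorem F60029 : act 2 n28249 = n24372 := d14_1 D28249 (iv D24372) (iv F49304)
theorem F60030 : act 4 n28249 = n24371 := d19_1 D28249 (iv D24371) D24370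
theorem F60031 : act 5 n28249 = n24863 := d20_1 D28249 F50533 (iv F60018) F60019 F50512 F39578 (iv F49305)
def n28250 : Q := act 4 n24373
theorem D28250 : act 4 n24373 = n28250 := rfl
theorem F60032 : act 0 n28250 = n25092 := d3_1 D28250 F51225 (iv F49313)
theorem F60033 : act 1 n28250 = n24375 := d8_1 D28250 (iv D24375) (iv F49314)
theorem F60034 : act 2 n28250 = n27132 := d12_1 D28250 F56780 F49315
theorem F60035 : act 3 n28250 = n27588 := d15_1 D28250 (iv D27588) (iv F48668) F48651 D24373
def n28251 : Q := act 5 n24375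
theorem D28251 : act 5 n24375 = n28251 := rfl
theorem F60036 : act 0 n28251 = n25105 := d4_1 D28251 (iv D25105) (iv F49319)
theorem F60037 : act 4 n28251 = n24376 := d18_1 D28251 (iv D24376) D24375
theorem F60038 : act 6 n28251 = n27587 := d22_1 D28251 (iv D27587) F46627 (iv F49319)
theorem F60039 : act 1 n27559 = n28251 := d8_3 F60037 (iv F49323) (iv F57937)
def n28252 : Q := act 3 n24377
theorem D28252 : act 3 n24377 = n28252 := rfl
theorem F60040 : act 0 n28252 = n24400 := d2_1 D28252 F49388 (iv F49324)
theorem F60041 : act 1 n28252 = n24378 := d7_1 D28252 (iv D24378) D24377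
theorem F60042 : act 5 n28252 = n28222 := d16_2 F55411 D28252 F59925
theorem F60043 : act 6 n28252 = n28169 := d17_2 F54975 D28252 F59732
theorem F60044 : act 2 n28173 = n28252 := d21_0 (iv D28252) F49325 D24397 (iv F55497) F55498 (iv F49541) (iv F55006) (iv F59747)
def n28253 : Q := act 4 n24381
theorem D28253 : act 4 n24381 = n28253 := rfl
theorem F60045 : act 0 n28253 = n27981 := d3_1 D28253 F59205 (iv F49338)
theorem F60046 : act 1 n28253 = n26219 := d8_1 D28253 F54032 (iv F49339)
theorem F60047 : act 2 n28253 = n24382 := d12_1 D28253 (iv D24382) D24381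
theorem F60048 : act 3 n28253 = n27781 := d15_1 D28253 F58571 F57965 F48664 (iv F49341)
theorem F60049 : act 5 n28253 = n27979 := d18_2 (iv F49340) D28253 F59197
theorem F60050 : act 6 n28253 = n24382 := d19_2 F49342 D28253 (iv D24382)
def n28254 : Q := act 3 n24384
theorem D28254 : act 3 n24384 = n28254 := rfl
theorem F60051 : act 0 n28254 = n24391 := d2_1 D28254 (iv D24391) (iv F49347)
theorem F60052 : act 1 n28254 = n26238 := d7_1 D28254 F54072 (iv F49348)
theorem F60053 : act 4 n28254 = n28213 := d15_2 D24384 D28254 (iv D28213) (iv D24284) (iv F37862)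
def n28255 : Q := act 4 n24386
theorem D28255 : act 4 n24386 = n28255 := rfl
theorem F60054 : act 0 n28255 = n24388 := d3_1 D28255 (iv D24388) D24386
theorem F60055 : act 1 n28255 = n24796 := d8_1 D28255 F50386 (iv F49353)
theorem F60056 : act 2 n28255 = n24411 := d12_1 D28255 (iv D24411) (iv F49354)
theorem F60057 : act 5 n28255 = n24961 := d18_2 (iv F49356) D28255 F50760
theorem F60058 : act 6 n28255 = n24881 := d19_2 (iv F49355) D28255 F50564
def n28256 : Q := act 4 n24387
theorem D28256 : act 4 n24387 = n28256 := rfl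
theorem F60059 : act 0 n28256 = n27596 := d3_1 D28256 F58033 (iv F49358)
theorem F60060 : act 1 n28256 = n24390 := d8_1 D28256 (iv D24390) (iv F49359)
theorem F60061 : act 2 n28256 = n25968 := d12_1 D28256 (iv F58744) F58743
theorem F60062 : act 5 n28256 = n25965 := d18_2 F58599 D28256 (iv F58598)
theorem F60063 : act 6 n28256 = n25089 := d19_2 (iv F49360) D28256 F51216
def n28257 : Q := act 3 n24388
theorem D28257 : act 3 n24388 = n28257 := rfl
theorem F60064 : act 1 n28257 = n24391 := d7_1 D28257 (iv D24391) (iv F49361)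
theorem F60065 : act 6 n28257 = n24877 := d17_2 (iv F49363) D28257 F50559
def n28258 : Q := act 5 n24388
theorem D28258 : act 5 n24388 = n28258 := rfl
theorem F60066 : act 0 n28258 = n24961 := d4_1 D28258 (iv F60057) F60054
theorem F60067 : act 1 n28258 = n28044 := d9_1 D28258 (iv D28044) (iv F49303) F49305 (iv F49361)
theorem F60068 : act 2 n28258 = n24414 := d13_1 D28258 (iv D24414) (iv F49362)
theorem F60069 : act 4 n28258 = n24389 := d18_1 D28258 (iv D24389) D24388
theorem F60070 : act 6 n28258 = n24960 := d20_2 (iv F49363) D28258 F50758 (iv F60058) F60057 (iv D24961) F38859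
def n28259 : Q := act 3 n24390
theorem D28259 : act 3 n24390 = n28259 := rfl
theorem F60071 : act 0 n28259 = n28213 := d2_1 D28259 (iv D28213) (iv F49368)
theorem F60072 : act 4 n28259 = n24391 := d15_2 D24390 D28259 (iv D24391) (iv D20048) D20047
def n28260 : Q := act 2 n24391
theorem D28260 : act 2 n24391 = n28260 := rfl
def n28261 : Q := act 6 n24394
theorem D28261 : act 6 n24394 = n28261 := rfl
theorem F60073 : act 1 n28261 = n28183 := d10_1 D28261 F59789 F55491 (iv D24396) (iv F49374)
theorem F60074 : act 2 n28261 = n24395 := d14_1 D28261 (iv D24395) D24394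
def n28262 : Q := act 5 n24397
theorem D28262 : act 5 n24397 = n28262 := rfl
theorem F60075 : act 0 n28262 = n28179 := d4_1 D28262 (iv F59959) F59957
theorem F60076 : act 1 n28262 = n26616 := d9_1 D28262 F55085 (iv D24409) F37917 (iv F49382)
theorem F60077 : act 2 n28262 = n24425 := d13_1 D28262 (iv F55499) F55497
theorem F60078 : act 3 n28262 = n24398 := d16_1 D28262 (iv D24398) D24397
theorem F60079 : act 6 n28262 = n26571 := d20_2 F54981 D28262 (iv F60013) F60014 F59959 (iv D28179) (iv F54980)
def n28263 : Q := act 6 n24400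
theorem D28263 : act 6 n24400 = n28263 := rfl
theorem F60080 : act 0 n28263 = n28169 := d5_1 D28263 (iv F60043) F60040
theorem F60081 : act 1 n28263 = n26614 := d10_1 D28263 F55076 (iv D24399) (iv F37907) D24400
theorem F60082 : act 2 n28263 = n24446 := d14_1 D28263 (iv F55007) F55005
theorem F60083 : act 3 n28263 = n24408 := d17_1 D28263 (iv D24408) (iv F49388)
theorem F60084 : act 5 n28263 = n26727 := d20_1 D28263 (iv F59926) (iv F60042) F60043 (iv D28169) (iv F54991) F54990
def n28264 : Q := act 2 n24401
theorem D28264 : act 2 n24401 = n28264 := rfl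
theorem F60085 : act 0 n28264 = n25276 := d1_1 D28264 F59787 F59783
theorem F60086 : act 1 n28264 = n25022 := d6_1 D28264 F50972 (iv F49192) F49193 D24401
theorem F60087 : act 3 n28264 = n25275 := d11_2 (iv F49389) D28264 (iv D25275) F40546 (iv F36377) (iv F40548) (iv F51851) (iv F59784) (iv F59787) (iv D25276) (iv D21045) F27463 D19431 D23799 F47649
theorem F60088 : act 6 n28264 = n28185 := d14_2 F59792 D28264 F59796
theorem F60089 : act 5 n24401 = n28264 := d23_0 (iv D28264) (iv D24401) (iv D20063) D20065 F43970 (iv D15337) (iv F20755) (iv D11733) F16358 D11732 D15338 (iv F26703) (iv F37890) (iv F49382) (iv F59957) F59959 F59772 D28182 F59783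
def n28265 : Q := act 4 n24401
theorem D28265 : act 4 n24401 = n28265 := rfl
theorem F60090 : act 1 n28265 = n24402 := d8_1 D28265 (iv D24402) D24401
theorem F60091 : act 3 n28265 = n27805 := d15_1 D28265 (iv D27805) (iv D23758) D23759 (iv F49389)
def n28266 : Q := act 5 n24402
theorem D28266 : act 5 n24402 = n28266 := rfl
theorem F60092 : act 0 n28266 = n24405 := d4_1 D28266 (iv D24405) (iv F49390)
theorem F60093 : act 2 n28266 = n24825 := d13_1 D28266 (iv F59973) F59972
theorem F60094 : act 3 n28266 = n27004 := d16_1 D28266 F56372 (iv F49391)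
theorem F60095 : act 4 n28266 = n24403 := d18_1 D28266 (iv D24403) D24402
theorem F60096 : act 6 n28266 = n27007 := d20_2 F56387 D28266 F56381 (iv D24406) D24405 (iv F49404) D27008
def n28267 : Q := act 2 n24410
theorem D28267 : act 2 n24410 = n28267 := rfl
theorem F60097 : act 0 n28267 = n25288 := d1_1 D28267 F59746 F59742
theorem F60098 : act 1 n28267 = n25043 := d6_1 D28267 F51049 (iv F49353) F49354 D24410
theorem F60099 : act 3 n28267 = n25287 := d11_2 (iv F49417) D28267 (iv D25287) F40618 (iv F40416) (iv F40620) (iv F51891) (iv F59743) (iv F59746) (iv D25288) (iv D21066) F27520 D19487 D23828 (iv F47767)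
theorem F60100 : act 5 n28267 = n28175 := d13_2 F59751 D28267 F59755
theorem F60101 : act 6 n24410 = n28267 := d20_0 F60100 (iv D28175) (iv F59744) F59745 F58941 F59752 F59751
def n28268 : Q := act 4 n24410
theorem D28268 : act 4 n24410 = n28268 := rfl
theorem F60102 : act 1 n28268 = n24411 := d8_1 D28268 (iv D24411) D24410
theorem F60103 : act 3 n28268 = n27814 := d15_1 D28268 (iv D27814) (iv D23782) D23783 (iv F49417)
def n28269 : Q := act 6 n24411
theorem D28269 : act 6 n24411 = n28269 := rfl
theorem F60104 : act 0 n28269 = n24415 := d5_1 D28269 (iv D24415) (iv F49418)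
theorem F60105 : act 2 n28269 = n24881 := d14_1 D28269 (iv F60058) F60056
theorem F60106 : act 3 n28269 = n27010 := d17_1 D28269 F56396 (iv F49419)
theorem F60107 : act 4 n28269 = n24413 := d19_1 D28269 (iv D24413) D24411
theorem F60108 : act 5 n28269 = n27013 := d20_1 D28269 F56404 (iv D24414) D24415 (iv F49434) D27014 (iv F56410)
def n28270 : Q := act 6 n24419
theorem D28270 : act 6 n24419 = n28270 := rfl
theorem F60109 : act 3 n28270 = n24420 := d17_1 D28270 (iv D24420) D24419
def n28271 : Q := act 1 n24420
theorem D28271 : act 1 n24420 = n28271 := rfl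
theorem F60110 : act 2 n28271 = n26630 := d6_2 (iv F49448) D28271 F55119 F43359 (iv F37948)
theorem F60111 : act 4 n28271 = n24421 := d8_2 (iv F49449) D28271 (iv D24421)
theorem F60112 : act 6 n28271 = n26613 := d10_2 D24420 D28271 F55071 F43120 (iv F37939)
def n28272 : Q := act 5 n24423
theorem D28272 : act 5 n24423 = n28272 := rfl
theorem F60113 : act 0 n28272 = n24426 := d4_1 D28272 (iv D24426) D24423
theorem F60114 : act 3 n28272 = n28183 := d16_1 D28272 (iv D28183) (iv F49531)
theorem F60115 : act 4 n28272 = n25200 := d18_1 D28272 F51763 F51762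
theorem F60116 : act 6 n28272 = n25193 := d20_2 F49526 D28272 (iv F51584) (iv D24427) D24426 F49525 (iv F49524)
def n28273 : Q := act 4 n24425
theorem D28273 : act 4 n24425 = n28273 := rfl
theorem F60117 : act 0 n28273 = n27933 := d3_1 D28273 F59074 F49530
theorem F60118 : act 1 n28273 = n24429 := d8_1 D28273 (iv D24429) (iv F49462)
theorem F60119 : act 3 n28273 = n26133 := d15_1 D28273 F53776 (iv F47519) F47520 D24425
theorem F60120 : act 6 n28273 = n27931 := d19_2 (iv F49529) D28273 F59070
def n28274 : Q := act 4 n24428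
theorem D28274 : act 4 n24428 = n28274 := rfl
theorem F60121 : act 0 n28274 = n24432 := d3_1 D28274 (iv D24432) (iv F49465)
theorem F60122 : act 1 n28274 = n25935 := d8_1 D28274 F53294 (iv F49468)
theorem F60123 : act 2 n28274 = n24429 := d12_1 D28274 (iv D24429) D24428
theorem F60124 : act 5 n28274 = n24827 := d18_2 F49467 D28274 F50459
def n28275 : Q := act 5 n24429
theorem D28275 : act 5 n24429 = n28275 := rfl
theorem F60125 : act 0 n28275 = n24434 := d4_1 D28275 (iv D24434) (iv F49469)
theorem F60126 : act 2 n28275 = n24827 := d13_1 D28275 (iv F60124) F60123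
theorem F60127 : act 3 n28275 = n25257 := d16_1 D28275 (iv F51790) (iv F49470)
theorem F60128 : act 4 n28275 = n24430 := d18_1 D28275 (iv D24430) D24429
theorem F60129 : act 6 n28275 = n25256 := d22_1 D28275 F51785 (iv D24435) (iv F49469)
theorem F60130 : act 1 n26891 = n28275 := d10_5 F60129 F51783 F40487 (iv F44262) D26891
def n28276 : Q := act 4 n24431
theorem D28276 : act 4 n24431 = n28276 := rfl
theorem F60131 : act 0 n28276 = n27586 := d3_1 D28276 F58008 (iv F49476)
theorem F60132 : act 1 n28276 = n25054 := d8_1 D28276 F51094 (iv F49477)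
theorem F60133 : act 2 n28276 = n27585 := d12_1 D28276 F58006 (iv F49478)
theorem F60134 : act 5 n28276 = n25055 := d18_2 (iv F49479) D28276 F51096
theorem F60135 : act 6 n28276 = n27076 := d19_2 F49480 D28276 F56616
def n28277 : Q := act 6 n24432
theorem D28277 : act 6 n24432 = n28277 := rfl
theorem F60136 : act 1 n28277 = n27143 := d10_1 D28277 F56820 F45713 F38694 (iv F49481)
theorem F60137 : act 2 n28277 = n24435 := d14_1 D28277 (iv D24435) (iv F49482)
theorem F60138 : act 4 n28277 = n24433 := d19_1 D28277 (iv D24433) D24432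
def n28278 : Q := act 6 n24434
theorem D28278 : act 6 n24434 = n28278 := rfl
theorem F60139 : act 0 n28278 = n25256 := d5_1 D28278 (iv F60129) F60125
theorem F60140 : act 2 n28278 = n24828 := d14_1 D28278 (iv D24828) (iv F49488)
theorem F60141 : act 3 n28278 = n25255 := d17_1 D28278 F51782 (iv F49489)
theorem F60142 : act 4 n28278 = n24436 := d19_1 D28278 (iv D24436) (iv F49490)
theorem F60143 : act 5 n28278 = n28206 := d20_1 D28278 F59869 D28275 F60129 F51785 (iv D24435) D24434
theorem F60144 : act 1 n27828 = n28278 := d8_3 F60142 (iv F49497) (iv F58758)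
def n28279 : Q := act 5 n24437
theorem D28279 : act 5 n24437 = n28279 := rfl
theorem F60145 : act 0 n28279 = n27837 := d4_1 D28279 (iv D27837) (iv F49498)
theorem F60146 : act 1 n28279 = n28205 := d9_1 D28279 (iv D28205) (iv D24275) (iv F37972) D24437
theorem F60147 : act 3 n28279 = n27836 := d16_1 D28279 (iv D27836) (iv F49499)
theorem F60148 : act 4 n28279 = n26949 := d18_1 D28279 (iv D26949) (iv F49500)
theorem F60149 : act 6 n28279 = n27837 := d22_1 D28279 (iv D27837) F47880 (iv F49498)
def n28280 : Q := act 5 n24440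
theorem D28280 : act 5 n24440 = n28280 := rfl
theorem F60150 : act 3 n28280 = n24441 := d16_1 D28280 (iv D24441) D24440
def n28281 : Q := act 1 n24441
theorem D28281 : act 1 n24441 = n28281 := rfl
theorem F60151 : act 2 n28281 = n26771 := d6_2 (iv F49511) D28281 F55587 F43889 (iv F37990)
theorem F60152 : act 4 n28281 = n24442 := d8_2 (iv F49512) D28281 (iv D24442)
theorem F60153 : act 5 n28281 = n26758 := d9_2 D24441 D28281 F55551 F43675 (iv F37986)
def n28282 : Q := act 6 n24444
theorem D28282 : act 6 n24444 = n28282 := rfl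
theorem F60154 : act 0 n28282 = n24448 := d5_1 D28282 (iv D24448) D24444
theorem F60155 : act 2 n28282 = n28272 := d14_1 D28282 F60116 F51585
theorem F60156 : act 3 n28282 = n28173 := d17_1 D28282 (iv D28173) F49537
theorem F60157 : act 4 n28282 = n25247 := d19_1 D28282 (iv F51766) F51600
theorem F60158 : act 5 n28282 = n25241 := d20_1 D28282 F51745 (iv D24447) D24448 F49542 (iv F49461) (iv F49536)
def n28283 : Q := act 4 n24446
theorem D28283 : act 4 n24446 = n28283 := rfl
theorem F60159 : act 0 n28283 = n27905 := d3_1 D28283 F59003 (iv F49538)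
theorem F60160 : act 1 n28283 = n24450 := d8_1 D28283 (iv D24450) (iv F49532)
theorem F60161 : act 3 n28283 = n25898 := d15_1 D28283 F53187 (iv F47596) F47597 D24446
theorem F60162 : act 5 n28283 = n27903 := d18_2 F49539 D28283 F58999
def n28284 : Q := act 4 n24449
theorem D28284 : act 4 n24449 = n28284 := rfl
theorem F60163 : act 0 n28284 = n24453 := d3_1 D28284 (iv D24453) (iv F49543)
theorem F60164 : act 1 n28284 = n26170 := d8_1 D28284 F53886 (iv F49545)
theorem F60165 : act 2 n28284 = n24450 := d12_1 D28284 (iv D24450) D24449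
theorem F60166 : act 6 n28284 = n24879 := d19_2 F49546 D28284 F50561
def n28285 : Q := act 6 n24450
theorem D28285 : act 6 n24450 = n28285 := rfl
theorem F60167 : act 0 n28285 = n24456 := d5_1 D28285 (iv D24456) (iv F49547)
theorem F60168 : act 2 n28285 = n24879 := d14_1 D28285 (iv F60166) F60165
theorem F60169 : act 3 n28285 = n25209 := d17_1 D28285 F51625 (iv F49548)
theorem F60170 : act 4 n28285 = n24451 := d19_1 D28285 (iv D24451) D24450
theorem F60171 : act 5 n28285 = n25208 := d22_2 F59829 D28285 F51621 (iv F59827)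
theorem F60172 : act 1 n26914 = n28285 := d9_5 F60171 F51619 F40250 (iv F44427) D26914
def n28286 : Q := act 4 n24452
theorem D28286 : act 4 n24452 = n28286 := rfl
theorem F60173 : act 0 n28286 = n27510 := d3_1 D28286 F57832 (iv F49554)
theorem F60174 : act 1 n28286 = n25087 := d8_1 D28286 F51213 (iv F49555)
theorem F60175 : act 2 n28286 = n27509 := d12_1 D28286 F57830 (iv F49556)
theorem F60176 : act 5 n28286 = n27102 := d18_2 F49558 D28286 F56691
theorem F60177 : act 6 n28286 = n25088 := d19_2 (iv F49557) D28286 F51215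
def n28287 : Q := act 5 n24453
theorem D28287 : act 5 n24453 = n28287 := rfl
theorem F60178 : act 1 n28287 = n27152 := d9_1 D28287 F56854 F45725 F38757 (iv F49559)
theorem F60179 : act 2 n28287 = n24455 := d13_1 D28287 (iv D24455) (iv F49560)
theorem F60180 : act 4 n28287 = n24454 := d18_1 D28287 (iv D24454) D24453
def n28288 : Q := act 5 n24456
theorem D28288 : act 5 n24456 = n28288 := rfl
theorem F60181 : act 0 n28288 = n25208 := d4_1 D28288 (iv F60171) F60167
theorem F60182 : act 2 n28288 = n24880 := d13_1 D28288 (iv D24880) (iv F49568)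
theorem F60183 : act 3 n28288 = n25207 := d16_1 D28288 F51618 (iv F49569)
theorem F60184 : act 4 n28288 = n24457 := d18_1 D28288 (iv D24457) (iv F49570)
theorem F60185 : act 6 n28288 = n28194 := d20_2 D24456 D28288 F59829 D28285 F60171 F51621 (iv D24455)
theorem F60186 : act 1 n27832 = n28288 := d8_3 F60184 (iv F49575) (iv F58773)
def n28289 : Q := act 6 n24458
theorem D28289 : act 6 n24458 = n28289 := rfl
theorem F60187 : act 0 n28289 = n27839 := d5_1 D28289 (iv D27839) (iv F49576)
theorem F60188 : act 1 n28289 = n28193 := d10_1 D28289 (iv D28193) (iv D24256) (iv F38019) D24458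
theorem F60189 : act 3 n28289 = n27838 := d17_1 D28289 (iv D27838) (iv F49577)
theorem F60190 : act 4 n28289 = n26967 := d19_1 D28289 (iv D26967) (iv F49578)
theorem F60191 : act 5 n28289 = n27839 := d22_2 F49579 D28289 (iv D27839) (iv F49576)
def n28290 : Q := act 4 n24459
theorem D28290 : act 4 n24459 = n28290 := rfl
theorem F60192 : act 1 n28290 = n27309 := d8_1 D28290 (iv F58802) F58801
theorem F60193 : act 2 n28290 = n25291 := d12_1 D28290 (iv D25291) (iv F49581)
theorem F60194 : act 3 n28290 = n24962 := d15_1 D28290 (iv D24962) (iv D20477) (iv F38020) D24459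
theorem F60195 : act 5 n28290 = n25291 := d18_2 (iv F49580) D28290 (iv D25291)
def n28291 : Q := act 6 n24459
theorem D28291 : act 6 n24459 = n28291 := rfl
theorem F60196 : act 0 n28291 = n26109 := d5_1 D28291 F53707 F52965
theorem F60197 : act 2 n28291 = n25292 := d14_1 D28291 (iv D25292) (iv F49581)
theorem F60198 : act 3 n28291 = n24460 := d17_1 D28291 (iv D24460) D24459
theorem F60199 : act 1 n27513 = n28291 := d7_3 F60198 (iv F59242) F59244
def n28292 : Q := act 4 n24461
theorem D28292 : act 4 n24461 = n28292 := rfl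
theorem F60200 : act 1 n28292 = n27401 := d8_1 D28292 (iv F58806) F58805
theorem F60201 : act 2 n28292 = n25295 := d12_1 D28292 (iv D25295) (iv F49586)
theorem F60202 : act 3 n28292 = n24964 := d15_1 D28292 (iv D24964) (iv D20479) (iv F38025) D24461
theorem F60203 : act 6 n28292 = n25295 := d19_2 (iv F49585) D28292 (iv D25295)
def n28293 : Q := act 5 n24461
theorem D28293 : act 5 n24461 = n28293 := rfl
theorem F60204 : act 0 n28293 = n25868 := d4_1 D28293 (iv F53575) F53572
theorem F60205 : act 2 n28293 = n25296 := d13_1 D28293 (iv D25296) (iv F49586)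
theorem F60206 : act 3 n28293 = n24462 := d16_1 D28293 (iv D24462) D24461
theorem F60207 : act 1 n27589 = n28293 := d7_3 F60206 (iv F59455) F59457
def n28294 : Q := act 4 n24463
theorem D28294 : act 4 n24463 = n28294 := rfl
theorem F60208 : act 2 n28294 = n24487 := d12_1 D28294 (iv D24487) (iv F49591)
theorem F60209 : act 3 n28294 = n25304 := d15_1 D28294 (iv D25304) (iv D21093) (iv F38030) D24463
theorem F60210 : act 5 n28294 = n24487 := d18_2 (iv F49590) D28294 (iv D24487)
def n28295 : Q := act 6 n24463
theorem D28295 : act 6 n24463 = n28295 := rfl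
theorem F60211 : act 2 n28295 = n24488 := d14_1 D28295 (iv D24488) (iv F49591)
theorem F60212 : act 3 n28295 = n24464 := d17_1 D28295 (iv D24464) D24463
def n28296 : Q := act 1 n24464
theorem D28296 : act 1 n24464 = n28296 := rfl
theorem F60213 : act 4 n28296 = n25306 := d8_2 (iv F49593) D28296 (iv D25306)
def n28297 : Q := act 2 n24465
theorem D28297 : act 2 n24465 = n28297 := rfl
theorem F60214 : act 0 n28297 = n25458 := d1_1 D28297 (iv D25458) (iv F49594)
theorem F60215 : act 4 n28297 = n25307 := d12_2 (iv F49596) D28297 (iv D25307)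
theorem F60216 : act 5 n28297 = n25646 := d13_2 (iv F49597) D28297 F52656
theorem F60217 : act 6 n28297 = n24466 := d14_2 (iv F49598) D28297 (iv D24466)
def n28298 : Q := act 3 n24466
theorem D28298 : act 3 n24466 = n28298 := rfl
theorem F60218 : act 1 n28298 = n27000 := d7_1 D28298 (iv D27000) (iv F49599)
def n28299 : Q := act 4 n24467
theorem D28299 : act 4 n24467 = n28299 := rfl
theorem F60219 : act 2 n28299 = n24493 := d12_1 D28299 (iv D24493) (iv F49602)
theorem F60220 : act 3 n28299 = n25316 := d15_1 D28299 (iv D25316) (iv D21101) (iv F38036) D24467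
theorem F60221 : act 6 n28299 = n24493 := d19_2 (iv F49601) D28299 (iv D24493)
def n28300 : Q := act 5 n24467
theorem D28300 : act 5 n24467 = n28300 := rfl
theorem F60222 : act 2 n28300 = n24494 := d13_1 D28300 (iv D24494) (iv F49602)
theorem F60223 : act 3 n28300 = n24468 := d16_1 D28300 (iv D24468) D24467
def n28301 : Q := act 1 n24468
theorem D28301 : act 1 n24468 = n28301 := rfl
theorem F60224 : act 4 n28301 = n25318 := d8_2 (iv F49604) D28301 (iv D25318)
def n28302 : Q := act 2 n24469
theorem D28302 : act 2 n24469 = n28302 := rfl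
theorem F60225 : act 0 n28302 = n25424 := d1_1 D28302 (iv D25424) (iv F49605)
theorem F60226 : act 4 n28302 = n25319 := d12_2 (iv F49607) D28302 (iv D25319)
theorem F60227 : act 5 n28302 = n24470 := d13_2 (iv F49608) D28302 (iv D24470)
theorem F60228 : act 6 n28302 = n25750 := d14_2 (iv F49609) D28302 F52837
def n28303 : Q := act 3 n24470
theorem D28303 : act 3 n24470 = n28303 := rfl
theorem F60229 : act 1 n28303 = n26991 := d7_1 D28303 (iv D26991) (iv F49610)
def n28304 : Q := act 3 n24473
theorem D28304 : act 3 n24473 = n28304 := rfl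
theorem F60230 : act 0 n28304 = n24566 := d2_1 D28304 F49843 F49674
theorem F60231 : act 1 n28304 = n28218 := d7_1 D28304 (iv D28218) (iv F49612)
theorem F60232 : act 5 n28304 = n24479 := d16_2 (iv F49614) D28304 (iv D24479)
def n28305 : Q := act 0 n24474
theorem D28305 : act 0 n24474 = n28305 := rfl
theorem F60233 : act 3 n28305 = n28305 := d2_2 F49615 D28305 (iv D28305)
theorem F60234 : act 4 n28305 = n25338 := d3_2 (iv F49616) D28305 (iv D25338)
theorem F60235 : act 5 n28305 = n28305 := d4_2 F49617 D28305 (iv D28305)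
theorem F60236 : act 1 n24482 = n28305 := d8_3 F60234 F52155 (iv F49638)
def n28306 : Q := act 2 n24474
theorem D28306 : act 2 n24474 = n28306 := rfl
theorem F60237 : act 4 n28306 = n25339 := d12_2 (iv F49616) D28306 (iv D25339)
theorem F60238 : act 5 n28306 = n28306 := d13_2 F49617 D28306 (iv D28306)
def n28307 : Q := act 3 n24475
theorem D28307 : act 3 n24475 = n28307 := rfl
theorem F60239 : act 0 n28307 = n24621 := d2_1 D28307 F49980 F49686
theorem F60240 : act 1 n28307 = n28242 := d7_1 D28307 (iv D28242) (iv F49618)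
theorem F60241 : act 6 n28307 = n24483 := d17_2 (iv F49620) D28307 (iv D24483)
def n28308 : Q := act 0 n24476
theorem D28308 : act 0 n24476 = n28308 := rfl
theorem F60242 : act 1 n28308 = n24478 := d0_2 D24476 D28308 F49626 (iv F38092) (iv F49636) F60236 (iv D28305) (iv D24474) (iv F38075)
theorem F60243 : act 3 n28308 = n28308 := d2_2 F49621 D28308 (iv D28308)
theorem F60244 : act 4 n28308 = n25341 := d3_2 (iv F49622) D28308 (iv D25341)
theorem F60245 : act 6 n28308 = n28308 := d5_2 F49623 D28308 (iv D28308)
def n28309 : Q := act 2 n24476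
theorem D28309 : act 2 n24476 = n28309 := rfl
theorem F60246 : act 4 n28309 = n25342 := d12_2 (iv F49622) D28309 (iv D25342)
theorem F60247 : act 6 n28309 = n28309 := d14_2 F49623 D28309 (iv D28309)
def n28310 : Q := act 3 n24477
theorem D28310 : act 3 n24477 = n28310 := rfl
theorem F60248 : act 0 n28310 = n24479 := d2_1 D28310 (iv D24479) (iv F49624)
theorem F60249 : act 1 n28310 = n24707 := d7_1 D28310 F50195 F50097
theorem F60250 : act 5 n28310 = n24566 := d16_2 F49677 D28310 F49843
def n28311 : Q := act 6 n24477
theorem D28311 : act 6 n24477 = n28311 := rfl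
theorem F60251 : act 0 n28311 = n24480 := d5_1 D28311 (iv D24480) (iv F49624)
theorem F60252 : act 2 n28311 = n24478 := d14_1 D28311 (iv D24478) D24477
theorem F60253 : act 4 n28311 = n25346 := d19_1 D28311 (iv D25346) (iv F49625)
theorem F60254 : act 5 n28311 = n24503 := d20_1 D28311 F49684 F49614 D24480 (iv F49633) (iv F49678) F49677
def n28312 : Q := act 2 n24479
theorem D28312 : act 2 n24479 = n28312 := rfl
def n28313 : Q := act 4 n24479
theorem D28313 : act 4 n24479 = n28313 := rfl
theorem F60255 : act 1 n28313 = n24487 := d8_1 D28313 (iv D24487) (iv F49630)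
theorem F60256 : act 3 n28313 = n25348 := d15_1 D28313 (iv D25348) (iv D21140) (iv F38083) D24479
def n28314 : Q := act 6 n24479
theorem D28314 : act 6 n24479 = n28314 := rfl
theorem F60257 : act 3 n28314 = n24480 := d17_1 D28314 (iv D24480) D24479
theorem F60258 : act 5 n28314 = n24504 := d22_2 F60232 D28314 (iv F49844) (iv F60230)
def n28315 : Q := act 1 n24480
theorem D28315 : act 1 n24480 = n28315 := rfl
theorem F60259 : act 4 n28315 = n25350 := d8_2 (iv F49632) D28315 (iv D25350)
theorem F60260 : act 5 n28315 = n24527 := d9_2 F49633 D28315 (iv D24527) (iv D20176) (iv F38157)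
theorem F60261 : act 6 n28315 = n24489 := d10_2 D24480 D28315 (iv D24489) (iv D20139) (iv F38082)
def n28316 : Q := act 3 n24481
theorem D28316 : act 3 n24481 = n28316 := rfl
theorem F60262 : act 0 n28316 = n24483 := d2_1 D28316 (iv D24483) (iv F49634)
theorem F60263 : act 1 n28316 = n24757 := d7_1 D28316 F50303 F50152
theorem F60264 : act 6 n28316 = n24621 := d17_2 F49690 D28316 F49980
def n28317 : Q := act 5 n24481
theorem D28317 : act 5 n24481 = n28317 := rfl
theorem F60265 : act 0 n28317 = n24484 := d4_1 D28317 (iv D24484) (iv F49634)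
theorem F60266 : act 2 n28317 = n24482 := d13_1 D28317 (iv D24482) D24481
theorem F60267 : act 4 n28317 = n25352 := d18_1 D28317 (iv D25352) (iv F49635)
theorem F60268 : act 6 n28317 = n24507 := d20_2 F49690 D28317 F49696 F49620 D24484 (iv F49643) (iv F49689)
def n28318 : Q := act 2 n24483
theorem D28318 : act 2 n24483 = n28318 := rfl
def n28319 : Q := act 4 n24483
theorem D28319 : act 4 n24483 = n28319 := rfl
theorem F60269 : act 1 n28319 = n24493 := d8_1 D28319 (iv D24493) (iv F49640)
theorem F60270 : act 3 n28319 = n25354 := d15_1 D28319 (iv D25354) (iv D21144) (iv F38091) D24483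
def n28320 : Q := act 5 n24483
theorem D28320 : act 5 n24483 = n28320 := rfl
theorem F60271 : act 3 n28320 = n24484 := d16_1 D28320 (iv D24484) D24483
theorem F60272 : act 6 n28320 = n24508 := d22_1 D28320 (iv F49981) (iv F60264) F60262
def n28321 : Q := act 1 n24484
theorem D28321 : act 1 n24484 = n28321 := rfl
theorem F60273 : act 2 n28321 = n28315 := d6_2 (iv F49641) D28321 (iv D28315) F49631 (iv F38092)
theorem F60274 : act 4 n28321 = n25356 := d8_2 (iv F49642) D28321 (iv D25356)
theorem F60275 : act 5 n28321 = n24495 := d9_2 D24484 D28321 (iv D24495) (iv D20145) (iv F38090)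
theorem F60276 : act 6 n28321 = n24547 := d10_2 F49643 D28321 (iv D24547) (iv D20194) (iv F38174)
def n28322 : Q := act 4 n24485
theorem D28322 : act 4 n24485 = n28322 := rfl
theorem F60277 : act 0 n28322 = n24487 := d3_1 D28322 (iv D24487) (iv F49644)
theorem F60278 : act 1 n28322 = n27948 := d8_1 D28322 F59116 F59089
theorem F60279 : act 3 n28322 = n25357 := d15_1 D28322 (iv D25357) (iv D21148) (iv F38100) D24485
def n28323 : Q := act 6 n24485
theorem D28323 : act 6 n24485 = n28323 := rfl
theorem F60280 : act 0 n28323 = n24488 := d5_1 D28323 (iv D24488) (iv F49644)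
theorem F60281 : act 3 n28323 = n24486 := d17_1 D28323 (iv D24486) D24485
theorem F60282 : act 5 n28323 = n28295 := d22_2 F49670 D28323 (iv D28295) (iv F49668)
def n28324 : Q := act 6 n24487
theorem D28324 : act 6 n24487 = n28324 := rfl
theorem F60283 : act 3 n28324 = n25361 := d17_1 D28324 (iv D25361) (iv F49649)
theorem F60284 : act 4 n28324 = n24488 := d19_1 D28324 (iv D24488) D24487
def n28325 : Q := act 1 n24488
theorem D28325 : act 1 n24488 = n28325 := rfl
theorem F60285 : act 3 n28325 = n24489 := d7_2 (iv F49650) D28325 (iv D24489)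
def n28326 : Q := act 5 n24488
theorem D28326 : act 5 n24488 = n28326 := rfl
theorem F60286 : act 0 n28326 = n28295 := d4_1 D28326 (iv F60282) F60280
theorem F60287 : act 2 n28326 = n28323 := d13_1 D28326 F60282 F60211
theorem F60288 : act 3 n28326 = n24490 := d16_1 D28326 (iv D24490) (iv F49650)
theorem F60289 : act 6 n28326 = n24498 := d20_2 D24488 D28326 F49670 D28323 F60282 (iv D28295) F49590
def n28327 : Q := act 0 n24489
theorem D28327 : act 0 n24489 = n28327 := rfl
theorem F60290 : act 4 n28327 = n25364 := d3_2 (iv F49651) D28327 (iv D25364)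
def n28328 : Q := act 5 n24489
theorem D28328 : act 5 n24489 = n28328 := rfl
theorem F60291 : act 4 n28328 = n25365 := d18_1 D28328 (iv D25365) (iv F49651)
def n28329 : Q := act 1 n24490
theorem D28329 : act 1 n24490 = n28329 := rfl
theorem F60292 : act 2 n28329 = n25767 := d6_2 (iv F49653) D28329 (iv D25767) (iv D21446) F38111
theorem F60293 : act 4 n28329 = n25366 := d8_2 (iv F49654) D28329 (iv D25366)
theorem F60294 : act 0 n28329 = n25436 := d23_3 D20140 (iv F49653) D28329 (iv D25436) (iv F52213) (iv D25432) (iv F48455) (iv F59102) (iv D27943) F48437 F38409 F38403 F31858 (iv F24076) (iv F33663) F33666 (iv F41368) F41372 F38101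
theorem F60295 : act 5 n25434 = n28329 := d4_0 F60294 (iv D25436) D25434
theorem F60296 : act 1 n28328 = n25434 := d9_5 F60295 (iv D28329) (iv D24490) D24489 D28328
theorem F60297 : act 3 n26294 = n28328 := d7_0 F60296 (iv F54534) F54533
theorem F60298 : act 5 n28325 = n26294 := d16_0 F60297 (iv D28328) (iv F60285)
theorem F60299 : act 2 n26296 = n28325 := d13_3 F60298 (iv D26294) D26296
theorem F60300 : act 1 n28295 = n26306 := d6_3 F60299 (iv D28325) (iv F60211) F54207 (iv F54186)
theorem F60301 : act 3 n26306 = n28296 := d7_2 (iv F60212) F60300 (iv D28296)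
theorem F60302 : act 5 n28296 = n26304 := d16_2 D26306 F60301 (iv D26304)
def n28330 : Q := act 4 n24491
theorem D28330 : act 4 n24491 = n28330 := rfl
theorem F60303 : act 0 n28330 = n24493 := d3_1 D28330 (iv D24493) (iv F49656)
theorem F60304 : act 1 n28330 = n28020 := d8_1 D28330 F59332 F59098
theorem F60305 : act 3 n28330 = n25367 := d15_1 D28330 (iv D25367) (iv D21158) (iv F38116) D24491
def n28331 : Q := act 5 n24491
theorem D28331 : act 5 n24491 = n28331 := rfl
theorem F60306 : act 0 n28331 = n24494 := d4_1 D28331 (iv D24494) (iv F49656)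
theorem F60307 : act 3 n28331 = n24492 := d16_1 D28331 (iv D24492) D24491
theorem F60308 : act 6 n28331 = n28300 := d22_1 D28331 (iv D28300) F49601 (iv F49656)
def n28332 : Q := act 5 n24493
theorem D28332 : act 5 n24493 = n28332 := rfl
theorem F60309 : act 3 n28332 = n25371 := d16_1 D28332 (iv D25371) (iv F49661)
theorem F60310 : act 4 n28332 = n24494 := d18_1 D28332 (iv D24494) D24493
def n28333 : Q := act 1 n24494
theorem D28333 : act 1 n24494 = n28333 := rfl
theorem F60311 : act 3 n28333 = n24495 := d7_2 (iv F49662) D28333 (iv D24495)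
def n28334 : Q := act 6 n24494
theorem D28334 : act 6 n24494 = n28334 := rfl
theorem F60312 : act 0 n28334 = n28300 := d5_1 D28334 (iv F60308) F60306
theorem F60313 : act 2 n28334 = n28331 := d14_1 D28334 F60308 F60222
theorem F60314 : act 3 n28334 = n24496 := d17_1 D28334 (iv D24496) (iv F49662)
theorem F60315 : act 5 n28334 = n24500 := d20_1 D28334 F49673 D28331 F60308 (iv D28300) F49601 D24494
def n28335 : Q := act 0 n24495
theorem D28335 : act 0 n24495 = n28335 := rfl
theorem F60316 : act 4 n28335 = n25374 := d3_2 (iv F49663) D28335 (iv D25374)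
def n28336 : Q := act 6 n24495
theorem D28336 : act 6 n24495 = n28336 := rfl
theorem F60317 : act 4 n28336 = n25375 := d19_1 D28336 (iv D25375) (iv F49663)
def n28337 : Q := act 1 n24496
theorem D28337 : act 1 n24496 = n28337 := rfl
theorem F60318 : act 2 n28337 = n25663 := d6_2 (iv F49665) D28337 (iv D25663) (iv D21377) F38127
theorem F60319 : act 4 n28337 = n25376 := d8_2 (iv F49666) D28337 (iv D25376)
def n28338 : Q := act 3 n24497
theorem D28338 : act 3 n24497 = n28338 := rfl
theorem F60320 : act 1 n28338 = n24498 := d7_1 D28338 (iv D24498) D24497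
def n28339 : Q := act 5 n24497
theorem D28339 : act 5 n24497 = n28339 := rfl
theorem F60321 : act 0 n28339 = n27880 := d4_1 D28339 F58943 F56274
theorem F60322 : act 1 n28339 = n25300 := d9_1 D28339 F51917 F48404 (iv F38134) D24497
theorem F60323 : act 2 n28339 = n25301 := d13_1 D28339 (iv F58943) F58942
theorem F60324 : act 4 n28339 = n27880 := d18_1 D28339 F58943 F51918
def n28340 : Q := act 6 n24497
theorem D28340 : act 6 n24497 = n28340 := rfl
def n28341 : Q := act 4 n24498
theorem D28341 : act 4 n24498 = n28341 := rfl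
theorem F60325 : act 0 n28341 = n28294 := d3_1 D28341 (iv D28294) (iv F49668)
theorem F60326 : act 2 n28341 = n28322 := d12_1 D28341 (iv D28322) (iv F49669)
theorem F60327 : act 3 n28341 = n24561 := d15_1 D28341 F51922 (iv D25302) F40711 D24498
theorem F60328 : act 5 n28341 = n28322 := d18_2 (iv F49670) D28341 (iv D28322)
def n28342 : Q := act 3 n24499
theorem D28342 : act 3 n24499 = n28342 := rfl
theorem F60329 : act 1 n28342 = n24500 := d7_1 D28342 (iv D24500) D24499
def n28343 : Q := act 5 n24499
theorem D28343 : act 5 n24499 = n28343 := rfl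
def n28344 : Q := act 6 n24499
theorem D28344 : act 6 n24499 = n28344 := rfl
theorem F60330 : act 0 n28344 = n27881 := d5_1 D28344 F58945 (iv F56973)
theorem F60331 : act 1 n28344 = n25312 := d10_1 D28344 F51944 F48432 (iv F38141) D24499
theorem F60332 : act 2 n28344 = n25313 := d14_1 D28344 (iv F58945) F58944
theorem F60333 : act 4 n28344 = n27881 := d19_1 D28344 F58945 F51945
def n28345 : Q := act 4 n24500
theorem D28345 : act 4 n24500 = n28345 := rfl
theorem F60334 : act 0 n28345 = n28299 := d3_1 D28345 (iv D28299) (iv F49671)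
theorem F60335 : act 2 n28345 = n28330 := d12_1 D28345 (iv D28330) (iv F49672)
theorem F60336 : act 3 n28345 = n24616 := d15_1 D28345 F51949 (iv D25314) F40728 D24500
theorem F60337 : act 6 n28345 = n28330 := d19_2 (iv F49673) D28345 (iv D28330)
def n28346 : Q := act 0 n24502
theorem D28346 : act 0 n24502 = n28346 := rfl
theorem F60338 : act 3 n28346 = n28346 := d2_2 F49679 D28346 (iv D28346)
theorem F60339 : act 4 n28346 = n25404 := d3_2 (iv F49680) D28346 (iv D25404)
theorem F60340 : act 6 n28346 = n28305 := d5_2 (iv F49681) D28346 (iv D28305)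
theorem F60341 : act 5 n28346 = n24502 := d22_0 F49681 F49617 (iv F49681) D28346
def n28347 : Q := act 2 n24502
theorem D28347 : act 2 n24502 = n28347 := rfl
theorem F60342 : act 4 n28347 = n25405 := d12_2 (iv F49680) D28347 (iv D25405)
theorem F60343 : act 6 n28347 = n28306 := d14_2 (iv F49681) D28347 (iv D28306)
def n28348 : Q := act 1 n24503
theorem D28348 : act 1 n24503 = n28348 := rfl
theorem F60344 : act 4 n28348 = n25406 := d8_2 (iv F49683) D28348 (iv D25406)
def n28349 : Q := act 3 n24503
theorem D28349 : act 3 n24503 = n28349 := rfl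
theorem F60345 : act 0 n28349 = n24504 := d2_1 D28349 (iv D24504) (iv F49682)
theorem F60346 : act 6 n28349 = n28304 := d17_2 (iv F49684) D28349 (iv D28304)
def n28350 : Q := act 2 n24504
theorem D28350 : act 2 n24504 = n28350 := rfl
def n28351 : Q := act 4 n24504
theorem D28351 : act 4 n24504 = n28351 := rfl
theorem F60347 : act 1 n28351 = n24525 := d8_1 D28351 (iv D24525) (iv F49685)
theorem F60348 : act 3 n28351 = n25409 := d15_1 D28351 (iv D25409) (iv D21196) (iv F38158) D24504
def n28352 : Q := act 0 n24506
theorem D28352 : act 0 n24506 = n28352 := rfl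
theorem F60349 : act 1 n28352 = n28346 := d0_2 D24506 D28352 (iv D28346) (iv D24502) (iv D20154) (iv D14951) (iv F20389) D14955 D20159
theorem F60350 : act 3 n28352 = n28352 := d2_2 F49691 D28352 (iv D28352)
theorem F60351 : act 4 n28352 = n25411 := d3_2 (iv F49692) D28352 (iv D25411)
theorem F60352 : act 5 n28352 = n28308 := d4_2 (iv F49693) D28352 (iv D28308)
theorem F60353 : act 6 n28352 = n24506 := d22_3 F60352 F60245 (iv F60352) D28352
def n28353 : Q := act 2 n24506
theorem D28353 : act 2 n24506 = n28353 := rfl
theorem F60354 : act 4 n28353 = n25412 := d12_2 (iv F49692) D28353 (iv D25412)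
theorem F60355 : act 5 n28353 = n28309 := d13_2 (iv F49693) D28353 (iv D28309)
def n28354 : Q := act 1 n24507
theorem D28354 : act 1 n24507 = n28354 := rfl
theorem F60356 : act 4 n28354 = n25413 := d8_2 (iv F49695) D28354 (iv D25413)
def n28355 : Q := act 3 n24507
theorem D28355 : act 3 n24507 = n28355 := rfl
theorem F60357 : act 0 n28355 = n24508 := d2_1 D28355 (iv D24508) (iv F49694)
theorem F60358 : act 5 n28355 = n28307 := d16_2 (iv F49696) D28355 (iv D28307)
def n28356 : Q := act 2 n24508
theorem D28356 : act 2 n24508 = n28356 := rfl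
def n28357 : Q := act 4 n24508
theorem D28357 : act 4 n24508 = n28357 := rfl
theorem F60359 : act 1 n28357 = n24545 := d8_1 D28357 (iv D24545) (iv F49697)
theorem F60360 : act 3 n28357 = n25416 := d15_1 D28357 (iv D25416) (iv D21201) (iv F38175) D24508
def n28358 : Q := act 2 n24509
theorem D28358 : act 2 n24509 = n28358 := rfl
theorem F60361 : act 4 n28358 = n27960 := d12_2 (iv F49698) D28358 (iv D27960)
def n28359 : Q := act 5 n24509
theorem D28359 : act 5 n24509 = n28359 := rfl
theorem F60362 : act 1 n28359 = n24907 := d9_1 D28359 (iv D24907) D24905 (iv F50615) F50223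
theorem F60363 : act 3 n28359 = n24510 := d16_1 D28359 (iv D24510) D24509
theorem F60364 : act 4 n28359 = n27888 := d18_1 D28359 F58963 (iv F49698)
def n28360 : Q := act 6 n24509
theorem D28360 : act 6 n24509 = n28360 := rfl
theorem F60365 : act 3 n28360 = n24511 := d17_1 D28360 (iv D24511) D24509
theorem F60366 : act 4 n28360 = n27961 := d19_1 D28360 (iv D27961) (iv F49698)
def n28361 : Q := act 6 n24510
theorem D28361 : act 6 n24510 = n28361 := rfl
theorem F60367 : act 2 n28361 = n24512 := d14_1 D28361 (iv D24512) (iv F49699)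
theorem F60368 : act 4 n28361 = n25417 := d19_1 D28361 (iv D25417) (iv F49700)
theorem F60369 : act 5 n28361 = n25711 := d22_2 D24510 D28361 F52753 F48403
def n28362 : Q := act 1 n24511
theorem D28362 : act 1 n24511 = n28362 := rfl
theorem F60370 : act 4 n28362 = n25418 := d8_2 (iv F49702) D28362 (iv D25418)
def n28363 : Q := act 5 n24511
theorem D28363 : act 5 n24511 = n28363 := rfl
theorem F60371 : act 0 n28363 = n28361 := d4_1 D28363 F60369 F52750
theorem F60372 : act 2 n28363 = n24513 := d13_1 D28363 (iv D24513) (iv F49701)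
theorem F60373 : act 4 n28363 = n25419 := d18_1 D28363 (iv D25419) (iv F49702)
theorem F60374 : act 6 n28363 = n25300 := d20_2 D24511 D28363 F51917 (iv F52753) (iv F60369) (iv D28361) (iv D24510)
def n28364 : Q := act 2 n24516
theorem D28364 : act 2 n24516 = n28364 := rfl
theorem F60375 : act 0 n28364 = n25319 := d1_1 D28364 (iv D25319) (iv F49723)
theorem F60376 : act 4 n28364 = n25424 := d12_2 (iv F49725) D28364 (iv D25424)
theorem F60377 : act 5 n28364 = n25320 := d13_2 (iv F49726) D28364 (iv D25320)
def n28365 : Q := act 1 n24517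
theorem D28365 : act 1 n24517 = n28365 := rfl
theorem F60378 : act 4 n28365 = n25426 := d8_2 (iv F49728) D28365 (iv D25426)
def n28366 : Q := act 3 n24517
theorem D28366 : act 3 n24517 = n28366 := rfl
theorem F60379 : act 0 n28366 = n24518 := d2_1 D28366 (iv D24518) (iv F49727)
theorem F60380 : act 6 n28366 = n24522 := d17_2 (iv F49729) D28366 (iv D24522)
def n28367 : Q := act 2 n24518
theorem D28367 : act 2 n24518 = n28367 := rfl
theorem F60381 : act 1 n28367 = n24738 := d6_1 D28367 (iv D24738) (iv D20327) (iv F38545) (iv F49730)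
theorem F60382 : act 6 n28367 = n24524 := d14_2 (iv F49731) D28367 (iv D24524)
def n28368 : Q := act 4 n24518
theorem D28368 : act 4 n24518 = n28368 := rfl
theorem F60383 : act 1 n28368 = n24725 := d8_1 D28368 F50236 (iv F49730)
theorem F60384 : act 3 n28368 = n25429 := d15_1 D28368 (iv D25429) (iv D21213) (iv F38205) D24518
theorem F60385 : act 6 n28368 = n24525 := d19_2 (iv F49731) D28368 (iv D24525)
def n28369 : Q := act 5 n24518
theorem D28369 : act 5 n24518 = n28369 := rfl
theorem F60386 : act 1 n28369 = n24728 := d9_1 D28369 (iv D24728) (iv D20320) D20321 (iv F49730)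
theorem F60387 : act 3 n28369 = n24519 := d16_1 D28369 (iv D24519) D24518
def n28370 : Q := act 1 n24519
theorem D28370 : act 1 n24519 = n28370 := rfl
theorem F60388 : act 3 n28370 = n24728 := d7_2 F60387 D28370 (iv F60386)
theorem F60389 : act 4 n28370 = n25431 := d8_2 (iv F49733) D28370 (iv D25431)
theorem F60390 : act 5 n28370 = n24721 := d9_2 D24519 D28370 (iv D24721) (iv F49722) F49718
def n28371 : Q := act 1 n24520
theorem D28371 : act 1 n24520 = n28371 := rfl
theorem F60391 : act 2 n28371 = n24521 := d6_2 D24520 D28371 (iv D24521) (iv D20173) D20172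
theorem F60392 : act 4 n28371 = n25432 := d8_2 (iv F49734) D28371 (iv D25432)
theorem F60393 : act 3 n28364 = n28371 := d15_5 F60392 F52214 D28074 (iv F59497) (iv F60376)
def n28372 : Q := act 3 n24520
theorem D28372 : act 3 n24520 = n28372 := rfl
theorem F60394 : act 1 n28372 = n28364 := d7_1 D28372 F60393 (iv D28371)
theorem F60395 : act 4 n28372 = n28077 := d15_2 (iv F49734) D28372 (iv D28077) (iv D24133) (iv F41021)
theorem F60396 : act 5 n28372 = n25723 := d16_2 (iv F49735) D28372 F52767
theorem F60397 : act 2 n28365 = n28372 := d12_3 F60395 (iv F59501) (iv F60378)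
def n28373 : Q := act 0 n24521
theorem D28373 : act 0 n24521 = n28373 := rfl
theorem F60398 : act 4 n28373 = n25434 := d3_2 (iv F49736) D28373 (iv D25434)
theorem F60399 : act 5 n28373 = n25366 := d23_4 (iv D20174) D20173 D24521 D28373 F52048 F51961 F45897 D24701 F50177 F38490 F41259 F41258 (iv F48433) F48432 F38115 D20145 F38121 (iv F26043) (iv F38214)
theorem F60400 : act 1 n25365 = n28373 := d9_5 F60399 (iv D25366) (iv D21155) D21154 D25365
def n28374 : Q := act 3 n24521
theorem D28374 : act 3 n24521 = n28374 := rfl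
theorem F60401 : act 1 n28374 = n24522 := d7_1 D28374 (iv D24522) D24521
theorem F60402 : act 2 n28374 = n25329 := d21_4 D28364 F60393 F60391 D28374 (iv D25329) (iv D21116) (iv F40732) (iv F49723)
theorem F60403 : act 5 n25331 = n28374 := d13_0 F60402 F51975 D25331
def n28375 : Q := act 5 n24521
theorem D28375 : act 5 n24521 = n28375 := rfl
theorem F60404 : act 0 n28375 = n25366 := d4_1 D28375 (iv F60399) (iv D28373)
theorem F60405 : act 3 n28375 = n25331 := d16_1 D28375 F60403 (iv D28374)
theorem F60406 : act 4 n28375 = n25436 := d18_1 D28375 (iv D25436) (iv F49736)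
def n28376 : Q := act 6 n24521
theorem D28376 : act 6 n24521 = n28376 := rfl
theorem F60407 : act 4 n28376 = n25437 := d19_1 D28376 (iv D25437) (iv F49736)
def n28377 : Q := act 4 n24522
theorem D28377 : act 4 n24522 = n28377 := rfl
theorem F60408 : act 0 n28377 = n24525 := d3_1 D28377 (iv D24525) (iv F49737)
theorem F60409 : act 2 n28377 = n27157 := d12_1 D28377 F56872 F49926
theorem F60410 : act 3 n28377 = n25438 := d15_1 D28377 (iv D25438) (iv D21218) (iv F38213) D24522
def n28378 : Q := act 5 n24522
theorem D28378 : act 5 n24522 = n28378 := rfl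
theorem F60411 : act 0 n28378 = n24526 := d4_1 D28378 (iv D24526) (iv F49737)
theorem F60412 : act 3 n28378 = n24523 := d16_1 D28378 (iv D24523) D24522
theorem F60413 : act 6 n28378 = n28369 := d22_1 D28378 (iv D28369) F49731 (iv F49737)
def n28379 : Q := act 1 n24523
theorem D28379 : act 1 n24523 = n28379 := rfl
theorem F60414 : act 2 n28379 = n25474 := d6_2 (iv F49739) D28379 (iv D25474) F41072 (iv F38215)
theorem F60415 : act 4 n28379 = n25440 := d8_2 (iv F49740) D28379 (iv D25440)
def n28380 : Q := act 5 n24524
theorem D28380 : act 5 n24524 = n28380 := rfl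
theorem F60416 : act 2 n28380 = n24526 := d13_1 D28380 (iv D24526) D24524
def n28381 : Q := act 5 n24525
theorem D28381 : act 5 n24525 = n28381 := rfl
theorem F60417 : act 3 n28381 = n25444 := d16_1 D28381 (iv D25444) (iv F49742)
theorem F60418 : act 4 n28381 = n24526 := d18_1 D28381 (iv D24526) D24525
def n28382 : Q := act 1 n24526
theorem D28382 : act 1 n24526 = n28382 := rfl
theorem F60419 : act 3 n28382 = n24527 := d7_2 (iv F49743) D28382 (iv D24527)
def n28383 : Q := act 6 n24526
theorem D28383 : act 6 n24526 = n28383 := rfl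
theorem F60420 : act 0 n28383 = n28369 := d5_1 D28383 (iv F60413) F60411
theorem F60421 : act 3 n28383 = n24528 := d17_1 D28383 (iv D24528) (iv F49743)
theorem F60422 : act 5 n28383 = n28366 := d20_1 D28383 F60380 D28378 F60413 (iv D28369) F49731 D24526
def n28384 : Q := act 0 n24527
theorem D28384 : act 0 n24527 = n28384 := rfl
theorem F60423 : act 2 n28384 = n28335 := d1_2 (iv F49744) D28384 (iv D28335)
theorem F60424 : act 4 n28384 = n25447 := d3_2 (iv F49745) D28384 (iv D25447)
theorem F60425 : act 6 n28328 = n28384 := d22_3 (iv F60260) F60261 D28328 (iv D28384)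
def n28385 : Q := act 6 n24527
theorem D28385 : act 6 n24527 = n28385 := rfl
theorem F60426 : act 0 n28385 = n28328 := d5_1 D28385 F60425 (iv D28384)
theorem F60427 : act 2 n28385 = n28336 := d14_1 D28385 (iv D28336) (iv F49744)
theorem F60428 : act 4 n28385 = n25448 := d19_1 D28385 (iv D25448) (iv F49745)
theorem F60429 : act 5 n28327 = n28385 := d22_0 (iv D28385) (iv F60260) F60261 D28327
theorem F60430 : act 3 n28336 = n26370 := d21_1 F60427 (iv D26370) (iv D21854) F28607 D21802 D26294 F60297 (iv F60426)
theorem F60431 : act 1 n25468 = n28336 := d7_3 F60430 (iv F54562) F54563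
theorem F60432 : act 6 n26370 = n28333 := d17_2 D28336 F60430 F60311
theorem F60433 : act 2 n28333 = n26373 := d14_1 F60432 (iv D26373) D26370
theorem F60434 : act 1 n26383 = n28300 := d6_3 F60433 F54364 (iv F54384) F60222 D28333
theorem F60435 : act 3 n28301 = n26383 := d7_0 F60434 F60223 D28301
theorem F60436 : act 6 n26380 = n28301 := d17_0 F60435 (iv D26383) D26380
theorem F60437 : act 6 n28337 = n25468 := d10_0 F60431 (iv D28336) (iv D24495) D24496 D28337
theorem F60438 : act 0 n25471 = n28337 := d5_3 F60437 (iv D25468) D25471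
def n28386 : Q := act 1 n24528
theorem D28386 : act 1 n24528 = n28386 := rfl
theorem F60439 : act 4 n28386 = n25449 := d8_2 (iv F49748) D28386 (iv D25449)
def n28387 : Q := act 2 n24529
theorem D28387 : act 2 n24529 = n28387 := rfl
theorem F60440 : act 4 n28387 = n28032 := d12_2 (iv F49750) D28387 (iv D28032)
def n28388 : Q := act 5 n24529
theorem D28388 : act 5 n24529 = n28388 := rfl
theorem F60441 : act 3 n28388 = n24530 := d16_1 D28388 (iv D24530) D24529
theorem F60442 : act 4 n28388 = n28033 := d18_1 D28388 (iv D28033) (iv F49750)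
def n28389 : Q := act 6 n24529
theorem D28389 : act 6 n24529 = n28389 := rfl
theorem F60443 : act 1 n28389 = n24937 := d10_1 D28389 (iv D24937) D24934 (iv F50692) F50329
theorem F60444 : act 3 n28389 = n24531 := d17_1 D28389 (iv D24531) D24529
theorem F60445 : act 4 n28389 = n27916 := d19_1 D28389 F59034 (iv F49750)
def n28390 : Q := act 1 n24530
theorem D28390 : act 1 n24530 = n28390 := rfl
theorem F60446 : act 4 n28390 = n25451 := d8_2 (iv F49752) D28390 (iv D25451)
def n28391 : Q := act 6 n24530
theorem D28391 : act 6 n24530 = n28391 := rfl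
theorem F60447 : act 2 n28391 = n24532 := d14_1 D28391 (iv D24532) (iv F49751)
theorem F60448 : act 4 n28391 = n25452 := d19_1 D28391 (iv D25452) (iv F49752)
theorem F60449 : act 5 n28391 = n25312 := d22_2 D24530 D28391 F51944 F48431
def n28392 : Q := act 5 n24531
theorem D28392 : act 5 n24531 = n28392 := rfl
theorem F60450 : act 0 n28392 = n28391 := d4_1 D28392 F60449 F51942
theorem F60451 : act 2 n28392 = n24533 := d13_1 D28392 (iv D24533) (iv F49753)
theorem F60452 : act 4 n28392 = n25453 := d18_1 D28392 (iv D25453) (iv F49754)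
theorem F60453 : act 6 n28392 = n25601 := d20_2 D24531 D28392 F52561 (iv F51944) (iv F60449) (iv D28391) (iv D24530)
def n28393 : Q := act 2 n24536
theorem D28393 : act 2 n24536 = n28393 := rfl
theorem F60454 : act 0 n28393 = n25307 := d1_1 D28393 (iv D25307) (iv F49775)
theorem F60455 : act 4 n28393 = n25458 := d12_2 (iv F49777) D28393 (iv D25458)
theorem F60456 : act 6 n28393 = n25308 := d14_2 (iv F49778) D28393 (iv D25308)
def n28394 : Q := act 1 n24537
theorem D28394 : act 1 n24537 = n28394 := rfl
theorem F60457 : act 4 n28394 = n25460 := d8_2 (iv F49780) D28394 (iv D25460)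
def n28395 : Q := act 3 n24537
theorem D28395 : act 3 n24537 = n28395 := rfl
theorem F60458 : act 0 n28395 = n24538 := d2_1 D28395 (iv D24538) (iv F49779)
theorem F60459 : act 5 n28395 = n24542 := d16_2 (iv F49781) D28395 (iv D24542)
def n28396 : Q := act 2 n24538
theorem D28396 : act 2 n24538 = n28396 := rfl
theorem F60460 : act 1 n28396 = n24787 := d6_1 D28396 (iv D24787) (iv D20361) (iv F38626) (iv F49782)
theorem F60461 : act 5 n28396 = n24544 := d13_2 (iv F49783) D28396 (iv D24544)
def n28397 : Q := act 4 n24538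
theorem D28397 : act 4 n24538 = n28397 := rfl
theorem F60462 : act 1 n28397 = n24774 := d8_1 D28397 F50342 (iv F49782)
theorem F60463 : act 3 n28397 = n25463 := d15_1 D28397 (iv D25463) (iv D21237) (iv F38248) D24538
theorem F60464 : act 5 n28397 = n24545 := d18_2 (iv F49783) D28397 (iv D24545)
def n28398 : Q := act 6 n24538
theorem D28398 : act 6 n24538 = n28398 := rfl
theorem F60465 : act 1 n28398 = n24777 := d10_1 D28398 (iv D24777) (iv D20354) D20355 (iv F49782)
theorem F60466 : act 3 n28398 = n24539 := d17_1 D28398 (iv D24539) D24538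
def n28399 : Q := act 1 n24539
theorem D28399 : act 1 n24539 = n28399 := rfl
theorem F60467 : act 3 n28399 = n24777 := d7_2 F60466 D28399 (iv F60465)
theorem F60468 : act 4 n28399 = n25465 := d8_2 (iv F49785) D28399 (iv D25465)
theorem F60469 : act 6 n28399 = n24770 := d10_2 D24539 D28399 (iv D24770) (iv F49774) F49770
def n28400 : Q := act 1 n24540
theorem D28400 : act 1 n24540 = n28400 := rfl
theorem F60470 : act 2 n28400 = n24541 := d6_2 D24540 D28400 (iv D24541) (iv D20191) D20190
theorem F60471 : act 4 n28400 = n25466 := d8_2 (iv F49786) D28400 (iv D25466)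
theorem F60472 : act 3 n28393 = n28400 := d15_5 F60471 F52270 D28004 (iv F59287) (iv F60455)
def n28401 : Q := act 3 n24540
theorem D28401 : act 3 n24540 = n28401 := rfl
theorem F60473 : act 1 n28401 = n28393 := d7_1 D28401 F60472 (iv D28400)
theorem F60474 : act 4 n28401 = n28007 := d15_2 (iv F49786) D28401 (iv D28007) (iv D24082) (iv F41066)
theorem F60475 : act 6 n28401 = n25618 := d17_2 (iv F49787) D28401 F52590
theorem F60476 : act 2 n28394 = n28401 := d12_3 F60474 (iv F59291) (iv F60457)
def n28402 : Q := act 0 n24541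
theorem D28402 : act 0 n24541 = n28402 := rfl
theorem F60477 : act 4 n28402 = n25468 := d3_2 (iv F49788) D28402 (iv D25468)
theorem F60478 : act 1 n25375 = n28402 := d8_3 F60477 F60431 F60317
theorem F60479 : act 6 n25376 = n28402 := d19_0 F60477 (iv F60437) F60319
def n28403 : Q := act 3 n24541
theorem D28403 : act 3 n24541 = n28403 := rfl
theorem F60480 : act 1 n28403 = n24542 := d7_1 D28403 (iv D24542) D24541
theorem F60481 : act 2 n28403 = n25324 := d21_4 D28393 F60472 F60470 D28403 (iv D25324) (iv D21109) (iv F40715) (iv F49775)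
theorem F60482 : act 6 n25326 = n28403 := d14_0 F60481 F51969 D25326
def n28404 : Q := act 5 n24541
theorem D28404 : act 5 n24541 = n28404 := rfl
theorem F60483 : act 4 n28404 = n25470 := d18_1 D28404 (iv D25470) (iv F49788)
def n28405 : Q := act 6 n24541
theorem D28405 : act 6 n24541 = n28405 := rfl
theorem F60484 : act 0 n28405 = n25376 := d5_1 D28405 F60479 (iv D28402)
theorem F60485 : act 3 n28405 = n25326 := d17_1 D28405 F60482 (iv D28403)
theorem F60486 : act 4 n28405 = n25471 := d19_1 D28405 (iv D25471) (iv F49788)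
def n28406 : Q := act 4 n24542
theorem D28406 : act 4 n24542 = n28406 := rfl
theorem F60487 : act 0 n28406 = n24545 := d3_1 D28406 (iv D24545) (iv F49789)
theorem F60488 : act 2 n28406 = n27148 := d12_1 D28406 F56837 F50062
theorem F60489 : act 3 n28406 = n25472 := d15_1 D28406 (iv D25472) (iv D21242) (iv F38256) D24542
def n28407 : Q := act 6 n24542
theorem D28407 : act 6 n24542 = n28407 := rfl
theorem F60490 : act 0 n28407 = n24546 := d5_1 D28407 (iv D24546) (iv F49789)
theorem F60491 : act 3 n28407 = n24543 := d17_1 D28407 (iv D24543) D24542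
theorem F60492 : act 5 n28407 = n28398 := d22_2 F60459 D28407 (iv D28398) (iv F60458)
def n28408 : Q := act 1 n24543
theorem D28408 : act 1 n24543 = n28408 := rfl
theorem F60493 : act 2 n28408 = n25440 := d6_2 (iv F49791) D28408 (iv D25440) F41027 (iv F38258)
theorem F60494 : act 4 n28408 = n25474 := d8_2 (iv F49792) D28408 (iv D25474)
def n28409 : Q := act 6 n24544
theorem D28409 : act 6 n24544 = n28409 := rfl
theorem F60495 : act 2 n28409 = n24546 := d14_1 D28409 (iv D24546) D24544
def n28410 : Q := act 6 n24545
theorem D28410 : act 6 n24545 = n28410 := rfl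
theorem F60496 : act 3 n28410 = n25478 := d17_1 D28410 (iv D25478) (iv F49794)
theorem F60497 : act 4 n28410 = n24546 := d19_1 D28410 (iv D24546) D24545
def n28411 : Q := act 1 n24546
theorem D28411 : act 1 n24546 = n28411 := rfl
theorem F60498 : act 3 n28411 = n24547 := d7_2 (iv F49795) D28411 (iv D24547)
def n28412 : Q := act 5 n24546
theorem D28412 : act 5 n24546 = n28412 := rfl
theorem F60499 : act 0 n28412 = n28398 := d4_1 D28412 (iv F60492) F60490
theorem F60500 : act 3 n28412 = n24548 := d16_1 D28412 (iv D24548) (iv F49795)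
theorem F60501 : act 6 n28412 = n28395 := d20_2 D24546 D28412 F60459 D28407 F60492 (iv D28398) F49783
def n28413 : Q := act 0 n24547
theorem D28413 : act 0 n24547 = n28413 := rfl
theorem F60502 : act 2 n28413 = n28327 := d1_2 (iv F49796) D28413 (iv D28327)
theorem F60503 : act 4 n28413 = n25481 := d3_2 (iv F49797) D28413 (iv D25481)
theorem F60504 : act 5 n28413 = n28336 := d22_0 (iv D28336) (iv F60275) F60276 D28413
def n28414 : Q := act 5 n24547
theorem D28414 : act 5 n24547 = n28414 := rfl
theorem F60505 : act 0 n28414 = n28336 := d4_1 D28414 (iv F60504) (iv D28413)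
theorem F60506 : act 2 n28414 = n28328 := d13_1 D28414 (iv D28328) (iv F49796)
theorem F60507 : act 4 n28414 = n25482 := d18_1 D28414 (iv D25482) (iv F49797)
theorem F60508 : act 6 n28414 = n28335 := d22_3 (iv F60275) F60276 D28414 (iv D28335)
def n28415 : Q := act 1 n24548
theorem D28415 : act 1 n24548 = n28415 := rfl
theorem F60509 : act 4 n28415 = n25483 := d8_2 (iv F49800) D28415 (iv D25483)
def n28416 : Q := act 2 n24549
theorem D28416 : act 2 n24549 = n28416 := rfl
theorem F60510 : act 0 n28416 = n24552 := d1_1 D28416 (iv D24552) (iv F49802)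
theorem F60511 : act 1 n28416 = n24805 := d6_1 D28416 F50414 F46447 F46444 (iv F49803)
theorem F60512 : act 4 n28416 = n24803 := d12_2 (iv F49804) D28416 F50410
theorem F60513 : act 3 n28416 = n28358 := d21_1 D28416 (iv D28358) (iv D24509) (iv D20161) F26029 D14973 D20198 (iv F49802)
def n28417 : Q := act 6 n24550
theorem D28417 : act 6 n24550 = n28417 := rfl
theorem F60514 : act 2 n28417 = n25361 := d14_1 D28417 (iv D25361) F49807
theorem F60515 : act 3 n28417 = n24551 := d17_1 D28417 (iv D24551) D24550
theorem F60516 : act 4 n28417 = n25360 := d19_1 D28417 (iv D25360) (iv F49806)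
theorem F60517 : act 5 n28417 = n24564 := d22_2 F49827 D28417 (iv D24564) (iv F49826)
def n28418 : Q := act 1 n24551
theorem D28418 : act 1 n24551 = n28418 := rfl
theorem F60518 : act 0 n28418 = n24831 := d0_1 D28418 (iv D24831) F38695 (iv F49481) (iv F60121) F60122 F53293 F53024 F49839
theorem F60519 : act 2 n28418 = n26849 := d6_2 (iv F49808) D28418 F55829 F50276 F38565
theorem F60520 : act 4 n28418 = n24969 := d8_2 (iv F49809) D28418 (iv D24969)
theorem F60521 : act 6 n28418 = n24557 := d10_2 D24551 D28418 (iv D24557) (iv D20200) D20197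
def n28419 : Q := act 1 n24552
theorem D28419 : act 1 n24552 = n28419 := rfl
theorem F60522 : act 2 n28419 = n25348 := d6_2 D24552 D28419 F52017 F49807 F49805
theorem F60523 : act 4 n28419 = n25337 := d8_2 (iv F56896) D28419 (iv F56893)
theorem F60524 : act 5 n28419 = n25348 := d9_2 F56954 D28419 F52017 (iv F51929) (iv F56952)
def n28420 : Q := act 3 n24552
theorem D28420 : act 3 n24552 = n28420 := rfl
theorem F60525 : act 0 n28420 = n28358 := d2_1 D28420 (iv F60513) F60510
theorem F60526 : act 2 n28420 = n27938 := d11_1 D28420 (iv D27938) F48405 F37092 D20196 D24549 D28416 F60513 (iv D28358) (iv D24509) (iv D20161) F26029 D14973 D20198 D24552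
theorem F60527 : act 4 n28420 = n28218 := d15_2 (iv F56896) D28420 (iv D28218) F49094 D27162
def n28421 : Q := act 6 n24552
theorem D28421 : act 6 n24552 = n28421 := rfl
theorem F60528 : act 2 n28421 = n24555 := d14_1 D28421 (iv D24555) D24552
def n28422 : Q := act 6 n24553
theorem D28422 : act 6 n24553 = n28422 := rfl
theorem F60529 : act 0 n28422 = n27067 := d5_1 D28422 (iv D27067) (iv F49811)
theorem F60530 : act 3 n28422 = n24970 := d17_1 D28422 (iv D24970) (iv F49813)
theorem F60531 : act 4 n28422 = n24555 := d19_1 D28422 (iv D24555) D24553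
theorem F60532 : act 5 n28422 = n28270 := d22_2 F56950 D28422 (iv D28270) (iv F56948)
def n28423 : Q := act 6 n24554
theorem D28423 : act 6 n24554 = n28423 := rfl
theorem F60533 : act 3 n28423 = n24556 := d17_1 D28423 (iv D24556) (iv F49814)
theorem F60534 : act 5 n28423 = n26082 := d22_2 D24554 D28423 F53643 F49802
theorem F60535 : act 1 n27944 = n28423 := d24_14 (iv D28423) (iv D24554) (iv F49805) D28417 F60517 (iv F50254) (iv D24739) (iv F50252) (iv D24736) (iv F38708) (iv D20399) D20397 D24839 (iv F59104)
def n28424 : Q := act 1 n24555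
theorem D28424 : act 1 n24555 = n28424 := rfl
theorem F60536 : act 3 n28424 = n24557 := d7_2 (iv F49815) D28424 (iv D24557)
theorem F60537 : act 0 n26346 = n28424 := d2_3 F60536 (iv F49821) (iv F54295)
def n28425 : Q := act 5 n24555
theorem D28425 : act 5 n24555 = n28425 := rfl
theorem F60538 : act 0 n28425 = n28423 := d4_1 D28425 F60534 F53642
theorem F60539 : act 3 n28425 = n24558 := d16_1 D28425 (iv D24558) (iv F49815)
theorem F60540 : act 4 n28425 = n28270 := d18_1 D28425 (iv F60532) F60531
theorem F60541 : act 6 n28425 = n24910 := d20_2 D24555 D28425 F50629 (iv F53643) (iv F60534) (iv D28423) (iv D24554)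
def n28426 : Q := act 6 n24559
theorem D28426 : act 6 n24559 = n28426 := rfl
theorem F60542 : act 0 n28426 = n24564 := d5_1 D28426 (iv D24564) (iv F49826)
theorem F60543 : act 1 n28426 = n26007 := d10_1 D28426 F53482 (iv F53705) F53707 F52966
theorem F60544 : act 3 n28426 = n24560 := d17_1 D28426 (iv D24560) D24559
def n28427 : Q := act 1 n24561
theorem D28427 : act 1 n24561 = n28427 := rfl
theorem F60545 : act 2 n28427 = n24566 := d6_2 D24561 D28427 (iv D24566) (iv D20207) (iv F38286)
theorem F60546 : act 6 n28350 = n28427 := d14_0 F60545 F49844 D28350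
def n28428 : Q := act 6 n24561
theorem D28428 : act 6 n24561 = n28428 := rfl
theorem F60547 : act 2 n28428 = n24564 := d14_1 D28428 (iv D24564) D24561
theorem F60548 : act 4 n28428 = n25363 := d19_1 D28428 F52047 (iv F51922)
theorem F60549 : act 5 n28428 = n25361 := d22_2 F52037 D28428 (iv D25361) (iv F52034)
def n28429 : Q := act 6 n24562
theorem D28429 : act 6 n24562 = n28429 := rfl
theorem F60550 : act 2 n28429 = n25363 := d14_1 D28429 F52047 F51921
theorem F60551 : act 3 n28429 = n24975 := d17_1 D28429 (iv D24975) (iv F49832)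
theorem F60552 : act 4 n28429 = n24564 := d19_1 D28429 (iv D24564) D24562
theorem F60553 : act 5 n28429 = n25360 := d22_2 F49833 D28429 (iv D25360) (iv F40906)
def n28430 : Q := act 6 n24563
theorem D28430 : act 6 n24563 = n28430 := rfl
theorem F60554 : act 0 n28430 = n28417 := d5_1 D28430 (iv D28417) (iv F49834)
theorem F60555 : act 3 n28430 = n24565 := d17_1 D28430 (iv D24565) (iv F49836)
theorem F60556 : act 4 n28430 = n25381 := d19_1 D28430 (iv D25381) (iv F49837)
theorem F60557 : act 5 n28430 = n28426 := d20_1 D28430 (iv D28426) F49827 D28417 F60517 (iv D24564) D24563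
def n28431 : Q := act 4 n24566
theorem D28431 : act 4 n24566 = n28431 := rfl
theorem F60558 : act 1 n28431 = n24567 := d8_1 D28431 (iv D24567) D24566
theorem F60559 : act 6 n28431 = n28351 := d19_2 (iv F49844) D28431 (iv D28351)
def n28432 : Q := act 6 n24568
theorem D28432 : act 6 n24568 = n28432 := rfl
theorem F60560 : act 0 n28432 = n24571 := d5_1 D28432 (iv D24571) D24568
theorem F60561 : act 5 n28432 = n27887 := d22_2 F50651 D28432 (iv D27887) (iv F50652)
def n28433 : Q := act 6 n24569
theorem D28433 : act 6 n24569 = n28433 := rfl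
theorem F60562 : act 2 n28433 = n25886 := d14_1 D28433 (iv D25886) (iv F49851)
theorem F60563 : act 3 n28433 = n24571 := d17_1 D28433 (iv D24571) D24569
theorem F60564 : act 4 n28433 = n25885 := d19_1 D28433 (iv D25885) F49852
theorem F60565 : act 5 n28433 = n26126 := d22_2 (iv F49850) D28433 (iv F57012) F57007
def n28434 : Q := act 6 n24570
theorem D28434 : act 6 n24570 = n28434 := rfl
theorem F60566 : act 4 n28434 = n24571 := d19_1 D28434 (iv D24571) D24570
def n28435 : Q := act 1 n24571
theorem D28435 : act 1 n24571 = n28435 := rfl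
theorem F60567 : act 6 n28435 = n24575 := d10_2 D24571 D28435 (iv D24575) (iv D20212) D20209
def n28436 : Q := act 5 n24571
theorem D28436 : act 5 n24571 = n28436 := rfl
theorem F60568 : act 0 n28436 = n27887 := d4_1 D28436 (iv F60561) F60560
theorem F60569 : act 2 n28436 = n28432 := d13_1 D28436 F60561 F58960
theorem F60570 : act 3 n28436 = n26126 := d16_1 D28436 (iv F60565) F60563
theorem F60571 : act 6 n28436 = n24920 := d20_2 D24571 D28436 F50651 D28432 F60561 (iv D27887) F48278
def n28437 : Q := act 1 n24572
theorem D28437 : act 1 n24572 = n28437 := rfl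
theorem F60572 : act 3 n28437 = n24575 := d7_2 (iv F49856) D28437 (iv D24575)
def n28438 : Q := act 6 n24573
theorem D28438 : act 6 n24573 = n28438 := rfl
theorem F60573 : act 2 n28438 = n25298 := d14_1 D28438 F57302 F57299
theorem F60574 : act 3 n28438 = n24574 := d17_1 D28438 (iv D24574) D24573
def n28439 : Q := act 1 n24574
theorem D28439 : act 1 n24574 = n28439 := rfl
theorem F60575 : act 4 n28439 = n24575 := d8_2 (iv F49860) D28439 (iv D24575)
def n28440 : Q := act 0 n24575
theorem D28440 : act 0 n24575 = n28440 := rfl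
def n28441 : Q := act 2 n24575
theorem D28441 : act 2 n24575 = n28441 := rfl
theorem F60576 : act 1 n28441 = n24578 := d6_1 D28441 (iv D24578) (iv D20214) (iv F38303) D24575
def n28442 : Q := act 5 n24575
theorem D28442 : act 5 n24575 = n28442 := rfl
def n28443 : Q := act 0 n24576
theorem D28443 : act 0 n24576 = n28443 := rfl
theorem F60577 : act 3 n28443 = n24976 := d2_2 (iv F49861) D28443 (iv D24976)
theorem F60578 : act 4 n28443 = n24577 := d3_2 (iv F49862) D28443 (iv D24577)
theorem F60579 : act 1 n27124 = n28443 := d7_3 F60577 (iv F50812) (iv F56760)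
def n28444 : Q := act 2 n24576
theorem D28444 : act 2 n24576 = n28444 := rfl
theorem F60580 : act 4 n28444 = n24578 := d12_2 (iv F49862) D28444 (iv D24578)
theorem F60581 : act 3 n28444 = n24578 := d21_1 D28444 (iv D24578) F38306 D20216 (iv F44675) (iv F50810) (iv F60577) (iv D28443)
def n28445 : Q := act 1 n24577
theorem D28445 : act 1 n24577 = n28445 := rfl
theorem F60582 : act 3 n28445 = n24580 := d7_2 (iv F49863) D28445 (iv D24580)
theorem F60583 : act 4 n28445 = n27124 := d8_2 F60578 D28445 F60579
theorem F60584 : act 6 n26144 = n28445 := d19_0 F60583 (iv D27124) (iv F53809)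
def n28446 : Q := act 2 n24577
theorem D28446 : act 2 n24577 = n28446 := rfl
theorem F60585 : act 0 n28446 = n24578 := d1_1 D28446 (iv D24578) D24577
def n28447 : Q := act 5 n24577
theorem D28447 : act 5 n24577 = n28447 := rfl
theorem F60586 : act 0 n28447 = n24579 := d4_1 D28447 (iv D24579) D24577
theorem F60587 : act 3 n28447 = n24582 := d16_1 D28447 (iv D24582) (iv F49863)
theorem F60588 : act 6 n28447 = n27894 := d22_1 D28447 (iv D27894) F48285 D24577
def n28448 : Q := act 5 n24578
theorem D28448 : act 5 n24578 = n28448 := rfl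
theorem F60589 : act 2 n28448 = n24579 := d13_1 D28448 (iv D24579) D24578
def n28449 : Q := act 6 n24579
theorem D28449 : act 6 n24579 = n28449 := rfl
theorem F60590 : act 0 n28449 = n27894 := d5_1 D28449 (iv F60588) F60586
theorem F60591 : act 3 n28449 = n24584 := d17_1 D28449 (iv D24584) (iv F49864)
theorem F60592 : act 5 n28449 = n27892 := d20_1 D28449 F58970 D28447 F60588 (iv D27894) F48285 D24579
def n28450 : Q := act 1 n24582
theorem D28450 : act 1 n24582 = n28450 := rfl
theorem F60593 : act 0 n28450 = n24828 := d0_1 D28450 F50460 (iv F50942) (iv F54241) F54240 F54237 F50213 F38530 (iv F49872)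
theorem F60594 : act 2 n28450 = n25256 := d6_2 (iv F49873) D28450 F51783 F40485 (iv F44664)
theorem F60595 : act 4 n28450 = n24977 := d8_2 (iv F49874) D28450 (iv D24977)
theorem F60596 : act 5 n28450 = n28277 := d9_2 D24582 D28450 F60136 F56819 (iv D24580)
theorem F60597 : act 6 n28450 = n24827 := d10_2 (iv F49875) D28450 F59147 (iv D27957) F48478
def n28451 : Q := act 6 n24583
theorem D28451 : act 6 n24583 = n28451 := rfl
theorem F60598 : act 0 n28451 = n26932 := d5_1 D28451 F56120 (iv F49876)
theorem F60599 : act 2 n28451 = n24584 := d14_1 D28451 (iv D24584) (iv F49877)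
theorem F60600 : act 3 n28451 = n26956 := d17_1 D28451 F56218 (iv F49878)
theorem F60601 : act 4 n28451 = n24978 := d19_1 D28451 (iv D24978) (iv F49879)
theorem F60602 : act 5 n28451 = n27895 := d20_1 D28451 F58976 (iv F49871) (iv F56120) F56119 F48290 D24583
def n28452 : Q := act 3 n24585
theorem D28452 : act 3 n24585 = n28452 := rfl
theorem F60603 : act 0 n28452 = n25329 := d2_1 D28452 (iv D25329) (iv F49884)
theorem F60604 : act 4 n28452 = n26655 := d15_2 (iv F49885) D28452 (iv D26655) (iv D22216) F39632
theorem F60605 : act 5 n28452 = n25330 := d16_2 (iv F49886) D28452 (iv D25330)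
theorem F60606 : act 6 n28452 = n26406 := d17_2 (iv F49887) D28452 F54437
def n28453 : Q := act 5 n24586
theorem D28453 : act 5 n24586 = n28453 := rfl
theorem F60607 : act 0 n28453 = n26914 := d4_1 D28453 (iv D26914) F49889
theorem F60608 : act 3 n28453 = n26885 := d16_1 D28453 (iv F55945) F51791
theorem F60609 : act 4 n28453 = n24979 := d18_1 D28453 (iv D24979) (iv F49888)
theorem F60610 : act 6 n28453 = n26884 := d22_1 D28453 F55941 F50401 F49889
def n28454 : Q := act 2 n24587
theorem D28454 : act 2 n24587 = n28454 := rfl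
theorem F60611 : act 0 n28454 = n24588 := d1_1 D28454 (iv D24588) (iv F49890)
theorem F60612 : act 1 n28454 = n25037 := d6_1 D28454 F51026 (iv F55947) F55948 (iv F51793)
theorem F60613 : act 4 n28454 = n25039 := d12_2 (iv F49891) D28454 F51033
theorem F60614 : act 6 n28454 = n24596 := d14_2 (iv F49892) D28454 (iv D24596)
theorem F60615 : act 3 n28454 = n28367 := d21_1 D28454 (iv D28367) (iv D24518) (iv D20170) F26037 D14983 D20220 (iv F49890)
def n28455 : Q := act 3 n24588
theorem D28455 : act 3 n24588 = n28455 := rfl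
theorem F60616 : act 0 n28455 = n28367 := d2_1 D28455 (iv F60615) F60611
theorem F60617 : act 1 n28455 = n27101 := d7_1 D28455 F56690 F49895
theorem F60618 : act 2 n28455 = n28366 := d11_1 D28455 (iv D28366) (iv D24517) F38202 D20219 D24587 D28454 F60615 (iv D28367) (iv D24518) (iv D20170) F26037 D14983 D20220 D24588
theorem F60619 : act 6 n28455 = n24599 := d17_2 (iv F49894) D28455 (iv D24599)
def n28456 : Q := act 5 n24588
theorem D28456 : act 5 n24588 = n28456 := rfl
theorem F60620 : act 2 n28456 = n24589 := d13_1 D28456 (iv D24589) D24588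
theorem F60621 : act 4 n28456 = n27153 := d18_1 D28456 (iv D27153) (iv F49893)
def n28457 : Q := act 1 n24589
theorem D28457 : act 1 n24589 = n28457 := rfl
theorem F60622 : act 3 n28457 = n24590 := d7_2 (iv F49896) D28457 (iv D24590)
theorem F60623 : act 4 n28457 = n26715 := d8_2 F56054 D28457 (iv F56052)
theorem F60624 : act 5 n28457 = n26959 := d9_2 D24589 D28457 F56226 F44721 F44674
theorem F60625 : act 0 n28457 = n26712 := d23_3 D28456 F60620 D28457 F55375 (iv F47981) (iv D23404) F33946 F33945 (iv F41180) F41179 (iv F32207) (iv F41942) F41940 D22854 (iv F51156) F51160 (iv F51026) (iv F60612) F60611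
theorem F60626 : act 2 n26711 = n28457 := d23_1 F57938 (iv D28457) (iv F49934) F49936 D28454 F60612 (iv D25037) D25038 F51030 (iv D22854) (iv F32284) F32286 (iv F32206) (iv F41179) F41178 D23394 F46558 D23404 D27559
def n28458 : Q := act 3 n24591
theorem D28458 : act 3 n24591 = n28458 := rfl
theorem F60627 : act 1 n28458 = n24592 := d7_1 D28458 (iv D24592) D24591
theorem F60628 : act 4 n28458 = n24647 := d15_2 (iv F49902) D28458 (iv D24647) F38386 (iv F39553)
theorem F60629 : act 6 n28458 = n25878 := d17_2 (iv F49903) D28458 F53116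
def n28459 : Q := act 2 n24592
theorem D28459 : act 2 n24592 = n28459 := rfl
theorem F60630 : act 5 n28459 = n26116 := d13_2 (iv F49904) D28459 F53718
def n28460 : Q := act 4 n24592
theorem D28460 : act 4 n24592 = n28460 := rfl
theorem F60631 : act 1 n28460 = n24647 := d8_1 D28460 (iv F60628) F60627
theorem F60632 : act 3 n28460 = n24646 := d15_1 D28460 F50038 (iv D20521) (iv F38320) D24592
theorem F60633 : act 5 n28460 = n26117 := d18_2 (iv F49904) D28460 F53720
def n28461 : Q := act 1 n24593
theorem D28461 : act 1 n24593 = n28461 := rfl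
theorem F60634 : act 3 n28461 = n28197 := d7_2 (iv F49905) D28461 F59836
theorem F60635 : act 4 n28461 = n24981 := d8_2 (iv F49906) D28461 (iv D24981)
theorem F60636 : act 5 n28461 = n27909 := d9_2 F54912 D28461 (iv D27909) F48325 (iv F54910)
def n28462 : Q := act 6 n24593
theorem D28462 : act 6 n24593 = n28462 := rfl
theorem F60637 : act 0 n28462 = n24595 := d5_1 D28462 (iv D24595) D24593
theorem F60638 : act 2 n28462 = n26591 := d14_1 D28462 F54998 F54915
theorem F60639 : act 3 n28462 = n28192 := d17_1 D28462 F59822 (iv F49905)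
theorem F60640 : act 4 n28462 = n24982 := d19_1 D28462 (iv D24982) (iv F49906)
theorem F60641 : act 5 n28462 = n26056 := d20_1 D28462 (iv F53571) (iv D24594) D24595 (iv F49912) (iv F54913) F54912
theorem F60642 : act 1 n26053 = n28462 := d9_5 F60641 (iv D26056) (iv D21632) (iv F41875) D26053
def n28463 : Q := act 1 n24594
theorem D28463 : act 1 n24594 = n28463 := rfl
theorem F60643 : act 0 n28463 = n26858 := d0_1 D28463 F55858 (iv F56406) (iv F58974) F58973 F48288 (iv F48296) (iv F54910) F54909
theorem F60644 : act 2 n28463 = n25581 := d6_2 F54906 D28463 F52515 (iv F53728) (iv F54905)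
theorem F60645 : act 3 n28463 = n28203 := d7_2 (iv F49907) D28463 (iv D28203)
theorem F60646 : act 4 n28463 = n24983 := d8_2 (iv F49908) D28463 (iv D24983)
theorem F60647 : act 5 n28463 = n24598 := d9_2 D24594 D28463 (iv D24598) (iv D20225) D20223
theorem F60648 : act 6 n28463 = n25600 := d10_2 (iv F53571) D28463 F52556 (iv F41888) D26056
def n28464 : Q := act 5 n24596
theorem D28464 : act 5 n24596 = n28464 := rfl
theorem F60649 : act 0 n28464 = n24600 := d4_1 D28464 (iv D24600) (iv F49913)
theorem F60650 : act 2 n28464 = n24597 := d13_1 D28464 (iv D24597) D24596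
theorem F60651 : act 3 n28464 = n28380 := d16_1 D28464 (iv D28380) (iv F49915)
theorem F60652 : act 4 n28464 = n26659 := d18_1 D28464 F55210 (iv F49914)
theorem F60653 : act 6 n28464 = n28456 := d22_1 D28464 (iv D28456) F49894 (iv F49913)
def n28465 : Q := act 6 n24598
theorem D28465 : act 6 n24598 = n28465 := rfl
theorem F60654 : act 0 n28465 = n26859 := d5_1 D28465 (iv D26859) (iv F49921)
theorem F60655 : act 1 n28465 = n27861 := d10_1 D28465 F58873 (iv D24590) (iv F38327) D24598
theorem F60656 : act 2 n28465 = n25574 := d14_1 D28465 F52498 (iv F49922)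
theorem F60657 : act 4 n28465 = n24984 := d19_1 D28465 (iv D24984) (iv F49923)
def n28466 : Q := act 5 n24599
theorem D28466 : act 5 n24599 = n28466 := rfl
theorem F60658 : act 0 n28466 = n28380 := d4_1 D28466 (iv D28380) (iv F49924)
theorem F60659 : act 1 n28466 = n24938 := d9_1 D28466 (iv D24938) (iv F45193) (iv F45385) (iv F49925)
theorem F60660 : act 2 n28466 = n28378 := d13_1 D28466 (iv D28378) (iv F49926)
theorem F60661 : act 3 n28466 = n24600 := d16_1 D28466 (iv D24600) D24599
theorem F60662 : act 4 n28466 = n24939 := d18_1 D28466 (iv F56873) F56872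
def n28467 : Q := act 6 n24600
theorem D28467 : act 6 n24600 = n28467 := rfl
theorem F60663 : act 0 n28467 = n28456 := d5_1 D28467 (iv F60653) F60649
theorem F60664 : act 2 n28467 = n24602 := d14_1 D28467 (iv D24602) (iv F49928)
theorem F60665 : act 4 n28467 = n26756 := d19_1 D28467 (iv D26756) (iv F49929)
theorem F60666 : act 5 n28467 = n28454 := d20_1 D28467 F60614 D28464 F60653 (iv D28456) F49894 D24600
def n28468 : Q := act 1 n24602
theorem D28468 : act 1 n24602 = n28468 := rfl
theorem F60667 : act 0 n28468 = n28468 := d0_1 D28468 (iv D28468) F49934 D28457 F60625 F55373 (iv F60625) (iv D28457) (iv F49934)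
theorem F60668 : act 3 n28468 = n24603 := d7_2 (iv F49935) D28468 (iv D24603)
def n28469 : Q := act 5 n24603
theorem D28469 : act 5 n24603 = n28469 := rfl
theorem F60669 : act 0 n28469 = n28469 := d4_1 D28469 (iv D28469) F49937
theorem F60670 : act 1 n28469 = n28453 := d9_1 D28469 (iv D28453) (iv D24586) (iv F38333) D24603
theorem F60671 : act 4 n28469 = n24986 := d18_1 D28469 (iv D24986) (iv F49938)
def n28470 : Q := act 2 n24604
theorem D28470 : act 2 n24604 = n28470 := rfl
theorem F60672 : act 0 n28470 = n24607 := d1_1 D28470 (iv D24607) (iv F49939)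
theorem F60673 : act 1 n28470 = n24857 := d6_1 D28470 F50518 F46572 F46569 (iv F49940)
theorem F60674 : act 4 n28470 = n24855 := d12_2 (iv F49941) D28470 F50514
theorem F60675 : act 3 n28470 = n28387 := d21_1 D28470 (iv D28387) (iv D24529) (iv D20178) F26046 D14992 D20232 (iv F49939)
def n28471 : Q := act 5 n24605
theorem D28471 : act 5 n24605 = n28471 := rfl
theorem F60676 : act 2 n28471 = n25371 := d13_1 D28471 (iv D25371) F49944
theorem F60677 : act 3 n28471 = n24606 := d16_1 D28471 (iv D24606) D24605
theorem F60678 : act 4 n28471 = n25370 := d18_1 D28471 (iv D25370) (iv F49943)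
theorem F60679 : act 6 n28471 = n24618 := d22_1 D28471 (iv D24618) D24619 F49972
def n28472 : Q := act 1 n24606
theorem D28472 : act 1 n24606 = n28472 := rfl
theorem F60680 : act 0 n28472 = n24884 := d0_1 D28472 (iv D24884) F38758 (iv F49559) (iv F60163) F60164 F53885 F53619 F49976
theorem F60681 : act 2 n28472 = n26884 := d6_2 (iv F49945) D28472 F55939 F50388 F38646
theorem F60682 : act 4 n28472 = n24988 := d8_2 (iv F49946) D28472 (iv D24988)
theorem F60683 : act 5 n28472 = n24611 := d9_2 D24606 D28472 (iv D24611) (iv D20233) D20231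
def n28473 : Q := act 1 n24607
theorem D28473 : act 1 n24607 = n28473 := rfl
theorem F60684 : act 2 n28473 = n25354 := d6_2 D24607 D28473 F52028 F49944 F49942
theorem F60685 : act 4 n28473 = n25340 := d8_2 (iv F56916) D28473 (iv F56913)
theorem F60686 : act 6 n28473 = n25354 := d10_2 F56989 D28473 F52028 (iv F51956) (iv F56987)
def n28474 : Q := act 3 n24607
theorem D28474 : act 3 n24607 = n28474 := rfl
theorem F60687 : act 0 n28474 = n28387 := d2_1 D28474 (iv F60675) F60672
theorem F60688 : act 2 n28474 = n27942 := d11_1 D28474 (iv D27942) F48433 F37134 D20230 D24604 D28470 F60675 (iv D28387) (iv D24529) (iv D20178) F26046 D14992 D20232 D24607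
theorem F60689 : act 4 n28474 = n28242 := d15_2 (iv F56916) D28474 (iv D28242) F49254 D27169
def n28475 : Q := act 5 n24607
theorem D28475 : act 5 n24607 = n28475 := rfl
theorem F60690 : act 2 n28475 = n24609 := d13_1 D28475 (iv D24609) D24607
def n28476 : Q := act 5 n24608
theorem D28476 : act 5 n24608 = n28476 := rfl
theorem F60691 : act 0 n28476 = n27093 := d4_1 D28476 (iv D27093) (iv F49948)
theorem F60692 : act 3 n28476 = n24989 := d16_1 D28476 (iv D24989) (iv F49950)
theorem F60693 : act 4 n28476 = n24609 := d18_1 D28476 (iv D24609) D24608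
theorem F60694 : act 6 n28476 = n28280 := d22_1 D28476 (iv D28280) F49510 (iv F49948)
def n28477 : Q := act 1 n24609
theorem D28477 : act 1 n24609 = n28477 := rfl
theorem F60695 : act 3 n28477 = n24611 := d7_2 (iv F49951) D28477 (iv D24611)
theorem F60696 : act 0 n26423 = n28477 := d2_3 F60695 (iv F49954) (iv F54475)
def n28478 : Q := act 6 n24609
theorem D28478 : act 6 n24609 = n28478 := rfl
theorem F60697 : act 3 n28478 = n24612 := d17_1 D28478 (iv D24612) (iv F49951)
theorem F60698 : act 4 n28478 = n28280 := d19_1 D28478 (iv F60694) F60693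
theorem F60699 : act 5 n28478 = n24940 := d22_2 D24609 D28478 F50707 F49939
def n28479 : Q := act 5 n24610
theorem D28479 : act 5 n24610 = n28479 := rfl
theorem F60700 : act 0 n28479 = n28478 := d4_1 D28479 F60699 (iv F50708)
theorem F60701 : act 3 n28479 = n24613 := d16_1 D28479 (iv D24613) (iv F49952)
theorem F60702 : act 6 n28479 = n25835 := d20_2 D24610 D28479 F53028 (iv F50707) (iv F60699) (iv D28478) (iv D24609)
theorem F60703 : act 1 n28479 = n27940 := d24_2 D24610 D28479 F59095 (iv D24891) (iv D20432) D20434 F38771 D24785 F50360 D24788 F50366 (iv F60679) (iv D28471) F49942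
def n28480 : Q := act 5 n24614
theorem D28480 : act 5 n24614 = n28480 := rfl
theorem F60704 : act 0 n28480 = n24618 := d4_1 D28480 (iv D24618) (iv F49963)
theorem F60705 : act 1 n28480 = n26236 := d9_1 D28480 F54068 (iv F54056) (iv F53575) F53573
theorem F60706 : act 3 n28480 = n24615 := d16_1 D28480 (iv D24615) D24614
def n28481 : Q := act 1 n24616
theorem D28481 : act 1 n24616 = n28481 := rfl
theorem F60707 : act 2 n28481 = n24621 := d6_2 D24616 D28481 (iv D24621) (iv D20241) (iv F38352)
theorem F60708 : act 5 n28356 = n28481 := d13_0 F60707 F49981 D28356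
def n28482 : Q := act 5 n24616
theorem D28482 : act 5 n24616 = n28482 := rfl
theorem F60709 : act 2 n28482 = n24618 := d13_1 D28482 (iv D24618) D24616
theorem F60710 : act 4 n28482 = n25373 := d18_1 D28482 F52062 (iv F51949)
theorem F60711 : act 6 n28482 = n25371 := d22_1 D28482 (iv D25371) (iv F51956) F51954
def n28483 : Q := act 5 n24617
theorem D28483 : act 5 n24617 = n28483 := rfl
theorem F60712 : act 2 n28483 = n25373 := d13_1 D28483 F52062 F51948
theorem F60713 : act 3 n28483 = n24994 := d16_1 D28483 (iv D24994) (iv F49969)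
theorem F60714 : act 4 n28483 = n24618 := d18_1 D28483 (iv D24618) D24617
theorem F60715 : act 6 n28483 = n25370 := d22_1 D28483 (iv D25370) (iv F51952) F51950
def n28484 : Q := act 5 n24619
theorem D28484 : act 5 n24619 = n28484 := rfl
theorem F60716 : act 0 n28484 = n28471 := d4_1 D28484 (iv D28471) (iv F49972)
theorem F60717 : act 3 n28484 = n24620 := d16_1 D28484 (iv D24620) (iv F49974)
theorem F60718 : act 4 n28484 = n25393 := d18_1 D28484 (iv D25393) (iv F49975)
theorem F60719 : act 6 n28484 = n28480 := d20_2 D24619 D28484 (iv D28480) F49964 D28471 F60679 (iv D24618)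
def n28485 : Q := act 4 n24621
theorem D28485 : act 4 n24621 = n28485 := rfl
theorem F60720 : act 1 n28485 = n24622 := d8_1 D28485 (iv D24622) D24621
theorem F60721 : act 5 n28485 = n28357 := d18_2 (iv F49981) D28485 (iv D28357)
def n28486 : Q := act 5 n24623
theorem D28486 : act 5 n24623 = n28486 := rfl
theorem F60722 : act 0 n28486 = n24626 := d4_1 D28486 (iv D24626) D24623
theorem F60723 : act 6 n28486 = n27915 := d22_1 D28486 (iv D27915) F48345 D24623
def n28487 : Q := act 5 n24624
theorem D28487 : act 5 n24624 = n28487 := rfl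
theorem F60724 : act 2 n28487 = n25888 := d13_1 D28487 (iv F53153) (iv F49987)
theorem F60725 : act 3 n28487 = n24626 := d16_1 D28487 (iv D24626) D24624
theorem F60726 : act 4 n28487 = n26123 := d18_1 D28487 (iv D26123) F49988
theorem F60727 : act 6 n28487 = n25891 := d22_1 D28487 (iv F57041) F57042 F50714
def n28488 : Q := act 5 n24625
theorem D28488 : act 5 n24625 = n28488 := rfl
theorem F60728 : act 4 n28488 = n24626 := d18_1 D28488 (iv D24626) D24625
def n28489 : Q := act 1 n24626
theorem D28489 : act 1 n24626 = n28489 := rfl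
theorem F60729 : act 5 n28489 = n24630 := d9_2 D24626 D28489 (iv D24630) (iv D20246) D20243
def n28490 : Q := act 6 n24626
theorem D28490 : act 6 n24626 = n28490 := rfl
theorem F60730 : act 0 n28490 = n27915 := d5_1 D28490 (iv F60723) F60722
theorem F60731 : act 2 n28490 = n28486 := d14_1 D28490 F60723 F59031
theorem F60732 : act 3 n28490 = n25891 := d17_1 D28490 (iv F60727) F60725
theorem F60733 : act 5 n28490 = n24951 := d20_1 D28490 F50733 D28486 F60723 (iv D27915) F48345 D24626
def n28491 : Q := act 1 n24627
theorem D28491 : act 1 n24627 = n28491 := rfl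
theorem F60734 : act 3 n28491 = n24630 := d7_2 (iv F49992) D28491 (iv D24630)
def n28492 : Q := act 5 n24628
theorem D28492 : act 5 n24628 = n28492 := rfl
theorem F60735 : act 2 n28492 = n25299 := d13_1 D28492 F57544 F57542
theorem F60736 : act 3 n28492 = n24629 := d16_1 D28492 (iv D24629) D24628
def n28493 : Q := act 1 n24629
theorem D28493 : act 1 n24629 = n28493 := rfl
theorem F60737 : act 4 n28493 = n24630 := d8_2 (iv F49996) D28493 (iv D24630)
def n28494 : Q := act 0 n24630
theorem D28494 : act 0 n24630 = n28494 := rfl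
def n28495 : Q := act 2 n24630
theorem D28495 : act 2 n24630 = n28495 := rfl
theorem F60738 : act 1 n28495 = n24633 := d6_1 D28495 (iv D24633) (iv D20248) (iv F38369) D24630
def n28496 : Q := act 6 n24630
theorem D28496 : act 6 n24630 = n28496 := rfl
def n28497 : Q := act 0 n24631
theorem D28497 : act 0 n24631 = n28497 := rfl
theorem F60739 : act 1 n28497 = n27131 := d0_2 D24631 D28497 F56777 (iv F60617) F60616 F60381 (iv F50353) (iv D24780) F38631
theorem F60740 : act 3 n28497 = n24995 := d2_2 (iv F49997) D28497 (iv D24995)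
theorem F60741 : act 4 n28497 = n24632 := d3_2 (iv F49998) D28497 (iv D24632)
def n28498 : Q := act 2 n24631
theorem D28498 : act 2 n24631 = n28498 := rfl
theorem F60742 : act 4 n28498 = n24633 := d12_2 (iv F49998) D28498 (iv D24633)
theorem F60743 : act 3 n28498 = n24633 := d21_1 D28498 (iv D24633) F38372 D20250 (iv F44549) (iv F50873) (iv F60740) (iv D28497)
def n28499 : Q := act 1 n24632
theorem D28499 : act 1 n24632 = n28499 := rfl
theorem F60744 : act 3 n28499 = n24635 := d7_2 (iv F49999) D28499 (iv D24635)
theorem F60745 : act 4 n28499 = n27131 := d8_2 F60741 D28499 (iv F60739)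
theorem F60746 : act 5 n25909 = n28499 := d18_0 F60745 (iv D27131) (iv F53220)
def n28500 : Q := act 2 n24632
theorem D28500 : act 2 n24632 = n28500 := rfl
theorem F60747 : act 0 n28500 = n24633 := d1_1 D28500 (iv D24633) D24632
def n28501 : Q := act 6 n24632
theorem D28501 : act 6 n24632 = n28501 := rfl
theorem F60748 : act 0 n28501 = n24634 := d5_1 D28501 (iv D24634) D24632
theorem F60749 : act 3 n28501 = n24637 := d17_1 D28501 (iv D24637) (iv F49999)
theorem F60750 : act 5 n28501 = n27922 := d22_2 F59041 D28501 (iv D27922) D27920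
def n28502 : Q := act 6 n24633
theorem D28502 : act 6 n24633 = n28502 := rfl
theorem F60751 : act 2 n28502 = n24634 := d14_1 D28502 (iv D24634) D24633
def n28503 : Q := act 5 n24634
theorem D28503 : act 5 n24634 = n28503 := rfl
theorem F60752 : act 0 n28503 = n27922 := d4_1 D28503 (iv F60750) F60748
theorem F60753 : act 3 n28503 = n24639 := d16_1 D28503 (iv D24639) (iv F50000)
theorem F60754 : act 6 n28503 = n27920 := d20_2 D24634 D28503 F59041 D28501 F60750 (iv D27922) F48352
def n28504 : Q := act 1 n24637
theorem D28504 : act 1 n24637 = n28504 := rfl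
theorem F60755 : act 0 n28504 = n24880 := d0_1 D28504 F50562 (iv F51019) (iv F54408) (iv F54417) F54418 F50319 F38611 (iv F50008)
theorem F60756 : act 2 n28504 = n25208 := d6_2 (iv F50009) D28504 F51619 F40251 (iv F44539)
theorem F60757 : act 4 n28504 = n24996 := d8_2 (iv F50010) D28504 (iv D24996)
theorem F60758 : act 5 n28504 = n24879 := d9_2 (iv F50011) D28504 F59363 (iv D28029) F48604
theorem F60759 : act 6 n28504 = n28287 := d10_2 D24637 D28504 F60178 F56855 (iv D24635)
def n28505 : Q := act 5 n24638
theorem D28505 : act 5 n24638 = n28505 := rfl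
theorem F60760 : act 0 n28505 = n26927 := d4_1 D28505 F56093 (iv F50012)
theorem F60761 : act 2 n28505 = n24639 := d13_1 D28505 (iv D24639) (iv F50013)
theorem F60762 : act 3 n28505 = n26938 := d16_1 D28505 F56149 (iv F50014)
theorem F60763 : act 4 n28505 = n24997 := d18_1 D28505 (iv D24997) (iv F50015)
theorem F60764 : act 6 n28505 = n27923 := d20_2 D24638 D28505 F59047 (iv F50007) (iv F56093) F56094 F48357
def n28506 : Q := act 3 n24640
theorem D28506 : act 3 n24640 = n28506 := rfl
theorem F60765 : act 0 n28506 = n25324 := d2_1 D28506 (iv D25324) (iv F50020)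
theorem F60766 : act 4 n28506 = n26790 := d15_2 (iv F50021) D28506 (iv D26790) (iv D22415) (iv F39610)
theorem F60767 : act 5 n28506 = n26331 := d16_2 (iv F50022) D28506 F54262
theorem F60768 : act 6 n28506 = n25325 := d17_2 (iv F50023) D28506 (iv D25325)
def n28507 : Q := act 6 n24641
theorem D28507 : act 6 n24641 = n28507 := rfl
theorem F60769 : act 0 n28507 = n26891 := d5_1 D28507 (iv D26891) F50025
theorem F60770 : act 3 n28507 = n26850 := d17_1 D28507 F55835 F51626
theorem F60771 : act 4 n28507 = n24998 := d19_1 D28507 (iv D24998) (iv F50024)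
theorem F60772 : act 5 n28507 = n26849 := d22_2 (iv F54301) D28507 F55831 (iv F54298)
def n28508 : Q := act 2 n24642
theorem D28508 : act 2 n24642 = n28508 := rfl
theorem F60773 : act 0 n28508 = n24643 := d1_1 D28508 (iv D24643) (iv F50026)
theorem F60774 : act 1 n28508 = n25016 := d6_1 D28508 F50949 (iv F55837) F55838 (iv F51628)
theorem F60775 : act 4 n28508 = n25018 := d12_2 (iv F50027) D28508 F50956
theorem F60776 : act 5 n28508 = n24651 := d13_2 (iv F50028) D28508 (iv D24651)
theorem F60777 : act 3 n28508 = n28396 := d21_1 D28508 (iv D28396) (iv D24538) (iv D20188) F26054 D15002 D20254 (iv F50026)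
def n28509 : Q := act 3 n24643
theorem D28509 : act 3 n24643 = n28509 := rfl
theorem F60778 : act 0 n28509 = n28396 := d2_1 D28509 (iv F60777) F60773
theorem F60779 : act 1 n28509 = n27075 := d7_1 D28509 F56615 F50031
theorem F60780 : act 2 n28509 = n28395 := d11_1 D28509 (iv D28395) (iv D24537) F38245 D20253 D24642 D28508 F60777 (iv D28396) (iv D24538) (iv D20188) F26054 D15002 D20254 D24643
theorem F60781 : act 5 n28509 = n24654 := d16_2 (iv F50030) D28509 (iv D24654)
def n28510 : Q := act 6 n24643
theorem D28510 : act 6 n24643 = n28510 := rfl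
theorem F60782 : act 2 n28510 = n24644 := d14_1 D28510 (iv D24644) D24643
theorem F60783 : act 4 n28510 = n27144 := d19_1 D28510 (iv D27144) (iv F50029)
def n28511 : Q := act 1 n24644
theorem D28511 : act 1 n24644 = n28511 := rfl
theorem F60784 : act 3 n28511 = n24645 := d7_2 (iv F50032) D28511 (iv D24645)
theorem F60785 : act 4 n28511 = n26559 := d8_2 F55977 D28511 (iv F55975)
theorem F60786 : act 6 n28511 = n26941 := d10_2 D24644 D28511 F56157 F44618 F44548
theorem F60787 : act 0 n26556 = n28511 := d5_3 F60786 F56156 (iv F54866)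
theorem F60788 : act 2 n26555 = n28511 := d14_3 F60786 (iv F57760) F57762
def n28512 : Q := act 2 n24647
theorem D28512 : act 2 n24647 = n28512 := rfl
theorem F60789 : act 6 n28512 = n25877 := d14_2 (iv F50040) D28512 F53115
def n28513 : Q := act 1 n24648
theorem D28513 : act 1 n24648 = n28513 := rfl
theorem F60790 : act 3 n28513 = n28209 := d7_2 (iv F50041) D28513 F59876
theorem F60791 : act 4 n28513 = n25000 := d8_2 (iv F50042) D28513 (iv D25000)
theorem F60792 : act 6 n28513 = n27937 := d10_2 F55422 D28513 (iv D27937) F48394 (iv F55419)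
def n28514 : Q := act 5 n24648
theorem D28514 : act 5 n24648 = n28514 := rfl
theorem F60793 : act 0 n28514 = n24649 := d4_1 D28514 (iv D24649) D24648
theorem F60794 : act 2 n28514 = n26573 := d13_1 D28514 (iv F55426) F55424
theorem F60795 : act 3 n28514 = n28204 := d16_1 D28514 F59861 (iv F50041)
theorem F60796 : act 4 n28514 = n25001 := d18_1 D28514 (iv D25001) (iv F50042)
theorem F60797 : act 6 n28514 = n26287 := d20_2 F55422 D28514 (iv F54162) (iv D24650) D24649 (iv F50046) (iv F55421)
theorem F60798 : act 1 n26284 = n28514 := d10_5 F60797 (iv D26287) (iv D21791) (iv F42224) D26284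
def n28515 : Q := act 1 n24650
theorem D28515 : act 1 n24650 = n28515 := rfl
theorem F60799 : act 0 n28515 = n26824 := d0_1 D28515 F55754 (iv F56383) (iv F59045) F59044 F48355 (iv F48363) (iv F55419) F55418
theorem F60800 : act 2 n28515 = n25523 := d6_2 F55415 D28515 F52382 (iv F53125) (iv F55414)
theorem F60801 : act 3 n28515 = n28215 := d7_2 (iv F50047) D28515 (iv D28215)
theorem F60802 : act 4 n28515 = n25002 := d8_2 (iv F50048) D28515 (iv D25002)
theorem F60803 : act 5 n28515 = n25542 := d9_2 (iv F54162) D28515 F52419 (iv F42237) D26287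
theorem F60804 : act 6 n28515 = n24653 := d10_2 D24650 D28515 (iv D24653) (iv D20259) D20257
def n28516 : Q := act 6 n24651
theorem D28516 : act 6 n24651 = n28516 := rfl
theorem F60805 : act 0 n28516 = n24655 := d5_1 D28516 (iv D24655) (iv F50049)
theorem F60806 : act 2 n28516 = n24652 := d14_1 D28516 (iv D24652) D24651
theorem F60807 : act 3 n28516 = n28409 := d17_1 D28516 (iv D28409) (iv F50051)
theorem F60808 : act 4 n28516 = n26609 := d19_1 D28516 F55060 (iv F50050)
theorem F60809 : act 5 n28516 = n28510 := d22_2 F60776 D28516 (iv D28510) (iv F60773)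
def n28517 : Q := act 5 n24653
theorem D28517 : act 5 n24653 = n28517 := rfl
theorem F60810 : act 0 n28517 = n26823 := d4_1 D28517 (iv D26823) (iv F50057)
theorem F60811 : act 1 n28517 = n27857 := d9_1 D28517 F58859 (iv D24645) (iv F38393) D24653
theorem F60812 : act 2 n28517 = n25516 := d13_1 D28517 F52365 (iv F50058)
theorem F60813 : act 4 n28517 = n25003 := d18_1 D28517 (iv D25003) (iv F50059)
def n28518 : Q := act 6 n24654
theorem D28518 : act 6 n24654 = n28518 := rfl
theorem F60814 : act 0 n28518 = n28409 := d5_1 D28518 (iv D28409) (iv F50060)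
theorem F60815 : act 1 n28518 = n24909 := d10_1 D28518 (iv D24909) (iv F45165) (iv F45316) (iv F50061)
theorem F60816 : act 2 n28518 = n28407 := d14_1 D28518 (iv D28407) (iv F50062)
theorem F60817 : act 3 n28518 = n24655 := d17_1 D28518 (iv D24655) D24654
theorem F60818 : act 4 n28518 = n24911 := d19_1 D28518 (iv F56838) F56837
def n28519 : Q := act 5 n24655
theorem D28519 : act 5 n24655 = n28519 := rfl
theorem F60819 : act 0 n28519 = n28510 := d4_1 D28519 (iv F60809) F60805
theorem F60820 : act 2 n28519 = n24657 := d13_1 D28519 (iv D24657) (iv F50064)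
theorem F60821 : act 4 n28519 = n26611 := d18_1 D28519 (iv D26611) (iv F50065)
theorem F60822 : act 6 n28519 = n28508 := d20_2 D24655 D28519 F60776 D28516 F60809 (iv D28510) F50030
def n28520 : Q := act 1 n24657
theorem D28520 : act 1 n24657 = n28520 := rfl
theorem F60823 : act 0 n28520 = n28520 := d0_1 D28520 (iv D28520) F50070 D28511 (iv F60787) F54864 F60787 (iv D28511) (iv F50070)
theorem F60824 : act 3 n28520 = n24658 := d7_2 (iv F50071) D28520 (iv D24658)
def n28521 : Q := act 6 n24658
theorem D28521 : act 6 n24658 = n28521 := rfl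
theorem F60825 : act 0 n28521 = n28521 := d5_1 D28521 (iv D28521) F50073
theorem F60826 : act 1 n28521 = n28507 := d10_1 D28521 (iv D28507) (iv D24641) (iv F38399) D24658
theorem F60827 : act 4 n28521 = n25005 := d19_1 D28521 (iv D25005) (iv F50074)
def n28522 : Q := act 2 n24660
theorem D28522 : act 2 n24660 = n28522 := rfl
theorem F60828 : act 0 n28522 = n24661 := d1_1 D28522 (iv D24661) D24660
theorem F60829 : act 4 n28522 = n25610 := d12_2 (iv F50079) D28522 (iv D25610)
theorem F60830 : act 6 n28522 = n25637 := d14_2 (iv F50080) D28522 (iv D25637)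
def n28523 : Q := act 3 n24661
theorem D28523 : act 3 n24661 = n28523 := rfl
theorem F60831 : act 1 n28523 = n24663 := d7_1 D28523 (iv D24663) (iv F50081)
def n28524 : Q := act 4 n24663
theorem D28524 : act 4 n24663 = n28524 := rfl
theorem F60832 : act 2 n28524 = n27987 := d12_1 D28524 F59222 (iv F50085)
theorem F60833 : act 3 n28524 = n25617 := d15_1 D28524 (iv D25617) (iv D21343) (iv F38420) D24663
theorem F60834 : act 5 n28524 = n27986 := d18_2 F50086 D28524 (iv D27986)
def n28525 : Q := act 1 n24664
theorem D28525 : act 1 n24664 = n28525 := rfl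
theorem F60835 : act 2 n28525 = n28370 := d6_2 (iv F50087) D28525 (iv D28370) F49732 (iv F38421)
theorem F60836 : act 3 n28525 = n27985 := d7_2 (iv F50088) D28525 (iv D27985)
theorem F60837 : act 4 n28525 = n25619 := d8_2 (iv F50089) D28525 (iv D25619)
def n28526 : Q := act 6 n24665
theorem D28526 : act 6 n24665 = n28526 := rfl
theorem F60838 : act 0 n28526 = n24668 := d5_1 D28526 (iv D24668) D24665
theorem F60839 : act 2 n28526 = n28526 := d14_1 D28526 (iv D28526) F50092
def n28527 : Q := act 3 n24666
theorem D28527 : act 3 n24666 = n28527 := rfl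
theorem F60840 : act 0 n28527 = n24707 := d2_1 D28527 F50195 F50096
theorem F60841 : act 1 n28527 = n24669 := d7_1 D28527 (iv D24669) (iv F50093)
theorem F60842 : act 5 n28527 = n24705 := d16_2 F50095 D28527 F50191
theorem F60843 : act 2 n28527 = n27309 := d21_2 F50094 D28527 F57313 F46093 (iv F46124) (iv F50194) F50195 F50096
def n28528 : Q := act 6 n24666
theorem D28528 : act 6 n24666 = n28528 := rfl
theorem F60844 : act 2 n28528 = n28528 := d14_1 D28528 (iv D28528) F50094
theorem F60845 : act 4 n28528 = n24668 := d19_1 D28528 (iv D24668) D24666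
theorem F60846 : act 5 n28528 = n24668 := d22_2 F50095 D28528 (iv D24668) D24665
def n28529 : Q := act 6 n24667
theorem D28529 : act 6 n24667 = n28529 := rfl
theorem F60847 : act 0 n28529 = n28528 := d5_1 D28529 (iv D28528) (iv F50096)
theorem F60848 : act 2 n28529 = n28529 := d14_1 D28529 (iv D28529) F50098
theorem F60849 : act 4 n28529 = n28526 := d19_1 D28529 (iv D28526) (iv F50099)
theorem F60850 : act 5 n28529 = n28526 := d20_1 D28529 (iv D28526) F50095 D28528 F60846 (iv D24668) D24667
def n28530 : Q := act 1 n24668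
theorem D28530 : act 1 n24668 = n28530 := rfl
theorem F60851 : act 6 n28530 = n24671 := d10_2 D24668 D28530 (iv D24671) (iv D20274) D20272
def n28531 : Q := act 6 n24669
theorem D28531 : act 6 n24669 = n28531 := rfl
theorem F60852 : act 2 n28531 = n27313 := d14_1 D28531 (iv D27313) (iv F50102)
theorem F60853 : act 3 n28531 = n24670 := d17_1 D28531 (iv D24670) D24669
def n28532 : Q := act 1 n24670
theorem D28532 : act 1 n24670 = n28532 := rfl
theorem F60854 : act 4 n28532 = n24671 := d8_2 (iv F50104) D28532 (iv D24671)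
def n28533 : Q := act 0 n24671
theorem D28533 : act 0 n24671 = n28533 := rfl
def n28534 : Q := act 2 n24671
theorem D28534 : act 2 n24671 = n28534 := rfl
theorem F60855 : act 1 n28534 = n24673 := d6_1 D28534 (iv D24673) (iv D20276) (iv F38427) D24671
def n28535 : Q := act 5 n24671
theorem D28535 : act 5 n24671 = n28535 := rfl
def n28536 : Q := act 2 n24672
theorem D28536 : act 2 n24672 = n28536 := rfl
theorem F60856 : act 0 n28536 = n25628 := d1_1 D28536 (iv D25628) F50108
theorem F60857 : act 4 n28536 = n24673 := d12_2 (iv F50106) D28536 (iv D24673)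
theorem F60858 : act 6 n28536 = n28536 := d14_2 F50107 D28536 (iv D28536)
def n28537 : Q := act 5 n24672
theorem D28537 : act 5 n24672 = n28537 := rfl
theorem F60859 : act 0 n28537 = n25629 := d4_1 D28537 (iv D25629) F50108
theorem F60860 : act 3 n28537 = n25629 := d16_1 D28537 (iv D25629) (iv F50105)
theorem F60861 : act 4 n28537 = n24674 := d18_1 D28537 (iv D24674) (iv F50106)
theorem F60862 : act 6 n28537 = n25629 := d22_1 D28537 (iv D25629) F41304 F50108
def n28538 : Q := act 3 n24673
theorem D28538 : act 3 n24673 = n28538 := rfl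
theorem F60863 : act 0 n28538 = n25630 := d2_1 D28538 (iv D25630) (iv F50109)
theorem F60864 : act 6 n28538 = n28538 := d17_2 F50110 D28538 (iv D28538)
def n28539 : Q := act 5 n24673
theorem D28539 : act 5 n24673 = n28539 := rfl
theorem F60865 : act 0 n28539 = n25631 := d4_1 D28539 (iv D25631) (iv F50109)
theorem F60866 : act 2 n28539 = n24674 := d13_1 D28539 (iv D24674) D24673
theorem F60867 : act 6 n28539 = n25631 := d22_1 D28539 (iv D25631) F41307 (iv F50109)
def n28540 : Q := act 1 n24674
theorem D28540 : act 1 n24674 = n28540 := rfl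
theorem F60868 : act 0 n28540 = n25421 := d0_1 D28540 (iv D25421) (iv D21208) (iv D16055) (iv F21446) D16176 D21361 (iv F41332) (iv F50111)
theorem F60869 : act 3 n28540 = n24676 := d7_2 (iv F50112) D28540 (iv D24676)
theorem F60870 : act 5 n28540 = n24675 := d9_2 D24674 D28540 (iv D24675) (iv D20277) D20276
theorem F60871 : act 6 n28540 = n25608 := d10_2 (iv F50113) D28540 F52642 (iv D25639) (iv F41332)
def n28541 : Q := act 0 n24675
theorem D28541 : act 0 n24675 = n28541 := rfl
theorem F60872 : act 1 n28541 = n28537 := d0_2 D24675 D28541 F60859 F52623 (iv D24677) (iv D20280) F26142 (iv F38199) (iv F38432)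
theorem F60873 : act 3 n28541 = n24677 := d2_2 (iv F50114) D28541 (iv D24677)
theorem F60874 : act 4 n28541 = n28540 := d3_2 F52194 D28541 F60868
theorem F60875 : act 5 n28541 = n25421 := d4_2 F60870 D28541 (iv F60868)
def n28542 : Q := act 2 n24675
theorem D28542 : act 2 n24675 = n28542 := rfl
def n28543 : Q := act 2 n24676
theorem D28543 : act 2 n24676 = n28543 := rfl
theorem F60876 : act 0 n28543 = n25607 := d1_1 D28543 (iv D25607) (iv F50115)
theorem F60877 : act 4 n28543 = n25637 := d12_2 (iv F50116) D28543 (iv D25637)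
theorem F60878 : act 5 n28543 = n24678 := d13_2 (iv F50117) D28543 (iv D24678)
theorem F60879 : act 6 n28543 = n25610 := d14_2 (iv F50118) D28543 (iv D25610)
def n28544 : Q := act 2 n24677
theorem D28544 : act 2 n24677 = n28544 := rfl
theorem F60880 : act 0 n28544 = n24678 := d1_1 D28544 (iv D24678) D24677
theorem F60881 : act 4 n28544 = n25638 := d12_2 (iv F50119) D28544 (iv D25638)
theorem F60882 : act 5 n28544 = n25607 := d13_2 (iv F50120) D28544 (iv D25607)
def n28545 : Q := act 1 n24679
theorem D28545 : act 1 n24679 = n28545 := rfl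
theorem F60883 : act 2 n28545 = n28362 := d6_2 (iv F50123) D28545 (iv D28362) F49701 (iv F38443)
theorem F60884 : act 4 n28545 = n25669 := d8_2 (iv F50124) D28545 (iv D25669)
def n28546 : Q := act 5 n24679
theorem D28546 : act 5 n24679 = n28546 := rfl
theorem F60885 : act 0 n28546 = n25811 := d4_1 D28546 F52964 F52236
theorem F60886 : act 2 n28546 = n24680 := d13_1 D28546 (iv D24680) (iv F50123)
theorem F60887 : act 3 n28546 = n27218 := d16_1 D28546 (iv F57058) F57057
theorem F60888 : act 4 n28546 = n25670 := d18_1 D28546 (iv D25670) (iv F50124)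
theorem F60889 : act 6 n28546 = n25809 := d20_2 D24679 D28546 F52957 (iv F52237) (iv F52964) (iv D25811) F41540
def n28547 : Q := act 2 n24682
theorem D28547 : act 2 n24682 = n28547 := rfl
theorem F60890 : act 0 n28547 = n24683 := d1_1 D28547 (iv D24683) D24682
theorem F60891 : act 4 n28547 = n25716 := d12_2 (iv F50133) D28547 (iv D25716)
theorem F60892 : act 5 n28547 = n25742 := d13_2 (iv F50134) D28547 (iv D25742)
def n28548 : Q := act 3 n24683
theorem D28548 : act 3 n24683 = n28548 := rfl
theorem F60893 : act 1 n28548 = n24685 := d7_1 D28548 (iv D24685) (iv F50135)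
def n28549 : Q := act 4 n24685
theorem D28549 : act 4 n24685 = n28549 := rfl
theorem F60894 : act 2 n28549 = n28058 := d12_1 D28549 F59438 (iv F50139)
theorem F60895 : act 3 n28549 = n25722 := d15_1 D28549 (iv D25722) (iv D21416) (iv F38466) D24685
theorem F60896 : act 6 n28549 = n28057 := d19_2 F50140 D28549 (iv D28057)
def n28550 : Q := act 1 n24686
theorem D28550 : act 1 n24686 = n28550 := rfl
theorem F60897 : act 2 n28550 = n28399 := d6_2 (iv F50141) D28550 (iv D28399) F49784 (iv F38467)
theorem F60898 : act 3 n28550 = n28056 := d7_2 (iv F50142) D28550 (iv D28056)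
theorem F60899 : act 4 n28550 = n25724 := d8_2 (iv F50143) D28550 (iv D25724)
def n28551 : Q := act 5 n24687
theorem D28551 : act 5 n24687 = n28551 := rfl
theorem F60900 : act 0 n28551 = n24689 := d4_1 D28551 (iv D24689) D24687
theorem F60901 : act 2 n28551 = n28551 := d13_1 D28551 (iv D28551) F50146
def n28552 : Q := act 3 n24688
theorem D28552 : act 3 n24688 = n28552 := rfl
theorem F60902 : act 0 n28552 = n24757 := d2_1 D28552 F50303 F50151
theorem F60903 : act 1 n28552 = n24691 := d7_1 D28552 (iv D24691) (iv F50147)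
theorem F60904 : act 6 n28552 = n24754 := d17_2 F50149 D28552 F50297
theorem F60905 : act 2 n28552 = n27401 := d21_2 F50148 D28552 F57558 F46281 (iv F46309) (iv F50302) F50303 F50151
def n28553 : Q := act 5 n24688
theorem D28553 : act 5 n24688 = n28553 := rfl
theorem F60906 : act 2 n28553 = n28553 := d13_1 D28553 (iv D28553) F50148
theorem F60907 : act 4 n28553 = n24689 := d18_1 D28553 (iv D24689) D24688
theorem F60908 : act 6 n28553 = n24689 := d22_1 D28553 (iv D24689) D24690 F50151
def n28554 : Q := act 1 n24689
theorem D28554 : act 1 n24689 = n28554 := rfl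
theorem F60909 : act 5 n28554 = n24693 := d9_2 D24689 D28554 (iv D24693) (iv D20294) D20292
def n28555 : Q := act 5 n24690
theorem D28555 : act 5 n24690 = n28555 := rfl
theorem F60910 : act 0 n28555 = n28553 := d4_1 D28555 (iv D28553) (iv F50151)
theorem F60911 : act 2 n28555 = n28555 := d13_1 D28555 (iv D28555) F50153
theorem F60912 : act 4 n28555 = n28551 := d18_1 D28555 (iv D28551) (iv F50154)
theorem F60913 : act 6 n28555 = n28551 := d20_2 D24690 D28555 (iv D28551) F50149 D28553 F60908 (iv D24689)
def n28556 : Q := act 5 n24691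
theorem D28556 : act 5 n24691 = n28556 := rfl
theorem F60914 : act 2 n28556 = n27406 := d13_1 D28556 (iv D27406) (iv F50156)
theorem F60915 : act 3 n28556 = n24692 := d16_1 D28556 (iv D24692) D24691
def n28557 : Q := act 1 n24692
theorem D28557 : act 1 n24692 = n28557 := rfl
theorem F60916 : act 4 n28557 = n24693 := d8_2 (iv F50158) D28557 (iv D24693)
def n28558 : Q := act 0 n24693
theorem D28558 : act 0 n24693 = n28558 := rfl
def n28559 : Q := act 2 n24693
theorem D28559 : act 2 n24693 = n28559 := rfl
theorem F60917 : act 1 n28559 = n24695 := d6_1 D28559 (iv D24695) (iv D20296) (iv F38473) D24693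
def n28560 : Q := act 6 n24693
theorem D28560 : act 6 n24693 = n28560 := rfl
def n28561 : Q := act 2 n24694
theorem D28561 : act 2 n24694 = n28561 := rfl
theorem F60918 : act 0 n28561 = n25733 := d1_1 D28561 (iv D25733) F50162
theorem F60919 : act 4 n28561 = n24695 := d12_2 (iv F50160) D28561 (iv D24695)
theorem F60920 : act 5 n28561 = n28561 := d13_2 F50161 D28561 (iv D28561)
def n28562 : Q := act 6 n24694
theorem D28562 : act 6 n24694 = n28562 := rfl
theorem F60921 : act 0 n28562 = n25734 := d5_1 D28562 (iv D25734) F50162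
theorem F60922 : act 3 n28562 = n25734 := d17_1 D28562 (iv D25734) (iv F50159)
theorem F60923 : act 4 n28562 = n24696 := d19_1 D28562 (iv D24696) (iv F50160)
theorem F60924 : act 5 n28562 = n25734 := d22_2 F50161 D28562 (iv D25734) F50162
def n28563 : Q := act 3 n24695
theorem D28563 : act 3 n24695 = n28563 := rfl
theorem F60925 : act 0 n28563 = n25735 := d2_1 D28563 (iv D25735) (iv F50163)
theorem F60926 : act 5 n28563 = n28563 := d16_2 F50164 D28563 (iv D28563)
def n28564 : Q := act 6 n24695
theorem D28564 : act 6 n24695 = n28564 := rfl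
theorem F60927 : act 0 n28564 = n25736 := d5_1 D28564 (iv D25736) (iv F50163)
theorem F60928 : act 2 n28564 = n24696 := d14_1 D28564 (iv D24696) D24695
theorem F60929 : act 5 n28564 = n25736 := d22_2 F50164 D28564 (iv D25736) (iv F50163)
def n28565 : Q := act 1 n24696
theorem D28565 : act 1 n24696 = n28565 := rfl
theorem F60930 : act 0 n28565 = n25455 := d0_1 D28565 (iv D25455) (iv D21232) (iv D16074) (iv F21475) D16221 D21430 F41458 (iv F50165)
theorem F60931 : act 3 n28565 = n24698 := d7_2 (iv F50166) D28565 (iv D24698)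
theorem F60932 : act 5 n28565 = n25714 := d9_2 (iv F50167) D28565 F52826 (iv D25744) F41458
theorem F60933 : act 6 n28565 = n24697 := d10_2 D24696 D28565 (iv D24697) (iv D20297) D20296
def n28566 : Q := act 0 n24697
theorem D28566 : act 0 n24697 = n28566 := rfl
theorem F60934 : act 1 n28566 = n28562 := d0_2 D24697 D28566 F60921 F52801 (iv D24699) (iv D20299) F26165 (iv F40982) (iv F38479)
theorem F60935 : act 3 n28566 = n24699 := d2_2 (iv F50168) D28566 (iv D24699)
theorem F60936 : act 4 n28566 = n28565 := d3_2 F52250 D28566 F60930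
theorem F60937 : act 6 n28566 = n25455 := d5_2 F60933 D28566 (iv F60930)
def n28567 : Q := act 2 n24697
theorem D28567 : act 2 n24697 = n28567 := rfl
def n28568 : Q := act 2 n24698
theorem D28568 : act 2 n24698 = n28568 := rfl
theorem F60938 : act 0 n28568 = n25712 := d1_1 D28568 (iv D25712) (iv F50169)
theorem F60939 : act 4 n28568 = n25742 := d12_2 (iv F50170) D28568 (iv D25742)
theorem F60940 : act 5 n28568 = n25716 := d13_2 (iv F50171) D28568 (iv D25716)
theorem F60941 : act 6 n28568 = n24700 := d14_2 (iv F50172) D28568 (iv D24700)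
def n28569 : Q := act 2 n24699
theorem D28569 : act 2 n24699 = n28569 := rfl
theorem F60942 : act 0 n28569 = n24700 := d1_1 D28569 (iv D24700) D24699
theorem F60943 : act 4 n28569 = n25743 := d12_2 (iv F50173) D28569 (iv D25743)
theorem F60944 : act 6 n28569 = n25712 := d14_2 (iv F50174) D28569 (iv D25712)
def n28570 : Q := act 1 n24701
theorem D28570 : act 1 n24701 = n28570 := rfl
theorem F60945 : act 2 n28570 = n28390 := d6_2 (iv F50177) D28570 (iv D28390) F49751 (iv F38490)
theorem F60946 : act 4 n28570 = n25773 := d8_2 (iv F50178) D28570 (iv D25773)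
def n28571 : Q := act 6 n24701
theorem D28571 : act 6 n24701 = n28571 := rfl
theorem F60947 : act 0 n28571 = n25707 := d5_1 D28571 F52740 F52292
theorem F60948 : act 2 n28571 = n24702 := d14_1 D28571 (iv D24702) (iv F50177)
theorem F60949 : act 3 n28571 = n27206 := d17_1 D28571 (iv F57028) F57027
theorem F60950 : act 4 n28571 = n25774 := d19_1 D28571 (iv D25774) (iv F50178)
theorem F60951 : act 5 n28571 = n25705 := d20_1 D28571 F52734 (iv F52293) (iv F52740) (iv D25707) F41390 D24701
def n28572 : Q := act 5 n24703
theorem D28572 : act 5 n24703 = n28572 := rfl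
theorem F60952 : act 0 n28572 = n27959 := d4_1 D28572 (iv D27959) F50186
theorem F60953 : act 3 n28572 = n24704 := d16_1 D28572 (iv D24704) (iv F50184)
def n28573 : Q := act 6 n24705
theorem D28573 : act 6 n24705 = n28573 := rfl
theorem F60954 : act 0 n28573 = n24708 := d5_1 D28573 (iv D24708) D24705
theorem F60955 : act 2 n28573 = n27310 := d14_1 D28573 (iv D27310) (iv F50190)
theorem F60956 : act 3 n28573 = n28526 := d17_1 D28573 (iv D28526) (iv F50191)
def n28574 : Q := act 3 n24706
theorem D28574 : act 3 n24706 = n28574 := rfl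
theorem F60957 : act 0 n28574 = n27882 := d2_1 D28574 F58948 F58808
theorem F60958 : act 1 n28574 = n24709 := d7_1 D28574 (iv D24709) (iv F50192)
theorem F60959 : act 2 n28574 = n27840 := d11_1 D28574 (iv D27840) (iv D23862) F36652 D19539 D23864 D27842 (iv F58948) (iv D27882) (iv D23970) F36995 (iv D19246) (iv F35624) (iv F46123) (iv F50193)
theorem F60960 : act 4 n28574 = n28527 := d15_2 D24706 D28574 (iv D28527) (iv D24666) (iv F38510)
theorem F60961 : act 5 n28574 = n27842 := d16_2 F58947 D28574 (iv F58948)
def n28575 : Q := act 6 n24706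
theorem D28575 : act 6 n24706 = n28575 := rfl
theorem F60962 : act 2 n28575 = n27321 := d14_1 D28575 (iv D27321) (iv F50193)
theorem F60963 : act 4 n28575 = n24708 := d19_1 D28575 (iv D24708) D24706
def n28576 : Q := act 6 n24707
theorem D28576 : act 6 n24707 = n28576 := rfl
theorem F60964 : act 2 n28576 = n27322 := d14_1 D28576 (iv D27322) (iv F50194)
theorem F60965 : act 3 n28576 = n28529 := d17_1 D28576 (iv D28529) (iv F50195)
theorem F60966 : act 5 n28576 = n28573 := d22_2 D24707 D28576 (iv D28573) (iv D24705)
def n28577 : Q := act 1 n24708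
theorem D28577 : act 1 n24708 = n28577 := rfl
theorem F60967 : act 3 n28577 = n28530 := d7_2 (iv F50197) D28577 (iv D28530)
theorem F60968 : act 6 n28577 = n24711 := d10_2 D24708 D28577 (iv D24711) (iv D20309) D20307
def n28578 : Q := act 5 n24708
theorem D28578 : act 5 n24708 = n28578 := rfl
theorem F60969 : act 0 n28578 = n28576 := d4_1 D28578 F60966 F60954
theorem F60970 : act 2 n28578 = n27324 := d13_1 D28578 (iv D27324) (iv F50196)
theorem F60971 : act 3 n28578 = n28528 := d16_1 D28578 F60846 (iv F50197)
theorem F60972 : act 6 n28578 = n28527 := d20_2 D24708 D28578 F60842 D28573 (iv F60966) (iv D28576) (iv D24707)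
def n28579 : Q := act 6 n24709
theorem D28579 : act 6 n24709 = n28579 := rfl
theorem F60973 : act 0 n28579 = n24723 := d5_1 D28579 (iv D24723) (iv F50198)
theorem F60974 : act 3 n28579 = n24710 := d17_1 D28579 (iv D24710) D24709
theorem F60975 : act 4 n28579 = n28531 := d19_1 D28579 (iv D28531) (iv F50199)
theorem F60976 : act 5 n28579 = n28438 := d22_2 F57319 D28579 (iv D28438) (iv F57316)
def n28580 : Q := act 1 n24710
theorem D28580 : act 1 n24710 = n28580 := rfl
theorem F60977 : act 4 n28580 = n24711 := d8_2 (iv F50202) D28580 (iv D24711)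
def n28581 : Q := act 0 n24711
theorem D28581 : act 0 n24711 = n28581 := rfl
theorem F60978 : act 3 n28581 = n28533 := d2_2 (iv F50204) D28581 (iv D28533)
def n28582 : Q := act 2 n24711
theorem D28582 : act 2 n24711 = n28582 := rfl
theorem F60979 : act 1 n28582 = n24714 := d6_1 D28582 (iv D24714) (iv D20311) (iv F38514) D24711
def n28583 : Q := act 5 n24711
theorem D28583 : act 5 n24711 = n28583 := rfl
theorem F60980 : act 1 n28583 = n28442 := d9_1 D28583 (iv D28442) (iv D24575) (iv F38516) D24711
theorem F60981 : act 3 n28583 = n28535 := d16_1 D28583 (iv D28535) (iv F50204)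
def n28584 : Q := act 0 n24712
theorem D28584 : act 0 n24712 = n28584 := rfl
theorem F60982 : act 3 n28584 = n25007 := d2_2 (iv F50205) D28584 (iv D25007)
theorem F60983 : act 4 n28584 = n24713 := d3_2 (iv F50206) D28584 (iv D24713)
theorem F60984 : act 6 n28584 = n27958 := d5_2 F58108 D28584 F59148
def n28585 : Q := act 5 n24712
theorem D28585 : act 5 n24712 = n28585 := rfl
theorem F60985 : act 1 n28585 = n26964 := d9_1 D28585 F56245 (iv D24576) (iv F38520) D24712
theorem F60986 : act 2 n28585 = n24764 := d13_1 D28585 (iv F59372) F59369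
theorem F60987 : act 3 n28585 = n25009 := d16_1 D28585 (iv D25009) (iv F50205)
theorem F60988 : act 4 n28585 = n24715 := d18_1 D28585 (iv D24715) (iv F50206)
theorem F60989 : act 6 n28585 = n24763 := d22_1 D28585 F59152 (iv F60984) (iv D28584)
def n28586 : Q := act 1 n24713
theorem D28586 : act 1 n24713 = n28586 := rfl
theorem F60990 : act 3 n28586 = n24716 := d7_2 (iv F50207) D28586 (iv D24716)
def n28587 : Q := act 2 n24713
theorem D28587 : act 2 n24713 = n28587 := rfl
theorem F60991 : act 0 n28587 = n24714 := d1_1 D28587 (iv D24714) D24713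
theorem F60992 : act 3 n28587 = n27598 := d11_2 (iv F50207) D28587 F59316 (iv D28016) (iv D24087) F38529 (iv D20313) (iv F38521) D24714 (iv F59997) F59996 (iv F53244) F53243 F48400 F38524
theorem F60993 : act 6 n28587 = n27672 := d14_2 (iv F50208) D28587 (iv F58201)
theorem F60994 : act 1 n27581 = n28587 := d10_5 F60993 (iv D27672) (iv D23478) (iv F46618) D27581
def n28588 : Q := act 5 n24713
theorem D28588 : act 5 n24713 = n28588 := rfl
theorem F60995 : act 0 n28588 = n24715 := d4_1 D28588 (iv D24715) D24713
theorem F60996 : act 3 n28588 = n24717 := d16_1 D28588 (iv D24717) (iv F50207)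
theorem F60997 : act 6 n28588 = n28572 := d20_2 (iv F50208) D28588 (iv D28572) F50185 D24715 (iv F59156) (iv D27959)
def n28589 : Q := act 5 n24714
theorem D28589 : act 5 n24714 = n28589 := rfl
theorem F60998 : act 2 n28589 = n24715 := d13_1 D28589 (iv D24715) D24714
theorem F60999 : act 3 n28589 = n25030 := d16_1 D28589 (iv F59999) F59997
theorem F61000 : act 4 n28589 = n24764 := d18_1 D28589 (iv F59372) F59371
theorem F61001 : act 6 n28589 = n24761 := d22_1 D28589 (iv F58200) (iv F60993) F60991
theorem F61002 : act 1 n28589 = n26946 := d24_2 (iv F59368) D28589 F56176 (iv F59039) (iv D27919) (iv F48599) (iv D24093) F37274 F33599 D18873 D23288 D27423 F59141 (iv F59365)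
def n28590 : Q := act 3 n24718
theorem D28590 : act 3 n24718 = n28590 := rfl
theorem F61003 : act 0 n28590 = n25296 := d2_1 D28590 F51908 (iv F50217)
theorem F61004 : act 1 n28590 = n28066 := d7_1 D28590 F59468 (iv F50218)
theorem F61005 : act 2 n28590 = n25868 := d11_1 D28590 (iv D25868) (iv D21511) (iv F41282) F41284 F33548 (iv F40646) (iv F51908) (iv F60205) F60206 F49588 (iv F44829) (iv F45877) F45878 D24718
theorem F61006 : act 5 n28590 = n25294 := d16_2 (iv F50220) D28590 (iv D25294)
theorem F61007 : act 6 n28590 = n28293 := d17_2 (iv F50221) D28590 F60206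
def n28591 : Q := act 6 n24719
theorem D28591 : act 6 n24719 = n28591 := rfl
theorem F61008 : act 0 n28591 = n28531 := d5_1 D28591 (iv D28531) (iv F50222)
theorem F61009 : act 2 n28591 = n27315 := d14_1 D28591 F57328 F57305
theorem F61010 : act 3 n28591 = n24720 := d17_1 D28591 (iv D24720) D24719
theorem F61011 : act 4 n28591 = n24723 := d19_1 D28591 (iv D24723) (iv F50224)
theorem F61012 : act 5 n28591 = n25423 := d22_2 (iv F50615) D28591 F52201 F50613
def n28592 : Q := act 1 n24720
theorem D28592 : act 1 n24720 = n28592 := rfl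
theorem F61013 : act 4 n28592 = n24721 := d8_2 (iv F50227) D28592 (iv D24721)
theorem F61014 : act 5 n28592 = n25431 := d9_2 (iv F50228) D28592 (iv D25431) (iv D21214) (iv F41012)
theorem F61015 : act 6 n28592 = n28362 := d10_2 D24720 D28592 (iv D28362) (iv D24511) (iv F38537)
def n28593 : Q := act 0 n24721
theorem D28593 : act 0 n24721 = n28593 := rfl
theorem F61016 : act 3 n28593 = n24726 := d2_2 (iv F50229) D28593 (iv D24726)
def n28594 : Q := act 2 n24721
theorem D28594 : act 2 n24721 = n28594 := rfl
theorem F61017 : act 1 n28594 = n25641 := d6_1 D28594 F52644 F41321 (iv F38540) D24721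
theorem F61018 : act 5 n28594 = n28525 := d13_2 F60390 D28594 F60835
theorem F61019 : act 6 n28594 = n25669 := d14_2 F52187 D28594 F52680
def n28595 : Q := act 6 n24722
theorem D28595 : act 6 n24722 = n28595 := rfl
theorem F61020 : act 2 n28595 = n24723 := d14_1 D28595 (iv D24723) D24722
theorem F61021 : act 3 n28595 = n24811 := d17_1 D28595 (iv D24811) (iv F50230)
theorem F61022 : act 4 n28595 = n27315 := d19_1 D28595 F57328 F57307
theorem F61023 : act 5 n28595 = n27312 := d22_2 (iv F57301) D28595 (iv D27312) (iv F57297)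
def n28596 : Q := act 1 n24723
theorem D28596 : act 1 n24723 = n28596 := rfl
theorem F61024 : act 3 n28596 = n24724 := d7_2 (iv F50232) D28596 (iv D24724)
def n28597 : Q := act 5 n24723
theorem D28597 : act 5 n24723 = n28597 := rfl
theorem F61025 : act 0 n28597 = n28438 := d4_1 D28597 (iv F60976) F60973
theorem F61026 : act 2 n28597 = n27312 := d13_1 D28597 (iv F61023) F61020
theorem F61027 : act 3 n28597 = n24725 := d16_1 D28597 (iv D24725) (iv F50232)
theorem F61028 : act 4 n28597 = n25423 := d18_1 D28597 (iv F61012) F61011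
theorem F61029 : act 6 n28597 = n27311 := d20_2 D24723 D28597 F57319 D28579 F60976 (iv D28438) F49858
theorem F61030 : act 1 n25429 = n28597 := d8_3 F61028 F52200 D25429
def n28598 : Q := act 0 n24724
theorem D28598 : act 0 n24724 = n28598 := rfl
theorem F61031 : act 4 n28598 = n24726 := d3_2 (iv F50233) D28598 (iv D24726)
def n28599 : Q := act 2 n24724
theorem D28599 : act 2 n24724 = n28599 := rfl
theorem F61032 : act 1 n28599 = n24730 := d6_1 D28599 (iv D24730) (iv D20322) (iv F38542) D24724
theorem F61033 : act 4 n28599 = n24727 := d12_2 (iv F50233) D28599 (iv D24727)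
def n28600 : Q := act 5 n24724
theorem D28600 : act 5 n24724 = n28600 := rfl
theorem F61034 : act 4 n28600 = n24728 := d18_1 D28600 (iv D24728) (iv F50233)
def n28601 : Q := act 1 n24726
theorem D28601 : act 1 n24726 = n28601 := rfl
def n28602 : Q := act 2 n24726
theorem D28602 : act 2 n24726 = n28602 := rfl
theorem F61035 : act 0 n28602 = n24727 := d1_1 D28602 (iv D24727) D24726
def n28603 : Q := act 5 n24726
theorem D28603 : act 5 n24726 = n28603 := rfl
theorem F61036 : act 0 n28603 = n24728 := d4_1 D28603 (iv D24728) D24726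
theorem F61037 : act 6 n28603 = n27965 := d22_1 D28603 (iv D27965) F48491 D24726
def n28604 : Q := act 3 n24727
theorem D28604 : act 3 n24727 = n28604 := rfl
theorem F61038 : act 1 n28604 = n24734 := d7_1 D28604 (iv D24734) (iv F50238)
def n28605 : Q := act 5 n24727
theorem D28605 : act 5 n24727 = n28605 := rfl
theorem F61039 : act 2 n28605 = n24728 := d13_1 D28605 (iv D24728) D24727
theorem F61040 : act 3 n25669 = n28605 := d25_16 (iv F11961) (iv F19277) (iv F24047) F24048 (iv F26192) D20306 (iv F50184) (iv F59366) F59367 F53378 (iv D25967) F41779 F28250 (iv F28002) (iv F41360) D25669 F61039 (iv F60388) (iv F60835) (iv D28525) F50088 (iv D24062) (iv D19744) (iv D14509) (iv D11287) F13379 (iv F13609) (iv F20166) (iv F25624) (iv F29234) (iv F35723) F31998 D19221 (iv F37838) (iv D20030) F37682 (iv F36150) F36149 F36150 (iv F37469) (iv F37727) (iv F46911) (iv F46918) (iv F49075) (iv D24291) F42897 (iv F54888) (iv F56159) F56160 F48073 (iv D23920) F36830 F25169 F19948 (iv F25169) (iv F29130) D21043 F40543 D23795 (iv F51534) (iv F56086)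 (iv D26926) (iv F50882) F50881 (iv F44598) (iv D22677) (iv F39874) F39875 F26922 (iv F26909) (iv F33241) (iv D13938) (iv F19488) (iv F35462) (iv D13925) (iv D10971) (iv D8206)
theorem F61041 : act 2 n27964 = n27985 := d21_0 (iv F60836) F60835 F60388 (iv F61039) (iv F61040) F52680 F52186 D27964
theorem F61042 : act 0 n27985 = n26342 := d1_1 F61041 F54283 D27964
theorem F61043 : act 1 n26307 = n27964 := d6_5 F61041 (iv D27985) (iv D24062) (iv F42293) (iv F54208)
theorem F61044 : act 6 n27985 = n28602 := d14_2 (iv F59165) F61041 (iv D28602)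
theorem F61045 : act 1 n28602 = n28006 := d10_1 F61044 (iv D28006) (iv D24081) (iv F48513) D27985
theorem F61046 : act 2 n26315 = n28601 := d6_4 D28602 F61045 F59289 (iv F54224) (iv D28601)
theorem F61047 : act 6 n28601 = n26303 := d14_2 D26315 F61046 F54205
theorem F61048 : act 1 n28605 = n25668 := d7_1 F61040 F52679 D25669
theorem F61049 : act 5 n28604 = n25669 := d16_0 F61040 (iv D28605) D28604
def n28606 : Q := act 6 n24728
theorem D28606 : act 6 n24728 = n28606 := rfl
theorem F61050 : act 0 n28606 = n27965 := d5_1 D28606 (iv F61037) F61036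
theorem F61051 : act 5 n28606 = n27964 := d20_1 D28606 F59165 D28603 F61037 (iv D27965) F48491 D24728
def n28607 : Q := act 1 n24729
theorem D28607 : act 1 n24729 = n28607 := rfl
theorem F61052 : act 3 n28607 = n25015 := d7_2 (iv F50239) D28607 (iv D25015)
theorem F61053 : act 4 n28607 = n24732 := d8_2 (iv F50240) D28607 (iv D24732)
theorem F61054 : act 5 n27319 = n28607 := d16_0 F61052 F50948 D27319
def n28608 : Q := act 2 n24729
theorem D28608 : act 2 n24729 = n28608 := rfl
theorem F61055 : act 0 n28608 = n24730 := d1_1 D28608 (iv D24730) D24729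
theorem F61056 : act 4 n28608 = n24733 := d12_2 (iv F50240) D28608 (iv D24733)
theorem F61057 : act 6 n28608 = n24833 := d14_2 (iv F50241) D28608 (iv D24833)
def n28609 : Q := act 3 n24730
theorem D28609 : act 3 n24730 = n28609 := rfl
theorem F61058 : act 6 n28609 = n24834 := d17_2 (iv F50243) D28609 (iv D24834)
def n28610 : Q := act 6 n24731
theorem D28610 : act 6 n24731 = n28610 := rfl
theorem F61059 : act 1 n28610 = n28429 := d10_1 D28610 (iv D28429) F49831 (iv F38553) D24731
theorem F61060 : act 3 n28610 = n25017 := d17_1 D28610 (iv D25017) (iv F50244)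
theorem F61061 : act 4 n28610 = n24739 := d19_1 D28610 (iv D24739) (iv F50245)
def n28611 : Q := act 0 n24732
theorem D28611 : act 0 n24732 = n28611 := rfl
theorem F61062 : act 3 n28611 = n24740 := d2_2 (iv F50246) D28611 (iv D24740)
def n28612 : Q := act 2 n24732
theorem D28612 : act 2 n24732 = n28612 := rfl
def n28613 : Q := act 5 n24732
theorem D28613 : act 5 n24732 = n28613 := rfl
theorem F61063 : act 3 n28613 = n24741 := d16_1 D28613 (iv D24741) (iv F50246)
theorem F61064 : act 4 n28613 = n27319 := d18_1 D28613 F61054 F61053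
theorem F61065 : act 6 n27342 = n28613 := d19_0 F61064 F57342 D27342
def n28614 : Q := act 1 n24733
theorem D28614 : act 1 n24733 = n28614 := rfl
def n28615 : Q := act 3 n24733
theorem D28615 : act 3 n24733 = n28615 := rfl
theorem F61066 : act 0 n28615 = n24734 := d2_1 D28615 (iv D24734) (iv F50247)
theorem F61067 : act 6 n28615 = n24841 := d17_2 (iv F50248) D28615 (iv D24841)
theorem F61068 : act 2 n28615 = n24896 := d21_2 D24733 D28615 F50587 F38772 F26354 F20549 (iv F26213) D20324
def n28616 : Q := act 2 n24734
theorem D28616 : act 2 n24734 = n28616 := rfl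
theorem F61069 : act 0 n28616 = n24896 := d1_1 D28616 (iv F61068) F61066
theorem F61070 : act 3 n28616 = n24894 := d11_2 D24734 D28616 F50585 F38770 F26357 (iv F38554) D24733 D28615 F61068 F50587 F38772 F26354 F20549 (iv F26213) D20325
theorem F61071 : act 6 n28616 = n24843 := d14_2 (iv F50249) D28616 (iv D24843)
def n28617 : Q := act 4 n24734
theorem D28617 : act 4 n24734 = n28617 := rfl
theorem F61072 : act 6 n28617 = n24844 := d19_2 (iv F50249) D28617 (iv D24844)
def n28618 : Q := act 5 n24734
theorem D28618 : act 5 n24734 = n28618 := rfl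
theorem F61073 : act 1 n28618 = n25670 := d9_1 D28618 (iv D25670) D25669 (iv F61049) F61038
theorem F61074 : act 3 n28618 = n24735 := d16_1 D28618 (iv D24735) D24734
def n28619 : Q := act 1 n24735
theorem D28619 : act 1 n24735 = n28619 := rfl
theorem F61075 : act 3 n28619 = n25670 := d7_2 F61074 D28619 (iv F61073)
theorem F61076 : act 5 n28619 = n25668 := d9_2 D24735 D28619 (iv F61048) (iv D28605) F50238
def n28620 : Q := act 0 n24736
theorem D28620 : act 0 n24736 = n28620 := rfl
theorem F61077 : act 3 n28620 = n24742 := d2_2 (iv F50251) D28620 (iv D24742)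
theorem F61078 : act 5 n28620 = n24737 := d4_2 (iv F50252) D28620 (iv D24737)
theorem F61079 : act 1 n25325 = n28620 := d7_3 F61077 (iv F50261) D25325
def n28621 : Q := act 2 n24736
theorem D28621 : act 2 n24736 = n28621 := rfl
theorem F61080 : act 5 n28621 = n24738 := d13_2 (iv F50252) D28621 (iv D24738)
theorem F61081 : act 3 n28621 = n27447 := d21_1 D28621 F57669 F51158 D27053 (iv F56536) F53937 (iv F61077) (iv D28620)
theorem F61082 : act 6 n27438 = n28621 := d17_0 F61081 (iv D27447) (iv F57644)
def n28622 : Q := act 6 n24736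
theorem D28622 : act 6 n24736 = n28622 := rfl
theorem F61083 : act 1 n28622 = n27345 := d10_1 D28622 F57402 F46470 F38708 D24736
theorem F61084 : act 2 n28622 = n27438 := d14_1 D28622 F61082 (iv D28621)
theorem F61085 : act 3 n28622 = n24744 := d17_1 D28622 (iv D24744) (iv F50251)
theorem F61086 : act 4 n28622 = n27349 := d19_1 D28622 F57412 F51265
def n28623 : Q := act 1 n24737
theorem D28623 : act 1 n24737 = n28623 := rfl
theorem F61087 : act 2 n28623 = n28397 := d6_2 (iv F50352) D28623 F60462 F50341 D24780
theorem F61088 : act 3 n28623 = n24745 := d7_2 (iv F50253) D28623 (iv D24745)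
theorem F61089 : act 4 n28623 = n28396 := d8_2 F50365 D28623 F60460
theorem F61090 : act 5 n28623 = n26249 := d9_2 F61078 D28623 F54091 (iv F51971) F61079
def n28624 : Q := act 6 n24737
theorem D28624 : act 6 n24737 = n28624 := rfl
theorem F61091 : act 0 n28624 = n24739 := d5_1 D28624 (iv D24739) D24737
theorem F61092 : act 2 n28624 = n25070 := d14_1 D28624 F51155 (iv F50352)
theorem F61093 : act 3 n28624 = n24747 := d17_1 D28624 (iv D24747) (iv F50253)
theorem F61094 : act 5 n28624 = n28622 := d22_2 F61078 D28624 (iv D28622) D28620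
def n28625 : Q := act 6 n24738
theorem D28625 : act 6 n24738 = n28625 := rfl
theorem F61095 : act 0 n28625 = n25070 := d5_1 D28625 F51155 F50353
theorem F61096 : act 2 n28625 = n24739 := d14_1 D28625 (iv D24739) D24738
theorem F61097 : act 3 n28625 = n25068 := d17_1 D28625 F51147 F51027
def n28626 : Q := act 5 n24739
theorem D28626 : act 5 n24739 = n28626 := rfl
theorem F61098 : act 0 n28626 = n28622 := d4_1 D28626 (iv F61094) F61091
theorem F61099 : act 3 n28626 = n24749 := d16_1 D28626 (iv D24749) (iv F50255)
theorem F61100 : act 6 n28626 = n28620 := d20_2 D24739 D28626 F61078 D28624 F61094 (iv D28622) F50252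
def n28627 : Q := act 6 n24743
theorem D28627 : act 6 n24743 = n28627 := rfl
theorem F61101 : act 2 n28627 = n24744 := d14_1 D28627 (iv D24744) D24743
theorem F61102 : act 3 n28627 = n27054 := d17_1 D28627 (iv D27054) F50264
theorem F61103 : act 4 n28627 = n25020 := d19_1 D28627 (iv D25020) (iv F50262)
theorem F61104 : act 1 n28266 = n28627 := d24_14 (iv D28627) F50263 F38563 D20335 (iv F40162) F40159 (iv F39883) F39882 (iv F44539) F50007 (iv F59047) F59045 F56387 D28266
def n28628 : Q := act 6 n24746
theorem D28628 : act 6 n24746 = n28628 := rfl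
theorem F61105 : act 0 n28628 = n24748 := d5_1 D28628 (iv D24748) (iv F50270)
theorem F61106 : act 2 n28628 = n24747 := d14_1 D28628 (iv D24747) D24746
theorem F61107 : act 3 n28628 = n27055 := d17_1 D28628 (iv D27055) F50272
theorem F61108 : act 4 n28628 = n25022 := d19_1 D28628 (iv D25022) (iv F50271)
theorem F61109 : act 5 n28628 = n28627 := d22_2 F53939 D28628 (iv D28627) (iv F53940)
def n28629 : Q := act 5 n24748
theorem D28629 : act 5 n24748 = n28629 := rfl
theorem F61110 : act 0 n28629 = n28627 := d4_1 D28629 (iv F61109) F61105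
theorem F61111 : act 2 n28629 = n24749 := d13_1 D28629 (iv D24749) (iv F50276)
theorem F61112 : act 3 n28629 = n27056 := d16_1 D28629 (iv D27056) (iv F50277)
theorem F61113 : act 4 n28629 = n25025 := d18_1 D28629 (iv D25025) (iv F50278)
theorem F61114 : act 6 n28629 = n26194 := d20_2 D24748 D28629 F53939 D28628 F61109 (iv D28627) F50263
def n28630 : Q := act 1 n24749
theorem D28630 : act 1 n24749 = n28630 := rfl
theorem F61115 : act 4 n28630 = n25026 := d8_2 (iv F50280) D28630 (iv D25026)
theorem F61116 : act 5 n28630 = n28418 := d9_2 D24749 D28630 (iv D28418) F49810 (iv F38565)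
theorem F61117 : act 6 n28630 = n26349 := d10_2 (iv F50281) D28630 F54302 F50023 F50261
theorem F61118 : act 2 n28507 = n28630 := d14_3 F61117 F54303 D28507
def n28631 : Q := act 6 n24752
theorem D28631 : act 6 n24752 = n28631 := rfl
theorem F61119 : act 0 n28631 = n28031 := d5_1 D28631 (iv D28031) F50292
theorem F61120 : act 2 n28631 = n28584 := d14_1 D28631 F60984 F59150
theorem F61121 : act 3 n28631 = n24753 := d17_1 D28631 (iv D24753) (iv F50290)
theorem F61122 : act 4 n28631 = n28587 := d19_1 D28631 F60993 F58199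
def n28632 : Q := act 5 n24754
theorem D28632 : act 5 n24754 = n28632 := rfl
theorem F61123 : act 0 n28632 = n24756 := d4_1 D28632 (iv D24756) D24754
theorem F61124 : act 2 n28632 = n27400 := d13_1 D28632 (iv D27400) (iv F50296)
theorem F61125 : act 3 n28632 = n28551 := d16_1 D28632 (iv D28551) (iv F50297)
def n28633 : Q := act 3 n24755
theorem D28633 : act 3 n24755 = n28633 := rfl
theorem F61126 : act 0 n28633 = n27910 := d2_1 D28633 F59019 F58814
theorem F61127 : act 1 n28633 = n24758 := d7_1 D28633 (iv D24758) (iv F50298)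
theorem F61128 : act 2 n28633 = n27841 := d11_1 D28633 (iv D27841) (iv D23863) F36656 D19541 D23866 D27844 (iv F59019) (iv D27910) (iv D23995) F37028 (iv D19303) (iv F35775) (iv F46307) (iv F50299)
theorem F61129 : act 4 n28633 = n28552 := d15_2 D24755 D28633 (iv D28552) (iv D24688) (iv F38591)
theorem F61130 : act 6 n28633 = n27844 := d17_2 F59018 D28633 (iv F59019)
def n28634 : Q := act 5 n24755
theorem D28634 : act 5 n24755 = n28634 := rfl
theorem F61131 : act 2 n28634 = n27411 := d13_1 D28634 (iv D27411) (iv F50299)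
theorem F61132 : act 4 n28634 = n24756 := d18_1 D28634 (iv D24756) D24755
def n28635 : Q := act 1 n24756
theorem D28635 : act 1 n24756 = n28635 := rfl
theorem F61133 : act 3 n28635 = n28554 := d7_2 (iv F50301) D28635 (iv D28554)
theorem F61134 : act 5 n28635 = n24760 := d9_2 D24756 D28635 (iv D24760) (iv D20343) D20341
def n28636 : Q := act 6 n24756
theorem D28636 : act 6 n24756 = n28636 := rfl
theorem F61135 : act 2 n28636 = n27413 := d14_1 D28636 (iv D27413) (iv F50300)
theorem F61136 : act 3 n28636 = n28553 := d17_1 D28636 F60908 (iv F50301)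
theorem F61137 : act 5 n28636 = n28552 := d22_2 D24756 D28636 F60904 (iv D24754)
def n28637 : Q := act 5 n24757
theorem D28637 : act 5 n24757 = n28637 := rfl
theorem F61138 : act 0 n28637 = n28636 := d4_1 D28637 F61137 F60902
theorem F61139 : act 2 n28637 = n27414 := d13_1 D28637 (iv D27414) (iv F50302)
theorem F61140 : act 3 n28637 = n28555 := d16_1 D28637 (iv D28555) (iv F50303)
theorem F61141 : act 6 n28637 = n28632 := d20_2 D24757 D28637 (iv D28632) (iv F60904) (iv F61137) (iv D28636) (iv D24756)
def n28638 : Q := act 5 n24758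
theorem D28638 : act 5 n24758 = n28638 := rfl
theorem F61142 : act 0 n28638 = n24772 := d4_1 D28638 (iv D24772) (iv F50304)
theorem F61143 : act 3 n28638 = n24759 := d16_1 D28638 (iv D24759) D24758
theorem F61144 : act 4 n28638 = n28556 := d18_1 D28638 (iv D28556) (iv F50305)
theorem F61145 : act 6 n28638 = n28492 := d22_1 D28638 (iv D28492) F49994 (iv F50304)
def n28639 : Q := act 1 n24759
theorem D28639 : act 1 n24759 = n28639 := rfl
theorem F61146 : act 4 n28639 = n24760 := d8_2 (iv F50308) D28639 (iv D24760)
def n28640 : Q := act 0 n24760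
theorem D28640 : act 0 n24760 = n28640 := rfl
theorem F61147 : act 3 n28640 = n28558 := d2_2 (iv F50310) D28640 (iv D28558)
def n28641 : Q := act 2 n24760
theorem D28641 : act 2 n24760 = n28641 := rfl
theorem F61148 : act 1 n28641 = n24763 := d6_1 D28641 (iv D24763) (iv D20345) (iv F38595) D24760
def n28642 : Q := act 6 n24760
theorem D28642 : act 6 n24760 = n28642 := rfl
theorem F61149 : act 1 n28642 = n28496 := d10_1 D28642 (iv D28496) (iv D24630) (iv F38597) D24760
theorem F61150 : act 3 n28642 = n28560 := d17_1 D28642 (iv D28560) (iv F50310)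
def n28643 : Q := act 0 n24761
theorem D28643 : act 0 n24761 = n28643 := rfl
theorem F61151 : act 2 n28643 = n28572 := d1_2 F59153 D28643 F60952
theorem F61152 : act 3 n28643 = n25028 := d2_2 (iv F50311) D28643 (iv D25028)
theorem F61153 : act 4 n28643 = n24762 := d3_2 (iv F50312) D28643 (iv D24762)
theorem F61154 : act 5 n28643 = n28030 := d4_2 F58200 D28643 F59364
def n28644 : Q := act 1 n24762
theorem D28644 : act 1 n24762 = n28644 := rfl
theorem F61155 : act 3 n28644 = n24765 := d7_2 (iv F50313) D28644 (iv D24765)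
def n28645 : Q := act 2 n24762
theorem D28645 : act 2 n24762 = n28645 := rfl
theorem F61156 : act 0 n28645 = n24763 := d1_1 D28645 (iv D24763) D24762
theorem F61157 : act 3 n28645 = n27522 := d11_2 (iv F50313) D28645 F59526 (iv D28086) (iv D24138) F38610 (iv D20347) (iv F38602) D24763 (iv F59905) F59904 (iv F53833) F53832 F48428 F38605
theorem F61158 : act 4 n28645 = n28572 := d12_2 F61153 D28645 (iv F61151)
theorem F61159 : act 5 n28645 = n27632 := d13_2 (iv F50314) D28645 (iv F58109)
theorem F61160 : act 1 n27505 = n28645 := d9_5 F61159 (iv D27632) (iv D23454) (iv F46495) D27505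
def n28646 : Q := act 6 n24762
theorem D28646 : act 6 n24762 = n28646 := rfl
theorem F61161 : act 0 n28646 = n24764 := d5_1 D28646 (iv D24764) D24762
theorem F61162 : act 3 n28646 = n24766 := d17_1 D28646 (iv D24766) (iv F50313)
theorem F61163 : act 5 n28646 = n28631 := d20_1 D28646 (iv D28631) F50291 D24764 (iv F59372) (iv D28031) (iv F50314)
def n28647 : Q := act 3 n24767
theorem D28647 : act 3 n24767 = n28647 := rfl
theorem F61164 : act 0 n28647 = n25292 := d2_1 D28647 F51899 (iv F50323)
theorem F61165 : act 1 n28647 = n27995 := d7_1 D28647 F59252 (iv F50324)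
theorem F61166 : act 2 n28647 = n26109 := d11_1 D28647 (iv D26109) (iv D21671) (iv F41419) (iv F41422) F33539 (iv F40641) (iv F51899) (iv F60197) F60198 F49583 (iv F44825) (iv F45871) F45872 D24767
theorem F61167 : act 5 n28647 = n28291 := d16_2 (iv F50326) D28647 F60198
theorem F61168 : act 6 n28647 = n25290 := d17_2 (iv F50327) D28647 (iv D25290)
def n28648 : Q := act 5 n24768
theorem D28648 : act 5 n24768 = n28648 := rfl
theorem F61169 : act 0 n28648 = n28556 := d4_1 D28648 (iv D28556) (iv F50328)
theorem F61170 : act 2 n28648 = n27405 := d13_1 D28648 F57568 F57552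
theorem F61171 : act 3 n28648 = n24769 := d16_1 D28648 (iv D24769) D24768
theorem F61172 : act 4 n28648 = n24772 := d18_1 D28648 (iv D24772) (iv F50330)
theorem F61173 : act 6 n28648 = n25457 := d22_1 D28648 F52257 (iv F50155) (iv F50328)
def n28649 : Q := act 1 n24769
theorem D28649 : act 1 n24769 = n28649 := rfl
theorem F61174 : act 4 n28649 = n24770 := d8_2 (iv F50333) D28649 (iv D24770)
theorem F61175 : act 5 n28649 = n28390 := d9_2 D24769 D28649 (iv D28390) (iv D24530) (iv F38618)
theorem F61176 : act 6 n28649 = n25465 := d10_2 (iv F50334) D28649 (iv D25465) (iv D21238) (iv F41057)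
def n28650 : Q := act 0 n24770
theorem D28650 : act 0 n24770 = n28650 := rfl
theorem F61177 : act 3 n28650 = n24775 := d2_2 (iv F50335) D28650 (iv D24775)
def n28651 : Q := act 2 n24770
theorem D28651 : act 2 n24770 = n28651 := rfl
theorem F61178 : act 1 n28651 = n25746 := d6_1 D28651 F52828 F41452 (iv F38621) D24770
theorem F61179 : act 5 n28651 = n25773 := d13_2 F52240 D28651 F52880
theorem F61180 : act 6 n28651 = n28550 := d14_2 F60469 D28651 F60897
def n28652 : Q := act 5 n24771
theorem D28652 : act 5 n24771 = n28652 := rfl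
theorem F61181 : act 2 n28652 = n24772 := d13_1 D28652 (iv D24772) D24771
theorem F61182 : act 3 n28652 = n24864 := d16_1 D28652 (iv D24864) (iv F50336)
theorem F61183 : act 4 n28652 = n27405 := d18_1 D28652 F57568 F57554
theorem F61184 : act 6 n28652 = n27403 := d22_1 D28652 (iv D27403) (iv F51018) F51014
def n28653 : Q := act 1 n24772
theorem D28653 : act 1 n24772 = n28653 := rfl
theorem F61185 : act 3 n28653 = n24773 := d7_2 (iv F50338) D28653 (iv D24773)
def n28654 : Q := act 6 n24772
theorem D28654 : act 6 n24772 = n28654 := rfl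
theorem F61186 : act 0 n28654 = n28492 := d5_1 D28654 (iv F61145) F61142
theorem F61187 : act 2 n28654 = n27403 := d14_1 D28654 (iv F61184) F61181
theorem F61188 : act 3 n28654 = n24774 := d17_1 D28654 (iv D24774) (iv F50338)
theorem F61189 : act 4 n28654 = n25457 := d19_1 D28654 (iv F61173) F61172
theorem F61190 : act 5 n28654 = n27402 := d20_1 D28654 F57562 D28638 F61145 (iv D28492) F49994 D24772
theorem F61191 : act 1 n25463 = n28654 := d8_3 F61189 F52256 D25463
def n28655 : Q := act 0 n24773
theorem D28655 : act 0 n24773 = n28655 := rfl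
theorem F61192 : act 4 n28655 = n24775 := d3_2 (iv F50339) D28655 (iv D24775)
def n28656 : Q := act 2 n24773
theorem D28656 : act 2 n24773 = n28656 := rfl
theorem F61193 : act 1 n28656 = n24779 := d6_1 D28656 (iv D24779) (iv D20356) (iv F38623) D24773
theorem F61194 : act 4 n28656 = n24776 := d12_2 (iv F50339) D28656 (iv D24776)
def n28657 : Q := act 6 n24773
theorem D28657 : act 6 n24773 = n28657 := rfl
theorem F61195 : act 4 n28657 = n24777 := d19_1 D28657 (iv D24777) (iv F50339)
def n28658 : Q := act 1 n24775
theorem D28658 : act 1 n24775 = n28658 := rfl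
theorem F61196 : act 5 n28658 = n26379 := d9_2 F59381 D28658 (iv D26379) D26382 F59434
theorem F61197 : act 2 n26390 = n28658 := d13_3 F61196 F54381 D26390
def n28659 : Q := act 2 n24775
theorem D28659 : act 2 n24775 = n28659 := rfl
theorem F61198 : act 0 n28659 = n24776 := d1_1 D28659 (iv D24776) D24775
theorem F61199 : act 1 n28659 = n28075 := d6_1 D28659 F59498 (iv F54400) F61197 (iv D28658)
theorem F61200 : act 5 n28659 = n28056 := d13_2 F59381 D28659 (iv F59433)
def n28660 : Q := act 6 n24775
theorem D28660 : act 6 n24775 = n28660 := rfl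
theorem F61201 : act 0 n28660 = n24777 := d5_1 D28660 (iv D24777) D24775
theorem F61202 : act 5 n28660 = n28037 := d22_2 F59381 D28660 (iv D28037) D28036
def n28661 : Q := act 3 n24776
theorem D28661 : act 3 n24776 = n28661 := rfl
theorem F61203 : act 1 n28661 = n24783 := d7_1 D28661 (iv D24783) (iv F50344)
def n28662 : Q := act 6 n24776
theorem D28662 : act 6 n24776 = n28662 := rfl
theorem F61204 : act 2 n28662 = n24777 := d14_1 D28662 (iv D24777) D24776
theorem F61205 : act 3 n25773 = n28662 := d21_3 F54457 (iv F52239) (iv F52880) F61204 (iv F60467) (iv F60897) F60898 F59432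
theorem F61206 : act 1 n28662 = n25772 := d7_1 F61205 F52879 D25773
theorem F61207 : act 6 n28661 = n25773 := d17_0 F61205 (iv D28662) D28661
def n28663 : Q := act 5 n24777
theorem D28663 : act 5 n24777 = n28663 := rfl
theorem F61208 : act 0 n28663 = n28037 := d4_1 D28663 (iv F61202) F61201
theorem F61209 : act 6 n28663 = n28036 := d20_2 D24777 D28663 F59381 D28660 F61202 (iv D28037) F48612
def n28664 : Q := act 1 n24778
theorem D28664 : act 1 n24778 = n28664 := rfl
theorem F61210 : act 3 n28664 = n25036 := d7_2 (iv F50345) D28664 (iv D25036)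
theorem F61211 : act 4 n28664 = n24781 := d8_2 (iv F50346) D28664 (iv D24781)
theorem F61212 : act 6 n27410 = n28664 := d17_0 F61210 (iv F51025) D27410
def n28665 : Q := act 2 n24778
theorem D28665 : act 2 n24778 = n28665 := rfl
theorem F61213 : act 0 n28665 = n24779 := d1_1 D28665 (iv D24779) D24778
theorem F61214 : act 4 n28665 = n24782 := d12_2 (iv F50346) D28665 (iv D24782)
theorem F61215 : act 5 n28665 = n24886 := d13_2 (iv F50347) D28665 (iv D24886)
def n28666 : Q := act 3 n24779
theorem D28666 : act 3 n24779 = n28666 := rfl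
theorem F61216 : act 5 n28666 = n24887 := d16_2 (iv F50349) D28666 (iv D24887)
def n28667 : Q := act 5 n24780
theorem D28667 : act 5 n24780 = n28667 := rfl
theorem F61217 : act 0 n28667 = n28621 := d4_1 D28667 F61080 (iv F50353)
theorem F61218 : act 1 n28667 = n28483 := d9_1 D28667 (iv D28483) F49968 (iv F38634) D24780
theorem F61219 : act 2 n28667 = n28620 := d13_1 D28667 F61078 F50352
theorem F61220 : act 3 n28667 = n25038 := d16_1 D28667 (iv D25038) (iv F50350)
theorem F61221 : act 4 n28667 = n24788 := d18_1 D28667 (iv D24788) (iv F50351)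
def n28668 : Q := act 0 n24781
theorem D28668 : act 0 n24781 = n28668 := rfl
theorem F61222 : act 3 n28668 = n24789 := d2_2 (iv F50354) D28668 (iv D24789)
def n28669 : Q := act 2 n24781
theorem D28669 : act 2 n24781 = n28669 := rfl
def n28670 : Q := act 6 n24781
theorem D28670 : act 6 n24781 = n28670 := rfl
theorem F61223 : act 3 n28670 = n24790 := d17_1 D28670 (iv D24790) (iv F50354)
theorem F61224 : act 4 n28670 = n27410 := d19_1 D28670 F61212 F61211
theorem F61225 : act 5 n27431 = n28670 := d18_0 F61224 F57585 D27431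
def n28671 : Q := act 1 n24782
theorem D28671 : act 1 n24782 = n28671 := rfl
def n28672 : Q := act 3 n24782
theorem D28672 : act 3 n24782 = n28672 := rfl
theorem F61226 : act 0 n28672 = n24783 := d2_1 D28672 (iv D24783) (iv F50355)
theorem F61227 : act 5 n28672 = n24843 := d16_2 (iv F50356) D28672 F50486
theorem F61228 : act 2 n28672 = n24845 := d21_2 D24782 D28672 F50487 F38709 F26314 F20530 (iv F26270) D20358
def n28673 : Q := act 2 n24783
theorem D28673 : act 2 n24783 = n28673 := rfl
theorem F61229 : act 0 n28673 = n24845 := d1_1 D28673 (iv F61228) F61226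
theorem F61230 : act 3 n28673 = n24842 := d11_2 D24783 D28673 F50483 F38707 F26317 (iv F38635) D24782 D28672 F61228 F50487 F38709 F26314 F20530 (iv F26270) D20359
theorem F61231 : act 5 n28673 = n24841 := d13_2 (iv F50357) D28673 F50481
theorem F61232 : act 6 n28618 = n28673 := d22_1 D28618 F61231 (iv F61067) F61066
def n28674 : Q := act 4 n24783
theorem D28674 : act 4 n24783 = n28674 := rfl
theorem F61233 : act 5 n28674 = n24895 := d18_2 (iv F50357) D28674 (iv D24895)
def n28675 : Q := act 6 n24783
theorem D28675 : act 6 n24783 = n28675 := rfl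
theorem F61234 : act 1 n28675 = n25774 := d10_1 D28675 (iv D25774) D25773 (iv F61207) F61203
theorem F61235 : act 2 n28675 = n28618 := d14_1 D28675 F61232 (iv D28673)
theorem F61236 : act 3 n28675 = n24784 := d17_1 D28675 (iv D24784) D24783
theorem F61237 : act 5 n28675 = n28616 := d22_2 (iv F50357) D28675 F61071 F50485
theorem F61238 : act 1 n25631 = n24896 := d23_18 (iv F61237) F61235 F61073 F52681 (iv F52678) F52676 F41356 F38221 (iv D20171) D20170 (iv F49718) (iv F49854) F49857 F38427 D20276 F41328 D21353 (iv F52626) (iv F61069)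
theorem F61239 : act 1 n28615 = n25638 := d6_3 (iv F52626) F61238 (iv F61068) (iv D25638) (iv F41332)
theorem F61240 : act 3 n24897 = n25631 := d7_0 F61238 F50587 D24897
theorem F61241 : act 1 n26412 = n28539 := d10_5 F60867 F61238 (iv D24896) (iv F42442) D26412
theorem F61242 : act 3 n28539 = n26418 := d7_2 (iv F54451) F61241 (iv D26418)
theorem F61243 : act 0 n26418 = n24897 := d2_1 F61242 F61240 (iv F60865)
theorem F61244 : act 5 n26418 = n28538 := d16_2 D28539 F61242 (iv D28538)
theorem F61245 : act 2 n26270 = n25804 := d21_2 F50588 (iv F54130) F52944 F41532 (iv F50112) (iv F60866) F61242 F61243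
theorem E10380 : n26275 = n26266 := (c21_9 (iv F54461) (iv F61242) F60866 F50112 (iv F41532) (iv F52944) (iv F61245) F54130 D26275)
theorem F61246 : act 0 n26266 = n21783 := (sb E10380 (iv D26275))
theorem F61247 : act 6 n26276 = n26276 := d22_1 D26276 (iv D26276) (iv F54121) F61246
theorem F61248 : act 5 n25803 = n26270 := d13_0 F61245 (iv D25804) D25803
theorem F61249 : act 3 n26276 = n25803 := d16_3 F61248 F54130 D26276
theorem F61250 : act 2 n25630 = n26276 := d21_0 F61249 (iv D25803) F41525 F28083 (iv F38430) D24673 D28538 F60863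
theorem F61251 : act 5 n24897 = n25630 := d13_0 F61250 (iv D26276) (iv F50588)
theorem F61252 : act 3 n25638 = n28614 := d7_2 D28615 F61239 (iv D28614)
theorem F61253 : act 0 n28614 = n25640 := d2_1 F61252 (iv D25640) (iv F52636)
def n28676 : Q := act 1 n24784
theorem D28676 : act 1 n24784 = n28676 := rfl
theorem F61254 : act 3 n28676 = n25774 := d7_2 F61236 D28676 (iv F61234)
theorem F61255 : act 6 n28676 = n25772 := d10_2 D24784 D28676 (iv F61206) (iv D28662) F50344
def n28677 : Q := act 0 n24785
theorem D28677 : act 0 n24785 = n28677 := rfl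
theorem F61256 : act 3 n28677 = n24791 := d2_2 (iv F50359) D28677 (iv D24791)
theorem F61257 : act 4 n28677 = n28625 := d3_2 F51154 D28677 F61095
theorem F61258 : act 6 n28677 = n24786 := d5_2 (iv F50360) D28677 (iv D24786)
theorem F61259 : act 2 n28677 = n28610 := d21_0 F61060 F50953 F45150 D22861 F50376 (iv D24792) (iv F50359) D28677
theorem F61260 : act 1 n25330 = n28677 := d7_3 F61256 (iv F50373) D25330
def n28678 : Q := act 2 n24785
theorem D28678 : act 2 n24785 = n28678 := rfl
theorem F61261 : act 0 n28678 = n28610 := d1_1 D28678 (iv F61259) (iv D28677)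
theorem F61262 : act 3 n28678 = n27358 := d11_2 (iv F50359) D28678 F57436 F51269 D27045 (iv F56508) F53345 (iv F61256) F61259 F61060 F50953 F45150 D22861 F50376 (iv D24792)
theorem F61263 : act 4 n28678 = n28624 := d12_2 F51154 D28678 F61092
theorem F61264 : act 6 n28678 = n24787 := d14_2 (iv F50360) D28678 (iv D24787)
theorem F61265 : act 5 n27349 = n28678 := d22_2 (iv F51266) (iv F57412) F61264 F50364
def n28679 : Q := act 5 n24785
theorem D28679 : act 5 n24785 = n28679 := rfl
theorem F61266 : act 1 n28679 = n27434 := d9_1 D28679 F57635 F46593 F38771 D24785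
theorem F61267 : act 2 n28679 = n27349 := d13_1 D28679 F61265 (iv D28678)
theorem F61268 : act 3 n28679 = n24793 := d16_1 D28679 (iv D24793) (iv F50359)
theorem F61269 : act 4 n28679 = n27438 := d18_1 D28679 F57645 F51154
def n28680 : Q := act 1 n24786
theorem D28680 : act 1 n24786 = n28680 := rfl
theorem F61270 : act 2 n28680 = n28368 := d6_2 (iv F50363) D28680 F60383 F50235 D24731
theorem F61271 : act 3 n28680 = n24794 := d7_2 (iv F50361) D28680 (iv D24794)
theorem F61272 : act 4 n28680 = n28367 := d8_2 (iv F50362) D28680 F60381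
theorem F61273 : act 6 n28680 = n26018 := d10_2 F61258 D28680 F53500 (iv F51977) F61260
def n28681 : Q := act 5 n24786
theorem D28681 : act 5 n24786 = n28681 := rfl
theorem F61274 : act 0 n28681 = n24788 := d4_1 D28681 (iv D24788) D24786
theorem F61275 : act 2 n28681 = n25102 := d13_1 D28681 F51266 (iv F50363)
theorem F61276 : act 3 n28681 = n24796 := d16_1 D28681 (iv D24796) (iv F50361)
theorem F61277 : act 4 n28681 = n28621 := d18_1 D28681 F61080 (iv F50362)
theorem F61278 : act 6 n28681 = n28679 := d22_1 D28681 (iv D28679) F50360 D24786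
def n28682 : Q := act 5 n24787
theorem D28682 : act 5 n24787 = n28682 := rfl
theorem F61279 : act 0 n28682 = n25102 := d4_1 D28682 F51266 (iv F50364)
theorem F61280 : act 2 n28682 = n24788 := d13_1 D28682 (iv D24788) D24787
theorem F61281 : act 3 n28682 = n25100 := d16_1 D28682 F51258 F50950
theorem F61282 : act 4 n28682 = n28620 := d18_1 D28682 F61078 (iv F50365)
def n28683 : Q := act 6 n24788
theorem D28683 : act 6 n24788 = n28683 := rfl
theorem F61283 : act 0 n28683 = n28679 := d5_1 D28683 (iv F61278) F61274
theorem F61284 : act 3 n28683 = n24798 := d17_1 D28683 (iv D24798) (iv F50367)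
theorem F61285 : act 5 n28683 = n28677 := d20_1 D28683 F61258 D28681 F61278 (iv D28679) F50360 D24788
def n28684 : Q := act 5 n24792
theorem D28684 : act 5 n24792 = n28684 := rfl
theorem F61286 : act 2 n28684 = n24793 := d13_1 D28684 (iv D24793) D24792
theorem F61287 : act 3 n28684 = n27046 := d16_1 D28684 (iv D27046) F50376
theorem F61288 : act 4 n28684 = n25041 := d18_1 D28684 (iv D25041) (iv F50374)
theorem F61289 : act 1 n28684 = n28269 := d24_2 (iv F50375) D28684 (iv D28269) F56410 (iv F58974) F58976 (iv F49871) F44664 (iv F40036) F40035 (iv F40383) F40386 (iv D20369) (iv F38644)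
def n28685 : Q := act 5 n24795
theorem D28685 : act 5 n24795 = n28685 := rfl
theorem F61290 : act 0 n28685 = n24797 := d4_1 D28685 (iv D24797) (iv F50382)
theorem F61291 : act 2 n28685 = n24796 := d13_1 D28685 (iv D24796) D24795
theorem F61292 : act 3 n28685 = n27047 := d16_1 D28685 (iv D27047) (iv F50384)
theorem F61293 : act 4 n28685 = n25043 := d18_1 D28685 (iv D25043) (iv F50383)
theorem F61294 : act 6 n28685 = n28684 := d22_1 D28685 (iv D28684) F50375 (iv F50382)
def n28686 : Q := act 6 n24797
theorem D28686 : act 6 n24797 = n28686 := rfl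
theorem F61295 : act 0 n28686 = n28684 := d5_1 D28686 (iv F61294) F61290
theorem F61296 : act 2 n28686 = n24798 := d14_1 D28686 (iv D24798) (iv F50388)
theorem F61297 : act 3 n28686 = n27048 := d17_1 D28686 (iv D27048) (iv F50389)
theorem F61298 : act 4 n28686 = n25046 := d19_1 D28686 (iv D25046) (iv F50390)
theorem F61299 : act 5 n28686 = n25959 := d20_1 D28686 F53347 D28685 F61294 (iv D28684) F50375 D24797
def n28687 : Q := act 1 n24798
theorem D28687 : act 1 n24798 = n28687 := rfl
theorem F61300 : act 4 n28687 = n25047 := d8_2 (iv F50392) D28687 (iv D25047)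
theorem F61301 : act 5 n28687 = n26428 := d9_2 (iv F50393) D28687 F54488 F49886 F50373
theorem F61302 : act 6 n28687 = n28472 := d10_2 D24798 D28687 (iv D28472) F49947 (iv F38646)
theorem F61303 : act 2 n28453 = n28687 := d14_3 F61302 F60681 (iv F60610)
def n28688 : Q := act 1 n24801
theorem D28688 : act 1 n24801 = n28688 := rfl
theorem F61304 : act 3 n28688 = n24802 := d7_2 (iv F50404) D28688 (iv D24802)
theorem F61305 : act 4 n28688 = n27482 := d8_2 (iv F50405) D28688 (iv D27482)
theorem F61306 : act 6 n28688 = n24810 := d10_2 D24801 D28688 (iv D24810) (iv D20376) (iv F38657)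
def n28689 : Q := act 6 n24803
theorem D28689 : act 6 n24803 = n28689 := rfl
theorem F61307 : act 2 n28689 = n27067 := d14_1 D28689 (iv D27067) (iv F50410)
theorem F61308 : act 3 n28689 = n27185 := d17_1 D28689 F56959 F56891
theorem F61309 : act 5 n28689 = n27183 := d22_2 F56940 D28689 (iv D27183) (iv F56939)
def n28690 : Q := act 4 n24804
theorem D28690 : act 4 n24804 = n28690 := rfl
theorem F61310 : act 0 n28690 = n24813 := d3_1 D28690 (iv D24813) (iv F50411)
theorem F61311 : act 1 n28690 = n28216 := d8_1 D28690 F59900 F56889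
theorem F61312 : act 2 n28690 = n24813 := d12_1 D28690 (iv D24813) (iv F50412)
theorem F61313 : act 5 n24804 = n28690 := d13_0 F61312 F50439 (iv F50412)
theorem F61314 : act 3 n24806 = n28690 := d21_1 (iv F50416) F61312 F50438 F38674 F26296 F20517 (iv F26296) (iv F38666)
def n28691 : Q := act 6 n24804
theorem D28691 : act 6 n24804 = n28691 := rfl
theorem F61315 : act 0 n28691 = n24815 := d5_1 D28691 (iv D24815) (iv F50411)
theorem F61316 : act 2 n28691 = n24815 := d14_1 D28691 (iv D24815) (iv F50412)
theorem F61317 : act 3 n28691 = n24807 := d17_1 D28691 (iv D24807) D24804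
def n28692 : Q := act 3 n24805
theorem D28692 : act 3 n24805 = n28692 := rfl
theorem F61318 : act 0 n28692 = n24816 := d2_1 D28692 (iv D24816) (iv F50413)
theorem F61319 : act 1 n28692 = n28358 := d7_1 D28692 (iv F60513) F60511
theorem F61320 : act 2 n28692 = n24808 := d11_1 D28692 F50420 F39221 (iv D20667) F26683 (iv F26295) (iv F38673) D24816 F50435 F38676 F32216 (iv F39204) F39203 (iv F38665) (iv F50414)
theorem F61321 : act 4 n28692 = n24806 := d15_2 D24805 D28692 F61314 (iv D28690) (iv D24804)
theorem F61322 : act 5 n24805 = n28692 := d18_0 F61321 (iv D24806) D24805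
def n28693 : Q := act 6 n24805
theorem D28693 : act 6 n24805 = n28693 := rfl
theorem F61323 : act 0 n28693 = n24817 := d5_1 D28693 (iv D24817) (iv F50413)
theorem F61324 : act 2 n28693 = n24809 := d14_1 D28693 (iv D24809) (iv F50414)
theorem F61325 : act 4 n28693 = n24807 := d19_1 D28693 (iv D24807) D24805
def n28694 : Q := act 1 n24807
theorem D28694 : act 1 n24807 = n28694 := rfl
def n28695 : Q := act 1 n24809
theorem D28695 : act 1 n24809 = n28695 := rfl
theorem F61326 : act 3 n28695 = n25049 := d7_2 (iv F50423) D28695 (iv D25049)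
theorem F61327 : act 4 n28695 = n24810 := d8_2 (iv F50424) D28695 (iv D24810)
theorem F61328 : act 6 n28695 = n27482 := d10_2 D24809 D28695 (iv D27482) F46466 (iv F46447)
theorem F61329 : act 5 n28237 = n28695 := d18_0 F61327 (iv F50426) (iv F59988)
def n28696 : Q := act 0 n24810
theorem D28696 : act 0 n24810 = n28696 := rfl
theorem F61330 : act 3 n28696 = n24812 := d2_2 (iv F50425) D28696 (iv D24812)
theorem F61331 : act 5 n28696 = n28232 := d4_2 F50426 D28696 F59967
def n28697 : Q := act 2 n24810
theorem D28697 : act 2 n24810 = n28697 := rfl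
theorem F61332 : act 5 n28697 = n28238 := d13_2 F50426 D28697 (iv D28238)
def n28698 : Q := act 1 n24812
theorem D28698 : act 1 n24812 = n28698 := rfl
theorem F61333 : act 0 n28698 = n27710 := d0_1 D28698 (iv F58340) F58339 (iv D24826) (iv D20388) (iv D15097) (iv F26291) D20378 D24812
theorem F61334 : act 2 n28698 = n25998 := d6_2 (iv F50430) D28698 (iv D25998) (iv F53414) F53413
theorem F61335 : act 4 n28698 = n25050 := d8_2 (iv F50431) D28698 (iv D25050)
theorem F61336 : act 5 n28698 = n25998 := d9_2 (iv F50432) D28698 (iv D25998) (iv F41833) (iv F49187)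
theorem F61337 : act 6 n28698 = n27947 := d10_2 F59943 D28698 F59112 (iv F54446) (iv F59940)
def n28699 : Q := act 6 n24813
theorem D28699 : act 6 n24813 = n28699 := rfl
theorem F61338 : act 3 n28699 = n24818 := d17_1 D28699 (iv D24818) (iv F50438)
theorem F61339 : act 4 n28699 = n24815 := d19_1 D28699 (iv D24815) D24813
theorem F61340 : act 5 n28699 = n28691 := d22_2 (iv F50439) D28699 (iv D28691) F50411
def n28700 : Q := act 1 n24815
theorem D28700 : act 1 n24815 = n28700 := rfl
theorem F61341 : act 3 n28700 = n24819 := d7_2 (iv F50434) D28700 (iv D24819)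
def n28701 : Q := act 5 n24815
theorem D28701 : act 5 n24815 = n28701 := rfl
theorem F61342 : act 0 n28701 = n28699 := d4_1 D28701 F61340 F61315
theorem F61343 : act 2 n28701 = n28699 := d13_1 D28701 F61340 F61316
theorem F61344 : act 3 n28701 = n24820 := d16_1 D28701 (iv D24820) (iv F50434)
theorem F61345 : act 4 n28701 = n28691 := d18_1 D28701 (iv F61340) F61339
theorem F61346 : act 6 n28701 = n28690 := d20_2 D24815 D28701 (iv F61313) D28691 (iv F61340) (iv D28699) F50439
def n28702 : Q := act 6 n24816
theorem D28702 : act 6 n24816 = n28702 := rfl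
theorem F61347 : act 2 n28702 = n24821 := d14_1 D28702 (iv D24821) (iv F50435)
theorem F61348 : act 3 n28702 = n24817 := d17_1 D28702 (iv D24817) D24816
theorem F61349 : act 4 n28702 = n24818 := d19_1 D28702 (iv D24818) F50436
theorem F61350 : act 5 n28702 = n28693 := d22_2 F50437 D28702 (iv D28693) F50413
def n28703 : Q := act 1 n24817
theorem D28703 : act 1 n24817 = n28703 := rfl
theorem F61351 : act 4 n28703 = n24819 := d8_2 (iv F50441) D28703 (iv D24819)
def n28704 : Q := act 5 n24817
theorem D28704 : act 5 n24817 = n28704 := rfl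
theorem F61352 : act 0 n28704 = n28702 := d4_1 D28704 F61350 F61323
theorem F61353 : act 2 n28704 = n24822 := d13_1 D28704 (iv D24822) (iv F50440)
theorem F61354 : act 3 n28704 = n28693 := d16_1 D28704 (iv F61350) F61348
theorem F61355 : act 4 n28704 = n24820 := d18_1 D28704 (iv D24820) (iv F50441)
theorem F61356 : act 6 n28704 = n28692 := d20_2 D24817 D28704 (iv F61322) D28693 (iv F61350) (iv D28702) (iv F50437)
def n28705 : Q := act 1 n24818
theorem D28705 : act 1 n24818 = n28705 := rfl
def n28706 : Q := act 0 n24819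
theorem D28706 : act 0 n24819 = n28706 := rfl
def n28707 : Q := act 5 n24819
theorem D28707 : act 5 n24819 = n28707 := rfl
def n28708 : Q := act 1 n24820
theorem D28708 : act 1 n24820 = n28708 := rfl
def n28709 : Q := act 1 n24821
theorem D28709 : act 1 n24821 = n28709 := rfl
theorem F61357 : act 3 n28709 = n25052 := d7_2 (iv F50447) D28709 (iv D25052)
theorem F61358 : act 4 n28709 = n24823 := d8_2 (iv F50448) D28709 (iv D24823)
theorem F61359 : act 6 n28709 = n25770 := d10_2 D24821 D28709 F53945 (iv D24924) F38806
theorem F61360 : act 2 n27973 = n28045 := d25_19 (iv F26687) (iv F38678) (iv F50440) (iv F61348) F61347 D28709 F61357 F53934 (iv D26192) (iv D21731) (iv F28441) (iv F40999) (iv F52189) F52190 F48493 D24054 F48499 D24056 D27973 F59393 (iv D24118) (iv D19786) (iv F37151) D24032 F49819 F49817 (iv F45539) F45538 F37935 (iv F29221) (iv F25499) F25500 (iv F25536) (iv F37530) (iv F48931) (iv F56202) (iv F56206) (iv D26549) F42856 D22044 F42861 (iv F40378) F40377 (iv F40369) F40368 D22399 F43807 F30046 (iv F37569) F37568 (iv D15627)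 F21011 (iv F20992) F20991 F20992 (iv F20853) (iv F34469) F34470 F34098 (iv F34383) F25736 (iv F22385) F22386 (iv F22377) (iv F30294) (iv F44113) F49265 F49264 (iv D23625) (iv F47128) F47127 (iv D20731) (iv F39343) F39342 F35850 F35506 (iv D15335)
theorem F61361 : act 1 n28061 = n27991 := d6_3 F61360 F59393 D28061 (iv D27991) (iv F59177)
theorem F61362 : act 2 n27458 = n27370 := d12_3 (iv F59178) F61360 F59394
theorem E10381 : n28041 = n27968 := (c21_7 D24056 D27973 F61360 (iv D28045) (iv D24107) (iv F48620) D28041 F59168 (iv D24055))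
theorem F61363 : act 2 n27968 = n24105 := (sb E10381 (iv D28041))
theorem E10382 : n28040 = n27969 := (c21_9 (iv D27969) F48499 D24056 D27973 F61360 (iv D28045) (iv D24107) (iv F48620) D28040)
theorem F61364 : act 0 n27969 = n24105 := (sb E10382 (iv D28040))
theorem F61365 : act 1 n27969 = n28248 := (sb E10382 (iv F60025))
theorem F61366 : act 3 n27969 = n24106 := (sb E10382 F59384)
theorem F61367 : act 2 n28248 = n27966 := d6_2 D27969 F61365 (iv D27966) F48493 D24054
theorem F61368 : act 5 n27966 = n28260 := d13_2 (iv F60026) F61367 (iv D28260)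
theorem F61369 : act 1 n28260 = n27965 := d9_1 F61368 (iv D27965) (iv D24051) D24052 D27966
theorem F61370 : act 2 n28038 = n28225 := d6_4 F61363 (iv D24105) (iv F48614) D28038 F59937
theorem F61371 : act 6 n28238 = n28038 := d14_0 F61370 F59938 D28238
theorem F61372 : act 1 n28037 = n28238 := d10_5 F61371 (iv D28038) (iv D24103) D24102 D28037
theorem F61373 : act 1 n27388 = n27471 := d6_3 F61362 F57466 D27388 (iv D27471) (iv F57696)
theorem E10383 : n27443 = n27355 := ((c21_7 D23308 D27458 F61362 (iv D27370) (iv D23234) (iv F46168) D27355 F57660 (iv D23307))).symm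
theorem F61374 : act 0 n27355 = n23301 := (sb E10383 (iv D27443))
theorem F61375 : act 3 n27355 = n23307 := (sb E10383 F57660)
theorem E10384 : n27444 = n27354 := ((c21_9 (iv D27444) F46348 D23308 D27458 F61362 (iv D27370) (iv D23234) (iv F46168) D27354)).symm
theorem F61376 : act 2 n27354 = n23301 := (sb E10384 (iv D27444))
theorem E10385 : n28165 = n11309 := (c24_12 D26444 (iv F57734) (iv F61373) (iv F57521) (iv D26458) (iv D21904) F28669 F21762 D14555 D19824 D24191 D28165 (iv F21751) (iv F28650) D21897)
theorem E10386 : n24191 = n14550 := (((D14550).symm.trans (sb E10385 (iv D28165)))).symm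
theorem E10388 : n24190 = n19815 := (((D19815).symm.trans (sb E10386 F48808))).symm
theorem E10389 : n28163 = n19816 := (((D19816).symm.trans (sb E10386 (iv F59713)))).symm
theorem E10390 : n23499 = n13807 := (((F32993).symm.trans (sb E10386 F48810))).symm
theorem E10391 : n19824 = n19817 := (((D19817).symm.trans (sb E10386 (iv D24191)))).symm
theorem E10392 : n24184 = n19818 := (((D19818).symm.trans (sb E10386 F48811))).symm
theorem E10394 : n28162 = n24170 := (((D24170).symm.trans (sb E10388 (iv F59710)))).symm
theorem E10395 : n23498 = n18993 := (((F37394).symm.trans (sb E10388 F48806))).symm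
theorem E10397 : n24172 = n19823 := ((D24172).symm.trans (sb E10388 (iv D24190)))
theorem E10398 : n24189 = n24175 := (((D24175).symm.trans (sb E10389 (iv D28163)))).symm
theorem E10399 : n28152 = n24176 := (((D24176).symm.trans (sb E10389 F59714))).symm
theorem E10400 : n27707 = n18994 := (((D18994).symm.trans (sb E10390 (iv F58290)))).symm
theorem E10401 : n19016 = n18995 := (((D18995).symm.trans (sb E10390 (iv D23499)))).symm
theorem E10402 : n23492 = n18996 := (((D18996).symm.trans (sb E10390 F46795))).symm
theorem E10403 : n24177 = n14555 := ((D24177).symm.trans (sb E10391 (iv D19824)))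
theorem E10405 : n24178 = n19821 := ((D24178).symm.trans (sb E10392 (iv D24184)))
theorem E10408 : n28132 = n24188 := ((D28132).symm.trans (sb E10394 (iv D28162)))
theorem E10409 : n27706 = n23467 := (((D23467).symm.trans (sb E10395 (iv F58287)))).symm
theorem E10410 : n23493 = n23468 := (((D23468).symm.trans (sb E10395 F46792))).symm
theorem E10411 : n23469 = n19015 := ((D23469).symm.trans (sb E10395 (iv D23498)))
theorem F61377 : act 0 n19823 = n19818 := (sb E10397 F48765)
theorem F61378 : act 6 n19823 = n19815 := (sb E10397 (iv D24172))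
theorem E10414 : n28159 = n28137 := ((((iv F59650)).symm.trans (sb E10398 (iv F59704)))).symm
theorem E10415 : n28161 = n28139 := ((((iv F59654)).symm.trans (sb E10398 (iv F59709)))).symm
theorem E10416 : n28141 = n19822 := ((D28141).symm.trans (sb E10398 (iv D24189)))
theorem E10417 : n28142 = n24183 := ((D28142).symm.trans (sb E10399 (iv D28152)))
theorem E10418 : n23497 = n23472 := (((D23472).symm.trans (sb E10400 (iv D27707)))).symm
theorem E10419 : n27696 = n23473 := (((D23473).symm.trans (sb E10400 F58291))).symm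
theorem E10420 : n23474 = n13821 := ((D23474).symm.trans (sb E10401 (iv D19016)))
theorem E10421 : n27698 = n23461 := ((((iv F46713)).symm.trans (sb E10402 D27698))).symm
theorem E10422 : n23475 = n19013 := ((D23475).symm.trans (sb E10402 (iv D23492)))
theorem F61379 : act 6 n14555 = n19817 := (sb E10403 (iv D24177))
theorem F61380 : act 5 n19821 = n19818 := (sb E10405 (iv D24178))
theorem F61381 : act 6 n19821 = n24171 := (sb E10405 F48780)
theorem F61382 : act 0 n24188 = n24176 := (sb E10408 F59642)
theorem F61383 : act 6 n24188 = n24170 := (sb E10408 (iv D28132))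
theorem E10426 : n27657 = n23496 := ((D27657).symm.trans (sb E10409 (iv D27706)))
theorem E10427 : n27699 = n27658 := (((D27658).symm.trans (sb E10410 D27699))).symm
theorem F61384 : act 0 n19015 = n18996 := (sb E10411 F46727)
theorem E10428 : n27659 = n23484 := ((((iv F46764)).symm.trans (sb E10411 D27659))).symm
theorem F61385 : act 6 n19015 = n18993 := (sb E10411 (iv D23469))
theorem F61386 : act 6 n28137 = n24186 := (sb E10414 (iv D28159))
theorem E10429 : n27705 = n27664 := (((F59653).symm.trans (sb E10415 F59708))).symm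
theorem F61387 : act 6 n28139 = n24187 := (sb E10415 (iv D28161))
theorem F61388 : act 6 n19822 = n24175 := (sb E10416 (iv D28141))
theorem F61389 : act 5 n24183 = n24176 := (sb E10417 (iv D28142))
theorem F61390 : act 6 n24183 = n28131 := (sb E10417 F59661)
theorem E10430 : n27703 = n27662 := ((((iv F58182)).symm.trans (sb E10418 (iv F58283)))).symm
theorem E10431 : n27666 = n19014 := ((D27666).symm.trans (sb E10418 (iv D23497)))
theorem E10432 : n27667 = n23491 := ((D27667).symm.trans (sb E10419 (iv D27696)))
theorem F61391 : act 6 n13821 = n18995 := (sb E10420 (iv D23474))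
theorem E10434 : n27643 = n25560 := ((D27643).symm.trans (sb E10421 (iv F58276)))
theorem F61392 : act 5 n19013 = n18996 := (sb E10422 (iv D23475))
theorem F61393 : act 6 n19013 = n23468 := (sb E10422 F46738)
theorem F61394 : act 0 n23496 = n23473 := (sb E10426 F58162)
theorem F61395 : act 6 n23496 = n23467 := (sb E10426 (iv D27657))
theorem F61396 : act 6 n27658 = n25591 := (sb E10427 (iv F58277))
theorem E10436 : n27682 = n25502 := ((D27682).symm.trans (sb E10428 (iv F58177)))
theorem F61397 : act 6 n27664 = n23495 := (sb E10429 (iv D27705))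
theorem F61398 : act 6 n27662 = n23494 := (sb E10430 (iv D27703))
theorem F61399 : act 6 n19014 = n23472 := (sb E10431 (iv D27666))
theorem F61400 : act 5 n23491 = n23473 := (sb E10432 (iv D27667))
theorem F61401 : act 6 n23491 = n27656 := (sb E10432 F58191)
theorem F61402 : act 0 n25560 = n27642 := (sb E10434 F58143)
theorem F61403 : act 2 n25560 = n27688 := (sb E10434 (iv F58253))
theorem F61404 : act 4 n25560 = n26454 := (sb E10434 F58144)
theorem F61405 : act 5 n25560 = n23461 := (sb E10434 (iv D27643))
theorem F61406 : act 6 n25560 = n27637 := (sb E10434 F58145)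
theorem F61407 : act 0 n25502 = n27683 := (sb E10436 (iv F58238))
theorem F61408 : act 2 n25502 = n27647 := (sb E10436 F58235)
theorem F61409 : act 4 n25502 = n26468 := (sb E10436 F58236)
theorem F61410 : act 5 n25502 = n27678 := (sb E10436 F58237)
theorem F61411 : act 6 n25502 = n23484 := (sb E10436 (iv D27682))
theorem F61412 : act 1 n26468 = n25504 := d8_1 F61409 (iv D25504) D25502
theorem F61413 : act 1 n27647 = n25492 := d6_1 F61408 (iv D25492) F41117 D21267 D25502
theorem F61414 : act 1 n26454 = n25562 := d8_1 F61404 (iv D25562) D25560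
theorem F61415 : act 1 n27688 = n25550 := d6_1 F61403 (iv D25550) F41202 D21306 D25560
theorem F61416 : act 5 n27663 = n27694 := d13_2 F61400 (iv F58183) (iv D27694)
theorem F61417 : act 5 n27665 = n27695 := d18_2 F61400 (iv F58186) (iv D27695)
theorem F61418 : act 0 n27704 = n27665 := d4_3 F61417 F58259 D27704
theorem F61419 : act 5 n28151 = n28140 := d16_2 F61417 (iv F59692) F59655
theorem F61420 : act 0 n28140 = n28160 := d4_1 F61419 (iv D28160) (iv F59689)
theorem F61421 : act 6 n28160 = n28130 := d5_2 D28140 F61420 F59636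
theorem F61422 : act 6 n27655 = n27704 := d17_2 F61421 F59639 (iv F59705)
theorem F61423 : act 0 n27702 = n27663 := d4_3 F61416 F58258 D27702
theorem F61424 : act 6 n27654 = n27702 := d5_0 F61423 (iv D27663) (iv F58158)
theorem F61425 : act 5 n28138 = n28150 := d13_2 F61389 (iv F59651) (iv D28150)
theorem F61426 : act 0 n28158 = n28138 := d4_3 F61425 F59686 D28158
theorem F61427 : act 6 n28129 = n28158 := d5_0 F61426 (iv D28138) (iv F59633)
theorem F61428 : act 0 n27500 = n28709 := d5_3 F61359 (iv F53961) (iv F57808)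
theorem F61429 : act 2 n25765 = n28709 := d14_3 F61359 (iv D25770) (iv F52870)
def n28710 : Q := act 1 n24822
theorem D28710 : act 1 n24822 = n28710 := rfl
theorem F61430 : act 3 n28710 = n25055 := d7_2 (iv F50451) D28710 (iv D25055)
theorem F61431 : act 4 n28710 = n24824 := d8_2 (iv F50452) D28710 (iv D24824)
def n28711 : Q := act 0 n24823
theorem D28711 : act 0 n24823 = n28711 := rfl
theorem F61432 : act 3 n28711 = n24825 := d2_2 (iv F50454) D28711 (iv D24825)
theorem F61433 : act 4 n28711 = n27500 := d3_2 F61358 D28711 F61428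
theorem F61434 : act 1 n27489 = n28711 := d8_3 F61433 (iv D27500) (iv F57778)
def n28712 : Q := act 2 n24823
theorem D28712 : act 2 n24823 = n28712 := rfl
theorem F61435 : act 4 n28712 = n25765 := d12_2 F61358 D28712 F61429
theorem F61436 : act 6 n28712 = n25771 := d14_2 F50668 D28712 F53947
def n28713 : Q := act 0 n24824
theorem D28713 : act 0 n24824 = n28713 := rfl
theorem F61437 : act 3 n28713 = n24827 := d2_2 (iv F50455) D28713 (iv D24827)
theorem F61438 : act 2 n28713 = n28022 := d21_0 F59337 (iv D27017) F44905 D22794 (iv F49489) F49488 (iv F50455) D28713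
theorem F61439 : act 1 n28024 = n28713 := d6_5 F61438 (iv D28022) F48593 D24094 D28024
def n28714 : Q := act 2 n24824
theorem D28714 : act 2 n24824 = n28714 := rfl
theorem F61440 : act 0 n28714 = n28022 := d1_1 D28714 (iv F61438) (iv D28713)
def n28715 : Q := act 6 n24824
theorem D28715 : act 6 n24824 = n28715 := rfl
theorem F61441 : act 1 n28715 = n28595 := d10_1 D28715 (iv D28595) (iv F50231) (iv F38684) D24824
theorem F61442 : act 3 n28715 = n24828 := d17_1 D28715 (iv D24828) (iv F50455)
def n28716 : Q := act 5 n24828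
theorem D28716 : act 5 n24828 = n28716 := rfl
theorem F61443 : act 0 n28716 = n28277 := d4_1 D28716 (iv F60596) F60593
theorem F61444 : act 1 n28716 = n26054 := d9_1 D28716 F53561 F50498 (iv F50429) (iv F50460)
theorem F61445 : act 2 n28716 = n28206 := d13_1 D28716 (iv F60143) F60140
theorem F61446 : act 4 n28716 = n25059 := d18_1 D28716 (iv D25059) (iv F50461)
theorem F61447 : act 6 n28716 = n28274 := d20_2 D24828 D28716 F60124 (iv F60597) F60596 (iv D28277) F49483
def n28717 : Q := act 6 n24829
theorem D28717 : act 6 n24829 = n28717 := rfl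
theorem F61448 : act 2 n28717 = n27998 := d14_1 D28717 F59268 F57796
theorem F61449 : act 4 n28717 = n25063 := d19_1 D28717 (iv D25063) (iv F50462)
theorem F61450 : act 5 n28717 = n25827 := d22_2 D24829 D28717 F53006 F48528
def n28718 : Q := act 5 n24830
theorem D28718 : act 5 n24830 = n28718 := rfl
theorem F61451 : act 0 n28718 = n28717 := d4_1 D28718 F61450 (iv F53007)
theorem F61452 : act 1 n28718 = n27719 := d9_1 D28718 (iv D27719) D27718 F59129 F59126
theorem F61453 : act 2 n28718 = n27997 := d13_1 D28718 F59263 (iv F57418)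
theorem F61454 : act 4 n28718 = n25064 := d18_1 D28718 (iv D25064) (iv F50463)
theorem F61455 : act 6 n28718 = n27993 := d20_2 D24830 D28718 (iv D27993) (iv F53006) (iv F61450) (iv D28717) (iv D24829)
def n28719 : Q := act 2 n24831
theorem D28719 : act 2 n24831 = n28719 := rfl
theorem F61456 : act 0 n28719 = n26849 := d1_1 D28719 (iv F60519) F60518
theorem F61457 : act 4 n28719 = n25065 := d12_2 (iv F50464) D28719 (iv D25065)
theorem F61458 : act 6 n28719 = n26348 := d14_2 (iv F50465) D28719 (iv D26348)
theorem F61459 : act 3 n28719 = n26848 := d21_3 (iv F55308) F54335 D28719 (iv D26848) (iv D22499) (iv F43347) D26681 F55281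
theorem F61460 : act 5 n26891 = n28719 := d16_0 F61459 F55828 (iv F55973)
def n28720 : Q := act 5 n24831
theorem D28720 : act 5 n24831 = n28720 := rfl
theorem F61461 : act 0 n28720 = n28630 := d4_1 D28720 F61116 F60518
theorem F61462 : act 1 n28720 = n27721 := d9_1 D28720 F58335 (iv D24826) (iv F38697) D24831
theorem F61463 : act 2 n28720 = n26891 := d13_1 D28720 F61460 (iv D28719)
theorem F61464 : act 4 n28720 = n25066 := d18_1 D28720 (iv D25066) (iv F50464)
theorem F61465 : act 6 n28720 = n26890 := d20_2 (iv F50465) D28720 F55972 (iv F60521) (iv F61116) F61117 (iv D26349)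
def n28721 : Q := act 2 n24832
theorem D28721 : act 2 n24832 = n28721 := rfl
theorem F61466 : act 0 n28721 = n27527 := d1_1 D28721 (iv F59248) F59246
theorem F61467 : act 4 n28721 = n24837 := d12_2 (iv F50467) D28721 (iv D24837)
def n28722 : Q := act 6 n24832
theorem D28722 : act 6 n24832 = n28722 := rfl
theorem F61468 : act 3 n28722 = n25073 := d17_1 D28722 (iv D25073) (iv F50466)
theorem F61469 : act 4 n28722 = n24839 := d19_1 D28722 (iv D24839) (iv F50467)
def n28723 : Q := act 1 n24833
theorem D28723 : act 1 n24833 = n28723 := rfl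
theorem F61470 : act 4 n28723 = n24840 := d8_2 (iv F50469) D28723 (iv D24840)
def n28724 : Q := act 3 n24833
theorem D28724 : act 3 n24833 = n28724 := rfl
theorem F61471 : act 0 n28724 = n24834 := d2_1 D28724 (iv D24834) (iv F50468)
theorem F61472 : act 5 n28724 = n27941 := d16_2 F57785 D28724 F59096
def n28725 : Q := act 2 n24834
theorem D28725 : act 2 n24834 = n28725 := rfl
def n28726 : Q := act 4 n24834
theorem D28726 : act 4 n24834 = n28726 := rfl
theorem F61473 : act 3 n28726 = n24844 := d15_1 D28726 (iv D24844) (iv D20400) (iv F38700) D24834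
def n28727 : Q := act 5 n24834
theorem D28727 : act 5 n24834 = n28727 := rfl
theorem F61474 : act 0 n28727 = n27941 := d4_1 D28727 (iv F61472) F61471
theorem F61475 : act 3 n28727 = n24835 := d16_1 D28727 (iv D24835) D24834
def n28728 : Q := act 1 n24835
theorem D28728 : act 1 n24835 = n28728 := rfl
theorem F61476 : act 2 n28728 = n26042 := d6_2 (iv F50470) D28728 (iv D26042) F41864 (iv F38701)
theorem F61477 : act 4 n28728 = n24846 := d8_2 (iv F50471) D28728 (iv D24846)
def n28729 : Q := act 6 n24835
theorem D28729 : act 6 n24835 = n28729 := rfl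
theorem F61478 : act 0 n28729 = n25106 := d5_1 D28729 (iv F57786) F57782
theorem F61479 : act 2 n28729 = n24836 := d14_1 D28729 (iv D24836) (iv F50470)
theorem F61480 : act 4 n28729 = n24847 := d19_1 D28729 (iv D24847) (iv F50471)
theorem F61481 : act 5 n28729 = n28608 := d20_1 D28729 F61057 (iv F57785) F57786 F51275 F50243 D24835
def n28730 : Q := act 1 n24836
theorem D28730 : act 1 n24836 = n28730 := rfl
theorem F61482 : act 3 n28730 = n25076 := d7_2 (iv F50473) D28730 (iv D25076)
theorem F61483 : act 4 n28730 = n24848 := d8_2 (iv F50474) D28730 (iv D24848)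
theorem F61484 : act 6 n28730 = n26047 := d10_2 D24836 D28730 (iv D26047) (iv D21626) (iv F38701)
theorem F61485 : act 0 n27314 = n28730 := d2_3 F61482 (iv F51170) (iv F57325)
def n28731 : Q := act 1 n24837
theorem D28731 : act 1 n24837 = n28731 := rfl
theorem F61486 : act 2 n28731 = n24840 := d6_2 D24837 D28731 (iv D24840) (iv D20398) D20397
def n28732 : Q := act 5 n24837
theorem D28732 : act 5 n24837 = n28732 := rfl
theorem F61487 : act 0 n28732 = n27528 := d4_1 D28732 (iv D27528) (iv F50476)
theorem F61488 : act 2 n28732 = n24838 := d13_1 D28732 (iv D24838) D24837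
def n28733 : Q := act 6 n24837
theorem D28733 : act 6 n24837 = n28733 := rfl
theorem F61489 : act 0 n28733 = n27529 := d5_1 D28733 (iv D27529) (iv F50476)
theorem F61490 : act 2 n28733 = n24839 := d14_1 D28733 (iv D24839) D24837
def n28734 : Q := act 6 n24838
theorem D28734 : act 6 n24838 = n28734 := rfl
theorem F61491 : act 0 n28734 = n27944 := d5_1 D28734 (iv F59253) F59250
theorem F61492 : act 3 n28734 = n24849 := d17_1 D28734 (iv D24849) (iv F50478)
theorem F61493 : act 5 n28734 = n27996 := d20_1 D28734 (iv D27996) D27995 F59253 F59104 (iv D24839) D24838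
def n28735 : Q := act 0 n24840
theorem D28735 : act 0 n24840 = n28735 := rfl
def n28736 : Q := act 3 n24840
theorem D28736 : act 3 n24840 = n28736 := rfl
theorem F61494 : act 1 n28736 = n24841 := d7_1 D28736 (iv D24841) D24840
def n28737 : Q := act 5 n24840
theorem D28737 : act 5 n24840 = n28737 := rfl
def n28738 : Q := act 6 n24840
theorem D28738 : act 6 n24840 = n28738 := rfl
def n28739 : Q := act 4 n24841
theorem D28739 : act 4 n24841 = n28739 := rfl
theorem F61495 : act 0 n28739 = n24844 := d3_1 D28739 (iv D24844) (iv F50480)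
theorem F61496 : act 2 n28739 = n24895 := d12_1 D28739 (iv D24895) (iv F50481)
def n28740 : Q := act 1 n24843
theorem D28740 : act 1 n24843 = n28740 := rfl
theorem F61497 : act 3 n28740 = n24893 := d7_2 (iv F50486) D28740 (iv D24893)
def n28741 : Q := act 4 n24843
theorem D28741 : act 4 n24843 = n28741 := rfl
theorem F61498 : act 0 n28741 = n24895 := d3_1 D28741 (iv D24895) (iv F50485)
theorem F61499 : act 2 n28741 = n24844 := d12_1 D28741 (iv D24844) D24843
def n28742 : Q := act 5 n24844
theorem D28742 : act 5 n24844 = n28742 := rfl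
theorem F61500 : act 4 n28742 = n24845 := d18_1 D28742 (iv D24845) D24844
def n28743 : Q := act 1 n24845
theorem D28743 : act 1 n24845 = n28743 := rfl
theorem F61501 : act 3 n28743 = n24846 := d7_2 (iv F50487) D28743 (iv D24846)
def n28744 : Q := act 6 n24845
theorem D28744 : act 6 n24845 = n28744 := rfl
theorem F61502 : act 0 n28744 = n28618 := d5_1 D28744 F61232 F61229
theorem F61503 : act 3 n28744 = n24847 := d17_1 D28744 (iv D24847) (iv F50487)
theorem F61504 : act 5 n28744 = n28615 := d20_1 D28744 F61067 (iv F61231) (iv F61232) (iv D28618) F50249 D24845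
def n28745 : Q := act 6 n24846
theorem D28745 : act 6 n24846 = n28745 := rfl
theorem F61505 : act 2 n28745 = n26045 := d14_1 D28745 (iv D26045) (iv F50488)
def n28746 : Q := act 1 n24847
theorem D28746 : act 1 n24847 = n28746 := rfl
def n28747 : Q := act 0 n24848
theorem D28747 : act 0 n24848 = n28747 := rfl
theorem F61507 : act 1 n28747 = n27312 := d0_2 D24848 D28747 F57320 F51913 (iv F51970) F61079 (iv D28620) (iv D24736) (iv F38710)
theorem F61508 : act 3 n28747 = n24850 := d2_2 (iv F50492) D28747 (iv D24850)
theorem F61509 : act 4 n28747 = n27314 := d3_2 F61483 D28747 F61485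
theorem F61510 : act 6 n28747 = n26048 := d5_2 (iv F50493) D28747 (iv D26048)
def n28748 : Q := act 2 n24848
theorem D28748 : act 2 n24848 = n28748 := rfl
theorem F61511 : act 6 n28748 = n26049 := d14_2 (iv F50493) D28748 (iv D26049)
def n28749 : Q := act 5 n24848
theorem D28749 : act 5 n24848 = n28749 := rfl
theorem F61512 : act 1 n28749 = n28613 := d9_1 D28749 (iv D28613) (iv D24732) (iv F38712) D24848
theorem F61513 : act 3 n28749 = n24852 := d16_1 D28749 (iv D24852) (iv F50492)
def n28750 : Q := act 2 n24850
theorem D28750 : act 2 n24850 = n28750 := rfl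
theorem F61514 : act 0 n28750 = n24851 := d1_1 D28750 (iv D24851) D24850
theorem F61515 : act 1 n28750 = n27835 := d6_1 D28750 F58786 F47850 (iv F46868) (iv F50498)
theorem F61516 : act 4 n28750 = n25079 := d12_2 (iv F50499) D28750 (iv D25079)
theorem F61517 : act 6 n28750 = n26051 := d14_2 (iv F50500) D28750 (iv D26051)
def n28751 : Q := act 5 n24851
theorem D28751 : act 5 n24851 = n28751 := rfl
theorem F61518 : act 1 n28751 = n27013 := d9_1 D28751 (iv F60108) (iv F61289) (iv D28684) (iv F50501)
theorem F61519 : act 2 n28751 = n24852 := d13_1 D28751 (iv D24852) D24851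
theorem F61520 : act 3 n28751 = n27012 := d16_1 D28751 F56500 (iv F56499)
theorem F61521 : act 4 n28751 = n25081 := d18_1 D28751 (iv D25081) (iv F50502)
def n28752 : Q := act 1 n24853
theorem D28752 : act 1 n24853 = n28752 := rfl
theorem F61522 : act 3 n28752 = n24854 := d7_2 (iv F50508) D28752 (iv D24854)
theorem F61523 : act 4 n28752 = n27557 := d8_2 (iv F50509) D28752 (iv D27557)
theorem F61524 : act 5 n28752 = n24862 := d9_2 D24853 D28752 (iv D24862) (iv D20410) (iv F38720)
def n28753 : Q := act 5 n24855
theorem D28753 : act 5 n24855 = n28753 := rfl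
theorem F61525 : act 2 n28753 = n27093 := d13_1 D28753 (iv D27093) (iv F50514)
theorem F61526 : act 3 n28753 = n27197 := d16_1 D28753 F56994 F56911
theorem F61527 : act 6 n28753 = n27195 := d22_1 D28753 (iv D27195) (iv F56915) F56912
def n28754 : Q := act 4 n24856
theorem D28754 : act 4 n24856 = n28754 := rfl
theorem F61528 : act 0 n28754 = n24865 := d3_1 D28754 (iv D24865) (iv F50515)
theorem F61529 : act 1 n28754 = n28240 := d8_1 D28754 F59992 F56909
theorem F61530 : act 2 n28754 = n24865 := d12_1 D28754 (iv D24865) (iv F50516)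
theorem F61531 : act 6 n24856 = n28754 := d14_0 F61530 F50543 (iv F50516)
theorem F61532 : act 3 n24859 = n28754 := d21_1 (iv F50522) F61530 F50542 F38738 F26337 F20537 (iv F26337) (iv F38731)
def n28755 : Q := act 5 n24856
theorem D28755 : act 5 n24856 = n28755 := rfl
theorem F61533 : act 0 n28755 = n24866 := d4_1 D28755 (iv D24866) (iv F50515)
theorem F61534 : act 2 n28755 = n24866 := d13_1 D28755 (iv D24866) (iv F50516)
theorem F61535 : act 3 n28755 = n24858 := d16_1 D28755 (iv D24858) D24856
def n28756 : Q := act 3 n24857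
theorem D28756 : act 3 n24857 = n28756 := rfl
theorem F61536 : act 0 n28756 = n24868 := d2_1 D28756 (iv D24868) (iv F50517)
theorem F61537 : act 1 n28756 = n28387 := d7_1 D28756 (iv F60675) F60673
theorem F61538 : act 2 n28756 = n24861 := d11_1 D28756 F50527 F39327 (iv D20721) F26747 (iv F26335) (iv F38736) D24868 F50539 F38741 (iv F35355) (iv F39310) F39309 (iv F38728) (iv F50518)
theorem F61539 : act 4 n28756 = n24859 := d15_2 D24857 D28756 F61532 (iv D28754) (iv D24856)
theorem F61540 : act 6 n24857 = n28756 := d19_0 F61539 (iv D24859) D24857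
def n28757 : Q := act 5 n24857
theorem D28757 : act 5 n24857 = n28757 := rfl
theorem F61541 : act 0 n28757 = n24869 := d4_1 D28757 (iv D24869) (iv F50517)
theorem F61542 : act 2 n28757 = n24860 := d13_1 D28757 (iv D24860) (iv F50518)
theorem F61543 : act 4 n28757 = n24858 := d18_1 D28757 (iv D24858) D24857
def n28758 : Q := act 1 n24858
theorem D28758 : act 1 n24858 = n28758 := rfl
def n28759 : Q := act 1 n24860
theorem D28759 : act 1 n24860 = n28759 := rfl
theorem F61544 : act 3 n28759 = n25083 := d7_2 (iv F50524) D28759 (iv D25083)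
theorem F61545 : act 4 n28759 = n24862 := d8_2 (iv F50525) D28759 (iv D24862)
theorem F61546 : act 5 n28759 = n27557 := d9_2 D24860 D28759 (iv D27557) F46584 (iv F46572)
theorem F61547 : act 6 n28259 = n28759 := d19_0 F61545 (iv F50530) (iv F60072)
def n28760 : Q := act 0 n24862
theorem D28760 : act 0 n24862 = n28760 := rfl
theorem F61548 : act 3 n28760 = n24863 := d2_2 (iv F50529) D28760 (iv D24863)
theorem F61549 : act 6 n28760 = n28254 := d5_2 F50530 D28760 F60051
def n28761 : Q := act 2 n24862
theorem D28761 : act 2 n24862 = n28761 := rfl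
theorem F61550 : act 6 n28761 = n28260 := d14_2 F50530 D28761 (iv D28260)
def n28762 : Q := act 1 n24863
theorem D28762 : act 1 n24863 = n28762 := rfl
theorem F61551 : act 0 n28762 = n27714 := d0_1 D28762 (iv F58408) F58407 (iv D24878) (iv D20422) (iv D15116) (iv F26328) D20412 D24863
theorem F61552 : act 2 n28762 = n26229 := d6_2 (iv F50531) D28762 (iv D26229) (iv F54006) F54005
theorem F61553 : act 4 n28762 = n25084 := d8_2 (iv F50532) D28762 (iv D25084)
theorem F61554 : act 5 n28762 = n28019 := d9_2 F60031 D28762 F59328 (iv F54267) (iv F60028)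
theorem F61555 : act 6 n28762 = n26229 := d10_2 (iv F50533) D28762 (iv D26229) (iv F42185) (iv F49348)
def n28763 : Q := act 5 n24865
theorem D28763 : act 5 n24865 = n28763 := rfl
theorem F61556 : act 3 n28763 = n24873 := d16_1 D28763 (iv D24873) (iv F50542)
theorem F61557 : act 4 n28763 = n24866 := d18_1 D28763 (iv D24866) D24865
theorem F61558 : act 6 n28763 = n28755 := d22_1 D28763 (iv D28755) F61531 F61528
def n28764 : Q := act 1 n24866
theorem D28764 : act 1 n24866 = n28764 := rfl
theorem F61559 : act 3 n28764 = n24870 := d7_2 (iv F50537) D28764 (iv D24870)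
def n28765 : Q := act 6 n24866
theorem D28765 : act 6 n24866 = n28765 := rfl
theorem F61560 : act 0 n28765 = n28763 := d5_1 D28765 F61558 F61533
theorem F61561 : act 2 n28765 = n28763 := d14_1 D28765 F61558 F61534
theorem F61562 : act 3 n28765 = n24871 := d17_1 D28765 (iv D24871) (iv F50537)
theorem F61563 : act 4 n28765 = n28755 := d19_1 D28765 (iv F61558) F61557
theorem F61564 : act 5 n28765 = n28754 := d20_1 D28765 (iv F61531) D28755 (iv F61558) (iv D28763) F50543 D24866
def n28766 : Q := act 5 n24868
theorem D28766 : act 5 n24868 = n28766 := rfl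
theorem F61565 : act 2 n28766 = n24875 := d13_1 D28766 (iv D24875) (iv F50539)
theorem F61566 : act 3 n28766 = n24869 := d16_1 D28766 (iv D24869) D24868
theorem F61567 : act 4 n28766 = n24873 := d18_1 D28766 (iv D24873) F50540
theorem F61568 : act 6 n28766 = n28757 := d22_1 D28766 (iv D28757) F61540 F61536
def n28767 : Q := act 1 n24869
theorem D28767 : act 1 n24869 = n28767 := rfl
theorem F61569 : act 4 n28767 = n24870 := d8_2 (iv F50545) D28767 (iv D24870)
def n28768 : Q := act 6 n24869
theorem D28768 : act 6 n24869 = n28768 := rfl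
theorem F61570 : act 0 n28768 = n28766 := d5_1 D28768 F61568 F61541
theorem F61571 : act 2 n28768 = n24874 := d14_1 D28768 (iv D24874) (iv F50544)
theorem F61572 : act 3 n28768 = n28757 := d17_1 D28768 (iv F61568) F61566
theorem F61573 : act 4 n28768 = n24871 := d19_1 D28768 (iv D24871) (iv F50545)
theorem F61574 : act 5 n28768 = n28756 := d20_1 D28768 (iv F61540) D28757 (iv F61568) (iv D28766) (iv F50541) D24869
def n28769 : Q := act 0 n24870
theorem D28769 : act 0 n24870 = n28769 := rfl
def n28770 : Q := act 6 n24870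
theorem D28770 : act 6 n24870 = n28770 := rfl
def n28771 : Q := act 1 n24871
theorem D28771 : act 1 n24871 = n28771 := rfl
def n28772 : Q := act 1 n24873
theorem D28772 : act 1 n24873 = n28772 := rfl
def n28773 : Q := act 1 n24874
theorem D28773 : act 1 n24874 = n28773 := rfl
theorem F61575 : act 3 n28773 = n25088 := d7_2 (iv F50551) D28773 (iv D25088)
theorem F61576 : act 4 n28773 = n24876 := d8_2 (iv F50552) D28773 (iv D24876)
def n28774 : Q := act 1 n24875
theorem D28774 : act 1 n24875 = n28774 := rfl
theorem F61577 : act 3 n28774 = n25089 := d7_2 (iv F50555) D28774 (iv D25089)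
theorem F61578 : act 4 n28774 = n24877 := d8_2 (iv F50556) D28774 (iv D24877)
theorem F61579 : act 5 n28774 = n25666 := d9_2 D24875 D28774 F53353 (iv D24954) F38848
theorem F61580 : act 0 n27576 = n28774 := d4_3 F61579 (iv F53369) (iv F57984)
theorem F61581 : act 2 n25661 = n28774 := d13_3 F61579 (iv D25666) (iv F52671)
def n28775 : Q := act 0 n24876
theorem D28775 : act 0 n24876 = n28775 := rfl
theorem F61582 : act 3 n28775 = n24879 := d2_2 (iv F50558) D28775 (iv D24879)
theorem F61583 : act 2 n28775 = n27950 := d21_0 F59121 (iv D27021) F44915 D22800 (iv F49569) F49568 (iv F50558) D28775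
theorem F61584 : act 1 n27952 = n28775 := d6_5 F61583 (iv D27950) F48467 D24042 D27952
def n28776 : Q := act 2 n24876
theorem D28776 : act 2 n24876 = n28776 := rfl
theorem F61585 : act 0 n28776 = n27950 := d1_1 D28776 (iv F61583) (iv D28775)
def n28777 : Q := act 5 n24876
theorem D28777 : act 5 n24876 = n28777 := rfl
theorem F61586 : act 1 n28777 = n28652 := d9_1 D28777 (iv D28652) (iv F50337) (iv F38744) D24876
theorem F61587 : act 3 n28777 = n24880 := d16_1 D28777 (iv D24880) (iv F50558)
def n28778 : Q := act 0 n24877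
theorem D28778 : act 0 n24877 = n28778 := rfl
theorem F61588 : act 3 n28778 = n24881 := d2_2 (iv F50559) D28778 (iv D24881)
theorem F61589 : act 4 n28778 = n27576 := d3_2 F61578 D28778 F61580
theorem F61590 : act 1 n27565 = n28778 := d8_3 F61589 (iv D27576) (iv F57954)
def n28779 : Q := act 2 n24877
theorem D28779 : act 2 n24877 = n28779 := rfl
theorem F61591 : act 4 n28779 = n25661 := d12_2 F61578 D28779 F61581
theorem F61592 : act 5 n28779 = n25667 := d13_2 F50748 D28779 F53355
def n28780 : Q := act 6 n24880
theorem D28780 : act 6 n24880 = n28780 := rfl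
theorem F61593 : act 0 n28780 = n28287 := d5_1 D28780 (iv F60759) F60755
theorem F61594 : act 1 n28780 = n26285 := d10_1 D28780 F54152 F50598 (iv F50536) (iv F50562)
theorem F61595 : act 2 n28780 = n28194 := d14_1 D28780 (iv F60185) F60182
theorem F61596 : act 4 n28780 = n25077 := d19_1 D28780 F51175 (iv F50563)
theorem F61597 : act 5 n28780 = n28284 := d20_1 D28780 F60166 (iv F60758) F60759 (iv D28287) F49561 D24880
def n28781 : Q := act 6 n24882
theorem D28781 : act 6 n24882 = n28781 := rfl
theorem F61598 : act 1 n28781 = n27737 := d10_1 D28781 (iv D27737) D27736 F59345 F59342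
theorem F61599 : act 2 n28781 = n28068 := d14_1 D28781 F59478 (iv F57651)
theorem F61600 : act 4 n28781 = n25095 := d19_1 D28781 (iv D25095) (iv F50566)
theorem F61601 : act 5 n28781 = n28063 := d22_2 D24882 D28781 (iv D28063) F48649
def n28782 : Q := act 5 n24883
theorem D28782 : act 5 n24883 = n28782 := rfl
theorem F61602 : act 0 n28782 = n28781 := d4_1 D28782 F61601 F59454
theorem F61603 : act 2 n28782 = n28067 := d13_1 D28782 F59473 F57972
theorem F61604 : act 4 n28782 = n25096 := d18_1 D28782 (iv D25096) (iv F50567)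
theorem F61605 : act 6 n28782 = n26067 := d20_2 D24883 D28782 F53598 D28063 (iv F61601) (iv D28781) (iv D24882)
def n28783 : Q := act 2 n24884
theorem D28783 : act 2 n24884 = n28783 := rfl
theorem F61606 : act 0 n28783 = n26884 := d1_1 D28783 (iv F60681) F60680
theorem F61607 : act 4 n28783 = n25097 := d12_2 (iv F50568) D28783 (iv D25097)
theorem F61608 : act 5 n28783 = n26427 := d13_2 (iv F50569) D28783 (iv D26427)
theorem F61609 : act 3 n28783 = n26883 := d21_3 F55313 F54515 D28783 (iv D26883) (iv D22558) (iv F43883) D26798 F55674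
theorem F61610 : act 6 n26914 = n28783 := d17_0 F61609 F55938 (iv F56050)
def n28784 : Q := act 6 n24884
theorem D28784 : act 6 n24884 = n28784 := rfl
theorem F61611 : act 0 n28784 = n28687 := d5_1 D28784 F61302 F60680
theorem F61612 : act 1 n28784 = n27739 := d10_1 D28784 (iv F58403) (iv D24878) (iv F38760) D24884
theorem F61613 : act 2 n28784 = n26914 := d14_1 D28784 F61610 (iv D28783)
theorem F61614 : act 4 n28784 = n25098 := d19_1 D28784 (iv D25098) (iv F50568)
theorem F61615 : act 5 n28784 = n26913 := d20_1 D28784 F56049 (iv F60683) (iv F61302) F61301 (iv D26428) (iv F50569)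
def n28785 : Q := act 2 n24885
theorem D28785 : act 2 n24885 = n28785 := rfl
theorem F61616 : act 0 n28785 = n27603 := d1_1 D28785 (iv F59461) F59459
theorem F61617 : act 4 n28785 = n24890 := d12_2 (iv F50571) D28785 (iv D24890)
def n28786 : Q := act 5 n24885
theorem D28786 : act 5 n24885 = n28786 := rfl
theorem F61618 : act 3 n28786 = n25105 := d16_1 D28786 (iv D25105) (iv F50570)
theorem F61619 : act 4 n28786 = n24891 := d18_1 D28786 (iv D24891) (iv F50571)
def n28787 : Q := act 1 n24886
theorem D28787 : act 1 n24886 = n28787 := rfl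
theorem F61620 : act 4 n28787 = n24893 := d8_2 (iv F50573) D28787 (iv D24893)
def n28788 : Q := act 3 n24886
theorem D28788 : act 3 n24886 = n28788 := rfl
theorem F61621 : act 0 n28788 = n24887 := d2_1 D28788 (iv D24887) (iv F50572)
theorem F61622 : act 6 n28788 = n27945 := d17_2 F57962 D28788 F59106
def n28789 : Q := act 2 n24887
theorem D28789 : act 2 n24887 = n28789 := rfl
theorem F61623 : act 3 n28789 = n28729 := d21_1 D28789 F61479 F50473 F39283 (iv F38761) D24886 D28788 F61621
theorem F61624 : act 6 n28727 = n28789 := d17_0 F61623 (iv D28729) (iv F61475)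
def n28790 : Q := act 4 n24887
theorem D28790 : act 4 n24887 = n28790 := rfl
theorem F61625 : act 3 n28790 = n24895 := d15_1 D28790 (iv D24895) (iv D20435) (iv F38763) D24887
def n28791 : Q := act 6 n24887
theorem D28791 : act 6 n24887 = n28791 := rfl
theorem F61626 : act 0 n28791 = n27945 := d5_1 D28791 (iv F61622) F61621
theorem F61627 : act 2 n28791 = n28727 := d14_1 D28791 F61624 (iv D28789)
theorem F61628 : act 3 n28791 = n24888 := d17_1 D28791 (iv D24888) D24887
theorem F61629 : act 5 n28725 = n28791 := d13_0 F61627 (iv D28727) D28725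
def n28792 : Q := act 1 n24888
theorem D28792 : act 1 n24888 = n28792 := rfl
theorem F61630 : act 2 n28792 = n26273 := d6_2 (iv F50574) D28792 (iv D26273) F42213 (iv F38764)
theorem F61631 : act 4 n28792 = n24897 := d8_2 (iv F50575) D28792 (iv D24897)
def n28793 : Q := act 5 n24888
theorem D28793 : act 5 n24888 = n28793 := rfl
theorem F61632 : act 0 n28793 = n25075 := d4_1 D28793 (iv F57961) F57958
theorem F61633 : act 2 n28793 = n24889 := d13_1 D28793 (iv D24889) (iv F50574)
theorem F61634 : act 3 n28793 = n28725 := d16_1 D28793 F61629 F61628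
theorem F61635 : act 4 n28793 = n24898 := d18_1 D28793 (iv D24898) (iv F50575)
theorem F61636 : act 6 n28793 = n28665 := d20_2 D24888 D28793 F61215 (iv F57962) F57961 F51167 F50349
def n28794 : Q := act 1 n24889
theorem D28794 : act 1 n24889 = n28794 := rfl
theorem F61637 : act 3 n28794 = n25074 := d7_2 (iv F50577) D28794 (iv D25074)
theorem F61638 : act 4 n28794 = n24899 := d8_2 (iv F50578) D28794 (iv D24899)
theorem F61639 : act 5 n28794 = n26278 := d9_2 D24889 D28794 (iv D26278) (iv D21785) (iv F38764)
theorem F61640 : act 0 n27404 = n28794 := d2_3 F61637 (iv F51165) (iv F57566)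
def n28795 : Q := act 1 n24890
theorem D28795 : act 1 n24890 = n28795 := rfl
theorem F61641 : act 2 n28795 = n24893 := d6_2 D24890 D28795 (iv D24893) (iv D20433) D20432
def n28796 : Q := act 5 n24890
theorem D28796 : act 5 n24890 = n28796 := rfl
theorem F61642 : act 0 n28796 = n27604 := d4_1 D28796 (iv D27604) (iv F50580)
theorem F61643 : act 2 n28796 = n24891 := d13_1 D28796 (iv D24891) D24890
def n28797 : Q := act 6 n24890
theorem D28797 : act 6 n24890 = n28797 := rfl
theorem F61644 : act 0 n28797 = n27605 := d5_1 D28797 (iv D27605) (iv F50580)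
theorem F61645 : act 2 n28797 = n24892 := d14_1 D28797 (iv D24892) D24890
def n28798 : Q := act 5 n24892
theorem D28798 : act 5 n24892 = n28798 := rfl
theorem F61646 : act 0 n28798 = n27940 := d4_1 D28798 (iv F59469) F59466
theorem F61647 : act 3 n28798 = n24900 := d16_1 D28798 (iv D24900) (iv F50583)
theorem F61648 : act 6 n28798 = n28065 := d20_2 D24892 D28798 (iv D28065) D28066 F59469 F59095 (iv D24891)
def n28799 : Q := act 0 n24893
theorem D28799 : act 0 n24893 = n28799 := rfl
def n28800 : Q := act 5 n24893
theorem D28800 : act 5 n24893 = n28800 := rfl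
def n28801 : Q := act 6 n24893
theorem D28801 : act 6 n24893 = n28801 := rfl
def n28802 : Q := act 6 n24895
theorem D28802 : act 6 n24895 = n28802 := rfl
theorem F61649 : act 4 n28802 = n24896 := d19_1 D28802 (iv D24896) D24895
def n28803 : Q := act 5 n24896
theorem D28803 : act 5 n24896 = n28803 := rfl
theorem F61650 : act 0 n28803 = n28675 := d4_1 D28803 F61237 F61069
theorem F61651 : act 2 n28803 = n28744 := d13_1 D28803 F61504 F61068
theorem F61652 : act 3 n28803 = n24898 := d16_1 D28803 (iv D24898) (iv F50587)
theorem F61653 : act 6 n28803 = n28672 := d20_2 D24896 D28803 F61227 (iv F61071) (iv F61237) (iv D28675) F50357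
def n28804 : Q := act 1 n24898
theorem D28804 : act 1 n24898 = n28804 := rfl
def n28805 : Q := act 0 n24899
theorem D28805 : act 0 n24899 = n28805 := rfl
theorem F61654 : act 1 n28805 = n27403 := d0_2 D24899 D28805 F57563 F51914 (iv F51976) F61260 (iv D28677) (iv D24785) (iv F38773)
theorem F61655 : act 3 n28805 = n24901 := d2_2 (iv F50592) D28805 (iv D24901)
theorem F61656 : act 4 n28805 = n27404 := d3_2 F61638 D28805 F61640
theorem F61657 : act 5 n28805 = n26279 := d4_2 (iv F50593) D28805 (iv D26279)
def n28806 : Q := act 2 n24899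
theorem D28806 : act 2 n24899 = n28806 := rfl
theorem F61658 : act 5 n28806 = n26280 := d13_2 (iv F50593) D28806 (iv D26280)
def n28807 : Q := act 6 n24899
theorem D28807 : act 6 n24899 = n28807 := rfl
theorem F61659 : act 1 n28807 = n28670 := d10_1 D28807 (iv D28670) (iv D24781) (iv F38775) D24899
theorem F61660 : act 3 n28807 = n24903 := d17_1 D28807 (iv D24903) (iv F50592)
def n28808 : Q := act 2 n24901
theorem D28808 : act 2 n24901 = n28808 := rfl
theorem F61661 : act 0 n28808 = n24902 := d1_1 D28808 (iv D24902) D24901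
theorem F61662 : act 1 n28808 = n27831 := d6_1 D28808 F58770 F47840 (iv F47058) (iv F50598)
theorem F61663 : act 4 n28808 = n25107 := d12_2 (iv F50599) D28808 (iv D25107)
theorem F61664 : act 5 n28808 = n26282 := d13_2 (iv F50600) D28808 (iv D26282)
def n28809 : Q := act 6 n24902
theorem D28809 : act 6 n24902 = n28809 := rfl
theorem F61665 : act 1 n28809 = n27007 := d10_1 D28809 (iv F60096) F61104 (iv D28627) (iv F50601)
theorem F61666 : act 2 n28809 = n24903 := d14_1 D28809 (iv D24903) D24902
theorem F61667 : act 3 n28809 = n27006 := d17_1 D28809 F56528 (iv F56527)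
theorem F61668 : act 4 n28809 = n25109 := d19_1 D28809 (iv D25109) (iv F50602)
def n28810 : Q := act 6 n24905
theorem D28810 : act 6 n24905 = n28810 := rfl
theorem F61669 : act 0 n28810 = n25423 := d5_1 D28810 F52201 F50613
theorem F61670 : act 2 n28810 = n27308 := d14_1 D28810 (iv D27308) (iv F50611)
theorem F61671 : act 3 n28810 = n25422 := d17_1 D28810 F52199 (iv F50612)
theorem F61672 : act 4 n28810 = n28438 := d19_1 D28810 (iv D28438) F50614
theorem F61673 : act 5 n28810 = n28531 := d20_1 D28810 (iv D28531) F50101 (iv F52201) (iv F61012) (iv D28591) F50615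
def n28811 : Q := act 6 n24906
theorem D28811 : act 6 n24906 = n28811 := rfl
theorem F61674 : act 0 n28811 = n24919 := d5_1 D28811 (iv D24919) (iv F50616)
theorem F61675 : act 2 n28811 = n24909 := d14_1 D28811 (iv D24909) (iv F50618)
theorem F61676 : act 3 n28811 = n28434 := d17_1 D28811 (iv D28434) (iv F50619)
theorem F61677 : act 4 n28811 = n24908 := d19_1 D28811 (iv D24908) D24906
def n28812 : Q := act 1 n24908
theorem D28812 : act 1 n24908 = n28812 := rfl
def n28813 : Q := act 2 n24910
theorem D28813 : act 2 n24910 = n28813 := rfl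
theorem F61678 : act 0 n28813 = n27182 := d1_1 D28813 F56953 F50630
theorem F61679 : act 4 n28813 = n27178 := d12_2 (iv F50628) D28813 F56941
theorem F61680 : act 5 n28813 = n28416 := d13_2 (iv F50629) D28813 (iv D28416)
def n28814 : Q := act 0 n24911
theorem D28814 : act 0 n24911 = n28814 := rfl
theorem F61681 : act 3 n28814 = n24912 := d2_2 (iv F50631) D28814 (iv D24912)
theorem F61682 : act 4 n28814 = n28409 := d3_2 F60818 D28814 (iv F60814)
theorem F61683 : act 6 n28814 = n26249 := d5_2 F56838 D28814 (iv F56835)
theorem F61684 : act 2 n28410 = n28814 := d14_3 F61683 F54093 D28410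
def n28815 : Q := act 2 n24911
theorem D28815 : act 2 n24911 = n28815 := rfl
theorem F61685 : act 0 n28815 = n28410 := d1_1 D28815 F61684 (iv D28814)
theorem F61686 : act 4 n28815 = n28407 := d12_2 F60818 D28815 (iv F60816)
theorem F61687 : act 6 n28815 = n28406 := d14_2 F56838 D28815 F60488
def n28816 : Q := act 5 n24911
theorem D28816 : act 5 n24911 = n28816 := rfl
theorem F61688 : act 3 n28816 = n24913 := d16_1 D28816 (iv D24913) (iv F50631)
theorem F61689 : act 6 n28816 = n28623 := d22_1 D28816 F61090 (iv F61683) (iv D28814)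
def n28817 : Q := act 5 n24912
theorem D28817 : act 5 n24912 = n28817 := rfl
theorem F61690 : act 0 n28817 = n24913 := d4_1 D28817 (iv D24913) D24912
theorem F61691 : act 1 n28817 = n28717 := d9_1 D28817 F61450 (iv D25827) D25829 F53014
theorem F61692 : act 2 n28817 = n26239 := d13_1 D28817 (iv D26239) (iv F50632)
theorem F61693 : act 4 n28817 = n26610 := d18_1 D28817 (iv D26610) (iv F50633)
theorem F61694 : act 6 n28817 = n27149 := d20_2 (iv F50634) D28817 (iv D27149) F45600 D24913 F50636 F50268
def n28818 : Q := act 6 n24914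
theorem D28818 : act 6 n24914 = n28818 := rfl
theorem F61695 : act 0 n28818 = n28433 := d5_1 D28818 (iv D28433) (iv F50637)
theorem F61696 : act 2 n28818 = n27204 := d14_1 D28818 F57018 (iv F50639)
theorem F61697 : act 3 n28818 = n28432 := d17_1 D28818 (iv D28432) (iv F50640)
theorem F61698 : act 4 n28818 = n24916 := d19_1 D28818 (iv D24916) D24914
theorem F61699 : act 5 n28818 = n27203 := d20_1 D28818 (iv D27203) (iv F49850) D28433 F60565 (iv F57012) F57011
def n28819 : Q := act 6 n24915
theorem D28819 : act 6 n24915 = n28819 := rfl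
theorem F61700 : act 2 n28819 = n25889 := d14_1 D28819 F53158 F53129
theorem F61701 : act 3 n28819 = n24921 := d17_1 D28819 (iv D24921) (iv F50641)
theorem F61702 : act 4 n28819 = n26126 := d19_1 D28819 (iv F57012) F57010
theorem F61703 : act 5 n28819 = n25885 := d22_2 D24915 D28819 (iv D25885) F41655
def n28820 : Q := act 1 n24916
theorem D28820 : act 1 n24916 = n28820 := rfl
theorem F61704 : act 3 n28820 = n24922 := d7_2 (iv F50642) D28820 (iv D24922)
theorem F61705 : act 6 n28820 = n28700 := d10_2 D24916 D28820 (iv D28700) (iv D24815) (iv F38801)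
def n28821 : Q := act 5 n24916
theorem D28821 : act 5 n24916 = n28821 := rfl
theorem F61706 : act 0 n28821 = n28819 := d4_1 D28821 F61703 F53140
theorem F61707 : act 2 n28821 = n25887 := d13_1 D28821 F53149 F53133
theorem F61708 : act 3 n28821 = n24923 := d16_1 D28821 (iv D24923) (iv F50642)
theorem F61709 : act 4 n28821 = n27203 := d18_1 D28821 (iv F61699) F61698
theorem F61710 : act 6 n28821 = n25884 := d20_2 D24916 D28821 (iv D25884) D25885 (iv F61703) (iv D28819) (iv D24915)
def n28822 : Q := act 2 n24917
theorem D28822 : act 2 n24917 = n28822 := rfl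
theorem F61711 : act 0 n28822 = n27886 := d1_1 D28822 F58957 (iv F50643)
theorem F61712 : act 1 n28822 = n24918 := d6_1 D28822 F50646 F38806 (iv F50435) (iv F50644)
theorem F61713 : act 3 n28822 = n24918 := d11_2 D24917 D28822 F50646 F38807 F30134 (iv F38791) (iv F50618) F50619 (iv F58957) F58958 (iv D26817) (iv D22451) F30130 (iv F26374) (iv F38803)
theorem F61714 : act 4 n28822 = n24920 := d12_2 (iv F50645) D28822 F50650
theorem F61715 : act 5 n28822 = n24917 := d23_0 D28822 F61712 (iv F55734) F55736 F50618 (iv F45165) F45164 F32222 (iv F28099) F28098 (iv F26185) D20304 F38499 (iv F37188) F37187 (iv F37003) (iv F48279) (iv F58956) (iv F61711)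
def n28823 : Q := act 6 n24917
theorem D28823 : act 6 n24917 = n28823 := rfl
theorem F61716 : act 0 n28823 = n28434 := d5_1 D28823 (iv D28434) (iv F50643)
theorem F61717 : act 3 n28823 = n24919 := d17_1 D28823 (iv D24919) D24917
theorem F61718 : act 4 n28823 = n28432 := d19_1 D28823 (iv D28432) (iv F50645)
def n28824 : Q := act 6 n24918
theorem D28824 : act 6 n24918 = n28824 := rfl
theorem F61719 : act 2 n28824 = n24924 := d14_1 D28824 (iv D24924) (iv F50646)
theorem F61720 : act 4 n28824 = n24921 := d19_1 D28824 (iv D24921) (iv F50647)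
theorem F61721 : act 5 n28824 = n28811 := d22_2 D24918 D28824 (iv D28811) F50616
def n28825 : Q := act 1 n24919
theorem D28825 : act 1 n24919 = n28825 := rfl
theorem F61722 : act 2 n28825 = n25940 := d6_2 (iv F50648) D28825 F53301 F41753 (iv F38809)
theorem F61723 : act 4 n28825 = n24922 := d8_2 (iv F50649) D28825 (iv D24922)
theorem F61724 : act 6 n28825 = n28703 := d10_2 D24919 D28825 (iv D28703) (iv D24817) (iv F38802)
def n28826 : Q := act 5 n24919
theorem D28826 : act 5 n24919 = n28826 := rfl
theorem F61725 : act 0 n28826 = n28824 := d4_1 D28826 F61721 F61674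
theorem F61726 : act 2 n28826 = n24925 := d13_1 D28826 (iv D24925) (iv F50648)
theorem F61727 : act 4 n28826 = n24923 := d18_1 D28826 (iv D24923) (iv F50649)
theorem F61728 : act 6 n28826 = n26817 := d20_2 D24919 D28826 F55736 D28811 (iv F61721) (iv D28824) (iv D24918)
def n28827 : Q := act 1 n24921
theorem D28827 : act 1 n24921 = n28827 := rfl
def n28828 : Q := act 0 n24922
theorem D28828 : act 0 n24922 = n28828 := rfl
theorem F61729 : act 2 n28828 = n25938 := d1_2 (iv F50655) D28828 (iv D25938)
theorem F61730 : act 6 n28828 = n28706 := d5_2 (iv F50656) D28828 (iv D28706)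
def n28829 : Q := act 5 n24922
theorem D28829 : act 5 n24922 = n28829 := rfl
theorem F61731 : act 2 n28829 = n25941 := d13_1 D28829 (iv D25941) (iv F50655)
def n28830 : Q := act 1 n24923
theorem D28830 : act 1 n24923 = n28830 := rfl
def n28831 : Q := act 1 n24925
theorem D28831 : act 1 n24925 = n28831 := rfl
theorem F61732 : act 0 n28831 = n28641 := d0_1 D28831 F61148 (iv F61156) (iv F61160) F57816 (iv F57806) F53961 F53945 (iv F50663)
theorem F61733 : act 3 n28831 = n26613 := d7_2 (iv F50664) D28831 F55071
theorem F61734 : act 4 n28831 = n24927 := d8_2 (iv F50665) D28831 (iv D24927)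
theorem F61735 : act 5 n28831 = n25947 := d9_2 D24925 D28831 (iv D25947) (iv D21567) (iv F38809)
theorem F61736 : act 2 n28640 = n28831 := d1_0 F61732 (iv D28641) D28640
def n28832 : Q := act 0 n24926
theorem D28832 : act 0 n24926 = n28832 := rfl
theorem F61737 : act 2 n28832 = n26991 := d1_2 F53947 D28832 F56330
theorem F61738 : act 3 n28832 = n24928 := d2_2 (iv F50667) D28832 (iv D24928)
theorem F61739 : act 4 n28832 = n26199 := d3_2 (iv F53946) D28832 F53961
theorem F61740 : act 6 n28832 = n28711 := d5_2 (iv F50668) D28832 (iv D28711)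
def n28833 : Q := act 5 n24926
theorem D28833 : act 5 n24926 = n28833 := rfl
theorem F61741 : act 1 n28833 = n28816 := d9_1 D28833 (iv D28816) (iv D24911) (iv F38813) D24926
theorem F61742 : act 3 n28833 = n24929 := d16_1 D28833 (iv D24929) (iv F50667)
def n28834 : Q := act 0 n24927
theorem D28834 : act 0 n24927 = n28834 := rfl
theorem F61743 : act 3 n28834 = n24930 := d2_2 (iv F50669) D28834 (iv D24930)
theorem F61744 : act 4 n28834 = n28641 := d3_2 F61734 D28834 (iv F61732)
theorem F61745 : act 5 n28834 = n25948 := d4_2 (iv F50670) D28834 (iv D25948)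
theorem F61746 : act 1 n27959 = n28834 := d8_3 F61744 F61148 (iv F59155)
theorem F61747 : act 2 n28639 = n28834 := d12_3 F61744 (iv D28641) (iv F61146)
theorem E10437 : n26172 = n25936 := (c23_14 (iv F61745) (iv F61747) (iv D28639) F50306 (iv D20353) F26266 F20504 (iv F20539) (iv F21744) F21742 (iv F21669) (iv F28486) (iv F42090) (iv F53890) (iv D25936) F41744 D21566 F41755 D21568 D25948)
theorem F61748 : act 0 n25936 = n21724 := (sb E10437 F53889)
theorem F61749 : act 2 n25936 = n21721 := (sb E10437 F53890)
theorem F61750 : act 4 n25936 = n21720 := (sb E10437 (iv D26172))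
theorem F61751 : act 5 n25936 = n21767 := (sb E10437 F53891)
theorem F61752 : act 6 n25936 = n26274 := (sb E10437 (iv F54136))
theorem F61753 : act 1 n26274 = n26012 := d10_1 F61752 (iv D26012) (iv D21607) (iv F41745) D25936
theorem F61754 : act 4 n26012 = n26277 := d8_2 (iv F54135) F61753 (iv D26277)
theorem F61755 : act 6 n26277 = n26010 := d19_2 D26012 F61754 (iv D26010)
theorem E10438 : n26171 = n25937 := ((c10_3 F61755 F53486 (iv F53299) (iv D26171) (iv F42217) D26277)).symm
theorem F61756 : act 1 n25937 = n21720 := (sb E10438 (iv D26171))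
theorem F61757 : act 3 n25937 = n25757 := (sb E10438 F53888)
theorem F61758 : act 0 n25757 = n25944 := d2_1 F61757 (iv D25944) (iv F53297)
theorem F61759 : act 6 n25757 = n26013 := d17_2 (iv F53299) F61757 (iv D26013)
theorem E10439 : n26166 = n25932 := (c6_5 (iv F53298) F61756 (iv D21720) (iv F42081) D26166 F53287)
theorem F61760 : act 2 n25932 = n21717 := (sb E10439 (iv D26166))
theorem F61761 : act 1 n26242 = n26043 := d9_5 F53545 F61756 F42086 D21766 D26242
theorem F61762 : act 4 n26046 = n26242 := d8_0 F61761 F53544 D26046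
theorem F61763 : act 5 n26241 = n26046 := d18_0 F61762 (iv D26242) D26241
theorem E10440 : n26167 = n25931 := (c12_3 D25932 F61760 D26167 (iv D25931))
theorem F61764 : act 1 n25931 = n21721 := (sb E10440 F53879)
theorem F61765 : act 3 n25931 = n22374 := (sb E10440 F53880)
theorem F61766 : act 4 n25931 = n21717 := (sb E10440 (iv D26167))
theorem F61767 : act 5 n26244 = n25652 := d16_2 F61751 D26244 (iv F53296)
theorem F61768 : act 0 n25652 = n26179 := d4_1 F61767 F53899 (iv F54080)
def n28835 : Q := act 2 n24927
theorem D28835 : act 2 n24927 = n28835 := rfl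
theorem F61769 : act 0 n28835 = n28639 := d1_1 D28835 F61747 (iv D28834)
theorem F61770 : act 4 n28835 = n28640 := d12_2 F61734 D28835 F61736
theorem F61771 : act 5 n28835 = n25949 := d13_2 (iv F50670) D28835 (iv D25949)
def n28836 : Q := act 6 n24927
theorem D28836 : act 6 n24927 = n28836 := rfl
theorem F61772 : act 1 n28836 = n28425 := d10_1 D28836 F60541 (iv D24910) (iv F38816) D24927
theorem F61773 : act 3 n28836 = n24932 := d17_1 D28836 (iv D24932) (iv F50669)
def n28837 : Q := act 3 n24931
theorem D28837 : act 3 n24931 = n28837 := rfl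
theorem F61774 : act 1 n28837 = n25912 := d7_1 D28837 (iv D25912) (iv F50678)
theorem F61775 : act 4 n28837 = n25155 := d15_2 (iv F50679) D28837 F51449 (iv F51437) F51436
theorem F61776 : act 5 n28837 = n25954 := d16_2 (iv F50680) D28837 (iv D25954)
theorem F61777 : act 6 n28837 = n25154 := d17_2 F53566 D28837 (iv F53563)
def n28838 : Q := act 5 n24934
theorem D28838 : act 5 n24934 = n28838 := rfl
theorem F61778 : act 0 n28838 = n25457 := d4_1 D28838 F52257 F50690
theorem F61779 : act 2 n28838 = n27398 := d13_1 D28838 (iv D27398) (iv F50688)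
theorem F61780 : act 3 n28838 = n25456 := d16_1 D28838 F52254 (iv F50689)
theorem F61781 : act 4 n28838 = n28492 := d18_1 D28838 (iv D28492) F50691
theorem F61782 : act 6 n28838 = n28556 := d20_2 F50692 D28838 (iv D28556) F50155 (iv F52257) (iv F61173) (iv D28648)
def n28839 : Q := act 5 n24935
theorem D28839 : act 5 n24935 = n28839 := rfl
theorem F61783 : act 0 n28839 = n24947 := d4_1 D28839 (iv D24947) (iv F50693)
theorem F61784 : act 2 n28839 = n24938 := d13_1 D28839 (iv D24938) (iv F50695)
theorem F61785 : act 3 n28839 = n28488 := d16_1 D28839 (iv D28488) (iv F50696)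
theorem F61786 : act 4 n28839 = n24936 := d18_1 D28839 (iv D24936) D24935
def n28840 : Q := act 1 n24936
theorem D28840 : act 1 n24936 = n28840 := rfl
def n28841 : Q := act 0 n24939
theorem D28841 : act 0 n24939 = n28841 := rfl
theorem F61787 : act 3 n28841 = n24941 := d2_2 (iv F50704) D28841 (iv D24941)
theorem F61788 : act 4 n28841 = n28380 := d3_2 F60662 D28841 (iv F60658)
theorem F61789 : act 5 n28841 = n26018 := d4_2 F56873 D28841 (iv F56870)
theorem F61790 : act 2 n28381 = n28841 := d13_3 F61789 F53502 D28381
def n28842 : Q := act 2 n24939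
theorem D28842 : act 2 n24939 = n28842 := rfl
theorem F61791 : act 0 n28842 = n28381 := d1_1 D28842 F61790 (iv D28841)
theorem F61792 : act 4 n28842 = n28378 := d12_2 F60662 D28842 (iv F60660)
theorem F61793 : act 5 n28842 = n28377 := d13_2 F56873 D28842 F60409
def n28843 : Q := act 6 n24939
theorem D28843 : act 6 n24939 = n28843 := rfl
theorem F61794 : act 3 n28843 = n24942 := d17_1 D28843 (iv D24942) (iv F50704)
theorem F61795 : act 5 n28843 = n28680 := d22_2 F56873 D28843 F61273 (iv F56870)
def n28844 : Q := act 2 n24940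
theorem D28844 : act 2 n24940 = n28844 := rfl
theorem F61796 : act 0 n28844 = n27194 := d1_1 D28844 F56988 F50708
theorem F61797 : act 4 n28844 = n27190 := d12_2 (iv F50706) D28844 F56976
theorem F61798 : act 6 n28844 = n28470 := d14_2 (iv F50707) D28844 (iv D28470)
def n28845 : Q := act 6 n24941
theorem D28845 : act 6 n24941 = n28845 := rfl
theorem F61799 : act 0 n28845 = n24942 := d5_1 D28845 (iv D24942) D24941
theorem F61800 : act 1 n28845 = n28782 := d10_1 D28845 F61605 (iv D26067) D26069 (iv F53608)
theorem F61801 : act 2 n28845 = n26008 := d14_1 D28845 (iv D26008) (iv F50709)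
theorem F61802 : act 4 n28845 = n26660 := d19_1 D28845 (iv D26660) (iv F50710)
theorem F61803 : act 5 n28845 = n27158 := d20_1 D28845 (iv D27158) F45684 D24942 F50713 F50380 (iv F50711)
def n28846 : Q := act 5 n24943
theorem D28846 : act 5 n24943 = n28846 := rfl
theorem F61804 : act 0 n28846 = n28487 := d4_1 D28846 (iv D28487) (iv F50714)
theorem F61805 : act 2 n28846 = n27216 := d13_1 D28846 F57048 (iv F50716)
theorem F61806 : act 3 n28846 = n28486 := d16_1 D28846 (iv D28486) (iv F50717)
theorem F61807 : act 4 n28846 = n24944 := d18_1 D28846 (iv D24944) D24943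
theorem F61808 : act 6 n28846 = n27215 := d20_2 F57042 D28846 (iv D27215) (iv F49986) D28487 F60727 (iv F57041)
def n28847 : Q := act 1 n24944
theorem D28847 : act 1 n24944 = n28847 := rfl
theorem F61809 : act 3 n28847 = n24949 := d7_2 (iv F50719) D28847 (iv D24949)
theorem F61810 : act 5 n28847 = n28764 := d9_2 D24944 D28847 (iv D28764) (iv D24866) (iv F38840)
def n28848 : Q := act 6 n24944
theorem D28848 : act 6 n24944 = n28848 := rfl
theorem F61811 : act 2 n28848 = n26125 := d14_1 D28848 F53750 F53732
theorem F61812 : act 3 n28848 = n24950 := d17_1 D28848 (iv D24950) (iv F50719)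
theorem F61813 : act 4 n28848 = n27215 := d19_1 D28848 (iv F61808) F61807
theorem F61814 : act 5 n28848 = n26124 := d22_2 D24944 D28848 (iv D26124) F41999
def n28849 : Q := act 5 n24945
theorem D28849 : act 5 n24945 = n28849 := rfl
theorem F61815 : act 0 n28849 = n28848 := d4_1 D28849 F61814 F53742
theorem F61816 : act 2 n28849 = n25890 := d13_1 D28849 (iv F53738) F53735
theorem F61817 : act 3 n28849 = n24952 := d16_1 D28849 (iv D24952) (iv F50720)
theorem F61818 : act 4 n28849 = n25891 := d18_1 D28849 (iv F57041) F57040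
theorem F61819 : act 6 n28849 = n26123 := d20_2 D24945 D28849 (iv D26123) D26124 (iv F61814) (iv D28848) (iv D24944)
def n28850 : Q := act 2 n24946
theorem D28850 : act 2 n24946 = n28850 := rfl
theorem F61820 : act 0 n28850 = n27914 := d1_1 D28850 F59028 (iv F50721)
theorem F61821 : act 1 n28850 = n24948 := d6_1 D28850 F50726 F38848 (iv F50539) (iv F50722)
theorem F61822 : act 3 n28850 = n24948 := d11_2 D24946 D28850 F50726 F38849 F35354 (iv F38830) (iv F50695) F50696 (iv F59028) F59029 (iv D26852) (iv D22510) F30260 (iv F26396) (iv F38842)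
theorem F61823 : act 4 n28850 = n24951 := d12_2 (iv F50723) D28850 F50732
theorem F61824 : act 6 n24946 = n28850 := d19_0 F61823 F50733 (iv F50723)
def n28851 : Q := act 5 n24946
theorem D28851 : act 5 n24946 = n28851 := rfl
theorem F61825 : act 0 n28851 = n28488 := d4_1 D28851 (iv D28488) (iv F50721)
theorem F61826 : act 3 n28851 = n24947 := d16_1 D28851 (iv D24947) D24946
theorem F61827 : act 4 n28851 = n28486 := d18_1 D28851 (iv D28486) (iv F50723)
def n28852 : Q := act 1 n24947
theorem D28852 : act 1 n24947 = n28852 := rfl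
theorem F61828 : act 2 n28852 = n26175 := d6_2 (iv F50724) D28852 F53893 F42094 (iv F38845)
theorem F61829 : act 4 n28852 = n24949 := d8_2 (iv F50725) D28852 (iv D24949)
theorem F61830 : act 5 n28852 = n28767 := d9_2 D24947 D28852 (iv D28767) (iv D24869) (iv F38841)
def n28853 : Q := act 6 n24947
theorem D28853 : act 6 n24947 = n28853 := rfl
theorem F61831 : act 2 n28853 = n24953 := d14_1 D28853 (iv D24953) (iv F50724)
theorem F61832 : act 4 n28853 = n24950 := d19_1 D28853 (iv D24950) (iv F50725)
theorem F61833 : act 5 n28853 = n26852 := d22_2 D24947 D28853 F55844 F50693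
def n28854 : Q := act 5 n24948
theorem D28854 : act 5 n24948 = n28854 := rfl
theorem F61834 : act 0 n28854 = n28853 := d4_1 D28854 F61833 F55842
theorem F61835 : act 2 n28854 = n24954 := d13_1 D28854 (iv D24954) (iv F50726)
theorem F61836 : act 4 n28854 = n24952 := d18_1 D28854 (iv D24952) (iv F50727)
theorem F61837 : act 6 n28854 = n28839 := d20_2 D24948 D28854 (iv D28839) (iv F55844) (iv F61833) (iv D28853) (iv D24947)
def n28855 : Q := act 0 n24949
theorem D28855 : act 0 n24949 = n28855 := rfl
theorem F61838 : act 2 n28855 = n26173 := d1_2 (iv F50728) D28855 (iv D26173)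
theorem F61839 : act 5 n28855 = n28769 := d4_2 (iv F50729) D28855 (iv D28769)
def n28856 : Q := act 6 n24949
theorem D28856 : act 6 n24949 = n28856 := rfl
theorem F61840 : act 2 n28856 = n26177 := d14_1 D28856 (iv D26177) (iv F50728)
def n28857 : Q := act 1 n24950
theorem D28857 : act 1 n24950 = n28857 := rfl
def n28858 : Q := act 1 n24952
theorem D28858 : act 1 n24952 = n28858 := rfl
def n28859 : Q := act 1 n24953
theorem D28859 : act 1 n24953 = n28859 := rfl
theorem F61841 : act 0 n28859 = n28582 := d0_1 D28859 F60979 (iv F60991) (iv F60994) F57992 (iv F57982) F53369 F53353 F50741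
theorem F61842 : act 3 n28859 = n26758 := d7_2 (iv F50738) D28859 F55551
theorem F61843 : act 4 n28859 = n24955 := d8_2 (iv F50739) D28859 (iv D24955)
theorem F61844 : act 6 n28859 = n26182 := d10_2 D24953 D28859 (iv D26182) (iv D21726) (iv F38845)
theorem F61845 : act 2 n28581 = n28859 := d1_0 F61841 (iv D28582) D28581
def n28860 : Q := act 0 n24955
theorem D28860 : act 0 n24955 = n28860 := rfl
theorem F61846 : act 3 n28860 = n24957 := d2_2 (iv F50745) D28860 (iv D24957)
theorem F61847 : act 4 n28860 = n28582 := d3_2 F61843 D28860 (iv F61841)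
theorem F61848 : act 6 n28860 = n26183 := d5_2 (iv F50746) D28860 (iv D26183)
theorem F61849 : act 1 n28031 = n28860 := d8_3 F61847 F60979 (iv F59371)
theorem F61850 : act 2 n28580 = n28860 := d12_3 F61847 (iv D28582) (iv F60977)
def n28861 : Q := act 2 n24955
theorem D28861 : act 2 n24955 = n28861 := rfl
theorem F61851 : act 0 n28861 = n28580 := d1_1 D28861 F61850 (iv D28860)
theorem F61852 : act 4 n28861 = n28581 := d12_2 F61843 D28861 F61845
theorem F61853 : act 6 n28861 = n26184 := d14_2 (iv F50746) D28861 (iv D26184)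
def n28862 : Q := act 5 n24955
theorem D28862 : act 5 n24955 = n28862 := rfl
theorem F61854 : act 1 n28862 = n28478 := d9_1 D28862 F60699 (iv D24940) (iv F38852) D24955
theorem F61855 : act 3 n28862 = n24959 := d16_1 D28862 (iv D24959) (iv F50745)
def n28863 : Q := act 0 n24956
theorem D28863 : act 0 n24956 = n28863 := rfl
theorem F61856 : act 2 n28863 = n27000 := d1_2 F53355 D28863 F56357
theorem F61857 : act 3 n28863 = n24960 := d2_2 (iv F50747) D28863 (iv D24960)
theorem F61858 : act 4 n28863 = n25964 := d3_2 (iv F53354) D28863 F53369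
theorem F61859 : act 5 n28863 = n28778 := d4_2 (iv F50748) D28863 (iv D28778)
def n28864 : Q := act 6 n24956
theorem D28864 : act 6 n24956 = n28864 := rfl
theorem F61860 : act 1 n28864 = n28843 := d10_1 D28864 (iv D28843) (iv D24939) (iv F38855) D24956
theorem F61861 : act 3 n28864 = n24961 := d17_1 D28864 (iv D24961) (iv F50747)
def n28865 : Q := act 3 n24958
theorem D28865 : act 3 n24958 = n28865 := rfl
theorem F61862 : act 1 n28865 = n26147 := d7_1 D28865 (iv D26147) (iv F50752)
theorem F61863 : act 4 n28865 = n25123 := d15_2 (iv F50753) D28865 F51338 (iv F51326) F51325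
theorem F61864 : act 5 n28865 = n25122 := d16_2 F54156 D28865 (iv F54154)
theorem F61865 : act 6 n28865 = n26189 := d17_2 (iv F50754) D28865 (iv D26189)
def n28866 : Q := act 6 n24962
theorem D28866 : act 6 n24962 = n28866 := rfl
theorem F61866 : act 0 n28866 = n26741 := d5_1 D28866 F55490 F54844
theorem F61867 : act 2 n28866 = n26983 := d14_1 D28866 (iv D26983) (iv F50762)
theorem F61868 : act 4 n28866 = n24963 := d19_1 D28866 (iv D24963) D24962
theorem F61869 : act 5 n28866 = n27199 := d20_1 D28866 (iv D27199) (iv F54847) (iv F55490) F55489 F53754 (iv F50763)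
def n28867 : Q := act 5 n24964
theorem D28867 : act 5 n24964 = n28867 := rfl
theorem F61870 : act 0 n28867 = n26590 := d4_1 D28867 (iv F55370) F55367
theorem F61871 : act 2 n28867 = n26984 := d13_1 D28867 (iv D26984) (iv F50769)
theorem F61872 : act 4 n28867 = n24965 := d18_1 D28867 (iv D24965) D24964
theorem F61873 : act 6 n28867 = n27201 := d20_2 (iv F50770) D28867 (iv D27201) (iv F55371) F55370 F54994 F53165
def n28868 : Q := act 1 n24970
theorem D28868 : act 1 n24970 = n28868 := rfl
theorem F61874 : act 0 n28868 = n26844 := d0_1 D28868 (iv D26844) (iv F44028) D26845 (iv F55819) F46140 (iv F46147) (iv F46150) (iv F50791)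
theorem F61875 : act 4 n28868 = n24971 := d8_2 (iv F50793) D28868 (iv D24971)
def n28869 : Q := act 6 n24981
theorem D28869 : act 6 n24981 = n28869 := rfl
theorem F61876 : act 0 n28869 = n26644 := d5_1 D28869 (iv F59735) F59733
theorem F61877 : act 1 n28869 = n26709 := d10_1 D28869 (iv D26709) F50835 (iv D24982) D24981
theorem F61878 : act 2 n28869 = n28187 := d14_1 D28869 F59806 F59775
theorem F61879 : act 3 n28869 = n28189 := d17_1 D28869 (iv D28189) (iv F50829)
theorem F61880 : act 5 n28869 = n26645 := d20_1 D28869 (iv F59765) F59764 F59735 F55158 (iv F48887) (iv F50830)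
def n28870 : Q := act 1 n24989
theorem D28870 : act 1 n24989 = n28870 := rfl
theorem F61881 : act 0 n28870 = n26880 := d0_1 D28870 (iv D26880) F44167 D26879 (iv F55924) F46324 (iv F46331) (iv F46334) (iv F50854)
theorem F61882 : act 4 n28870 = n24990 := d8_2 (iv F50856) D28870 (iv D24990)
def n28871 : Q := act 5 n25000
theorem D28871 : act 5 n25000 = n28871 := rfl
theorem F61883 : act 0 n28871 = n26785 := d4_1 D28871 (iv F59776) F59774
theorem F61884 : act 1 n28871 = n26816 := d9_1 D28871 (iv D26816) F50900 (iv D25001) D25000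
theorem F61885 : act 2 n28871 = n28177 := d13_1 D28871 F59764 F59734
theorem F61886 : act 3 n28871 = n28191 := d16_1 D28871 (iv D28191) (iv F50894)
theorem F61887 : act 6 n28871 = n26786 := d20_2 (iv F50895) D28871 (iv F59805) F59806 F59776 F55630 (iv F48945)
def n28872 : Q := act 2 n25007
theorem D28872 : act 2 n25007 = n28872 := rfl
theorem F61888 : act 0 n28872 = n25008 := d1_1 D28872 (iv D25008) D25007
theorem F61889 : act 3 n28872 = n26204 := d11_2 F60982 D28872 F53974 F48326 (iv F48606) (iv F59370) F59369 F50205 D25008 (iv F58892) F58891 (iv F48461) (iv F50294) (iv F61121) F61120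
theorem F61890 : act 4 n28872 = n25010 := d12_2 (iv F50917) D28872 (iv D25010)
theorem F61891 : act 6 n28872 = n26202 := d14_2 (iv F50918) D28872 (iv F53970)
theorem F61892 : act 5 n25201 = n28872 := d23_0 (iv D28872) F57083 F57080 (iv D27044) D27043 F56496 (iv F56504) (iv F56519) F56517 F45186 (iv F48976) F51798 (iv D25259) (iv D21023) (iv F31110) (iv D17825) (iv F27223) (iv F40233) (iv F51604)
def n28873 : Q := act 5 n25007
theorem D28873 : act 5 n25007 = n28873 := rfl
theorem F61893 : act 0 n28873 = n25009 := d4_1 D28873 (iv D25009) D25007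
theorem F61894 : act 2 n28873 = n25201 := d13_1 D28873 F61892 (iv D28872)
theorem F61895 : act 4 n28873 = n25011 := d18_1 D28873 (iv D25011) (iv F50917)
theorem F61896 : act 6 n28873 = n27522 := d20_2 (iv F50918) D28873 F57861 F46702 D25009 (iv F59907) (iv D28217)
def n28874 : Q := act 1 n25010
theorem D28874 : act 1 n25010 = n28874 := rfl
theorem F61897 : act 0 n28874 = n28210 := d0_1 D28874 F59877 (iv D27029) (iv D22808) F31925 (iv F31765) (iv F43046) F43047 (iv F50924)
theorem F61898 : act 2 n28874 = n28198 := d6_2 D25010 D28874 F59837 F56459 (iv F46817)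
theorem F61899 : act 3 n28874 = n25203 := d7_2 (iv F50925) D28874 (iv D25203)
theorem F61900 : act 5 n28874 = n28207 := d9_2 F50927 D28874 F59871 F58538 F51601
theorem F61901 : act 6 n28874 = n28196 := d10_2 (iv F50926) D28874 F59833 F58725 F53964
def n28875 : Q := act 6 n25013
theorem D28875 : act 6 n25013 = n28875 := rfl
theorem F61902 : act 0 n28875 = n28595 := d5_1 D28875 (iv D28595) (iv F50937)
theorem F61903 : act 2 n28875 = n28579 := d14_1 D28875 (iv D28579) (iv F50939)
theorem F61904 : act 3 n28875 = n25014 := d17_1 D28875 (iv D25014) D25013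
theorem F61905 : act 4 n28875 = n27313 := d19_1 D28875 (iv D27313) (iv F50940)
theorem F61906 : act 5 n28875 = n25298 := d20_1 D28875 F57302 (iv F57301) D28595 F61023 (iv D27312) (iv F50941)
def n28876 : Q := act 2 n25028
theorem D28876 : act 2 n25028 = n28876 := rfl
theorem F61907 : act 0 n28876 = n25029 := d1_1 D28876 (iv D25029) D25028
theorem F61908 : act 3 n28876 = n25969 := d11_2 F61152 D28876 F53382 F48395 (iv F48485) (iv F59154) F59153 F50311 D25029 (iv F58910) F58909 (iv F48482) (iv F50188) (iv F60953) (iv F61151)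
theorem F61909 : act 4 n28876 = n25031 := d12_2 (iv F50994) D28876 (iv D25031)
theorem F61910 : act 5 n28876 = n25967 := d13_2 (iv F50995) D28876 (iv F53378)
theorem F61911 : act 6 n25249 = n28876 := d20_0 F61910 F53377 (iv D25253) F50997 (iv F58205) (iv F59315) (iv F59317)
def n28877 : Q := act 6 n25028
theorem D28877 : act 6 n25028 = n28877 := rfl
theorem F61912 : act 0 n28877 = n25030 := d5_1 D28877 (iv D25030) D25028
theorem F61913 : act 2 n28877 = n25249 := d14_1 D28877 F61911 (iv D28876)
theorem F61914 : act 4 n28877 = n25032 := d19_1 D28877 (iv D25032) (iv F50994)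
theorem F61915 : act 5 n28877 = n27598 := d20_1 D28877 F58039 F46751 D25030 (iv F59999) (iv D28241) (iv F50995)
def n28878 : Q := act 1 n25031
theorem D28878 : act 1 n25031 = n28878 := rfl
theorem F61916 : act 0 n28878 = n28198 := d0_1 D28878 F59837 (iv D27031) (iv D22814) F31946 (iv F31769) (iv F43590) F43591 (iv F51001)
theorem F61917 : act 2 n28878 = n28210 := d6_2 D25031 D28878 F59877 F56452 (iv F46845)
theorem F61918 : act 3 n28878 = n25252 := d7_2 (iv F51002) D28878 (iv D25252)
theorem F61919 : act 5 n28878 = n28208 := d9_2 (iv F51003) D28878 F59873 F58745 F53372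
theorem F61920 : act 6 n28878 = n28195 := d10_2 (iv F51004) D28878 F59831 F58638 F51764
def n28879 : Q := act 5 n25034
theorem D28879 : act 5 n25034 = n28879 := rfl
theorem F61921 : act 0 n28879 = n28652 := d4_1 D28879 (iv D28652) (iv F51014)
theorem F61922 : act 2 n28879 = n28638 := d13_1 D28879 (iv D28638) (iv F51016)
theorem F61923 : act 3 n28879 = n25035 := d16_1 D28879 (iv D25035) D25034
theorem F61924 : act 4 n28879 = n27406 := d18_1 D28879 (iv D27406) (iv F51017)
theorem F61925 : act 6 n28879 = n25299 := d20_2 (iv F51018) D28879 F57544 (iv F57545) D28652 F61184 (iv D27403)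
def n28880 : Q := act 0 n25055
theorem D28880 : act 0 n25055 = n28880 := rfl
theorem F61926 : act 1 n28880 = n27364 := d0_2 D25055 D28880 (iv D27364) (iv D23232) (iv F33898) D23370 F51087 (iv D25052) (iv F39233)
theorem F61927 : act 4 n28880 = n25057 := d3_2 (iv F51096) D28880 (iv D25057)
theorem F61928 : act 5 n28880 = n27586 := d4_2 F60134 D28880 (iv F60131)
theorem F61929 : act 2 n27587 = n28880 := d13_3 F61928 (iv D27586) D27587
def n28881 : Q := act 2 n25055
theorem D28881 : act 2 n25055 = n28881 := rfl
theorem F61930 : act 0 n28881 = n27587 := d1_1 D28881 F61929 (iv D28880)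
theorem F61931 : act 1 n28881 = n27094 := d6_1 D28881 F56674 F51085 F51081 D25055
theorem F61932 : act 4 n28881 = n25058 := d12_2 (iv F51096) D28881 (iv D25058)
theorem F61933 : act 5 n28881 = n27585 := d13_2 F60134 D28881 (iv F60133)
theorem F61934 : act 6 n28881 = n25105 := d14_2 F57339 D28881 F57340
def n28882 : Q := act 2 n25060
theorem D28882 : act 2 n25060 = n28882 := rfl
theorem F61935 : act 0 n28882 = n27125 := d1_1 D28882 (iv F59951) F59949
theorem F61936 : act 1 n28882 = n28866 := d6_1 D28882 F61867 F56304 F46231 D25060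
theorem F61937 : act 4 n28882 = n25061 := d12_2 (iv F51114) D28882 (iv D25061)
theorem F61938 : act 5 n28882 = n28228 := d13_2 F56763 D28882 F59951
theorem F61939 : act 6 n27329 = n28882 := d24_0 F61938 F59950 D28229 F59955 F57834 (iv D27366) F46181 (iv D18837) F24098 F24017 D13716 D18824 D23211 D27329
def n28883 : Q := act 6 n25060
theorem D28883 : act 6 n25060 = n28883 := rfl
theorem F61940 : act 1 n28883 = n27328 := d10_1 D28883 (iv F57377) (iv F57378) F51090 D25060
theorem F61941 : act 2 n28883 = n27329 := d14_1 D28883 F61939 (iv D28882)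
theorem F61942 : act 4 n28883 = n25062 := d19_1 D28883 (iv D25062) (iv F51114)
theorem F61943 : act 5 n28883 = n27329 := d22_2 F56763 D28883 F61939 F61935
def n28884 : Q := act 3 n25072
theorem D28884 : act 3 n25072 = n28884 := rfl
def n28885 : Q := act 5 n25073
theorem D28885 : act 5 n25073 = n28885 := rfl
theorem F61944 : act 0 n28885 = n27511 := d4_1 D28885 (iv F59955) F59953
theorem F61945 : act 1 n28885 = n27068 := d9_1 D28885 (iv D27068) F46150 D27340 F57394
theorem F61946 : act 2 n28885 = n25088 := d13_1 D28885 (iv F57582) F57580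
theorem F61947 : act 4 n28885 = n25078 := d18_1 D28885 (iv D25078) (iv F51162)
theorem F61948 : act 6 n28885 = n27509 := d20_2 D25073 D28885 F57831 D28229 F59955 (iv D27511) F46504
def n28886 : Q := act 1 n25075
theorem D28886 : act 1 n25075 = n28886 := rfl
theorem F61949 : act 4 n28886 = n28676 := d8_2 (iv F51166) D28886 (iv D28676)
def n28887 : Q := act 3 n25075
theorem D28887 : act 3 n25075 = n28887 := rfl
theorem F61950 : act 0 n28887 = n28725 := d2_1 D28887 (iv F61634) F61632
theorem F61951 : act 2 n28887 = n28724 := d11_1 D28887 (iv D28724) (iv D24833) F38698 D20699 (iv F50577) (iv F61633) F61634 (iv D28725) (iv D24834) (iv D20395) F26310 D15364 D20700 D25075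
theorem F61952 : act 5 n28887 = n27945 := d16_2 F57961 D28887 F59106
theorem F61953 : act 6 n28887 = n28666 := d17_2 (iv F51167) D28887 (iv D28666)
def n28888 : Q := act 3 n25079
theorem D28888 : act 3 n25079 = n28888 := rfl
theorem F61954 : act 0 n28888 = n25080 := d2_1 D28888 (iv D25080) (iv F51181)
theorem F61955 : act 1 n28888 = n27839 := d7_1 D28888 F58799 (iv F51182)
theorem F61956 : act 6 n28888 = n26705 := d17_2 (iv F51183) D28888 (iv D26705)
def n28889 : Q := act 0 n25088
theorem D28889 : act 0 n25088 = n28889 := rfl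
theorem F61957 : act 1 n28889 = n27452 := d0_2 D25088 D28889 (iv D27452) (iv D23306) (iv F33971) D23429 F51217 (iv D25089) F39339
theorem F61958 : act 2 n28889 = n27511 := d1_2 F61946 D28889 (iv F61944)
theorem F61959 : act 4 n28889 = n25090 := d3_2 (iv F51215) D28889 (iv D25090)
theorem F61960 : act 6 n28889 = n27510 := d5_2 F60177 D28889 (iv F60173)
def n28890 : Q := act 2 n25092
theorem D28890 : act 2 n25092 = n28890 := rfl
theorem F61961 : act 0 n28890 = n27132 := d1_1 D28890 (iv F60034) F60032
theorem F61962 : act 1 n28890 = n28867 := d6_1 D28890 F61871 F56308 F46405 D25092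
theorem F61963 : act 4 n28890 = n25093 := d12_2 (iv F51225) D28890 (iv D25093)
theorem F61964 : act 6 n28890 = n28250 := d14_2 F56781 D28890 F60034
theorem F61965 : act 5 n28890 = n27418 := d24_1 (iv F61964) (iv D27418) (iv D23285) (iv D18870) (iv D13738) (iv F24030) (iv F24137) D18884 (iv F46361) D27454 (iv F58010) (iv F60038) (iv D28251) (iv F60033)
def n28891 : Q := act 5 n25092
theorem D28891 : act 5 n25092 = n28891 := rfl
theorem F61966 : act 1 n28891 = n27417 := d9_1 D28891 (iv F57615) F57616 F51209 D25092
theorem F61967 : act 2 n28891 = n27418 := d13_1 D28891 (iv F61965) (iv D28890)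
theorem F61968 : act 4 n28891 = n25094 := d18_1 D28891 (iv D25094) (iv F51225)
theorem F61969 : act 6 n28891 = n27418 := d22_1 D28891 (iv F61965) F61964 F60032
def n28892 : Q := act 3 n25104
theorem D28892 : act 3 n25104 = n28892 := rfl
def n28893 : Q := act 1 n25106
theorem D28893 : act 1 n25106 = n28893 := rfl
theorem F61970 : act 4 n28893 = n28619 := d8_2 (iv F51274) D28893 (iv D28619)
def n28894 : Q := act 3 n25106
theorem D28894 : act 3 n25106 = n28894 := rfl
theorem F61971 : act 0 n28894 = n28789 := d2_1 D28894 F61623 F61478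
theorem F61972 : act 2 n28894 = n28788 := d11_1 D28894 (iv D28788) (iv D24886) F38761 (iv F39283) (iv F50473) (iv F61479) (iv F61623) (iv D28789) (iv D24887) (iv D20430) F26350 D15422 D20753 D25106
theorem F61973 : act 5 n28894 = n28609 := d16_2 (iv F51275) D28894 (iv D28609)
theorem F61974 : act 6 n28894 = n27941 := d17_2 F57786 D28894 F59096
def n28895 : Q := act 3 n25107
theorem D28895 : act 3 n25107 = n28895 := rfl
theorem F61975 : act 0 n28895 = n25108 := d2_1 D28895 (iv D25108) (iv F51276)
theorem F61976 : act 1 n28895 = n27837 := d7_1 D28895 F58793 (iv F51277)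
theorem F61977 : act 5 n28895 = n26812 := d16_2 (iv F51278) D28895 (iv D26812)
def n28896 : Q := act 2 n25114
theorem D28896 : act 2 n25114 = n28896 := rfl
theorem F61978 : act 0 n28896 = n27110 := d1_1 D28896 F56715 (iv F51304)
theorem F61979 : act 1 n28896 = n27460 := d6_1 D28896 (iv D27460) (iv F51294) F51295 D25114
theorem F61980 : act 4 n28896 = n25116 := d12_2 (iv F51306) D28896 (iv D25116)
theorem F61981 : act 5 n28896 = n27108 := d13_2 F51308 D28896 (iv D27108)
theorem F61982 : act 6 n28896 = n25126 := d14_2 (iv F51307) D28896 (iv D25126)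
def n28897 : Q := act 1 n25117
theorem D28897 : act 1 n25117 = n28897 := rfl
theorem F61983 : act 0 n28897 = n25274 := d0_1 D28897 F51844 (iv F48164) (iv F55716) F55715 F43914 (iv F39714) (iv F39492) (iv F51318)
theorem F61984 : act 2 n28897 = n25183 := d6_2 D25117 D28897 F51540 F40163 (iv F39487)
theorem F61985 : act 3 n28897 = n28185 := d7_2 F55623 D28897 F59795
theorem F61986 : act 4 n28897 = n25119 := d8_2 (iv F51319) D28897 (iv D25119)
theorem F61987 : act 5 n28897 = n25182 := d9_2 (iv F51320) D28897 F51537 F48926 F48876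
theorem F61988 : act 6 n28897 = n25275 := d10_2 (iv F51321) D28897 F51847 F50970 F50966
def n28898 : Q := act 3 n25119
theorem D28898 : act 3 n25119 = n28898 := rfl
theorem F61989 : act 1 n28898 = n25120 := d7_1 D28898 (iv D25120) D25119
theorem F61990 : act 5 n28898 = n26520 := d16_2 F56137 D28898 F56138
theorem F61991 : act 6 n28898 = n26511 := d17_2 (iv F51329) D28898 F54722
theorem F61992 : act 2 n28898 = n26512 := d21_2 (iv F51328) D28898 F54724 (iv F50902) F50903 F48973 (iv F51579) (iv D25192)
def n28899 : Q := act 4 n25120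
theorem D28899 : act 4 n25120 = n28899 := rfl
theorem F61993 : act 0 n28899 = n25122 := d3_1 D28899 (iv D25122) (iv F51330)
theorem F61994 : act 6 n28899 = n25131 := d19_2 (iv F51331) D28899 (iv D25131)
def n28900 : Q := act 4 n25121
theorem D28900 : act 4 n25121 = n28900 := rfl
theorem F61995 : act 1 n28900 = n27249 := d8_1 D28900 F57124 (iv F51332)
theorem F61996 : act 2 n28900 = n25122 := d12_1 D28900 (iv D25122) D25121
theorem F61997 : act 6 n28900 = n25135 := d19_2 (iv F51333) D28900 (iv D25135)
def n28901 : Q := act 3 n25126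
theorem D28901 : act 3 n25126 = n28901 := rfl
theorem F61998 : act 1 n28901 = n26907 := d7_1 D28901 (iv D26907) (iv F51348)
def n28902 : Q := act 2 n25127
theorem D28902 : act 2 n25127 = n28902 := rfl
theorem F61999 : act 5 n28902 = n27278 := d13_2 (iv F51351) D28902 (iv D27278)
def n28903 : Q := act 4 n25130
theorem D28903 : act 4 n25130 = n28903 := rfl
theorem F62000 : act 0 n28903 = n25135 := d3_1 D28903 (iv D25135) (iv F51356)
theorem F62001 : act 1 n28903 = n26804 := d8_1 D28903 F55689 (iv F51357)
theorem F62002 : act 2 n28903 = n25131 := d12_1 D28903 (iv D25131) D25130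
theorem F62003 : act 5 n28903 = n27519 := d18_2 F51359 D28903 F57852
def n28904 : Q := act 4 n25133
theorem D28904 : act 4 n25133 = n28904 := rfl
theorem F62004 : act 0 n28904 = n27236 := d3_1 D28904 F57091 F51369
theorem F62005 : act 1 n28904 = n25135 := d8_1 D28904 (iv D25135) D25133
theorem F62006 : act 2 n28904 = n25142 := d12_1 D28904 (iv D25142) (iv F51367)
theorem F62007 : act 5 n28904 = n27788 := d18_2 F51370 D28904 (iv D27788)
def n28905 : Q := act 4 n25134
theorem D28905 : act 4 n25134 = n28905 := rfl
theorem F62008 : act 0 n28905 = n27463 := d3_1 D28905 F57707 (iv F51371)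
theorem F62009 : act 1 n28905 = n27599 := d8_1 D28905 F58042 (iv F51372)
theorem F62010 : act 2 n28905 = n27151 := d12_1 D28905 (iv D27151) (iv F51373)
theorem F62011 : act 5 n28905 = n27460 := d18_2 F51375 D28905 F57701
theorem F62012 : act 6 n28905 = n27234 := d19_2 (iv F51374) D28905 F57085
def n28906 : Q := act 3 n25135
theorem D28906 : act 3 n25135 = n28906 := rfl
def n28907 : Q := act 5 n25135
theorem D28907 : act 5 n25135 = n28907 := rfl
theorem F62013 : act 0 n28907 = n27519 := d4_1 D28907 (iv F62003) F62000
theorem F62014 : act 2 n28907 = n25137 := d13_1 D28907 (iv D25137) (iv F51376)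
theorem F62015 : act 4 n28907 = n25136 := d18_1 D28907 (iv D25136) D25135
def n28908 : Q := act 6 n25137
theorem D28908 : act 6 n25137 = n28908 := rfl
theorem F62016 : act 0 n28908 = n28865 := d5_1 D28908 F61865 F53917
theorem F62017 : act 1 n28908 = n27925 := d10_1 D28908 (iv D27925) (iv F56107) F56110 (iv F51380)
theorem F62018 : act 3 n28908 = n27926 := d17_1 D28908 F59058 (iv F53911)
theorem F62019 : act 4 n28908 = n25138 := d19_1 D28908 (iv D25138) (iv F51381)
theorem F62020 : act 5 n28908 = n28899 := d20_1 D28908 F61994 F53920 (iv F61865) F61864 F51336 D25137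
def n28909 : Q := act 4 n25139
theorem D28909 : act 4 n25139 = n28909 := rfl
theorem F62021 : act 0 n28909 = n27251 := d3_1 D28909 F57130 (iv F51386)
theorem F62022 : act 1 n28909 = n25164 := d8_1 D28909 (iv D25164) (iv F51387)
theorem F62023 : act 2 n28909 = n25140 := d12_1 D28909 (iv D25140) D25139
theorem F62024 : act 6 n28909 = n27763 := d19_2 F51389 D28909 (iv D27763)
def n28910 : Q := act 2 n25147
theorem D28910 : act 2 n25147 = n28910 := rfl
theorem F62025 : act 0 n28910 = n27085 := d1_1 D28910 F56643 (iv F51420)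
theorem F62026 : act 1 n28910 = n27373 := d6_1 D28910 (iv D27373) (iv F51416) F51417 D25147
theorem F62027 : act 4 n28910 = n25148 := d12_2 (iv F51422) D28910 (iv D25148)
theorem F62028 : act 5 n28910 = n25157 := d13_2 (iv F51423) D28910 (iv D25157)
theorem F62029 : act 6 n28910 = n27082 := d14_2 F51424 D28910 (iv D27082)
def n28911 : Q := act 1 n25149
theorem D28911 : act 1 n25149 = n28911 := rfl
theorem F62030 : act 0 n28911 = n25286 := d0_1 D28911 F51884 (iv F48176) (iv F55349) F55348 F43386 (iv F39758) (iv F39976) (iv F51429)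
theorem F62031 : act 2 n28911 = n25230 := d6_2 D25149 D28911 F51695 F40387 (iv F39971)
theorem F62032 : act 3 n28911 = n28175 := d7_2 F55151 D28911 F59754
theorem F62033 : act 4 n28911 = n25151 := d8_2 (iv F51430) D28911 (iv D25151)
theorem F62034 : act 5 n28911 = n25287 := d9_2 (iv F51431) D28911 F51887 F51047 F51043
theorem F62035 : act 6 n28911 = n25229 := d10_2 (iv F51432) D28911 F51692 F48872 F48846
def n28912 : Q := act 3 n25151
theorem D28912 : act 3 n25151 = n28912 := rfl
theorem F62036 : act 1 n28912 = n25152 := d7_1 D28912 (iv D25152) D25151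
theorem F62037 : act 5 n28912 = n26541 := d16_2 (iv F51440) D28912 F54818
theorem F62038 : act 6 n28912 = n26549 := d17_2 (iv F56207) D28912 F56206
theorem F62039 : act 2 n28912 = n26542 := d21_2 (iv F51439) D28912 F54820 (iv F50837) F50838 F48958 (iv F51740) (iv D25240)
def n28913 : Q := act 4 n25152
theorem D28913 : act 4 n25152 = n28913 := rfl
theorem F62040 : act 0 n28913 = n25154 := d3_1 D28913 (iv D25154) (iv F51441)
theorem F62041 : act 5 n28913 = n25162 := d18_2 (iv F51442) D28913 (iv D25162)
def n28914 : Q := act 4 n25153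
theorem D28914 : act 4 n25153 = n28914 := rfl
theorem F62042 : act 1 n28914 = n27234 := d8_1 D28914 F57085 (iv F51443)
theorem F62043 : act 2 n28914 = n25154 := d12_1 D28914 (iv D25154) D25153
theorem F62044 : act 5 n28914 = n25164 := d18_2 (iv F51444) D28914 (iv D25164)
def n28915 : Q := act 3 n25157
theorem D28915 : act 3 n25157 = n28915 := rfl
theorem F62045 : act 1 n28915 = n26924 := d7_1 D28915 (iv D26924) (iv F51457)
def n28916 : Q := act 2 n25158
theorem D28916 : act 2 n25158 = n28916 := rfl
theorem F62046 : act 6 n28916 = n27303 := d14_2 (iv F51460) D28916 (iv D27303)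
def n28917 : Q := act 4 n25161
theorem D28917 : act 4 n25161 = n28917 := rfl
theorem F62047 : act 0 n28917 = n25164 := d3_1 D28917 (iv D25164) (iv F51465)
theorem F62048 : act 1 n28917 = n26694 := d8_1 D28917 F55315 (iv F51466)
theorem F62049 : act 2 n28917 = n25162 := d12_1 D28917 (iv D25162) D25161
theorem F62050 : act 6 n28917 = n27595 := d19_2 (iv F51467) D28917 F58030
def n28918 : Q := act 4 n25163
theorem D28918 : act 4 n25163 = n28918 := rfl
theorem F62051 : act 0 n28918 = n27377 := d3_1 D28918 F57484 (iv F51471)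
theorem F62052 : act 1 n28918 = n27523 := d8_1 D28918 F57863 (iv F51472)
theorem F62053 : act 2 n28918 = n27142 := d12_1 D28918 (iv D27142) (iv F51473)
theorem F62054 : act 5 n28918 = n27249 := d18_2 (iv F51474) D28918 F57124
theorem F62055 : act 6 n28918 = n27373 := d19_2 F51475 D28918 F57474
def n28919 : Q := act 3 n25164
theorem D28919 : act 3 n25164 = n28919 := rfl
def n28920 : Q := act 6 n25164
theorem D28920 : act 6 n25164 = n28920 := rfl
theorem F62056 : act 0 n28920 = n27595 := d5_1 D28920 (iv F62050) F62047
theorem F62057 : act 2 n28920 = n25166 := d14_1 D28920 (iv D25166) (iv F51476)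
theorem F62058 : act 4 n28920 = n25165 := d19_1 D28920 (iv D25165) D25164
def n28921 : Q := act 5 n25166
theorem D28921 : act 5 n25166 = n28921 := rfl
theorem F62059 : act 0 n28921 = n28837 := d4_1 D28921 F61776 F53325
theorem F62060 : act 1 n28921 = n27897 := d9_1 D28921 (iv D27897) (iv F56192) F56195 (iv F51480)
theorem F62061 : act 3 n28921 = n27898 := d16_1 D28921 F58987 (iv F53319)
theorem F62062 : act 4 n28921 = n25167 := d18_1 D28921 (iv D25167) (iv F51481)
theorem F62063 : act 6 n28921 = n28913 := d20_2 D25166 D28921 F62041 F53328 (iv F61776) F61777 F51447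
def n28922 : Q := act 5 n25169
theorem D28922 : act 5 n25169 = n28922 := rfl
theorem F62064 : act 0 n28922 = n25278 := d4_1 D28922 F51856 F51492
theorem F62065 : act 4 n28922 = n25272 := d18_1 D28922 (iv D25272) (iv F51490)
theorem F62066 : act 6 n28922 = n25278 := d22_1 D28922 F51856 F48061 F51492
def n28923 : Q := act 4 n25178
theorem D28923 : act 4 n25178 = n28923 := rfl
theorem F62067 : act 0 n28923 = n27255 := d3_1 D28923 F57144 (iv F51521)
theorem F62068 : act 2 n28923 = n28215 := d12_1 D28923 F59896 (iv F51522)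
theorem F62069 : act 5 n28923 = n27803 := d18_2 (iv F51523) D28923 F58660
def n28924 : Q := act 5 n25179
theorem D28924 : act 5 n25179 = n28924 := rfl
theorem F62070 : act 0 n28924 = n25180 := d4_1 D28924 (iv D25180) D25179
theorem F62071 : act 2 n28924 = n27808 := d13_1 D28924 F58679 (iv F51524)
theorem F62072 : act 3 n28924 = n27135 := d16_1 D28924 F56787 (iv F51525)
theorem F62073 : act 4 n28924 = n28895 := d18_1 D28924 F61977 (iv F55717)
theorem F62074 : act 6 n28924 = n27808 := d20_2 (iv F51526) D28924 F58679 F49025 D25180 F51532 (iv F51520)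
def n28925 : Q := act 1 n25184
theorem D28925 : act 1 n25184 = n28925 := rfl
theorem F62075 : act 0 n28925 = n28925 := d0_1 D28925 (iv D28925) (iv F58705) (iv D27815) F47613 F36352 (iv F47613) D27815 F58705
theorem F62076 : act 2 n28925 = n25187 := d6_2 (iv F51544) D28925 (iv D25187) F40149 (iv F40134)
theorem F62077 : act 3 n28925 = n26643 := d7_2 (iv F51545) D28925 F55154
theorem F62078 : act 4 n28925 = n27818 := d8_2 (iv F51546) D28925 (iv D27818)
theorem F62079 : act 5 n28925 = n25187 := d9_2 D25184 D28925 (iv D25187) (iv D20899) (iv F40132)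
theorem F62080 : act 6 n28925 = n26912 := d10_2 (iv F51547) D28925 (iv D26912) (iv F44436) (iv F51053)
def n28926 : Q := act 5 n25185
theorem D28926 : act 5 n25185 = n28926 := rfl
theorem F62081 : act 0 n28926 = n28189 := d4_1 D28926 (iv F59826) F59823
theorem F62082 : act 1 n28926 = n25242 := d9_1 D28926 F51751 (iv D22194) F40142 D25185
theorem F62083 : act 2 n28926 = n27824 := d13_1 D28926 F58740 F51776
theorem F62084 : act 3 n28926 = n26644 := d16_1 D28926 F55158 (iv F51548)
theorem F62085 : act 4 n28926 = n25252 := d18_1 D28926 (iv F58740) F58739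
theorem F62086 : act 6 n28926 = n28188 := d20_2 F59760 D28926 F59811 D28193 F59826 (iv D28189) (iv F59759)
def n28927 : Q := act 1 n25194
theorem D28927 : act 1 n25194 = n28927 := rfl
theorem F62087 : act 2 n28927 = n27819 := d6_2 (iv F51587) D28927 (iv D27819) (iv D23816) (iv F47703)
theorem F62088 : act 3 n28927 = n26785 := d7_2 (iv F51588) D28927 (iv D26785)
theorem F62089 : act 4 n28927 = n25203 := d8_2 (iv F51589) D28927 (iv D25203)
theorem F62090 : act 5 n28927 = n28190 := d9_2 D25194 D28927 F59813 F51584 (iv D25193)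
theorem F62091 : act 6 n28927 = n25233 := d10_2 (iv F51590) D28927 (iv D25233) (iv F40366) D22399
theorem F62092 : act 0 n28927 = n28191 := d23_3 (iv F47705) (iv F51587) D28927 (iv D28191) (iv F56189) (iv D26950) F44656 (iv D17649) (iv F30879) (iv D17646) (iv F32601) (iv D14112) F19568 D11061 (iv F32622) (iv F19582) D14121 D19368 (iv F40633)
def n28928 : Q := act 4 n25198
theorem D28928 : act 4 n25198 = n28928 := rfl
theorem F62093 : act 1 n28928 = n25201 := d8_1 D28928 (iv D25201) (iv F51601)
def n28929 : Q := act 6 n25198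
theorem D28929 : act 6 n25198 = n28929 := rfl
theorem F62094 : act 0 n28929 = n27040 := d5_1 D28929 (iv F58555) F58553
theorem F62095 : act 2 n28929 = n27039 := d14_1 D28929 (iv F58551) (iv F58552)
theorem F62096 : act 3 n28929 = n25200 := d17_1 D28929 (iv D25200) D25198
theorem F62097 : act 5 n28929 = n27771 := d20_1 D28929 (iv F58559) (iv F58557) F58555 F56490 D27772 F58538
def n28930 : Q := act 1 n25200
theorem D28930 : act 1 n25200 = n28930 := rfl
theorem F62098 : act 6 n28930 = n25204 := d10_2 D25200 D28930 (iv D25204) (iv D20933) D20930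
def n28931 : Q := act 6 n25206
theorem D28931 : act 6 n25206 = n28931 := rfl
theorem F62099 : act 3 n28931 = n26967 := d17_1 D28931 (iv D26967) (iv F51614)
def n28932 : Q := act 1 n25213
theorem D28932 : act 1 n25213 = n28932 := rfl
theorem F62100 : act 0 n28932 = n28932 := d0_1 D28932 (iv D28932) F51635 (iv F40480) F40479 F31974 (iv F40479) F40480 (iv F51635)
theorem F62101 : act 2 n28932 = n27136 := d6_2 (iv F51636) D28932 (iv D27136) F45515 (iv F44289)
theorem F62102 : act 3 n28932 = n25214 := d7_2 (iv F51637) D28932 (iv D25214)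
theorem F62103 : act 5 n28932 = n27136 := d9_2 (iv F51638) D28932 (iv D27136) (iv D22985) (iv F44284)
def n28933 : Q := act 6 n25217
theorem D28933 : act 6 n25217 = n28933 := rfl
theorem F62104 : act 0 n28933 = n25264 := d5_1 D28933 F51813 (iv F51648)
theorem F62105 : act 1 n28933 = n28922 := d10_1 D28933 F62066 (iv D25278) F40569 D25217
theorem F62106 : act 2 n28933 = n28930 := d14_1 D28933 F62098 (iv F51649)
theorem F62107 : act 4 n28933 = n25267 := d19_1 D28933 F51821 (iv F51650)
theorem F62108 : act 5 n28933 = n25264 := d22_2 F51651 D28933 F51813 (iv F51648)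
def n28934 : Q := act 4 n25225
theorem D28934 : act 4 n25225 = n28934 := rfl
theorem F62109 : act 0 n28934 = n27240 := d3_1 D28934 F57105 (iv F51677)
theorem F62110 : act 2 n28934 = n28203 := d12_1 D28934 F59856 (iv F51678)
theorem F62111 : act 6 n28934 = n27812 := d19_2 (iv F51679) D28934 F58695
def n28935 : Q := act 6 n25226
theorem D28935 : act 6 n25226 = n28935 := rfl
theorem F62112 : act 0 n28935 = n25227 := d5_1 D28935 (iv D25227) D25226
theorem F62113 : act 2 n28935 = n27817 := d14_1 D28935 F58714 (iv F51680)
theorem F62114 : act 3 n28935 = n27133 := d17_1 D28935 F56784 (iv F51681)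
theorem F62115 : act 4 n28935 = n28888 := d19_1 D28935 F61956 (iv F55350)
theorem F62116 : act 5 n28935 = n27817 := d20_1 D28935 F58714 F48983 D25227 F51688 (iv F51676) (iv F51682)
def n28936 : Q := act 1 n25232
theorem D28936 : act 1 n25232 = n28936 := rfl
theorem F62117 : act 0 n28936 = n28936 := d0_1 D28936 (iv D28936) (iv F58670) (iv D27806) F47531 F36250 (iv F47531) D27806 F58670
theorem F62118 : act 2 n28936 = n25235 := d6_2 (iv F51704) D28936 (iv D25235) F40373 (iv F40356)
theorem F62119 : act 3 n28936 = n26784 := d7_2 (iv F51705) D28936 F55626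
theorem F62120 : act 4 n28936 = n27823 := d8_2 (iv F51706) D28936 (iv D27823)
theorem F62121 : act 5 n28936 = n26889 := d9_2 (iv F51707) D28936 (iv D26889) (iv F44267) (iv F50976)
theorem F62122 : act 6 n28936 = n25235 := d10_2 D25232 D28936 (iv D25235) (iv D20983) (iv F40354)
def n28937 : Q := act 4 n25246
theorem D28937 : act 4 n25246 = n28937 := rfl
theorem F62123 : act 1 n28937 = n25249 := d8_1 D28937 (iv D25249) (iv F51764)
def n28938 : Q := act 5 n25246
theorem D28938 : act 5 n25246 = n28938 := rfl
theorem F62124 : act 0 n28938 = n27037 := d4_1 D28938 (iv F58467) F58465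
theorem F62125 : act 2 n28938 = n27036 := d13_1 D28938 (iv F58463) F58464
theorem F62126 : act 3 n28938 = n25247 := d16_1 D28938 (iv D25247) D25246
theorem F62127 : act 6 n28938 = n27796 := d20_2 F58638 D28938 F58635 F58469 F58467 F56482 D27797
def n28939 : Q := act 1 n25247
theorem D28939 : act 1 n25247 = n28939 := rfl
theorem F62128 : act 2 n28939 = n28922 := d6_2 (iv F51765) D28939 (iv F62105) F62106 (iv D28930)
theorem F62129 : act 5 n28939 = n25251 := d9_2 D25247 D28939 (iv D25251) (iv D21014) D21012
def n28940 : Q := act 5 n25254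
theorem D28940 : act 5 n25254 = n28940 := rfl
theorem F62130 : act 3 n28940 = n26949 := d16_1 D28940 (iv D26949) (iv F51778)
def n28941 : Q := act 1 n25261
theorem D28941 : act 1 n25261 = n28941 := rfl
theorem F62131 : act 0 n28941 = n28941 := d0_1 D28941 (iv D28941) F51802 F40494 F40244 F31999 (iv F40244) (iv F40494) (iv F51802)
theorem F62132 : act 2 n28941 = n27134 := d6_2 (iv F51803) D28941 (iv D27134) F45490 (iv F44455)
theorem F62133 : act 3 n28941 = n25262 := d7_2 (iv F51804) D28941 (iv D25262)
theorem F62134 : act 6 n28941 = n27134 := d10_2 (iv F51805) D28941 (iv D27134) (iv D22976) (iv F44450)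
def n28942 : Q := act 2 n25264
theorem D28942 : act 2 n25264 = n28942 := rfl
theorem F62135 : act 0 n28942 = n28930 := d1_1 D28942 (iv F62106) F62104
theorem F62136 : act 1 n28942 = n25273 := d6_1 D28942 (iv D25273) (iv D21041) (iv F40503) D25264
theorem F62137 : act 4 n28942 = n25268 := d12_2 (iv F51812) D28942 (iv D25268)
theorem F62138 : act 5 n28942 = n28930 := d13_2 F62108 D28942 (iv F62106)
theorem F62139 : act 6 n28942 = n27874 := d14_2 (iv F51813) D28942 (iv D27874)
def n28943 : Q := act 2 n25267
theorem D28943 : act 2 n25267 = n28943 := rfl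
theorem F62140 : act 0 n28943 = n25268 := d1_1 D28943 (iv D25268) D25267
theorem F62141 : act 4 n28943 = n28930 := d12_2 F62107 D28943 (iv F62106)
theorem F62142 : act 5 n28943 = n25268 := d13_2 (iv F51822) D28943 (iv D25268)
theorem F62143 : act 6 n28943 = n25284 := d14_2 (iv F51821) D28943 (iv D25284)
theorem F62144 : act 3 n28943 = n28261 := d21_1 D28943 F60074 (iv F55454) F55453 (iv F55444) F55443 F51819 D25267
theorem F62145 : act 1 n28272 = n28943 := d23_18 (iv F62142) (iv D28943) (iv F51839) F51838 F40579 D23919 F48066 (iv F48143) F48179 F48177 F48126 (iv D19889) D19891 (iv F43024) (iv F49458) (iv F51743) (iv F60158) F60155 F62140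
def n28944 : Q := act 3 n25268
theorem D28944 : act 3 n25268 = n28944 := rfl
theorem F62146 : act 0 n28944 = n28261 := d2_1 D28944 (iv F62144) F62140
theorem F62147 : act 1 n28944 = n25276 := d7_1 D28944 (iv D25276) (iv F51823)
theorem F62148 : act 2 n28944 = n26740 := d11_1 D28944 (iv D26740) (iv D22313) (iv F43538) D26738 (iv F55479) D28943 F62144 F60074 (iv F55454) F55453 (iv F55444) F55443 F51819 D25268
theorem F62149 : act 5 n28944 = n28261 := d16_2 F62142 D28944 (iv F62144)
theorem F62150 : act 6 n28944 = n27876 := d17_2 (iv F51824) D28944 (iv D27876)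
def n28945 : Q := act 5 n25271
theorem D28945 : act 5 n25271 = n28945 := rfl
theorem F62151 : act 0 n28945 = n25281 := d4_1 D28945 F51866 (iv F51833)
theorem F62152 : act 1 n28945 = n28282 := d9_1 D28945 F60158 (iv D25241) F40560 (iv F51834)
theorem F62153 : act 2 n28945 = n25272 := d13_1 D28945 (iv D25272) D25271
theorem F62154 : act 3 n28945 = n28239 := d16_1 D28945 (iv D28239) (iv F51837)
theorem F62155 : act 4 n28945 = n28939 := d18_1 D28945 F62129 (iv F51835)
theorem F62156 : act 6 n28945 = n25281 := d22_1 D28945 F51866 F48067 (iv F51833)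
def n28946 : Q := act 3 n25273
theorem D28946 : act 3 n25273 = n28946 := rfl
theorem F62157 : act 0 n28946 = n26511 := d2_1 D28946 F54722 (iv F51841)
theorem F62158 : act 2 n28946 = n26510 := d11_1 D28946 F54719 F42726 (iv F30346) F30345 (iv F36428) (iv F47526) (iv F54722) (iv D26511) F42724 (iv F39036) (iv F44210) F44209 (iv F40536) D25273
theorem F62159 : act 5 n28946 = n27804 := d16_2 (iv F51843) D28946 (iv D27804)
def n28947 : Q := act 4 n25276
theorem D28947 : act 4 n25276 = n28947 := rfl
def n28948 : Q := act 2 n25278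
theorem D28948 : act 2 n25278 = n28948 := rfl
theorem F62160 : act 0 n28948 = n28939 := d1_1 D28948 F62128 F62064
theorem F62161 : act 1 n28948 = n25285 := d6_1 D28948 (iv D25285) (iv D21062) (iv F40567) D25278
theorem F62162 : act 4 n28948 = n25281 := d12_2 (iv F51855) D28948 (iv D25281)
theorem F62163 : act 5 n28948 = n27875 := d13_2 (iv F51856) D28948 (iv D27875)
theorem F62164 : act 6 n28948 = n28939 := d14_2 F62066 D28948 F62128
def n28949 : Q := act 3 n25281
theorem D28949 : act 3 n25281 = n28949 := rfl
theorem F62165 : act 0 n28949 = n28239 := d2_1 D28949 (iv F62154) F62151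
theorem F62166 : act 1 n28949 = n25288 := d7_1 D28949 (iv D25288) (iv F51865)
theorem F62167 : act 2 n28949 = n26586 := d11_1 D28949 (iv D26586) (iv D22098) (iv F42987) D26584 (iv F54972) (iv F62153) F62154 F59990 (iv F54946) F54945 (iv F54935) F54934 F51863 D25281
theorem F62168 : act 5 n28949 = n27877 := d16_2 (iv F51866) D28949 (iv D27877)
theorem F62169 : act 6 n28949 = n28239 := d17_2 F62156 D28949 (iv F62154)
def n28950 : Q := act 3 n25285
theorem D28950 : act 3 n25285 = n28950 := rfl
theorem F62170 : act 0 n28950 = n26541 := d2_1 D28950 F54818 (iv F51881)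
theorem F62171 : act 2 n28950 = n26540 := d11_1 D28950 F54815 F42839 (iv F30477) F30476 D19455 (iv F47603) (iv F54818) (iv D26541) F42837 (iv F38957) (iv F44375) F44374 (iv F40607) D25285
theorem F62172 : act 6 n28950 = n27813 := d17_2 (iv F51883) D28950 (iv D27813)
def n28951 : Q := act 4 n25288
theorem D28951 : act 4 n25288 = n28951 := rfl
def n28952 : Q := act 6 n25291
theorem D28952 : act 6 n25291 = n28952 := rfl
theorem F62173 : act 3 n28952 = n26127 := d17_1 D28952 F53754 (iv F51898)
theorem F62174 : act 4 n28952 = n25292 := d19_1 D28952 (iv D25292) D25291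
theorem F62175 : act 1 n26140 = n28952 := d7_3 F62173 F53752 D26140
def n28953 : Q := act 1 n25292
theorem D28953 : act 1 n25292 = n28953 := rfl
theorem F62176 : act 2 n28953 = n27515 := d6_2 F60197 D28953 (iv D27515) (iv F57839) F60199
theorem F62177 : act 3 n28953 = n25293 := d7_2 (iv F51899) D28953 (iv D25293)
theorem F62178 : act 4 n28953 = n26140 := d8_2 F62174 D28953 F62175
theorem F62179 : act 5 n28953 = n25993 := d9_2 F53706 D28953 F53455 D25996 (iv F53705)
theorem F62180 : act 0 n26318 = n28953 := d4_3 F62179 F53454 D26318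
def n28954 : Q := act 5 n25295
theorem D28954 : act 5 n25295 = n28954 := rfl
theorem F62181 : act 3 n28954 = n25892 := d16_1 D28954 F53165 (iv F51907)
theorem F62182 : act 4 n28954 = n25296 := d18_1 D28954 (iv D25296) D25295
theorem F62183 : act 1 n25905 = n28954 := d7_3 F62181 F53163 D25905
def n28955 : Q := act 1 n25296
theorem D28955 : act 1 n25296 = n28955 := rfl
theorem F62184 : act 2 n28955 = n27591 := d6_2 F60205 D28955 (iv D27591) (iv F58015) F60207
theorem F62185 : act 3 n28955 = n25297 := d7_2 (iv F51908) D28955 (iv D25297)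
theorem F62186 : act 4 n28955 = n25905 := d8_2 F62182 D28955 F62183
theorem F62187 : act 6 n28955 = n26224 := d10_2 F53101 D28955 F54045 D26228 (iv F54056)
theorem F62188 : act 0 n26395 = n28955 := d5_3 F62187 F54044 D26395
def n28956 : Q := act 3 n25300
theorem D28956 : act 3 n25300 = n28956 := rfl
theorem F62189 : act 0 n28956 = n28359 := d2_1 D28956 F60363 (iv F51915)
theorem F62190 : act 5 n28956 = n27938 := d16_2 (iv F51917) D28956 (iv D27938)
def n28957 : Q := act 3 n25301
theorem D28957 : act 3 n25301 = n28957 := rfl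
theorem F62191 : act 0 n28957 = n28338 := d2_1 D28957 (iv D28338) (iv F56274)
theorem F62192 : act 1 n28957 = n25302 := d7_1 D28957 (iv D25302) D25301
theorem F62193 : act 5 n28957 = n27884 := d16_2 F58943 D28957 F58952
theorem F62194 : act 2 n28431 = n28957 := d6_0 F62192 F51921 F49831 (iv F49846) (iv F60558)
theorem F62195 : act 4 n28427 = n28957 := d8_0 F62192 (iv F51922) D28427
def n28958 : Q := act 6 n25301
theorem D28958 : act 6 n25301 = n28958 := rfl
theorem F62196 : act 0 n28958 = n28340 := d5_1 D28958 (iv D28340) (iv F56274)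
theorem F62197 : act 4 n28958 = n28340 := d19_1 D28958 (iv D28340) (iv F51918)
def n28959 : Q := act 1 n25303
theorem D28959 : act 1 n25303 = n28959 := rfl
theorem F62198 : act 0 n28959 = n28290 := d0_1 D28959 F60192 F57312 (iv F48273) F48272 F37001 (iv F38295) (iv F49831) (iv F51923)
theorem F62199 : act 2 n28959 = n27198 := d6_2 D25303 D28959 F56996 (iv D27181) F45815
theorem F62200 : act 3 n28959 = n26552 := d7_2 (iv F51924) D28959 F54845
theorem F62201 : act 4 n28959 = n25812 := d8_2 F51926 D28959 F52966
theorem F62202 : act 5 n28959 = n27198 := d9_2 (iv F51925) D28959 F56996 F56950 F49812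
def n28960 : Q := act 6 n25303
theorem D28960 : act 6 n25303 = n28960 := rfl
theorem F62203 : act 0 n28960 = n28429 := d5_1 D28960 (iv D28429) (iv F51923)
theorem F62204 : act 2 n28960 = n25305 := d14_1 D28960 (iv D25305) D25303
theorem F62205 : act 3 n28960 = n25383 := d17_1 D28960 F52086 (iv F51924)
theorem F62206 : act 4 n28960 = n28426 := d19_1 D28960 (iv D28426) F51926
theorem F62207 : act 5 n28960 = n25381 := d20_1 D28960 (iv D25381) F49833 D28429 F60553 (iv D25360) (iv F51925)
def n28961 : Q := act 6 n25304
theorem D28961 : act 6 n25304 = n28961 := rfl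
theorem F62208 : act 0 n28961 = n28428 := d5_1 D28961 (iv D28428) (iv F51927)
theorem F62209 : act 2 n28961 = n28426 := d14_1 D28961 (iv D28426) (iv F51928)
theorem F62210 : act 4 n28961 = n25305 := d19_1 D28961 (iv D25305) D25304
def n28962 : Q := act 1 n25305
theorem D28962 : act 1 n25305 = n28962 := rfl
theorem F62211 : act 3 n28962 = n25306 := d7_2 (iv F51930) D28962 (iv D25306)
def n28963 : Q := act 0 n25306
theorem D28963 : act 0 n25306 = n28963 := rfl
def n28964 : Q := act 2 n25306
theorem D28964 : act 2 n25306 = n28964 := rfl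
theorem F62212 : act 1 n28964 = n25307 := d6_1 D28964 (iv D25307) (iv D21095) (iv F40714) D25306
theorem F62213 : act 6 n28964 = n27223 := d14_2 F56956 D28964 F57059
def n28965 : Q := act 5 n25306
theorem D28965 : act 5 n25306 = n28965 := rfl
theorem F62214 : act 4 n28965 = n26304 := d18_1 D28965 (iv F60302) F60213
def n28966 : Q := act 3 n25307
theorem D28966 : act 3 n25307 = n28966 := rfl
theorem F62215 : act 0 n28966 = n28400 := d2_1 D28966 (iv F60472) F60454
theorem F62216 : act 6 n28966 = n25309 := d17_2 (iv F51931) D28966 (iv D25309)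
theorem F62217 : act 2 n28402 = n28966 := d21_0 (iv D28966) (iv D25307) F40715 D21109 D25324 (iv F60481) (iv D28403) D28402
def n28967 : Q := act 1 n25308
theorem D28967 : act 1 n25308 = n28967 := rfl
def n28968 : Q := act 3 n25308
theorem D28968 : act 3 n25308 = n28968 := rfl
theorem F62218 : act 0 n28968 = n25309 := d2_1 D28968 (iv D25309) (iv F51932)
theorem F62219 : act 5 n28968 = n25792 := d16_2 (iv F51933) D28968 (iv D25792)
theorem F62220 : act 6 n28968 = n28400 := d17_2 F60456 D28968 (iv F60472)
theorem F62221 : act 2 n28968 = n28405 := d21_2 D25308 D28968 F60485 (iv D25326) (iv D21111) (iv D15963) (iv F27583) D21096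
def n28969 : Q := act 5 n25309
theorem D28969 : act 5 n25309 = n28969 := rfl
theorem F62222 : act 0 n28969 = n25792 := d4_1 D28969 (iv F62219) F62218
theorem F62223 : act 3 n28969 = n25310 := d16_1 D28969 (iv D25310) D25309
theorem F62224 : act 1 n25614 = n28969 := d7_3 F62223 (iv F51937) D25614
def n28970 : Q := act 6 n25310
theorem D28970 : act 6 n25310 = n28970 := rfl
theorem F62225 : act 0 n28970 = n25775 := d5_1 D28970 F52886 (iv F51935)
theorem F62226 : act 2 n28970 = n25311 := d14_1 D28970 (iv D25311) (iv F51936)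
theorem F62227 : act 5 n28970 = n28393 := d20_1 D28970 F60456 F51933 (iv F52886) F52885 F51931 D25310
def n28971 : Q := act 3 n25312
theorem D28971 : act 3 n25312 = n28971 := rfl
theorem F62228 : act 0 n28971 = n28389 := d2_1 D28971 F60444 (iv F51942)
theorem F62229 : act 6 n28971 = n27942 := d17_2 (iv F51944) D28971 (iv D27942)
def n28972 : Q := act 3 n25313
theorem D28972 : act 3 n25313 = n28972 := rfl
theorem F62230 : act 0 n28972 = n28342 := d2_1 D28972 (iv D28342) F56973
theorem F62231 : act 1 n28972 = n25314 := d7_1 D28972 (iv D25314) D25313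
theorem F62232 : act 6 n28972 = n27912 := d17_2 F58945 D28972 F59023
theorem F62233 : act 2 n28485 = n28972 := d6_0 F62231 F51948 F49968 (iv F49983) (iv F60720)
theorem F62234 : act 4 n28481 = n28972 := d8_0 F62231 (iv F51949) D28481
def n28973 : Q := act 5 n25313
theorem D28973 : act 5 n25313 = n28973 := rfl
theorem F62235 : act 0 n28973 = n28343 := d4_1 D28973 (iv D28343) F56973
theorem F62236 : act 4 n28973 = n28343 := d18_1 D28973 (iv D28343) (iv F51945)
def n28974 : Q := act 1 n25315
theorem D28974 : act 1 n25315 = n28974 := rfl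
theorem F62237 : act 0 n28974 = n28292 := d0_1 D28974 F60200 F57557 (iv F48340) F48339 F37034 (iv F38361) (iv F49968) (iv F51950)
theorem F62238 : act 2 n28974 = n27200 := d6_2 D25315 D28974 F57002 (iv D27193) F45825
theorem F62239 : act 3 n28974 = n26710 := d7_2 (iv F51951) D28974 F55368
theorem F62240 : act 4 n28974 = n26057 := d8_2 F51953 D28974 F53573
theorem F62241 : act 6 n28974 = n27200 := d10_2 (iv F51952) D28974 F57002 F56985 F49949
def n28975 : Q := act 5 n25315
theorem D28975 : act 5 n25315 = n28975 := rfl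
theorem F62242 : act 0 n28975 = n28483 := d4_1 D28975 (iv D28483) (iv F51950)
theorem F62243 : act 2 n28975 = n25317 := d13_1 D28975 (iv D25317) D25315
theorem F62244 : act 3 n28975 = n25395 := d16_1 D28975 F52125 (iv F51951)
theorem F62245 : act 4 n28975 = n28480 := d18_1 D28975 (iv D28480) F51953
theorem F62246 : act 6 n28975 = n25393 := d20_2 (iv F51952) D28975 (iv D25393) F49970 D28483 F60715 (iv D25370)
def n28976 : Q := act 5 n25316
theorem D28976 : act 5 n25316 = n28976 := rfl
theorem F62247 : act 0 n28976 = n28482 := d4_1 D28976 (iv D28482) (iv F51954)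
theorem F62248 : act 2 n28976 = n28480 := d13_1 D28976 (iv D28480) (iv F51955)
theorem F62249 : act 4 n28976 = n25317 := d18_1 D28976 (iv D25317) D25316
def n28977 : Q := act 1 n25317
theorem D28977 : act 1 n25317 = n28977 := rfl
theorem F62250 : act 3 n28977 = n25318 := d7_2 (iv F51957) D28977 (iv D25318)
def n28978 : Q := act 0 n25318
theorem D28978 : act 0 n25318 = n28978 := rfl
def n28979 : Q := act 2 n25318
theorem D28979 : act 2 n25318 = n28979 := rfl
theorem F62251 : act 1 n28979 = n25319 := d6_1 D28979 (iv D25319) (iv D21103) (iv F40731) D25318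
theorem F62252 : act 5 n28979 = n27211 := d13_2 F56991 D28979 F57029
def n28980 : Q := act 6 n25318
theorem D28980 : act 6 n25318 = n28980 := rfl
theorem F62253 : act 4 n28980 = n26380 := d19_1 D28980 F60436 F60224
def n28981 : Q := act 3 n25319
theorem D28981 : act 3 n25319 = n28981 := rfl
theorem F62254 : act 0 n28981 = n28371 := d2_1 D28981 (iv F60393) F60375
theorem F62255 : act 5 n28981 = n25321 := d16_2 (iv F51958) D28981 (iv D25321)
theorem F62256 : act 2 n28373 = n28981 := d21_0 (iv D28981) (iv D25319) F40732 D21116 D25329 (iv F60402) (iv D28374) D28373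
def n28982 : Q := act 1 n25320
theorem D28982 : act 1 n25320 = n28982 := rfl
def n28983 : Q := act 3 n25320
theorem D28983 : act 3 n25320 = n28983 := rfl
theorem F62257 : act 0 n28983 = n25321 := d2_1 D28983 (iv D25321) (iv F51959)
theorem F62258 : act 5 n28983 = n28371 := d16_2 F60377 D28983 (iv F60393)
theorem F62259 : act 6 n28983 = n25688 := d17_2 (iv F51960) D28983 (iv D25688)
theorem F62260 : act 2 n28983 = n28375 := d21_2 D25320 D28983 F60405 (iv D25331) (iv D21118) (iv D15971) (iv F27588) D21104
def n28984 : Q := act 6 n25321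
theorem D28984 : act 6 n25321 = n28984 := rfl
theorem F62261 : act 0 n28984 = n25688 := d5_1 D28984 (iv F62259) F62257
theorem F62262 : act 3 n28984 = n25322 := d17_1 D28984 (iv D25322) D25321
theorem F62263 : act 1 n25720 = n28984 := d7_3 F62262 (iv F51964) D25720
def n28985 : Q := act 5 n25322
theorem D28985 : act 5 n25322 = n28985 := rfl
theorem F62264 : act 0 n28985 = n25671 := d4_1 D28985 F52684 (iv F51962)
theorem F62265 : act 2 n28985 = n25323 := d13_1 D28985 (iv D25323) (iv F51963)
theorem F62266 : act 6 n28985 = n28364 := d20_2 D25322 D28985 F60377 F51960 (iv F52684) F52685 F51958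
def n28986 : Q := act 2 n25325
theorem D28986 : act 2 n25325 = n28986 := rfl
theorem F62267 : act 0 n28986 = n25326 := d1_1 D28986 (iv D25326) (iv F51970)
theorem F62268 : act 1 n28986 = n25373 := d6_1 D28986 (iv F60712) (iv F61218) F61219 (iv F61079)
theorem F62269 : act 3 n28986 = n25376 := d11_2 D25325 D28986 F52063 (iv D25309) (iv D21097) F27583 D15963 D21111 D25326 (iv F60485) (iv F62221) (iv D28968) (iv D25308) F40717 D21110
theorem F62270 : act 5 n28986 = n26251 := d13_2 (iv F51971) D28986 (iv D26251)
def n28987 : Q := act 4 n25325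
theorem D28987 : act 4 n25325 = n28987 := rfl
theorem F62271 : act 0 n28987 = n25327 := d3_1 D28987 (iv D25327) (iv F51970)
theorem F62272 : act 1 n28987 = n28682 := d8_1 D28987 F61282 (iv F61079)
theorem F62273 : act 3 n28987 = n26476 := d15_1 D28987 (iv D26476) (iv D21929) (iv F40747) D25325
theorem F62274 : act 5 n28987 = n26252 := d18_2 (iv F51971) D28987 (iv D26252)
theorem F62275 : act 6 n28987 = n26790 := d19_2 F60768 D28987 (iv F60766)
def n28988 : Q := act 1 n25326
theorem D28988 : act 1 n25326 = n28988 := rfl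
def n28989 : Q := act 4 n25326
theorem D28989 : act 4 n25326 = n28989 := rfl
theorem F62276 : act 2 n28989 = n25327 := d12_1 D28989 (iv D25327) D25326
def n28990 : Q := act 5 n25326
theorem D28990 : act 5 n25326 = n28990 := rfl
theorem F62277 : act 0 n28990 = n26251 := d4_1 D28990 (iv F62270) F62267
theorem F62278 : act 2 n28990 = n25328 := d13_1 D28990 (iv D25328) D25326
def n28991 : Q := act 5 n25327
theorem D28991 : act 5 n25327 = n28991 := rfl
theorem F62279 : act 0 n28991 = n26252 := d4_1 D28991 (iv F62274) F62271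
theorem F62280 : act 3 n28991 = n26478 := d16_1 D28991 (iv D26478) (iv F51972)
theorem F62281 : act 4 n28991 = n25328 := d18_1 D28991 (iv D25328) D25327
def n28992 : Q := act 2 n25330
theorem D28992 : act 2 n25330 = n28992 := rfl
theorem F62282 : act 0 n28992 = n25331 := d1_1 D28992 (iv D25331) (iv F51976)
theorem F62283 : act 1 n28992 = n25363 := d6_1 D28992 (iv F60550) (iv F61059) (iv F61259) (iv F61260)
theorem F62284 : act 3 n28992 = n25366 := d11_2 D25330 D28992 F52048 (iv D25321) (iv D21105) F27588 D15971 D21118 D25331 (iv F60405) (iv F62260) (iv D28983) (iv D25320) F40734 D21117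
theorem F62285 : act 6 n28992 = n26020 := d14_2 (iv F51977) D28992 (iv D26020)
def n28993 : Q := act 4 n25330
theorem D28993 : act 4 n25330 = n28993 := rfl
theorem F62286 : act 0 n28993 = n25332 := d3_1 D28993 (iv D25332) (iv F51976)
theorem F62287 : act 1 n28993 = n28625 := d8_1 D28993 (iv F61257) (iv F61260)
theorem F62288 : act 3 n28993 = n26479 := d15_1 D28993 (iv D26479) (iv D21935) (iv F40763) D25330
theorem F62289 : act 5 n28993 = n26655 := d18_2 F60605 D28993 (iv F60604)
theorem F62290 : act 6 n28993 = n26021 := d19_2 (iv F51977) D28993 (iv D26021)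
def n28994 : Q := act 1 n25331
theorem D28994 : act 1 n25331 = n28994 := rfl
def n28995 : Q := act 4 n25331
theorem D28995 : act 4 n25331 = n28995 := rfl
theorem F62291 : act 2 n28995 = n25332 := d12_1 D28995 (iv D25332) D25331
def n28996 : Q := act 6 n25331
theorem D28996 : act 6 n25331 = n28996 := rfl
theorem F62292 : act 0 n28996 = n26020 := d5_1 D28996 (iv F62285) F62282
theorem F62293 : act 2 n28996 = n25333 := d14_1 D28996 (iv D25333) D25331
def n28997 : Q := act 6 n25332
theorem D28997 : act 6 n25332 = n28997 := rfl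
theorem F62294 : act 0 n28997 = n26021 := d5_1 D28997 (iv F62290) F62286
theorem F62295 : act 3 n28997 = n26481 := d17_1 D28997 (iv D26481) (iv F51978)
theorem F62296 : act 4 n28997 = n25333 := d19_1 D28997 (iv D25333) D25332
def n28998 : Q := act 0 n25335
theorem D28998 : act 0 n25335 = n28998 := rfl
theorem F62297 : act 3 n28998 = n25338 := d2_2 (iv F51987) D28998 (iv D25338)
theorem F62298 : act 4 n28998 = n28998 := d3_2 F51988 D28998 (iv D28998)
theorem F62299 : act 5 n28998 = n28998 := d4_2 F51989 D28998 (iv D28998)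
theorem F62300 : act 1 n25344 = n28998 := d7_3 F62297 F52155 (iv F52008)
def n28999 : Q := act 2 n25335
theorem D28999 : act 2 n25335 = n28999 := rfl
theorem F62301 : act 1 n28999 = n28999 := d6_1 D28999 (iv D28999) (iv D25335) F40790 D25335
theorem F62302 : act 4 n28999 = n28999 := d12_2 F51988 D28999 (iv D28999)
theorem F62303 : act 5 n28999 = n28999 := d13_2 F51989 D28999 (iv D28999)
def n29000 : Q := act 0 n25336
theorem D29000 : act 0 n25336 = n29000 := rfl
theorem F62304 : act 1 n29000 = n25343 := d0_2 D25336 D29000 F52001 (iv F40827) (iv F52006) F62300 (iv D28998) (iv D25335) (iv F40797)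
theorem F62305 : act 3 n29000 = n25341 := d2_2 (iv F51990) D29000 (iv D25341)
theorem F62306 : act 4 n29000 = n29000 := d3_2 F51991 D29000 (iv D29000)
theorem F62307 : act 6 n29000 = n29000 := d5_2 F51992 D29000 (iv D29000)
def n29001 : Q := act 2 n25336
theorem D29001 : act 2 n25336 = n29001 := rfl
theorem F62308 : act 1 n29001 = n29001 := d6_1 D29001 (iv D29001) (iv D25336) F40798 D25336
theorem F62309 : act 4 n29001 = n29001 := d12_2 F51991 D29001 (iv D29001)
theorem F62310 : act 6 n29001 = n29001 := d14_2 F51992 D29001 (iv D29001)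
def n29002 : Q := act 2 n25338
theorem D29002 : act 2 n25338 = n29002 := rfl
theorem F62311 : act 0 n29002 = n25339 := d1_1 D29002 (iv D25339) D25338
theorem F62312 : act 5 n29002 = n29002 := d13_2 F51995 D29002 (iv D29002)
def n29003 : Q := act 3 n25339
theorem D29003 : act 3 n25339 = n29003 := rfl
theorem F62313 : act 5 n29003 = n29003 := d16_2 F51996 D29003 (iv D29003)
def n29004 : Q := act 2 n25341
theorem D29004 : act 2 n25341 = n29004 := rfl
theorem F62314 : act 0 n29004 = n25342 := d1_1 D29004 (iv D25342) D25341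
theorem F62315 : act 6 n29004 = n29004 := d14_2 F51999 D29004 (iv D29004)
def n29005 : Q := act 3 n25342
theorem D29005 : act 3 n25342 = n29005 := rfl
theorem F62316 : act 6 n29005 = n29005 := d17_2 F52000 D29005 (iv D29005)
def n29006 : Q := act 4 n25345
theorem D29006 : act 4 n25345 = n29006 := rfl
theorem F62317 : act 0 n29006 = n25348 := d3_1 D29006 (iv D25348) (iv F52011)
theorem F62318 : act 1 n29006 = n27842 := d8_1 D29006 F58809 (iv F52012)
def n29007 : Q := act 1 n25346
theorem D29007 : act 1 n25346 = n29007 := rfl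
def n29008 : Q := act 6 n25348
theorem D29008 : act 6 n25348 = n29008 := rfl
theorem F62319 : act 4 n29008 = n25349 := d19_1 D29008 (iv D25349) D25348
theorem F62320 : act 5 n25409 = n29008 := d18_0 F62319 (iv F52019) D25409
def n29009 : Q := act 1 n25349
theorem D29009 : act 1 n25349 = n29009 := rfl
theorem F62321 : act 3 n29009 = n25350 := d7_2 (iv F52018) D29009 (iv D25350)
theorem F62322 : act 5 n29009 = n25445 := d9_2 F52019 D29009 (iv D25445) (iv D21222) (iv F40971)
theorem F62323 : act 6 n29009 = n25362 := d10_2 D25349 D29009 (iv D25362) (iv D21153) (iv F40842)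
def n29010 : Q := act 0 n25350
theorem D29010 : act 0 n25350 = n29010 := rfl
theorem F62324 : act 5 n29010 = n25447 := d4_2 (iv F52020) D29010 (iv D25447)
theorem F62325 : act 6 n29010 = n25364 := d5_2 (iv F52021) D29010 (iv D25364)
def n29011 : Q := act 4 n25351
theorem D29011 : act 4 n25351 = n29011 := rfl
theorem F62326 : act 0 n29011 = n25354 := d3_1 D29011 (iv D25354) (iv F52022)
theorem F62327 : act 1 n29011 = n27844 := d8_1 D29011 F58815 (iv F52023)
def n29012 : Q := act 1 n25352
theorem D29012 : act 1 n25352 = n29012 := rfl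
def n29013 : Q := act 5 n25354
theorem D29013 : act 5 n25354 = n29013 := rfl
theorem F62328 : act 4 n29013 = n25355 := d18_1 D29013 (iv D25355) D25354
theorem F62329 : act 6 n25416 = n29013 := d19_0 F62328 (iv F52030) D25416
def n29014 : Q := act 1 n25355
theorem D29014 : act 1 n25355 = n29014 := rfl
theorem F62330 : act 3 n29014 = n25356 := d7_2 (iv F52029) D29014 (iv D25356)
theorem F62331 : act 5 n29014 = n25372 := d9_2 D25355 D29014 (iv D25372) (iv D21163) (iv F40848)
theorem F62332 : act 6 n29014 = n25479 := d10_2 F52030 D29014 (iv D25479) (iv D21246) (iv F40991)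
def n29015 : Q := act 0 n25356
theorem D29015 : act 0 n25356 = n29015 := rfl
theorem F62333 : act 2 n29015 = n29010 := d1_2 (iv F52031) D29015 (iv D29010)
theorem F62334 : act 5 n29015 = n25374 := d4_2 (iv F52032) D29015 (iv D25374)
theorem F62335 : act 6 n29015 = n25481 := d5_2 (iv F52033) D29015 (iv D25481)
def n29016 : Q := act 6 n25357
theorem D29016 : act 6 n25357 = n29016 := rfl
theorem F62336 : act 0 n29016 = n25361 := d5_1 D29016 (iv D25361) (iv F52034)
theorem F62337 : act 2 n29016 = n28430 := d14_1 D29016 (iv D28430) (iv F52036)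
theorem F62338 : act 4 n29016 = n25358 := d19_1 D29016 (iv D25358) D25357
theorem F62339 : act 5 n29016 = n28961 := d20_1 D29016 (iv D28961) F51929 D25361 (iv F60549) (iv D28428) (iv F52037)
def n29017 : Q := act 1 n25358
theorem D29017 : act 1 n25358 = n29017 := rfl
theorem F62340 : act 3 n29017 = n25359 := d7_2 (iv F52039) D29017 (iv D25359)
theorem F62341 : act 6 n29017 = n27950 := d10_2 D25358 D29017 (iv D27950) (iv D24040) (iv F40860)
def n29018 : Q := act 0 n25359
theorem D29018 : act 0 n25359 = n29018 := rfl
theorem F62342 : act 2 n29018 = n27279 := d1_2 (iv F52041) D29018 (iv D27279)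
def n29019 : Q := act 5 n25359
theorem D29019 : act 5 n25359 = n29019 := rfl
theorem F62343 : act 1 n29019 = n28965 := d9_1 D29019 (iv D28965) (iv D25306) (iv F40863) D25359
theorem F62344 : act 2 n29019 = n27280 := d13_1 D29019 (iv D27280) (iv F52041)
def n29020 : Q := act 1 n25360
theorem D29020 : act 1 n25360 = n29020 := rfl
def n29021 : Q := act 1 n25361
theorem D29021 : act 1 n25361 = n29021 := rfl
theorem F62345 : act 4 n29021 = n25362 := d8_2 (iv F52043) D29021 (iv D25362)
def n29022 : Q := act 0 n25362
theorem D29022 : act 0 n25362 = n29022 := rfl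
theorem F62346 : act 3 n29022 = n25364 := d2_2 (iv F52044) D29022 (iv D25364)
def n29023 : Q := act 2 n25362
theorem D29023 : act 2 n25362 = n29023 := rfl
def n29024 : Q := act 5 n25362
theorem D29024 : act 5 n25362 = n29024 := rfl
theorem F62347 : act 3 n29024 = n25365 := d16_1 D29024 (iv D25365) (iv F52044)
def n29025 : Q := act 1 n25364
theorem D29025 : act 1 n25364 = n29025 := rfl
def n29026 : Q := act 6 n25366
theorem D29026 : act 6 n25366 = n29026 := rfl
theorem F62348 : act 1 n29026 = n28958 := d10_1 D29026 (iv D28958) (iv D25301) (iv F40871) D25366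
theorem F62349 : act 2 n29026 = n28984 := d14_1 D29026 (iv D28984) (iv F52048)
theorem F62350 : act 3 n29026 = n26020 := d17_1 D29026 (iv F62285) F62284
theorem F62351 : act 5 n29026 = n28376 := d22_2 F60399 D29026 (iv D28376) D28373
def n29027 : Q := act 5 n25367
theorem D29027 : act 5 n25367 = n29027 := rfl
theorem F62352 : act 0 n29027 = n25371 := d4_1 D29027 (iv D25371) (iv F52049)
theorem F62353 : act 2 n29027 = n28484 := d13_1 D29027 (iv D28484) (iv F52051)
theorem F62354 : act 4 n29027 = n25368 := d18_1 D29027 (iv D25368) D25367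
theorem F62355 : act 6 n29027 = n28976 := d20_2 (iv F52052) D29027 (iv D28976) F51956 D25371 (iv F60711) (iv D28482)
def n29028 : Q := act 1 n25368
theorem D29028 : act 1 n25368 = n29028 := rfl
theorem F62356 : act 3 n29028 = n25369 := d7_2 (iv F52054) D29028 (iv D25369)
theorem F62357 : act 5 n29028 = n28022 := d9_2 D25368 D29028 (iv D28022) (iv D24092) (iv F40881)
def n29029 : Q := act 0 n25369
theorem D29029 : act 0 n25369 = n29029 := rfl
theorem F62358 : act 2 n29029 = n27304 := d1_2 (iv F52056) D29029 (iv D27304)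
def n29030 : Q := act 6 n25369
theorem D29030 : act 6 n25369 = n29030 := rfl
theorem F62359 : act 1 n29030 = n28980 := d10_1 D29030 (iv D28980) (iv D25318) (iv F40884) D25369
theorem F62360 : act 2 n29030 = n27305 := d14_1 D29030 (iv D27305) (iv F52056)
def n29031 : Q := act 1 n25370
theorem D29031 : act 1 n25370 = n29031 := rfl
def n29032 : Q := act 1 n25371
theorem D29032 : act 1 n25371 = n29032 := rfl
theorem F62361 : act 4 n29032 = n25372 := d8_2 (iv F52058) D29032 (iv D25372)
def n29033 : Q := act 0 n25372
theorem D29033 : act 0 n25372 = n29033 := rfl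
theorem F62362 : act 3 n29033 = n25374 := d2_2 (iv F52059) D29033 (iv D25374)
def n29034 : Q := act 2 n25372
theorem D29034 : act 2 n25372 = n29034 := rfl
def n29035 : Q := act 6 n25372
theorem D29035 : act 6 n25372 = n29035 := rfl
theorem F62363 : act 3 n29035 = n25375 := d17_1 D29035 (iv D25375) (iv F52059)
def n29036 : Q := act 1 n25374
theorem D29036 : act 1 n25374 = n29036 := rfl
def n29037 : Q := act 5 n25376
theorem D29037 : act 5 n25376 = n29037 := rfl
theorem F62364 : act 1 n29037 = n28973 := d9_1 D29037 (iv D28973) (iv D25313) (iv F40892) D25376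
theorem F62365 : act 2 n29037 = n28969 := d13_1 D29037 (iv D28969) (iv F52063)
theorem F62366 : act 3 n29037 = n26251 := d16_1 D29037 (iv F62270) F62269
theorem F62367 : act 6 n29037 = n28404 := d22_1 D29037 (iv D28404) D28405 F60484
def n29038 : Q := act 1 n25377
theorem D29038 : act 1 n25377 = n29038 := rfl
theorem F62368 : act 3 n29038 = n29020 := d7_2 (iv F52066) D29038 (iv D29020)
theorem F62369 : act 4 n29038 = n27734 := d8_2 (iv F52067) D29038 F58381
theorem F62370 : act 6 n29038 = n28868 := d10_2 D25377 D29038 (iv D28868) (iv D24970) (iv F40895)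
theorem F62371 : act 0 n27391 = n29038 := d5_3 F62370 F61874 (iv F57529)
def n29039 : Q := act 2 n25378
theorem D29039 : act 2 n25378 = n29039 := rfl
theorem F62372 : act 0 n29039 = n27538 := d1_1 D29039 F57892 F53086
theorem F62373 : act 4 n29039 = n26797 := d12_2 F56477 D29039 F56480
theorem F62374 : act 5 n29039 = n25848 := d13_2 (iv F52070) D29039 (iv D25848)
theorem F62375 : act 6 n29039 = n26795 := d14_2 F53083 D29039 F55664
def n29040 : Q := act 3 n25379
theorem D29040 : act 3 n25379 = n29040 := rfl
theorem F62376 : act 0 n29040 = n26371 := d2_1 D29040 F54360 (iv F52071)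
theorem F62377 : act 1 n29040 = n25380 := d7_1 D29040 (iv D25380) (iv F52072)
theorem F62378 : act 4 n29040 = n25971 := d15_2 (iv F52073) D29040 (iv D25971) F41786 F42595
theorem F62379 : act 5 n29040 = n25852 := d16_2 (iv F52074) D29040 (iv D25852)
def n29041 : Q := act 1 n25381
theorem D29041 : act 1 n25381 = n29041 := rfl
theorem F62380 : act 3 n29041 = n25382 := d7_2 (iv F52081) D29041 (iv D25382)
theorem F62381 : act 6 n29041 = n27630 := d10_2 D25381 D29041 (iv D27630) (iv D23452) (iv F40907)
def n29042 : Q := act 0 n25382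
theorem D29042 : act 0 n25382 = n29042 := rfl
theorem F62382 : act 1 n29042 = n27586 := d0_2 D25382 D29042 (iv F60131) F60132 F51092 D27391 F62371 (iv D29038) F52064
theorem F62383 : act 4 n29042 = n26624 := d3_2 F54896 D29042 F55103
theorem F62384 : act 5 n29042 = n27367 := d4_2 F55102 D29042 F57458
theorem F62385 : act 6 n29042 = n26622 := d5_2 (iv F52082) D29042 F55098
theorem F62386 : act 2 n27584 = n29042 := d14_3 F62385 F55335 (iv F58004)
def n29043 : Q := act 2 n25382
theorem D29043 : act 2 n25382 = n29043 := rfl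
theorem F62387 : act 0 n29043 = n27584 := d1_1 D29043 F62386 (iv D29042)
theorem F62388 : act 1 n29043 = n25386 := d6_1 D29043 (iv D25386) (iv D21174) (iv F40909) D25382
theorem F62389 : act 4 n29043 = n27785 := d12_2 F54896 D29043 F58586
theorem F62390 : act 6 n29043 = n27631 := d14_2 (iv F52082) D29043 (iv D27631)
def n29044 : Q := act 3 n25386
theorem D29044 : act 3 n25386 = n29044 := rfl
theorem F62391 : act 0 n29044 = n25490 := d2_1 D29044 (iv D25490) (iv F52096)
theorem F62392 : act 6 n29044 = n29044 := d17_2 F52097 D29044 (iv D29044)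
def n29045 : Q := act 1 n25389
theorem D29045 : act 1 n25389 = n29045 := rfl
theorem F62393 : act 3 n29045 = n29031 := d7_2 (iv F52105) D29045 (iv D29031)
theorem F62394 : act 4 n29045 = n27748 := d8_2 (iv F52106) D29045 F58441
theorem F62395 : act 5 n29045 = n28870 := d9_2 D25389 D29045 (iv D28870) (iv D24989) (iv F40925)
theorem F62396 : act 0 n27473 = n29045 := d4_3 F62395 F61881 (iv F57736)
def n29046 : Q := act 2 n25390
theorem D29046 : act 2 n25390 = n29046 := rfl
theorem F62397 : act 0 n29046 = n27613 := d1_1 D29046 F58068 F53690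
theorem F62398 : act 4 n29046 = n26675 := d12_2 F56485 D29046 F56488
theorem F62399 : act 5 n29046 = n26674 := d13_2 F53684 D29046 F55258
theorem F62400 : act 6 n29046 = n26088 := d14_2 (iv F52109) D29046 (iv D26088)
def n29047 : Q := act 3 n25391
theorem D29047 : act 3 n25391 = n29047 := rfl
theorem F62401 : act 0 n29047 = n26295 := d2_1 D29047 F54184 (iv F52110)
theorem F62402 : act 1 n29047 = n25392 := d7_1 D29047 (iv D25392) (iv F52111)
theorem F62403 : act 4 n29047 = n26206 := d15_2 (iv F52112) D29047 (iv D26206) F42128 F42622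
theorem F62404 : act 6 n29047 = n26092 := d17_2 (iv F52113) D29047 (iv D26092)
def n29048 : Q := act 1 n25393
theorem D29048 : act 1 n25393 = n29048 := rfl
theorem F62405 : act 3 n29048 = n25394 := d7_2 (iv F52120) D29048 (iv D25394)
theorem F62406 : act 5 n29048 = n27670 := d9_2 D25393 D29048 (iv D27670) (iv D23476) (iv F40937)
def n29049 : Q := act 0 n25394
theorem D29049 : act 0 n25394 = n29049 := rfl
theorem F62407 : act 1 n29049 = n27510 := d0_2 D25394 D29049 (iv F60173) F60174 F51211 D27473 F62396 (iv D29045) F52103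
theorem F62408 : act 4 n29049 = n26767 := d3_2 F55405 D29049 F55576
theorem F62409 : act 5 n29049 = n26766 := d4_2 (iv F52121) D29049 F55574
theorem F62410 : act 6 n29049 = n27455 := d5_2 F55573 D29049 F57688
theorem F62411 : act 2 n27508 = n29049 := d23_9 (iv F46504) D27510 (iv F62407) (iv D29049) F52121 D27671 F58196 F58195 (iv F57828) F62407 (iv F60173) F60176 (iv F56693) (iv F59950) F59949 (iv F56763) (iv F59951) F59950 F49161
def n29050 : Q := act 2 n25394
theorem D29050 : act 2 n25394 = n29050 := rfl
theorem F62412 : act 0 n29050 = n27508 := d1_1 D29050 F62411 (iv D29049)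
theorem F62413 : act 1 n29050 = n25398 := d6_1 D29050 (iv D25398) (iv D21186) (iv F40939) D25394
theorem F62414 : act 4 n29050 = n27760 := d12_2 F55405 D29050 F58490
theorem F62415 : act 5 n29050 = n27671 := d13_2 (iv F52121) D29050 (iv D27671)
def n29051 : Q := act 3 n25398
theorem D29051 : act 3 n25398 = n29051 := rfl
theorem F62416 : act 0 n29051 = n25548 := d2_1 D29051 (iv D25548) (iv F52135)
theorem F62417 : act 5 n29051 = n29051 := d16_2 F52136 D29051 (iv D29051)
def n29052 : Q := act 0 n25401
theorem D29052 : act 0 n25401 = n29052 := rfl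
theorem F62418 : act 3 n29052 = n25404 := d2_2 (iv F52142) D29052 (iv D25404)
theorem F62419 : act 4 n29052 = n29052 := d3_2 F52143 D29052 (iv D29052)
theorem F62420 : act 6 n29052 = n28998 := d5_2 (iv F52144) D29052 (iv D28998)
theorem F62421 : act 5 n29052 = n25401 := d22_0 F52144 F51989 (iv F52144) D29052
def n29053 : Q := act 2 n25401
theorem D29053 : act 2 n25401 = n29053 := rfl
theorem F62422 : act 4 n29053 = n29053 := d12_2 F52143 D29053 (iv D29053)
theorem F62423 : act 6 n29053 = n28999 := d14_2 (iv F52144) D29053 (iv D28999)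
def n29054 : Q := act 0 n25402
theorem D29054 : act 0 n25402 = n29054 := rfl
theorem F62424 : act 1 n29054 = n29052 := d0_2 D25402 D29054 (iv D29052) (iv D25401) (iv D21190) (iv D16029) (iv F21342) D16033 D21191
theorem F62425 : act 3 n29054 = n25411 := d2_2 (iv F52145) D29054 (iv D25411)
theorem F62426 : act 4 n29054 = n29054 := d3_2 F52146 D29054 (iv D29054)
theorem F62427 : act 5 n29054 = n29000 := d4_2 (iv F52147) D29054 (iv D29000)
theorem F62428 : act 6 n29054 = n25402 := d22_3 F62427 F62307 (iv F62427) D29054
def n29055 : Q := act 2 n25402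
theorem D29055 : act 2 n25402 = n29055 := rfl
theorem F62429 : act 4 n29055 = n29055 := d12_2 F52146 D29055 (iv D29055)
theorem F62430 : act 5 n29055 = n29001 := d13_2 (iv F52147) D29055 (iv D29001)
def n29056 : Q := act 4 n25403
theorem D29056 : act 4 n25403 = n29056 := rfl
theorem F62431 : act 0 n29056 = n28419 := d3_1 D29056 F60523 (iv F52148)
theorem F62432 : act 1 n29056 = n27311 := d8_1 D29056 (iv D27311) (iv F52149)
theorem F62433 : act 2 n29056 = n29006 := d12_1 D29056 (iv D29006) (iv F52150)
theorem F62434 : act 3 n29056 = n28431 := d15_1 D29056 (iv D28431) F49843 F49676 D25403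
theorem F62435 : act 5 n29056 = n29006 := d18_2 (iv F52151) D29056 (iv D29006)
theorem F62436 : act 6 n29056 = n25409 := d19_2 (iv F52152) D29056 (iv D25409)
def n29057 : Q := act 2 n25404
theorem D29057 : act 2 n25404 = n29057 := rfl
theorem F62437 : act 0 n29057 = n25405 := d1_1 D29057 (iv D25405) D25404
theorem F62438 : act 5 n29057 = n25405 := d13_2 (iv F52154) D29057 (iv D25405)
theorem F62439 : act 6 n29057 = n29002 := d14_2 (iv F52153) D29057 (iv D29002)
def n29058 : Q := act 1 n25405
theorem D29058 : act 1 n25405 = n29058 := rfl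
theorem F62440 : act 2 n29058 = n25406 := d6_2 D25405 D29058 (iv D25406) (iv D21195) D21194
def n29059 : Q := act 3 n25405
theorem D29059 : act 3 n25405 = n29059 := rfl
theorem F62441 : act 6 n29059 = n29003 := d17_2 (iv F52157) D29059 (iv D29003)
def n29060 : Q := act 0 n25406
theorem D29060 : act 0 n25406 = n29060 := rfl
theorem F62442 : act 1 n29060 = n28385 := d0_2 D25406 D29060 F60426 F60296 (iv D25434) (iv D21217) F27768 (iv F27738) (iv F40969)
theorem F62443 : act 6 n28386 = n29060 := d10_0 F62442 (iv D28385) (iv D24527) D24528 D28386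
def n29061 : Q := act 3 n25406
theorem D29061 : act 3 n25406 = n29061 := rfl
theorem F62444 : act 1 n29061 = n25407 := d7_1 D29061 (iv D25407) D25406
theorem F62445 : act 3 n29058 = n26338 := d25_8 F40820 F40819 (iv F40843) (iv F52018) (iv F52160) (iv F62444) (iv D29061) (iv F62440) F54275 (iv F42346) F42347 (iv D18847) (iv F33634) F37364 (iv D16234) D16235 (iv F28495) (iv D16442) (iv D12291) F17875 (iv D5232) (iv D2520) F2079 (iv F16641) (iv F16708) F1856 F1026 (iv F1051) (iv F1921) (iv F16980) (iv F32553) (iv F32610) (iv F4412) (iv F32737) (iv F16699) (iv F32734) (iv D2873) (iv D1393) (iv F2157) D2637 (iv F16772) (iv F32928) (iv D3882) F3015 D1931 (iv F32868) (iv D3755) (iv D1810) (iv F2897) (iv F17075) (iv F16954) (iv F5662) (iv F11410) (iv F19052) (iv F23664) F23663 D13764 F24171 D13767 D18926 D23363 F48549 (iv D24070) (iv D19751) (iv F37111) F37110 (iv D16147) D16148 D21314 F41228 (iv D21244) (iv F40991) (iv D21201) (iv D16047) (iv F27729) F40831 F40827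
theorem F62446 : act 1 n26338 = n29059 := d7_1 F62445 (iv D29059) D29058
theorem F62447 : act 5 n26337 = n29058 := d16_0 F62445 (iv D26338) D26337
theorem F62448 : act 3 n27394 = n29060 := d21_7 (iv F62440) F62445 F54275 F42326 (iv F33743) D23258 D27394 (iv D29060)
theorem F62449 : act 2 n27393 = n29061 := d21_0 (iv D29061) (iv F62440) F62445 F54275 F42326 (iv F33743) D23258 (iv F57533)
theorem F62450 : act 0 n29061 = n27394 := d21_8 (iv D27394) (iv D23258) F33743 (iv F42326) (iv F54275) (iv F62445) F62440 D29061
theorem F62451 : act 1 n29057 = n28727 := d9_3 F62447 (iv D29058) (iv F62438) (iv D28727) (iv F54274)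
theorem F62452 : act 3 n28728 = n29057 := d7_0 F62451 F61475 D28728
theorem F62453 : act 0 n29059 = n28728 := d2_3 F62452 F62437 D29059
theorem F62454 : act 5 n29059 = n28728 := d16_0 F62452 F62438 D29059
theorem F62455 : act 4 n26340 = n29059 := d18_3 F62454 F61477 (iv F54280)
def n29062 : Q := act 5 n25406
theorem D29062 : act 5 n25406 = n29062 := rfl
theorem F62456 : act 2 n29062 = n26337 := d13_1 D29062 F62447 F62440
def n29063 : Q := act 6 n25406
theorem D29063 : act 6 n25406 = n29063 := rfl
theorem F62457 : act 0 n29063 = n28386 := d5_1 D29063 F62443 (iv D29060)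
theorem F62458 : act 1 n29063 = n27163 := d10_1 D29063 (iv D27163) F45756 (iv F40970) D25406
def n29064 : Q := act 4 n25407
theorem D29064 : act 4 n25407 = n29064 := rfl
theorem F62459 : act 0 n29064 = n25409 := d3_1 D29064 (iv D25409) (iv F52158)
theorem F62460 : act 2 n29064 = n29008 := d12_1 D29064 F62319 (iv F52160)
theorem F62461 : act 6 n29064 = n28419 := d19_2 (iv F52159) D29064 F60523
def n29065 : Q := act 1 n25408
theorem D29065 : act 1 n25408 = n29065 := rfl
theorem F62462 : act 2 n29065 = n25441 := d6_2 D25408 D29065 (iv D25441) (iv D21220) (iv F40971)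
theorem F62463 : act 3 n29065 = n29007 := d7_2 (iv F52162) D29065 (iv D29007)
def n29066 : Q := act 4 n25408
theorem D29066 : act 4 n25408 = n29066 := rfl
theorem F62464 : act 0 n29066 = n29008 := d3_1 D29066 F62319 (iv F52161)
theorem F62465 : act 2 n29066 = n25409 := d12_1 D29066 (iv D25409) D25408
theorem F62466 : act 5 n29066 = n29064 := d18_2 (iv F52163) D29066 (iv D29064)
theorem F62467 : act 6 n29066 = n29006 := d19_2 (iv F52164) D29066 (iv D29006)
def n29067 : Q := act 4 n25410
theorem D29067 : act 4 n25410 = n29067 := rfl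
theorem F62468 : act 0 n29067 = n28473 := d3_1 D29067 F60685 (iv F52166)
theorem F62469 : act 1 n29067 = n27402 := d8_1 D29067 (iv D27402) (iv F52167)
theorem F62470 : act 2 n29067 = n29011 := d12_1 D29067 (iv D29011) (iv F52168)
theorem F62471 : act 3 n29067 = n28485 := d15_1 D29067 (iv D28485) F49980 F49688 D25410
theorem F62472 : act 5 n29067 = n25416 := d18_2 (iv F52169) D29067 (iv D25416)
theorem F62473 : act 6 n29067 = n29011 := d19_2 (iv F52170) D29067 (iv D29011)
def n29068 : Q := act 2 n25411
theorem D29068 : act 2 n25411 = n29068 := rfl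
theorem F62474 : act 0 n29068 = n25412 := d1_1 D29068 (iv D25412) D25411
theorem F62475 : act 1 n29068 = n28791 := d6_1 D29068 F61627 (iv F62451) (iv D29057) (iv F52171)
theorem F62476 : act 5 n29068 = n29004 := d13_2 (iv F52172) D29068 (iv D29004)
theorem F62477 : act 6 n29068 = n25412 := d14_2 (iv F52173) D29068 (iv D25412)
theorem F62478 : act 3 n28792 = n29068 := d7_0 F62475 F61628 D28792
def n29069 : Q := act 1 n25412
theorem D29069 : act 1 n25412 = n29069 := rfl
theorem F62479 : act 2 n29069 = n25413 := d6_2 D25412 D29069 (iv D25413) (iv D21200) D21199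
theorem F62480 : act 6 n29069 = n26413 := d10_2 F62477 D29069 F54452 D28791 (iv F62475)
theorem F62481 : act 3 n26415 = n29069 := d17_3 F62480 (iv D26413) D26415
def n29070 : Q := act 3 n25412
theorem D29070 : act 3 n25412 = n29070 := rfl
theorem F62482 : act 0 n29070 = n28792 := d2_1 D29070 F62478 F62474
theorem F62483 : act 1 n29070 = n26415 := d7_1 D29070 F62481 (iv D29069)
theorem F62484 : act 5 n29070 = n29005 := d16_2 (iv F52174) D29070 (iv D29005)
theorem F62485 : act 6 n29070 = n28792 := d17_2 F62477 D29070 F62478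
theorem F62486 : act 4 n26418 = n29070 := d19_3 F62485 F61631 (iv F54462)
theorem F62487 : act 4 n29005 = n28538 := d18_3 (iv F61244) F62486 F62484
theorem F62488 : act 3 n28536 = n28309 := d15_3 F62487 (iv D28538) (iv F60857) F60246 D29005
def n29071 : Q := act 0 n25413
theorem D29071 : act 0 n25413 = n29071 := rfl
theorem F62489 : act 1 n29071 = n28414 := d0_2 D25413 D29071 F60505 (iv F60431) (iv D25468) (iv D21241) F27790 (iv F27748) (iv F40989)
theorem F62490 : act 3 n27476 = n29071 := d21_7 (iv F62479) (iv F62481) F54455 F42450 (iv F35036) D23329 D27476 (iv D29071)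
theorem F62491 : act 5 n28415 = n29071 := d9_0 F62489 (iv D28414) (iv D24547) D24548 D28415
def n29072 : Q := act 3 n25413
theorem D29072 : act 3 n25413 = n29072 := rfl
theorem F62492 : act 0 n29072 = n27476 := d2_1 D29072 F62490 (iv D29071)
theorem F62493 : act 1 n29072 = n25414 := d7_1 D29072 (iv D25414) D25413
theorem F62494 : act 2 n29072 = n27475 := d21_4 (iv F54455) F62481 F62479 D29072 (iv D27475) F46413 (iv F54434) F54433
def n29073 : Q := act 5 n25413
theorem D29073 : act 5 n25413 = n29073 := rfl
theorem F62495 : act 0 n29073 = n28415 := d4_1 D29073 F62491 (iv D29071)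
theorem F62496 : act 1 n29073 = n27170 := d9_1 D29073 (iv D27170) F45763 (iv F40990) D25413
def n29074 : Q := act 6 n25413
theorem D29074 : act 6 n25413 = n29074 := rfl
theorem F62497 : act 2 n29074 = n26413 := d14_1 D29074 (iv F62480) F62479
def n29075 : Q := act 4 n25414
theorem D29075 : act 4 n25414 = n29075 := rfl
theorem F62498 : act 0 n29075 = n25416 := d3_1 D29075 (iv D25416) (iv F52175)
theorem F62499 : act 2 n29075 = n29013 := d12_1 D29075 F62328 (iv F52177)
theorem F62500 : act 5 n29075 = n28473 := d18_2 (iv F52176) D29075 F60685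
def n29076 : Q := act 1 n25415
theorem D29076 : act 1 n25415 = n29076 := rfl
theorem F62501 : act 2 n29076 = n25475 := d6_2 D25415 D29076 (iv D25475) (iv D21244) (iv F40991)
theorem F62502 : act 3 n29076 = n29012 := d7_2 (iv F52179) D29076 (iv D29012)
def n29077 : Q := act 4 n25415
theorem D29077 : act 4 n25415 = n29077 := rfl
theorem F62503 : act 0 n29077 = n29013 := d3_1 D29077 F62328 (iv F52178)
theorem F62504 : act 2 n29077 = n25416 := d12_1 D29077 (iv D25416) D25415
theorem F62505 : act 5 n29077 = n29011 := d18_2 (iv F52180) D29077 (iv D29011)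
theorem F62506 : act 6 n29077 = n29075 := d19_2 (iv F52181) D29077 (iv D29075)
def n29078 : Q := act 1 n25417
theorem D29078 : act 1 n25417 = n29078 := rfl
theorem F62507 : act 3 n29078 = n27890 := d7_2 (iv F52184) D29078 (iv D27890)
def n29079 : Q := act 0 n25418
theorem D29079 : act 0 n25418 = n29079 := rfl
theorem F62508 : act 3 n29079 = n27964 := d2_2 (iv F52186) D29079 (iv D27964)
theorem F62509 : act 6 n29079 = n28593 := d5_2 (iv F52187) D29079 (iv D28593)
def n29080 : Q := act 5 n25418
theorem D29080 : act 5 n25418 = n29080 := rfl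
theorem F62510 : act 2 n29080 = n28604 := d13_1 D29080 F61049 F52680
theorem F62511 : act 3 n29080 = n27965 := d16_1 D29080 (iv D27965) (iv F52186)
def n29081 : Q := act 1 n25419
theorem D29081 : act 1 n25419 = n29081 := rfl
theorem F62512 : act 3 n29081 = n27966 := d7_2 (iv F52190) D29081 (iv D27966)
def n29082 : Q := act 2 n25421
theorem D29082 : act 2 n25421 = n29082 := rfl
theorem F62513 : act 4 n29082 = n28542 := d12_2 (iv F52194) D29082 (iv D28542)
theorem F62514 : act 6 n29082 = n25609 := d14_2 (iv F52195) D29082 (iv D25609)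
def n29083 : Q := act 1 n25422
theorem D29083 : act 1 n25422 = n29083 := rfl
theorem F62515 : act 4 n29083 = n28437 := d8_2 (iv F52197) D29083 (iv D28437)
def n29084 : Q := act 6 n25424
theorem D29084 : act 6 n25424 = n29084 := rfl
theorem F62516 : act 0 n29084 = n25750 := d5_1 D29084 (iv F60228) F60225
theorem F62517 : act 2 n29084 = n25425 := d14_1 D29084 (iv D25425) D25424
theorem F62518 : act 4 n29084 = n28985 := d19_1 D29084 F62266 F60376
theorem F62519 : act 5 n29084 = n25747 := d20_1 D29084 F52834 (iv F60227) F60228 (iv D25750) D25751 (iv F52842)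
def n29085 : Q := act 0 n25426
theorem D29085 : act 0 n25426 = n29085 := rfl
theorem F62520 : act 3 n28260 = n29085 := d21_7 F59501 (iv D28077) F48689 F37329 (iv F37875) D24391 D28260 (iv D29085)
theorem F62521 : act 1 n29085 = n29080 := d7_1 F62520 F62511 (iv F61369)
theorem F62522 : act 5 n29085 = n29081 := d16_2 F61368 F62520 F62512
def n29086 : Q := act 3 n25426
theorem D29086 : act 3 n25426 = n29086 := rfl
theorem F62523 : act 0 n29086 = n28260 := d2_1 D29086 F62520 (iv D29085)
theorem F62524 : act 1 n29086 = n25427 := d7_1 D29086 (iv D25427) D25426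
theorem F62525 : act 2 n29086 = n28254 := d21_4 (iv F48689) D28077 (iv F59501) D29086 (iv D28254) F49349 (iv F48679) F48678
def n29087 : Q := act 5 n25426
theorem D29087 : act 5 n25426 = n29087 := rfl
theorem F62526 : act 0 n29087 = n29081 := d4_1 D29087 (iv F62522) (iv D29085)
def n29088 : Q := act 6 n25426
theorem D29088 : act 6 n25426 = n29088 := rfl
theorem F62527 : act 1 n29088 = n25437 := d10_1 D29088 (iv D25437) (iv D21217) (iv F41018) D25426
def n29089 : Q := act 4 n25427
theorem D29089 : act 4 n25427 = n29089 := rfl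
theorem F62528 : act 0 n29089 = n25429 := d3_1 D29089 (iv D25429) (iv F52208)
theorem F62529 : act 6 n29089 = n25438 := d19_2 (iv F52209) D29089 (iv D25438)
def n29090 : Q := act 1 n25428
theorem D29090 : act 1 n25428 = n29090 := rfl
theorem F62530 : act 2 n29090 = n27314 := d6_2 D25428 D29090 (iv D27314) (iv F52202) F52200
def n29091 : Q := act 4 n25428
theorem D29091 : act 4 n25428 = n29091 := rfl
theorem F62531 : act 2 n29091 = n25429 := d12_1 D29091 (iv D25429) D25428
theorem F62532 : act 6 n29091 = n25442 := d19_2 (iv F52210) D29091 (iv D25442)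
def n29092 : Q := act 5 n25428
theorem D29092 : act 5 n25428 = n29092 := rfl
theorem F62533 : act 2 n29092 = n25430 := d13_1 D29092 (iv D25430) D25428
theorem F62534 : act 3 n29092 = n25534 := d16_1 D29092 F52402 F52331
theorem F62535 : act 6 n29092 = n25530 := d22_1 D29092 (iv D25530) (iv F52337) F52335
def n29093 : Q := act 5 n25429
theorem D29093 : act 5 n25429 = n29093 := rfl
theorem F62536 : act 4 n29093 = n25430 := d18_1 D29093 (iv D25430) D25429
def n29094 : Q := act 1 n25430
theorem D29094 : act 1 n25430 = n29094 := rfl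
theorem F62537 : act 3 n29094 = n25431 := d7_2 (iv F52212) D29094 (iv D25431)
def n29095 : Q := act 0 n25431
theorem D29095 : act 0 n25431 = n29095 := rfl
def n29096 : Q := act 6 n25431
theorem D29096 : act 6 n25431 = n29096 := rfl
def n29097 : Q := act 0 n25432
theorem D29097 : act 0 n25432 = n29097 := rfl
theorem F62538 : act 2 n29097 = n25434 := d1_2 (iv F52213) D29097 (iv D25434)
theorem F62539 : act 3 n29097 = n28073 := d2_2 (iv F52214) D29097 (iv D28073)
theorem F62540 : act 4 n29097 = n28981 := d3_2 F60392 D29097 F62254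
theorem F62541 : act 5 n29097 = n25767 := d23_4 (iv F38470) D21215 D25432 D29097 (iv F60292) (iv D28329) F49652 (iv F49648) F49646 (iv F41372) F41367 F40886 F33668 F24076 (iv F31852) F31856 (iv F38410) (iv F48437) F48436
def n29098 : Q := act 5 n25432
theorem D29098 : act 5 n25432 = n29098 := rfl
theorem F62542 : act 0 n29098 = n25767 := d4_1 D29098 (iv F62541) (iv D29097)
theorem F62543 : act 2 n29098 = n25436 := d13_1 D29098 (iv D25436) (iv F52213)
theorem F62544 : act 3 n29098 = n28075 := d16_1 D29098 (iv D28075) (iv F52214)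
theorem F62545 : act 4 n29098 = n28983 := d18_1 D29098 F62258 F60392
def n29099 : Q := act 6 n25432
theorem D29099 : act 6 n25432 = n29099 := rfl
theorem F62546 : act 2 n29099 = n25437 := d14_1 D29099 (iv D25437) (iv F52213)
theorem F62547 : act 3 n29099 = n28076 := d17_1 D29099 (iv D28076) (iv F52214)
def n29100 : Q := act 1 n25433
theorem D29100 : act 1 n25433 = n29100 := rfl
theorem F62548 : act 3 n29100 = n28079 := d7_2 (iv F52217) D29100 (iv D28079)
def n29101 : Q := act 6 n25434
theorem D29101 : act 6 n25434 = n29101 := rfl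
theorem F62549 : act 0 n29101 = n25437 := d5_1 D29101 (iv D25437) D25434
def n29102 : Q := act 4 n25435
theorem D29102 : act 4 n25435 = n29102 := rfl
theorem F62550 : act 1 n29102 = n25438 := d8_1 D29102 (iv D25438) (iv F52219)
def n29103 : Q := act 5 n25435
theorem D29103 : act 5 n25435 = n29103 := rfl
theorem F62551 : act 3 n29103 = n25436 := d16_1 D29103 (iv D25436) D25435
def n29104 : Q := act 6 n25435
theorem D29104 : act 6 n25435 = n29104 := rfl
theorem F62552 : act 3 n29104 = n25437 := d17_1 D29104 (iv D25437) D25435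
def n29105 : Q := act 1 n25436
theorem D29105 : act 1 n25436 = n29105 := rfl
theorem F62553 : act 5 n29105 = n25440 := d9_2 D25436 D29105 (iv D25440) (iv D21219) D21217
def n29106 : Q := act 6 n25436
theorem D29106 : act 6 n25436 = n29106 := rfl
theorem F62554 : act 5 n29106 = n29101 := d22_2 D25436 D29106 (iv D29101) (iv D25434)
def n29107 : Q := act 5 n25437
theorem D29107 : act 5 n25437 = n29107 := rfl
theorem F62555 : act 0 n29107 = n29106 := d4_1 D29107 F62554 F62549
theorem F62556 : act 4 n29107 = n29026 := d18_1 D29107 F62351 F60407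
theorem F62557 : act 6 n29107 = n28329 := d20_2 D25437 D29107 (iv F60295) D29101 (iv F62554) (iv D29106) (iv D25436)
theorem F62558 : act 1 n29107 = n28340 := d24_2 D25437 D29107 (iv D28340) D28339 F60322 (iv F60374) (iv D28363) D28362 (iv F61015) F61014 (iv D25431) (iv F41028) (iv D21219) D21217
def n29108 : Q := act 5 n25438
theorem D29108 : act 5 n25438 = n29108 := rfl
theorem F62559 : act 0 n29108 = n25444 := d4_1 D29108 (iv D25444) (iv F52220)
theorem F62560 : act 3 n29108 = n28842 := d16_1 D29108 F61793 F60410
theorem F62561 : act 4 n29108 = n25439 := d18_1 D29108 (iv D25439) D25438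
theorem F62562 : act 6 n29108 = n29093 := d22_1 D29108 (iv D29093) F52211 (iv F52220)
def n29109 : Q := act 1 n25439
theorem D29109 : act 1 n25439 = n29109 := rfl
theorem F62563 : act 3 n29109 = n25440 := d7_2 (iv F52222) D29109 (iv D25440)
def n29110 : Q := act 0 n25440
theorem D29110 : act 0 n25440 = n29110 := rfl
def n29111 : Q := act 6 n25440
theorem D29111 : act 6 n25440 = n29111 := rfl
theorem F62564 : act 1 n29111 = n29096 := d10_1 D29111 (iv D29096) (iv D25431) (iv F41028) D25440
def n29112 : Q := act 4 n25441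
theorem D29112 : act 4 n25441 = n29112 := rfl
theorem F62565 : act 1 n29112 = n25442 := d8_1 D29112 (iv D25442) D25441
theorem F62566 : act 3 n29112 = n27490 := d15_1 D29112 F57781 D27503 (iv F57814) F52366
def n29113 : Q := act 5 n25441
theorem D29113 : act 5 n25441 = n29113 := rfl
def n29114 : Q := act 6 n25441
theorem D29114 : act 6 n25441 = n29114 := rfl
def n29115 : Q := act 5 n25442
theorem D29115 : act 5 n25442 = n29115 := rfl
theorem F62567 : act 2 n29115 = n25444 := d13_1 D29115 (iv D25444) (iv F52224)
theorem F62568 : act 4 n29115 = n25443 := d18_1 D29115 (iv D25443) D25442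
def n29116 : Q := act 1 n25443
theorem D29116 : act 1 n25443 = n29116 := rfl
def n29117 : Q := act 6 n25443
theorem D29117 : act 6 n25443 = n29117 := rfl
theorem F62569 : act 0 n29117 = n29092 := d5_1 D29117 F62535 F52393
theorem F62570 : act 2 n29117 = n25446 := d14_1 D29117 (iv D25446) (iv F52225)
theorem F62571 : act 3 n29117 = n25505 := d17_1 D29117 (iv F52373) F52372
theorem F62572 : act 5 n29117 = n25503 := d20_1 D29117 F52337 D25530 (iv F62535) (iv D29092) F52210 D25443
def n29118 : Q := act 1 n25444
theorem D29118 : act 1 n25444 = n29118 := rfl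
theorem F62573 : act 4 n29118 = n25445 := d8_2 (iv F52226) D29118 (iv D25445)
def n29119 : Q := act 6 n25444
theorem D29119 : act 6 n25444 = n29119 := rfl
theorem F62574 : act 0 n29119 = n29093 := d5_1 D29119 (iv F62562) F62559
theorem F62575 : act 4 n29119 = n25446 := d19_1 D29119 (iv D25446) (iv F52226)
theorem F62576 : act 5 n29119 = n29089 := d20_1 D29119 F62529 D29108 F62562 (iv D29093) F52211 D25444
def n29120 : Q := act 0 n25445
theorem D29120 : act 0 n25445 = n29120 := rfl
theorem F62577 : act 3 n29120 = n25447 := d2_2 (iv F52227) D29120 (iv D25447)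
theorem F62578 : act 6 n29024 = n29120 := d22_3 (iv F62322) F62323 D29024 (iv D29120)
def n29121 : Q := act 2 n25445
theorem D29121 : act 2 n25445 = n29121 := rfl
def n29122 : Q := act 6 n25445
theorem D29122 : act 6 n25445 = n29122 := rfl
theorem F62579 : act 0 n29122 = n29024 := d5_1 D29122 F62578 (iv D29120)
theorem F62580 : act 3 n29122 = n25448 := d17_1 D29122 (iv D25448) (iv F52227)
theorem F62581 : act 5 n29022 = n29122 := d22_0 (iv D29122) (iv F62322) F62323 D29022
def n29123 : Q := act 1 n25446
theorem D29123 : act 1 n25446 = n29123 := rfl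
theorem F62582 : act 3 n29123 = n25449 := d7_2 (iv F52229) D29123 (iv D25449)
def n29124 : Q := act 1 n25447
theorem D29124 : act 1 n25447 = n29124 := rfl
def n29125 : Q := act 1 n25448
theorem D29125 : act 1 n25448 = n29125 := rfl
theorem F62583 : act 0 n29125 = n28348 := d0_1 D29125 (iv D28348) F49682 F38157 (iv F38212) D24521 D28373 (iv F60400) (iv F52233)
theorem F62584 : act 4 n29125 = n29060 := d8_2 F60428 D29125 F62442
theorem F62585 : act 6 n29125 = n25449 := d10_2 D25448 D29125 (iv D25449) (iv D21224) D21223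
def n29126 : Q := act 0 n25449
theorem D29126 : act 0 n25449 = n29126 := rfl
theorem F62586 : act 4 n29126 = n29063 := d3_2 F60439 D29126 F62457
theorem F62587 : act 6 n29126 = n28348 := d5_2 F62585 D29126 (iv F62583)
theorem F62588 : act 1 n28219 = n29126 := d10_5 F62587 (iv D28348) F49684 F49612 D28219
def n29127 : Q := act 2 n25449
theorem D29127 : act 2 n25449 = n29127 := rfl
theorem F62589 : act 1 n29127 = n25450 := d6_1 D29127 (iv D25450) (iv D21225) (iv F41032) D25449
theorem F62590 : act 3 n27223 = n29127 := d7_0 F62589 F52238 D27223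
def n29128 : Q := act 5 n25449
theorem D29128 : act 5 n25449 = n29128 := rfl
theorem F62591 : act 1 n29128 = n29087 := d9_1 D29128 (iv D29087) (iv D25426) (iv F41033) D25449
def n29129 : Q := act 0 n25451
theorem D29129 : act 0 n25451 = n29129 := rfl
theorem F62592 : act 3 n29129 = n28036 := d2_2 (iv F52239) D29129 (iv D28036)
theorem F62593 : act 5 n29129 = n28650 := d4_2 (iv F52240) D29129 (iv D28650)
def n29130 : Q := act 6 n25451
theorem D29130 : act 6 n25451 = n29130 := rfl
theorem F62594 : act 2 n29130 = n28661 := d14_1 D29130 F61207 F52880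
theorem F62595 : act 3 n29130 = n28037 := d17_1 D29130 (iv D28037) (iv F52239)
def n29131 : Q := act 1 n25452
theorem D29131 : act 1 n25452 = n29131 := rfl
theorem F62596 : act 3 n29131 = n28038 := d7_2 (iv F52242) D29131 (iv D28038)
def n29132 : Q := act 1 n25453
theorem D29132 : act 1 n25453 = n29132 := rfl
theorem F62597 : act 3 n29132 = n27918 := d7_2 (iv F52246) D29132 (iv D27918)
def n29133 : Q := act 2 n25455
theorem D29133 : act 2 n25455 = n29133 := rfl
theorem F62598 : act 4 n29133 = n28567 := d12_2 (iv F52250) D29133 (iv D28567)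
theorem F62599 : act 5 n29133 = n25715 := d13_2 (iv F52251) D29133 (iv D25715)
def n29134 : Q := act 1 n25456
theorem D29134 : act 1 n25456 = n29134 := rfl
theorem F62600 : act 4 n29134 = n28491 := d8_2 (iv F52253) D29134 (iv D28491)
def n29135 : Q := act 5 n25458
theorem D29135 : act 5 n25458 = n29135 := rfl
theorem F62601 : act 0 n29135 = n25646 := d4_1 D29135 (iv F60216) F60214
theorem F62602 : act 2 n29135 = n25459 := d13_1 D29135 (iv D25459) D25458
theorem F62603 : act 4 n29135 = n28970 := d18_1 D29135 F62227 F60455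
theorem F62604 : act 6 n29135 = n25642 := d20_2 (iv F52655) D29135 F52650 (iv F60217) F60216 (iv D25646) D25645
def n29136 : Q := act 0 n25460
theorem D29136 : act 0 n25460 = n29136 := rfl
theorem F62605 : act 3 n28238 = n29136 := d21_7 F59291 (iv D28007) F48568 F37240 (iv F37778) D24339 D28238 (iv D29136)
theorem F62606 : act 1 n29136 = n29130 := d7_1 F62605 F62595 F61372
theorem F62607 : act 6 n29136 = n29131 := d17_2 (iv F61371) F62605 F62596
def n29137 : Q := act 3 n25460
theorem D29137 : act 3 n25460 = n29137 := rfl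
theorem F62608 : act 0 n29137 = n28238 := d2_1 D29137 F62605 (iv D29136)
theorem F62609 : act 1 n29137 = n25461 := d7_1 D29137 (iv D25461) D25460
theorem F62610 : act 2 n29137 = n28232 := d21_4 (iv F48568) D28007 (iv F59291) D29137 (iv D28232) F49188 (iv F48558) F48557
def n29138 : Q := act 5 n25460
theorem D29138 : act 5 n25460 = n29138 := rfl
theorem F62611 : act 1 n29138 = n25470 := d9_1 D29138 (iv D25470) (iv D21241) (iv F41063) D25460
def n29139 : Q := act 6 n25460
theorem D29139 : act 6 n25460 = n29139 := rfl
theorem F62612 : act 0 n29139 = n29131 := d5_1 D29139 (iv F62607) (iv D29136)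
def n29140 : Q := act 4 n25461
theorem D29140 : act 4 n25461 = n29140 := rfl
theorem F62613 : act 0 n29140 = n25463 := d3_1 D29140 (iv D25463) (iv F52264)
theorem F62614 : act 5 n29140 = n25472 := d18_2 (iv F52265) D29140 (iv D25472)
def n29141 : Q := act 1 n25462
theorem D29141 : act 1 n25462 = n29141 := rfl
theorem F62615 : act 2 n29141 = n27404 := d6_2 D25462 D29141 (iv D27404) (iv F52258) F52256
def n29142 : Q := act 4 n25462
theorem D29142 : act 4 n25462 = n29142 := rfl
theorem F62616 : act 2 n29142 = n25463 := d12_1 D29142 (iv D25463) D25462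
theorem F62617 : act 5 n29142 = n25476 := d18_2 (iv F52266) D29142 (iv D25476)
def n29143 : Q := act 6 n25462
theorem D29143 : act 6 n25462 = n29143 := rfl
theorem F62618 : act 2 n29143 = n25464 := d14_1 D29143 (iv D25464) D25462
theorem F62619 : act 3 n29143 = n25592 := d17_1 D29143 F52535 F52461
theorem F62620 : act 5 n29143 = n25588 := d22_2 (iv F52266) D29143 (iv D25588) F41236
def n29144 : Q := act 6 n25463
theorem D29144 : act 6 n25463 = n29144 := rfl
theorem F62621 : act 4 n29144 = n25464 := d19_1 D29144 (iv D25464) D25463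
def n29145 : Q := act 1 n25464
theorem D29145 : act 1 n25464 = n29145 := rfl
theorem F62622 : act 3 n29145 = n25465 := d7_2 (iv F52268) D29145 (iv D25465)
def n29146 : Q := act 0 n25465
theorem D29146 : act 0 n25465 = n29146 := rfl
def n29147 : Q := act 5 n25465
theorem D29147 : act 5 n25465 = n29147 := rfl
def n29148 : Q := act 0 n25466
theorem D29148 : act 0 n25466 = n29148 := rfl
theorem F62623 : act 2 n29148 = n25468 := d1_2 (iv F52269) D29148 (iv D25468)
theorem F62624 : act 3 n29148 = n28003 := d2_2 (iv F52270) D29148 (iv D28003)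
theorem F62625 : act 4 n29148 = n28966 := d3_2 F60471 D29148 F62215
theorem F62626 : act 6 n25663 = n29148 := d19_0 F62625 F62216 (iv F52673)
def n29149 : Q := act 5 n25466
theorem D29149 : act 5 n25466 = n29149 := rfl
theorem F62627 : act 2 n29149 = n25470 := d13_1 D29149 (iv D25470) (iv F52269)
theorem F62628 : act 3 n29149 = n28005 := d16_1 D29149 (iv D28005) (iv F52270)
def n29150 : Q := act 6 n25466
theorem D29150 : act 6 n25466 = n29150 := rfl
theorem F62629 : act 0 n29150 = n25663 := d5_1 D29150 F62626 (iv D29148)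
theorem F62630 : act 2 n29150 = n25471 := d14_1 D29150 (iv D25471) (iv F52269)
theorem F62631 : act 3 n29150 = n28006 := d17_1 D29150 (iv D28006) (iv F52270)
theorem F62632 : act 4 n29150 = n28968 := d19_1 D29150 F62220 F60471
def n29151 : Q := act 1 n25467
theorem D29151 : act 1 n25467 = n29151 := rfl
theorem F62633 : act 3 n29151 = n28009 := d7_2 (iv F52273) D29151 (iv D28009)
def n29152 : Q := act 5 n25468
theorem D29152 : act 5 n25468 = n29152 := rfl
theorem F62634 : act 0 n29152 = n25470 := d4_1 D29152 (iv D25470) D25468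
def n29153 : Q := act 4 n25469
theorem D29153 : act 4 n25469 = n29153 := rfl
theorem F62635 : act 1 n29153 = n25472 := d8_1 D29153 (iv D25472) (iv F52275)
def n29154 : Q := act 5 n25469
theorem D29154 : act 5 n25469 = n29154 := rfl
theorem F62636 : act 3 n29154 = n25470 := d16_1 D29154 (iv D25470) D25469
def n29155 : Q := act 6 n25469
theorem D29155 : act 6 n25469 = n29155 := rfl
theorem F62637 : act 3 n29155 = n25471 := d17_1 D29155 (iv D25471) D25469
def n29156 : Q := act 6 n25470
theorem D29156 : act 6 n25470 = n29156 := rfl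
theorem F62638 : act 4 n29156 = n29037 := d19_1 D29156 F62367 F60483
theorem F62639 : act 5 n29156 = n28337 := d22_2 D25470 D29156 F60437 (iv D25468)
theorem F62640 : act 1 n28343 = n29156 := d24_14 (iv D29156) (iv D25470) (iv D21241) D21243 F41073 D25465 (iv F61176) F61175 (iv D28390) D28391 F60449 (iv F60331) (iv D28344) D28343
def n29157 : Q := act 1 n25471
theorem D29157 : act 1 n25471 = n29157 := rfl
theorem F62641 : act 6 n29157 = n25474 := d10_2 D25471 D29157 (iv D25474) (iv D21243) D21241
def n29158 : Q := act 5 n25471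
theorem D29158 : act 5 n25471 = n29158 := rfl
theorem F62642 : act 0 n29158 = n29156 := d4_1 D29158 F62639 (iv F60438)
theorem F62643 : act 6 n29158 = n29152 := d20_2 D25471 D29158 (iv D29152) (iv F60437) (iv F62639) (iv D29156) (iv D25470)
def n29159 : Q := act 6 n25472
theorem D29159 : act 6 n25472 = n29159 := rfl
theorem F62644 : act 0 n29159 = n25478 := d5_1 D29159 (iv D25478) (iv F52276)
theorem F62645 : act 3 n29159 = n28815 := d17_1 D29159 F61687 F60489
theorem F62646 : act 4 n29159 = n25473 := d19_1 D29159 (iv D25473) D25472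
theorem F62647 : act 5 n29159 = n29144 := d22_2 F62614 D29159 (iv D29144) (iv F62613)
def n29160 : Q := act 1 n25473
theorem D29160 : act 1 n25473 = n29160 := rfl
theorem F62648 : act 3 n29160 = n25474 := d7_2 (iv F52278) D29160 (iv D25474)
def n29161 : Q := act 0 n25474
theorem D29161 : act 0 n25474 = n29161 := rfl
def n29162 : Q := act 5 n25474
theorem D29162 : act 5 n25474 = n29162 := rfl
theorem F62649 : act 1 n29162 = n29147 := d9_1 D29162 (iv D29147) (iv D25465) (iv F41073) D25474
theorem F62650 : act 0 n28491 = n29162 := d23_19 (iv D29162) (iv F60414) (iv D28379) F49738 (iv D20176) (iv D14962) (iv D11516) (iv F13917) (iv D9316) (iv F13906) D11511 F34689 D14954 (iv F40978) F38160 (iv F38235) (iv F38481) (iv F49991) D28491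
theorem F62651 : act 3 n29162 = n28494 := d2_2 (iv F60734) F62650 (iv D28494)
theorem F62652 : act 5 n29161 = n28491 := d4_0 F62650 (iv D29162) D29161
theorem F62653 : act 1 n28487 = n29161 := d9_5 F62652 (iv D28491) (iv D24627) (iv F49985) D28487
theorem F62654 : act 3 n28489 = n29161 := d16_3 F62652 F60734 (iv F60729)
theorem F62655 : act 0 n29160 = n28489 := d2_3 F62654 (iv D29161) (iv F62648)
theorem F62656 : act 5 n28494 = n29160 := d4_0 F62655 F60729 D28494
def n29163 : Q := act 4 n25475
theorem D29163 : act 4 n25475 = n29163 := rfl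
theorem F62657 : act 1 n29163 = n25476 := d8_1 D29163 (iv D25476) D25475
theorem F62658 : act 3 n29163 = n27566 := d15_1 D29163 F57957 D27579 (iv F57990) F52499
def n29164 : Q := act 5 n25475
theorem D29164 : act 5 n25475 = n29164 := rfl
def n29165 : Q := act 6 n25475
theorem D29165 : act 6 n25475 = n29165 := rfl
def n29166 : Q := act 6 n25476
theorem D29166 : act 6 n25476 = n29166 := rfl
theorem F62659 : act 2 n29166 = n25478 := d14_1 D29166 (iv D25478) (iv F52280)
theorem F62660 : act 4 n29166 = n25477 := d19_1 D29166 (iv D25477) D25476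
def n29167 : Q := act 1 n25477
theorem D29167 : act 1 n25477 = n29167 := rfl
def n29168 : Q := act 5 n25477
theorem D29168 : act 5 n25477 = n29168 := rfl
theorem F62661 : act 0 n29168 = n29143 := d4_1 D29168 F62620 F52526
theorem F62662 : act 2 n29168 = n25480 := d13_1 D29168 (iv D25480) (iv F52281)
theorem F62663 : act 3 n29168 = n25563 := d16_1 D29168 (iv F52506) F52505
theorem F62664 : act 6 n29168 = n25561 := d20_2 D25477 D29168 F52467 D25588 (iv F62620) (iv D29143) F52266
def n29169 : Q := act 1 n25478
theorem D29169 : act 1 n25478 = n29169 := rfl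
theorem F62665 : act 4 n29169 = n25479 := d8_2 (iv F52282) D29169 (iv D25479)
def n29170 : Q := act 5 n25478
theorem D29170 : act 5 n25478 = n29170 := rfl
theorem F62666 : act 0 n29170 = n29144 := d4_1 D29170 (iv F62647) F62644
theorem F62667 : act 4 n29170 = n25480 := d18_1 D29170 (iv D25480) (iv F52282)
theorem F62668 : act 6 n29170 = n29140 := d20_2 D25478 D29170 F62614 D29159 F62647 (iv D29144) F52267
def n29171 : Q := act 0 n25479
theorem D29171 : act 0 n25479 = n29171 := rfl
theorem F62669 : act 3 n29171 = n25481 := d2_2 (iv F52283) D29171 (iv D25481)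
theorem F62670 : act 5 n29171 = n29035 := d22_0 (iv D29035) (iv F62331) F62332 D29171
def n29172 : Q := act 2 n25479
theorem D29172 : act 2 n25479 = n29172 := rfl
def n29173 : Q := act 5 n25479
theorem D29173 : act 5 n25479 = n29173 := rfl
theorem F62671 : act 0 n29173 = n29035 := d4_1 D29173 (iv F62670) (iv D29171)
theorem F62672 : act 3 n29173 = n25482 := d16_1 D29173 (iv D25482) (iv F52283)
theorem F62673 : act 6 n29173 = n29033 := d22_3 (iv F62331) F62332 D29173 (iv D29033)
def n29174 : Q := act 1 n25480
theorem D29174 : act 1 n25480 = n29174 := rfl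
theorem F62674 : act 3 n29174 = n25483 := d7_2 (iv F52285) D29174 (iv D25483)
def n29175 : Q := act 1 n25481
theorem D29175 : act 1 n25481 = n29175 := rfl
def n29176 : Q := act 1 n25482
theorem D29176 : act 1 n25482 = n29176 := rfl
theorem F62675 : act 0 n29176 = n28354 := d0_1 D29176 (iv D28354) F49694 F38174 (iv F38255) D24541 D28402 (iv F60478) (iv F52289)
theorem F62676 : act 4 n29176 = n29071 := d8_2 F60507 D29176 F62489
theorem F62677 : act 5 n29176 = n25483 := d9_2 D25482 D29176 (iv D25483) (iv D21248) D21247
def n29177 : Q := act 0 n25483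
theorem D29177 : act 0 n25483 = n29177 := rfl
theorem F62678 : act 4 n29177 = n29073 := d3_2 F60509 D29177 F62495
theorem F62679 : act 5 n29177 = n28354 := d4_2 F62677 D29177 (iv F62675)
theorem F62680 : act 1 n28243 = n29177 := d9_5 F62679 (iv D28354) F49696 F49618 D28243
def n29178 : Q := act 2 n25483
theorem D29178 : act 2 n25483 = n29178 := rfl
theorem F62681 : act 1 n29178 = n25484 := d6_1 D29178 (iv D25484) (iv D21249) (iv F41077) D25483
theorem F62682 : act 3 n27211 = n29178 := d7_0 F62681 F52294 D27211
def n29179 : Q := act 6 n25483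
theorem D29179 : act 6 n25483 = n29179 := rfl
theorem F62683 : act 1 n29179 = n29139 := d10_1 D29179 (iv D29139) (iv D25460) (iv F41078) D25483
def n29180 : Q := act 2 n25486
theorem D29180 : act 2 n25486 = n29180 := rfl
theorem F62684 : act 1 n29180 = n25632 := d6_1 D29180 (iv D25632) (iv D21354) (iv F41106) D25486
theorem F62685 : act 4 n29180 = n27258 := d12_2 (iv F52300) D29180 (iv D27258)
theorem F62686 : act 6 n29180 = n27015 := d14_2 (iv F52301) D29180 (iv D27015)
def n29181 : Q := act 3 n25487
theorem D29181 : act 3 n25487 = n29181 := rfl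
theorem F62687 : act 1 n29181 = n25490 := d7_1 D29181 (iv D25490) (iv F52302)
theorem F62688 : act 4 n29181 = n27543 := d15_2 (iv F52303) D29181 F57898 F46546 F45008
theorem F62689 : act 6 n29181 = n27024 := d17_2 (iv F52304) D29181 (iv D27024)
def n29182 : Q := act 2 n25490
theorem D29182 : act 2 n25490 = n29182 := rfl
theorem F62690 : act 6 n29182 = n29182 := d14_2 F52311 D29182 (iv D29182)
theorem F62691 : act 3 n29182 = n25595 := d21_1 D29182 (iv D25595) F41242 F27951 (iv F40912) D25386 D29044 F62391
def n29183 : Q := act 4 n25490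
theorem D29183 : act 4 n25490 = n29183 := rfl
theorem F62692 : act 1 n29183 = n27543 := d8_1 D29183 (iv F62688) F62687
theorem F62693 : act 3 n29183 = n27545 := d15_1 D29183 F57903 F52308 F52306 D25490
theorem F62694 : act 6 n29183 = n29183 := d19_2 F52311 D29183 (iv D29183)
def n29184 : Q := act 5 n25490
theorem D29184 : act 5 n25490 = n29184 := rfl
theorem F62695 : act 3 n29184 = n25491 := d16_1 D29184 (iv D25491) D25490
def n29185 : Q := act 1 n25491
theorem D29185 : act 1 n25491 = n29185 := rfl
theorem F62696 : act 2 n29185 = n27532 := d6_2 (iv F52312) D29185 (iv F57879) F53085 F41620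
theorem F62697 : act 4 n29185 = n27749 := d8_2 (iv F55886) D29185 F58447
theorem F62698 : act 6 n29185 = n27474 := d10_2 F55892 D29185 (iv D27474) F46415 (iv F55890)
theorem F62699 : act 0 n27608 = n29185 := d5_3 F62698 F57738 D27608
def n29186 : Q := act 3 n25492
theorem D29186 : act 3 n25492 = n29186 := rfl
theorem F62700 : act 0 n29186 = n29182 := d2_1 D29186 F62691 F52544
theorem F62701 : act 1 n29186 = n27552 := d7_1 D29186 (iv F58151) F61413
theorem F62702 : act 2 n29186 = n29044 := d11_1 D29186 (iv D29044) (iv D25386) F40912 (iv F27951) (iv F41242) D25595 (iv F62691) (iv D29182) (iv D25490) (iv D21259) F27841 D16098 D21261 D25492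
theorem F62703 : act 6 n29186 = n29186 := d17_2 F52313 D29186 (iv D29186)
def n29187 : Q := act 4 n25492
theorem D29187 : act 4 n25492 = n29187 := rfl
theorem F62704 : act 1 n29187 = n28127 := d8_1 D29187 F59626 F61413
theorem F62705 : act 2 n29187 = n25493 := d12_1 D29187 (iv D25493) D25492
theorem F62706 : act 6 n29187 = n29187 := d19_2 F52313 D29187 (iv D29187)
def n29188 : Q := act 5 n25492
theorem D29188 : act 5 n25492 = n29188 := rfl
theorem F62707 : act 2 n29188 = n25494 := d13_1 D29188 (iv D25494) D25492
def n29189 : Q := act 5 n25493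
theorem D29189 : act 5 n25493 = n29189 := rfl
theorem F62708 : act 3 n29189 = n26498 := d16_1 D29189 (iv D26498) (iv F52315)
theorem F62709 : act 4 n29189 = n25494 := d18_1 D29189 (iv D25494) D25493
def n29190 : Q := act 1 n25494
theorem D29190 : act 1 n25494 = n29190 := rfl
theorem F62710 : act 3 n29190 = n25495 := d7_2 (iv F52317) D29190 (iv D25495)
theorem F62711 : act 5 n29190 = n25507 := d9_2 D25494 D29190 (iv D25507) (iv D21269) (iv F41117)
theorem F62712 : act 6 n26856 = n29190 := d17_0 F62710 (iv F52321) D26856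
def n29191 : Q := act 2 n25497
theorem D29191 : act 2 n25497 = n29191 := rfl
def n29192 : Q := act 4 n25497
theorem D29192 : act 4 n25497 = n29192 := rfl
theorem F62713 : act 1 n29192 = n25501 := d8_1 D29192 (iv D25501) (iv F52322)
theorem F62714 : act 3 n29192 = n26500 := d15_1 D29192 (iv D26500) (iv D21972) (iv F41126) D25497
def n29193 : Q := act 5 n25497
theorem D29193 : act 5 n25497 = n29193 := rfl
theorem F62715 : act 3 n29193 = n25498 := d16_1 D29193 (iv D25498) D25497
theorem F62716 : act 6 n29193 = n25507 := d22_1 D29193 (iv F62711) (iv F62712) F55853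
def n29194 : Q := act 6 n25497
theorem D29194 : act 6 n25497 = n29194 := rfl
theorem F62717 : act 0 n29194 = n29190 := d5_1 D29194 (iv F62712) F55853
theorem F62718 : act 1 n29194 = n25515 := d10_1 D29194 (iv D25515) F41135 (iv F41128) (iv F52322)
theorem F62719 : act 3 n29194 = n25499 := d17_1 D29194 (iv D25499) D25497
def n29195 : Q := act 1 n25500
theorem D29195 : act 1 n25500 = n29195 := rfl
theorem F62720 : act 3 n29195 = n29090 := d7_2 (iv F52331) D29195 (iv D29090)
def n29196 : Q := act 4 n25500
theorem D29196 : act 4 n25500 = n29196 := rfl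
theorem F62721 : act 0 n29196 = n25504 := d3_1 D29196 (iv D25504) (iv F52329)
theorem F62722 : act 2 n29196 = n25501 := d12_1 D29196 (iv D25501) D25500
theorem F62723 : act 6 n29196 = n25518 := d19_2 (iv F52330) D29196 (iv D25518)
theorem F62724 : act 3 n27114 = n29196 := d17_3 F62723 (iv F52369) D27114
def n29197 : Q := act 3 n25502
theorem D29197 : act 3 n25502 = n29197 := rfl
theorem F62725 : act 1 n29197 = n25503 := d7_1 D29197 (iv D25503) D25502
theorem F62726 : act 5 n29197 = n26233 := d16_2 (iv F61410) D29197 (iv F58221)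
theorem F62727 : act 6 n29197 = n27680 := d17_2 (iv F61411) D29197 F58230
theorem F62728 : act 2 n29197 = n26238 := d21_6 (iv F43177) (iv F53270) (iv F57916) (iv F58151) (iv F61408) D29197 F54072 F42183
def n29198 : Q := act 4 n25503
theorem D29198 : act 4 n25503 = n29198 := rfl
theorem F62729 : act 0 n29198 = n29091 := d3_1 D29198 (iv D29091) (iv F52335)
theorem F62730 : act 2 n29198 = n29089 := d12_1 D29198 (iv D29089) (iv F52336)
theorem F62731 : act 6 n29198 = n25529 := d19_2 (iv F52337) D29198 (iv D25529)
def n29199 : Q := act 3 n25504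
theorem D29199 : act 3 n25504 = n29199 := rfl
theorem F62732 : act 0 n29199 = n27114 := d2_1 D29199 F62724 F62721
theorem F62733 : act 2 n29199 = n27112 := d11_1 D29199 F56722 F45415 (iv F45283) F45282 (iv F52333) (iv F62722) (iv F62724) F56728 F45422 F32366 (iv F32292) F39846 (iv F41130) (iv F52338)
theorem F62734 : act 6 n29199 = n25531 := d17_2 (iv F52339) D29199 (iv D25531)
def n29200 : Q := act 5 n25504
theorem D29200 : act 5 n25504 = n29200 := rfl
theorem F62735 : act 2 n29200 = n25506 := d13_1 D29200 (iv D25506) (iv F52338)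
theorem F62736 : act 4 n29200 = n25505 := d18_1 D29200 (iv D25505) D25504
def n29201 : Q := act 1 n25505
theorem D29201 : act 1 n25505 = n29201 := rfl
def n29202 : Q := act 1 n25506
theorem D29202 : act 1 n25506 = n29202 := rfl
theorem F62737 : act 3 n29202 = n26502 := d7_2 (iv F52341) D29202 (iv D26502)
theorem F62738 : act 4 n29202 = n25507 := d8_2 (iv F52342) D29202 (iv D25507)
def n29203 : Q := act 0 n25507
theorem D29203 : act 0 n25507 = n29203 := rfl
theorem F62739 : act 3 n29203 = n25508 := d2_2 (iv F52343) D29203 (iv D25508)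
theorem F62740 : act 5 n29203 = n29194 := d4_2 F62711 D29203 F62717
def n29204 : Q := act 2 n25507
theorem D29204 : act 2 n25507 = n29204 := rfl
def n29205 : Q := act 6 n25510
theorem D29205 : act 6 n25510 = n29205 := rfl
theorem F62741 : act 0 n29205 = n25515 := d5_1 D29205 (iv D25515) (iv F52349)
theorem F62742 : act 1 n29205 = n28062 := d10_1 D29205 F59453 F52483 (iv F46755) (iv F52350)
theorem F62743 : act 2 n29205 = n27675 := d14_1 D29205 (iv D27675) (iv F52351)
theorem F62744 : act 3 n29205 = n25511 := d17_1 D29205 (iv D25511) D25510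
theorem F62745 : act 5 n29205 = n27990 := d20_1 D29205 F59233 (iv D25514) D25515 (iv F52363) D27992 (iv F59240)
def n29206 : Q := act 1 n25512
theorem D29206 : act 1 n25512 = n29206 := rfl
theorem F62746 : act 2 n29206 = n25517 := d6_2 D25512 D29206 (iv D25517) (iv D21275) (iv F41135)
theorem F62747 : act 3 n29206 = n28795 := d7_2 (iv F52358) D29206 (iv D28795)
def n29207 : Q := act 5 n25512
theorem D29207 : act 5 n25512 = n29207 := rfl
theorem F62748 : act 0 n29207 = n27674 := d4_1 D29207 (iv D27674) (iv F52357)
theorem F62749 : act 2 n29207 = n25514 := d13_1 D29207 (iv D25514) D25512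
theorem F62750 : act 3 n29207 = n28796 := d16_1 D29207 (iv D28796) (iv F52358)
def n29208 : Q := act 6 n25512
theorem D29208 : act 6 n25512 = n29208 := rfl
theorem F62751 : act 0 n29208 = n27675 := d5_1 D29208 (iv D27675) (iv F52357)
theorem F62752 : act 2 n29208 = n25515 := d14_1 D29208 (iv D25515) D25512
theorem F62753 : act 3 n29208 = n28797 := d17_1 D29208 (iv D28797) (iv F52358)
theorem F62754 : act 5 n29208 = n27991 := d22_2 (iv D29207) D29208 (iv F59235) (iv F62748)
theorem F62755 : act 1 n27648 = n29208 := d9_5 F62754 (iv F61361) (iv F59448) F58118 D27648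
theorem F62756 : act 1 n28797 = n27553 := d7_3 (iv F58154) F62755 F62753
def n29209 : Q := act 5 n25513
theorem D29209 : act 5 n25513 = n29209 := rfl
theorem F62757 : act 0 n29209 = n27389 := d4_1 D29209 (iv F57519) (iv F54545)
theorem F62758 : act 3 n29209 = n26507 := d16_1 D29209 (iv D26507) (iv F52360)
theorem F62759 : act 4 n29209 = n25514 := d18_1 D29209 (iv D25514) D25513
theorem F62760 : act 6 n29209 = n27387 := d22_3 (iv F57512) F57513 D29209 F57517
def n29210 : Q := act 1 n25514
theorem D29210 : act 1 n25514 = n29210 := rfl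
theorem F62761 : act 3 n29210 = n25516 := d7_2 (iv F52361) D29210 (iv D25516)
theorem F62762 : act 5 n29210 = n25521 := d9_2 D25514 D29210 (iv D25521) (iv D21277) (iv F41135)
def n29211 : Q := act 5 n25517
theorem D29211 : act 5 n25517 = n29211 := rfl
theorem F62763 : act 3 n29211 = n29113 := d16_1 D29211 (iv D29113) (iv F52366)
def n29212 : Q := act 6 n25517
theorem D29212 : act 6 n25517 = n29212 := rfl
theorem F62764 : act 3 n29212 = n29114 := d17_1 D29212 (iv D29114) (iv F52366)
def n29213 : Q := act 5 n25518
theorem D29213 : act 5 n25518 = n29213 := rfl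
theorem F62765 : act 0 n29213 = n25532 := d4_1 D29213 (iv D25532) (iv F52367)
theorem F62766 : act 2 n29213 = n25520 := d13_1 D29213 (iv D25520) (iv F52368)
theorem F62767 : act 3 n29213 = n27104 := d16_1 D29213 F56698 F52369
theorem F62768 : act 4 n29213 = n25519 := d18_1 D29213 (iv D25519) D25518
theorem F62769 : act 6 n29213 = n29200 := d22_1 D29213 (iv D29200) F52339 (iv F52367)
def n29214 : Q := act 1 n25519
theorem D29214 : act 1 n25519 = n29214 := rfl
theorem F62770 : act 3 n29214 = n29116 := d7_2 (iv F52372) D29214 (iv D29116)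
def n29215 : Q := act 1 n25520
theorem D29215 : act 1 n25520 = n29215 := rfl
theorem F62771 : act 3 n29215 = n26509 := d7_2 (iv F52375) D29215 (iv D26509)
theorem F62772 : act 4 n29215 = n25521 := d8_2 (iv F52376) D29215 (iv D25521)
def n29216 : Q := act 0 n25521
theorem D29216 : act 0 n25521 = n29216 := rfl
theorem F62773 : act 1 n29216 = n26821 := d0_2 D25521 D29216 F55745 F52452 F41214 (iv F41202) F41201 (iv D21284) (iv F41144)
theorem F62774 : act 3 n29216 = n25522 := d2_2 (iv F52378) D29216 (iv D25522)
theorem F62775 : act 2 n29210 = n29216 := d21_2 F60812 (iv F62761) F62774 F52380 (iv F47515) (iv F58653) F58654 (iv F60810)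
def n29217 : Q := act 2 n25521
theorem D29217 : act 2 n25521 = n29217 := rfl
theorem F62776 : act 0 n29217 = n29210 := d1_1 D29217 F62775 (iv D29216)
theorem F62777 : act 5 n29217 = n29216 := d13_2 F62762 D29217 (iv F62775)
theorem F62778 : act 3 n29217 = n25540 := d21_1 D29217 (iv F55751) (iv F58654) F58653 F47515 (iv F52380) (iv F62774) (iv D29216)
theorem F62779 : act 1 n25538 = n29217 := d7_3 F62778 (iv D25540) (iv F52411)
theorem F62780 : act 6 n25539 = n29217 := d17_0 F62778 F52414 (iv F52412)
theorem F62781 : act 2 n29214 = n25538 := d6_0 F62779 (iv D29217) (iv D25521) (iv F52371) D29214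
theorem F62782 : act 6 n25537 = n29214 := d14_0 F62781 (iv D25538) D25537
def n29218 : Q := act 6 n25521
theorem D29218 : act 6 n25521 = n29218 := rfl
theorem F62783 : act 1 n29218 = n29193 := d10_1 D29218 F62716 (iv D25507) (iv F41146) D25521
theorem F62784 : act 2 n29218 = n25539 := d14_1 D29218 F62780 (iv D29217)
theorem F62785 : act 3 n29218 = n25523 := d17_1 D29218 (iv D25523) (iv F52378)
theorem F62786 : act 5 n29218 = n25539 := d22_2 F62762 D29218 F62780 F62776
def n29219 : Q := act 6 n25522
theorem D29219 : act 6 n25522 = n29219 := rfl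
theorem F62787 : act 0 n29219 = n25523 := d5_1 D29219 (iv D25523) D25522
theorem F62788 : act 2 n29219 = n26824 := d14_1 D29219 (iv D26824) (iv F52380)
theorem F62789 : act 4 n29219 = n26513 := d19_1 D29219 (iv D26513) (iv F52381)
theorem F62790 : act 5 n29219 = n25541 := d20_1 D29219 F52418 F52365 D25523 F52384 (iv F52414) (iv F52415)
def n29220 : Q := act 5 n25529
theorem D29220 : act 5 n25529 = n29220 := rfl
theorem F62791 : act 0 n29220 = n29115 := d4_1 D29220 (iv D29115) (iv F52391)
theorem F62792 : act 2 n29220 = n29108 := d13_1 D29220 (iv D29108) (iv F52392)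
theorem F62793 : act 4 n29220 = n25530 := d18_1 D29220 (iv D25530) D25529
def n29221 : Q := act 1 n25530
theorem D29221 : act 1 n25530 = n29221 := rfl
theorem F62794 : act 3 n29221 = n25533 := d7_2 (iv F52395) D29221 (iv D25533)
def n29222 : Q := act 5 n25531
theorem D29222 : act 5 n25531 = n29222 := rfl
theorem F62795 : act 0 n29222 = n27104 := d4_1 D29222 F56698 (iv F52396)
theorem F62796 : act 2 n29222 = n27103 := d13_1 D29222 F56697 (iv F52397)
theorem F62797 : act 3 n29222 = n25532 := d16_1 D29222 (iv D25532) D25531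
def n29223 : Q := act 1 n25532
theorem D29223 : act 1 n25532 = n29223 := rfl
theorem F62798 : act 4 n29223 = n25533 := d8_2 (iv F52399) D29223 (iv D25533)
theorem F62799 : act 5 n29223 = n28133 := d9_2 D25532 D29223 (iv D28133) (iv D24171) F58172
def n29224 : Q := act 6 n25532
theorem D29224 : act 6 n25532 = n29224 := rfl
theorem F62800 : act 0 n29224 = n29200 := d5_1 D29224 (iv F62769) F62765
theorem F62801 : act 2 n29224 = n25536 := d14_1 D29224 (iv D25536) (iv F52398)
theorem F62802 : act 4 n29224 = n25534 := d19_1 D29224 (iv D25534) (iv F52399)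
theorem F62803 : act 5 n29224 = n29196 := d20_1 D29224 F62723 D29213 F62769 (iv D29200) F52339 D25532
def n29225 : Q := act 0 n25533
theorem D29225 : act 0 n25533 = n29225 := rfl
def n29226 : Q := act 2 n25533
theorem D29226 : act 2 n25533 = n29226 := rfl
theorem F62804 : act 1 n29226 = n25537 := d6_1 D29226 (iv D25537) (iv D21284) (iv F41152) D25533
theorem F62805 : act 6 n29201 = n29226 := d10_0 F62804 F62782 (iv D29214) F52373 D29201
def n29227 : Q := act 6 n25533
theorem D29227 : act 6 n25533 = n29227 := rfl
theorem F62806 : act 2 n29227 = n29201 := d14_1 D29227 F62805 (iv D29226)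
theorem F62807 : act 1 n29204 = n29227 := d6_5 F62806 (iv D29201) F52340 D25507 D29204
def n29228 : Q := act 1 n25534
theorem D29228 : act 1 n25534 = n29228 := rfl
theorem F62808 : act 2 n29228 = n29193 := d6_2 (iv F52401) D29228 (iv F62783) F62784 (iv D25539)
theorem F62809 : act 6 n29228 = n29204 := d10_2 D25534 D29228 F62807 (iv D29227) (iv D25533)
theorem F62810 : act 5 n29191 = n29228 := d13_0 F62808 (iv D29193) D29191
def n29229 : Q := act 2 n25535
theorem D29229 : act 2 n25535 = n29229 := rfl
theorem F62811 : act 4 n29229 = n25537 := d12_2 (iv F52404) D29229 (iv D25537)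
theorem F62812 : act 5 n29229 = n29229 := d13_2 F52405 D29229 (iv D29229)
def n29230 : Q := act 6 n25535
theorem D29230 : act 6 n25535 = n29230 := rfl
theorem F62813 : act 3 n29230 = n26514 := d17_1 D29230 (iv D26514) (iv F52403)
theorem F62814 : act 4 n29230 = n25538 := d19_1 D29230 (iv D25538) (iv F52404)
def n29231 : Q := act 1 n25536
theorem D29231 : act 1 n25536 = n29231 := rfl
theorem F62815 : act 3 n29231 = n26515 := d7_2 (iv F52407) D29231 (iv D26515)
theorem F62816 : act 4 n29231 = n25539 := d8_2 (iv F52408) D29231 (iv D25539)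
def n29232 : Q := act 3 n25537
theorem D29232 : act 3 n25537 = n29232 := rfl
theorem F62817 : act 5 n29232 = n29232 := d16_2 F52410 D29232 (iv D29232)
theorem F62818 : act 6 n29232 = n29116 := d17_2 (iv F62782) D29232 (iv F62770)
theorem F62819 : act 2 n29232 = n25548 := d21_2 D25537 D29232 (iv D25548) (iv D21298) F27920 D16138 D21300 F41201
def n29233 : Q := act 0 n25539
theorem D29233 : act 0 n25539 = n29233 := rfl
theorem F62820 : act 3 n29233 = n25541 := d2_2 (iv F52412) D29233 (iv D25541)
theorem F62821 : act 6 n29233 = n29210 := d5_2 (iv F62780) D29233 (iv F62776)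
def n29234 : Q := act 1 n25541
theorem D29234 : act 1 n25541 = n29234 := rfl
theorem F62822 : act 4 n29234 = n26521 := d8_2 (iv F52417) D29234 (iv D26521)
theorem F62823 : act 6 n29234 = n27989 := d10_2 (iv F52418) D29234 (iv D27989) F48522 D25516
theorem F62824 : act 2 n28046 = n29234 := d23_1 (iv F59398) (iv D29234) (iv D25541) (iv F52384) (iv F60800) (iv D28515) (iv F55418) F55421 F43570 (iv F43553) (iv F54192) (iv D26298) (iv F42397) F42396 (iv F42408) (iv F42418) F42416 D21886 D26424
def n29235 : Q := act 2 n25541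
theorem D29235 : act 2 n25541 = n29235 := rfl
theorem F62825 : act 0 n29235 = n25542 := d1_1 D29235 (iv D25542) D25541
theorem F62826 : act 4 n29235 = n26522 := d12_2 (iv F52417) D29235 (iv D26522)
theorem F62827 : act 5 n29235 = n26824 := d13_2 F62790 D29235 (iv F62788)
theorem F62828 : act 6 n29235 = n28517 := d14_2 (iv F52418) D29235 F60812
theorem F62829 : act 3 n29235 = n28923 := d21_1 D29235 F62068 (iv F60801) F60800 (iv F62785) F62784 F52412 D25541
def n29236 : Q := act 2 n25544
theorem D29236 : act 2 n25544 = n29236 := rfl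
theorem F62830 : act 1 n29236 = n25737 := d6_1 D29236 (iv D25737) (iv D21426) (iv F41190) D25544
theorem F62831 : act 4 n29236 = n27283 := d12_2 (iv F52426) D29236 (iv D27283)
theorem F62832 : act 5 n29236 = n27019 := d13_2 (iv F52427) D29236 (iv D27019)
def n29237 : Q := act 3 n25545
theorem D29237 : act 3 n25545 = n29237 := rfl
theorem F62833 : act 1 n29237 = n25548 := d7_1 D29237 (iv D25548) (iv F52428)
theorem F62834 : act 4 n29237 = n27620 := d15_2 (iv F52429) D29237 F58081 F46686 F45046
theorem F62835 : act 5 n29237 = n27027 := d16_2 (iv F52430) D29237 (iv D27027)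
def n29238 : Q := act 4 n25548
theorem D29238 : act 4 n25548 = n29238 := rfl
theorem F62836 : act 1 n29238 = n27620 := d8_1 D29238 (iv F62834) F62833
theorem F62837 : act 3 n29238 = n27621 := d15_1 D29238 F58083 F52434 F52432 D25548
theorem F62838 : act 5 n29238 = n29238 := d18_2 F52437 D29238 (iv D29238)
def n29239 : Q := act 6 n25548
theorem D29239 : act 6 n25548 = n29239 := rfl
theorem F62839 : act 2 n29239 = n29116 := d14_1 D29239 (iv F62818) F62819
theorem F62840 : act 3 n29239 = n25549 := d17_1 D29239 (iv D25549) D25548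
theorem F62841 : act 1 n29121 = n29239 := d6_5 F62839 (iv D29116) F52225 D25445 D29121
def n29240 : Q := act 1 n25549
theorem D29240 : act 1 n25549 = n29240 := rfl
theorem F62842 : act 2 n29240 = n27607 := d6_2 (iv F52438) D29240 (iv F58058) F53689 F41963
theorem F62843 : act 3 n29240 = n29121 := d7_2 F62840 D29240 F62841
theorem F62844 : act 4 n29240 = n27735 := d8_2 F55779 D29240 F58387
theorem F62845 : act 5 n29240 = n27392 := d9_2 F55784 D29240 (iv D27392) F46245 (iv F55782)
theorem F62846 : act 0 n27531 = n29240 := d4_3 F62845 F57530 D27531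
def n29241 : Q := act 3 n25550
theorem D29241 : act 3 n25550 = n29241 := rfl
theorem F62847 : act 0 n29241 = n29232 := d2_1 D29241 (iv D29232) (iv F52439)
theorem F62848 : act 1 n29241 = n27629 := d7_1 D29241 (iv F58254) F61415
theorem F62849 : act 2 n29241 = n29051 := d11_1 D29241 (iv D29051) (iv D25398) F40942 (iv F27871) (iv F41155) D25537 D29232 F62819 (iv D25548) (iv D21298) F27920 D16138 D21300 D25550
theorem F62850 : act 5 n29241 = n29241 := d16_2 F52440 D29241 (iv D29241)
def n29242 : Q := act 4 n25550
theorem D29242 : act 4 n25550 = n29242 := rfl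
theorem F62851 : act 0 n29242 = n29229 := d3_1 D29242 F62811 (iv F52439)
theorem F62852 : act 1 n29242 = n28149 := d8_1 D29242 F59684 F61415
theorem F62853 : act 2 n29242 = n25551 := d12_1 D29242 (iv D25551) D25550
theorem F62854 : act 5 n29242 = n29242 := d18_2 F52440 D29242 (iv D29242)
def n29243 : Q := act 6 n25550
theorem D29243 : act 6 n25550 = n29243 := rfl
theorem F62855 : act 0 n29243 = n29214 := d5_1 D29243 (iv F62782) (iv F52439)
theorem F62856 : act 2 n29243 = n25552 := d14_1 D29243 (iv D25552) D25550
theorem F62857 : act 5 n29243 = n29214 := d22_2 F52440 D29243 (iv F62782) (iv F52439)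
theorem F62858 : act 1 n29211 = n29243 := d9_5 F62857 (iv D29214) (iv D25519) D25517 D29211
def n29244 : Q := act 6 n25551
theorem D29244 : act 6 n25551 = n29244 := rfl
theorem F62859 : act 0 n29244 = n29230 := d5_1 D29244 (iv D29230) (iv F52441)
theorem F62860 : act 3 n29244 = n26528 := d17_1 D29244 (iv D26528) (iv F52443)
theorem F62861 : act 4 n29244 = n25552 := d19_1 D29244 (iv D25552) D25551
theorem F62862 : act 5 n29244 = n29230 := d22_2 F52444 D29244 (iv D29230) (iv F52441)
def n29245 : Q := act 1 n25552
theorem D29245 : act 1 n25552 = n29245 := rfl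
theorem F62863 : act 3 n29245 = n25553 := d7_2 (iv F52446) D29245 (iv D25553)
theorem F62864 : act 5 n29245 = n26821 := d9_2 (iv F52447) D29245 (iv F62773) (iv F62777) (iv F62779)
theorem F62865 : act 6 n29245 = n25565 := d10_2 D25552 D29245 (iv D25565) (iv D21308) (iv F41202)
def n29246 : Q := act 2 n25555
theorem D29246 : act 2 n25555 = n29246 := rfl
def n29247 : Q := act 4 n25555
theorem D29247 : act 4 n25555 = n29247 := rfl
theorem F62866 : act 1 n29247 = n25559 := d8_1 D29247 (iv D25559) (iv F52452)
theorem F62867 : act 3 n29247 = n26530 := d15_1 D29247 (iv D26530) (iv D22016) (iv F41213) D25555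
def n29248 : Q := act 5 n25555
theorem D29248 : act 5 n25555 = n29248 := rfl
theorem F62868 : act 0 n29248 = n29245 := d4_1 D29248 F62864 F55745
theorem F62869 : act 1 n29248 = n25572 := d9_1 D29248 (iv D25572) F41222 (iv F41215) (iv F52452)
theorem F62870 : act 3 n29248 = n25556 := d16_1 D29248 (iv D25556) D25555
def n29249 : Q := act 6 n25555
theorem D29249 : act 6 n25555 = n29249 := rfl
theorem F62871 : act 3 n29249 = n25557 := d17_1 D29249 (iv D25557) D25555
theorem F62872 : act 5 n29249 = n25565 := d22_2 (iv D29248) D29249 (iv F62865) (iv F62868)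
def n29250 : Q := act 1 n25558
theorem D29250 : act 1 n25558 = n29250 := rfl
theorem F62873 : act 3 n29250 = n29141 := d7_2 (iv F52461) D29250 (iv D29141)
def n29251 : Q := act 4 n25558
theorem D29251 : act 4 n25558 = n29251 := rfl
theorem F62874 : act 0 n29251 = n25562 := d3_1 D29251 (iv D25562) (iv F52459)
theorem F62875 : act 2 n29251 = n25559 := d12_1 D29251 (iv D25559) D25558
theorem F62876 : act 5 n29251 = n25576 := d18_2 (iv F52460) D29251 (iv D25576)
theorem F62877 : act 3 n27088 = n29251 := d16_3 F62876 (iv F52502) D27088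
def n29252 : Q := act 3 n25560
theorem D29252 : act 3 n25560 = n29252 := rfl
theorem F62878 : act 1 n29252 = n25561 := d7_1 D29252 (iv D25561) D25560
theorem F62879 : act 5 n29252 = n27641 := d16_2 (iv F61405) D29252 F58140
theorem F62880 : act 6 n29252 = n26001 := d17_2 (iv F61406) D29252 (iv F58124)
theorem F62881 : act 2 n29252 = n26006 := d21_6 (iv F43736) (iv F53859) (iv F58098) (iv F58254) (iv F61403) D29252 F53478 (iv F41834)
def n29253 : Q := act 4 n25561
theorem D29253 : act 4 n25561 = n29253 := rfl
theorem F62882 : act 0 n29253 = n29142 := d3_1 D29253 (iv D29142) (iv F52465)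
theorem F62883 : act 2 n29253 = n29140 := d12_1 D29253 (iv D29140) (iv F52466)
theorem F62884 : act 5 n29253 = n25587 := d18_2 (iv F52467) D29253 (iv D25587)
def n29254 : Q := act 3 n25562
theorem D29254 : act 3 n25562 = n29254 := rfl
theorem F62885 : act 0 n29254 = n27088 := d2_1 D29254 F62877 F62874
theorem F62886 : act 2 n29254 = n27086 := d11_1 D29254 F56647 F45345 (iv F45246) F45245 (iv F52463) (iv F62875) (iv F62877) F56653 F45352 F32326 (iv F32269) F39678 (iv F41217) (iv F52468)
theorem F62887 : act 5 n29254 = n25589 := d16_2 (iv F52469) D29254 (iv D25589)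
def n29255 : Q := act 6 n25562
theorem D29255 : act 6 n25562 = n29255 := rfl
theorem F62888 : act 2 n29255 = n25564 := d14_1 D29255 (iv D25564) (iv F52468)
theorem F62889 : act 4 n29255 = n25563 := d19_1 D29255 (iv D25563) D25562
def n29256 : Q := act 1 n25563
theorem D29256 : act 1 n25563 = n29256 := rfl
def n29257 : Q := act 1 n25564
theorem D29257 : act 1 n25564 = n29257 := rfl
theorem F62890 : act 3 n29257 = n26532 := d7_2 (iv F52471) D29257 (iv D26532)
theorem F62891 : act 4 n29257 = n25565 := d8_2 (iv F52472) D29257 (iv D25565)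
def n29258 : Q := act 0 n25565
theorem D29258 : act 0 n25565 = n29258 := rfl
theorem F62892 : act 3 n29258 = n25566 := d2_2 (iv F52473) D29258 (iv D25566)
theorem F62893 : act 6 n29258 = n29248 := d5_2 F62865 D29258 F62868
def n29259 : Q := act 2 n25565
theorem D29259 : act 2 n25565 = n29259 := rfl
def n29260 : Q := act 5 n25568
theorem D29260 : act 5 n25568 = n29260 := rfl
theorem F62894 : act 0 n29260 = n25572 := d4_1 D29260 (iv D25572) (iv F52482)
theorem F62895 : act 1 n29260 = n27992 := d9_1 D29260 (iv F59240) F52350 F46754 (iv F52483)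
theorem F62896 : act 2 n29260 = n27634 := d13_1 D29260 (iv D27634) (iv F52484)
theorem F62897 : act 3 n29260 = n25569 := d16_1 D29260 (iv D25569) D25568
theorem F62898 : act 6 n29260 = n28060 := d20_2 F59453 D29260 F59446 (iv D25573) D25572 (iv F52495) D28062
def n29261 : Q := act 1 n25570
theorem D29261 : act 1 n25570 = n29261 := rfl
theorem F62899 : act 2 n29261 = n25575 := d6_2 D25570 D29261 (iv D25575) (iv D21314) (iv F41222)
theorem F62900 : act 3 n29261 = n28731 := d7_2 (iv F52491) D29261 (iv D28731)
def n29262 : Q := act 5 n25570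
theorem D29262 : act 5 n25570 = n29262 := rfl
theorem F62901 : act 0 n29262 = n27634 := d4_1 D29262 (iv D27634) (iv F52490)
theorem F62902 : act 2 n29262 = n25572 := d13_1 D29262 (iv D25572) D25570
theorem F62903 : act 3 n29262 = n28732 := d16_1 D29262 (iv D28732) (iv F52491)
theorem F62904 : act 6 n29262 = n28061 := d22_1 D29262 (iv F59448) (iv D27635) (iv F52490)
theorem F62905 : act 1 n27687 = n29262 := d10_5 F62904 F61361 (iv F59235) F58207 D27687
theorem F62906 : act 1 n28732 = n27628 := d7_3 (iv F58250) F62905 F62903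
def n29263 : Q := act 6 n25570
theorem D29263 : act 6 n25570 = n29263 := rfl
theorem F62907 : act 0 n29263 = n27635 := d5_1 D29263 (iv D27635) (iv F52490)
theorem F62908 : act 2 n29263 = n25573 := d14_1 D29263 (iv D25573) D25570
theorem F62909 : act 3 n29263 = n28733 := d17_1 D29263 (iv D28733) (iv F52491)
def n29264 : Q := act 6 n25571
theorem D29264 : act 6 n25571 = n29264 := rfl
theorem F62910 : act 0 n29264 = n27472 := d5_1 D29264 F57732 (iv F54519)
theorem F62911 : act 3 n29264 = n26537 := d17_1 D29264 (iv D26537) (iv F52493)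
theorem F62912 : act 4 n29264 = n25573 := d19_1 D29264 (iv D25573) D25571
theorem F62913 : act 5 n27470 = n29264 := d22_0 (iv D29264) (iv F57728) F57729 (iv F57730)
def n29265 : Q := act 1 n25573
theorem D29265 : act 1 n25573 = n29265 := rfl
theorem F62914 : act 3 n29265 = n25574 := d7_2 (iv F52496) D29265 (iv D25574)
theorem F62915 : act 6 n29265 = n25579 := d10_2 D25573 D29265 (iv D25579) (iv D21316) (iv F41222)
def n29266 : Q := act 5 n25575
theorem D29266 : act 5 n25575 = n29266 := rfl
theorem F62916 : act 3 n29266 = n29164 := d16_1 D29266 (iv D29164) (iv F52499)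
def n29267 : Q := act 6 n25575
theorem D29267 : act 6 n25575 = n29267 := rfl
theorem F62917 : act 3 n29267 = n29165 := d17_1 D29267 (iv D29165) (iv F52499)
def n29268 : Q := act 6 n25576
theorem D29268 : act 6 n25576 = n29268 := rfl
theorem F62918 : act 0 n29268 = n25590 := d5_1 D29268 (iv D25590) (iv F52500)
theorem F62919 : act 2 n29268 = n25578 := d14_1 D29268 (iv D25578) (iv F52501)
theorem F62920 : act 3 n29268 = n27078 := d17_1 D29268 F56623 F52502
theorem F62921 : act 4 n29268 = n25577 := d19_1 D29268 (iv D25577) D25576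
theorem F62922 : act 5 n29268 = n29255 := d22_2 F62876 D29268 (iv D29255) (iv F62874)
def n29269 : Q := act 1 n25577
theorem D29269 : act 1 n25577 = n29269 := rfl
theorem F62923 : act 3 n29269 = n29167 := d7_2 (iv F52505) D29269 (iv D29167)
theorem F62924 : act 6 n29269 = n29188 := d24_3 D25563 (iv F52506) D29269 (iv D29188) (iv F61413) (iv D27647) (iv D23464) (iv D18992) (iv F34017) F34016 D18990 D23461 (iv F61405) (iv D25560)
theorem F62925 : act 1 n29267 = n29188 := d10_5 (iv F62924) (iv D29269) (iv D25577) D25575 D29267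
theorem F62926 : act 2 n25596 = n29269 := d14_3 F62924 F62707 (iv F52548)
theorem F62927 : act 5 n25595 = n29269 := d22_0 F62924 (iv D29188) F52313 (iv F52544)
theorem F62928 : act 0 n29188 = n29269 := d22_4 (iv F62927) F52545 F62927 F62924
theorem F62929 : act 2 n29184 = n29167 := d21_6 F62707 F52317 F41119 (iv F41116) (iv F52312) (iv F62695) (iv F62923) (iv F62928)
theorem F62930 : act 1 n29172 = n29184 := d6_5 F62929 (iv D29167) F52281 D25479 D29172
theorem F62931 : act 5 n29167 = n29182 := d13_2 D29184 F62929 (iv D29182)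
theorem F62932 : act 3 n29185 = n29172 := d7_0 F62930 F62695 D29185
def n29270 : Q := act 1 n25578
theorem D29270 : act 1 n25578 = n29270 := rfl
theorem F62933 : act 3 n29270 = n26539 := d7_2 (iv F52508) D29270 (iv D26539)
theorem F62934 : act 4 n29270 = n25579 := d8_2 (iv F52509) D29270 (iv D25579)
def n29271 : Q := act 0 n25579
theorem D29271 : act 0 n25579 = n29271 := rfl
theorem F62935 : act 1 n29271 = n26856 := d0_2 D25579 D29271 F55853 F52322 F41127 (iv F41117) F41244 (iv D21323) (iv F41231)
theorem F62936 : act 3 n29271 = n25580 := d2_2 (iv F52511) D29271 (iv D25580)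
theorem F62937 : act 2 n29265 = n29271 := d21_2 F60656 (iv F62914) F62936 F52513 (iv F47592) (iv F58688) F58689 (iv F60654)
def n29272 : Q := act 2 n25579
theorem D29272 : act 2 n25579 = n29272 := rfl
theorem F62938 : act 0 n29272 = n29265 := d1_1 D29272 F62937 (iv D29271)
theorem F62939 : act 1 n29272 = n25596 := d6_1 D29272 F62926 (iv D29269) F52504 D25579
theorem F62940 : act 6 n29272 = n29271 := d14_2 F62915 D29272 (iv F62937)
theorem F62941 : act 3 n29272 = n25598 := d21_1 D29272 (iv F55861) (iv F58689) F58688 F47592 (iv F52513) (iv F62936) (iv D29271)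
theorem F62942 : act 5 n25597 = n29272 := d16_0 F62941 F52552 (iv F52549)
def n29273 : Q := act 5 n25579
theorem D29273 : act 5 n25579 = n29273 := rfl
theorem F62943 : act 1 n29273 = n29249 := d9_1 D29273 F62872 (iv D25565) (iv F41233) D25579
theorem F62944 : act 2 n29273 = n25597 := d13_1 D29273 F62942 (iv D29272)
theorem F62945 : act 3 n29273 = n25581 := d16_1 D29273 (iv D25581) (iv F52511)
theorem F62946 : act 6 n29273 = n25597 := d22_1 D29273 F62942 F62940 (iv D29271)
def n29274 : Q := act 5 n25580
theorem D29274 : act 5 n25580 = n29274 := rfl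
theorem F62947 : act 0 n29274 = n25581 := d4_1 D29274 (iv D25581) D25580
theorem F62948 : act 2 n29274 = n26858 := d13_1 D29274 (iv D26858) (iv F52513)
theorem F62949 : act 4 n29274 = n26543 := d18_1 D29274 (iv D26543) (iv F52514)
theorem F62950 : act 6 n29274 = n25599 := d20_2 F52553 D29274 F52555 F52498 D25581 (iv F52517) (iv F52552)
def n29275 : Q := act 6 n25587
theorem D29275 : act 6 n25587 = n29275 := rfl
theorem F62951 : act 0 n29275 = n29166 := d5_1 D29275 (iv D29166) (iv F52524)
theorem F62952 : act 2 n29275 = n29159 := d14_1 D29275 (iv D29159) (iv F52525)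
theorem F62953 : act 4 n29275 = n25588 := d19_1 D29275 (iv D25588) D25587
def n29276 : Q := act 1 n25588
theorem D29276 : act 1 n25588 = n29276 := rfl
theorem F62954 : act 3 n29276 = n25591 := d7_2 (iv F52528) D29276 (iv D25591)
def n29277 : Q := act 6 n25589
theorem D29277 : act 6 n25589 = n29277 := rfl
theorem F62955 : act 0 n29277 = n27078 := d5_1 D29277 F56623 (iv F52529)
theorem F62956 : act 2 n29277 = n27077 := d14_1 D29277 F56622 (iv F52530)
theorem F62957 : act 3 n29277 = n25590 := d17_1 D29277 (iv D25590) D25589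
def n29278 : Q := act 1 n25590
theorem D29278 : act 1 n25590 = n29278 := rfl
theorem F62958 : act 4 n29278 = n25591 := d8_2 (iv F52532) D29278 (iv D25591)
theorem F62959 : act 6 n29278 = n28133 := d10_2 D25590 D29278 (iv D28133) (iv F61381) F58272
def n29279 : Q := act 5 n25590
theorem D29279 : act 5 n25590 = n29279 := rfl
theorem F62960 : act 0 n29279 = n29255 := d4_1 D29279 (iv F62922) F62918
theorem F62961 : act 2 n29279 = n25594 := d13_1 D29279 (iv D25594) (iv F52531)
theorem F62962 : act 4 n29279 = n25592 := d18_1 D29279 (iv D25592) (iv F52532)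
theorem F62963 : act 6 n29279 = n29251 := d20_2 D25590 D29279 F62876 D29268 F62922 (iv D29255) F52469
def n29280 : Q := act 0 n25591
theorem D29280 : act 0 n25591 = n29280 := rfl
theorem F62964 : act 5 n29280 = n29227 := d22_0 (iv D29227) F58176 F61396 D29280
def n29281 : Q := act 2 n25591
theorem D29281 : act 2 n25591 = n29281 := rfl
theorem F62965 : act 1 n29281 = n25595 := d6_1 D29281 (iv D25595) (iv D21323) (iv F41239) D25591
theorem F62966 : act 5 n29256 = n29281 := d9_0 F62965 F62927 (iv D29269) F52506 D29256
def n29282 : Q := act 5 n25591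
theorem D29282 : act 5 n25591 = n29282 := rfl
theorem F62967 : act 0 n29282 = n29227 := d4_1 D29282 (iv F62964) (iv D29280)
theorem F62968 : act 2 n29282 = n29256 := d13_1 D29282 F62966 (iv D29281)
theorem F62969 : act 6 n29282 = n29225 := d22_3 F58176 F61396 D29282 (iv D29225)
theorem F62970 : act 0 n29256 = n29201 := d1_1 F62968 (iv F62806) (iv F62967)
theorem F62971 : act 1 n29259 = n29282 := d6_5 F62968 (iv D29256) F52470 D25565 D29259
def n29283 : Q := act 1 n25592
theorem D29283 : act 1 n25592 = n29283 := rfl
theorem F62972 : act 2 n29283 = n29249 := d6_2 (iv F52534) D29283 (iv F62943) F62944 (iv D25597)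
theorem F62973 : act 5 n29283 = n29259 := d9_2 D25592 D29283 F62971 (iv D29282) (iv D25591)
theorem F62974 : act 6 n29246 = n29283 := d14_0 F62972 (iv D29249) D29246
def n29284 : Q := act 2 n25593
theorem D29284 : act 2 n25593 = n29284 := rfl
theorem F62975 : act 0 n29284 = n29187 := d1_1 D29284 F62705 F52539
theorem F62976 : act 4 n29284 = n25595 := d12_2 (iv F52537) D29284 (iv D25595)
theorem F62977 : act 6 n29284 = n29284 := d14_2 F52538 D29284 (iv D29284)
def n29285 : Q := act 5 n25593
theorem D29285 : act 5 n25593 = n29285 := rfl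
theorem F62978 : act 0 n29285 = n29189 := d4_1 D29285 (iv D29189) F52539
theorem F62979 : act 3 n29285 = n26544 := d16_1 D29285 (iv D26544) (iv F52536)
theorem F62980 : act 4 n29285 = n25596 := d18_1 D29285 (iv D25596) (iv F52537)
theorem F62981 : act 6 n29285 = n29189 := d22_1 D29285 (iv D29189) F52316 F52539
def n29286 : Q := act 1 n25594
theorem D29286 : act 1 n25594 = n29286 := rfl
theorem F62982 : act 3 n29286 = n26545 := d7_2 (iv F52541) D29286 (iv D26545)
theorem F62983 : act 4 n29286 = n25597 := d8_2 (iv F52542) D29286 (iv D25597)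
def n29287 : Q := act 0 n25597
theorem D29287 : act 0 n25597 = n29287 := rfl
theorem F62984 : act 3 n29287 = n25599 := d2_2 (iv F52549) D29287 (iv D25599)
theorem F62985 : act 5 n29287 = n29265 := d4_2 (iv F62942) D29287 (iv F62938)
def n29288 : Q := act 1 n25599
theorem D29288 : act 1 n25599 = n29288 := rfl
theorem F62986 : act 4 n29288 = n26550 := d8_2 (iv F52554) D29288 (iv D26550)
theorem F62987 : act 5 n29288 = n27974 := d9_2 (iv F52555) D29288 F59179 F48643 D25574
theorem F62988 : act 2 n27975 = n29288 := d23_1 D27975 (iv D29288) (iv D25599) (iv F52552) (iv F55861) F55860 F53233 D25917 F53251 D25918 F53255 (iv D21801) D21800 (iv F44865) (iv F56379) F56381 (iv F59984) F59983 F59174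
def n29289 : Q := act 2 n25599
theorem D29289 : act 2 n25599 = n29289 := rfl
theorem F62989 : act 0 n29289 = n25600 := d1_1 D29289 (iv D25600) D25599
theorem F62990 : act 4 n29289 = n26551 := d12_2 (iv F52554) D29289 (iv D26551)
theorem F62991 : act 5 n29289 = n28465 := d13_2 (iv F52555) D29289 F60656
theorem F62992 : act 6 n29289 = n26858 := d14_2 F62950 D29289 (iv F62948)
theorem F62993 : act 3 n29289 = n28934 := d21_1 D29289 F62110 (iv F60645) F60644 (iv F62945) F62944 F52549 D25599
def n29290 : Q := act 3 n25601
theorem D29290 : act 3 n25601 = n29290 := rfl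
theorem F62994 : act 0 n29290 = n28388 := d2_1 D29290 F60441 (iv F52558)
theorem F62995 : act 1 n29290 = n27272 := d7_1 D29290 (iv D27272) (iv F52559)
theorem F62996 : act 5 n29290 = n27942 := d16_2 (iv F52561) D29290 (iv D27942)
def n29291 : Q := act 1 n25602
theorem D29291 : act 1 n25602 = n29291 := rfl
theorem F62997 : act 0 n29291 = n29291 := d0_1 D29291 (iv D29291) F52562 (iv F46013) (iv F57161) F57162 F57161 F46013 (iv F52562)
theorem F62998 : act 4 n29291 = n29151 := d8_2 (iv F52563) D29291 (iv D29151)
theorem F62999 : act 0 n29151 = n29151 := d3_1 F62998 (iv F62998) F62997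
theorem F63000 : act 0 n28009 = n28009 := d2_3 (iv F62633) F62999 F62633
def n29292 : Q := act 3 n25602
theorem D29292 : act 3 n25602 = n29292 := rfl
theorem F63001 : act 0 n29292 = n25603 := d2_1 D29292 (iv D25603) (iv F52562)
theorem F63002 : act 5 n29292 = n28401 := d16_2 (iv F52564) D29292 (iv D28401)
theorem F63003 : act 6 n29292 = n25614 := d17_2 (iv F52565) D29292 (iv D25614)
def n29293 : Q := act 2 n25603
theorem D29293 : act 2 n25603 = n29293 := rfl
theorem F63004 : act 6 n29293 = n25616 := d14_2 (iv F52566) D29293 (iv D25616)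
def n29294 : Q := act 4 n25603
theorem D29294 : act 4 n25603 = n29294 := rfl
theorem F63005 : act 6 n29294 = n25617 := d19_2 (iv F52566) D29294 (iv D25617)
def n29295 : Q := act 5 n25603
theorem D29295 : act 5 n25603 = n29295 := rfl
theorem F63006 : act 0 n29295 = n28401 := d4_1 D29295 (iv F63002) F63001
theorem F63007 : act 3 n29295 = n25604 := d16_1 D29295 (iv D25604) D25603
def n29296 : Q := act 1 n25604
theorem D29296 : act 1 n25604 = n29296 := rfl
theorem F63008 : act 4 n29296 = n27941 := d8_2 (iv F52569) D29296 (iv D27941)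
def n29297 : Q := act 3 n25605
theorem D29297 : act 3 n25605 = n29297 := rfl
theorem F63009 : act 0 n29297 = n25723 := d2_1 D29297 F52767 (iv F52570)
theorem F63010 : act 1 n29297 = n25705 := d7_1 D29297 F52735 (iv F52571)
theorem F63011 : act 6 n29297 = n25720 := d17_2 (iv F52572) D29297 (iv D25720)
def n29298 : Q := act 0 n25606
theorem D29298 : act 0 n25606 = n29298 := rfl
theorem F63012 : act 1 n29298 = n25611 := d0_2 D25606 D29298 F52580 F41280 F41013 D24672 (iv F50108) (iv D21350) (iv F41273)
theorem F63013 : act 3 n29298 = n25611 := d2_2 (iv F52573) D29298 F52580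
theorem F63014 : act 4 n29298 = n25608 := d3_2 (iv F52574) D29298 (iv D25608)
theorem F63015 : act 5 n29298 = n25608 := d4_2 (iv F52575) D29298 (iv D25608)
theorem F63016 : act 6 n29298 = n28541 := d5_2 (iv F52576) D29298 (iv D28541)
def n29299 : Q := act 2 n25606
theorem D29299 : act 2 n25606 = n29299 := rfl
theorem F63017 : act 1 n29299 = n28849 := d6_1 D29299 F61816 (iv D25890) F41683 D25606
theorem F63018 : act 4 n29299 = n25609 := d12_2 (iv F52574) D29299 (iv D25609)
theorem F63019 : act 5 n29299 = n25609 := d13_2 (iv F52575) D29299 (iv D25609)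
theorem F63020 : act 6 n29299 = n28542 := d14_2 (iv F52576) D29299 (iv D28542)
theorem F63021 : act 3 n28858 = n29299 := d7_0 F63017 F61817 D28858
def n29300 : Q := act 3 n25607
theorem D29300 : act 3 n25607 = n29300 := rfl
theorem F63022 : act 6 n29300 = n25612 := d17_2 (iv F52577) D29300 (iv D25612)
def n29301 : Q := act 2 n25608
theorem D29301 : act 2 n25608 = n29301 := rfl
theorem F63023 : act 0 n29301 = n25609 := d1_1 D29301 (iv D25609) D25608
def n29302 : Q := act 3 n25609
theorem D29302 : act 3 n25609 = n29302 := rfl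
theorem F63024 : act 1 n29302 = n28490 := d7_1 D29302 F60732 F53162
theorem F63025 : act 5 n29302 = n28858 := d16_2 F63019 D29302 F63021
def n29303 : Q := act 1 n25610
theorem D29303 : act 1 n25610 = n29303 := rfl
def n29304 : Q := act 3 n25610
theorem D29304 : act 3 n25610 = n29304 := rfl
theorem F63026 : act 0 n29304 = n25612 := d2_1 D29304 (iv D25612) (iv F52579)
def n29305 : Q := act 5 n25610
theorem D29305 : act 5 n25610 = n29305 := rfl
theorem F63027 : act 0 n29305 = n25613 := d4_1 D29305 (iv D25613) (iv F52579)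
theorem F63028 : act 2 n29305 = n25611 := d13_1 D29305 (iv D25611) D25610
theorem F63029 : act 6 n29305 = n28544 := d20_2 F60879 D29305 F60882 F52577 D25613 (iv F52584) (iv F60878)
def n29306 : Q := act 2 n25612
theorem D29306 : act 2 n25612 = n29306 := rfl
def n29307 : Q := act 4 n25612
theorem D29307 : act 4 n25612 = n29307 := rfl
theorem F63030 : act 1 n29307 = n25617 := d8_1 D29307 (iv D25617) (iv F52582)
def n29308 : Q := act 5 n25612
theorem D29308 : act 5 n25612 = n29308 := rfl
theorem F63031 : act 3 n29308 = n25613 := d16_1 D29308 (iv D25613) D25612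
theorem F63032 : act 6 n27221 = n29308 := d17_0 F63031 (iv F52584) (iv F57054)
def n29309 : Q := act 1 n25613
theorem D29309 : act 1 n25613 = n29309 := rfl
theorem F63033 : act 2 n29309 = n28592 := d6_2 (iv F52583) D29309 (iv D28592) F50226 (iv F41280)
theorem F63034 : act 4 n29309 = n28594 := d8_2 F52645 D29309 F61017
theorem F63035 : act 5 n29309 = n25619 := d9_2 D25613 D29309 (iv D25619) (iv D21344) (iv F41279)
theorem F63036 : act 6 n29309 = n28545 := d10_2 F52584 D29309 (iv D28545) (iv D24679) (iv F50121)
def n29310 : Q := act 4 n25614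
theorem D29310 : act 4 n25614 = n29310 := rfl
theorem F63037 : act 0 n29310 = n25617 := d3_1 D29310 (iv D25617) (iv F52585)
def n29311 : Q := act 5 n25614
theorem D29311 : act 5 n25614 = n29311 := rfl
theorem F63038 : act 0 n29311 = n25618 := d4_1 D29311 (iv D25618) (iv F52585)
theorem F63039 : act 1 n29311 = n25809 := d9_1 D29311 F52957 (iv F51934) D28969 (iv F62224)
theorem F63040 : act 3 n29311 = n25615 := d16_1 D29311 (iv D25615) D25614
theorem F63041 : act 6 n29311 = n29295 := d20_2 F63003 D29311 (iv D29295) F52566 D25618 (iv F60475) (iv F63002)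
def n29312 : Q := act 1 n25616
theorem D29312 : act 1 n25616 = n29312 := rfl
def n29313 : Q := act 4 n25616
theorem D29313 : act 4 n25616 = n29313 := rfl
theorem F63042 : act 2 n29313 = n25617 := d12_1 D29313 (iv D25617) D25616
def n29314 : Q := act 5 n25616
theorem D29314 : act 5 n25616 = n29314 := rfl
theorem F63043 : act 2 n29314 = n25618 := d13_1 D29314 (iv D25618) D25616
theorem F63044 : act 6 n28394 = n29314 := d14_0 F63043 (iv F60475) (iv F60476)
theorem F63045 : act 4 n29314 = n29139 := d19_1 F63044 (iv D29139) (iv F60457)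
theorem F63046 : act 5 n29139 = n29313 := d18_2 D29314 F63045 (iv D29313)
def n29315 : Q := act 5 n25617
theorem D29315 : act 5 n25617 = n29315 := rfl
theorem F63047 : act 2 n29315 = n29139 := d13_1 D29315 F63046 F63042
theorem F63048 : act 3 n29315 = n27986 := d16_1 D29315 (iv F60834) F60833
theorem F63049 : act 4 n29315 = n25618 := d18_1 D29315 (iv D25618) D25617
theorem F63050 : act 6 n28007 = n29315 := d19_0 F63049 (iv F60475) F60474
def n29316 : Q := act 1 n25618
theorem D29316 : act 1 n25618 = n29316 := rfl
theorem F63051 : act 3 n29316 = n25619 := d7_2 (iv F52590) D29316 (iv D25619)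
theorem F63052 : act 6 n29316 = n28967 := d10_2 F60475 D29316 (iv D28967) (iv F60456) (iv F60473)
def n29317 : Q := act 0 n25619
theorem D29317 : act 0 n25619 = n29317 := rfl
theorem F63053 : act 2 n29317 = n29095 := d1_2 (iv F52591) D29317 (iv D29095)
def n29318 : Q := act 6 n25619
theorem D29318 : act 6 n25619 = n29318 := rfl
theorem F63054 : act 1 n29318 = n28968 := d10_1 D29318 F62220 (iv D28400) F49787 D25619
theorem F63055 : act 2 n29318 = n29096 := d14_1 D29318 (iv D29096) (iv F52591)
theorem F63056 : act 3 n29318 = n28967 := d17_1 D29318 (iv F63052) F63051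
def n29319 : Q := act 2 n25622
theorem D29319 : act 2 n25622 = n29319 := rfl
theorem F63057 : act 0 n29319 = n27019 := d1_1 D29319 (iv D27019) F52603
theorem F63058 : act 1 n29319 = n29319 := d6_1 D29319 (iv D29319) (iv D25622) F41298 D25622
theorem F63059 : act 4 n29319 = n27285 := d12_2 (iv F52601) D29319 (iv D27285)
theorem F63060 : act 6 n29319 = n25626 := d14_2 (iv F52602) D29319 (iv D25626)
theorem F63061 : act 0 n29100 = n29100 := d0_5 F63058 F63057 F56422 (iv F52215) D29100 (iv D29100) F52215 (iv F56422) (iv F63057)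
theorem F63062 : act 0 n28079 = n28079 := d2_3 (iv F62548) F63061 F62548
def n29320 : Q := act 2 n25624
theorem D29320 : act 2 n25624 = n29320 := rfl
theorem F63063 : act 0 n29320 = n27287 := d1_1 D29320 F57236 F52612
theorem F63064 : act 1 n29320 = n25628 := d6_1 D29320 (iv D25628) (iv D21350) (iv F41299) D25624
theorem F63065 : act 4 n29320 = n25626 := d12_2 (iv F52610) D29320 (iv D25626)
theorem F63066 : act 6 n29320 = n27285 := d14_2 (iv F52611) D29320 (iv D27285)
def n29321 : Q := act 2 n25625
theorem D29321 : act 2 n25625 = n29321 := rfl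
theorem F63067 : act 0 n29321 = n25626 := d1_1 D29321 (iv D25626) D25625
theorem F63068 : act 4 n29321 = n27287 := d12_2 (iv F52614) D29321 F57236
theorem F63069 : act 5 n29321 = n27207 := d13_2 F52616 D29321 (iv D27207)
theorem F63070 : act 6 n29321 = n27019 := d14_2 (iv F52615) D29321 (iv D27019)
theorem F63071 : act 1 n28788 = n29321 := d10_5 F63070 F56422 F50131 D27945 (iv F61622)
theorem F63072 : act 3 n29321 = n28787 := d7_2 D28788 F63071 (iv D28787)
def n29322 : Q := act 3 n25626
theorem D29322 : act 3 n25626 = n29322 := rfl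
theorem F63073 : act 0 n29322 = n28787 := d2_1 D29322 (iv F63072) F63067
theorem F63074 : act 1 n29322 = n25630 := d7_1 D29322 (iv D25630) (iv F52617)
theorem F63075 : act 5 n28804 = n29322 := d9_0 F63074 (iv F61251) (iv D24897) D24898 D28804
theorem F63076 : act 4 n28799 = n29322 := d3_0 F63073 F61620 D28799
def n29323 : Q := act 5 n25626
theorem D29323 : act 5 n25626 = n29323 := rfl
theorem F63077 : act 0 n29323 = n27207 := d4_1 D29323 (iv F63069) F63067
theorem F63078 : act 1 n29323 = n28803 := d9_1 D29323 (iv D28803) (iv F61238) (iv D25631) (iv F52617)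
theorem F63079 : act 2 n29323 = n25627 := d13_1 D29323 (iv D25627) D25626
theorem F63080 : act 3 n29323 = n28804 := d16_1 D29323 F63075 (iv D29322)
theorem F63081 : act 6 n29323 = n29236 := d22_1 D29323 F62832 (iv F63070) F63067
theorem F63082 : act 1 n25743 = n28672 := d10_3 F63081 F62830 (iv F52821) (iv F61653) (iv F63078)
theorem E10441 : n28743 = n25736 := (c6_4 D25743 F63082 F61228 D28743 F52804 (iv F41458))
theorem F63083 : act 1 n25736 = n24845 := (sb E10441 (iv D28743))
theorem F63084 : act 3 n25736 = n24846 := (sb E10441 F61501)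
theorem F63085 : act 3 n28671 = n25743 := d7_0 F63082 (iv D28672) D28671
theorem F63086 : act 0 n25745 = n28671 := d2_3 F63085 F52820 D25745
theorem F63087 : act 3 n26340 = n28564 := d2_2 F63084 F59255 F60927
theorem E10442 : n28745 = n25735 := (c17_3 D25736 F63084 D28745 (iv D25735))
theorem F63088 : act 2 n25735 = n26045 := (sb E10442 F61505)
theorem F63089 : act 6 n25735 = n24846 := (sb E10442 (iv D28745))
theorem F63090 : act 2 n26039 = n25700 := d21_4 (iv F52804) F63084 F50488 (iv F53539) F52720 F41387 (iv F50166) F50165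
theorem F63091 : act 6 n25699 = n26039 := d14_0 F63090 (iv D25700) D25699
theorem F63092 : act 3 n26045 = n25699 := d17_3 F63091 F53539 D26045
theorem F63093 : act 6 n26340 = n28563 := d5_2 F63089 F59255 F60925
theorem F63094 : act 4 n28563 = n29003 := d19_1 F63093 (iv F62441) (iv F62455)
theorem F63095 : act 3 n28306 = n28561 := d15_3 F63094 (iv D29003) (iv F60237) F60919 D28563
theorem F63096 : act 1 n28564 = n26335 := d7_1 F63087 F54272 D26340
def n29324 : Q := act 3 n25628
theorem D29324 : act 3 n25628 = n29324 := rfl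
theorem F63097 : act 0 n29324 = n28309 := d2_1 D29324 (iv F62488) F60856
theorem F63098 : act 6 n29324 = n29324 := d17_2 F52622 D29324 (iv D29324)
theorem F63099 : act 2 n29324 = n28308 := d21_6 D28309 (iv F62488) (iv D28536) F50105 D25628 D29324 F60243 (iv D28308)
theorem F63100 : act 4 n29004 = n29324 := d12_0 F63099 F60244 D29004
def n29325 : Q := act 5 n25628
theorem D29325 : act 5 n25628 = n29325 := rfl
theorem F63101 : act 2 n29325 = n25629 := d13_1 D29325 (iv D25629) D25628
theorem F63102 : act 4 n29325 = n25631 := d18_1 D29325 (iv D25631) (iv F52621)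
theorem F63103 : act 1 n28802 = n29325 := d8_3 F63102 F61238 (iv F61649)
def n29326 : Q := act 4 n25630
theorem D29326 : act 4 n25630 = n29326 := rfl
theorem F63104 : act 0 n29326 = n29005 := d3_1 D29326 F62487 F60863
theorem F63105 : act 1 n29326 = n28799 := d8_1 D29326 F63076 F63074
theorem F63106 : act 3 n29326 = n29004 := d15_1 D29326 F63100 (iv D29324) F52621 D25630
theorem F63107 : act 5 n29326 = n28792 := d18_2 F61251 D29326 F61631
theorem F63108 : act 6 n29326 = n29326 := d19_2 F52625 D29326 (iv D29326)
def n29327 : Q := act 3 n25632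
theorem D29327 : act 3 n25632 = n29327 := rfl
theorem F63109 : act 5 n29327 = n28614 := d16_2 F52637 D29327 (iv F61252)
theorem F63110 : act 6 n29327 = n28523 := d17_2 (iv F52628) D29327 (iv D28523)
def n29328 : Q := act 1 n25633
theorem D29328 : act 1 n25633 = n29328 := rfl
theorem F63111 : act 2 n29328 = n25652 := d6_2 D25633 D29328 (iv D25652) (iv D21370) (iv F41316)
theorem F63112 : act 5 n26806 = n29328 := d13_0 F63111 (iv F61767) (iv F55696)
theorem F63113 : act 3 n26775 = n29328 := d21_1 D26775 F63111 (iv F53296) F61749 F42089 (iv F43369) (iv F55327) F55326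
def n29329 : Q := act 3 n25633
theorem D29329 : act 3 n25633 = n29329 := rfl
theorem F63114 : act 0 n29329 = n26276 := d2_1 D29329 F61249 F52941
theorem F63115 : act 1 n29329 = n26775 := d7_1 D29329 F63113 (iv D29328)
theorem F63116 : act 2 n29329 = n28538 := d11_1 D29329 (iv D28538) (iv D24673) F38430 (iv F28083) (iv F41525) D25803 (iv F61249) (iv F61250) (iv D25630) (iv D21352) F27984 D16174 D21358 D25633
theorem F63117 : act 6 n29329 = n29329 := d17_2 F52629 D29329 (iv D29329)
theorem F63118 : act 5 n26266 = n29329 := d22_2 (iv D26276) (iv F54121) F63117 F63114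
def n29330 : Q := act 4 n25633
theorem D29330 : act 4 n25633 = n29330 := rfl
theorem F63119 : act 2 n29330 = n25634 := d12_1 D29330 (iv D25634) D25633
theorem F63120 : act 6 n29330 = n29330 := d19_2 F52629 D29330 (iv D29330)
def n29331 : Q := act 5 n25633
theorem D29331 : act 5 n25633 = n29331 := rfl
theorem F63121 : act 0 n29331 = n26270 := d4_1 D29331 (iv F61248) F52941
theorem F63122 : act 2 n29331 = n25635 := d13_1 D29331 (iv D25635) D25633
theorem F63123 : act 3 n29331 = n26266 := d16_1 D29331 F63118 (iv D29329)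
theorem F63124 : act 6 n29331 = n26270 := d22_1 D29331 (iv F61248) F52942 F52941
theorem F63125 : act 1 n26261 = n29331 := d10_5 F63124 (iv D26270) (iv D21780) (iv F42203) D26261
def n29332 : Q := act 5 n25634
theorem D29332 : act 5 n25634 = n29332 := rfl
theorem F63126 : act 4 n29332 = n25635 := d18_1 D29332 (iv D25635) D25634
def n29333 : Q := act 1 n25635
theorem D29333 : act 1 n25635 = n29333 := rfl
theorem F63127 : act 3 n29333 = n25636 := d7_2 (iv F52632) D29333 (iv D25636)
theorem F63128 : act 5 n29333 = n25656 := d9_2 D25635 D29333 (iv D25656) (iv D21372) (iv F41316)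
def n29334 : Q := act 2 n25636
theorem D29334 : act 2 n25636 = n29334 := rfl
theorem F63129 : act 1 n29334 = n25637 := d6_1 D29334 (iv D25637) (iv D21360) (iv F41318) D25636
theorem F63130 : act 5 n29334 = n25658 := d13_2 (iv F52633) D29334 (iv D25658)
def n29335 : Q := act 3 n25637
theorem D29335 : act 3 n25637 = n29335 := rfl
theorem F63131 : act 0 n29335 = n29327 := d2_1 D29335 (iv D29327) (iv F52634)
theorem F63132 : act 5 n29335 = n25640 := d16_2 (iv F52635) D29335 (iv D25640)
def n29336 : Q := act 6 n25638
theorem D29336 : act 6 n25638 = n29336 := rfl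
theorem F63133 : act 0 n29336 = n25641 := d5_1 D29336 (iv D25641) (iv F52636)
theorem F63134 : act 2 n29336 = n25639 := d14_1 D29336 (iv D25639) D25638
theorem F63135 : act 4 n29336 = n29305 := d19_1 D29336 F63029 F60881
theorem F63136 : act 5 n29336 = n28522 := d20_1 D29336 F60830 F52635 D25641 F52646 (iv F52628) (iv F52637)
def n29337 : Q := act 2 n25640
theorem D29337 : act 2 n25640 = n29337 := rfl
theorem F63137 : act 1 n29337 = n28854 := d6_1 D29337 F61835 (iv F53353) (iv D25666) (iv F52643)
theorem F63138 : act 4 n28858 = n29337 := d8_0 F63137 F61836 D28858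
def n29338 : Q := act 4 n25640
theorem D29338 : act 4 n25640 = n29338 := rfl
theorem F63139 : act 1 n29338 = n25667 := d8_1 D29338 (iv D25667) (iv F52643)
theorem F63140 : act 2 n29338 = n28858 := d12_1 D29338 F63138 (iv D29337)
def n29339 : Q := act 6 n25640
theorem D29339 : act 6 n25640 = n29339 := rfl
theorem F63141 : act 3 n29339 = n25641 := d17_1 D29339 (iv D25641) D25640
theorem F63142 : act 5 n29339 = n28523 := d22_2 F63132 D29339 (iv F63110) (iv F63131)
def n29340 : Q := act 3 n25642
theorem D29340 : act 3 n25642 = n29340 := rfl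
theorem F63143 : act 0 n29340 = n25644 := d2_1 D29340 (iv D25644) (iv F52647)
theorem F63144 : act 1 n29340 = n28010 := d7_1 D29340 F59297 (iv F52648)
theorem F63145 : act 5 n29340 = n28298 := d16_2 (iv F52650) D29340 (iv D28298)
def n29341 : Q := act 0 n25643
theorem D29341 : act 0 n25643 = n29341 := rfl
theorem F63146 : act 2 n29341 = n25647 := d1_2 (iv F52651) D29341 (iv D25647)
theorem F63147 : act 6 n29334 = n29341 := d14_0 F63146 (iv F52728) D29334
def n29342 : Q := act 3 n25643
theorem D29342 : act 3 n25643 = n29342 := rfl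
theorem F63148 : act 1 n29342 = n25644 := d7_1 D29342 (iv D25644) D25643
def n29343 : Q := act 5 n25643
theorem D29343 : act 5 n25643 = n29343 := rfl
theorem F63149 : act 2 n29343 = n25649 := d13_1 D29343 (iv D25649) (iv F52651)
theorem F63150 : act 6 n29343 = n25658 := d22_1 D29343 (iv F63130) F63147 (iv D29341)
def n29344 : Q := act 6 n25643
theorem D29344 : act 6 n25643 = n29344 := rfl
theorem F63151 : act 0 n29344 = n29334 := d5_1 D29344 F63147 (iv D29341)
theorem F63152 : act 1 n29344 = n28916 := d10_1 D29344 F62046 F57287 (iv D25646) D25643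
theorem F63153 : act 2 n29344 = n25650 := d14_1 D29344 (iv D25650) (iv F52651)
def n29345 : Q := act 2 n25644
theorem D29345 : act 2 n25644 = n29345 := rfl
def n29346 : Q := act 4 n25644
theorem D29346 : act 4 n25644 = n29346 := rfl
def n29347 : Q := act 5 n25644
theorem D29347 : act 5 n25644 = n29347 := rfl
theorem F63154 : act 0 n29347 = n28298 := d4_1 D29347 (iv F63145) F63143
theorem F63155 : act 3 n29347 = n25645 := d16_1 D29347 (iv D25645) D25644
theorem F63156 : act 4 n28006 = n29347 := d15_0 F63155 F52654 D28968 (iv F62632) F62631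
theorem F63157 : act 6 n28004 = n29347 := d17_0 F63155 (iv F52655) F59287
theorem F63158 : act 2 n28105 = n29347 := d21_2 (iv F57914) (iv F59572) F63155 F52653 F41338 (iv F41731) (iv F53273) F53272
theorem F63159 : act 5 n29345 = n28105 := d13_0 F63158 (iv D29347) D29345
theorem F63160 : act 4 n28107 = n29345 := d18_3 F63159 F59573 D28107
theorem F63161 : act 2 n29346 = n28107 := d12_3 F63160 (iv D29345) D29346
theorem F63162 : act 5 n28006 = n29346 := d13_0 F63161 (iv D28107) (iv F59289)
def n29348 : Q := act 6 n25644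
theorem D29348 : act 6 n25644 = n29348 := rfl
theorem F63163 : act 3 n29348 = n25646 := d17_1 D29348 (iv D25646) D25644
def n29349 : Q := act 1 n25645
theorem D29349 : act 1 n25645 = n29349 := rfl
theorem F63164 : act 4 n29349 = n28967 := d8_2 (iv F52654) D29349 (iv D28967)
def n29350 : Q := act 3 n25647
theorem D29350 : act 3 n25647 = n29350 := rfl
theorem F63165 : act 0 n29350 = n25648 := d2_1 D29350 (iv D25648) D25647
theorem F63166 : act 6 n29350 = n29333 := d17_2 F52728 D29350 F63127
def n29351 : Q := act 5 n25647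
theorem D29351 : act 5 n25647 = n29351 := rfl
theorem F63167 : act 0 n29351 = n25649 := d4_1 D29351 (iv D25649) D25647
theorem F63168 : act 6 n29351 = n25657 := d20_2 F52728 D29351 F52729 (iv D25650) D25649 F52725 (iv F52633)
def n29352 : Q := act 2 n25648
theorem D29352 : act 2 n25648 = n29352 := rfl
def n29353 : Q := act 4 n25648
theorem D29353 : act 4 n25648 = n29353 := rfl
theorem F63169 : act 1 n29353 = n25651 := d8_1 D29353 (iv D25651) (iv F52657)
def n29354 : Q := act 5 n25648
theorem D29354 : act 5 n25648 = n29354 := rfl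
theorem F63170 : act 3 n29354 = n25649 := d16_1 D29354 (iv D25649) D25648
theorem F63171 : act 6 n29354 = n25656 := d22_1 D29354 (iv F63128) (iv F63166) F63165
def n29355 : Q := act 6 n25648
theorem D29355 : act 6 n25648 = n29355 := rfl
theorem F63172 : act 0 n29355 = n29333 := d5_1 D29355 (iv F63166) F63165
theorem F63173 : act 1 n29355 = n25679 := d10_1 D29355 (iv D25679) F41373 (iv F41344) (iv F52657)
theorem F63174 : act 3 n29355 = n25650 := d17_1 D29355 (iv D25650) D25648
def n29356 : Q := act 4 n25652
theorem D29356 : act 4 n25652 = n29356 := rfl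
theorem F63175 : act 1 n29356 = n25653 := d8_1 D29356 (iv D25653) D25652
theorem F63176 : act 3 n29356 = n25758 := d15_1 D29356 (iv D25758) (iv F42087) (iv F61750) F53296
theorem F63177 : act 5 n29356 = n25797 := d18_2 F61767 D29356 (iv F54081)
def n29357 : Q := act 6 n25652
theorem D29357 : act 6 n25652 = n29357 := rfl
theorem F63178 : act 1 n29357 = n25692 := d10_1 D29357 (iv D25692) (iv D21392) (iv F41345) D25652
theorem F63179 : act 3 n29357 = n26274 := d17_1 D29357 (iv F61752) F53296
theorem F63180 : act 5 n29357 = n26272 := d22_2 F61767 D29357 (iv D26272) (iv F54080)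
def n29358 : Q := act 3 n25653
theorem D29358 : act 3 n25653 = n29358 := rfl
theorem F63181 : act 1 n29358 = n25758 := d7_1 D29358 (iv F63176) F63175
theorem F63182 : act 4 n29358 = n25757 := d15_2 D25653 D29358 (iv F61757) (iv D25937) F41746
theorem F63183 : act 6 n29358 = n25693 := d17_2 (iv F52662) D29358 (iv D25693)
def n29359 : Q := act 5 n25653
theorem D29359 : act 5 n25653 = n29359 := rfl
theorem F63184 : act 2 n29359 = n25655 := d13_1 D29359 (iv D25655) (iv F52661)
theorem F63185 : act 4 n29359 = n25654 := d18_1 D29359 (iv D25654) D25653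
theorem F63186 : act 6 n29359 = n26038 := d22_1 D29359 (iv D26038) (iv F53306) F53304
def n29360 : Q := act 1 n25654
theorem D29360 : act 1 n25654 = n29360 := rfl
theorem F63187 : act 3 n29360 = n26046 := d7_2 (iv F52664) D29360 (iv D26046)
def n29361 : Q := act 1 n25655
theorem D29361 : act 1 n25655 = n29361 := rfl
theorem F63188 : act 4 n29361 = n25656 := d8_2 (iv F52666) D29361 (iv D25656)
def n29362 : Q := act 0 n25656
theorem D29362 : act 0 n25656 = n29362 := rfl
theorem F63189 : act 3 n29362 = n25657 := d2_2 (iv F52667) D29362 (iv D25657)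
theorem F63190 : act 5 n29362 = n29355 := d4_2 F63128 D29362 F63172
def n29363 : Q := act 2 n25656
theorem D29363 : act 2 n25656 = n29363 := rfl
def n29364 : Q := act 1 n25657
theorem D29364 : act 1 n25657 = n29364 := rfl
def n29365 : Q := act 2 n25657
theorem D29365 : act 2 n25657 = n29365 := rfl
theorem F63191 : act 0 n29365 = n25658 := d1_1 D29365 (iv D25658) D25657
theorem F63192 : act 5 n29365 = n29344 := d13_2 (iv F52729) D29365 F63153
def n29366 : Q := act 3 n25658
theorem D29366 : act 3 n25658 = n29366 := rfl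
theorem F63193 : act 1 n29366 = n25661 := d7_1 D29366 (iv D25661) (iv F52668)
def n29367 : Q := act 1 n25660
theorem D29367 : act 1 n25660 = n29367 := rfl
theorem F63194 : act 2 n29367 = n29131 := d6_2 D25660 D29367 (iv D29131) F52241 F41350
theorem F63195 : act 4 n29367 = n29311 := d8_2 F52956 D29367 F63039
theorem F63196 : act 0 n29315 = n29367 := d3_3 F63195 F63038 (iv F63049)
theorem F63197 : act 5 n29310 = n29367 := d18_0 F63195 (iv D29311) D29310
def n29368 : Q := act 3 n25660
theorem D29368 : act 3 n25660 = n29368 := rfl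
theorem F63198 : act 0 n29368 = n25661 := d2_1 D29368 (iv D25661) (iv F52669)
theorem F63199 : act 2 n29368 = n27576 := d11_1 D29368 F57983 (iv F46644) (iv D21573) (iv D16313) (iv F27998) D21375 D25661 F61581 F61577 F53342 (iv D25957) (iv D21572) (iv F41348) D25660
theorem F63200 : act 5 n29368 = n25664 := d16_2 (iv F52670) D29368 (iv D25664)
theorem F63201 : act 6 n29368 = n28619 := d17_2 F52683 D29368 F61075
def n29369 : Q := act 6 n25661
theorem D29369 : act 6 n25661 = n29369 := rfl
theorem F63202 : act 0 n29369 = n28619 := d5_1 D29369 (iv F63201) F63198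
theorem F63203 : act 3 n29369 = n25662 := d17_1 D29369 (iv D25662) D25661
def n29370 : Q := act 1 n25662
theorem D29370 : act 1 n25662 = n29370 := rfl
theorem F63204 : act 2 n29370 = n28982 := d6_2 (iv F52672) D29370 (iv D28982) (iv D25320) (iv F41352)
def n29371 : Q := act 3 n25663
theorem D29371 : act 3 n25663 = n29371 := rfl
theorem F63205 : act 0 n29371 = n28006 := d2_1 D29371 (iv F62631) F62629
theorem F63206 : act 1 n29371 = n25664 := d7_1 D29371 (iv D25664) D25663
theorem F63207 : act 4 n29371 = n28298 := d15_2 (iv F52673) D29371 (iv D28298) F49600 D25309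
theorem F63208 : act 6 n29371 = n28003 := d17_2 (iv F62626) D29371 (iv F62624)
theorem F63209 : act 2 n28103 = n29371 := d14_3 F63208 F59284 D28103
def n29372 : Q := act 5 n25663
theorem D29372 : act 5 n25663 = n29372 := rfl
theorem F63210 : act 1 n29372 = n29310 := d9_1 D29372 F63197 (iv D29367) F52670 D25663
theorem F63211 : act 2 n29372 = n29156 := d13_1 D29372 F62639 F60318
theorem F63212 : act 4 n29372 = n28969 := d18_1 D29372 (iv D28969) (iv F52673)
theorem F63213 : act 6 n29372 = n29149 := d22_1 D29372 (iv D29149) D29150 F62629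
def n29373 : Q := act 6 n25664
theorem D29373 : act 6 n25664 = n29373 := rfl
theorem F63214 : act 0 n29373 = n25668 := d5_1 D29373 (iv D25668) (iv F52674)
theorem F63215 : act 3 n29373 = n25665 := d17_1 D29373 (iv D25665) D25664
theorem F63216 : act 5 n29373 = n29369 := d20_1 D29373 (iv D29369) F52671 D25668 (iv F61076) (iv F63201) F63200
def n29374 : Q := act 1 n25665
theorem D29374 : act 1 n25665 = n29374 := rfl
theorem F63217 : act 2 n29374 = n28386 := d6_2 (iv F52676) D29374 (iv D28386) F49747 (iv F41356)
theorem F63218 : act 4 n29374 = n29127 := d8_2 (iv F52677) D29374 F62589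
def n29375 : Q := act 6 n25666
theorem D29375 : act 6 n25666 = n29375 := rfl
theorem F63219 : act 2 n29375 = n25668 := d14_1 D29375 (iv D25668) D25666
theorem F63220 : act 4 n29375 = n28864 := d19_1 D29375 (iv D28864) F53354
def n29376 : Q := act 6 n25667
theorem D29376 : act 6 n25667 = n29376 := rfl
theorem F63221 : act 2 n29376 = n28864 := d14_1 D29376 (iv D28864) (iv F53355)
theorem F63222 : act 4 n29376 = n25668 := d19_1 D29376 (iv D25668) D25667
theorem F63223 : act 5 n28893 = n29376 := d18_0 F63222 (iv F61076) (iv F61970)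
def n29377 : Q := act 0 n25669
theorem D29377 : act 0 n25669 = n29377 := rfl
theorem F63224 : act 2 n29377 = n29079 := d1_2 (iv F52680) D29377 (iv D29079)
def n29378 : Q := act 3 n25671
theorem D29378 : act 3 n25671 = n29378 := rfl
theorem F63225 : act 5 n29378 = n25688 := d16_2 (iv F52684) D29378 (iv D25688)
theorem F63226 : act 6 n29378 = n28981 := d17_2 (iv F52685) D29378 (iv D28981)
def n29379 : Q := act 3 n25672
theorem D29379 : act 3 n25672 = n29379 := rfl
theorem F63227 : act 0 n29379 = n29379 := d2_1 D29379 (iv D29379) F52686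
theorem F63228 : act 1 n29379 = n25673 := d7_1 D29379 (iv D25673) D25672
def n29380 : Q := act 2 n25673
theorem D29380 : act 2 n25673 = n29380 := rfl
theorem F63229 : act 0 n29380 = n25676 := d1_1 D29380 (iv D25676) (iv F52687)
theorem F63230 : act 3 n29380 = n26264 := d21_1 D29380 F54117 F42471 (iv D18894) (iv F33659) (iv F37348) D21385 (iv F52687)
theorem F63231 : act 6 n26262 = n29380 := d17_0 F63230 (iv D26264) D26262
def n29381 : Q := act 4 n25673
theorem D29381 : act 4 n25673 = n29381 := rfl
theorem F63232 : act 0 n29381 = n25677 := d3_1 D29381 (iv D25677) (iv F52687)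
def n29382 : Q := act 5 n25673
theorem D29382 : act 5 n25673 = n29382 := rfl
theorem F63233 : act 0 n29382 = n25678 := d4_1 D29382 (iv D25678) (iv F52687)
theorem F63234 : act 3 n29382 = n25674 := d16_1 D29382 (iv D25674) D25673
def n29383 : Q := act 6 n25673
theorem D29383 : act 6 n25673 = n29383 := rfl
theorem F63235 : act 0 n29383 = n25679 := d5_1 D29383 (iv D25679) (iv F52687)
theorem F63236 : act 2 n29383 = n26262 := d14_1 D29383 F63231 (iv D29380)
theorem F63237 : act 3 n29383 = n25675 := d17_1 D29383 (iv D25675) D25673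
def n29384 : Q := act 3 n25676
theorem D29384 : act 3 n25676 = n29384 := rfl
theorem F63238 : act 0 n29384 = n26264 := d2_1 D29384 (iv F63230) F63229
theorem F63239 : act 1 n29384 = n28109 := d7_1 D29384 F59581 F53519
theorem F63240 : act 2 n29384 = n26433 := d11_1 D29384 F54499 F45456 (iv F46064) F46063 D25673 D29380 F63230 F54117 F42471 (iv D18894) (iv F33659) (iv F37348) D21385 D25676
theorem F63241 : act 4 n26257 = n29384 := d12_0 F63240 F54500 (iv F54109)
theorem F63242 : act 6 n26255 = n29384 := d14_0 F63240 (iv D26433) (iv F54105)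
def n29385 : Q := act 4 n25676
theorem D29385 : act 4 n25676 = n29385 := rfl
theorem F63243 : act 2 n29385 = n25677 := d12_1 D29385 (iv D25677) D25676
def n29386 : Q := act 5 n25676
theorem D29386 : act 5 n25676 = n29386 := rfl
theorem F63244 : act 2 n29386 = n25678 := d13_1 D29386 (iv D25678) D25676
def n29387 : Q := act 6 n25676
theorem D29387 : act 6 n25676 = n29387 := rfl
theorem F63245 : act 0 n29387 = n26262 := d5_1 D29387 F63231 F63229
theorem F63246 : act 2 n29387 = n25679 := d14_1 D29387 (iv D25679) D25676
theorem F63247 : act 3 n29387 = n26255 := d17_1 D29387 F63242 (iv D29384)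
def n29388 : Q := act 5 n25677
theorem D29388 : act 5 n25677 = n29388 := rfl
theorem F63248 : act 4 n29388 = n25678 := d18_1 D29388 (iv D25678) D25677
def n29389 : Q := act 6 n25677
theorem D29389 : act 6 n25677 = n29389 := rfl
theorem F63249 : act 4 n29389 = n25679 := d19_1 D29389 (iv D25679) D25677
def n29390 : Q := act 1 n25678
theorem D29390 : act 1 n25678 = n29390 := rfl
theorem F63250 : act 3 n29390 = n25680 := d7_2 (iv F52691) D29390 (iv D25680)
theorem F63251 : act 5 n29390 = n25684 := d9_2 D25678 D29390 (iv D25684) (iv D21389) (iv F41373)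
def n29391 : Q := act 6 n25678
theorem D29391 : act 6 n25678 = n29391 := rfl
theorem F63252 : act 3 n29391 = n25681 := d17_1 D29391 (iv D25681) (iv F52691)
theorem F63253 : act 5 n29391 = n29383 := d22_2 D25678 D29391 (iv D29383) F52687
def n29392 : Q := act 5 n25679
theorem D29392 : act 5 n25679 = n29392 := rfl
theorem F63254 : act 0 n29392 = n29391 := d4_1 D29392 F63253 F63235
theorem F63255 : act 3 n29392 = n25682 := d16_1 D29392 (iv D25682) (iv F52692)
theorem F63256 : act 6 n29392 = n29382 := d20_2 D25679 D29392 (iv D29382) D29383 (iv F63253) (iv D29391) (iv D25678)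
def n29393 : Q := act 2 n25680
theorem D29393 : act 2 n25680 = n29393 := rfl
theorem F63257 : act 5 n29393 = n25686 := d13_2 (iv F52693) D29393 (iv D25686)
def n29394 : Q := act 1 n25681
theorem D29394 : act 1 n25681 = n29394 := rfl
def n29395 : Q := act 1 n25682
theorem D29395 : act 1 n25682 = n29395 := rfl
theorem F63258 : act 5 n29395 = n29364 := d9_2 D25682 D29395 (iv D29364) F52729 F52658
def n29396 : Q := act 1 n25683
theorem D29396 : act 1 n25683 = n29396 := rfl
theorem F63259 : act 4 n29396 = n25684 := d8_2 (iv F52698) D29396 (iv D25684)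
def n29397 : Q := act 0 n25684
theorem D29397 : act 0 n25684 = n29397 := rfl
theorem F63260 : act 3 n29397 = n25685 := d2_2 (iv F52700) D29397 (iv D25685)
def n29398 : Q := act 2 n25684
theorem D29398 : act 2 n25684 = n29398 := rfl
theorem F63261 : act 1 n29398 = n25700 := d6_1 D29398 (iv F63090) (iv D26039) F41862 D25684
theorem F63262 : act 3 n25702 = n29398 := d7_0 F63261 F52720 D25702
theorem F63263 : act 6 n25701 = n29398 := d10_0 F63261 (iv D25700) (iv D21396) D21397 D25701
theorem F63264 : act 0 n29398 = n29390 := d2_1 F63262 F63250 (iv F52727)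
theorem F63265 : act 5 n29398 = n29397 := d16_2 F52726 F63262 F63260
theorem F63266 : act 2 n29397 = n29390 := d13_1 F63265 F63251 D29398
def n29399 : Q := act 6 n25684
theorem D29399 : act 6 n25684 = n29399 := rfl
theorem F63267 : act 1 n29399 = n29354 := d10_1 D29399 F63171 (iv D25656) (iv F41377) D25684
theorem F63268 : act 2 n29399 = n25701 := d14_1 D29399 F63263 (iv D29398)
theorem F63269 : act 3 n29399 = n25687 := d17_1 D29399 (iv D25687) (iv F52700)
theorem F63270 : act 5 n29399 = n25701 := d22_2 F63251 D29399 F63263 F63264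
def n29400 : Q := act 2 n25685
theorem D29400 : act 2 n25685 = n29400 := rfl
theorem F63271 : act 0 n29400 = n25686 := d1_1 D29400 (iv D25686) D25685
def n29401 : Q := act 6 n25685
theorem D29401 : act 6 n25685 = n29401 := rfl
theorem F63272 : act 0 n29401 = n25687 := d5_1 D29401 (iv D25687) D25685
theorem F63273 : act 5 n29401 = n25703 := d20_1 D29401 F52731 F52693 D25687 (iv F52723) (iv F52722) (iv F52726)
def n29402 : Q := act 3 n25686
theorem D29402 : act 3 n25686 = n29402 := rfl
theorem F63274 : act 1 n29402 = n25688 := d7_1 D29402 (iv D25688) (iv F52701)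
def n29403 : Q := act 6 n25686
theorem D29403 : act 6 n25686 = n29403 := rfl
theorem F63275 : act 2 n29403 = n25687 := d14_1 D29403 (iv D25687) D25686
theorem F63276 : act 5 n25704 = n29403 := d13_0 F63275 (iv F52723) D25704
def n29404 : Q := act 2 n25688
theorem D29404 : act 2 n25688 = n29404 := rfl
theorem F63277 : act 0 n29404 = n29026 := d1_1 D29404 F62349 F62261
theorem F63278 : act 3 n29404 = n28996 := d11_2 D25688 D29404 F62293 F51980 F40766 (iv F40739) (iv F51963) (iv F62262) (iv F62349) F62350 (iv D26020) (iv D21614) (iv D16337) (iv F28010) D21391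
theorem F63279 : act 6 n29404 = n28375 := d14_2 F62259 D29404 (iv F62260)
theorem F63280 : act 4 n29106 = n29404 := d19_3 F63279 F60406 D29106
def n29405 : Q := act 4 n25688
theorem D29405 : act 4 n25688 = n29405 := rfl
theorem F63281 : act 2 n29405 = n29106 := d12_1 D29405 F63280 (iv D29404)
theorem F63282 : act 6 n29405 = n29098 := d19_2 F62259 D29405 F62545
def n29406 : Q := act 1 n25689
theorem D29406 : act 1 n25689 = n29406 := rfl
def n29407 : Q := act 4 n25689
theorem D29407 : act 4 n25689 = n29407 := rfl
theorem F63283 : act 0 n29407 = n25690 := d3_1 D29407 (iv D25690) D25689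
theorem F63284 : act 2 n29407 = n29407 := d12_1 D29407 (iv D29407) F52703
def n29408 : Q := act 5 n25689
theorem D29408 : act 5 n25689 = n29408 := rfl
theorem F63285 : act 0 n29408 = n25691 := d4_1 D29408 (iv D25691) D25689
theorem F63286 : act 2 n29408 = n29408 := d13_1 D29408 (iv D29408) F52703
theorem F63287 : act 1 n29408 = n29408 := d23_2 D29408 F63286 F63285 (iv D25691) F41378 (iv D21392) (iv F28290) D21621 F41862 D25684 D29397 (iv F63265) (iv D29398) (iv D25684) F41375 (iv D16195) D16193 D21392 D25689
theorem F63288 : act 5 n29406 = n29406 := d9_2 (iv D29408) D29406 (iv D29406) D29408 F63287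
def n29409 : Q := act 6 n25689
theorem D29409 : act 6 n25689 = n29409 := rfl
theorem F63289 : act 0 n29409 = n25692 := d5_1 D29409 (iv D25692) D25689
def n29410 : Q := act 3 n25690
theorem D29410 : act 3 n25690 = n29410 := rfl
theorem F63291 : act 1 n29410 = n25693 := d7_1 D29410 (iv D25693) (iv F52704)
def n29411 : Q := act 5 n25690
theorem D29411 : act 5 n25690 = n29411 := rfl
theorem F63292 : act 2 n29411 = n29411 := d13_1 D29411 (iv D29411) F52705
theorem F63293 : act 4 n29411 = n25691 := d18_1 D29411 (iv D25691) D25690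
def n29412 : Q := act 6 n25690
theorem D29412 : act 6 n25690 = n29412 := rfl
theorem F63294 : act 2 n29412 = n29412 := d14_1 D29412 (iv D29412) F52705
theorem F63295 : act 4 n29412 = n25692 := d19_1 D29412 (iv D25692) D25690
def n29413 : Q := act 1 n25691
theorem D29413 : act 1 n25691 = n29413 := rfl
theorem F63296 : act 5 n29413 = n25695 := d9_2 D25691 D29413 (iv D25695) (iv D21394) D21392
def n29414 : Q := act 6 n25691
theorem D29414 : act 6 n25691 = n29414 := rfl
theorem F63298 : act 5 n29414 = n29409 := d22_2 D25691 D29414 (iv D29409) (iv D25689)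
def n29415 : Q := act 5 n25692
theorem D29415 : act 5 n25692 = n29415 := rfl
theorem F63301 : act 6 n29415 = n29408 := d20_2 D25692 D29415 (iv D29408) D29409 (iv F63298) (iv D29414) (iv D25691)
def n29416 : Q := act 2 n25693
theorem D29416 : act 2 n25693 = n29416 := rfl
theorem F63302 : act 4 n29416 = n26699 := d12_2 F53490 D29416 F55330
def n29417 : Q := act 5 n25693
theorem D29417 : act 5 n25693 = n29417 := rfl
theorem F63303 : act 3 n29417 = n25694 := d16_1 D29417 (iv D25694) D25693
def n29418 : Q := act 1 n25694
theorem D29418 : act 1 n25694 = n29418 := rfl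
theorem F63304 : act 4 n29418 = n25695 := d8_2 (iv F52709) D29418 (iv D25695)
def n29419 : Q := act 6 n25694
theorem D29419 : act 6 n25694 = n29419 := rfl
theorem F63305 : act 0 n29419 = n29359 := d5_1 D29419 F63186 F53536
theorem F63306 : act 2 n29419 = n25698 := d14_1 D29419 (iv D25698) (iv F52708)
theorem F63307 : act 4 n29419 = n25696 := d19_1 D29419 (iv D25696) (iv F52709)
theorem F63308 : act 5 n29419 = n25943 := d20_1 D29419 F53306 D26038 (iv F63186) (iv D29359) F52662 D25694
def n29420 : Q := act 0 n25695
theorem D29420 : act 0 n25695 = n29420 := rfl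
theorem F63309 : act 3 n29420 = n28136 := d2_2 F53495 D29420 F59647
def n29421 : Q := act 2 n25695
theorem D29421 : act 2 n25695 = n29421 := rfl
theorem F63310 : act 1 n29421 = n25699 := d6_1 D29421 (iv D25699) (iv D21396) (iv F41380) D25695
theorem F63311 : act 6 n29360 = n29421 := d10_0 F63310 F63091 (iv D26039) (iv F52665) D29360
def n29422 : Q := act 6 n25695
theorem D29422 : act 6 n25695 = n29422 := rfl
theorem F63312 : act 2 n29422 = n29360 := d14_1 D29422 F63311 (iv D29421)
theorem F63313 : act 1 n29363 = n29422 := d6_5 F63312 (iv D29360) F52663 D25656 D29363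
def n29423 : Q := act 1 n25696
theorem D29423 : act 1 n25696 = n29423 := rfl
theorem F63314 : act 2 n29423 = n29354 := d6_2 (iv F52711) D29423 (iv F63267) F63268 (iv D25701)
theorem F63315 : act 3 n29423 = n25946 := d7_2 (iv F52712) D29423 (iv D25946)
theorem F63316 : act 6 n29423 = n29363 := d10_2 D25696 D29423 F63313 (iv D29422) (iv D25695)
theorem F63317 : act 5 n29352 = n29423 := d13_0 F63314 (iv D29354) D29352
def n29424 : Q := act 2 n25697
theorem D29424 : act 2 n25697 = n29424 := rfl
theorem F63318 : act 4 n29424 = n25699 := d12_2 (iv F52714) D29424 (iv D25699)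
theorem F63319 : act 5 n29424 = n29424 := d13_2 F52715 D29424 (iv D29424)
def n29425 : Q := act 6 n25697
theorem D29425 : act 6 n25697 = n29425 := rfl
theorem F63320 : act 4 n29425 = n25700 := d19_1 D29425 (iv D25700) (iv F52714)
def n29426 : Q := act 1 n25698
theorem D29426 : act 1 n25698 = n29426 := rfl
theorem F63321 : act 4 n29426 = n25701 := d8_2 (iv F52717) D29426 (iv D25701)
def n29427 : Q := act 0 n25701
theorem D29427 : act 0 n25701 = n29427 := rfl
theorem F63322 : act 3 n29427 = n25703 := d2_2 (iv F52721) D29427 (iv D25703)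
theorem F63323 : act 6 n29427 = n29390 := d5_2 (iv F63263) D29427 (iv F63264)
def n29428 : Q := act 2 n25702
theorem D29428 : act 2 n25702 = n29428 := rfl
theorem F63324 : act 0 n29428 = n29393 := d1_1 D29428 (iv D29393) (iv F52727)
theorem F63325 : act 1 n29428 = n28568 := d6_1 D29428 (iv D28568) (iv D24698) (iv F41387) D25702
theorem F63326 : act 5 n29428 = n29400 := d13_2 F52726 D29428 (iv D29400)
theorem F63327 : act 6 n29428 = n25704 := d14_2 (iv F52722) D29428 (iv D25704)
def n29429 : Q := act 1 n25703
theorem D29429 : act 1 n25703 = n29429 := rfl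
theorem F63328 : act 6 n29429 = n29394 := d10_2 (iv F52731) D29429 (iv D29394) (iv D25681) D25680
def n29430 : Q := act 2 n25703
theorem D29430 : act 2 n25703 = n29430 := rfl
theorem F63329 : act 0 n29430 = n25704 := d1_1 D29430 (iv D25704) D25703
theorem F63330 : act 6 n29430 = n29393 := d14_2 (iv F52731) D29430 (iv D29393)
def n29431 : Q := act 3 n25704
theorem D29431 : act 3 n25704 = n29431 := rfl
theorem F63331 : act 1 n29431 = n25706 := d7_1 D29431 (iv D25706) (iv F52732)
def n29432 : Q := act 4 n25706
theorem D29432 : act 4 n25706 = n29432 := rfl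
theorem F63332 : act 0 n29432 = n26986 := d3_1 D29432 F56314 (iv F52736)
theorem F63333 : act 2 n29432 = n26985 := d12_1 D29432 F56312 (iv F52737)
theorem F63334 : act 3 n29432 = n28712 := d15_1 D29432 F61435 (iv D25765) F41483 D25706
theorem F63335 : act 6 n29432 = n26989 := d19_2 (iv F52738) D29432 F56323
def n29433 : Q := act 1 n25707
theorem D29433 : act 1 n25707 = n29433 := rfl
theorem F63336 : act 2 n29433 = n29349 := d6_2 (iv F52739) D29433 (iv D29349) F52653 (iv F41391)
def n29434 : Q := act 1 n25708
theorem D29434 : act 1 n25708 = n29434 := rfl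
theorem F63337 : act 0 n29434 = n29434 := d0_1 D29434 (iv D29434) F52741 (iv F46045) (iv F57233) F57234 F57233 F46045 (iv F52741)
theorem F63338 : act 4 n29434 = n29100 := d8_2 (iv F52742) D29434 (iv D29100)
def n29435 : Q := act 3 n25708
theorem D29435 : act 3 n25708 = n29435 := rfl
theorem F63339 : act 0 n29435 = n25709 := d2_1 D29435 (iv D25709) (iv F52741)
theorem F63340 : act 5 n29435 = n25720 := d16_2 (iv F52743) D29435 (iv D25720)
theorem F63341 : act 6 n29435 = n28372 := d17_2 (iv F52744) D29435 (iv D28372)
def n29436 : Q := act 2 n25709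
theorem D29436 : act 2 n25709 = n29436 := rfl
theorem F63342 : act 5 n29436 = n25721 := d13_2 (iv F52745) D29436 (iv D25721)
def n29437 : Q := act 4 n25709
theorem D29437 : act 4 n25709 = n29437 := rfl
theorem F63343 : act 5 n29437 = n25722 := d18_2 (iv F52745) D29437 (iv D25722)
def n29438 : Q := act 6 n25709
theorem D29438 : act 6 n25709 = n29438 := rfl
theorem F63344 : act 0 n29438 = n28372 := d5_1 D29438 (iv F63341) F63339
theorem F63345 : act 3 n29438 = n25710 := d17_1 D29438 (iv D25710) D25709
theorem F63346 : act 5 n29438 = n29297 := d20_1 D29438 F63011 (iv F63340) F63341 F60396 (iv D25723) (iv F52745)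
def n29439 : Q := act 1 n25710
theorem D29439 : act 1 n25710 = n29439 := rfl
theorem F63347 : act 2 n29439 = n29296 := d6_2 (iv F52747) D29439 (iv D29296) F52568 (iv F41400)
theorem F63348 : act 4 n29439 = n27945 := d8_2 (iv F52748) D29439 (iv D27945)
def n29440 : Q := act 3 n25711
theorem D29440 : act 3 n25711 = n29440 := rfl
theorem F63349 : act 0 n29440 = n28360 := d2_1 D29440 F60365 (iv F52750)
theorem F63350 : act 1 n29440 = n27297 := d7_1 D29440 (iv D27297) (iv F52751)
theorem F63351 : act 6 n29440 = n27938 := d17_2 (iv F52753) D29440 (iv D27938)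
def n29441 : Q := act 3 n25712
theorem D29441 : act 3 n25712 = n29441 := rfl
theorem F63352 : act 5 n29441 = n25718 := d16_2 (iv F52754) D29441 (iv D25718)
def n29442 : Q := act 0 n25713
theorem D29442 : act 0 n25713 = n29442 := rfl
theorem F63353 : act 1 n29442 = n25717 := d0_2 D25713 D29442 F52761 F41417 F41058 D24694 (iv F50162) (iv D21423) (iv F41411)
theorem F63354 : act 3 n29442 = n25717 := d2_2 (iv F52755) D29442 F52761
theorem F63355 : act 4 n29442 = n25714 := d3_2 (iv F52756) D29442 (iv D25714)
theorem F63356 : act 5 n29442 = n28566 := d4_2 (iv F52757) D29442 (iv D28566)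
theorem F63357 : act 6 n29442 = n25714 := d5_2 (iv F52758) D29442 (iv D25714)
def n29443 : Q := act 2 n25713
theorem D29443 : act 2 n25713 = n29443 := rfl
theorem F63358 : act 1 n29443 = n28819 := d6_1 D29443 F61700 F53155 F42027 D25713
theorem F63359 : act 4 n29443 = n25715 := d12_2 (iv F52756) D29443 (iv D25715)
theorem F63360 : act 5 n29443 = n28567 := d13_2 (iv F52757) D29443 (iv D28567)
theorem F63361 : act 6 n29443 = n25715 := d14_2 (iv F52758) D29443 (iv D25715)
theorem F63362 : act 3 n28827 = n29443 := d7_0 F63358 F61701 D28827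
def n29444 : Q := act 2 n25714
theorem D29444 : act 2 n25714 = n29444 := rfl
theorem F63363 : act 0 n29444 = n25715 := d1_1 D29444 (iv D25715) D25714
def n29445 : Q := act 3 n25715
theorem D29445 : act 3 n25715 = n29445 := rfl
theorem F63364 : act 1 n29445 = n28436 := d7_1 D29445 F60570 F53751
theorem F63365 : act 6 n29445 = n28827 := d17_2 F63361 D29445 F63362
def n29446 : Q := act 1 n25716
theorem D29446 : act 1 n25716 = n29446 := rfl
def n29447 : Q := act 3 n25716
theorem D29447 : act 3 n25716 = n29447 := rfl
theorem F63366 : act 0 n29447 = n25718 := d2_1 D29447 (iv D25718) (iv F52760)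
def n29448 : Q := act 6 n25716
theorem D29448 : act 6 n25716 = n29448 := rfl
theorem F63367 : act 0 n29448 = n25719 := d5_1 D29448 (iv D25719) (iv F52760)
theorem F63368 : act 2 n29448 = n25717 := d14_1 D29448 (iv D25717) D25716
theorem F63369 : act 5 n29448 = n28569 := d20_1 D29448 F60944 F52754 D25719 (iv F52765) (iv F60941) F60940
def n29449 : Q := act 2 n25718
theorem D29449 : act 2 n25718 = n29449 := rfl
def n29450 : Q := act 4 n25718
theorem D29450 : act 4 n25718 = n29450 := rfl
theorem F63370 : act 1 n29450 = n25722 := d8_1 D29450 (iv D25722) (iv F52763)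
def n29451 : Q := act 6 n25718
theorem D29451 : act 6 n25718 = n29451 := rfl
theorem F63371 : act 3 n29451 = n25719 := d17_1 D29451 (iv D25719) D25718
theorem F63372 : act 5 n27209 = n29451 := d16_0 F63371 (iv F52765) (iv F57024)
def n29452 : Q := act 1 n25719
theorem D29452 : act 1 n25719 = n29452 := rfl
theorem F63373 : act 2 n29452 = n28649 := d6_2 (iv F52764) D29452 (iv D28649) F50332 (iv F41417)
theorem F63374 : act 4 n29452 = n28651 := d8_2 F52829 D29452 F61178
theorem F63375 : act 5 n29452 = n28570 := d9_2 F52765 D29452 (iv D28570) (iv D24701) (iv F50175)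
theorem F63376 : act 6 n29452 = n25724 := d10_2 D25719 D29452 (iv D25724) (iv D21417) (iv F41416)
def n29453 : Q := act 4 n25720
theorem D29453 : act 4 n25720 = n29453 := rfl
theorem F63377 : act 0 n29453 = n25722 := d3_1 D29453 (iv D25722) (iv F52766)
def n29454 : Q := act 1 n25721
theorem D29454 : act 1 n25721 = n29454 := rfl
def n29455 : Q := act 4 n25721
theorem D29455 : act 4 n25721 = n29455 := rfl
theorem F63378 : act 2 n29455 = n25722 := d12_1 D29455 (iv D25722) D25721
def n29456 : Q := act 6 n25721
theorem D29456 : act 6 n25721 = n29456 := rfl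
theorem F63379 : act 2 n29456 = n25723 := d14_1 D29456 (iv D25723) D25721
theorem F63380 : act 5 n28365 = n29456 := d13_0 F63379 (iv F60396) (iv F60397)
theorem F63381 : act 4 n29456 = n29087 := d18_1 F63380 (iv D29087) (iv F60378)
theorem F63382 : act 6 n29087 = n29455 := d19_2 D29456 F63381 (iv D29455)
def n29457 : Q := act 6 n25722
theorem D29457 : act 6 n25722 = n29457 := rfl
theorem F63383 : act 2 n29457 = n29087 := d14_1 D29457 F63382 F63378
theorem F63384 : act 3 n29457 = n28057 := d17_1 D29457 (iv F60896) F60895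
theorem F63385 : act 4 n29457 = n25723 := d19_1 D29457 (iv D25723) D25722
theorem F63386 : act 5 n28077 = n29457 := d18_0 F63385 (iv F60396) F60395
def n29458 : Q := act 1 n25723
theorem D29458 : act 1 n25723 = n29458 := rfl
theorem F63387 : act 3 n29458 = n25724 := d7_2 (iv F52767) D29458 (iv D25724)
theorem F63388 : act 5 n29458 = n28982 := d9_2 F60396 D29458 (iv D28982) (iv F60377) (iv F60394)
def n29459 : Q := act 0 n25724
theorem D29459 : act 0 n25724 = n29459 := rfl
theorem F63389 : act 2 n29459 = n29146 := d1_2 (iv F52768) D29459 (iv D29146)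
def n29460 : Q := act 5 n25724
theorem D29460 : act 5 n25724 = n29460 := rfl
theorem F63390 : act 1 n29460 = n28983 := d9_1 D29460 F62258 (iv D28371) F49735 D25724
theorem F63391 : act 2 n29460 = n29147 := d13_1 D29460 (iv D29147) (iv F52768)
theorem F63392 : act 3 n29460 = n28982 := d16_1 D29460 (iv F63388) F63387
def n29461 : Q := act 2 n25727
theorem D29461 : act 2 n25727 = n29461 := rfl
theorem F63393 : act 0 n29461 = n27015 := d1_1 D29461 (iv D27015) F52780
theorem F63394 : act 1 n29461 = n29461 := d6_1 D29461 (iv D29461) (iv D25727) F41431 D25727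
theorem F63395 : act 4 n29461 = n27260 := d12_2 (iv F52778) D29461 (iv D27260)
theorem F63396 : act 5 n29461 = n25731 := d13_2 (iv F52779) D29461 (iv D25731)
def n29462 : Q := act 2 n25729
theorem D29462 : act 2 n25729 = n29462 := rfl
theorem F63397 : act 0 n29462 = n27262 := d1_1 D29462 F57164 (iv F52789)
theorem F63398 : act 1 n29462 = n25733 := d6_1 D29462 (iv D25733) (iv D21423) (iv F41432) D25729
theorem F63399 : act 4 n29462 = n25731 := d12_2 (iv F52787) D29462 (iv D25731)
theorem F63400 : act 5 n29462 = n27260 := d13_2 (iv F52788) D29462 (iv D27260)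
def n29463 : Q := act 2 n25730
theorem D29463 : act 2 n25730 = n29463 := rfl
theorem F63401 : act 0 n29463 = n25731 := d1_1 D29463 (iv D25731) D25730
theorem F63402 : act 4 n29463 = n27262 := d12_2 (iv F52791) D29463 F57164
theorem F63403 : act 5 n29463 = n27015 := d13_2 (iv F52792) D29463 (iv D27015)
theorem F63404 : act 6 n29463 = n27219 := d14_2 F52793 D29463 (iv D27219)
theorem F63405 : act 1 n29463 = n28724 := d23_2 (iv F52792) D29463 F61471 D28727 (iv F61627) (iv F62475) F62474 F52174 (iv D25342) (iv D21131) F27639 F27637 (iv F33469) F41427 (iv D21418) D21420 F41431 D25727 (iv F52780)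
theorem F63406 : act 3 n28723 = n29463 := d7_0 F63405 (iv D28724) D28723
def n29464 : Q := act 3 n25731
theorem D29464 : act 3 n25731 = n29464 := rfl
theorem F63407 : act 0 n29464 = n28723 := d2_1 D29464 F63406 F63401
theorem F63408 : act 1 n29464 = n25735 := d7_1 D29464 (iv D25735) (iv F52794)
theorem F63409 : act 6 n28746 = n29464 := d10_0 F63408 F63089 (iv D24846) D24847 D28746
theorem F63410 : act 4 n28735 = n29464 := d3_0 F63407 F61470 D28735
def n29465 : Q := act 6 n25731
theorem D29465 : act 6 n25731 = n29465 := rfl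
theorem F63411 : act 0 n29465 = n27219 := d5_1 D29465 (iv F63404) F63401
theorem F63412 : act 1 n29465 = n28744 := d10_1 D29465 (iv D28744) (iv F63083) (iv D25736) (iv F52794)
theorem F63413 : act 2 n29465 = n25732 := d14_1 D29465 (iv D25732) D25731
theorem F63414 : act 3 n29465 = n28746 := d17_1 D29465 F63409 (iv D29464)
theorem F63415 : act 5 n29465 = n29180 := d22_2 F63396 D29465 F62686 (iv F63393)
def n29466 : Q := act 3 n25733
theorem D29466 : act 3 n25733 = n29466 := rfl
theorem F63416 : act 0 n29466 = n28306 := d2_1 D29466 F63095 F60918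
theorem F63417 : act 5 n29466 = n29466 := d16_2 F52800 D29466 (iv D29466)
theorem F63418 : act 2 n29466 = n28305 := d21_6 D28306 F63095 (iv D28561) F50159 D25733 D29466 F60233 (iv D28305)
theorem F63419 : act 4 n29002 = n29466 := d12_0 F63418 F60234 D29002
def n29467 : Q := act 6 n25733
theorem D29467 : act 6 n25733 = n29467 := rfl
theorem F63420 : act 2 n29467 = n25734 := d14_1 D29467 (iv D25734) D25733
theorem F63421 : act 4 n29467 = n25736 := d19_1 D29467 (iv D25736) (iv F52799)
theorem F63422 : act 1 n28742 = n29467 := d8_3 F63421 F63083 (iv F61500)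
def n29468 : Q := act 4 n25735
theorem D29468 : act 4 n25735 = n29468 := rfl
theorem F63423 : act 0 n29468 = n29003 := d3_1 D29468 (iv F63094) F60925
theorem F63424 : act 1 n29468 = n28735 := d8_1 D29468 F63410 F63408
theorem F63425 : act 3 n29468 = n29002 := d15_1 D29468 F63419 (iv D29466) F52799 D25735
theorem F63426 : act 5 n29468 = n29468 := d18_2 F52803 D29468 (iv D29468)
theorem F63427 : act 6 n29468 = n28728 := d19_2 (iv F63089) D29468 F61477
def n29469 : Q := act 3 n25737
theorem D29469 : act 3 n25737 = n29469 := rfl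
theorem F63428 : act 5 n29469 = n28548 := d16_2 (iv F52806) D29469 (iv D28548)
theorem F63429 : act 6 n29469 = n28671 := d17_2 F52821 D29469 F63085
def n29470 : Q := act 1 n25738
theorem D29470 : act 1 n25738 = n29470 := rfl
theorem F63430 : act 2 n29470 = n25757 := d6_2 D25738 D29470 (iv D25757) (iv D21439) (iv F41444)
theorem F63431 : act 6 n26699 = n29470 := d14_0 F63430 F61759 (iv F55330)
theorem F63432 : act 3 n26634 = n29470 := d21_1 D26634 F63430 (iv F61757) F53298 F41748 (iv F43199) D26625 F55108
def n29471 : Q := act 3 n25738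
theorem D29471 : act 3 n25738 = n29471 := rfl
theorem F63433 : act 0 n29471 = n26045 := d2_1 D29471 F63092 (iv F52807)
theorem F63434 : act 1 n29471 = n26634 := d7_1 D29471 F63432 (iv D29470)
theorem F63435 : act 2 n29471 = n28563 := d11_1 D29471 (iv D28563) (iv D24695) F38476 (iv F28013) (iv F41382) D25699 (iv F63092) (iv F63088) (iv D25735) (iv D21424) F28041 D16219 D21427 D25738
theorem F63436 : act 5 n29471 = n29471 := d16_2 F52808 D29471 (iv D29471)
theorem F63437 : act 6 n29471 = n26034 := d22_1 F63436 F53528 D26045 (iv F63433)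
def n29472 : Q := act 4 n25738
theorem D29472 : act 4 n25738 = n29472 := rfl
theorem F63438 : act 0 n29472 = n29424 := d3_1 D29472 F63318 (iv F52807)
theorem F63439 : act 2 n29472 = n25739 := d12_1 D29472 (iv D25739) D25738
theorem F63440 : act 5 n29472 = n29472 := d18_2 F52808 D29472 (iv D29472)
def n29473 : Q := act 6 n25738
theorem D29473 : act 6 n25738 = n29473 := rfl
theorem F63441 : act 0 n29473 = n26039 := d5_1 D29473 (iv F63091) (iv F52807)
theorem F63442 : act 2 n29473 = n25740 := d14_1 D29473 (iv D25740) D25738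
theorem F63443 : act 3 n29473 = n26034 := d17_1 D29473 (iv F63437) (iv D29471)
theorem F63444 : act 5 n29473 = n26039 := d22_2 F52808 D29473 (iv F63091) (iv F52807)
theorem F63445 : act 1 n26029 = n29473 := d9_5 F63444 (iv D26039) (iv D21621) (iv F41854) D26029
def n29474 : Q := act 6 n25739
theorem D29474 : act 6 n25739 = n29474 := rfl
theorem F63446 : act 0 n29474 = n29425 := d5_1 D29474 (iv D29425) (iv F52809)
theorem F63447 : act 3 n29474 = n29425 := d17_1 D29474 (iv D29425) (iv F52811)
theorem F63448 : act 4 n29474 = n25740 := d19_1 D29474 (iv D25740) D25739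
theorem F63449 : act 5 n29474 = n29425 := d22_2 F52812 D29474 (iv D29425) (iv F52809)
def n29475 : Q := act 1 n25740
theorem D29475 : act 1 n25740 = n29475 := rfl
theorem F63450 : act 3 n29475 = n25741 := d7_2 (iv F52814) D29475 (iv D25741)
theorem F63451 : act 6 n29475 = n25761 := d10_2 D25740 D29475 (iv D25761) (iv D21441) (iv F41444)
def n29476 : Q := act 2 n25741
theorem D29476 : act 2 n25741 = n29476 := rfl
theorem F63452 : act 1 n29476 = n25742 := d6_1 D29476 (iv D25742) (iv D21429) (iv F41447) D25741
theorem F63453 : act 4 n29476 = n29428 := d12_2 (iv F52816) D29476 (iv D29428)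
theorem F63454 : act 6 n29476 = n25763 := d14_2 (iv F52817) D29476 (iv D25763)
def n29477 : Q := act 3 n25742
theorem D29477 : act 3 n25742 = n29477 := rfl
theorem F63455 : act 0 n29477 = n29469 := d2_1 D29477 (iv D29469) (iv F52818)
theorem F63456 : act 6 n29477 = n25745 := d17_2 (iv F52819) D29477 (iv D25745)
def n29478 : Q := act 5 n25743
theorem D29478 : act 5 n25743 = n29478 := rfl
theorem F63457 : act 0 n29478 = n25746 := d4_1 D29478 (iv D25746) (iv F52820)
theorem F63458 : act 2 n29478 = n25744 := d13_1 D29478 (iv D25744) D25743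
theorem F63459 : act 4 n29478 = n29448 := d18_1 D29478 F63369 F60943
theorem F63460 : act 6 n29478 = n28547 := d20_2 (iv F52821) D29478 F60892 F52819 D25746 F52830 (iv F52806)
def n29479 : Q := act 2 n25745
theorem D29479 : act 2 n25745 = n29479 := rfl
theorem F63461 : act 1 n29479 = n28824 := d6_1 D29479 F61719 (iv F53945) (iv D25770) (iv F52827)
theorem F63462 : act 4 n28827 = n29479 := d8_0 F63461 F61720 D28827
def n29480 : Q := act 4 n25745
theorem D29480 : act 4 n25745 = n29480 := rfl
theorem F63463 : act 1 n29480 = n25771 := d8_1 D29480 (iv D25771) (iv F52827)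
theorem F63464 : act 2 n29480 = n28827 := d12_1 D29480 F63462 (iv D29479)
def n29481 : Q := act 5 n25745
theorem D29481 : act 5 n25745 = n29481 := rfl
theorem F63465 : act 3 n29481 = n25746 := d16_1 D29481 (iv D25746) D25745
theorem F63466 : act 6 n29481 = n28548 := d22_1 D29481 (iv F63428) F63429 (iv F63086)
def n29482 : Q := act 3 n25747
theorem D29482 : act 3 n25747 = n29482 := rfl
theorem F63467 : act 0 n29482 = n25749 := d2_1 D29482 (iv D25749) (iv F52831)
theorem F63468 : act 1 n29482 = n28080 := d7_1 D29482 F59507 (iv F52832)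
theorem F63469 : act 6 n29482 = n28303 := d17_2 (iv F52834) D29482 (iv D28303)
def n29483 : Q := act 0 n25748
theorem D29483 : act 0 n25748 = n29483 := rfl
theorem F63470 : act 2 n29483 = n25752 := d1_2 (iv F52835) D29483 (iv D25752)
theorem F63471 : act 4 n29483 = n29400 := d3_2 (iv F52836) D29483 F63271
theorem F63472 : act 5 n29483 = n29476 := d23_4 (iv D21435) D21434 D25748 D29483 (iv D29476) (iv D25741) F41446 (iv F41449) F41447 D21429 F41456 F41442 D24683 F50135 (iv F50137) F52218 F52216 (iv F52204) F52203
def n29484 : Q := act 3 n25748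
theorem D29484 : act 3 n25748 = n29484 := rfl
theorem F63473 : act 1 n29484 = n25749 := d7_1 D29484 (iv D25749) D25748
def n29485 : Q := act 5 n25748
theorem D29485 : act 5 n25748 = n29485 := rfl
theorem F63474 : act 0 n29485 = n29476 := d4_1 D29485 (iv F63472) (iv D29483)
theorem F63475 : act 1 n29485 = n28902 := d9_1 D29485 F61999 F57209 (iv D25750) D25748
theorem F63476 : act 2 n29485 = n25754 := d13_1 D29485 (iv D25754) (iv F52835)
theorem F63477 : act 4 n29485 = n29393 := d18_1 D29485 F63257 (iv F52836)
def n29486 : Q := act 6 n25748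
theorem D29486 : act 6 n25748 = n29486 := rfl
theorem F63478 : act 2 n29486 = n25755 := d14_1 D29486 (iv D25755) (iv F52835)
theorem F63479 : act 4 n29486 = n29403 := d19_1 D29486 (iv D29403) (iv F52836)
theorem F63480 : act 5 n29486 = n25763 := d22_2 (iv D29485) D29486 (iv F63454) (iv F63474)
def n29487 : Q := act 2 n25749
theorem D29487 : act 2 n25749 = n29487 := rfl
def n29488 : Q := act 4 n25749
theorem D29488 : act 4 n25749 = n29488 := rfl
theorem F63481 : act 3 n29488 = n29405 := d15_1 D29488 (iv D29405) (iv D25688) (iv F41463) D25749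
theorem F63482 : act 6 n28075 = n29488 := d17_0 F63481 F63282 F62544
theorem F63483 : act 2 n29488 = n28122 := d14_1 F63482 (iv D28122) (iv F59498)
theorem F63484 : act 4 n28122 = n29487 := d12_2 D29488 F63483 (iv D29487)
theorem F63485 : act 6 n29487 = n28120 := d19_2 D28122 F63484 F59605
def n29489 : Q := act 5 n25749
theorem D29489 : act 5 n25749 = n29489 := rfl
theorem F63486 : act 3 n29489 = n25750 := d16_1 D29489 (iv D25750) D25749
def n29490 : Q := act 6 n25749
theorem D29490 : act 6 n25749 = n29490 := rfl
theorem F63487 : act 0 n29490 = n28303 := d5_1 D29490 (iv F63469) F63467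
theorem F63488 : act 2 n29490 = n28120 := d14_1 D29490 (iv F63485) (iv D29487)
theorem F63489 : act 3 n29490 = n25751 := d17_1 D29490 (iv D25751) D25749
theorem F63490 : act 4 n29490 = n28075 := d19_1 D29490 F63482 (iv D29488)
theorem F63491 : act 5 n28074 = n29490 := d18_0 F63490 (iv D28075) D28074
def n29491 : Q := act 1 n25751
theorem D29491 : act 1 n25751 = n29491 := rfl
theorem F63492 : act 4 n29491 = n28982 := d8_2 (iv F52841) D29491 (iv D28982)
def n29492 : Q := act 3 n25752
theorem D29492 : act 3 n25752 = n29492 := rfl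
theorem F63493 : act 0 n29492 = n25753 := d2_1 D29492 (iv D25753) D25752
theorem F63494 : act 1 n29492 = n29397 := d7_1 D29492 F63260 (iv F52843)
theorem F63495 : act 5 n29492 = n29475 := d16_2 F52845 D29492 F63450
def n29493 : Q := act 6 n25752
theorem D29493 : act 6 n25752 = n29493 := rfl
theorem F63496 : act 0 n29493 = n25755 := d5_1 D29493 (iv D25755) D25752
theorem F63497 : act 4 n29493 = n29401 := d19_1 D29493 (iv D29401) (iv F52844)
theorem F63498 : act 5 n29493 = n25762 := d20_1 D29493 F52864 (iv D25754) D25755 F52851 (iv F52817) F52845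
def n29494 : Q := act 2 n25753
theorem D29494 : act 2 n25753 = n29494 := rfl
def n29495 : Q := act 4 n25753
theorem D29495 : act 4 n25753 = n29495 := rfl
theorem F63499 : act 1 n29495 = n25756 := d8_1 D29495 (iv D25756) (iv F52846)
theorem F63500 : act 3 n29495 = n29396 := d15_1 D29495 F63259 F52700 (iv F41471) D25753
def n29496 : Q := act 5 n25753
theorem D29496 : act 5 n25753 = n29496 := rfl
theorem F63501 : act 0 n29496 = n29475 := d4_1 D29496 (iv F63495) F63493
theorem F63502 : act 1 n29496 = n25782 := d9_1 D29496 (iv D25782) F41510 (iv F41473) (iv F52846)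
theorem F63503 : act 3 n29496 = n25754 := d16_1 D29496 (iv D25754) D25753
def n29497 : Q := act 6 n25753
theorem D29497 : act 6 n25753 = n29497 := rfl
theorem F63504 : act 3 n29497 = n25755 := d17_1 D29497 (iv D25755) D25753
theorem F63505 : act 5 n29497 = n25761 := d22_2 (iv D29496) D29497 (iv F63451) (iv F63501)
def n29498 : Q := act 5 n25757
theorem D29498 : act 5 n25757 = n29498 := rfl
theorem F63506 : act 1 n29498 = n25795 := d9_1 D29498 (iv D25795) (iv D21461) (iv F41474) D25757
theorem F63507 : act 3 n29498 = n26043 := d16_1 D29498 F53545 F61757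
theorem F63508 : act 6 n29498 = n26041 := d22_1 D29498 (iv D26041) (iv F53307) (iv F61758)
def n29499 : Q := act 6 n25758
theorem D29499 : act 6 n25758 = n29499 := rfl
theorem F63509 : act 2 n29499 = n25760 := d14_1 D29499 (iv D25760) (iv F52855)
theorem F63510 : act 4 n29499 = n25759 := d19_1 D29499 (iv D25759) D25758
theorem F63511 : act 5 n29499 = n26269 := d22_2 (iv F52856) D29499 (iv D26269) F42208
def n29500 : Q := act 1 n25759
theorem D29500 : act 1 n25759 = n29500 := rfl
theorem F63512 : act 3 n29500 = n26277 := d7_2 (iv F52858) D29500 (iv D26277)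
def n29501 : Q := act 1 n25760
theorem D29501 : act 1 n25760 = n29501 := rfl
theorem F63513 : act 3 n29501 = n29426 := d7_2 (iv F52860) D29501 (iv D29426)
theorem F63514 : act 4 n29501 = n25761 := d8_2 (iv F52861) D29501 (iv D25761)
def n29502 : Q := act 0 n25761
theorem D29502 : act 0 n25761 = n29502 := rfl
theorem F63515 : act 3 n29502 = n25762 := d2_2 (iv F52862) D29502 (iv D25762)
theorem F63516 : act 6 n29502 = n29496 := d5_2 F63451 D29502 F63501
def n29503 : Q := act 2 n25761
theorem D29503 : act 2 n25761 = n29503 := rfl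
def n29504 : Q := act 1 n25762
theorem D29504 : act 1 n25762 = n29504 := rfl
theorem F63517 : act 4 n29504 = n29429 := d8_2 (iv F52863) D29504 (iv D29429)
def n29505 : Q := act 2 n25762
theorem D29505 : act 2 n25762 = n29505 := rfl
theorem F63518 : act 0 n29505 = n25763 := d1_1 D29505 (iv D25763) D25762
theorem F63519 : act 4 n29505 = n29430 := d12_2 (iv F52863) D29505 (iv D29430)
theorem F63520 : act 6 n29505 = n29485 := d14_2 (iv F52864) D29505 F63476
def n29506 : Q := act 3 n25763
theorem D29506 : act 3 n25763 = n29506 := rfl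
theorem F63521 : act 1 n29506 = n25765 := d7_1 D29506 (iv D25765) (iv F52865)
def n29507 : Q := act 1 n25764
theorem D29507 : act 1 n25764 = n29507 := rfl
theorem F63522 : act 2 n29507 = n29081 := d6_2 D25764 D29507 (iv D29081) F52189 F41482
theorem F63523 : act 4 n29507 = n29297 := d8_2 (iv F52868) D29507 F63010
theorem F63524 : act 0 n29507 = n29457 := d23_3 F41498 D25764 D29507 (iv F63386) (iv F59501) (iv D25426) F41017 D21214 F41020 (iv F27977) (iv F41287) (iv D21342) D21341 F51937 F51935 (iv F51933) (iv D25308) (iv F41485) (iv F41495)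
theorem F63525 : act 6 n29453 = n29507 := d5_0 F63524 (iv D29457) (iv F63377)
def n29508 : Q := act 3 n25764
theorem D29508 : act 3 n25764 = n29508 := rfl
theorem F63526 : act 0 n29508 = n25765 := d2_1 D29508 (iv D25765) (iv F52867)
theorem F63527 : act 2 n29508 = n27500 := d11_1 D29508 F57807 F46935 (iv D21732) (iv D16416) (iv F28058) D21444 D25765 F61429 F61357 F53934 (iv D26192) (iv D21731) (iv F41479) D25764
theorem F63528 : act 5 n29508 = n28676 := d16_2 F52883 D29508 F61254
theorem F63529 : act 6 n29508 = n25768 := d17_2 (iv F52869) D29508 (iv D25768)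
def n29509 : Q := act 5 n25765
theorem D29509 : act 5 n25765 = n29509 := rfl
theorem F63530 : act 0 n29509 = n28676 := d4_1 D29509 (iv F63528) F63526
theorem F63531 : act 3 n29509 = n25766 := d16_1 D29509 (iv D25766) D25765
def n29510 : Q := act 1 n25766
theorem D29510 : act 1 n25766 = n29510 := rfl
theorem F63532 : act 2 n29510 = n28967 := d6_2 (iv F52871) D29510 (iv D28967) (iv D25308) (iv F41485)
theorem F63533 : act 4 n29510 = n29433 := d8_2 (iv F52872) D29510 (iv D29433)
def n29511 : Q := act 3 n25767
theorem D29511 : act 3 n25767 = n29511 := rfl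
theorem F63534 : act 0 n29511 = n28075 := d2_1 D29511 (iv F62544) F62542
theorem F63535 : act 1 n29511 = n25768 := d7_1 D29511 (iv D25768) D25767
theorem F63536 : act 4 n29511 = n28303 := d15_2 (iv F52873) D29511 (iv D28303) F49611 D25321
theorem F63537 : act 5 n29511 = n28073 := d16_2 F62541 D29511 (iv F62539)
theorem F63538 : act 2 n28118 = n29511 := d13_3 F63537 F59494 D28118
def n29512 : Q := act 6 n25767
theorem D29512 : act 6 n25767 = n29512 := rfl
theorem F63539 : act 0 n29512 = n29405 := d5_1 D29512 F63282 F62542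
theorem F63540 : act 1 n29512 = n29453 := d10_1 D29512 F63525 (iv D29507) F52869 D25767
theorem F63541 : act 2 n29512 = n29107 := d14_1 D29512 F62557 F60292
theorem F63542 : act 4 n29512 = n28984 := d19_1 D29512 (iv D28984) (iv F52873)
theorem F63543 : act 5 n29512 = n29099 := d22_2 F62541 D29512 (iv D29099) D29097
def n29513 : Q := act 5 n25768
theorem D29513 : act 5 n25768 = n29513 := rfl
theorem F63544 : act 0 n29513 = n25772 := d4_1 D29513 (iv D25772) (iv F52874)
theorem F63545 : act 3 n29513 = n25769 := d16_1 D29513 (iv D25769) D25768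
theorem F63546 : act 6 n29513 = n29509 := d20_2 F63529 D29513 (iv D29509) F52870 D25772 (iv F61255) (iv F63528)
def n29514 : Q := act 1 n25769
theorem D29514 : act 1 n25769 = n29514 := rfl
theorem F63547 : act 2 n29514 = n28415 := d6_2 (iv F52876) D29514 (iv D28415) F49799 (iv F41490)
theorem F63548 : act 4 n29514 = n29178 := d8_2 (iv F52877) D29514 F62681
def n29515 : Q := act 5 n25770
theorem D29515 : act 5 n25770 = n29515 := rfl
theorem F63549 : act 2 n29515 = n25772 := d13_1 D29515 (iv D25772) D25770
theorem F63550 : act 4 n29515 = n28833 := d18_1 D29515 (iv D28833) F53946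
def n29516 : Q := act 5 n25771
theorem D29516 : act 5 n25771 = n29516 := rfl
theorem F63551 : act 2 n29516 = n28833 := d13_1 D29516 (iv D28833) (iv F53947)
theorem F63552 : act 4 n29516 = n25772 := d18_1 D29516 (iv D25772) D25771
theorem F63553 : act 6 n28886 = n29516 := d19_0 F63552 (iv F61255) (iv F61949)
def n29517 : Q := act 0 n25773
theorem D29517 : act 0 n25773 = n29517 := rfl
theorem F63554 : act 2 n29517 = n29129 := d1_2 (iv F52880) D29517 (iv D29129)
def n29518 : Q := act 3 n25775
theorem D29518 : act 3 n25775 = n29518 := rfl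
theorem F63555 : act 5 n29518 = n28966 := d16_2 (iv F52885) D29518 (iv D28966)
theorem F63556 : act 6 n29518 = n25792 := d17_2 (iv F52886) D29518 (iv D25792)
def n29519 : Q := act 3 n25776
theorem D29519 : act 3 n25776 = n29519 := rfl
theorem F63557 : act 0 n29519 = n29519 := d2_1 D29519 (iv D29519) F52887
theorem F63558 : act 1 n29519 = n25777 := d7_1 D29519 (iv D25777) D25776
theorem F63559 : act 5 n29519 = n29379 := d16_2 (iv F52894) D29519 (iv D29379)
theorem F63560 : act 6 n29519 = n29379 := d17_2 (iv F52898) D29519 (iv D29379)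
def n29520 : Q := act 2 n25777
theorem D29520 : act 2 n25777 = n29520 := rfl
theorem F63561 : act 0 n29520 = n25780 := d1_1 D29520 (iv D25780) (iv F52890)
theorem F63562 : act 3 n29520 = n26032 := d21_1 D29520 F53524 F42347 (iv D18847) (iv F33634) F37364 D21454 (iv F52890)
theorem F63563 : act 5 n26031 = n29520 := d16_0 F63562 (iv D26032) D26031
def n29521 : Q := act 4 n25777
theorem D29521 : act 4 n25777 = n29521 := rfl
theorem F63564 : act 0 n29521 = n25781 := d3_1 D29521 (iv D25781) (iv F52890)
theorem F63565 : act 3 n29521 = n29381 := d15_1 D29521 (iv D29381) (iv D25673) (iv F41509) D25777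
def n29522 : Q := act 5 n25777
theorem D29522 : act 5 n25777 = n29522 := rfl
theorem F63566 : act 0 n29522 = n25782 := d4_1 D29522 (iv D25782) (iv F52890)
theorem F63567 : act 1 n29522 = n29382 := d9_1 D29522 (iv D29382) (iv F63228) (iv F63559) F63558
theorem F63568 : act 2 n29522 = n26031 := d13_1 D29522 F63563 (iv D29520)
theorem F63569 : act 3 n29522 = n25778 := d16_1 D29522 (iv D25778) D25777
def n29523 : Q := act 6 n25777
theorem D29523 : act 6 n25777 = n29523 := rfl
theorem F63570 : act 0 n29523 = n25783 := d5_1 D29523 (iv D25783) (iv F52890)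
theorem F63571 : act 1 n29523 = n29383 := d10_1 D29523 (iv D29383) (iv F63228) (iv F63560) F63558
theorem F63572 : act 3 n29523 = n25779 := d17_1 D29523 (iv D25779) D25777
def n29524 : Q := act 3 n25780
theorem D29524 : act 3 n25780 = n29524 := rfl
theorem F63573 : act 0 n29524 = n26032 := d2_1 D29524 (iv F63562) F63561
theorem F63574 : act 1 n29524 = n28089 := d7_1 D29524 F59537 F54110
theorem F63575 : act 2 n29524 = n26356 := d11_1 D29524 F54318 (iv F45439) (iv F46029) F46028 D25777 D29520 F63562 F53524 F42347 (iv D18847) (iv F33634) F37364 D21454 D25780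
theorem F63576 : act 4 n26025 = n29524 := d12_0 F63575 F54319 (iv F53516)
theorem F63577 : act 5 n26024 = n29524 := d13_0 F63575 (iv D26356) (iv F53514)
def n29525 : Q := act 4 n25780
theorem D29525 : act 4 n25780 = n29525 := rfl
theorem F63578 : act 2 n29525 = n25781 := d12_1 D29525 (iv D25781) D25780
def n29526 : Q := act 5 n25780
theorem D29526 : act 5 n25780 = n29526 := rfl
theorem F63579 : act 0 n29526 = n26031 := d4_1 D29526 F63563 F63561
theorem F63580 : act 2 n29526 = n25782 := d13_1 D29526 (iv D25782) D25780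
theorem F63581 : act 3 n29526 = n26024 := d16_1 D29526 F63577 (iv D29524)
def n29527 : Q := act 6 n25780
theorem D29527 : act 6 n25780 = n29527 := rfl
theorem F63582 : act 2 n29527 = n25783 := d14_1 D29527 (iv D25783) D25780
def n29528 : Q := act 5 n25781
theorem D29528 : act 5 n25781 = n29528 := rfl
theorem F63583 : act 3 n29528 = n29388 := d16_1 D29528 (iv D29388) (iv F52900)
theorem F63584 : act 4 n29528 = n25782 := d18_1 D29528 (iv D25782) D25781
def n29529 : Q := act 6 n25781
theorem D29529 : act 6 n25781 = n29529 := rfl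
theorem F63585 : act 3 n29529 = n29389 := d17_1 D29529 (iv D29389) (iv F52900)
theorem F63586 : act 4 n29529 = n25783 := d19_1 D29529 (iv D25783) D25781
def n29530 : Q := act 6 n25782
theorem D29530 : act 6 n25782 = n29530 := rfl
theorem F63587 : act 3 n29530 = n25784 := d17_1 D29530 (iv D25784) (iv F52901)
theorem F63588 : act 5 n29530 = n29523 := d22_2 D25782 D29530 (iv D29523) F52890
def n29531 : Q := act 1 n25783
theorem D29531 : act 1 n25783 = n29531 := rfl
theorem F63589 : act 3 n29531 = n25785 := d7_2 (iv F52902) D29531 (iv D25785)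
theorem F63590 : act 6 n29531 = n25788 := d10_2 D25783 D29531 (iv D25788) (iv D21458) (iv F41510)
def n29532 : Q := act 5 n25783
theorem D29532 : act 5 n25783 = n29532 := rfl
theorem F63591 : act 0 n29532 = n29530 := d4_1 D29532 F63588 F63570
theorem F63592 : act 3 n29532 = n25786 := d16_1 D29532 (iv D25786) (iv F52902)
theorem F63593 : act 6 n29532 = n29522 := d20_2 D25783 D29532 (iv D29522) D29523 (iv F63588) (iv D29530) (iv D25782)
def n29533 : Q := act 1 n25784
theorem D29533 : act 1 n25784 = n29533 := rfl
theorem F63594 : act 4 n29533 = n29394 := d8_2 (iv F52903) D29533 (iv D29394)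
theorem F63595 : act 5 n29533 = n29394 := d9_2 (iv F52904) D29533 (iv D29394) F52694 F52897
theorem F63596 : act 6 n29533 = n29504 := d10_2 D25784 D29533 (iv D29504) F52864 F52848
def n29534 : Q := act 2 n25785
theorem D29534 : act 2 n25785 = n29534 := rfl
theorem F63597 : act 4 n29534 = n29344 := d12_2 (iv F52905) D29534 F63153
theorem F63598 : act 6 n29534 = n25790 := d14_2 (iv F52906) D29534 (iv D25790)
def n29535 : Q := act 1 n25786
theorem D29535 : act 1 n25786 = n29535 := rfl
theorem F63599 : act 4 n29535 = n29395 := d8_2 (iv F52908) D29535 (iv D29395)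
theorem F63600 : act 6 n29535 = n29395 := d10_2 (iv F52909) D29535 (iv D29395) F52696 F52893
def n29536 : Q := act 1 n25787
theorem D29536 : act 1 n25787 = n29536 := rfl
theorem F63601 : act 3 n29536 = n29353 := d7_2 (iv F52911) D29536 F63169
theorem F63602 : act 4 n29536 = n25788 := d8_2 (iv F52912) D29536 (iv D25788)
def n29537 : Q := act 0 n25788
theorem D29537 : act 0 n25788 = n29537 := rfl
theorem F63603 : act 1 n29537 = n29350 := d0_2 D25788 D29537 F63165 F52657 F41343 (iv F41316) F41527 (iv D21465) (iv F41515)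
theorem F63604 : act 3 n29537 = n25789 := d2_2 (iv F52914) D29537 (iv D25789)
def n29538 : Q := act 2 n25788
theorem D29538 : act 2 n25788 = n29538 := rfl
theorem F63605 : act 1 n29538 = n25804 := d6_1 D29538 (iv F61245) (iv D26270) F42211 D25788
theorem F63606 : act 0 n29531 = n29538 := d0_9 F63605 F52943 D29333 (iv F63172) F63173 (iv F63235) (iv F63571) F63570 D29531
theorem F63607 : act 3 n25806 = n29538 := d7_0 F63605 F52944 D25806
theorem F63608 : act 5 n25805 = n29538 := d9_0 F63605 (iv D25804) (iv D21465) D21466 D25805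
theorem F63609 : act 6 n29537 = n29538 := d10_0 F63605 F52945 D29333 (iv F63166) (iv F63603)
theorem F63610 : act 2 n29531 = n29537 := d14_3 F63609 (iv D29538) (iv F63590)
def n29539 : Q := act 5 n25788
theorem D29539 : act 5 n25788 = n29539 := rfl
theorem F63611 : act 1 n29539 = n29497 := d9_1 D29539 F63505 (iv D25761) (iv F41517) D25788
theorem F63612 : act 2 n29539 = n25805 := d13_1 D29539 F63608 (iv D29538)
theorem F63613 : act 3 n29539 = n25791 := d16_1 D29539 (iv D25791) (iv F52914)
theorem F63614 : act 6 n29539 = n25805 := d22_1 D29539 F63608 (iv F63609) (iv D29537)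
def n29540 : Q := act 2 n25789
theorem D29540 : act 2 n25789 = n29540 := rfl
theorem F63615 : act 0 n29540 = n25790 := d1_1 D29540 (iv D25790) D25789
theorem F63616 : act 4 n29540 = n29341 := d12_2 (iv F52916) D29540 F63146
def n29541 : Q := act 5 n25789
theorem D29541 : act 5 n25789 = n29541 := rfl
theorem F63617 : act 0 n29541 = n25791 := d4_1 D29541 (iv D25791) D25789
theorem F63618 : act 4 n29541 = n29351 := d18_1 D29541 (iv D29351) (iv F52916)
theorem F63619 : act 6 n29541 = n25807 := d20_2 F52950 D29541 F52952 F52906 D25791 (iv F52921) (iv F52949)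
def n29542 : Q := act 3 n25790
theorem D29542 : act 3 n25790 = n29542 := rfl
theorem F63620 : act 1 n29542 = n25792 := d7_1 D29542 (iv D25792) (iv F52917)
def n29543 : Q := act 5 n25790
theorem D29543 : act 5 n25790 = n29543 := rfl
theorem F63621 : act 2 n29543 = n25791 := d13_1 D29543 (iv D25791) D25790
theorem F63622 : act 4 n29543 = n29343 := d18_1 D29543 (iv D29343) (iv F52918)
theorem F63623 : act 6 n25808 = n29543 := d19_0 F63622 F63150 (iv F52954)
def n29544 : Q := act 2 n25792
theorem D29544 : act 2 n25792 = n29544 := rfl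
theorem F63624 : act 0 n29544 = n29037 := d1_1 D29544 F62365 F62222
theorem F63625 : act 3 n29544 = n28990 := d11_2 D25792 D29544 F62278 F51974 F40750 (iv F40722) (iv F51936) (iv F62223) (iv F62365) F62366 (iv D26251) (iv D21773) (iv D16440) (iv F28078) D21460
theorem F63626 : act 5 n29544 = n28405 := d13_2 F62219 D29544 (iv F62221)
theorem F63627 : act 4 n29158 = n29544 := d18_3 F63626 F60486 D29158
def n29545 : Q := act 4 n25792
theorem D29545 : act 4 n25792 = n29545 := rfl
theorem F63628 : act 0 n29545 = n29372 := d3_1 D29545 F63212 F62222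
theorem F63629 : act 2 n29545 = n29158 := d12_1 D29545 F63627 (iv D29544)
theorem F63630 : act 3 n29545 = n29346 := d15_1 D29545 (iv D29346) (iv D25644) (iv F41519) D25792
theorem F63631 : act 5 n29545 = n29150 := d18_2 F62219 D29545 F62632
def n29546 : Q := act 1 n25793
theorem D29546 : act 1 n25793 = n29546 := rfl
def n29547 : Q := act 4 n25793
theorem D29547 : act 4 n25793 = n29547 := rfl
theorem F63632 : act 0 n29547 = n25794 := d3_1 D29547 (iv D25794) D25793
theorem F63633 : act 2 n29547 = n29547 := d12_1 D29547 (iv D29547) F52922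
def n29548 : Q := act 5 n25793
theorem D29548 : act 5 n25793 = n29548 := rfl
def n29549 : Q := act 6 n25793
theorem D29549 : act 6 n25793 = n29549 := rfl
theorem F63636 : act 0 n29549 = n25796 := d5_1 D29549 (iv D25796) D25793
def n29550 : Q := act 3 n25794
theorem D29550 : act 3 n25794 = n29550 := rfl
theorem F63638 : act 1 n29550 = n25797 := d7_1 D29550 (iv D25797) (iv F52923)
def n29551 : Q := act 5 n25794
theorem D29551 : act 5 n25794 = n29551 := rfl
theorem F63639 : act 2 n29551 = n29551 := d13_1 D29551 (iv D29551) F52924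
theorem F63640 : act 4 n29551 = n25795 := d18_1 D29551 (iv D25795) D25794
def n29552 : Q := act 6 n25794
theorem D29552 : act 6 n25794 = n29552 := rfl
theorem F63642 : act 4 n29552 = n25796 := d19_1 D29552 (iv D25796) D25794
def n29553 : Q := act 6 n25795
theorem D29553 : act 6 n25795 = n29553 := rfl
theorem F63644 : act 5 n29553 = n29549 := d22_2 D25795 D29553 (iv D29549) (iv D25793)
def n29554 : Q := act 1 n25796
theorem D29554 : act 1 n25796 = n29554 := rfl
theorem F63645 : act 6 n29554 = n25799 := d10_2 D25796 D29554 (iv D25799) (iv D21463) D21461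
def n29555 : Q := act 5 n25796
theorem D29555 : act 5 n25796 = n29555 := rfl
theorem F63648 : act 6 n29555 = n29548 := d20_2 D25796 D29555 (iv D29548) D29549 (iv F63644) (iv D29553) (iv D25795)
def n29556 : Q := act 2 n25797
theorem D29556 : act 2 n25797 = n29556 := rfl
theorem F63649 : act 4 n29556 = n26806 := d12_2 F54081 D29556 F55696
def n29557 : Q := act 6 n25797
theorem D29557 : act 6 n25797 = n29557 := rfl
theorem F63650 : act 3 n29557 = n25798 := d17_1 D29557 (iv D25798) D25797
def n29558 : Q := act 1 n25798
theorem D29558 : act 1 n25798 = n29558 := rfl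
theorem F63651 : act 4 n29558 = n25799 := d8_2 (iv F52928) D29558 (iv D25799)
def n29559 : Q := act 5 n25798
theorem D29559 : act 5 n25798 = n29559 := rfl
theorem F63652 : act 0 n29559 = n29499 := d4_1 D29559 F63511 F54127
theorem F63653 : act 2 n29559 = n25802 := d13_1 D29559 (iv D25802) (iv F52927)
theorem F63654 : act 4 n29559 = n25800 := d18_1 D29559 (iv D25800) (iv F52928)
theorem F63655 : act 6 n29559 = n26178 := d20_2 D25798 D29559 F53898 D26269 (iv F63511) (iv D29499) F52856
def n29560 : Q := act 0 n25799
theorem D29560 : act 0 n25799 = n29560 := rfl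
theorem F63656 : act 3 n29560 = n28157 := d2_2 F54086 D29560 F59700
def n29561 : Q := act 2 n25799
theorem D29561 : act 2 n25799 = n29561 := rfl
theorem F63657 : act 1 n29561 = n25803 := d6_1 D29561 (iv D25803) (iv D21465) (iv F41522) D25799
theorem F63658 : act 5 n29500 = n29561 := d9_0 F63657 F61248 (iv D26270) (iv F52859) D29500
def n29562 : Q := act 5 n25799
theorem D29562 : act 5 n25799 = n29562 := rfl
theorem F63659 : act 2 n29562 = n29500 := d13_1 D29562 F63658 (iv D29561)
theorem F63660 : act 1 n29503 = n29562 := d6_5 F63659 (iv D29500) F52857 D25761 D29503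
def n29563 : Q := act 1 n25800
theorem D29563 : act 1 n25800 = n29563 := rfl
theorem F63661 : act 2 n29563 = n29497 := d6_2 (iv F52930) D29563 (iv F63611) F63612 (iv D25805)
theorem F63662 : act 3 n29563 = n26181 := d7_2 (iv F52931) D29563 (iv D26181)
theorem F63663 : act 5 n29563 = n29503 := d9_2 D25800 D29563 F63660 (iv D29562) (iv D25799)
theorem F63664 : act 6 n29494 = n29563 := d14_0 F63661 (iv D29497) D29494
def n29564 : Q := act 2 n25801
theorem D29564 : act 2 n25801 = n29564 := rfl
theorem F63665 : act 0 n29564 = n29330 := d1_1 D29564 F63119 F52936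
theorem F63666 : act 4 n29564 = n25803 := d12_2 (iv F52934) D29564 (iv D25803)
theorem F63667 : act 6 n29564 = n29564 := d14_2 F52935 D29564 (iv D29564)
def n29565 : Q := act 5 n25801
theorem D29565 : act 5 n25801 = n29565 := rfl
theorem F63668 : act 0 n29565 = n29332 := d4_1 D29565 (iv D29332) F52936
theorem F63669 : act 3 n29565 = n29332 := d16_1 D29565 (iv D29332) (iv F52933)
theorem F63670 : act 4 n29565 = n25804 := d18_1 D29565 (iv D25804) (iv F52934)
theorem F63671 : act 6 n29565 = n29332 := d22_1 D29565 (iv D29332) F52631 F52936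
def n29566 : Q := act 1 n25802
theorem D29566 : act 1 n25802 = n29566 := rfl
theorem F63672 : act 3 n29566 = n29361 := d7_2 (iv F52938) D29566 (iv D29361)
theorem F63673 : act 4 n29566 = n25805 := d8_2 (iv F52939) D29566 (iv D25805)
def n29567 : Q := act 0 n25805
theorem D29567 : act 0 n25805 = n29567 := rfl
theorem F63674 : act 3 n29567 = n25807 := d2_2 (iv F52946) D29567 (iv D25807)
theorem F63675 : act 5 n29567 = n29531 := d4_2 (iv F63608) D29567 F63606
def n29568 : Q := act 2 n25806
theorem D29568 : act 2 n25806 = n29568 := rfl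
theorem F63676 : act 0 n29568 = n29534 := d1_1 D29568 (iv D29534) (iv F52947)
theorem F63677 : act 1 n29568 = n28543 := d6_1 D29568 (iv D28543) (iv D24676) (iv F41532) D25806
theorem F63678 : act 4 n29568 = n29334 := d12_2 (iv F52948) D29568 (iv D29334)
theorem F63679 : act 5 n29568 = n25808 := d13_2 (iv F52949) D29568 (iv D25808)
theorem F63680 : act 6 n29568 = n29540 := d14_2 (iv F52950) D29568 (iv D29540)
def n29569 : Q := act 1 n25807
theorem D29569 : act 1 n25807 = n29569 := rfl
theorem F63681 : act 4 n29569 = n29364 := d8_2 (iv F52951) D29569 (iv D29364)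
theorem F63682 : act 5 n29569 = n29535 := d9_2 (iv F52952) D29569 (iv D29535) (iv D25786) D25785
def n29570 : Q := act 2 n25807
theorem D29570 : act 2 n25807 = n29570 := rfl
theorem F63683 : act 0 n29570 = n25808 := d1_1 D29570 (iv D25808) D25807
theorem F63684 : act 4 n29570 = n29365 := d12_2 (iv F52951) D29570 (iv D29365)
theorem F63685 : act 5 n29570 = n29534 := d13_2 (iv F52952) D29570 (iv D29534)
def n29571 : Q := act 3 n25808
theorem D29571 : act 3 n25808 = n29571 := rfl
theorem F63686 : act 1 n29571 = n25810 := d7_1 D29571 (iv D25810) (iv F52953)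
def n29572 : Q := act 4 n25810
theorem D29572 : act 4 n25810 = n29572 := rfl
theorem F63687 : act 0 n29572 = n26995 := d3_1 D29572 F56341 (iv F52959)
theorem F63688 : act 2 n29572 = n26994 := d12_1 D29572 F56339 (iv F52960)
theorem F63689 : act 3 n29572 = n28779 := d15_1 D29572 F61591 (iv D25661) (iv F41539) D25810
theorem F63690 : act 5 n29572 = n26998 := d18_2 (iv F52961) D29572 F56350
def n29573 : Q := act 1 n25811
theorem D29573 : act 1 n25811 = n29573 := rfl
theorem F63691 : act 2 n29573 = n29491 := d6_2 (iv F52962) D29573 (iv D29491) F52840 (iv F41541)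
theorem F63692 : act 4 n29573 = n29370 := d8_2 (iv F52963) D29573 (iv D29370)
def n29574 : Q := act 0 n25813
theorem D29574 : act 0 n25813 = n29574 := rfl
theorem F63693 : act 3 n29574 = n25815 := d2_2 (iv F52969) D29574 (iv D25815)
theorem F63694 : act 6 n29574 = n25820 := d5_2 (iv F52970) D29574 (iv D25820)
theorem F63695 : act 1 n27996 = n29574 := d10_5 F63694 (iv F57444) F57446 F48549 D27996
def n29575 : Q := act 2 n25813
theorem D29575 : act 2 n25813 = n29575 := rfl
theorem F63696 : act 1 n29575 = n27074 := d6_1 D29575 (iv D27074) (iv D22905) (iv F41549) D25813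
theorem F63697 : act 6 n29575 = n25821 := d14_2 (iv F52970) D29575 (iv D25821)
theorem F63698 : act 3 n25831 = n29575 := d17_3 F63697 (iv F57421) F54041
theorem F63699 : act 5 n29575 = n25830 := d16_2 D25831 F63698 (iv D25830)
def n29576 : Q := act 5 n25813
theorem D29576 : act 5 n25813 = n29576 := rfl
theorem F63700 : act 1 n29576 = n26223 := d9_1 D29576 F54042 F52976 (iv D25814) D25813
theorem F63701 : act 2 n29576 = n25830 := d13_1 D29576 (iv F63699) (iv D29575)
theorem F63702 : act 3 n29576 = n25817 := d16_1 D29576 (iv D25817) (iv F52969)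
def n29577 : Q := act 2 n25815
theorem D29577 : act 2 n25815 = n29577 := rfl
theorem F63703 : act 0 n29577 = n25816 := d1_1 D29577 (iv D25816) D25815
theorem F63704 : act 1 n29577 = n27978 := d6_1 D29577 F59193 F48506 (iv F48537) F52979
theorem F63705 : act 4 n29577 = n26553 := d12_2 (iv F52977) D29577 (iv D26553)
theorem F63706 : act 5 n29577 = n26222 := d13_2 F53020 D29577 F54039
theorem F63707 : act 6 n29577 = n25828 := d14_2 (iv F52978) D29577 (iv D25828)
def n29578 : Q := act 3 n25816
theorem D29578 : act 3 n25816 = n29578 := rfl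
theorem F63708 : act 1 n29578 = n25852 := d7_1 D29578 (iv D25852) (iv F52980)
theorem F63709 : act 5 n29578 = n26221 := d16_2 F52983 D29578 F54038
theorem F63710 : act 6 n29578 = n25830 := d17_2 (iv F52982) D29578 (iv D25830)
def n29579 : Q := act 0 n25818
theorem D29579 : act 0 n25818 = n29579 := rfl
theorem F63711 : act 3 n29579 = n26555 := d2_2 (iv F52987) D29579 (iv D26555)
theorem F63712 : act 4 n29579 = n25820 := d3_2 (iv F52988) D29579 (iv D25820)
def n29580 : Q := act 5 n25818
theorem D29580 : act 5 n25818 = n29580 := rfl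
theorem F63713 : act 3 n29580 = n26557 := d16_1 D29580 (iv D26557) (iv F52987)
theorem F63714 : act 4 n29580 = n25822 := d18_1 D29580 (iv D25822) (iv F52988)
def n29581 : Q := act 0 n25819
theorem D29581 : act 0 n25819 = n29581 := rfl
theorem F63715 : act 3 n29581 = n25824 := d2_2 (iv F52989) D29581 (iv D25824)
theorem F63716 : act 4 n29581 = n27502 := d3_2 (iv F52990) D29581 F57810
theorem F63717 : act 6 n29581 = n26330 := d5_2 (iv F52991) D29581 (iv F54261)
def n29582 : Q := act 2 n25819
theorem D29582 : act 2 n25819 = n29582 := rfl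
theorem F63718 : act 1 n29582 = n27228 := d6_1 D29582 (iv D27228) (iv D23129) (iv F41561) D25819
theorem F63719 : act 4 n29582 = n27504 := d12_2 (iv F52990) D29582 F57815
theorem F63720 : act 6 n29582 = n27490 := d14_2 (iv F52991) D29582 (iv D27490)
def n29583 : Q := act 5 n25819
theorem D29583 : act 5 n25819 = n29583 := rfl
theorem F63721 : act 1 n29583 = n28572 := d9_1 D29583 (iv D28572) (iv D24703) (iv F41564) D25819
theorem F63722 : act 3 n29583 = n25826 := d16_1 D29583 (iv D25826) (iv F52989)
theorem F63723 : act 4 n29583 = n27505 := d18_1 D29583 (iv D27505) (iv F52990)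
def n29584 : Q := act 5 n25820
theorem D29584 : act 5 n25820 = n29584 := rfl
theorem F63724 : act 0 n29584 = n25822 := d4_1 D29584 (iv D25822) D25820
theorem F63725 : act 2 n29584 = n29578 := d13_1 D29584 F63709 F57423
theorem F63726 : act 3 n29584 = n25829 := d16_1 D29584 (iv D25829) (iv F52992)
theorem F63727 : act 6 n29584 = n29576 := d22_1 D29584 (iv D29576) F52970 D25820
theorem F63728 : act 1 n29584 = n28814 := d24_2 F63694 D29584 F61683 (iv F61090) (iv D28623) D28624 F61094 F61083 F57402 (iv F47211) (iv F50477) D28734 F61493 F63695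
def n29585 : Q := act 5 n25821
theorem D29585 : act 5 n25821 = n29585 := rfl
theorem F63729 : act 0 n29585 = n29578 := d4_1 D29585 F63709 (iv F57422)
theorem F63730 : act 2 n29585 = n25822 := d13_1 D29585 (iv D25822) D25821
theorem F63731 : act 3 n29585 = n29577 := d16_1 D29585 F63706 F57421
def n29586 : Q := act 6 n25822
theorem D29586 : act 6 n25822 = n29586 := rfl
theorem F63732 : act 0 n29586 = n29576 := d5_1 D29586 (iv F63727) F63724
theorem F63733 : act 3 n29586 = n25832 := d17_1 D29586 (iv D25832) (iv F52994)
theorem F63734 : act 5 n29586 = n29574 := d20_1 D29586 F63694 D29584 F63727 (iv D29576) F52970 D25822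
theorem F63735 : act 1 n27951 = n29586 := d7_3 F63733 (iv F53021) (iv F59122)
def n29587 : Q := act 2 n25823
theorem D29587 : act 2 n25823 = n29587 := rfl
theorem F63736 : act 1 n29587 = n27355 := d6_1 D29587 (iv D27355) (iv D23227) (iv F41567) D25823
theorem F63737 : act 3 n27455 = n29587 := d7_0 F63736 F61375 D27455
def n29588 : Q := act 6 n25823
theorem D29588 : act 6 n25823 = n29588 := rfl
theorem F63738 : act 1 n29588 = n28430 := d10_1 D29588 (iv D28430) F49835 (iv F41569) D25823
theorem F63739 : act 3 n29588 = n25834 := d17_1 D29588 (iv D25834) (iv F52995)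
theorem F63740 : act 4 n29588 = n29041 := d19_1 D29588 F62381 F58102
theorem F63741 : act 5 n29588 = n25934 := d22_2 F53284 D29588 (iv D25934) (iv F53282)
def n29589 : Q := act 3 n25825
theorem D29589 : act 3 n25825 = n29589 := rfl
theorem F63742 : act 0 n29589 = n27431 := d2_1 D29589 F57628 (iv F52999)
theorem F63743 : act 1 n29589 = n25835 := d7_1 D29589 (iv D25835) (iv F53000)
theorem F63744 : act 4 n29589 = n27429 := d15_2 (iv F53001) D29589 (iv D27429) F46332 (iv F42884)
theorem F63745 : act 6 n29589 = n27758 := d17_2 (iv F53002) D29589 (iv D27758)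
def n29590 : Q := act 3 n25828
theorem D29590 : act 3 n25828 = n29590 := rfl
theorem F63746 : act 0 n29590 = n25830 := d2_1 D29590 (iv D25830) (iv F53009)
theorem F63747 : act 2 n29590 = n29586 := d11_1 D29590 F63733 (iv F54039) F57421 (iv D25821) F41565 D21482 D25830 (iv F63701) F63702 F52985 (iv F54038) F57423 F52992 D25828
theorem F63748 : act 6 n29590 = n29585 := d17_2 F63707 D29590 F63731
def n29591 : Q := act 4 n25830
theorem D29591 : act 4 n25830 = n29591 := rfl
theorem F63749 : act 1 n29591 = n25838 := d8_1 D29591 (iv D25838) (iv F53015)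
theorem F63750 : act 3 n29591 = n26566 := d15_1 D29591 (iv D26566) (iv D22060) (iv F41574) D25830
def n29592 : Q := act 1 n25831
theorem D29592 : act 1 n25831 = n29592 := rfl
theorem F63751 : act 0 n29592 = n25862 := d0_1 D29592 (iv D25862) F41623 F28165 (iv F28171) D21512 (iv F42148) D26218 F54028
theorem F63752 : act 2 n29592 = n28108 := d6_2 (iv F53016) D29592 (iv F59579) F53261 (iv F41737)
theorem F63753 : act 3 n29592 = n27074 := d7_2 (iv F63698) D29592 (iv F63696)
theorem F63754 : act 4 n29592 = n26567 := d8_2 (iv F53017) D29592 (iv D26567)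
theorem F63755 : act 5 n29592 = n25840 := d9_2 D25831 D29592 (iv D25840) (iv D21488) (iv F41573)
theorem F63756 : act 6 n29592 = n27122 := d10_2 F54041 D29592 F56755 (iv F57417) F57420
def n29593 : Q := act 3 n25833
theorem D29593 : act 3 n25833 = n29593 := rfl
theorem F63757 : act 1 n29593 = n25841 := d7_1 D29593 (iv D25841) (iv F53022)
def n29594 : Q := act 2 n25835
theorem D29594 : act 2 n25835 = n29594 := rfl
theorem F63758 : act 0 n29594 = n28475 := d1_1 D29594 F60690 (iv F53027)
theorem F63759 : act 4 n29594 = n28753 := d12_2 F56672 D29594 F61525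
theorem F63760 : act 5 n29594 = n28470 := d13_2 (iv F53028) D29594 (iv D28470)
def n29595 : Q := act 2 n25836
theorem D29595 : act 2 n25836 = n29595 := rfl
theorem F63761 : act 0 n29595 = n25837 := d1_1 D29595 (iv D25837) (iv F53029)
theorem F63762 : act 5 n29595 = n28512 := d13_2 (iv F53030) D29595 (iv D28512)
theorem F63763 : act 6 n29595 = n25870 := d14_2 (iv F53031) D29595 (iv D25870)
theorem F63764 : act 3 n29595 = n29293 := d21_1 D29595 (iv D29293) (iv D25603) (iv D21330) F27964 D16258 D21487 (iv F53029)
def n29596 : Q := act 4 n25836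
theorem D29596 : act 4 n25836 = n29596 := rfl
theorem F63765 : act 0 n29596 = n25838 := d3_1 D29596 (iv D25838) (iv F53029)
theorem F63766 : act 3 n29596 = n26568 := d15_1 D29596 (iv D26568) (iv D22065) (iv F41581) D25836
theorem F63767 : act 5 n29596 = n28458 := d18_2 (iv F53030) D29596 F60628
theorem F63768 : act 6 n29596 = n25871 := d19_2 (iv F53031) D29596 (iv D25871)
def n29597 : Q := act 1 n25837
theorem D29597 : act 1 n25837 = n29597 := rfl
theorem F63769 : act 2 n29597 = n26223 := d6_2 D25837 D29597 (iv F63700) F63701 F53015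
theorem F63770 : act 5 n28403 = n29597 := d13_0 F63769 F54042 (iv F60481)
theorem F63771 : act 6 n26251 = n29597 := d14_0 F63769 F54043 D26251
theorem F63772 : act 3 n29597 = n28404 := d17_1 F63771 (iv F62367) F62366
def n29598 : Q := act 3 n25837
theorem D29598 : act 3 n25837 = n29598 := rfl
theorem F63773 : act 0 n29598 = n29293 := d2_1 D29598 (iv F63764) F63761
theorem F63774 : act 1 n29598 = n28404 := d7_1 D29598 (iv F63772) (iv D29597)
theorem F63775 : act 2 n29598 = n29292 := d11_1 D29598 (iv D29292) (iv D25602) F41260 D21486 D25836 D29595 F63764 (iv D29293) (iv D25603) (iv D21330) F27964 D16258 D21487 D25837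
theorem F63776 : act 6 n29598 = n25875 := d17_2 (iv F53032) D29598 (iv D25875)
theorem F63777 : act 5 n28394 = n29598 := d22_2 D29314 (iv F63044) F63776 F53112
theorem F63778 : act 4 n29598 = n29138 := d18_1 F63777 (iv D29138) (iv F60457)
def n29599 : Q := act 4 n25837
theorem D29599 : act 4 n25837 = n29599 := rfl
theorem F63779 : act 2 n29599 = n25838 := d12_1 D29599 (iv D25838) D25837
theorem F63780 : act 6 n29599 = n25876 := d19_2 (iv F53032) D29599 (iv D25876)
def n29600 : Q := act 5 n25837
theorem D29600 : act 5 n25837 = n29600 := rfl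
theorem F63781 : act 0 n29600 = n28512 := d4_1 D29600 (iv F63762) F63761
theorem F63782 : act 1 n29600 = n28395 := d9_1 D29600 F60459 (iv F60480) F63770 (iv D29597)
theorem F63783 : act 2 n29600 = n25839 := d13_1 D29600 (iv D25839) D25837
theorem F63784 : act 3 n29600 = n28394 := d16_1 D29600 F63777 (iv D29598)
def n29601 : Q := act 5 n25838
theorem D29601 : act 5 n25838 = n29601 := rfl
theorem F63785 : act 0 n29601 = n28458 := d4_1 D29601 (iv F63767) F63765
theorem F63786 : act 3 n29601 = n26570 := d16_1 D29601 (iv D26570) (iv F53033)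
theorem F63787 : act 4 n29601 = n25839 := d18_1 D29601 (iv D25839) D25838
def n29602 : Q := act 1 n25839
theorem D29602 : act 1 n25839 = n29602 := rfl
theorem F63788 : act 2 n29602 = n27075 := d6_2 F63783 D29602 (iv F60779) F60780 (iv F63782)
theorem F63789 : act 3 n29602 = n25840 := d7_2 (iv F53036) D29602 (iv D25840)
theorem F63790 : act 5 n29602 = n27074 := d9_2 D25839 D29602 (iv F63696) F63699 F53015
def n29603 : Q := act 0 n25840
theorem D29603 : act 0 n25840 = n29603 := rfl
theorem F63791 : act 4 n29603 = n26572 := d3_2 (iv F53037) D29603 (iv D26572)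
theorem F63792 : act 5 n29603 = n25862 := d4_2 F63755 D29603 (iv F63751)
theorem F63793 : act 1 n27899 = n29603 := d23_2 F58877 D27899 (iv D29603) (iv F63755) F63752 (iv F59579) (iv D25920) D25922 F53266 (iv F41877) (iv F53554) (iv D26052) D26051 F53552 (iv F58862) F58865 F58860 (iv F48029) (iv F58874)
def n29604 : Q := act 2 n25841
theorem D29604 : act 2 n25841 = n29604 := rfl
theorem F63794 : act 0 n29604 = n26116 := d1_1 D29604 F53718 (iv F53038)
theorem F63795 : act 6 n29604 = n26111 := d14_2 (iv F53039) D29604 (iv D26111)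
theorem F63796 : act 3 n29604 = n29456 := d21_1 D29604 F63379 F52767 F41424 F28036 (iv F28386) (iv F41989) (iv F53038)
def n29605 : Q := act 4 n25841
theorem D29605 : act 4 n25841 = n29605 := rfl
theorem F63797 : act 0 n29605 = n26117 := d3_1 D29605 F53720 (iv F53038)
theorem F63798 : act 3 n29605 = n26573 := d15_1 D29605 (iv D26573) (iv D22070) (iv F41589) D25841
theorem F63799 : act 6 n29605 = n26112 := d19_2 (iv F53039) D29605 (iv D26112)
def n29606 : Q := act 2 n25842
theorem D29606 : act 2 n25842 = n29606 := rfl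
theorem F63800 : act 0 n29606 = n25843 := d1_1 D29606 (iv D25843) D25842
theorem F63801 : act 1 n29606 = n27864 := d6_1 D29606 (iv D27864) (iv D23899) (iv F42255) F53042
theorem F63802 : act 4 n29606 = n26576 := d12_2 (iv F53040) D29606 (iv D26576)
theorem F63803 : act 5 n29606 = n25861 := d13_2 F53043 D29606 (iv D25861)
theorem F63804 : act 6 n29606 = n29606 := d14_2 F53041 D29606 (iv D29606)
def n29607 : Q := act 3 n25843
theorem D29607 : act 3 n25843 = n29607 := rfl
theorem F63805 : act 1 n29607 = n28011 := d7_1 D29607 F59300 (iv F53044)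
theorem F63806 : act 4 n29607 = n28012 := d15_2 (iv F53045) D29607 F59303 F48576 F43977
theorem F63807 : act 6 n29607 = n29607 := d17_2 F53046 D29607 (iv D29607)
theorem F63808 : act 5 n27571 = n29607 := d9_0 F63805 F59302 F59216 (iv D27572) D27571
def n29608 : Q := act 5 n25843
theorem D29608 : act 5 n25843 = n29608 := rfl
theorem F63809 : act 0 n29608 = n25861 := d4_1 D29608 (iv F63803) F63800
theorem F63810 : act 1 n29608 = n27570 := d9_1 D29608 (iv F59473) F59470 (iv F49211) (iv F53044)
theorem F63811 : act 2 n29608 = n25844 := d13_1 D29608 (iv D25844) D25843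
theorem F63812 : act 3 n29608 = n27571 := d16_1 D29608 F63808 (iv D29607)
theorem F63813 : act 4 n29608 = n26577 := d18_1 D29608 (iv D26577) (iv F53045)
theorem F63814 : act 6 n29608 = n25861 := d22_1 D29608 (iv F63803) F63804 F63800
def n29609 : Q := act 0 n25845
theorem D29609 : act 0 n25845 = n29609 := rfl
theorem F63815 : act 1 n29609 = n27036 := d0_2 D25845 D29609 (iv D27036) (iv D22844) F32163 (iv F42677) (iv F42851) F45096 F45092
theorem F63816 : act 2 n29609 = n27767 := d1_2 F58611 D29609 (iv F58609)
theorem F63817 : act 3 n29609 = n26579 := d2_2 (iv F53051) D29609 (iv D26579)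
theorem F63818 : act 4 n29609 = n25847 := d3_2 (iv F53052) D29609 (iv D25847)
theorem F63819 : act 5 n29609 = n27766 := d4_2 F56478 D29609 F58518
theorem F63820 : act 6 n29609 = n25853 := d5_2 (iv F53053) D29609 (iv D25853)
def n29610 : Q := act 1 n25847
theorem D29610 : act 1 n25847 = n29610 := rfl
theorem F63821 : act 0 n29610 = n25900 := d0_1 D29610 F53190 (iv F45060) (iv F54672) F54671 (iv D22880) F32255 D21493 D25847
theorem F63822 : act 3 n29610 = n25850 := d7_2 (iv F53055) D29610 (iv D25850)
theorem F63823 : act 4 n29610 = n27036 := d8_2 F63818 D29610 (iv F63815)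
theorem F63824 : act 6 n29610 = n25897 := d10_2 (iv F53056) D29610 (iv F56557) F56561 (iv D25855)
def n29611 : Q := act 2 n25847
theorem D29611 : act 2 n25847 = n29611 := rfl
theorem F63825 : act 0 n29611 = n25848 := d1_1 D29611 (iv D25848) D25847
theorem F63826 : act 4 n29611 = n27767 := d12_2 F63818 D29611 (iv F63816)
theorem F63827 : act 5 n29611 = n27538 := d13_2 F53088 D29611 F57892
theorem F63828 : act 6 n29611 = n25856 := d14_2 (iv F53056) D29611 (iv D25856)
def n29612 : Q := act 3 n25848
theorem D29612 : act 3 n25848 = n29612 := rfl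
theorem F63829 : act 6 n29612 = n25858 := d17_2 (iv F53057) D29612 (iv D25858)
def n29613 : Q := act 3 n25849
theorem D29613 : act 3 n25849 = n29613 := rfl
theorem F63830 : act 0 n29613 = n28499 := d2_1 D29613 F60744 (iv F53058)
theorem F63831 : act 4 n29613 = n27101 := d15_2 (iv F53059) D29613 F56690 F45388 F42972
theorem F63832 : act 6 n29613 = n27098 := d17_2 (iv F53060) D29613 F56684
def n29614 : Q := act 3 n25851
theorem D29614 : act 3 n25851 = n29614 := rfl
theorem F63833 : act 0 n29614 = n25852 := d2_1 D29614 (iv D25852) (iv F53065)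
theorem F63834 : act 1 n29614 = n28092 := d7_1 D29614 F59544 (iv F53066)
theorem F63835 : act 4 n29614 = n26372 := d15_2 (iv F53067) D29614 F54363 F42395 (iv F42980)
theorem F63836 : act 5 n29614 = n26371 := d16_2 (iv F53068) D29614 F54360
theorem F63837 : act 6 n29614 = n25863 := d17_2 (iv F53069) D29614 (iv D25863)
def n29615 : Q := act 2 n25852
theorem D29615 : act 2 n25852 = n29615 := rfl
theorem F63838 : act 1 n29615 = n28410 := d6_1 D29615 F61684 (iv F63728) F63725 F63708
theorem F63839 : act 6 n29615 = n25865 := d14_2 (iv F53070) D29615 (iv D25865)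
theorem F63840 : act 3 n29169 = n29615 := d7_0 F63838 F60496 D29169
theorem F63841 : act 4 n28411 = n29615 := d8_0 F63838 F60497 D28411
def n29616 : Q := act 4 n25852
theorem D29616 : act 4 n25852 = n29616 := rfl
theorem F63842 : act 0 n29616 = n26372 := d3_1 D29616 (iv F63835) F63833
theorem F63843 : act 2 n29616 = n28411 := d12_1 D29616 F63841 (iv D29615)
theorem F63844 : act 3 n29616 = n25972 := d15_1 D29616 F53388 (iv D22092) (iv F41608) D25852
theorem F63845 : act 5 n29616 = n25971 := d18_2 F62379 D29616 (iv F62378)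
theorem F63846 : act 6 n29616 = n25866 := d19_2 (iv F53070) D29616 (iv D25866)
def n29617 : Q := act 3 n25856
theorem D29617 : act 3 n25856 = n29617 := rfl
theorem F63847 : act 0 n29617 = n25858 := d2_1 D29617 (iv D25858) (iv F53079)
def n29618 : Q := act 2 n25858
theorem D29618 : act 2 n25858 = n29618 := rfl
def n29619 : Q := act 5 n25858
theorem D29619 : act 5 n25858 = n29619 := rfl
theorem F63848 : act 3 n29619 = n25859 := d16_1 D29619 (iv D25859) D25858
def n29620 : Q := act 1 n25861
theorem D29620 : act 1 n25861 = n29620 := rfl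
theorem F63849 : act 0 n29620 = n28108 := d0_1 D29620 (iv F59579) (iv D25920) (iv D21553) (iv F41725) F48665 (iv F57971) (iv F63810) F63809
theorem F63850 : act 2 n29620 = n25862 := d6_2 D25861 D29620 (iv D25862) (iv D21506) D21505
theorem F63851 : act 4 n29620 = n26585 := d8_2 (iv F53090) D29620 (iv D26585)
theorem F63852 : act 6 n29620 = n27129 := d10_2 F63814 D29620 F56773 D27570 (iv F63810)
theorem F63853 : act 3 n27130 = n29620 := d17_3 F63852 (iv D27129) D27130
def n29621 : Q := act 3 n25861
theorem D29621 : act 3 n25861 = n29621 := rfl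
theorem F63854 : act 0 n29621 = n27571 := d2_1 D29621 (iv F63812) F63809
theorem F63855 : act 1 n29621 = n27130 := d7_1 D29621 F63853 (iv D29620)
theorem F63856 : act 6 n29621 = n27571 := d17_2 F63814 D29621 (iv F63812)
def n29622 : Q := act 3 n25862
theorem D29622 : act 3 n25862 = n29622 := rfl
theorem F63857 : act 0 n29622 = n27074 := d2_1 D29622 (iv F63753) F63751
theorem F63858 : act 1 n29622 = n25863 := d7_1 D29622 (iv D25863) D25862
theorem F63859 : act 6 n29622 = n27120 := d17_2 (iv F53092) D29622 F56750
theorem F63860 : act 2 n29622 = n27073 := d21_4 (iv F56776) F63853 F63850 D29622 F56612 (iv F45460) (iv F56770) F56769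
def n29623 : Q := act 2 n25863
theorem D29623 : act 2 n25863 = n29623 := rfl
theorem F63861 : act 0 n29623 = n25865 := d1_1 D29623 (iv D25865) (iv F53093)
theorem F63862 : act 3 n29623 = n29618 := d21_1 D29623 (iv D29618) (iv D25858) (iv D21503) F28163 D16275 D21508 (iv F53093)
def n29624 : Q := act 4 n25863
theorem D29624 : act 4 n25863 = n29624 := rfl
theorem F63863 : act 0 n29624 = n25866 := d3_1 D29624 (iv D25866) (iv F53093)
theorem F63864 : act 3 n29624 = n26374 := d15_1 D29624 F54370 (iv D22100) (iv F41624) D25863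
theorem F63865 : act 6 n29624 = n26372 := d19_2 F63837 D29624 (iv F63835)
def n29625 : Q := act 5 n25863
theorem D29625 : act 5 n25863 = n29625 := rfl
theorem F63866 : act 0 n29625 = n25867 := d4_1 D29625 (iv D25867) (iv F53093)
theorem F63867 : act 3 n29625 = n25864 := d16_1 D29625 (iv D25864) D25863
theorem F63868 : act 6 n29625 = n29040 := d20_2 F63837 D29625 F62379 F53070 D25867 F54361 (iv F63836)
def n29626 : Q := act 1 n25864
theorem D29626 : act 1 n25864 = n29626 := rfl
theorem F63869 : act 0 n29626 = n27871 := d0_1 D29626 F59307 (iv D28013) (iv D24086) F37243 D24065 (iv F48518) F44117 (iv F53094)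
theorem F63870 : act 2 n29626 = n27862 := d6_2 (iv F53095) D29626 (iv D27862) F47987 F41628
theorem F63871 : act 4 n29626 = n26588 := d8_2 (iv F53096) D29626 (iv D26588)
theorem F63872 : act 5 n29626 = n27899 := d9_2 D25864 D29626 F63793 F63792 (iv D25862)
theorem F63873 : act 6 n29626 = n26210 := d10_2 (iv F53097) D29626 (iv D26210) F42135 (iv F52072)
def n29627 : Q := act 1 n25865
theorem D29627 : act 1 n25865 = n29627 := rfl
theorem F63874 : act 2 n29627 = n25874 := d6_2 D25865 D29627 (iv D25874) (iv D21515) (iv F41629)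
theorem F63875 : act 6 n29627 = n28357 := d10_2 F63839 D29627 F60359 D28410 (iv F63838)
theorem F63876 : act 3 n29013 = n29627 := d17_3 F63875 F60360 F62329
theorem F63877 : act 4 n28320 = n29627 := d19_3 F63875 (iv D28357) (iv F60272)
theorem F63878 : act 5 n29627 = n28319 := d18_2 D28320 F63877 (iv D28319)
def n29628 : Q := act 3 n25865
theorem D29628 : act 3 n25865 = n29628 := rfl
theorem F63879 : act 0 n29628 = n29618 := d2_1 D29628 (iv F63862) F63861
theorem F63880 : act 1 n29628 = n29013 := d7_1 D29628 F63876 (iv D29627)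
theorem F63881 : act 2 n29628 = n29617 := d11_1 D29628 (iv D29617) (iv D25856) F41619 D21506 D25863 D29623 F63862 (iv D29618) (iv D25858) (iv D21503) F28163 D16275 D21508 D25865
theorem F63882 : act 6 n29628 = n29169 := d17_2 F63839 D29628 F63840
theorem F63883 : act 4 n29014 = n29628 := d19_3 F63882 F62665 (iv F62332)
theorem F63884 : act 5 n29628 = n29032 := d18_2 (iv F62331) F63883 F62361
def n29629 : Q := act 4 n25865
theorem D29629 : act 4 n25865 = n29629 := rfl
theorem F63885 : act 1 n29629 = n28320 := d8_1 D29629 F63877 (iv D29627)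
theorem F63886 : act 2 n29629 = n25866 := d12_1 D29629 (iv D25866) D25865
theorem F63887 : act 3 n29629 = n28321 := d15_1 D29629 F60274 (iv F62330) F63883 (iv D29628)
theorem F63888 : act 6 n29629 = n28411 := d19_2 F63839 D29629 F63841
theorem F63889 : act 5 n28333 = n29629 := d16_0 F63887 F60275 (iv F60311)
def n29630 : Q := act 5 n25865
theorem D29630 : act 5 n25865 = n29630 := rfl
theorem F63890 : act 1 n29630 = n28332 := d9_1 D29630 (iv D28332) (iv F60269) (iv F63878) (iv D29627)
theorem F63891 : act 2 n29630 = n25867 := d13_1 D29630 (iv D25867) D25865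
theorem F63892 : act 3 n29630 = n29032 := d16_1 D29630 (iv F63884) (iv D29628)
theorem F63893 : act 4 n29630 = n28333 := d18_1 D29630 F63889 (iv D29629)
def n29631 : Q := act 4 n25868
theorem D29631 : act 4 n25868 = n29631 := rfl
theorem F63894 : act 3 n29631 = n26590 := d15_1 D29631 (iv D26590) (iv D22104) (iv F41636) D25868
theorem F63895 : act 5 n29631 = n28974 := d18_2 F53575 D29631 F62240
theorem F63896 : act 6 n29631 = n28954 := d19_2 (iv F53101) D29631 F62182
def n29632 : Q := act 1 n25870
theorem D29632 : act 1 n25870 = n29632 := rfl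
theorem F63897 : act 3 n29632 = n29312 := d7_2 (iv F53104) D29632 (iv D29312)
def n29633 : Q := act 4 n25870
theorem D29633 : act 4 n25870 = n29633 := rfl
theorem F63898 : act 0 n29633 = n25876 := d3_1 D29633 (iv D25876) (iv F53103)
theorem F63899 : act 2 n29633 = n25871 := d12_1 D29633 (iv D25871) D25870
def n29634 : Q := act 5 n25870
theorem D29634 : act 5 n25870 = n29634 := rfl
theorem F63900 : act 0 n29634 = n25877 := d4_1 D29634 (iv D25877) (iv F53103)
theorem F63901 : act 2 n29634 = n25872 := d13_1 D29634 (iv D25872) D25870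
theorem F63902 : act 3 n29634 = n29314 := d16_1 D29634 (iv D29314) (iv F53104)
theorem F63903 : act 6 n29634 = n29600 := d20_2 F63763 D29634 (iv D29600) F53032 D25877 (iv F60789) (iv F63762)
def n29635 : Q := act 5 n25871
theorem D29635 : act 5 n25871 = n29635 := rfl
theorem F63904 : act 0 n29635 = n25878 := d4_1 D29635 (iv D25878) (iv F53105)
theorem F63905 : act 3 n29635 = n26591 := d16_1 D29635 (iv D26591) (iv F53106)
theorem F63906 : act 4 n29635 = n25872 := d18_1 D29635 (iv D25872) D25871
theorem F63907 : act 6 n29635 = n29601 := d20_2 F63768 D29635 (iv D29601) F53034 D25878 (iv F60629) (iv F63767)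
def n29636 : Q := act 1 n25872
theorem D29636 : act 1 n25872 = n29636 := rfl
theorem F63908 : act 3 n29636 = n25873 := d7_2 (iv F53108) D29636 (iv D25873)
def n29637 : Q := act 0 n25874
theorem D29637 : act 0 n25874 = n29637 := rfl
def n29638 : Q := act 3 n25874
theorem D29638 : act 3 n25874 = n29638 := rfl
theorem F63909 : act 1 n29638 = n25875 := d7_1 D29638 (iv D25875) D25874
theorem F63910 : act 2 n28973 = n29638 := d6_0 F63909 F53113 F62224 (iv F62365) F62364
theorem F63911 : act 6 n28973 = n29638 := d10_0 F63909 (iv F63776) F63774 (iv F62367) F62364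
theorem F63912 : act 5 n28344 = n29638 := d24_1 D28344 F63909 (iv F63776) (iv F63777) (iv D28394) (iv F49801) (iv D24548) D24547 (iv F60276) F60275 (iv D24495) D24496 F49667 D24499
def n29639 : Q := act 4 n25874
theorem D29639 : act 4 n25874 = n29639 := rfl
theorem F63913 : act 1 n29639 = n25876 := d8_1 D29639 (iv D25876) D25874
theorem F63914 : act 2 n29639 = n28320 := d12_1 D29639 F63877 F63874
theorem F63915 : act 5 n28318 = n29639 := d13_0 F63914 (iv D28320) D28318
theorem F63916 : act 6 n28356 = n29639 := d14_0 F63914 F60272 D28356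
def n29640 : Q := act 5 n25874
theorem D29640 : act 5 n25874 = n29640 := rfl
theorem F63917 : act 2 n29640 = n28319 := d13_1 D29640 (iv F63878) F63874
theorem F63918 : act 3 n29640 = n28344 := d16_1 D29640 F63912 (iv D29638)
theorem F63919 : act 4 n29640 = n28318 := d18_1 D29640 F63915 (iv D29639)
theorem F63920 : act 6 n28342 = n29640 := d24_0 (iv D29640) (iv D25874) (iv F53032) D29600 F63782 (iv F60501) (iv D28412) D28411 (iv F63888) (iv F63889) (iv D28333) D28334 F60315 (iv F60329)
theorem F63921 : act 0 n29640 = n27912 := d5_1 F63920 (iv F62232) F62230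
theorem F63922 : act 1 n29640 = n28971 := d10_1 F63920 F62229 F59098 (iv F49673) (iv F60329)
theorem F63923 : act 5 n27912 = n29637 := d4_2 D29640 F63921 (iv D29637)
def n29641 : Q := act 6 n25874
theorem D29641 : act 6 n25874 = n29641 := rfl
theorem F63924 : act 1 n29641 = n26251 := d10_1 D29641 F63771 (iv D29597) F53032 D25874
theorem F63925 : act 2 n29641 = n28357 := d14_1 D29641 (iv F63875) F63874
theorem F63926 : act 3 n29641 = n28973 := d17_1 D29641 F63911 (iv D29638)
theorem F63927 : act 4 n29641 = n28356 := d19_1 D29641 F63916 (iv D29639)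
theorem F63928 : act 5 n29641 = n28972 := d22_2 (iv D29640) D29641 F62232 (iv F63921)
def n29642 : Q := act 4 n25875
theorem D29642 : act 4 n25875 = n29642 := rfl
theorem F63929 : act 0 n29642 = n29313 := d3_1 D29642 (iv D29313) (iv F53112)
theorem F63930 : act 2 n29642 = n29310 := d12_1 D29642 (iv D29310) (iv F53113)
theorem F63931 : act 6 n29642 = n29138 := d19_2 F63776 D29642 (iv F63778)
theorem F63932 : act 5 n29131 = n29642 := d22_0 F63931 (iv D29138) D29139 F62612
def n29643 : Q := act 5 n25875
theorem D29643 : act 5 n25875 = n29643 := rfl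
theorem F63933 : act 0 n29643 = n29314 := d4_1 D29643 (iv D29314) (iv F53112)
theorem F63934 : act 1 n29643 = n28391 := d9_1 D29643 F60449 (iv F60331) F63912 F63909
theorem F63935 : act 2 n29643 = n29311 := d13_1 D29643 (iv D29311) (iv F53113)
theorem F63936 : act 3 n29643 = n25877 := d16_1 D29643 (iv D25877) D25875
theorem F63937 : act 4 n29643 = n29131 := d18_1 D29643 F63932 (iv D29642)
def n29644 : Q := act 3 n25876
theorem D29644 : act 3 n25876 = n29644 := rfl
def n29645 : Q := act 5 n25876
theorem D29645 : act 5 n25876 = n29645 := rfl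
theorem F63938 : act 2 n29645 = n25878 := d13_1 D29645 (iv D25878) (iv F53114)
theorem F63939 : act 4 n29645 = n25877 := d18_1 D29645 (iv D25877) D25876
def n29646 : Q := act 1 n25877
theorem D29646 : act 1 n25877 = n29646 := rfl
theorem F63940 : act 3 n29646 = n28391 := d7_2 F63936 D29646 (iv F63934)
theorem F63941 : act 5 n29646 = n28971 := d9_2 D25877 D29646 (iv F63922) (iv D29640) (iv D25874)
theorem F63942 : act 6 n28388 = n29646 := d22_1 D28388 F63941 F62229 F59097
def n29647 : Q := act 0 n25879
theorem D29647 : act 0 n25879 = n29647 := rfl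
theorem F63943 : act 3 n29647 = n25880 := d2_2 (iv F53118) D29647 (iv D25880)
theorem F63944 : act 4 n29647 = n26386 := d3_2 F54397 D29647 (iv F54394)
theorem F63945 : act 5 n29647 = n27988 := d4_2 (iv F54391) D29647 (iv F59226)
theorem F63946 : act 6 n26384 = n29647 := d22_3 F54391 (iv D26385) D26384 (iv D29647)
theorem F63947 : act 1 n29647 = n26311 := d10_1 F63946 F54222 F59439 (iv D28058) (iv F54385)
def n29648 : Q := act 2 n25879
theorem D29648 : act 2 n25879 = n29648 := rfl
def n29649 : Q := act 6 n25879
theorem D29649 : act 6 n25879 = n29649 := rfl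
theorem F63948 : act 0 n29649 = n26384 := d5_1 D29649 F63946 (iv D29647)
theorem F63949 : act 3 n29649 = n25881 := d17_1 D29649 (iv D25881) (iv F53118)
theorem F63950 : act 4 n29649 = n26377 := d19_1 D29649 (iv F54398) F54397
theorem F63951 : act 5 n29649 = n26376 := d20_1 D29649 F59227 (iv F63945) (iv F63946) (iv D26384) D26385 (iv F54391)
def n29650 : Q := act 1 n25885
theorem D29650 : act 1 n25885 = n29650 := rfl
theorem F63952 : act 2 n29650 = n29161 := d6_2 (iv F53141) D29650 (iv F62653) F60724 (iv D25888)
theorem F63953 : act 3 n29650 = n28812 := d7_2 (iv F53142) D29650 (iv D28812)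
theorem F63954 : act 6 n29650 = n29083 := d10_2 D25885 D29650 (iv D29083) F52199 (iv F41656)
theorem F63955 : act 0 n28379 = n29650 := d1_3 F63952 (iv D29161) (iv F60414)
theorem F63956 : act 4 n29650 = n29110 := d3_2 (iv F60415) F63955 (iv D29110)
theorem F63957 : act 1 n29110 = n28433 := d8_1 F63956 F60564 D29650
theorem F63958 : act 6 n29110 = n28437 := d19_2 (iv F63954) F63956 (iv F62515)
theorem F63959 : act 0 n28437 = n29111 := d5_1 F63958 (iv D29111) D29110
theorem F63960 : act 3 n28435 = n29110 := d17_3 F63958 F60572 (iv F60567)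
theorem F63961 : act 0 n29109 = n28435 := d2_3 F63960 (iv D29110) (iv F62563)
theorem F63962 : act 6 n28440 = n29109 := d5_0 F63961 F60567 D28440
theorem F63963 : act 3 n29111 = n28440 := d17_3 F63962 F62563 D29111
def n29651 : Q := act 0 n25893
theorem D29651 : act 0 n25893 = n29651 := rfl
theorem F63964 : act 1 n29651 = n26546 := d0_2 D25893 D29651 F54829 F54677 (iv D25853) (iv D21501) F28159 D16292 D21533
theorem F63965 : act 2 n29651 = n27796 := d1_2 (iv F53166) D29651 (iv D27796)
theorem F63966 : act 3 n29651 = n26600 := d2_2 (iv F53167) D29651 (iv D26600)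
theorem F63967 : act 4 n29651 = n25897 := d3_2 (iv F53168) D29651 (iv D25897)
theorem F63968 : act 6 n29651 = n27036 := d5_2 (iv F53169) D29651 (iv D27036)
theorem F63969 : act 5 n29651 = n27755 := d22_0 (iv D27755) F47183 (iv F53169) D29651
def n29652 : Q := act 5 n25893
theorem D29652 : act 5 n25893 = n29652 := rfl
theorem F63970 : act 0 n29652 = n27755 := d4_1 D29652 (iv F63969) (iv D29651)
theorem F63971 : act 2 n29652 = n27797 := d13_1 D29652 (iv D27797) (iv F53166)
theorem F63972 : act 3 n29652 = n26602 := d16_1 D29652 (iv D26602) (iv F53167)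
theorem F63973 : act 4 n29652 = n25899 := d18_1 D29652 (iv D25899) (iv F53168)
theorem F63974 : act 6 n29652 = n27753 := d20_2 (iv F53169) D29652 F58463 (iv F63968) F63969 (iv D27755) F47183
def n29653 : Q := act 0 n25894
theorem D29653 : act 0 n25894 = n29653 := rfl
theorem F63975 : act 1 n29653 = n27753 := d0_2 D25894 D29653 (iv D27753) (iv D23639) F35877 D23638 F54167 (iv D26288) F42247
theorem F63976 : act 2 n29653 = n26863 := d1_2 (iv F53170) D29653 F55880
theorem F63977 : act 3 n29653 = n26604 := d2_2 (iv F53171) D29653 (iv D26604)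
theorem F63978 : act 4 n29653 = n25901 := d3_2 (iv F53172) D29653 (iv D25901)
theorem F63979 : act 5 n29653 = n25895 := d4_2 (iv F53173) D29653 (iv D25895)
theorem F63980 : act 6 n29653 = n26755 := d5_2 F55875 D29653 (iv F55870)
def n29654 : Q := act 2 n25897
theorem D29654 : act 2 n25897 = n29654 := rfl
theorem F63981 : act 0 n29654 = n25898 := d1_1 D29654 (iv D25898) D25897
theorem F63982 : act 4 n29654 = n27796 := d12_2 F63967 D29654 (iv F63965)
theorem F63983 : act 5 n29654 = n27904 := d13_2 F53185 D29654 (iv F59001)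
theorem F63984 : act 3 n27905 = n29654 := d16_3 F63983 (iv D27904) D27905
def n29655 : Q := act 5 n25898
theorem D29655 : act 5 n25898 = n29655 := rfl
theorem F63985 : act 0 n29655 = n27904 := d4_1 D29655 (iv F63983) F63981
theorem F63986 : act 2 n29655 = n25899 := d13_1 D29655 (iv D25899) D25898
theorem F63987 : act 3 n29655 = n27903 := d16_1 D29655 (iv F60162) F60161
theorem F63988 : act 4 n29655 = n27797 := d18_1 D29655 (iv D27797) (iv F53187)
theorem F63989 : act 6 n28937 = n29655 := d24_0 (iv D29655) F53186 (iv F51625) (iv D25209) F40243 (iv F39900) F39899 (iv F40470) F50997 (iv F58205) F58203 (iv F59315) (iv F59317) (iv F62123)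
def n29656 : Q := act 6 n25898
theorem D29656 : act 6 n25898 = n29656 := rfl
theorem F63990 : act 1 n29656 = n26883 := d10_1 D29656 F55938 F51799 F51625 (iv F53186)
theorem F63991 : act 2 n29656 = n25900 := d14_1 D29656 (iv D25900) D25898
theorem F63992 : act 4 n29656 = n27037 := d19_1 D29656 F56482 (iv F53187)
def n29657 : Q := act 6 n25899
theorem D29657 : act 6 n25899 = n29657 := rfl
theorem F63993 : act 0 n29657 = n27478 := d5_1 D29657 F57748 (iv F53188)
theorem F63994 : act 2 n29657 = n28937 := d14_1 D29657 F63989 F63986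
theorem F63995 : act 3 n29657 = n25910 := d17_1 D29657 (iv D25910) (iv F53189)
theorem F63996 : act 4 n29657 = n27753 := d19_1 D29657 (iv F63974) F63973
theorem F63997 : act 5 n29657 = n29610 := d20_1 D29657 F63824 (iv F53185) (iv F57748) F57747 (iv D25900) D25899
theorem F63998 : act 1 n25901 = n29657 := d24_14 (iv D29657) (iv D25899) (iv D21536) F28210 D16453 (iv F40741) (iv F40917) (iv D21175) D21174 F40913 D25387 (iv F53203) (iv D25904) (iv F53194)
def n29658 : Q := act 2 n25901
theorem D29658 : act 2 n25901 = n29658 := rfl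
theorem F63999 : act 0 n29658 = n25902 := d1_1 D29658 (iv D25902) D25901
theorem F64000 : act 1 n29658 = n28877 := d6_1 D29658 F61913 (iv F62123) (iv F63994) (iv F63998)
theorem F64001 : act 4 n29658 = n26863 := d12_2 F63978 D29658 (iv F63976)
theorem F64002 : act 5 n29658 = n25903 := d13_2 (iv F53194) D29658 (iv D25903)
def n29659 : Q := act 3 n25902
theorem D29659 : act 3 n25902 = n29659 := rfl
theorem F64003 : act 1 n29659 = n27406 := d7_1 D29659 F57570 (iv F53195)
theorem F64004 : act 5 n29659 = n25905 := d16_2 (iv F53197) D29659 (iv D25905)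
def n29660 : Q := act 3 n25903
theorem D29660 : act 3 n25903 = n29660 := rfl
theorem F64005 : act 0 n29660 = n25905 := d2_1 D29660 (iv D25905) (iv F53198)
theorem F64006 : act 1 n29660 = n27573 := d7_1 D29660 F57978 F53200
theorem F64007 : act 4 n29660 = n26395 := d15_2 (iv F53199) D29660 F54407 F42428 (iv F44129)
theorem F64008 : act 6 n29660 = n26393 := d17_2 F53201 D29660 F54404
def n29661 : Q := act 2 n25905
theorem D29661 : act 2 n25905 = n29661 := rfl
theorem F64009 : act 4 n29661 = n27591 := d12_2 F62186 D29661 (iv F62184)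
theorem F64010 : act 3 n29661 = n27786 := d21_1 D29661 F58592 F47419 (iv D21547) (iv F41698) D25903 D29660 F64005
theorem F64011 : act 1 n27590 = n29661 := d7_3 F64010 F58591 (iv F58016)
theorem F64012 : act 6 n27600 = n29661 := d17_0 F64010 F58593 (iv F58045)
def n29662 : Q := act 6 n25905
theorem D29662 : act 6 n25905 = n29662 := rfl
theorem F64013 : act 0 n29662 = n26393 := d5_1 D29662 (iv F64008) F64005
theorem F64014 : act 2 n29662 = n27600 := d14_1 D29662 F64012 (iv D29661)
theorem F64015 : act 3 n29662 = n25906 := d17_1 D29662 (iv D25906) D25905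
theorem F64016 : act 4 n29662 = n26224 := d19_1 D29662 (iv F62187) F62186
theorem F64017 : act 1 n26226 = n29662 := d8_3 F64016 F54045 D26226
def n29663 : Q := act 5 n25906
theorem D29663 : act 5 n25906 = n29663 := rfl
theorem F64018 : act 0 n29663 = n26862 := d4_1 D29663 (iv D26862) (iv F53208)
theorem F64019 : act 1 n29663 = n27050 := d9_1 D29663 F56523 F55641 (iv D26789) F53211
theorem F64020 : act 2 n29663 = n25907 := d13_1 D29663 (iv D25907) (iv F53209)
theorem F64021 : act 4 n29663 = n26788 := d18_1 D29663 (iv D26788) (iv F53210)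
theorem F64022 : act 6 n29663 = n29658 := d20_2 D25906 D29663 F64002 (iv F53201) D26862 F55879 F53197
def n29664 : Q := act 1 n25907
theorem D29664 : act 1 n25907 = n29664 := rfl
theorem F64023 : act 0 n29664 = n26291 := d0_1 D29664 F54175 F53188 (iv D25846) (iv F41600) (iv F41604) (iv F40915) D25388 (iv F53212)
theorem F64024 : act 3 n29664 = n25918 := d7_2 (iv F53213) D29664 (iv D25918)
theorem F64025 : act 4 n29664 = n27752 := d8_2 F55543 D29664 F58460
theorem F64026 : act 5 n29664 = n26289 := d9_2 D25907 D29664 (iv F54171) F46433 (iv F41699)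
theorem F64027 : act 6 n29664 = n26291 := d10_2 (iv F53214) D29664 F54175 D29657 (iv F63998)
def n29665 : Q := act 3 n25908
theorem D29665 : act 3 n25908 = n29665 := rfl
theorem F64028 : act 0 n29665 = n25909 := d2_1 D29665 (iv D25909) (iv F53215)
theorem F64029 : act 1 n29665 = n26431 := d7_1 D29665 F54494 F53219
theorem F64030 : act 4 n29665 = n27128 := d15_2 (iv F53216) D29665 F56770 F45461 F43103
theorem F64031 : act 5 n29665 = n29613 := d16_2 (iv F53217) D29665 (iv D29613)
theorem F64032 : act 6 n29665 = n26435 := d17_2 (iv F53218) D29665 F54504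
def n29666 : Q := act 2 n25909
theorem D29666 : act 2 n25909 = n29666 := rfl
theorem F64033 : act 4 n29666 = n27130 := d12_2 (iv F53220) D29666 F56776
theorem F64034 : act 6 n29666 = n27126 := d14_2 (iv F53221) D29666 (iv D27126)
def n29667 : Q := act 2 n25912
theorem D29667 : act 2 n25912 = n29667 := rfl
theorem F64035 : act 4 n29667 = n27713 := d12_2 (iv F53230) D29667 F58304
theorem F64036 : act 5 n29667 = n25914 := d13_2 (iv F53231) D29667 (iv D25914)
theorem F64037 : act 6 n29667 = n27236 := d14_2 (iv F53232) D29667 F57090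
theorem F64038 : act 1 n29667 = n27526 := d23_2 (iv F53231) D29667 F57869 (iv F57864) (iv F58023) (iv F58026) F57134 (iv F57127) (iv D27250) F45982 (iv D23134) F44939 F44937 F36093 F24590 (iv F24584) (iv F36085) (iv F47418) F47417
def n29668 : Q := act 3 n25914
theorem D29668 : act 3 n25914 = n29668 := rfl
theorem F64039 : act 0 n29668 = n29661 := d2_1 D29668 F64010 F58590
theorem F64040 : act 1 n29668 = n27544 := d7_1 D29668 F57901 (iv F53237)
theorem F64041 : act 2 n29668 = n29660 := d11_1 D29668 (iv D29660) (iv D25903) F41698 D21547 (iv F47419) (iv F58592) (iv F64010) (iv D29661) (iv D25905) (iv D21539) F28212 D16300 D21549 D25914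
def n29669 : Q := act 2 n25919
theorem D29669 : act 2 n25919 = n29669 := rfl
theorem F64042 : act 0 n29669 = n25924 := d1_1 D29669 (iv D25924) (iv F53259)
theorem F64043 : act 5 n29669 = n27551 := d13_2 (iv F53260) D29669 F57914
theorem F64044 : act 3 n29669 = n29345 := d21_1 D29669 (iv D29345) (iv D25644) (iv D21365) F27993 D16303 D21554 (iv F53259)
theorem F64045 : act 4 n27553 = n29669 := d15_0 F64044 (iv F63160) (iv F59630) F59631 F58154
def n29670 : Q := act 4 n25919
theorem D29670 : act 4 n25919 = n29670 := rfl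
theorem F64046 : act 0 n29670 = n25925 := d3_1 D29670 (iv D25925) (iv F53259)
theorem F64047 : act 1 n29670 = n27781 := d8_1 D29670 F58571 (iv F57967)
theorem F64048 : act 2 n29670 = n27553 := d12_1 D29670 F64045 (iv D29669)
theorem F64049 : act 3 n29670 = n26219 := d15_1 D29670 F54032 (iv D22157) (iv F41726) D25919
theorem F64050 : act 5 n29670 = n26216 := d18_2 (iv F53260) D29670 F54021
def n29671 : Q := act 3 n25920
theorem D29671 : act 3 n25920 = n29671 := rfl
theorem F64051 : act 0 n29671 = n25921 := d2_1 D29671 (iv D25921) D25920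
theorem F64052 : act 5 n29671 = n29593 := d16_2 (iv F53263) D29671 (iv D29593)
def n29672 : Q := act 2 n25921
theorem D29672 : act 2 n25921 = n29672 := rfl
def n29673 : Q := act 4 n25921
theorem D29673 : act 4 n25921 = n29673 := rfl
theorem F64053 : act 1 n29673 = n25925 := d8_1 D29673 (iv D25925) (iv F53264)
theorem F64054 : act 3 n29673 = n26615 := d15_1 D29673 (iv D26615) (iv D22159) (iv F41729) D25921
theorem F64055 : act 5 n29636 = n29673 := d16_0 F64054 F55080 (iv F63908)
def n29674 : Q := act 5 n25921
theorem D29674 : act 5 n25921 = n29674 := rfl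
theorem F64056 : act 0 n29674 = n29593 := d4_1 D29674 (iv F64052) F64051
theorem F64057 : act 1 n29674 = n29635 := d9_1 D29674 (iv D29635) F53275 (iv D25926) (iv F53264)
theorem F64058 : act 3 n29674 = n25922 := d16_1 D29674 (iv D25922) D25921
theorem F64059 : act 4 n29674 = n29636 := d18_1 D29674 F64055 (iv D29673)
def n29675 : Q := act 6 n25921
theorem D29675 : act 6 n25921 = n29675 := rfl
theorem F64060 : act 3 n29675 = n25923 := d17_1 D29675 (iv D25923) D25921
def n29676 : Q := act 6 n25922
theorem D29676 : act 6 n25922 = n29676 := rfl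
theorem F64061 : act 0 n29676 = n26759 := d5_1 D29676 F55557 (iv F53265)
theorem F64062 : act 2 n29676 = n25935 := d14_1 D29676 (iv D25935) (iv F53266)
theorem F64063 : act 4 n29676 = n26616 := d19_1 D29676 (iv D26616) (iv F53267)
theorem F64064 : act 5 n29676 = n28111 := d20_1 D29676 F59588 F53263 (iv F55557) F55556 (iv D25923) D25922
def n29677 : Q := act 1 n25923
theorem D29677 : act 1 n25923 = n29677 := rfl
theorem F64065 : act 0 n29677 = n29677 := d0_1 D29677 (iv D29677) F59589 (iv D28111) F48732 F37381 (iv F48732) D28111 (iv F59589)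
theorem F64066 : act 2 n29677 = n25985 := d6_2 (iv F53268) D29677 (iv D25985) F41805 (iv F41742)
theorem F64067 : act 4 n29677 = n26617 := d8_2 (iv F53269) D29677 (iv D26617)
theorem F64068 : act 5 n29677 = n25985 := d9_2 F55556 D29677 (iv D25985) (iv F43737) (iv F55554)
theorem F64069 : act 6 n29677 = n25928 := d10_2 D25923 D29677 (iv D25928) (iv D21556) D21553
def n29678 : Q := act 1 n25924
theorem D29678 : act 1 n25924 = n29678 := rfl
theorem F64070 : act 4 n29678 = n29186 := d8_2 F57917 D29678 F62701
theorem F64071 : act 6 n29678 = n29678 := d10_2 (iv F57913) D29678 (iv D29678) F57913 F57910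
def n29679 : Q := act 3 n25924
theorem D29679 : act 3 n25924 = n29679 := rfl
theorem F64072 : act 0 n29679 = n29345 := d2_1 D29679 (iv F64044) F64042
theorem F64073 : act 2 n29679 = n29340 := d11_1 D29679 (iv D29340) (iv D25642) F41334 D21552 D25919 D29669 F64044 (iv D29345) (iv D25644) (iv D21365) F27993 D16303 D21554 D25924
theorem F64074 : act 4 n29679 = n28106 := d15_2 F57917 D29679 (iv F59625) F59626 F58151
theorem F64075 : act 6 n29679 = n28104 := d17_2 (iv F57913) D29679 F59570
def n29680 : Q := act 5 n25924
theorem D29680 : act 5 n25924 = n29680 := rfl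
theorem F64076 : act 0 n29680 = n27551 := d4_1 D29680 (iv F64043) F64042
theorem F64077 : act 2 n29680 = n25926 := d13_1 D29680 (iv D25926) D25924
theorem F64078 : act 4 n29680 = n27549 := d18_1 D29680 (iv F57918) F57917
theorem F64079 : act 6 n29680 = n27547 := d22_3 D27550 (iv F57913) D29680 F57905
def n29681 : Q := act 1 n25927
theorem D29681 : act 1 n25927 = n29681 := rfl
theorem F64080 : act 0 n29681 = n29681 := d0_1 D29681 (iv D29681) F59493 (iv D28072) F48680 F37330 (iv F48680) D28072 (iv F59493)
theorem F64081 : act 2 n29681 = n29681 := d6_2 F57911 D29681 (iv D29681) (iv F57911) F57910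
theorem F64082 : act 3 n29681 = n25928 := d7_2 (iv F53277) D29681 (iv D25928)
theorem F64083 : act 5 n29681 = n25988 := d9_2 (iv F54012) D29681 (iv D25988) F42153 (iv F54009)
def n29682 : Q := act 2 n25929
theorem D29682 : act 2 n25929 = n29682 := rfl
theorem F64084 : act 0 n29682 = n25931 := d1_1 D29682 (iv D25931) (iv F53282)
theorem F64085 : act 5 n29682 = n29587 := d13_2 (iv F53284) D29682 (iv D29587)
theorem F64086 : act 3 n26762 = n29682 := d16_3 F64085 (iv F63737) (iv F57690)
theorem F64087 : act 4 n29682 = n26164 := d15_2 D26762 F64086 (iv D26164) F42080 D22371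
theorem F64088 : act 6 n29682 = n27670 := d17_2 (iv F55567) F64086 F58193
def n29683 : Q := act 4 n25929
theorem D29683 : act 4 n25929 = n29683 := rfl
theorem F64089 : act 0 n29683 = n25932 := d3_1 D29683 (iv D25932) (iv F53282)
theorem F64090 : act 1 n29683 = n29580 := d8_1 D29683 F63714 (iv F53283)
theorem F64091 : act 2 n29683 = n26164 := d12_1 D29683 (iv F64087) (iv D29682)
theorem F64092 : act 3 n29683 = n26619 := d15_1 D29683 (iv D26619) (iv D22164) (iv F41736) D25929
theorem F64093 : act 5 n29683 = n27630 := d18_2 (iv F53284) D29683 F58102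
def n29684 : Q := act 6 n25929
theorem D29684 : act 6 n25929 = n29684 := rfl
theorem F64094 : act 0 n29684 = n25934 := d5_1 D29684 (iv D25934) (iv F53282)
theorem F64095 : act 2 n29684 = n27670 := d14_1 D29684 (iv F64088) (iv D29682)
theorem F64096 : act 3 n29684 = n25930 := d17_1 D29684 (iv D25930) D25929
def n29685 : Q := act 5 n25931
theorem D29685 : act 5 n25931 = n29685 := rfl
theorem F64097 : act 0 n29685 = n29587 := d4_1 D29685 (iv F64085) F64084
theorem F64098 : act 1 n29685 = n26234 := d9_1 D29685 (iv D26234) F42175 (iv F42090) (iv F61764)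
theorem F64099 : act 2 n29685 = n25933 := d13_1 D29685 (iv D25933) D25931
theorem F64100 : act 3 n29685 = n26765 := d16_1 D29685 (iv D26765) (iv F61765)
theorem F64101 : act 4 n29685 = n26168 := d18_1 D29685 (iv D26168) (iv F61766)
theorem F64102 : act 6 n29685 = n29048 := d22_1 D29685 F62406 (iv F64088) F64084
def n29686 : Q := act 6 n25931
theorem D29686 : act 6 n25931 = n29686 := rfl
theorem F64103 : act 0 n29686 = n27670 := d5_1 D29686 (iv F64088) F64084
theorem F64104 : act 2 n29686 = n25934 := d14_1 D29686 (iv D25934) D25931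
theorem F64105 : act 3 n29686 = n26766 := d17_1 D29686 (iv D26766) (iv F61765)
theorem F64106 : act 4 n29686 = n26169 := d19_1 D29686 (iv D26169) (iv F61766)
def n29687 : Q := act 5 n25932
theorem D29687 : act 5 n25932 = n29687 := rfl
theorem F64107 : act 0 n29687 = n27630 := d4_1 D29687 (iv F64093) F64089
theorem F64108 : act 2 n29687 = n26168 := d13_1 D29687 (iv D26168) (iv F61760)
theorem F64109 : act 3 n29687 = n26622 := d16_1 D29687 (iv D26622) (iv F53288)
theorem F64110 : act 4 n29687 = n25933 := d18_1 D29687 (iv D25933) D25932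
def n29688 : Q := act 6 n25932
theorem D29688 : act 6 n25932 = n29688 := rfl
theorem F64111 : act 1 n29688 = n26004 := d10_1 D29688 (iv D26004) F41826 (iv F41749) (iv F53287)
theorem F64112 : act 2 n29688 = n26169 := d14_1 D29688 (iv D26169) (iv F61760)
theorem F64113 : act 3 n29688 = n26623 := d17_1 D29688 (iv D26623) (iv F53288)
theorem F64114 : act 4 n29688 = n25934 := d19_1 D29688 (iv D25934) D25932
theorem F64115 : act 5 n29688 = n29041 := d22_2 (iv D29687) D29688 F62381 (iv F64107)
def n29689 : Q := act 6 n25933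
theorem D29689 : act 6 n25933 = n29689 := rfl
theorem F64116 : act 0 n29689 = n29588 := d5_1 D29689 (iv D29588) (iv F53289)
theorem F64117 : act 2 n29689 = n29048 := d14_1 D29689 (iv F64102) F64099
theorem F64118 : act 3 n29689 = n25935 := d17_1 D29689 (iv D25935) (iv F53290)
theorem F64119 : act 5 n29689 = n29684 := d20_1 D29689 (iv D29684) F53284 D29588 F63741 (iv D25934) D25933
def n29690 : Q := act 1 n25938
theorem D29690 : act 1 n25938 = n29690 := rfl
def n29691 : Q := act 3 n25938
theorem D29691 : act 3 n25938 = n29691 := rfl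
theorem F64120 : act 0 n29691 = n25939 := d2_1 D29691 (iv D25939) D25938
def n29692 : Q := act 4 n25938
theorem D29692 : act 4 n25938 = n29692 := rfl
theorem F64121 : act 0 n29692 = n25940 := d3_1 D29692 (iv D25940) D25938
def n29693 : Q := act 5 n25938
theorem D29693 : act 5 n25938 = n29693 := rfl
theorem F64122 : act 0 n29693 = n25941 := d4_1 D29693 (iv D25941) D25938
def n29694 : Q := act 6 n25938
theorem D29694 : act 6 n25938 = n29694 := rfl
theorem F64123 : act 0 n29694 = n25942 := d5_1 D29694 (iv D25942) D25938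
theorem F64124 : act 2 n29694 = n28706 := d14_1 D29694 (iv F61730) F61729
def n29695 : Q := act 2 n25939
theorem D29695 : act 2 n25939 = n29695 := rfl
theorem F64125 : act 1 n29695 = n29352 := d6_1 D29695 (iv D29352) F52657 (iv F41751) (iv F53300)
theorem F64126 : act 5 n25939 = n29695 := d9_0 F64125 F63317 (iv D29423) F52713 (iv F53300)
theorem F64127 : act 3 n29695 = n25941 := d16_1 F64126 (iv D25941) D25939
def n29696 : Q := act 4 n25939
theorem D29696 : act 4 n25939 = n29696 := rfl
theorem F64128 : act 1 n29696 = n25943 := d8_1 D29696 (iv D25943) (iv F53300)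
def n29697 : Q := act 6 n25939
theorem D29697 : act 6 n25939 = n29697 := rfl
theorem F64129 : act 1 n29697 = n26030 := d10_1 D29697 (iv D26030) F41854 (iv F41752) (iv F53300)
theorem F64130 : act 3 n29697 = n25942 := d17_1 D29697 (iv D25942) D25939
def n29698 : Q := act 3 n25940
theorem D29698 : act 3 n25940 = n29698 := rfl
theorem F64131 : act 1 n29698 = n25944 := d7_1 D29698 (iv D25944) (iv F53301)
def n29699 : Q := act 5 n25940
theorem D29699 : act 5 n25940 = n29699 := rfl
theorem F64132 : act 4 n29699 = n25941 := d18_1 D29699 (iv D25941) D25940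
def n29700 : Q := act 6 n25940
theorem D29700 : act 6 n25940 = n29700 := rfl
theorem F64133 : act 1 n29700 = n26033 := d10_1 D29700 (iv D26033) F41855 (iv F41754) (iv F53301)
theorem F64134 : act 2 n29700 = n28703 := d14_1 D29700 (iv F61724) F61722
theorem F64135 : act 4 n29700 = n25942 := d19_1 D29700 (iv D25942) D25940
def n29701 : Q := act 1 n25941
theorem D29701 : act 1 n25941 = n29701 := rfl
theorem F64136 : act 3 n29701 = n29352 := d7_2 F64127 D29701 (iv F64125)
theorem F64137 : act 5 n29701 = n25946 := d9_2 D25941 D29701 (iv D25946) (iv D21566) D21563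
def n29702 : Q := act 6 n25941
theorem D29702 : act 6 n25941 = n29702 := rfl
theorem F64138 : act 5 n29702 = n29694 := d22_2 D25941 D29702 (iv D29694) (iv D25938)
def n29703 : Q := act 5 n25942
theorem D29703 : act 5 n25942 = n29703 := rfl
theorem F64139 : act 0 n29703 = n29702 := d4_1 D29703 F64138 F64123
theorem F64140 : act 2 n29703 = n28707 := d13_1 D29703 (iv D28707) (iv F53303)
theorem F64141 : act 6 n29703 = n29693 := d20_2 D25942 D29703 (iv D29693) D29694 (iv F64138) (iv D29702) (iv D25941)
theorem F64142 : act 1 n26265 = n29693 := d24_14 (iv F64141) (iv D29703) F53302 (iv D21619) D21618 D26034 (iv F63437) F63436 F63434 F55131 F54102 (iv D26253) D26257 (iv F54120)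
def n29704 : Q := act 3 n25943
theorem D29704 : act 3 n25943 = n29704 := rfl
theorem F64143 : act 0 n29704 = n29358 := d2_1 D29704 (iv D29358) (iv F53304)
theorem F64144 : act 4 n29704 = n25944 := d15_2 D25943 D29704 (iv D25944) (iv D21565) D21564
theorem F64145 : act 6 n29704 = n26037 := d17_2 (iv F53306) D29704 (iv D26037)
def n29705 : Q := act 2 n25944
theorem D29705 : act 2 n25944 = n29705 := rfl
theorem F64146 : act 0 n29705 = n29470 := d1_1 D29705 F63430 F61758
theorem F64147 : act 6 n29705 = n26040 := d14_2 (iv F53307) D29705 (iv D26040)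
def n29706 : Q := act 5 n25944
theorem D29706 : act 5 n25944 = n29706 := rfl
theorem F64148 : act 0 n29706 = n29498 := d4_1 D29706 (iv D29498) F61758
theorem F64149 : act 3 n29706 = n25945 := d16_1 D29706 (iv D25945) D25944
def n29707 : Q := act 1 n25945
theorem D29707 : act 1 n25945 = n29707 := rfl
theorem F64150 : act 4 n29707 = n25946 := d8_2 (iv F53309) D29707 (iv D25946)
def n29708 : Q := act 0 n25946
theorem D29708 : act 0 n25946 = n29708 := rfl
def n29709 : Q := act 2 n25946
theorem D29709 : act 2 n25946 = n29709 := rfl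
theorem F64151 : act 1 n29709 = n25949 := d6_1 D29709 (iv D25949) (iv D21568) (iv F41755) D25946
def n29710 : Q := act 6 n25946
theorem D29710 : act 6 n25946 = n29710 := rfl
theorem F64152 : act 3 n29710 = n29363 := d17_1 D29710 (iv F63316) F63315
def n29711 : Q := act 0 n25947
theorem D29711 : act 0 n25947 = n29711 := rfl
theorem F64153 : act 3 n29711 = n26638 := d2_2 (iv F53310) D29711 (iv D26638)
theorem F64154 : act 4 n29711 = n25948 := d3_2 (iv F53311) D29711 (iv D25948)
theorem F64155 : act 5 n29711 = n28641 := d4_2 F61735 D29711 (iv F61732)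
theorem F64156 : act 2 n28635 = n29711 := d13_3 F64155 (iv D28641) (iv F61134)
def n29712 : Q := act 2 n25947
theorem D29712 : act 2 n25947 = n29712 := rfl
theorem F64157 : act 0 n29712 = n28635 := d1_1 D29712 F64156 (iv D29711)
theorem F64158 : act 4 n29712 = n25949 := d12_2 (iv F53311) D29712 (iv D25949)
theorem F64159 : act 5 n29712 = n28640 := d13_2 F61735 D29712 F61736
def n29713 : Q := act 6 n25947
theorem D29713 : act 6 n25947 = n29713 := rfl
theorem F64160 : act 1 n29713 = n27112 := d10_1 D29713 (iv D27112) F45412 F41847 D25947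
theorem F64161 : act 3 n29713 = n26639 := d17_1 D29713 (iv D26639) (iv F53310)
theorem F64162 : act 4 n29713 = n25950 := d19_1 D29713 (iv D25950) (iv F53311)
def n29714 : Q := act 1 n25948
theorem D29714 : act 1 n25948 = n29714 := rfl
theorem F64163 : act 3 n29714 = n25951 := d7_2 (iv F53312) D29714 (iv D25951)
theorem F64164 : act 5 n29714 = n27956 := d9_2 F61745 D29714 F59135 D27959 F61746
def n29715 : Q := act 2 n25948
theorem D29715 : act 2 n25948 = n29715 := rfl
theorem F64165 : act 0 n29715 = n25949 := d1_1 D29715 (iv D25949) D25948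
theorem F64166 : act 4 n29715 = n28635 := d12_2 F64154 D29715 F64156
theorem F64167 : act 5 n29715 = n28639 := d13_2 F61745 D29715 F61747
theorem F64168 : act 1 n28634 = n29715 := d9_5 F64167 (iv D28639) (iv D24759) (iv F50298) D28634
def n29716 : Q := act 6 n25948
theorem D29716 : act 6 n25948 = n29716 := rfl
theorem F64169 : act 0 n29716 = n25950 := d5_1 D29716 (iv D25950) D25948
theorem F64170 : act 3 n29716 = n25953 := d17_1 D29716 (iv D25953) (iv F53312)
theorem F64171 : act 5 n29716 = n28836 := d22_2 F61745 D29716 (iv D28836) D28834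
def n29717 : Q := act 3 n25949
theorem D29717 : act 3 n25949 = n29717 := rfl
def n29718 : Q := act 6 n25949
theorem D29718 : act 6 n25949 = n29718 := rfl
theorem F64172 : act 2 n29718 = n25950 := d14_1 D29718 (iv D25950) D25949
def n29719 : Q := act 5 n25950
theorem D29719 : act 5 n25950 = n29719 := rfl
theorem F64173 : act 0 n29719 = n28836 := d4_1 D29719 (iv F64171) F64169
theorem F64174 : act 3 n29719 = n25956 := d16_1 D29719 (iv D25956) (iv F53313)
theorem F64175 : act 6 n29719 = n28834 := d20_2 D25950 D29719 F61745 D29716 F64171 (iv D28836) F50670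
theorem F64176 : act 1 n29719 = n28449 := d24_2 D25950 D29719 (iv D28449) (iv D24579) (iv D20214) (iv D14980) F20416 F13951 D9353 F17237 (iv F17837) (iv F21559) D16310 D21568
def n29720 : Q := act 5 n25955
theorem D29720 : act 5 n25955 = n29720 := rfl
theorem F64177 : act 0 n29720 = n26055 := d4_1 D29720 F53565 (iv F53329)
theorem F64178 : act 2 n29720 = n25956 := d13_1 D29720 (iv D25956) (iv F53330)
theorem F64179 : act 3 n29720 = n28913 := d16_1 D29720 F62041 (iv F53331)
theorem F64180 : act 4 n29720 = n26642 := d18_1 D29720 (iv D26642) (iv F53332)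
theorem F64181 : act 6 n29720 = n27898 := d20_2 D25955 D29720 F58987 (iv F53320) (iv F53565) F53566 F50680
def n29721 : Q := act 6 n25960
theorem D29721 : act 6 n25960 = n29721 := rfl
theorem F64182 : act 0 n29721 = n25965 := d5_1 D29721 (iv D25965) (iv F53349)
theorem F64183 : act 1 n29721 = n28467 := d10_1 D29721 (iv D28467) F49927 (iv F44087) (iv F53350)
theorem F64184 : act 2 n29721 = n25962 := d14_1 D29721 (iv D25962) D25960
theorem F64185 : act 3 n29721 = n29375 := d17_1 D29721 (iv D29375) (iv F53352)
theorem F64186 : act 4 n29721 = n26853 := d19_1 D29721 (iv D26853) (iv F53356)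
theorem F64187 : act 5 n29721 = n27596 := d20_1 D29721 (iv D27596) F46645 D25965 (iv F60062) F60063 (iv F53351)
def n29722 : Q := act 1 n25962
theorem D29722 : act 1 n25962 = n29722 := rfl
theorem F64188 : act 0 n29722 = n29722 := d0_1 D29722 (iv D29722) F53362 D25967 (iv F58202) F58203 F58202 (iv D25967) (iv F53362)
theorem F64189 : act 2 n29722 = n28468 := d6_2 F64184 D29722 (iv D28468) (iv F60664) (iv F64183)
theorem F64190 : act 3 n29722 = n25963 := d7_2 (iv F53363) D29722 (iv D25963)
theorem F64191 : act 6 n29722 = n28468 := d10_2 D25962 D29722 (iv D28468) (iv D24602) (iv F41772)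
def n29723 : Q := act 5 n25963
theorem D29723 : act 5 n25963 = n29723 := rfl
theorem F64192 : act 0 n29723 = n29723 := d4_1 D29723 (iv D29723) F53365
theorem F64193 : act 1 n29723 = n28686 := d9_1 D29723 F61299 (iv D25959) (iv F41776) D25963
theorem F64194 : act 2 n29723 = n28469 := d13_1 D29723 (iv D28469) (iv F53366)
theorem F64195 : act 4 n29723 = n26643 := d18_1 D29723 (iv D26643) (iv F53367)
theorem F64196 : act 6 n29723 = n28469 := d22_1 D29723 (iv D28469) (iv F53368) F53365
def n29724 : Q := act 6 n25964
theorem D29724 : act 6 n25964 = n29724 := rfl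
theorem F64197 : act 0 n29724 = n29375 := d5_1 D29724 (iv D29375) (iv F53369)
theorem F64198 : act 2 n29724 = n29373 := d14_1 D29724 (iv D29373) (iv F53370)
theorem F64199 : act 3 n29724 = n25965 := d17_1 D29724 (iv D25965) D25964
def n29725 : Q := act 1 n25965
theorem D29725 : act 1 n25965 = n29725 := rfl
theorem F64200 : act 2 n29725 = n27428 := d6_2 (iv F53371) D29725 F57622 F53378 (iv D25967)
theorem F64201 : act 4 n29725 = n27738 := d8_2 F58598 D29725 (iv F58595)
theorem F64202 : act 5 n29725 = n27427 := d9_2 F60062 D29725 (iv F60021) F60023 (iv F60060)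
theorem F64203 : act 6 n29725 = n27597 := d10_2 D25965 D29725 (iv D27597) F46650 (iv F46646)
theorem F64204 : act 0 n29725 = n27419 := d23_3 (iv D25968) (iv F53371) D29725 F57603 (iv F57613) F57616 (iv D25086) F39336 F35042 (iv F39998) (iv F45304) (iv F56390) (iv F56392) F45307 (iv F45185) F45189 D27045 (iv F56507) (iv F53379)
def n29726 : Q := act 1 n25968
theorem D29726 : act 1 n25968 = n29726 := rfl
theorem F64205 : act 2 n29726 = n28209 := d6_2 F60061 D29726 F59876 (iv F49369) (iv F60060)
theorem F64206 : act 3 n29726 = n25970 := d7_2 (iv F53380) D29726 (iv D25970)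
theorem F64207 : act 4 n29726 = n28208 := d8_2 F58744 D29726 F59873
def n29727 : Q := act 1 n25969
theorem D29727 : act 1 n25969 = n29727 := rfl
theorem F64208 : act 2 n29727 = n27937 := d6_2 (iv F53382) D29727 (iv D27937) F48392 D24019
theorem F64209 : act 4 n29727 = n26644 := d8_2 (iv F53383) D29727 (iv D26644)
theorem F64210 : act 5 n29727 = n25970 := d9_2 D25969 D29727 (iv D25970) (iv D21581) D21580
def n29728 : Q := act 0 n25970
theorem D29728 : act 0 n25970 = n29728 := rfl
theorem F64211 : act 4 n29728 = n26645 := d3_2 (iv F53384) D29728 (iv D26645)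
def n29729 : Q := act 2 n25971
theorem D29729 : act 2 n25971 = n29729 := rfl
theorem F64212 : act 0 n29729 = n26370 := d1_1 D29729 (iv D26370) (iv F53385)
theorem F64213 : act 1 n29729 = n27476 := d6_1 D29729 (iv D27476) F46416 (iv F41789) (iv F53386)
theorem F64214 : act 5 n29729 = n28411 := d13_2 F63845 D29729 (iv F63843)
theorem F64215 : act 3 n29729 = n28414 := d21_1 D29729 F60506 (iv F60297) (iv D26294) (iv D21802) (iv F28607) D21854 (iv F53385)
def n29730 : Q := act 6 n25971
theorem D29730 : act 6 n25971 = n29730 := rfl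
theorem F64216 : act 0 n29730 = n26373 := d5_1 D29730 (iv D26373) (iv F53385)
theorem F64217 : act 3 n29730 = n25973 := d17_1 D29730 (iv D25973) D25971
theorem F64218 : act 4 n29730 = n29625 := d19_1 D29730 F63868 F62378
theorem F64219 : act 5 n29730 = n29624 := d20_1 D29730 F63865 (iv D26372) D26373 (iv F54367) (iv F63846) F63845
def n29731 : Q := act 1 n25972
theorem D29731 : act 1 n25972 = n29731 := rfl
theorem F64220 : act 2 n29731 = n27846 := d6_2 F53981 D29731 F58821 (iv F58995) F58998
theorem F64221 : act 4 n29731 = n26554 := d8_2 (iv F53388) D29731 F54859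
theorem F64222 : act 5 n29731 = n25976 := d9_2 D25972 D29731 (iv D25976) (iv D21584) D21582
theorem F64223 : act 6 n29731 = n26566 := d10_2 (iv F53389) D29731 F54898 F42910 (iv F43007)
theorem F64224 : act 0 n29731 = n28049 := d23_3 D26207 F53981 D29731 (iv D28049) (iv D24109) (iv D19780) (iv D14530) F20042 D11300 F20047 (iv F20061) (iv F21726) (iv D12318) F17914 (iv D10069) (iv F17893) D12302 D16460 F42129
def n29732 : Q := act 1 n25974
theorem D29732 : act 1 n25974 = n29732 := rfl
theorem F64225 : act 3 n29732 = n25976 := d7_2 (iv F53394) D29732 (iv D25976)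
theorem F64226 : act 4 n29732 = n26221 := d8_2 (iv F53395) D29732 (iv D26221)
theorem F64227 : act 6 n29732 = n27848 := d10_2 (iv F53396) D29732 F58829 F54013 F54009
theorem F64228 : act 0 n28048 = n29732 := d3_3 F64226 (iv F57422) (iv F59404)
theorem F64229 : act 2 n29579 = n29732 := d12_3 F64226 F57423 (iv F63712)
def n29733 : Q := act 1 n25975
theorem D29733 : act 1 n25975 = n29733 := rfl
theorem F64230 : act 3 n29733 = n25977 := d7_2 (iv F53399) D29733 (iv D25977)
theorem F64231 : act 0 n27865 = n29733 := d2_3 F64230 (iv F53407) D27865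
def n29734 : Q := act 5 n25977
theorem D29734 : act 5 n25977 = n29734 := rfl
theorem F64232 : act 0 n29734 = n27866 := d4_1 D29734 (iv D27866) F53407
theorem F64233 : act 1 n29734 = n26105 := d9_1 D29734 F53701 F52111 (iv F41797) D25977
theorem F64234 : act 2 n29734 = n27863 := d13_1 D29734 F58882 (iv F53405)
theorem F64235 : act 4 n29734 = n26646 := d18_1 D29734 (iv D26646) (iv F53406)
theorem F64236 : act 6 n29734 = n27927 := d20_2 F59068 D29734 F59062 F58885 D27866 (iv F58889) D27930
def n29735 : Q := act 6 n25978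
theorem D29735 : act 6 n25978 = n29735 := rfl
theorem F64237 : act 0 n29735 = n25982 := d5_1 D29735 (iv D25982) (iv F53408)
theorem F64238 : act 1 n29735 = n28001 := d10_1 D29735 F59279 F59223 (iv D26378) (iv F53409)
theorem F64239 : act 2 n29735 = n27625 := d14_1 D29735 (iv D27625) (iv F53410)
theorem F64240 : act 3 n29735 = n25979 := d17_1 D29735 (iv D25979) D25978
theorem F64241 : act 4 n29735 = n28002 := d19_1 D29735 F59282 (iv F53411)
def n29736 : Q := act 1 n25981
theorem D29736 : act 1 n25981 = n29736 := rfl
theorem F64242 : act 3 n29736 = n25983 := d7_2 (iv F53422) D29736 (iv D25983)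
theorem F64243 : act 4 n29736 = n27852 := d8_2 (iv F53423) D29736 F58842
theorem F64244 : act 5 n29736 = n25987 := d9_2 D25981 D29736 (iv D25987) (iv D21591) (iv F41801)
def n29737 : Q := act 6 n25981
theorem D29737 : act 6 n25981 = n29737 := rfl
theorem F64245 : act 0 n29737 = n26160 := d5_1 D29737 (iv F53861) F53708
theorem F64246 : act 2 n29737 = n27628 := d14_1 D29737 (iv D27628) (iv F53421)
theorem F64247 : act 3 n29737 = n25984 := d17_1 D29737 (iv D25984) (iv F53422)
theorem F64248 : act 4 n29737 = n26154 := d19_1 D29737 F53849 (iv F53423)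
theorem F64249 : act 5 n29737 = n29735 := d20_1 D29737 (iv D29735) (iv F53710) F53861 (iv F53860) (iv D25982) D25981
theorem F64250 : act 1 n27756 = n29737 := d9_5 F64249 F64238 (iv D28001) F57767 (iv F58476)
def n29738 : Q := act 1 n25982
theorem D29738 : act 1 n25982 = n29738 := rfl
theorem F64251 : act 0 n29738 = n29738 := d0_1 D29738 (iv D29738) (iv F64237) F64238 F59276 F48570 (iv F59276) (iv F64238) F64237
theorem F64252 : act 2 n29738 = n29738 := d6_2 (iv F53424) D29738 (iv D29738) F53424 F46689
theorem F64253 : act 3 n29738 = n25985 := d7_2 (iv F53425) D29738 (iv D25985)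
theorem F64254 : act 6 n29738 = n25988 := d10_2 D25982 D29738 (iv D25988) (iv D21592) (iv F41801)
def n29739 : Q := act 1 n25986
theorem D29739 : act 1 n25986 = n29739 := rfl
theorem F64255 : act 3 n29739 = n26211 := d7_2 (iv F53437) D29739 (iv D26211)
theorem F64256 : act 4 n29739 = n25987 := d8_2 (iv F53438) D29739 (iv D25987)
theorem F64257 : act 5 n29739 = n27852 := d9_2 D25986 D29739 F58842 F53420 F53417
theorem F64258 : act 0 n27977 = n29739 := d3_3 F64256 (iv F57655) (iv F59191)
def n29740 : Q := act 6 n25987
theorem D29740 : act 6 n25987 = n29740 := rfl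
theorem F64259 : act 1 n29740 = n26092 := d10_1 D29740 (iv F62404) F62402 F52117 D25987
theorem F64260 : act 3 n29740 = n25991 := d17_1 D29740 (iv D25991) (iv F53440)
theorem F64261 : act 5 n26070 = n29740 := d16_0 F64260 (iv F53451) D26070
def n29741 : Q := act 6 n25989
theorem D29741 : act 6 n25989 = n29741 := rfl
theorem F64262 : act 0 n29741 = n25991 := d5_1 D29741 (iv D25991) D25989
theorem F64263 : act 1 n29741 = n28049 := d10_1 D29741 F59408 (iv F59475) F59478 F57653
theorem F64264 : act 2 n29741 = n26060 := d14_1 D29741 (iv F53617) F53615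
theorem F64265 : act 4 n29741 = n26648 := d19_1 D29741 (iv D26648) (iv F53444)
theorem F64266 : act 5 n29741 = n26068 := d20_1 D29741 (iv F53603) F53427 D25991 (iv F53451) D26071 (iv F53613)
def n29742 : Q := act 3 n25990
theorem D29742 : act 3 n25990 = n29742 := rfl
theorem F64267 : act 1 n29742 = n25992 := d7_1 D29742 (iv D25992) (iv F53445)
theorem F64268 : act 6 n29742 = n26058 := d17_2 F53447 D29742 F53577
theorem F64269 : act 2 n29742 = n26070 := d21_2 D25990 D29742 (iv D26070) (iv D21642) (iv F41906) D26063 (iv F57654) (iv D25989)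
def n29743 : Q := act 2 n25992
theorem D29743 : act 2 n25992 = n29743 := rfl
theorem F64270 : act 1 n29743 = n26078 := d6_1 D29743 (iv D26078) (iv F53609) (iv F64269) F64267
theorem F64271 : act 5 n29743 = n26020 := d13_2 (iv F53452) D29743 (iv D26020)
theorem F64272 : act 6 n29743 = n28374 := d14_2 (iv F53453) D29743 F60402
theorem F64273 : act 3 n28376 = n29743 := d17_3 F64272 (iv D28374) D28376
def n29744 : Q := act 4 n25992
theorem D29744 : act 4 n25992 = n29744 := rfl
theorem F64274 : act 3 n29744 = n26649 := d15_1 D29744 (iv D26649) (iv D22209) (iv F41815) D25992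
theorem F64275 : act 5 n29744 = n26021 := d18_2 (iv F53452) D29744 (iv D26021)
theorem F64276 : act 6 n29744 = n27555 := d19_2 (iv F53453) D29744 F57926
def n29745 : Q := act 4 n25993
theorem D29745 : act 4 n25993 = n29745 := rfl
theorem F64277 : act 0 n29745 = n26317 := d3_1 D29745 (iv D26317) (iv F53454)
theorem F64278 : act 1 n29745 = n25995 := d8_1 D29745 (iv D25995) (iv F53455)
theorem F64279 : act 2 n29745 = n27524 := d12_1 D29745 (iv D27524) F53456
theorem F64280 : act 3 n29745 = n26141 := d15_1 D29745 F53799 (iv D22210) (iv F41820) D25993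
theorem F64281 : act 5 n29745 = n26140 := d18_2 F62179 D29745 (iv F62178)
def n29746 : Q := act 6 n25993
theorem D29746 : act 6 n25993 = n29746 := rfl
theorem F64282 : act 0 n29746 = n26319 := d5_1 D29746 (iv D26319) (iv F53454)
theorem F64283 : act 2 n29746 = n27525 := d14_1 D29746 (iv D27525) F53456
theorem F64284 : act 3 n29746 = n25994 := d17_1 D29746 (iv D25994) D25993
def n29747 : Q := act 5 n25995
theorem D29747 : act 5 n25995 = n29747 := rfl
theorem F64285 : act 0 n29747 = n26003 := d4_1 D29747 (iv D26003) (iv F53460)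
theorem F64286 : act 3 n29747 = n26480 := d16_1 D29747 F54619 (iv F53461)
theorem F64287 : act 4 n29747 = n25996 := d18_1 D29747 (iv D25996) D25995
def n29748 : Q := act 6 n25995
theorem D29748 : act 6 n25995 = n29748 := rfl
theorem F64288 : act 0 n29748 = n26004 := d5_1 D29748 (iv D26004) (iv F53460)
theorem F64289 : act 3 n29748 = n26651 := d17_1 D29748 (iv D26651) (iv F53461)
theorem F64290 : act 4 n29748 = n25997 := d19_1 D29748 (iv D25997) D25995
theorem F64291 : act 1 n27227 = n29748 := d7_3 F64289 (iv F55183) (iv F57069)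
def n29749 : Q := act 1 n25997
theorem D29749 : act 1 n25997 = n29749 := rfl
theorem F64292 : act 3 n29749 = n25998 := d7_2 (iv F53465) D29749 (iv D25998)
theorem F64293 : act 4 n29749 = n27227 := d8_2 F64290 D29749 F64291
theorem F64294 : act 0 n27226 = n29749 := d3_3 F64293 (iv D27227) (iv F57068)
def n29750 : Q := act 0 n25999
theorem D29750 : act 0 n25999 = n29750 := rfl
theorem F64295 : act 2 n29750 = n26009 := d1_2 (iv F53468) D29750 (iv D26009)
def n29751 : Q := act 4 n25999
theorem D29751 : act 4 n25999 = n29751 := rfl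
theorem F64296 : act 1 n29751 = n26000 := d8_1 D29751 (iv D26000) D25999
theorem F64297 : act 2 n29751 = n26010 := d12_1 D29751 (iv D26010) (iv F53468)
def n29752 : Q := act 5 n25999
theorem D29752 : act 5 n25999 = n29752 := rfl
theorem F64298 : act 2 n29752 = n26011 := d13_1 D29752 (iv D26011) (iv F53468)
def n29753 : Q := act 6 n25999
theorem D29753 : act 6 n25999 = n29753 := rfl
theorem F64299 : act 2 n29753 = n26012 := d14_1 D29753 (iv D26012) (iv F53468)
def n29754 : Q := act 3 n26000
theorem D29754 : act 3 n26000 = n29754 := rfl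
theorem F64300 : act 0 n29754 = n26450 := d2_1 D29754 (iv F58132) F58129
theorem F64301 : act 4 n29754 = n26446 := d15_2 D26000 D29754 (iv D26446) (iv F46707) (iv F46708)
theorem F64302 : act 2 n29754 = n29102 := d25_4 D16921 (iv F41827) (iv F53469) D29754 F62550 (iv F60410) F60409 (iv D27157) F45683 F33326 (iv F32393) (iv F33878) F33879 (iv F33395) D23052 F45729 (iv F48525) (iv F59238) F59237 F58207 F46777 (iv F53421) F53422 F41803 D21604 F41830 F33302 (iv D18616) (iv F33190) F39737 (iv F43245) (iv F53360) F53359 F44088 D22514 F44091 D22517 (iv F44739) F44740 (iv D18172) (iv D13299) (iv F23359) (iv F31756) F31757 F23723 D13496 F23741 D13507 D18501 (iv F36413) (iv D19452) (iv F34937) D19497 (iv F45487) F45488 F33100 F34188 (iv D11987) (iv D9915) F7494 F32773 F32770 D1414 D2915 F4555 (iv D1416) (iv F2251) (iv D1343) (iv D669) (iv F1212) D1316 (iv F4192) D5568 D10267 (iv F22109) (iv D12586) (iv F22107)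
def n29755 : Q := act 5 n26000
theorem D29755 : act 5 n26000 = n29755 := rfl
theorem F64303 : act 2 n29755 = n26003 := d13_1 D29755 (iv D26003) (iv F53469)
theorem F64304 : act 4 n29755 = n26001 := d18_1 D29755 (iv D26001) D26000
def n29756 : Q := act 6 n26000
theorem D29756 : act 6 n26000 = n29756 := rfl
theorem F64305 : act 2 n29756 = n26004 := d14_1 D29756 (iv D26004) (iv F53469)
theorem F64306 : act 4 n29756 = n26002 := d19_1 D29756 (iv D26002) D26000
def n29757 : Q := act 1 n26001
theorem D29757 : act 1 n26001 = n29757 := rfl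
def n29758 : Q := act 1 n26002
theorem D29758 : act 1 n26002 = n29758 := rfl
def n29759 : Q := act 5 n26002
theorem D29759 : act 5 n26002 = n29759 := rfl
theorem F64307 : act 0 n29759 = n29252 := d4_1 D29759 F62879 F58137
theorem F64308 : act 2 n29759 = n26007 := d13_1 D29759 (iv D26007) (iv F53471)
theorem F64309 : act 3 n29759 = n27642 := d16_1 D29759 F58142 F58127
theorem F64310 : act 6 n29759 = n27640 := d20_2 D26002 D29759 (iv D27640) D27641 (iv F62879) F62880 (iv D26001)
def n29760 : Q := act 6 n26003
theorem D29760 : act 6 n26003 = n29760 := rfl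
theorem F64311 : act 3 n29760 = n26657 := d17_1 D29760 (iv D26657) (iv F53472)
theorem F64312 : act 4 n29760 = n26006 := d19_1 D29760 (iv D26006) (iv F53473)
theorem F64313 : act 5 n29760 = n29748 := d22_2 D26003 D29760 (iv D29748) F53460
theorem F64314 : act 1 n28201 = n29760 := d8_3 F64312 (iv F59968) F59969
def n29761 : Q := act 5 n26004
theorem D29761 : act 5 n26004 = n29761 := rfl
theorem F64315 : act 0 n29761 = n29760 := d4_1 D29761 F64313 F64288
theorem F64316 : act 1 n29761 = n28960 := d9_1 D29761 F62207 D29041 (iv F64115) F64111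
theorem F64317 : act 3 n29761 = n26658 := d16_1 D29761 (iv D26658) (iv F53474)
theorem F64318 : act 4 n29761 = n26007 := d18_1 D29761 (iv D26007) (iv F53475)
theorem F64319 : act 6 n29761 = n29747 := d20_2 D26004 D29761 (iv D29747) D29748 (iv F64313) (iv D29760) (iv D26003)
def n29762 : Q := act 2 n26005
theorem D29762 : act 2 n26005 = n29762 := rfl
theorem F64320 : act 4 n29762 = n29222 := d12_2 F56696 D29762 F62796
theorem F64321 : act 5 n29762 = n26016 := d13_2 (iv F53477) D29762 (iv D26016)
theorem F64322 : act 3 n29762 = n29220 := d21_1 D29762 F62792 F62560 (iv D28842) F50704 (iv F45648) (iv F56701) F56699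
def n29763 : Q := act 6 n26005
theorem D29763 : act 6 n26005 = n29763 := rfl
theorem F64323 : act 3 n29763 = n26008 := d17_1 D29763 (iv D26008) (iv F53476)
theorem F64324 : act 4 n29763 = n27116 := d19_1 D29763 F56735 F56696
theorem F64325 : act 5 n29763 = n27115 := d22_2 (iv F53477) D29763 (iv D27115) F45418
def n29764 : Q := act 1 n26009
theorem D29764 : act 1 n26009 = n29764 := rfl
theorem F64326 : act 3 n29764 = n29406 := d7_2 (iv F53485) D29764 (iv D29406)
theorem F64327 : act 5 n29764 = n29764 := d16_0 F64326 F63288 (iv F64326)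
def n29765 : Q := act 4 n26009
theorem D29765 : act 4 n26009 = n29765 := rfl
theorem F64328 : act 0 n29765 = n26010 := d3_1 D29765 (iv D26010) D26009
def n29766 : Q := act 5 n26009
theorem D29766 : act 5 n26009 = n29766 := rfl
theorem F64329 : act 0 n29766 = n26011 := d4_1 D29766 (iv D26011) D26009
theorem F64330 : act 1 n29766 = n29766 := d9_1 D29766 (iv D29766) D29764 F64327 (iv D29764)
theorem F64331 : act 3 n29766 = n29408 := d16_1 D29766 (iv D29408) (iv F53485)
def n29767 : Q := act 6 n26009
theorem D29767 : act 6 n26009 = n29767 := rfl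
theorem F64332 : act 0 n29767 = n26012 := d5_1 D29767 (iv D26012) D26009
def n29768 : Q := act 3 n26010
theorem D29768 : act 3 n26010 = n29768 := rfl
theorem F64334 : act 1 n29768 = n26013 := d7_1 D29768 (iv D26013) (iv F53486)
theorem F64335 : act 4 n29768 = n29410 := d15_2 D26010 D29768 (iv D29410) (iv D25690) (iv F41837)
theorem F64336 : act 6 n29768 = n29500 := d17_2 F61755 D29768 F63512
def n29769 : Q := act 5 n26010
theorem D29769 : act 5 n26010 = n29769 := rfl
theorem F64337 : act 4 n29769 = n26011 := d18_1 D29769 (iv D26011) D26010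
def n29770 : Q := act 1 n26011
theorem D29770 : act 1 n26011 = n29770 := rfl
theorem F64338 : act 3 n29770 = n29413 := d7_2 (iv F53487) D29770 (iv D29413)
theorem F64339 : act 5 n29770 = n26015 := d9_2 D26011 D29770 (iv D26015) (iv D21609) D21607
def n29771 : Q := act 6 n26011
theorem D29771 : act 6 n26011 = n29771 := rfl
theorem F64341 : act 5 n29771 = n29767 := d22_2 D26011 D29771 (iv D29767) (iv D26009)
def n29772 : Q := act 5 n26012
theorem D29772 : act 5 n26012 = n29772 := rfl
theorem F64342 : act 0 n29772 = n29771 := d4_1 D29772 F64341 F64332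
theorem F64344 : act 6 n29772 = n29766 := d20_2 D26012 D29772 (iv D29766) D29767 (iv F64341) (iv D29771) (iv D26011)
def n29773 : Q := act 5 n26013
theorem D29773 : act 5 n26013 = n29773 := rfl
theorem F64345 : act 0 n29773 = n26041 := d4_1 D29773 (iv D26041) (iv F53489)
theorem F64346 : act 3 n29773 = n26014 := d16_1 D29773 (iv D26014) D26013
theorem F64347 : act 4 n29773 = n29417 := d18_1 D29773 (iv D29417) (iv F53490)
theorem F64348 : act 6 n29773 = n29706 := d20_2 F61759 D29773 (iv D29706) F53307 D26041 (iv F63508) (iv D29498)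
def n29774 : Q := act 6 n26015
theorem D29774 : act 6 n26015 = n29774 := rfl
theorem F64349 : act 1 n29774 = n29710 := d10_1 D29774 (iv D29710) (iv D25946) (iv F41843) D26015
theorem F64350 : act 2 n29774 = n28160 := d14_1 D29774 F61421 F59638
theorem F64351 : act 3 n29774 = n29422 := d17_1 D29774 (iv D29422) (iv F53495)
theorem F64352 : act 4 n29774 = n28158 := d19_1 D29774 (iv F61427) (iv F59635)
theorem F64353 : act 5 n29774 = n28157 := d24_1 D29774 F59701 (iv F59593) (iv D28096) (iv F48768) D28138 F61425 F59687 (iv D26245) (iv F61751) (iv D25936) F41745 D21609 D26015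
theorem F64354 : act 6 n29770 = n26246 := d22_3 (iv F64353) (iv D29774) (iv F64339) (iv F59700)
theorem E10443 : n26243 = n26011 := (c10_5 F64354 (iv D26246) (iv D21768) D21766 D26243 D29770)
theorem E10444 : n25796 = n25691 := (((F53487).symm.trans (sb E10443 F54079))).symm
theorem E10445 : n29771 = n21766 := ((D29771).symm.trans (sb E10443 (iv D26243)))
theorem E10446 : n29549 = n29408 := ((((iv F63285)).symm.trans (sb E10444 (iv F63636)))).symm
theorem E10447 : n29554 = n29413 := (((D29413).symm.trans (sb E10444 D29554))).symm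
theorem E10448 : n29552 = n29411 := ((((iv F63293)).symm.trans (sb E10444 (iv F63642)))).symm
theorem E10449 : n29555 = n21392 := ((((iv D25691)).symm.trans (sb E10444 D29555))).symm
theorem E10450 : n29414 = n21461 := ((D29414).symm.trans (sb E10444 (iv D25796)))
theorem E10451 : n29772 = n26240 := (((D26240).symm.trans (sb E10445 (iv F64342)))).symm
theorem E10452 : n29767 = n26242 := (((D26242).symm.trans (sb E10445 F64341))).symm
theorem F64355 : act 6 n21766 = n26011 := (sb E10445 (iv D29771))
theorem E10454 : n29415 = n25793 := (((iv F63301)).symm.trans (sb E10446 (iv D29549)))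
theorem F64356 : act 6 n29413 = n25799 := (sb E10447 F63645)
theorem F64357 : act 6 n29411 = n25794 := (sb E10448 (iv D29552))
theorem E10455 : n29548 = n25692 := (((D25692).symm.trans (sb E10449 F63648))).symm
theorem E10456 : n29409 = n25795 := (((D25795).symm.trans (sb E10450 F63298))).symm
theorem F64358 : act 6 n21461 = n25691 := (sb E10450 (iv D29414))
theorem F64359 : act 5 n26240 = n26012 := (sb E10451 (iv D29772))
theorem F64360 : act 6 n26240 = n29766 := (sb E10451 F64344)
theorem F64361 : act 0 n26242 = n26012 := (sb E10452 F64332)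
theorem F64362 : act 6 n26242 = n26009 := (sb E10452 (iv D29767))
theorem F64363 : act 6 n25793 = n29408 := (sb E10454 F63301)
theorem F64364 : act 5 n25692 = n25793 := (sb E10455 (iv D29548))
theorem F64365 : act 0 n25795 = n25692 := (sb E10456 F63289)
theorem F64366 : act 6 n25795 = n25689 := (sb E10456 (iv D29409))
theorem F64367 : act 6 n29407 = n29551 := d19_2 F64366 D29407 F63640
theorem F64368 : act 0 n29551 = n29412 := d5_1 F64367 (iv D29412) (iv F63283)
theorem F64369 : act 5 n29412 = n29547 := d4_2 D29551 F64368 F63632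
theorem F64370 : act 6 n29546 = n29546 := d10_4 F64363 F63287 (iv F64363) D29546 (iv D29546)
theorem F64371 : act 6 n29764 = n26042 := d10_2 F64362 D29764 (iv D26042) D26043 (iv F61761)
theorem F64372 : act 6 n29765 = n26046 := d19_2 F64362 D29765 F61762
theorem F64373 : act 6 n26241 = n29769 := d24_9 F64362 D29766 F64330 (iv F64360) F64359 (iv F61753) (iv F61752) F61751 (iv F54077) (iv D29769) F53486 (iv F53299) (iv F53545) (iv F61761)
theorem F64374 : act 6 n26181 = n29699 := d24_6 (iv F64362) (iv D26242) (iv D21766) D21768 F42192 D26181 (iv D29699) F53301 F41754 D21623 D26042 (iv F64371) F64327 (iv D29764)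
theorem F64375 : act 1 n29699 = n26177 := d10_1 F64374 (iv D26177) (iv D21722) D21725 D26181
theorem F64376 : act 3 n29699 = n29494 := d17_1 F64374 F63664 F63662
theorem F64377 : act 4 n29702 = n26181 := d19_3 F64374 F64132 D29702
theorem F64378 : act 1 n26180 = n29702 := d8_3 F64377 (iv D26181) (iv F53901)
theorem F64379 : act 1 n29694 = n28138 := d9_3 F54085 F64378 F64138 F61425 F59687
theorem F64380 : act 6 n29701 = n26175 := d10_4 D26180 F64378 (iv D29702) D29701 F53893
theorem F64381 : act 1 n26045 = n29765 := d24_11 D26245 F54085 F64378 (iv D29702) (iv D25941) (iv D21563) F28232 D16341 D21624 D26045 F59256 F64372 (iv F61763) F54077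
theorem F64382 : act 3 n29765 = n29421 := d7_2 (iv F63092) F64381 F63310
theorem F64383 : act 4 n29764 = n26045 := d8_0 F64381 (iv D29765) D29764
theorem F64384 : act 2 n29468 = n29764 := d12_3 F64383 (iv F63088) D29468
theorem F64385 : act 0 n29421 = n29768 := d2_1 F64382 (iv D29768) (iv F64328)
theorem F64386 : act 1 n29526 = n29705 := d0_6 (iv F63310) F64385 F64334 F53489 (iv F53523) (iv F63579) F64146 (iv D29470) F52807
theorem F64387 : act 2 n29768 = n29420 := d1_2 D29421 F64385 (iv D29420)
theorem F64388 : act 0 n29500 = n29360 := d5_3 F63311 F64385 F64336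
theorem F64389 : act 0 n29422 = n29562 := d1_3 F63659 F64388 (iv F63312)
theorem F64390 : act 0 n26046 = n26277 := d2_3 (iv F63512) F64388 F63187
theorem F64391 : act 5 n29560 = n29422 := d4_0 F64389 (iv D29562) D29560
theorem F64392 : act 6 n29562 = n29420 := d5_2 D29422 F64389 (iv D29420)
theorem F64393 : act 2 n29698 = n29496 := d6_4 (iv F63580) F64386 (iv D29705) (iv F64131) F63502
theorem F64394 : act 5 n29494 = n29698 := d13_0 F64393 (iv D29496) D29494
theorem F64395 : act 4 n26177 = n29701 := d19_3 F64380 (iv D26175) D26177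
theorem F64396 : act 5 n29707 = n26177 := d18_0 F64395 F64137 (iv F64150)
theorem E10457 : n29690 = n28097 := ((c10_5 D29694 F64379 (iv D28138) F48768 D28097 (iv D29690))).symm
theorem F64397 : act 1 n28097 = n25938 := (sb E10457 (iv D29690))
theorem F64398 : act 6 n29752 = n26230 := d14_2 F64355 (iv F64298) F54059
def n29775 : Q := act 6 n26016
theorem D29775 : act 6 n26016 = n29775 := rfl
theorem F64399 : act 2 n29775 = n26017 := d14_1 D29775 (iv D26017) D26016
theorem F64400 : act 3 n29775 = n29198 := d17_1 D29775 F62731 F53497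
theorem F64401 : act 4 n29775 = n29199 := d19_1 D29775 F62734 (iv F53496)
def n29776 : Q := act 5 n26017
theorem D29776 : act 5 n26017 = n29776 := rfl
theorem F64402 : act 0 n29776 = n29763 := d4_1 D29776 F64325 F56729
theorem F64403 : act 1 n29776 = n27892 := d9_1 D29776 (iv F60592) (iv F64176) (iv D29719) (iv F53498)
theorem F64404 : act 3 n29776 = n26019 := d16_1 D29776 (iv D26019) (iv F53499)
theorem F64405 : act 4 n29776 = n27106 := d18_1 D29776 (iv F56724) F56723
theorem F64406 : act 6 n29776 = n27105 := d20_2 D26017 D29776 F56702 D27115 (iv F64325) (iv D29763) F53477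
def n29777 : Q := act 1 n26020
theorem D29777 : act 1 n26020 = n29777 := rfl
theorem F64407 : act 2 n29777 = n28351 := d6_2 D26020 D29777 F60347 (iv F53502) F53500
theorem F64408 : act 3 n29777 = n28958 := d7_2 F62350 D29777 (iv F62348)
theorem F64409 : act 5 n29777 = n26113 := d9_2 F64271 D29777 (iv D26113) (iv F53634) (iv F64270)
theorem F64410 : act 6 n29777 = n28957 := d10_2 F62285 D29777 F62192 (iv F52047) (iv F62283)
theorem F64411 : act 4 n28350 = n29777 := d19_3 F64410 (iv F62195) (iv F60546)
def n29778 : Q := act 4 n26020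
theorem D29778 : act 4 n26020 = n29778 := rfl
theorem F64412 : act 1 n29778 = n28350 := d8_1 D29778 F64411 (iv D29777)
theorem F64413 : act 2 n29778 = n26021 := d12_1 D29778 (iv D26021) D26020
def n29779 : Q := act 0 n26022
theorem D29779 : act 0 n26022 = n29779 := rfl
theorem F64414 : act 2 n29779 = n26633 := d1_2 (iv F53510) D29779 F55128
theorem F64415 : act 6 n29779 = n26697 := d5_2 F53511 D29779 F55323
theorem F64416 : act 4 n26634 = n29779 := d19_3 F64415 F55324 (iv F55131)
def n29780 : Q := act 3 n26022
theorem D29780 : act 3 n26022 = n29780 := rfl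
theorem F64417 : act 1 n29780 = n26023 := d7_1 D29780 (iv D26023) D26022
theorem F64418 : act 6 n29780 = n26806 := d17_2 F53511 D29780 (iv D26806)
def n29781 : Q := act 4 n26022
theorem D29781 : act 4 n26022 = n29781 := rfl
theorem F64419 : act 0 n29781 = n26634 := d3_1 D29781 F64416 (iv D29779)
theorem F64420 : act 1 n29781 = n26024 := d8_1 D29781 (iv D26024) D26022
theorem F64421 : act 2 n29781 = n26625 := d12_1 D29781 F55109 (iv F53510)
theorem F64422 : act 6 n29781 = n26670 := d19_2 F53511 D29781 F55240
theorem F64423 : act 3 n29705 = n29781 := d17_3 F64422 F55241 (iv F64147)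
def n29782 : Q := act 5 n26022
theorem D29782 : act 5 n26022 = n29782 := rfl
theorem F64424 : act 2 n29782 = n26807 := d13_1 D29782 (iv D26807) (iv F53510)
def n29783 : Q := act 4 n26023
theorem D29783 : act 4 n26023 = n29783 := rfl
theorem F64425 : act 0 n29783 = n26028 := d3_1 D29783 (iv D26028) (iv F53512)
def n29784 : Q := act 5 n26023
theorem D29784 : act 5 n26023 = n29784 := rfl
theorem F64426 : act 0 n29784 = n26029 := d4_1 D29784 (iv D26029) (iv F53512)
theorem F64427 : act 3 n29784 = n26025 := d16_1 D29784 (iv D26025) D26023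
def n29785 : Q := act 6 n26023
theorem D29785 : act 6 n26023 = n29785 := rfl
theorem F64428 : act 0 n29785 = n26030 := d5_1 D29785 (iv D26030) (iv F53512)
theorem F64429 : act 3 n29785 = n26026 := d17_1 D29785 (iv D26026) D26023
def n29786 : Q := act 6 n26024
theorem D29786 : act 6 n26024 = n29786 := rfl
theorem F64430 : act 0 n29786 = n26033 := d5_1 D29786 (iv D26033) (iv F53513)
theorem F64431 : act 2 n29786 = n26357 := d14_1 D29786 (iv D26357) (iv F53514)
theorem F64432 : act 4 n29786 = n26026 := d19_1 D29786 (iv D26026) D26024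
def n29787 : Q := act 1 n26025
theorem D29787 : act 1 n26025 = n29787 := rfl
theorem F64433 : act 0 n29787 = n28095 := d0_1 D29787 (iv F59648) F59647 (iv D26015) F41840 D21624 (iv F59254) (iv D26034) (iv F53515)
theorem F64434 : act 4 n29787 = n28089 := d8_2 (iv F63576) D29787 (iv F63574)
theorem F64435 : act 2 n28090 = n29787 := d23_9 D21838 (iv F53516) D29787 F64433 F59598 F59596 F48739 (iv F59582) F59585 (iv D29787) F53515 (iv D21618) F28289 (iv D12310) F17900 F17237 D10073 D12310 D16478
theorem F64436 : act 6 n29787 = n28114 := d14_2 F59540 F64435 F59594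
def n29788 : Q := act 4 n26027
theorem D29788 : act 4 n26027 = n29788 := rfl
theorem F64437 : act 1 n29788 = n29385 := d8_1 D29788 (iv D29385) (iv F53519)
theorem F64438 : act 2 n29788 = n26028 := d12_1 D29788 (iv D26028) D26027
def n29789 : Q := act 5 n26027
theorem D29789 : act 5 n26027 = n29789 := rfl
theorem F64439 : act 2 n29789 = n26029 := d13_1 D29789 (iv D26029) D26027
def n29790 : Q := act 6 n26027
theorem D29790 : act 6 n26027 = n29790 := rfl
theorem F64440 : act 2 n29790 = n26030 := d14_1 D29790 (iv D26030) D26027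
def n29791 : Q := act 3 n26028
theorem D29791 : act 3 n26028 = n29791 := rfl
theorem F64441 : act 1 n29791 = n26037 := d7_1 D29791 (iv D26037) (iv F53520)
theorem F64442 : act 4 n29791 = n26031 := d15_2 D26028 D29791 (iv D26031) (iv D21617) D21616
def n29792 : Q := act 5 n26028
theorem D29792 : act 5 n26028 = n29792 := rfl
theorem F64443 : act 4 n29792 = n26029 := d18_1 D29792 (iv D26029) D26028
def n29793 : Q := act 6 n26028
theorem D29793 : act 6 n26028 = n29793 := rfl
theorem F64444 : act 4 n29793 = n26030 := d19_1 D29793 (iv D26030) D26028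
def n29794 : Q := act 6 n26029
theorem D29794 : act 6 n26029 = n29794 := rfl
theorem F64445 : act 1 n29794 = n26699 := d10_1 D29794 F63431 (iv D29470) D29473 (iv F63445)
theorem F64446 : act 3 n29794 = n26035 := d17_1 D29794 (iv D26035) (iv F53521)
theorem F64447 : act 5 n29794 = n29785 := d22_2 D26029 D29794 (iv D29785) F53512
def n29795 : Q := act 5 n26030
theorem D29795 : act 5 n26030 = n29795 := rfl
theorem F64448 : act 0 n29795 = n29794 := d4_1 D29795 F64447 F64428
theorem F64449 : act 3 n29795 = n26036 := d16_1 D29795 (iv D26036) (iv F53522)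
theorem F64450 : act 6 n29795 = n29784 := d20_2 D26030 D29795 (iv D29784) D29785 (iv F64447) (iv D29794) (iv D26029)
def n29796 : Q := act 6 n26031
theorem D29796 : act 6 n26031 = n29796 := rfl
theorem F64451 : act 2 n29796 = n29532 := d14_1 D29796 F63593 F63568
theorem F64452 : act 3 n29796 = n26033 := d17_1 D29796 (iv D26033) D26031
theorem F64453 : act 5 n29796 = n29527 := d22_2 (iv F63563) D29796 (iv D29527) (iv F63561)
def n29797 : Q := act 1 n26032
theorem D29797 : act 1 n26032 = n29797 := rfl
theorem F64454 : act 0 n29797 = n26042 := d0_1 D29797 (iv D26042) (iv F53491) (iv F59634) F59633 F48768 (iv F59536) (iv F63574) F63573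
theorem F64455 : act 2 n29797 = n29059 := d6_2 (iv F53524) D29797 (iv F62446) F54275 (iv F42346)
theorem F64456 : act 4 n29797 = n26034 := d8_2 (iv F53525) D29797 (iv D26034)
theorem F64457 : act 5 n29797 = n26042 := d9_2 D26032 D29797 (iv D26042) (iv D21623) (iv F41855)
def n29798 : Q := act 6 n26032
theorem D29798 : act 6 n26032 = n29798 := rfl
theorem F64458 : act 2 n29798 = n26360 := d14_1 D29798 (iv D26360) (iv F53524)
theorem F64459 : act 4 n29798 = n26035 := d19_1 D29798 (iv D26035) (iv F53525)
theorem F64460 : act 5 n29798 = n29786 := d22_2 D26032 D29798 (iv D29786) F53513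
theorem F64461 : act 1 n26697 = n29798 := d8_3 F64459 (iv F55309) (iv F55324)
def n29799 : Q := act 5 n26033
theorem D29799 : act 5 n26033 = n29799 := rfl
theorem F64462 : act 0 n29799 = n29798 := d4_1 D29799 F64460 F64430
theorem F64463 : act 2 n29799 = n26361 := d13_1 D29799 (iv D26361) (iv F53526)
theorem F64464 : act 3 n29799 = n29527 := d16_1 D29799 (iv F64453) F64452
theorem F64465 : act 4 n29799 = n26036 := d18_1 D29799 (iv D26036) (iv F53527)
theorem F64466 : act 6 n29799 = n29524 := d20_2 D26033 D29799 (iv F63577) D29786 (iv F64460) (iv D29798) (iv D26032)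
def n29800 : Q := act 1 n26036
theorem D29800 : act 1 n26036 = n29800 := rfl
theorem F64467 : act 6 n29800 = n26173 := d10_2 (iv F53533) D29800 (iv F59595) (iv F64436) (iv D29787)
theorem F64468 : act 0 n26177 = n29800 := d5_3 F64467 (iv D26173) D26177
def n29801 : Q := act 2 n26037
theorem D29801 : act 2 n26037 = n29801 := rfl
theorem F64469 : act 0 n29801 = n29416 := d1_1 D29801 (iv D29416) (iv F53534)
theorem F64470 : act 4 n29801 = n26040 := d12_2 (iv F53535) D29801 (iv D26040)
theorem F64471 : act 3 n29801 = n29556 := d21_1 D29801 (iv D29556) (iv D25797) F41521 F28081 (iv F41379) D25693 (iv F53534)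
def n29802 : Q := act 5 n26037
theorem D29802 : act 5 n26037 = n29802 := rfl
theorem F64472 : act 0 n29802 = n29417 := d4_1 D29802 (iv D29417) (iv F53534)
theorem F64473 : act 3 n29802 = n26038 := d16_1 D29802 (iv D26038) D26037
theorem F64474 : act 4 n29802 = n26041 := d18_1 D29802 (iv D26041) (iv F53535)
def n29803 : Q := act 1 n26038
theorem D29803 : act 1 n26038 = n29803 := rfl
theorem F64475 : act 4 n29803 = n26039 := d8_2 (iv F53538) D29803 (iv D26039)
theorem F64476 : act 2 n29425 = n29803 := d12_3 F64475 F63090 (iv F63320)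
theorem F64477 : act 6 n29424 = n29803 := d19_0 F64475 (iv F63091) (iv F63318)
def n29804 : Q := act 1 n26040
theorem D29804 : act 1 n26040 = n29804 := rfl
theorem F64478 : act 2 n29804 = n29382 := d6_2 D26040 D29804 (iv F63567) F63568 F53523
theorem F64479 : act 0 n29386 = n29804 := d1_3 F64478 F63233 (iv F63244)
theorem F64480 : act 5 n29380 = n29804 := d13_0 F64478 (iv D29382) D29380
def n29805 : Q := act 5 n26040
theorem D29805 : act 5 n26040 = n29805 := rfl
theorem F64481 : act 2 n29805 = n26041 := d13_1 D29805 (iv D26041) D26040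
def n29806 : Q := act 1 n26041
theorem D29806 : act 1 n26041 = n29806 := rfl
theorem F64482 : act 3 n29806 = n26042 := d7_2 (iv F53540) D29806 (iv D26042)
theorem F64483 : act 6 n29806 = n29406 := d10_2 F63508 D29806 (iv D29406) (iv F64366) (iv F63506)
def n29807 : Q := act 2 n26046
theorem D29807 : act 2 n26046 = n29807 := rfl
theorem F64484 : act 1 n29807 = n26049 := d6_1 D29807 (iv D26049) (iv D21627) (iv F41867) D26046
def n29808 : Q := act 0 n26047
theorem D29808 : act 0 n26047 = n29808 := rfl
theorem F64485 : act 3 n29808 = n26702 := d2_2 (iv F53546) D29808 (iv D26702)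
theorem F64486 : act 4 n29808 = n26048 := d3_2 (iv F53547) D29808 (iv D26048)
theorem F64487 : act 6 n29808 = n27314 := d5_2 F61484 D29808 F61485
theorem F64488 : act 1 n27310 = n29808 := d10_5 F64487 (iv D27314) (iv D23198) (iv F46091) D27310
def n29809 : Q := act 2 n26047
theorem D29809 : act 2 n26047 = n29809 := rfl
theorem F64489 : act 4 n29809 = n26049 := d12_2 (iv F53547) D29809 (iv D26049)
def n29810 : Q := act 5 n26047
theorem D29810 : act 5 n26047 = n29810 := rfl
theorem F64490 : act 1 n29810 = n29687 := d9_1 D29810 (iv D29687) F53287 (iv F41872) D26047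
theorem F64491 : act 3 n29810 = n26703 := d16_1 D29810 (iv F55342) (iv F53546)
theorem F64492 : act 4 n29810 = n26050 := d18_1 D29810 (iv D26050) (iv F53547)
def n29811 : Q := act 2 n26048
theorem D29811 : act 2 n26048 = n29811 := rfl
theorem F64493 : act 0 n29811 = n26049 := d1_1 D29811 (iv D26049) D26048
theorem F64494 : act 3 n29811 = n27228 := d21_1 D29811 (iv D27228) F45936 D23131 (iv F45940) (iv D21629) (iv F41873) D26048
def n29812 : Q := act 5 n26048
theorem D29812 : act 5 n26048 = n29812 := rfl
theorem F64495 : act 0 n29812 = n26050 := d4_1 D29812 (iv D26050) D26048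
theorem F64496 : act 3 n29812 = n26052 := d16_1 D29812 (iv D26052) (iv F53548)
theorem F64497 : act 6 n29812 = n28749 := d22_1 D29812 (iv D28749) F50493 D26048
def n29813 : Q := act 3 n26049
theorem D29813 : act 3 n26049 = n29813 := rfl
theorem F64498 : act 0 n29813 = n27228 := d2_1 D29813 (iv F64494) F64493
theorem F64499 : act 2 n29813 = n27227 := d11_1 D29813 F57069 D27230 (iv F57073) (iv D26051) (iv F53548) D29811 F64494 (iv D27228) F45936 D23131 (iv F45940) (iv D21629) (iv F41873) D26049
def n29814 : Q := act 5 n26049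
theorem D29814 : act 5 n26049 = n29814 := rfl
theorem F64500 : act 2 n29814 = n26050 := d13_1 D29814 (iv D26050) D26049
def n29815 : Q := act 6 n26050
theorem D29815 : act 6 n26050 = n29815 := rfl
theorem F64501 : act 0 n29815 = n28749 := d5_1 D29815 (iv F64497) F64495
theorem F64502 : act 3 n29815 = n26054 := d17_1 D29815 (iv D26054) (iv F53550)
theorem F64503 : act 5 n29815 = n28747 := d20_1 D29815 F61510 D29812 F64497 (iv D28749) F50493 D26050
def n29816 : Q := act 5 n26051
theorem D29816 : act 5 n26051 = n29816 := rfl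
theorem F64504 : act 0 n29816 = n26053 := d4_1 D29816 (iv D26053) (iv F53551)
theorem F64505 : act 1 n29816 = n29289 := d9_1 D29816 F62991 F60655 (iv D27861) (iv F53552)
theorem F64506 : act 2 n29816 = n26052 := d13_1 D29816 (iv D26052) D26051
theorem F64507 : act 4 n29816 = n26706 := d18_1 D29816 (iv D26706) (iv F53553)
theorem F64508 : act 6 n29816 = n28751 := d22_1 D29816 (iv D28751) F50503 (iv F53551)
def n29817 : Q := act 6 n26053
theorem D29817 : act 6 n26053 = n29817 := rfl
theorem F64509 : act 0 n29817 = n28751 := d5_1 D29817 (iv F64508) F64504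
theorem F64510 : act 2 n29817 = n26054 := d14_1 D29817 (iv D26054) (iv F53557)
theorem F64511 : act 4 n29817 = n26709 := d19_1 D29817 (iv D26709) (iv F53558)
theorem F64512 : act 5 n29817 = n28750 := d20_1 D29817 F61517 D29816 F64508 (iv D28751) F50503 D26053
def n29818 : Q := act 0 n26058
theorem D29818 : act 0 n26058 = n29818 := rfl
theorem F64513 : act 3 n29818 = n26060 := d2_2 (iv F53577) D29818 (iv D26060)
theorem F64514 : act 5 n29818 = n26062 := d4_2 (iv F53578) D29818 (iv D26062)
theorem F64515 : act 1 n28065 = n29818 := d9_5 F64514 (iv F57677) F57679 F48670 D28065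
theorem F64516 : act 2 n29736 = n29818 := d13_3 F64514 (iv F57656) (iv F64244)
def n29819 : Q := act 2 n26058
theorem D29819 : act 2 n26058 = n29819 := rfl
theorem F64517 : act 0 n29819 = n29736 := d1_1 D29819 F64516 (iv D29818)
theorem F64518 : act 1 n29819 = n27100 := d6_1 D29819 (iv D27100) (iv D22934) (iv F41894) D26058
theorem F64519 : act 5 n29819 = n26063 := d13_2 (iv F53578) D29819 (iv D26063)
theorem F64520 : act 6 n29819 = n26070 := d14_2 F64268 D29819 (iv F64269)
theorem F64521 : act 3 n26071 = n29819 := d17_3 F64520 (iv D26070) D26071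
def n29820 : Q := act 0 n26061
theorem D29820 : act 0 n26061 = n29820 := rfl
theorem F64522 : act 2 n29820 = n29739 := d1_2 F59192 D29820 (iv F64258)
theorem F64523 : act 3 n29820 = n26711 := d2_2 (iv F53588) D29820 (iv D26711)
theorem F64524 : act 4 n29820 = n26062 := d3_2 (iv F53589) D29820 (iv D26062)
def n29821 : Q := act 6 n26061
theorem D29821 : act 6 n26061 = n29821 := rfl
theorem F64525 : act 1 n29821 = n29682 := d10_1 D29821 F64088 (iv D27670) F46743 D26061
theorem F64526 : act 3 n29821 = n26713 := d17_1 D29821 (iv D26713) (iv F53588)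
theorem F64527 : act 4 n29821 = n26064 := d19_1 D29821 (iv D26064) (iv F53589)
def n29822 : Q := act 6 n26062
theorem D29822 : act 6 n26062 = n29822 := rfl
theorem F64528 : act 0 n29822 = n26064 := d5_1 D29822 (iv D26064) D26062
theorem F64529 : act 2 n29822 = n29740 := d14_1 D29822 (iv D29740) F57656
theorem F64530 : act 3 n29822 = n26069 := d17_1 D29822 (iv D26069) (iv F53590)
theorem F64531 : act 5 n29822 = n29742 := d22_2 F64514 D29822 F64268 D29818
theorem F64532 : act 1 n28841 = n29822 := d24_14 (iv D29822) (iv F64514) (iv F64515) (iv F61648) (iv D28798) F50582 F47348 (iv F57635) (iv F61266) (iv F61278) (iv D28681) D28680 F61273 (iv F61789)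
def n29823 : Q := act 6 n26063
theorem D29823 : act 6 n26063 = n29823 := rfl
theorem F64533 : act 0 n29823 = n29740 := d5_1 D29823 (iv D29740) (iv F57655)
theorem F64534 : act 2 n29823 = n26064 := d14_1 D29823 (iv D26064) D26063
theorem F64535 : act 3 n29823 = n29741 := d17_1 D29823 (iv D29741) F57654
def n29824 : Q := act 5 n26064
theorem D29824 : act 5 n26064 = n29824 := rfl
theorem F64536 : act 0 n29824 = n29742 := d4_1 D29824 (iv F64531) F64528
theorem F64537 : act 3 n29824 = n26072 := d16_1 D29824 (iv D26072) (iv F53592)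
theorem F64538 : act 6 n29824 = n29818 := d20_2 D26064 D29824 F64514 D29822 F64531 F64268 F53578
theorem F64539 : act 1 n28023 = n29824 := d7_3 F64537 (iv F53618) (iv F59338)
def n29825 : Q := act 2 n26065
theorem D29825 : act 2 n26065 = n29825 := rfl
theorem F64540 : act 0 n29825 = n29688 := d1_1 D29825 F64112 F53883
theorem F64541 : act 1 n29825 = n27354 := d6_1 D29825 F61376 (iv D23301) (iv F41907) D26065
theorem F64542 : act 4 n29825 = n29684 := d12_2 F58194 D29825 F64095
theorem F64543 : act 6 n29825 = n29683 := d14_2 F53876 D29825 F64091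
theorem F64544 : act 3 n27367 = n29825 := d17_3 F64543 F64092 F57460
def n29826 : Q := act 5 n26065
theorem D29826 : act 5 n26065 = n29826 := rfl
theorem F64545 : act 1 n29826 = n28484 := d9_1 D29826 (iv D28484) F49973 (iv F41909) D26065
theorem F64546 : act 3 n29826 = n26073 := d16_1 D29826 (iv D26073) (iv F53593)
theorem F64547 : act 4 n29826 = n29048 := d18_1 D29826 F62406 F58194
theorem F64548 : act 6 n29826 = n26168 := d22_1 D29826 (iv D26168) D26169 F53883
def n29827 : Q := act 0 n26066
theorem D29827 : act 0 n26066 = n29827 := rfl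
theorem F64549 : act 3 n29827 = n26074 := d2_2 (iv F53594) D29827 (iv D26074)
theorem F64550 : act 4 n29827 = n27578 := d3_2 (iv F53595) D29827 F57986
theorem F64551 : act 5 n29827 = n26407 := d4_2 (iv F53596) D29827 (iv F54442)
def n29828 : Q := act 2 n26066
theorem D29828 : act 2 n26066 = n29828 := rfl
theorem F64552 : act 1 n29828 = n27243 := d6_1 D29828 (iv D27243) (iv D23144) (iv F41911) D26066
theorem F64553 : act 4 n29828 = n27580 := d12_2 (iv F53595) D29828 F57991
theorem F64554 : act 5 n29828 = n27566 := d13_2 (iv F53596) D29828 (iv D27566)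
def n29829 : Q := act 6 n26066
theorem D29829 : act 6 n26066 = n29829 := rfl
theorem F64555 : act 1 n29829 = n28631 := d10_1 D29829 (iv D28631) (iv D24752) (iv F41914) D26066
theorem F64556 : act 3 n29829 = n26076 := d17_1 D29829 (iv D26076) (iv F53594)
theorem F64557 : act 4 n29829 = n27581 := d19_1 D29829 (iv D27581) (iv F53595)
def n29830 : Q := act 3 n26068
theorem D29830 : act 3 n26068 = n29830 := rfl
theorem F64558 : act 0 n29830 = n26070 := d2_1 D29830 (iv D26070) (iv F53601)
theorem F64559 : act 2 n29830 = n29824 := d11_1 D29830 F64537 F53615 F57654 (iv D26063) F41906 D21642 D26070 (iv F64269) (iv D29742) (iv D25990) (iv F53440) F57656 F53590 D26068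
theorem F64560 : act 5 n29830 = n29823 := d16_2 F64266 D29830 F64535
theorem F64561 : act 6 n29830 = n29736 := d17_2 F53603 D29830 F64242
def n29831 : Q := act 4 n26070
theorem D29831 : act 4 n26070 = n29831 := rfl
theorem F64562 : act 1 n29831 = n26079 := d8_1 D29831 (iv D26079) (iv F53609)
theorem F64563 : act 3 n29831 = n26722 := d15_1 D29831 (iv D26722) (iv D22274) (iv F41917) D26070
def n29832 : Q := act 1 n26071
theorem D29832 : act 1 n26071 = n29832 := rfl
theorem F64564 : act 0 n29832 = n26103 := d0_1 D29832 (iv D26103) F41966 F28377 (iv F28384) D21672 F41985 D25983 (iv F53610)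
theorem F64565 : act 2 n29832 = n28088 := d6_2 (iv F53611) D29832 F59534 F53850 F43417
theorem F64566 : act 3 n29832 = n27100 := d7_2 (iv F64521) D29832 (iv F64518)
theorem F64567 : act 4 n29832 = n26723 := d8_2 (iv F53612) D29832 (iv D26723)
theorem F64568 : act 5 n29832 = n27129 := d9_2 F53613 D29832 F56773 (iv F57650) F57653
theorem F64569 : act 6 n29832 = n26081 := d10_2 D26071 D29832 (iv D26081) (iv D21648) (iv F41916)
def n29833 : Q := act 3 n26075
theorem D29833 : act 3 n26075 = n29833 := rfl
theorem F64570 : act 0 n29833 = n27342 := d2_1 D29833 F57395 (iv F53625)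
theorem F64571 : act 1 n29833 = n26082 := d7_1 D29833 (iv D26082) (iv F53626)
theorem F64572 : act 4 n29833 = n27339 := d15_2 (iv F53627) D29833 (iv D27339) F46148 (iv F43439)
theorem F64573 : act 5 n29833 = n27783 := d16_2 (iv F53628) D29833 (iv D27783)
def n29834 : Q := act 2 n26077
theorem D29834 : act 2 n26077 = n29834 := rfl
theorem F64574 : act 0 n29834 = n26078 := d1_1 D29834 (iv D26078) (iv F53631)
theorem F64575 : act 5 n29834 = n26111 := d13_2 (iv F53632) D29834 (iv D26111)
theorem F64576 : act 6 n29834 = n28459 := d14_2 (iv F53633) D29834 (iv D28459)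
theorem F64577 : act 3 n29834 = n29436 := d21_1 D29834 (iv D29436) (iv D25709) (iv D21404) F28020 D16361 D21647 (iv F53631)
def n29835 : Q := act 4 n26077
theorem D29835 : act 4 n26077 = n29835 := rfl
theorem F64578 : act 0 n29835 = n26079 := d3_1 D29835 (iv D26079) (iv F53631)
theorem F64579 : act 1 n29835 = n29649 := d8_1 D29835 F63950 F54377
theorem F64580 : act 3 n29835 = n26724 := d15_1 D29835 (iv D26724) (iv D22281) (iv F41923) D26077
theorem F64581 : act 5 n29835 = n26112 := d18_2 (iv F53632) D29835 (iv D26112)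
theorem F64582 : act 6 n29835 = n28460 := d19_2 (iv F53633) D29835 (iv D28460)
def n29836 : Q := act 3 n26078
theorem D29836 : act 3 n26078 = n29836 := rfl
theorem F64583 : act 0 n29836 = n29436 := d2_1 D29836 (iv F64577) F64574
theorem F64584 : act 1 n29836 = n28376 := d7_1 D29836 F64273 F64270
theorem F64585 : act 2 n29836 = n29435 := d11_1 D29836 (iv D29435) (iv D25708) F41394 D21646 D26077 D29834 F64577 (iv D29436) (iv D25709) (iv D21404) F28020 D16361 D21647 D26078
theorem F64586 : act 5 n29836 = n26114 := d16_2 (iv F53634) D29836 (iv D26114)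
theorem F64587 : act 6 n29836 = n28365 := d22_1 (iv F64586) F63380 (iv D29456) (iv F53715)
theorem F64588 : act 4 n29088 = n29836 := d19_3 F64587 F60378 D29088
def n29837 : Q := act 4 n26078
theorem D29837 : act 4 n26078 = n29837 := rfl
theorem F64589 : act 2 n29837 = n26079 := d12_1 D29837 (iv D26079) D26078
theorem F64590 : act 5 n29837 = n26115 := d18_2 (iv F53634) D29837 (iv D26115)
def n29838 : Q := act 6 n26078
theorem D29838 : act 6 n26078 = n29838 := rfl
theorem F64591 : act 0 n29838 = n28459 := d5_1 D29838 (iv F64576) F64574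
theorem F64592 : act 1 n29838 = n28366 := d10_1 D29838 F60380 (iv F60401) (iv F64272) F64270
theorem F64593 : act 2 n29838 = n26080 := d14_1 D29838 (iv D26080) D26078
theorem F64594 : act 3 n29838 = n28365 := d17_1 D29838 (iv F64587) (iv D29836)
theorem F64595 : act 5 n29838 = n29604 := d20_1 D29838 F63795 (iv F64575) F64576 F60630 (iv D26116) (iv F53634)
def n29839 : Q := act 6 n26079
theorem D29839 : act 6 n26079 = n29839 := rfl
theorem F64596 : act 0 n29839 = n28460 := d5_1 D29839 (iv F64582) F64578
theorem F64597 : act 3 n29839 = n26726 := d17_1 D29839 (iv D26726) (iv F53635)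
theorem F64598 : act 4 n29839 = n26080 := d19_1 D29839 (iv D26080) D26079
theorem F64599 : act 5 n29839 = n29605 := d20_1 D29839 F63799 (iv F64581) F64582 F60633 (iv D26117) (iv F53636)
def n29840 : Q := act 1 n26080
theorem D29840 : act 1 n26080 = n29840 := rfl
theorem F64600 : act 2 n29840 = n27101 := d6_2 F64593 D29840 (iv F60617) F60618 (iv F64592)
theorem F64601 : act 3 n29840 = n26081 := d7_2 (iv F53638) D29840 (iv D26081)
theorem F64602 : act 6 n29840 = n27100 := d10_2 D26080 D29840 (iv F64518) F64520 F53609
def n29841 : Q := act 0 n26081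
theorem D29841 : act 0 n26081 = n29841 := rfl
theorem F64603 : act 2 n29841 = n29603 := d1_2 (iv F53640) D29841 (iv D29603)
theorem F64604 : act 4 n29841 = n26728 := d3_2 (iv F53641) D29841 (iv D26728)
theorem F64605 : act 5 n29841 = n29620 := d4_2 F59578 D29841 F63849
theorem F64606 : act 6 n29841 = n26103 := d5_2 F64569 D29841 (iv F64564)
theorem F64607 : act 1 n27927 = n29841 := d10_5 F64606 (iv D26103) D26105 (iv F64233) F64236
def n29842 : Q := act 2 n26082
theorem D29842 : act 2 n26082 = n29842 := rfl
theorem F64608 : act 0 n29842 = n28421 := d1_1 D29842 F60528 (iv F53642)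
theorem F64609 : act 4 n29842 = n28689 := d12_2 F56597 D29842 F61307
theorem F64610 : act 6 n29842 = n28416 := d14_2 (iv F53643) D29842 (iv D28416)
def n29843 : Q := act 2 n26083
theorem D29843 : act 2 n26083 = n29843 := rfl
theorem F64611 : act 0 n29843 = n26084 := d1_1 D29843 (iv D26084) D26083
theorem F64612 : act 1 n29843 = n27869 := d6_1 D29843 (iv D27869) (iv D23904) (iv F42374) F53646
theorem F64613 : act 4 n29843 = n26731 := d12_2 (iv F53644) D29843 (iv D26731)
theorem F64614 : act 5 n29843 = n29843 := d13_2 F53645 D29843 (iv D29843)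
theorem F64615 : act 6 n29843 = n26102 := d14_2 F53647 D29843 (iv D26102)
def n29844 : Q := act 3 n26084
theorem D29844 : act 3 n26084 = n29844 := rfl
theorem F64616 : act 1 n29844 = n28081 := d7_1 D29844 F59510 (iv F53648)
theorem F64617 : act 4 n29844 = n28082 := d15_2 (iv F53649) D29844 F59513 F48697 F43479
theorem F64618 : act 5 n29844 = n29844 := d16_2 F53650 D29844 (iv D29844)
theorem F64619 : act 6 n27495 = n29844 := d10_0 F64616 F59512 F59429 (iv D27496) D27495
def n29845 : Q := act 6 n26084
theorem D29845 : act 6 n26084 = n29845 := rfl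
theorem F64620 : act 0 n29845 = n26102 := d5_1 D29845 (iv F64615) F64611
theorem F64621 : act 1 n29845 = n27494 := d10_1 D29845 (iv F59268) F59265 (iv F49372) (iv F53648)
theorem F64622 : act 2 n29845 = n26085 := d14_1 D29845 (iv D26085) D26084
theorem F64623 : act 3 n29845 = n27495 := d17_1 D29845 F64619 (iv D29844)
theorem F64624 : act 4 n29845 = n26732 := d19_1 D29845 (iv D26732) (iv F53649)
theorem F64625 : act 5 n29845 = n26102 := d22_2 F53650 D29845 (iv F64615) F64611
def n29846 : Q := act 0 n26086
theorem D29846 : act 0 n26086 = n29846 := rfl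
theorem F64626 : act 1 n29846 = n27039 := d0_2 D26086 D29846 (iv D27039) (iv D22850) F32176 (iv F42784) F42783 F45107 F45103
theorem F64627 : act 2 n29846 = n27792 := d1_2 F58514 D29846 F58620
theorem F64628 : act 3 n29846 = n26733 := d2_2 (iv F53655) D29846 (iv D26733)
theorem F64629 : act 4 n29846 = n26087 := d3_2 (iv F53656) D29846 (iv D26087)
theorem F64630 : act 5 n29846 = n26094 := d4_2 (iv F53657) D29846 (iv D26094)
theorem F64631 : act 6 n29846 = n27791 := d5_2 F56487 D29846 F58615
def n29847 : Q := act 1 n26087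
theorem D29847 : act 1 n26087 = n29847 := rfl
theorem F64632 : act 0 n29847 = n26134 := d0_1 D29847 F53777 (iv F45064) (iv F54761) F54760 (iv D22889) F32278 D21652 D26087
theorem F64633 : act 3 n29847 = n26090 := d7_2 (iv F53658) D29847 (iv D26090)
theorem F64634 : act 4 n29847 = n27039 := d8_2 F64629 D29847 (iv F64626)
theorem F64635 : act 5 n29847 = n26132 := d9_2 (iv F53659) D29847 (iv F56581) F56585 (iv D26096)
def n29848 : Q := act 2 n26087
theorem D29848 : act 2 n26087 = n29848 := rfl
theorem F64636 : act 0 n29848 = n26088 := d1_1 D29848 (iv D26088) D26087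
theorem F64637 : act 4 n29848 = n27792 := d12_2 F64629 D29848 (iv F64627)
theorem F64638 : act 5 n29848 = n26097 := d13_2 (iv F53659) D29848 (iv D26097)
theorem F64639 : act 6 n29848 = n27613 := d14_2 F53692 D29848 F58068
def n29849 : Q := act 3 n26088
theorem D29849 : act 3 n26088 = n29849 := rfl
theorem F64640 : act 5 n29849 = n26099 := d16_2 (iv F53660) D29849 (iv D26099)
def n29850 : Q := act 3 n26091
theorem D29850 : act 3 n26091 = n29850 := rfl
theorem F64641 : act 0 n29850 = n26092 := d2_1 D29850 (iv D26092) (iv F53666)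
theorem F64642 : act 1 n29850 = n28098 := d7_1 D29850 F59557 (iv F53667)
theorem F64643 : act 4 n29850 = n26297 := d15_2 (iv F53668) D29850 F54191 F42277 (iv F43525)
theorem F64644 : act 5 n29850 = n26104 := d16_2 (iv F53669) D29850 (iv D26104)
theorem F64645 : act 6 n29850 = n26295 := d17_2 (iv F53670) D29850 F54184
def n29851 : Q := act 2 n26092
theorem D29851 : act 2 n26092 = n29851 := rfl
theorem F64646 : act 1 n29851 = n28381 := d6_1 D29851 F61790 F64532 F64529 F64259
theorem F64647 : act 5 n29851 = n26106 := d13_2 (iv F53671) D29851 (iv D26106)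
theorem F64648 : act 3 n29118 = n29851 := d7_0 F64646 F60417 D29118
theorem F64649 : act 4 n28382 = n29851 := d8_0 F64646 F60418 D28382
def n29852 : Q := act 4 n26092
theorem D29852 : act 4 n26092 = n29852 := rfl
theorem F64650 : act 0 n29852 = n26297 := d3_1 D29852 (iv F64643) F64641
theorem F64651 : act 2 n29852 = n28382 := d12_1 D29852 F64649 (iv D29851)
theorem F64652 : act 3 n29852 = n26208 := d15_1 D29852 F53985 (iv D22306) (iv F41950) D26092
theorem F64653 : act 5 n29852 = n26107 := d18_2 (iv F53671) D29852 (iv D26107)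
theorem F64654 : act 6 n29852 = n26206 := d19_2 F62404 D29852 (iv F62403)
def n29853 : Q := act 3 n26093
theorem D29853 : act 3 n26093 = n29853 := rfl
theorem F64655 : act 0 n29853 = n28445 := d2_1 D29853 F60582 (iv F53672)
theorem F64656 : act 4 n29853 = n27075 := d15_2 (iv F53673) D29853 F56615 F45319 (iv F43532)
theorem F64657 : act 5 n29853 = n27072 := d16_2 (iv F53674) D29853 F56609
def n29854 : Q := act 3 n26097
theorem D29854 : act 3 n26097 = n29854 := rfl
theorem F64658 : act 0 n29854 = n26099 := d2_1 D29854 (iv D26099) (iv F53681)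
def n29855 : Q := act 2 n26099
theorem D29855 : act 2 n26099 = n29855 := rfl
def n29856 : Q := act 6 n26099
theorem D29856 : act 6 n26099 = n29856 := rfl
theorem F64659 : act 3 n29856 = n26100 := d17_1 D29856 (iv D26100) D26099
def n29857 : Q := act 1 n26102
theorem D29857 : act 1 n26102 = n29857 := rfl
theorem F64660 : act 0 n29857 = n28088 := d0_1 D29857 F59534 (iv D26155) (iv D21712) (iv F42069) F48543 (iv F57795) (iv F64621) F64620
theorem F64661 : act 2 n29857 = n26103 := d6_2 D26102 D29857 (iv D26103) (iv D21666) D21665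
theorem F64662 : act 4 n29857 = n26739 := d8_2 (iv F53694) D29857 (iv D26739)
theorem F64663 : act 5 n29857 = n27122 := d9_2 F64625 D29857 F56755 D27494 (iv F64621)
theorem F64664 : act 6 n29857 = n29603 := d10_2 F64615 D29857 (iv F63793) F58991 (iv F64612)
theorem F64665 : act 3 n27123 = n29857 := d16_3 F64663 (iv D27122) D27123
def n29858 : Q := act 3 n26102
theorem D29858 : act 3 n26102 = n29858 := rfl
theorem F64666 : act 0 n29858 = n27495 := d2_1 D29858 (iv F64623) F64620
theorem F64667 : act 1 n29858 = n27123 := d7_1 D29858 F64665 (iv D29857)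
theorem F64668 : act 5 n29858 = n27495 := d16_2 F64625 D29858 (iv F64623)
def n29859 : Q := act 3 n26103
theorem D29859 : act 3 n26103 = n29859 := rfl
theorem F64669 : act 0 n29859 = n27100 := d2_1 D29859 (iv F64566) F64564
theorem F64670 : act 1 n29859 = n26104 := d7_1 D29859 (iv D26104) D26103
theorem F64671 : act 5 n29859 = n27127 := d16_2 (iv F53696) D29859 F56767
theorem F64672 : act 2 n29859 = n27099 := d21_4 (iv F56758) F64665 F64661 D29859 F56687 (iv F45442) (iv F56752) F56751
def n29860 : Q := act 2 n26104
theorem D29860 : act 2 n26104 = n29860 := rfl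
theorem F64673 : act 0 n29860 = n26106 := d1_1 D29860 (iv D26106) (iv F53697)
theorem F64674 : act 3 n29860 = n29855 := d21_1 D29860 (iv D29855) (iv D26099) (iv D21663) F28375 D16378 D21668 (iv F53697)
def n29861 : Q := act 4 n26104
theorem D29861 : act 4 n26104 = n29861 := rfl
theorem F64675 : act 0 n29861 = n26107 := d3_1 D29861 (iv D26107) (iv F53697)
theorem F64676 : act 3 n29861 = n26298 := d15_1 D29861 F54194 F43005 (iv F41967) D26104
theorem F64677 : act 5 n29861 = n26297 := d18_2 F64644 D29861 (iv F64643)
def n29862 : Q := act 6 n26104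
theorem D29862 : act 6 n26104 = n29862 := rfl
theorem F64678 : act 0 n29862 = n26108 := d5_1 D29862 (iv D26108) (iv F53697)
theorem F64679 : act 3 n29862 = n26105 := d17_1 D29862 (iv D26105) D26104
theorem F64680 : act 5 n29862 = n29047 := d20_1 D29862 F62404 F53671 D26108 F54185 (iv F64645) F64644
def n29863 : Q := act 1 n26106
theorem D29863 : act 1 n26106 = n29863 := rfl
theorem F64681 : act 2 n29863 = n26113 := d6_2 D26106 D29863 (iv D26113) (iv D21674) (iv F41972)
theorem F64682 : act 5 n29863 = n28351 := d9_2 F64647 D29863 F60347 D28381 (iv F64646)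
theorem F64683 : act 3 n29008 = n29863 := d16_3 F64682 F60348 F62320
theorem F64684 : act 4 n28314 = n29863 := d18_3 F64682 (iv D28351) (iv F60258)
theorem F64685 : act 6 n29863 = n28313 := d19_2 D28314 F64684 (iv D28313)
def n29864 : Q := act 3 n26106
theorem D29864 : act 3 n26106 = n29864 := rfl
theorem F64686 : act 0 n29864 = n29855 := d2_1 D29864 (iv F64674) F64673
theorem F64687 : act 1 n29864 = n29008 := d7_1 D29864 F64683 (iv D29863)
theorem F64688 : act 2 n29864 = n29854 := d11_1 D29864 (iv D29854) (iv D26097) F41962 D21666 D26104 D29860 F64674 (iv D29855) (iv D26099) (iv D21663) F28375 D16378 D21668 D26106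
theorem F64689 : act 5 n29864 = n29118 := d16_2 F64647 D29864 F64648
theorem F64690 : act 4 n29009 = n29864 := d18_3 F64689 F62573 (iv F62322)
theorem F64691 : act 6 n29864 = n29021 := d19_2 (iv F62323) F64690 F62345
def n29865 : Q := act 4 n26106
theorem D29865 : act 4 n26106 = n29865 := rfl
theorem F64692 : act 1 n29865 = n28314 := d8_1 D29865 F64684 (iv D29863)
theorem F64693 : act 2 n29865 = n26107 := d12_1 D29865 (iv D26107) D26106
theorem F64694 : act 3 n29865 = n28315 := d15_1 D29865 F60259 (iv F62321) F64690 (iv D29864)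
theorem F64695 : act 5 n29865 = n28382 := d18_2 F64647 D29865 F64649
theorem F64696 : act 6 n28325 = n29865 := d17_0 F64694 F60261 (iv F60285)
def n29866 : Q := act 6 n26106
theorem D29866 : act 6 n26106 = n29866 := rfl
theorem F64697 : act 1 n29866 = n28324 := d10_1 D29866 (iv D28324) (iv F60255) (iv F64685) (iv D29863)
theorem F64698 : act 2 n29866 = n26108 := d14_1 D29866 (iv D26108) D26106
theorem F64699 : act 3 n29866 = n29021 := d17_1 D29866 (iv F64691) (iv D29864)
theorem F64700 : act 4 n29866 = n28325 := d19_1 D29866 F64696 (iv D29865)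
def n29867 : Q := act 4 n26109
theorem D29867 : act 4 n26109 = n29867 := rfl
theorem F64701 : act 1 n29867 = n29747 := d8_1 D29867 F64287 (iv F53705)
theorem F64702 : act 3 n29867 = n26741 := d15_1 D29867 (iv D26741) (iv D22317) (iv F41979) D26109
theorem F64703 : act 5 n29867 = n28952 := d18_2 (iv F53706) D29867 F62174
theorem F64704 : act 6 n29867 = n28959 := d19_2 (iv F53707) D29867 F62201
def n29868 : Q := act 1 n26111
theorem D29868 : act 1 n26111 = n29868 := rfl
theorem F64705 : act 3 n29868 = n29454 := d7_2 (iv F53712) D29868 (iv D29454)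
def n29869 : Q := act 4 n26111
theorem D29869 : act 4 n26111 = n29869 := rfl
theorem F64706 : act 0 n29869 = n26115 := d3_1 D29869 (iv D26115) (iv F53711)
theorem F64707 : act 2 n29869 = n26112 := d12_1 D29869 (iv D26112) D26111
def n29870 : Q := act 0 n26113
theorem D29870 : act 0 n26113 = n29870 := rfl
theorem F64708 : act 6 n27884 = n29870 := d22_3 (iv F64409) F64410 F62193 (iv D29870)
def n29871 : Q := act 3 n26113
theorem D29871 : act 3 n26113 = n29871 := rfl
theorem F64709 : act 1 n29871 = n26114 := d7_1 D29871 (iv D26114) D26113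
theorem F64710 : act 5 n29871 = n28958 := d16_2 F64409 D29871 (iv F64408)
theorem F64711 : act 2 n29871 = n28958 := d21_4 F62460 F64683 F64681 D29871 (iv F64408) F64407 F60348 (iv F62459)
theorem F64712 : act 6 n28339 = n29871 := d14_0 F64711 (iv D28958) (iv F60323)
def n29872 : Q := act 4 n26113
theorem D29872 : act 4 n26113 = n29872 := rfl
theorem F64713 : act 1 n29872 = n26115 := d8_1 D29872 (iv D26115) D26113
theorem F64714 : act 2 n29872 = n28314 := d12_1 D29872 F64684 F64681
theorem F64715 : act 5 n29872 = n28350 := d18_2 F64409 D29872 F64411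
theorem F64716 : act 6 n28312 = n29872 := d14_0 F64714 (iv D28314) D28312
def n29873 : Q := act 6 n26113
theorem D29873 : act 6 n26113 = n29873 := rfl
theorem F64717 : act 0 n29873 = n27884 := d5_1 D29873 F64708 (iv D29870)
theorem F64718 : act 2 n29873 = n28313 := d14_1 D29873 (iv F64685) F64681
theorem F64719 : act 3 n29873 = n28339 := d17_1 D29873 F64712 (iv D29871)
theorem F64720 : act 4 n29873 = n28312 := d19_1 D29873 F64716 (iv D29872)
theorem F64721 : act 5 n29873 = n28338 := d24_1 D29873 F60320 (iv F60289) (iv D28326) D28325 F64696 F64695 (iv D28382) D28383 F60422 (iv F64592) (iv D29838) F53634 D26113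
theorem F64722 : act 1 n28956 = n29873 := d9_5 F64721 F60320 F49670 (iv F59089) (iv F62190)
def n29874 : Q := act 4 n26114
theorem D29874 : act 4 n26114 = n29874 := rfl
theorem F64723 : act 0 n29874 = n29455 := d3_1 D29874 (iv D29455) (iv F53715)
theorem F64724 : act 2 n29874 = n29453 := d12_1 D29874 (iv D29453) (iv F53716)
theorem F64725 : act 5 n29874 = n29088 := d18_2 F64586 D29874 F64588
theorem F64726 : act 6 n29081 = n29874 := d22_1 F62522 F64725 (iv D29088) D29085
def n29875 : Q := act 6 n26114
theorem D29875 : act 6 n26114 = n29875 := rfl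
theorem F64727 : act 0 n29875 = n29456 := d5_1 D29875 (iv D29456) (iv F53715)
theorem F64728 : act 1 n29875 = n28363 := d10_1 D29875 F60374 (iv F60322) F64712 F64709
theorem F64729 : act 2 n29875 = n29297 := d14_1 D29875 F63011 (iv F53716)
theorem F64730 : act 3 n29875 = n26116 := d17_1 D29875 (iv D26116) D26114
theorem F64731 : act 4 n29875 = n29081 := d19_1 D29875 F64726 (iv D29874)
def n29876 : Q := act 3 n26115
theorem D29876 : act 3 n26115 = n29876 := rfl
def n29877 : Q := act 6 n26115
theorem D29877 : act 6 n26115 = n29877 := rfl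
theorem F64732 : act 2 n29877 = n26117 := d14_1 D29877 (iv D26117) (iv F53717)
theorem F64733 : act 4 n29877 = n26116 := d19_1 D29877 (iv D26116) D26115
def n29878 : Q := act 1 n26116
theorem D29878 : act 1 n26116 = n29878 := rfl
theorem F64734 : act 3 n29878 = n28363 := d7_2 F64730 D29878 (iv F64728)
theorem F64735 : act 6 n29878 = n28956 := d10_2 D26116 D29878 F64722 (iv D29873) (iv D26113)
theorem F64736 : act 5 n28360 = n29878 := d22_0 F64735 F62190 (iv F63351) F63349
def n29879 : Q := act 0 n26118
theorem D29879 : act 0 n26118 = n29879 := rfl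
theorem F64737 : act 1 n29879 = n26386 := d0_2 D26118 D29879 (iv F54394) F54395 (iv F63904) (iv F64057) F64056 F63757 F53038
theorem F64738 : act 3 n29879 = n26119 := d2_2 (iv F53721) D29879 (iv D26119)
theorem F64739 : act 4 n29879 = n26311 := d3_2 F54218 D29879 F54220
theorem F64740 : act 6 n29879 = n28059 := d5_2 (iv F54212) D29879 (iv F59442)
theorem F64741 : act 5 n29879 = n26309 := d22_0 (iv D26309) D26308 (iv F54212) D29879
def n29880 : Q := act 2 n26118
theorem D29880 : act 2 n26118 = n29880 := rfl
def n29881 : Q := act 5 n26118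
theorem D29881 : act 5 n26118 = n29881 := rfl
theorem F64742 : act 0 n29881 = n26309 := d4_1 D29881 (iv F64741) (iv D29879)
theorem F64743 : act 1 n29881 = n29596 := d9_1 D29881 F63767 F60627 F49904 D26118
theorem F64744 : act 3 n29881 = n26120 := d16_1 D29881 (iv D26120) (iv F53721)
theorem F64745 : act 4 n29881 = n26302 := d18_1 D29881 (iv F54219) F54218
theorem F64746 : act 6 n29881 = n26300 := d20_2 (iv F54212) D29881 F59443 (iv F64740) F64741 (iv D26309) D26308
def n29882 : Q := act 1 n26123
theorem D29882 : act 1 n26123 = n29882 := rfl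
theorem F64747 : act 2 n29882 = n29110 := d6_2 (iv F53740) D29882 F63957 F60562 (iv F53146)
theorem F64748 : act 3 n29882 = n28840 := d7_2 (iv F53741) D29882 (iv D28840)
theorem F64749 : act 4 n29882 = n29161 := d8_2 F60726 D29882 (iv F62653)
theorem F64750 : act 5 n29882 = n29134 := d9_2 D26123 D29882 (iv D29134) F52254 (iv F42000)
theorem F64751 : act 0 n28408 = n29882 := d3_3 F64749 (iv D29161) (iv F60494)
def n29883 : Q := act 0 n26128
theorem D29883 : act 0 n26128 = n29883 := rfl
theorem F64752 : act 1 n29883 = n26517 := d0_2 D26128 D29883 (iv F54766) F54767 (iv D26094) (iv D21661) F28371 D16395 D21692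
theorem F64753 : act 2 n29883 = n27771 := d1_2 (iv F53755) D29883 (iv D27771)
theorem F64754 : act 3 n29883 = n26750 := d2_2 (iv F53756) D29883 (iv D26750)
theorem F64755 : act 4 n29883 = n26132 := d3_2 (iv F53757) D29883 (iv D26132)
theorem F64756 : act 5 n29883 = n27039 := d4_2 (iv F53758) D29883 (iv D27039)
theorem F64757 : act 6 n27778 = n29883 := d22_3 F53758 (iv F47316) D27778 (iv D29883)
def n29884 : Q := act 6 n26128
theorem D29884 : act 6 n26128 = n29884 := rfl
theorem F64758 : act 0 n29884 = n27778 := d5_1 D29884 F64757 (iv D29883)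
theorem F64759 : act 2 n29884 = n27772 := d14_1 D29884 (iv D27772) (iv F53755)
theorem F64760 : act 3 n29884 = n26753 := d17_1 D29884 (iv D26753) (iv F53756)
theorem F64761 : act 4 n29884 = n26135 := d19_1 D29884 (iv D26135) (iv F53757)
theorem F64762 : act 5 n29884 = n27776 := d20_1 D29884 F58551 (iv F64756) (iv F64757) (iv D27778) F47316 (iv F53758)
def n29885 : Q := act 0 n26129
theorem D29885 : act 0 n26129 = n29885 := rfl
theorem F64763 : act 1 n29885 = n27776 := d0_2 D26129 D29885 (iv D27776) (iv D23690) (iv F36011) D23691 F54343 (iv D26364) F42366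
theorem F64764 : act 2 n29885 = n26828 := d1_2 (iv F53759) D29885 F55772
theorem F64765 : act 3 n29885 = n26605 := d2_2 (iv F53760) D29885 F55040
theorem F64766 : act 4 n29885 = n26136 := d3_2 (iv F53761) D29885 (iv D26136)
theorem F64767 : act 5 n29885 = n26607 := d4_2 F55767 D29885 (iv F55762)
theorem F64768 : act 6 n29885 = n26130 := d5_2 (iv F53762) D29885 (iv D26130)
def n29886 : Q := act 2 n26132
theorem D29886 : act 2 n26132 = n29886 := rfl
theorem F64769 : act 0 n29886 = n26133 := d1_1 D29886 (iv D26133) D26132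
theorem F64770 : act 4 n29886 = n27771 := d12_2 F64755 D29886 (iv F64753)
theorem F64771 : act 6 n29886 = n27932 := d14_2 F53774 D29886 (iv F59072)
theorem F64772 : act 3 n27933 = n29886 := d17_3 F64771 (iv D27932) D27933
def n29887 : Q := act 5 n26133
theorem D29887 : act 5 n26133 = n29887 := rfl
theorem F64773 : act 1 n29887 = n26848 := d9_1 D29887 F55828 (iv F51787) (iv F51790) (iv F53775)
theorem F64774 : act 2 n29887 = n26134 := d13_1 D29887 (iv D26134) D26133
theorem F64775 : act 4 n29887 = n27040 := d18_1 D29887 F56490 (iv F53776)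
def n29888 : Q := act 6 n26133
theorem D29888 : act 6 n26133 = n29888 := rfl
theorem F64776 : act 0 n29888 = n27932 := d5_1 D29888 (iv F64771) F64769
theorem F64777 : act 2 n29888 = n26135 := d14_1 D29888 (iv D26135) D26133
theorem F64778 : act 3 n29888 = n27931 := d17_1 D29888 (iv F60120) F60119
theorem F64779 : act 4 n29888 = n27772 := d19_1 D29888 (iv D27772) (iv F53776)
theorem F64780 : act 5 n29888 = n28928 := d24_1 D29888 F62093 (iv F59527) F59525 F58111 F58113 (iv F50920) F40233 (iv F39895) F39894 (iv F40478) D25257 (iv F51790) (iv F53775)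
def n29889 : Q := act 5 n26135
theorem D29889 : act 5 n26135 = n29889 := rfl
theorem F64781 : act 0 n29889 = n27554 := d4_1 D29889 F57923 (iv F53780)
theorem F64782 : act 2 n29889 = n28928 := d13_1 D29889 (iv F64780) F64777
theorem F64783 : act 3 n29889 = n26145 := d16_1 D29889 (iv D26145) (iv F53781)
theorem F64784 : act 4 n29889 = n27776 := d18_1 D29889 (iv F64762) F64761
theorem F64785 : act 6 n29889 = n29847 := d20_2 D26135 D29889 F64635 (iv F53774) (iv F57923) F57924 (iv D26134)
theorem F64786 : act 1 n29889 = n26136 := d24_2 D26135 D29889 F53783 D26139 F53792 (iv D25399) F40943 (iv D21186) D21187 F40947 F40757 (iv D16484) (iv F28412) D21695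
def n29890 : Q := act 2 n26136
theorem D29890 : act 2 n26136 = n29890 := rfl
theorem F64787 : act 0 n29890 = n26137 := d1_1 D29890 (iv D26137) D26136
theorem F64788 : act 1 n29890 = n28873 := d6_1 D29890 F61894 (iv F62093) (iv F64782) F64786
theorem F64789 : act 4 n29890 = n26828 := d12_2 F64766 D29890 (iv F64764)
theorem F64790 : act 6 n29890 = n26138 := d14_2 (iv F53783) D29890 (iv D26138)
def n29891 : Q := act 3 n26137
theorem D29891 : act 3 n26137 = n29891 := rfl
theorem F64791 : act 1 n29891 = n27313 := d7_1 D29891 F57323 (iv F53784)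
theorem F64792 : act 6 n29891 = n26140 := d17_2 (iv F53786) D29891 (iv D26140)
def n29892 : Q := act 3 n26138
theorem D29892 : act 3 n26138 = n29892 := rfl
theorem F64793 : act 0 n29892 = n26140 := d2_1 D29892 (iv D26140) (iv F53787)
theorem F64794 : act 1 n29892 = n27497 := d7_1 D29892 F57802 F53789
theorem F64795 : act 4 n29892 = n26318 := d15_2 (iv F53788) D29892 F54229 F42305 (iv F43990)
theorem F64796 : act 5 n29892 = n26317 := d16_2 F53790 D29892 F54228
def n29893 : Q := act 2 n26140
theorem D29893 : act 2 n26140 = n29893 := rfl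
theorem F64797 : act 4 n29893 = n27515 := d12_2 F62178 D29893 (iv F62176)
theorem F64798 : act 5 n29893 = n27524 := d13_2 F64281 D29893 (iv F64279)
theorem F64799 : act 3 n29893 = n27761 := d21_1 D29893 F58496 F47274 (iv D21706) (iv F42042) D26138 D29892 F64793
theorem F64800 : act 1 n27514 = n29893 := d7_3 F64799 F58495 (iv F57840)
def n29894 : Q := act 6 n26141
theorem D29894 : act 6 n26141 = n29894 := rfl
theorem F64801 : act 0 n29894 = n26827 := d5_1 D29894 (iv D26827) (iv F53797)
theorem F64802 : act 1 n29894 = n27042 := d10_1 D29894 F56495 F55183 (iv D26651) F53800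
theorem F64803 : act 2 n29894 = n26142 := d14_1 D29894 (iv D26142) (iv F53798)
theorem F64804 : act 4 n29894 = n26650 := d19_1 D29894 (iv D26650) (iv F53799)
theorem F64805 : act 5 n29894 = n29890 := d20_1 D29894 F64790 (iv F53790) D26827 F55771 F53786 D26141
def n29895 : Q := act 1 n26142
theorem D29895 : act 1 n26142 = n29895 := rfl
theorem F64806 : act 0 n29895 = n26367 := d0_1 D29895 F54351 F53780 (iv D26089) F41944 (iv F41943) (iv F40945) D25400 (iv F53801)
theorem F64807 : act 3 n29895 = n26153 := d7_2 (iv F53802) D29895 (iv D26153)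
theorem F64808 : act 4 n29895 = n27780 := d8_2 F55050 D29895 F58568
theorem F64809 : act 5 n29895 = n26367 := d9_2 (iv F53803) D29895 F54351 D29889 F64786
theorem F64810 : act 6 n29895 = n26365 := d10_2 D26142 D29895 (iv F54347) F46561 (iv F42043)
def n29896 : Q := act 3 n26143
theorem D29896 : act 3 n26143 = n29896 := rfl
theorem F64811 : act 0 n29896 = n26144 := d2_1 D29896 (iv D26144) (iv F53804)
theorem F64812 : act 1 n29896 = n26354 := d7_1 D29896 F54315 F53808
theorem F64813 : act 4 n29896 = n27121 := d15_2 (iv F53805) D29896 F56752 F45443 F43659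
theorem F64814 : act 5 n29896 = n26358 := d16_2 (iv F53806) D29896 F54325
theorem F64815 : act 6 n29896 = n29853 := d17_2 (iv F53807) D29896 (iv D29853)
def n29897 : Q := act 2 n26144
theorem D29897 : act 2 n26144 = n29897 := rfl
theorem F64816 : act 4 n29897 = n27123 := d12_2 (iv F53809) D29897 F56758
theorem F64817 : act 5 n29897 = n27119 := d13_2 (iv F53810) D29897 (iv D27119)
def n29898 : Q := act 2 n26147
theorem D29898 : act 2 n26147 = n29898 := rfl
theorem F64818 : act 4 n29898 = n27717 := d12_2 (iv F53819) D29898 F58319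
theorem F64819 : act 5 n29898 = n27251 := d13_2 (iv F53820) D29898 F57129
theorem F64820 : act 6 n29898 = n26149 := d14_2 (iv F53821) D29898 (iv D26149)
theorem F64821 : act 1 n29898 = n27602 := d23_2 (iv F53820) D29898 F58048 (iv D27594) F46631 F46526 (iv F46539) (iv F46547) (iv F46652) D27598 (iv F59995) F59999 F50999 F40470 F27380 (iv F27072) (iv F39893) (iv F51391) F51390
def n29899 : Q := act 3 n26149
theorem D29899 : act 3 n26149 = n29899 := rfl
theorem F64822 : act 0 n29899 = n29893 := d2_1 D29899 F64799 F58494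
theorem F64823 : act 1 n29899 = n27619 := d7_1 D29899 F58078 (iv F53826)
theorem F64824 : act 2 n29899 = n29892 := d11_1 D29899 (iv D29892) (iv D26138) F42042 D21706 (iv F47274) (iv F58496) (iv F64799) (iv D29893) (iv D26140) (iv D21698) F28414 D16403 D21708 D26149
def n29900 : Q := act 2 n26154
theorem D29900 : act 2 n26154 = n29900 := rfl
theorem F64825 : act 0 n29900 = n26159 := d1_1 D29900 (iv D26159) (iv F53848)
theorem F64826 : act 4 n29900 = n27628 := d12_2 F64248 D29900 (iv F64246)
theorem F64827 : act 6 n29900 = n27626 := d14_2 (iv F53849) D29900 F58090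
theorem F64828 : act 3 n29900 = n29487 := d21_1 D29900 (iv D29487) (iv D25749) (iv D21434) F28050 D16406 D21713 (iv F53848)
def n29901 : Q := act 3 n26155
theorem D29901 : act 3 n26155 = n29901 := rfl
theorem F64829 : act 0 n29901 = n26156 := d2_1 D29901 (iv D26156) D26155
theorem F64830 : act 6 n29901 = n29636 := d17_2 F53852 D29901 F63908
def n29902 : Q := act 2 n26156
theorem D29902 : act 2 n26156 = n29902 := rfl
def n29903 : Q := act 4 n26156
theorem D29903 : act 4 n26156 = n29903 := rfl
theorem F64831 : act 1 n29903 = n26160 := d8_1 D29903 (iv D26160) (iv F53853)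
theorem F64832 : act 3 n29903 = n26759 := d15_1 D29903 (iv D26759) (iv D22366) (iv F42073) D26156
theorem F64833 : act 5 n29675 = n29903 := d16_0 F64832 F55556 (iv F64060)
theorem F64834 : act 6 n29593 = n29903 := d17_0 F64832 F55557 D29593
def n29904 : Q := act 5 n26156
theorem D29904 : act 5 n26156 = n29904 := rfl
theorem F64835 : act 3 n29904 = n26157 := d16_1 D29904 (iv D26157) D26156
theorem F64836 : act 4 n29904 = n29675 := d18_1 D29904 F64833 (iv D29903)
theorem F64837 : act 6 n29904 = n29673 := d22_1 D29904 (iv F64055) (iv F64830) F64829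
def n29905 : Q := act 6 n26156
theorem D29905 : act 6 n26156 = n29905 := rfl
theorem F64838 : act 0 n29905 = n29636 := d5_1 D29905 (iv F64830) F64829
theorem F64839 : act 1 n29905 = n29605 := d10_1 D29905 F63799 F53869 (iv D26162) (iv F53853)
theorem F64840 : act 3 n29905 = n26158 := d17_1 D29905 (iv D26158) D26156
theorem F64841 : act 4 n29905 = n29593 := d19_1 D29905 F64834 (iv D29903)
def n29906 : Q := act 1 n26157
theorem D29906 : act 1 n26157 = n29906 := rfl
theorem F64842 : act 0 n29906 = n29906 := d0_1 D29906 (iv D29906) (iv F59550) (iv D28093) F48707 F37365 (iv F48707) D28093 F59550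
theorem F64843 : act 2 n29906 = n26217 := d6_2 (iv F53854) D29906 (iv D26217) F42146 (iv F42082)
theorem F64844 : act 4 n29906 = n26760 := d8_2 (iv F53855) D29906 (iv D26760)
theorem F64845 : act 5 n29906 = n26163 := d9_2 D26157 D29906 (iv D26163) (iv D21714) D21712
theorem F64846 : act 6 n29906 = n26217 := d10_2 F55081 D29906 (iv D26217) (iv F43179) (iv F55078)
def n29907 : Q := act 5 n26158
theorem D29907 : act 5 n26158 = n29907 := rfl
theorem F64847 : act 0 n29907 = n26615 := d4_1 D29907 F55080 (iv F53856)
theorem F64848 : act 2 n29907 = n26170 := d13_1 D29907 (iv D26170) (iv F53857)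
theorem F64849 : act 4 n29907 = n26614 := d18_1 D29907 F55075 (iv F53858)
theorem F64850 : act 6 n29907 = n28093 := d20_2 D26158 D29907 F59549 (iv F53852) (iv F55080) F55081 (iv D26157)
def n29908 : Q := act 1 n26159
theorem D29908 : act 1 n26159 = n29908 := rfl
theorem F64851 : act 4 n29908 = n29241 := d8_2 F58099 D29908 F62848
theorem F64852 : act 5 n29908 = n29908 := d9_2 (iv F58095) D29908 (iv D29908) F58095 F58092
def n29909 : Q := act 3 n26159
theorem D29909 : act 3 n26159 = n29909 := rfl
theorem F64853 : act 0 n29909 = n29487 := d2_1 D29909 (iv F64828) F64825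
theorem F64854 : act 2 n29909 = n29482 := d11_1 D29909 (iv D29482) (iv D25747) F41460 D21711 D26154 D29900 F64828 (iv D29487) (iv D25749) (iv D21434) F28050 D16406 D21713 D26159
theorem F64855 : act 4 n29909 = n28123 := d15_2 F58099 D29909 (iv F59683) F59684 F58254
theorem F64856 : act 5 n29909 = n28121 := d16_2 (iv F58095) D29909 F59607
def n29910 : Q := act 6 n26159
theorem D29910 : act 6 n26159 = n29910 := rfl
theorem F64857 : act 0 n29910 = n27626 := d5_1 D29910 (iv F64827) F64825
theorem F64858 : act 2 n29910 = n26162 := d14_1 D29910 (iv D26162) D26159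
theorem F64859 : act 4 n29910 = n27624 := d19_1 D29910 (iv F58100) F58099
theorem F64860 : act 5 n27623 = n29910 := d22_0 (iv D29910) F58095 (iv D27627) (iv F58085)
def n29911 : Q := act 1 n26161
theorem D29911 : act 1 n26161 = n29911 := rfl
theorem F64861 : act 0 n29911 = n29911 := d0_1 D29911 (iv D29911) F59283 (iv D28002) F48559 F37241 (iv F48559) D28002 (iv F59283)
theorem F64862 : act 2 n29911 = n29911 := d6_2 F58093 D29911 (iv D29911) (iv F58093) F58092
theorem F64863 : act 3 n29911 = n26163 := d7_2 (iv F53862) D29911 (iv D26163)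
theorem F64864 : act 4 n29911 = n29738 := d8_2 (iv F53863) D29911 (iv D29738)
theorem F64865 : act 6 n29911 = n26220 := d10_2 (iv F53864) D29911 (iv D26220) (iv F42157) (iv F53417)
def n29912 : Q := act 5 n26164
theorem D29912 : act 5 n26164 = n29912 := rfl
theorem F64866 : act 0 n29912 = n26168 := d4_1 D29912 (iv D26168) (iv F53874)
theorem F64867 : act 2 n29912 = n27630 := d13_1 D29912 (iv F64093) F64091
theorem F64868 : act 3 n29912 = n26165 := d16_1 D29912 (iv D26165) D26164
theorem F64869 : act 4 n29912 = n29587 := d18_1 D29912 (iv F64085) F64087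
def n29913 : Q := act 5 n26169
theorem D29913 : act 5 n26169 = n29913 := rfl
theorem F64870 : act 0 n29913 = n29826 := d4_1 D29913 (iv D29826) (iv F53883)
theorem F64871 : act 2 n29913 = n29041 := d13_1 D29913 (iv F64115) F64112
theorem F64872 : act 3 n29913 = n26170 := d16_1 D29913 (iv D26170) (iv F53884)
theorem F64873 : act 6 n29913 = n29912 := d20_2 D26169 D29913 (iv D29912) F53876 D29826 F64548 (iv D26168)
def n29914 : Q := act 3 n26173
theorem D29914 : act 3 n26173 = n29914 := rfl
theorem F64874 : act 0 n29914 = n26174 := d2_1 D29914 (iv D26174) D26173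
def n29915 : Q := act 4 n26173
theorem D29915 : act 4 n26173 = n29915 := rfl
theorem F64875 : act 0 n29915 = n26175 := d3_1 D29915 (iv D26175) D26173
theorem F64876 : act 5 n29915 = n29710 := d22_0 (iv D29710) (iv F64137) F64380 (iv F64875)
def n29916 : Q := act 5 n26173
theorem D29916 : act 5 n26173 = n29916 := rfl
theorem F64877 : act 0 n29916 = n26176 := d4_1 D29916 (iv D26176) D26173
theorem F64878 : act 1 n29916 = n28158 := d9_1 D29916 (iv D28158) F48799 D28114 F59595
theorem F64879 : act 2 n29916 = n28769 := d13_1 D29916 (iv F61839) F61838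
theorem F64880 : act 4 n29916 = n29710 := d18_1 D29916 (iv F64876) (iv D29915)
theorem F64881 : act 6 n29916 = n29707 := d22_1 D29916 F64396 (iv D26177) D26173
def n29917 : Q := act 2 n26174
theorem D29917 : act 2 n26174 = n29917 := rfl
theorem F64882 : act 1 n29917 = n29494 := d6_1 D29917 (iv D29494) F52846 (iv F42092) (iv F53892)
theorem F64883 : act 3 n26177 = n29917 := d7_0 F64882 (iv F64376) F64375
theorem F64884 : act 6 n26174 = n29917 := d10_0 F64882 F63664 (iv D29563) F52932 (iv F53892)
def n29918 : Q := act 4 n26174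
theorem D29918 : act 4 n26174 = n29918 := rfl
theorem F64885 : act 1 n29918 = n26178 := d8_1 D29918 (iv D26178) (iv F53892)
def n29919 : Q := act 5 n26174
theorem D29919 : act 5 n26174 = n29919 := rfl
theorem F64886 : act 1 n29919 = n26260 := d9_1 D29919 (iv D26260) F42203 (iv F42093) (iv F53892)
theorem F64887 : act 3 n29919 = n26176 := d16_1 D29919 (iv D26176) D26174
def n29920 : Q := act 3 n26175
theorem D29920 : act 3 n26175 = n29920 := rfl
theorem F64888 : act 1 n29920 = n26179 := d7_1 D29920 (iv D26179) (iv F53893)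
theorem F64889 : act 6 n29920 = n29352 := d17_2 F64380 D29920 (iv F64136)
theorem F64890 : act 2 n29355 = n29920 := d14_3 F64889 (iv D29352) D29355
def n29921 : Q := act 5 n26175
theorem D29921 : act 5 n26175 = n29921 := rfl
theorem F64891 : act 0 n29921 = n29710 := d4_1 D29921 (iv F64876) F64875
theorem F64892 : act 1 n29921 = n26263 := d9_1 D29921 (iv D26263) F42204 (iv F42095) (iv F53893)
theorem F64893 : act 2 n29921 = n28767 := d13_1 D29921 (iv F61830) F61828
theorem F64894 : act 4 n29921 = n26176 := d18_1 D29921 (iv D26176) D26175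
theorem F64895 : act 6 n29921 = n29708 := d22_3 (iv F64137) F64380 D29921 (iv D29708)
def n29922 : Q := act 6 n26176
theorem D29922 : act 6 n26176 = n29922 := rfl
theorem F64896 : act 0 n29922 = n29707 := d5_1 D29922 (iv F64881) F64877
theorem F64897 : act 1 n29922 = n29703 := d10_1 D29922 F64141 (iv F64142) (iv D26265) (iv F53894)
theorem F64898 : act 2 n29922 = n28770 := d14_1 D29922 (iv D28770) (iv F53895)
theorem F64899 : act 4 n29922 = n29708 := d19_1 D29922 (iv F64895) F64894
theorem F64900 : act 5 n29922 = n29800 := d20_1 D29922 F64467 D29916 F64881 F64396 (iv D26177) D26176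
def n29923 : Q := act 3 n26178
theorem D29923 : act 3 n26178 = n29923 := rfl
theorem F64901 : act 0 n29923 = n29356 := d2_1 D29923 F63176 (iv F53896)
theorem F64902 : act 4 n29923 = n26179 := d15_2 D26178 D29923 (iv D26179) (iv D21724) D21723
theorem F64903 : act 5 n29923 = n26268 := d16_2 (iv F53898) D29923 (iv D26268)
def n29924 : Q := act 2 n26179
theorem D29924 : act 2 n26179 = n29924 := rfl
theorem F64904 : act 0 n29924 = n29328 := d1_1 D29924 F63111 F61768
theorem F64905 : act 1 n29924 = n29387 := d6_1 D29924 F63246 (iv F63173) F64890 F64888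
theorem F64906 : act 5 n29924 = n26271 := d13_2 (iv F53899) D29924 (iv D26271)
def n29925 : Q := act 6 n26179
theorem D29925 : act 6 n26179 = n29925 := rfl
theorem F64907 : act 0 n29925 = n29357 := d5_1 D29925 (iv D29357) F61768
theorem F64908 : act 3 n29925 = n26180 := d17_1 D29925 (iv D26180) D26179
def n29926 : Q := act 0 n26181
theorem D29926 : act 0 n26181 = n29926 := rfl
theorem F64909 : act 1 n29926 = n29708 := d0_2 D26181 D29926 (iv D29708) (iv D25946) (iv F41866) D26046 F64390 (iv D26277) F42215
theorem F64910 : act 4 n29926 = n29703 := d3_2 F64377 D29926 F64139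
theorem F64911 : act 5 n29926 = n29700 := d22_0 (iv D29700) D29699 (iv F64374) D29926
def n29927 : Q := act 2 n26181
theorem D29927 : act 2 n26181 = n29927 := rfl
theorem F64912 : act 1 n29927 = n26184 := d6_1 D29927 (iv D26184) (iv D21727) (iv F42096) D26181
def n29928 : Q := act 5 n26181
theorem D29928 : act 5 n26181 = n29928 := rfl
theorem F64913 : act 0 n29928 = n29700 := d4_1 D29928 (iv F64911) (iv D29926)
theorem F64914 : act 3 n29928 = n29503 := d16_1 D29928 (iv F63663) F63662
theorem F64915 : act 4 n29928 = n29694 := d18_1 D29928 (iv F64138) F64377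
theorem F64916 : act 6 n29928 = n29692 := d22_3 D29699 (iv F64374) D29928 F64121
def n29929 : Q := act 0 n26182
theorem D29929 : act 0 n26182 = n29929 := rfl
theorem F64917 : act 3 n29929 = n26779 := d2_2 (iv F53902) D29929 (iv D26779)
theorem F64918 : act 4 n29929 = n26183 := d3_2 (iv F53903) D29929 (iv D26183)
theorem F64919 : act 6 n29929 = n28582 := d5_2 F61844 D29929 (iv F61841)
theorem F64920 : act 2 n28577 = n29929 := d14_3 F64919 (iv D28582) (iv F60968)
def n29930 : Q := act 2 n26182
theorem D29930 : act 2 n26182 = n29930 := rfl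
theorem F64921 : act 0 n29930 = n28577 := d1_1 D29930 F64920 (iv D29929)
theorem F64922 : act 4 n29930 = n26184 := d12_2 (iv F53903) D29930 (iv D26184)
theorem F64923 : act 6 n29930 = n28581 := d14_2 F61844 D29930 F61845
def n29931 : Q := act 5 n26182
theorem D29931 : act 5 n26182 = n29931 := rfl
theorem F64924 : act 1 n29931 = n27086 := d9_1 D29931 (iv D27086) F45342 F42196 D26182
theorem F64925 : act 3 n29931 = n26780 := d16_1 D29931 (iv D26780) (iv F53902)
theorem F64926 : act 4 n29931 = n26185 := d18_1 D29931 (iv D26185) (iv F53903)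
def n29932 : Q := act 1 n26183
theorem D29932 : act 1 n26183 = n29932 := rfl
theorem F64927 : act 3 n29932 = n26186 := d7_2 (iv F53904) D29932 (iv D26186)
theorem F64928 : act 6 n29932 = n28028 := d10_2 F61848 D29932 F59351 D28031 F61849
def n29933 : Q := act 2 n26183
theorem D29933 : act 2 n26183 = n29933 := rfl
theorem F64929 : act 0 n29933 = n26184 := d1_1 D29933 (iv D26184) D26183
theorem F64930 : act 4 n29933 = n28577 := d12_2 F64918 D29933 F64920
theorem F64931 : act 6 n29933 = n28580 := d14_2 F61848 D29933 F61850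
theorem F64932 : act 1 n28575 = n29933 := d10_5 F64931 (iv D28580) (iv D24710) (iv F50192) D28575
def n29934 : Q := act 5 n26183
theorem D29934 : act 5 n26183 = n29934 := rfl
theorem F64933 : act 0 n29934 = n26185 := d4_1 D29934 (iv D26185) D26183
theorem F64934 : act 3 n29934 = n26188 := d16_1 D29934 (iv D26188) (iv F53904)
theorem F64935 : act 6 n29934 = n28862 := d22_1 D29934 (iv D28862) F50746 D26183
def n29935 : Q := act 3 n26184
theorem D29935 : act 3 n26184 = n29935 := rfl
def n29936 : Q := act 5 n26184
theorem D29936 : act 5 n26184 = n29936 := rfl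
theorem F64936 : act 2 n29936 = n26185 := d13_1 D29936 (iv D26185) D26184
def n29937 : Q := act 6 n26185
theorem D29937 : act 6 n26185 = n29937 := rfl
theorem F64937 : act 0 n29937 = n28862 := d5_1 D29937 (iv F64935) F64933
theorem F64938 : act 3 n29937 = n26191 := d17_1 D29937 (iv D26191) (iv F53905)
theorem F64939 : act 5 n29937 = n28860 := d20_1 D29937 F61848 D29934 F64935 (iv D28862) F50746 D26185
theorem F64940 : act 1 n28503 = n29937 := d24_14 (iv D29937) (iv D26185) (iv D21727) (iv D16413) F21648 F17875 F17479 (iv D9367) (iv F13963) (iv F20429) D14999 D20248 D24634 D28503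
def n29938 : Q := act 6 n26190
theorem D29938 : act 6 n26190 = n29938 := rfl
theorem F64941 : act 0 n29938 = n26286 := d5_1 D29938 F54157 (iv F53921)
theorem F64942 : act 2 n29938 = n26191 := d14_1 D29938 (iv D26191) (iv F53922)
theorem F64943 : act 3 n29938 = n28899 := d17_1 D29938 F61994 (iv F53923)
theorem F64944 : act 4 n29938 = n26783 := d19_1 D29938 (iv D26783) (iv F53924)
theorem F64945 : act 5 n29938 = n27926 := d20_1 D29938 F59058 (iv F53912) (iv F54157) F54156 F50754 D26190
def n29939 : Q := act 5 n26195
theorem D29939 : act 5 n26195 = n29939 := rfl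
theorem F64946 : act 0 n29939 = n26200 := d4_1 D29939 (iv D26200) (iv F53941)
theorem F64947 : act 1 n29939 = n28519 := d9_1 D29939 (iv D28519) F50063 (iv F43941) (iv F53942)
theorem F64948 : act 2 n29939 = n26197 := d13_1 D29939 (iv D26197) D26195
theorem F64949 : act 3 n29939 = n29515 := d16_1 D29939 (iv D29515) (iv F53944)
theorem F64950 : act 4 n29939 = n26818 := d18_1 D29939 (iv D26818) (iv F53948)
theorem F64951 : act 6 n29939 = n27520 := d20_2 (iv F53943) D29939 (iv D27520) (iv F46936) D26200 (iv F59979) F59978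
def n29940 : Q := act 1 n26197
theorem D29940 : act 1 n26197 = n29940 := rfl
theorem F64952 : act 0 n29940 = n29940 := d0_1 D29940 (iv D29940) F53954 D26202 (iv F58110) F58111 F58110 (iv D26202) (iv F53954)
theorem F64953 : act 2 n29940 = n28520 := d6_2 F64948 D29940 (iv D28520) (iv F60820) (iv F64947)
theorem F64954 : act 3 n29940 = n26198 := d7_2 (iv F53955) D29940 (iv D26198)
theorem F64955 : act 5 n29940 = n28520 := d9_2 D26197 D29940 (iv D28520) (iv D24657) (iv F42113)
def n29941 : Q := act 6 n26198
theorem D29941 : act 6 n26198 = n29941 := rfl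
theorem F64956 : act 0 n29941 = n29941 := d5_1 D29941 (iv D29941) F53957
theorem F64957 : act 1 n29941 = n28629 := d10_1 D29941 F61114 (iv D26194) (iv F42117) D26198
theorem F64958 : act 2 n29941 = n28521 := d14_1 D29941 (iv D28521) (iv F53958)
theorem F64959 : act 4 n29941 = n26784 := d19_1 D29941 (iv D26784) (iv F53959)
theorem F64960 : act 5 n29941 = n28521 := d22_2 (iv F53960) D29941 (iv D28521) F50073
def n29942 : Q := act 5 n26199
theorem D29942 : act 5 n26199 = n29942 := rfl
theorem F64961 : act 0 n29942 = n29515 := d4_1 D29942 (iv D29515) (iv F53961)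
theorem F64962 : act 2 n29942 = n29513 := d13_1 D29942 (iv D29513) (iv F53962)
theorem F64963 : act 3 n29942 = n26200 := d16_1 D29942 (iv D26200) D26199
def n29943 : Q := act 1 n26200
theorem D29943 : act 1 n26200 = n29943 := rfl
theorem F64964 : act 2 n29943 = n27338 := d6_2 (iv F53963) D29943 F57384 F53970 (iv D26202)
theorem F64965 : act 4 n29943 = n27720 := d8_2 F58502 D29943 (iv F58499)
theorem F64966 : act 5 n29943 = n27521 := d9_2 D26200 D29943 (iv D27521) F46520 F46937
theorem F64967 : act 6 n29943 = n27337 := d10_2 F59979 D29943 (iv F59933) F59936 (iv F59976)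
theorem F64968 : act 0 n27325 = n29943 := d5_3 F64967 F57380 (iv F57358)
def n29944 : Q := act 1 n26203
theorem D29944 : act 1 n26203 = n29944 := rfl
theorem F64969 : act 2 n29944 = n28197 := d6_2 F59977 D29944 F59836 (iv F49208) (iv F59976)
theorem F64970 : act 3 n29944 = n26205 := d7_2 (iv F53972) D29944 (iv D26205)
theorem F64971 : act 4 n29944 = n28196 := d8_2 F58723 D29944 F59833
def n29945 : Q := act 1 n26204
theorem D29945 : act 1 n26204 = n29945 := rfl
theorem F64972 : act 2 n29945 = n27909 := d6_2 (iv F53974) D29945 (iv D27909) F48323 D23994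
theorem F64973 : act 4 n29945 = n26785 := d8_2 (iv F53975) D29945 (iv D26785)
theorem F64974 : act 6 n29945 = n26205 := d10_2 D26204 D29945 (iv D26205) (iv D21740) D21739
def n29946 : Q := act 0 n26205
theorem D29946 : act 0 n26205 = n29946 := rfl
theorem F64975 : act 2 n29946 = n29728 := d1_2 (iv F53976) D29946 (iv D29728)
theorem F64976 : act 4 n29946 = n26786 := d3_2 (iv F53977) D29946 (iv D26786)
def n29947 : Q := act 2 n26206
theorem D29947 : act 2 n26206 = n29947 := rfl
theorem F64977 : act 0 n29947 = n26294 := d1_1 D29947 (iv D26294) (iv F53978)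
theorem F64978 : act 1 n29947 = n27394 := d6_1 D29947 (iv D27394) F46246 (iv F42131) (iv F53979)
theorem F64979 : act 3 n29947 = n28385 := d11_2 D26206 D29947 F60427 F60430 (iv D26370) (iv D21854) F28607 D21802 D26294 F60297 (iv F60506) (iv F64215) (iv D29729) (iv D25971) (iv F42127)
theorem F64980 : act 6 n29947 = n28382 := d14_2 F64654 D29947 (iv F64651)
def n29948 : Q := act 5 n26206
theorem D29948 : act 5 n26206 = n29948 := rfl
theorem F64981 : act 0 n29948 = n26296 := d4_1 D29948 (iv D26296) (iv F53978)
theorem F64982 : act 3 n29948 = n26207 := d16_1 D29948 (iv D26207) D26206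
theorem F64983 : act 4 n29948 = n29862 := d18_1 D29948 F64680 F62403
theorem F64984 : act 6 n29948 = n29861 := d20_2 F64654 D29948 F64677 (iv D26297) D26296 (iv F54189) (iv F64653)
def n29949 : Q := act 1 n26208
theorem D29949 : act 1 n26208 = n29949 := rfl
theorem F64985 : act 0 n29949 = n27978 := d0_1 D29949 (iv F63704) F63703 F52980 (iv F53065) F53066 F48710 (iv F42276) (iv F53983)
theorem F64986 : act 2 n29949 = n27850 := d6_2 (iv F53984) D29949 F58834 (iv F59066) (iv F59069)
theorem F64987 : act 4 n29949 = n26647 := d8_2 (iv F53985) D29949 F55165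
theorem F64988 : act 5 n29949 = n26722 := d9_2 (iv F53986) D29949 F55407 F43452 (iv F43553)
theorem F64989 : act 6 n29949 = n26211 := d10_2 D26208 D29949 (iv D26211) (iv D21744) D21741
def n29950 : Q := act 1 n26209
theorem D29950 : act 1 n26209 = n29950 := rfl
theorem F64990 : act 3 n29950 = n26210 := d7_2 (iv F53989) D29950 (iv D26210)
theorem F64991 : act 4 n29950 = n29733 := d8_2 (iv F53990) D29950 (iv D29733)
theorem F64992 : act 0 n27870 = n29950 := d3_3 F64991 (iv F64231) (iv F58904)
def n29951 : Q := act 5 n26212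
theorem D29951 : act 5 n26212 = n29951 := rfl
theorem F64993 : act 0 n29951 = n26215 := d4_1 D29951 (iv D26215) (iv F53999)
theorem F64994 : act 1 n29951 = n28071 := d9_1 D29951 F59489 (iv F59439) (iv D26301) (iv F54000)
theorem F64995 : act 2 n29951 = n27548 := d13_1 D29951 (iv D27548) (iv F54001)
theorem F64996 : act 3 n29951 = n26213 := d16_1 D29951 (iv D26213) D26212
theorem F64997 : act 4 n29951 = n28072 := d18_1 D29951 F59491 (iv F54002)
theorem F64998 : act 6 n29951 = n29670 := d20_2 (iv F54003) D29951 F64050 (iv D26216) D26215 F54017 (iv F53271)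
def n29952 : Q := act 1 n26215
theorem D29952 : act 1 n26215 = n29952 := rfl
theorem F64999 : act 0 n29952 = n29952 := d0_1 D29952 (iv D29952) (iv F64993) F64994 F59486 F48691 (iv F59486) (iv F64994) F64993
theorem F65000 : act 2 n29952 = n29952 := d6_2 (iv F54014) D29952 (iv D29952) F54014 F46552
theorem F65001 : act 3 n29952 = n26217 := d7_2 (iv F54015) D29952 (iv D26217)
theorem F65002 : act 4 n29952 = n29681 := d8_2 (iv F54016) D29952 (iv D29681)
theorem F65003 : act 5 n29952 = n26220 := d9_2 D26215 D29952 (iv D26220) (iv D21750) (iv F42144)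
def n29953 : Q := act 1 n26216
theorem D29953 : act 1 n26216 = n29953 := rfl
theorem F65004 : act 0 n29953 = n29575 := d0_1 D29953 F63696 (iv F63857) F63858 F53093 F41629 (iv F41639) (iv F53102) (iv F54018)
theorem F65005 : act 2 n29953 = n29574 := d6_2 (iv F54019) D29953 (iv F63695) F59258 F57874
theorem F65006 : act 3 n29953 = n26218 := d7_2 (iv F54020) D29953 (iv D26218)
theorem F65007 : act 4 n29953 = n27848 := d8_2 (iv F54021) D29953 F58829
theorem F65008 : act 6 n29953 = n26221 := d10_2 D26216 D29953 (iv D26221) (iv D21751) (iv F42144)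
theorem F65009 : act 5 n29590 = n29953 := d20_7 F65008 (iv F63709) F63710 (iv F63699) F63697 D29585 (iv F63748)
def n29954 : Q := act 4 n26223
theorem D29954 : act 4 n26223 = n29954 := rfl
theorem F65010 : act 3 n29954 = n26787 := d15_1 D29954 (iv D26787) (iv D22409) (iv F42162) D26223
theorem F65011 : act 5 n29954 = n27479 := d18_2 (iv F54042) D29954 F57750
theorem F65012 : act 6 n29954 = n26252 := d19_2 (iv F54043) D29954 (iv D26252)
def n29955 : Q := act 5 n26224
theorem D29955 : act 5 n26224 = n29955 := rfl
theorem F65013 : act 0 n29955 = n26394 := d4_1 D29955 (iv D26394) (iv F54044)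
theorem F65014 : act 2 n29955 = n27601 := d13_1 D29955 (iv D27601) (iv F54046)
theorem F65015 : act 3 n29955 = n26225 := d16_1 D29955 (iv D26225) D26224
def n29956 : Q := act 5 n26226
theorem D29956 : act 5 n26226 = n29956 := rfl
theorem F65016 : act 0 n29956 = n26234 := d4_1 D29956 (iv D26234) (iv F54050)
theorem F65017 : act 3 n29956 = n26789 := d16_1 D29956 (iv D26789) (iv F54051)
theorem F65018 : act 4 n29956 = n26227 := d18_1 D29956 (iv D26227) D26226
theorem F65019 : act 1 n27242 = n29956 := d7_3 F65017 (iv F55641) (iv F57108)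
def n29957 : Q := act 6 n26226
theorem D29957 : act 6 n26226 = n29957 := rfl
theorem F65020 : act 0 n29957 = n26235 := d5_1 D29957 (iv D26235) (iv F54050)
theorem F65021 : act 1 n29957 = n29631 := d10_1 D29957 F63896 (iv F62183) D29662 (iv F64017)
theorem F65022 : act 3 n29957 = n26477 := d17_1 D29957 F54609 (iv F54051)
theorem F65023 : act 4 n29957 = n26228 := d19_1 D29957 (iv D26228) D26226
def n29958 : Q := act 1 n26227
theorem D29958 : act 1 n26227 = n29958 := rfl
theorem F65024 : act 3 n29958 = n26229 := d7_2 (iv F54053) D29958 (iv D26229)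
theorem F65025 : act 4 n29958 = n27242 := d8_2 F65018 D29958 F65019
theorem F65026 : act 0 n27241 = n29958 := d3_3 F65025 (iv D27242) (iv F57107)
def n29959 : Q := act 0 n26230
theorem D29959 : act 0 n26230 = n29959 := rfl
theorem F65027 : act 2 n29959 = n26240 := d1_2 (iv F54059) D29959 (iv D26240)
theorem F65028 : act 5 n29959 = n29753 := d22_0 (iv D29753) D29752 F64398 D29959
def n29960 : Q := act 4 n26230
theorem D29960 : act 4 n26230 = n29960 := rfl
theorem F65029 : act 1 n29960 = n26231 := d8_1 D29960 (iv D26231) D26230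
theorem F65030 : act 2 n29960 = n26241 := d12_1 D29960 (iv D26241) (iv F54059)
theorem F65031 : act 5 n29807 = n29960 := d13_0 F65030 F61763 D29807
def n29961 : Q := act 5 n26230
theorem D29961 : act 5 n26230 = n29961 := rfl
theorem F65032 : act 0 n29961 = n29753 := d4_1 D29961 (iv F65028) (iv D29959)
theorem F65033 : act 2 n29961 = n26242 := d13_1 D29961 (iv D26242) (iv F54059)
theorem F65034 : act 4 n29961 = n29807 := d18_1 D29961 F65031 (iv D29960)
theorem F65035 : act 6 n29961 = n29750 := d22_3 D29752 F64398 D29961 (iv D29750)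
theorem F65036 : act 1 n29809 = n29961 := d8_3 F65034 F64484 (iv F64489)
def n29962 : Q := act 3 n26231
theorem D29962 : act 3 n26231 = n29962 := rfl
theorem F65037 : act 0 n29962 = n26465 := d2_1 D29962 (iv F58226) F58223
theorem F65038 : act 4 n29962 = n26461 := d15_2 D26231 D29962 (iv D26461) (iv F46759) (iv F46760)
theorem F65039 : act 2 n29962 = n29153 := d25_4 D17116 (iv F42176) (iv F54060) D29962 F62635 (iv F60489) F60488 (iv D27148) F45599 F33258 (iv F32380) (iv F33952) F33953 (iv F33445) D23054 F45739 (iv F48646) (iv F59451) F59450 F58118 F46723 (iv F54019) F54020 F42149 D21764 F42181 F35235 (iv D18575) (iv F33162) (iv F39781) (iv F43798) (iv F53952) F53951 F43942 D22455 F43945 D22458 (iv F44636) F44637 (iv D18169) (iv D13298) (iv F23356) (iv F31750) F31751 F23726 D13500 F23746 D13515 D18520 (iv F36551) (iv D19502) (iv F34950) D19446 (iv F45512) F45513 F33119 F32489 (iv D11926) (iv D9882) F7427 (iv F32498) (iv F32517) D1407 D2900 F4530 (iv D1409) (iv F2226) (iv D1329) (iv D663) (iv F1207) D1307 (iv F4180) D5545 D10215 D12592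 F22116 (iv F22276)
def n29963 : Q := act 5 n26231
theorem D29963 : act 5 n26231 = n29963 := rfl
theorem F65040 : act 1 n29963 = n29814 := d9_1 D29963 (iv D29814) (iv F64484) F65031 F65029
theorem F65041 : act 2 n29963 = n26234 := d13_1 D29963 (iv D26234) (iv F54060)
theorem F65042 : act 4 n29963 = n26232 := d18_1 D29963 (iv D26232) D26231
def n29964 : Q := act 6 n26231
theorem D29964 : act 6 n26231 = n29964 := rfl
theorem F65043 : act 2 n29964 = n26235 := d14_1 D29964 (iv D26235) (iv F54060)
theorem F65044 : act 4 n29964 = n26233 := d19_1 D29964 (iv D26233) D26231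
def n29965 : Q := act 1 n26232
theorem D29965 : act 1 n26232 = n29965 := rfl
theorem F65045 : act 2 n29965 = n29810 := d6_2 (iv F54061) D29965 F64490 F64108 F53881
theorem F65046 : act 4 n29965 = n29814 := d8_2 F65042 D29965 (iv F65040)
theorem F65047 : act 5 n29965 = n29809 := d9_2 D26232 D29965 F65036 (iv D29961) (iv D26230)
def n29966 : Q := act 6 n26232
theorem D29966 : act 6 n26232 = n29966 := rfl
theorem F65048 : act 0 n29966 = n29197 := d5_1 D29966 F62727 F58227
theorem F65049 : act 2 n29966 = n26236 := d14_1 D29966 (iv D26236) (iv F54061)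
theorem F65050 : act 3 n29966 = n27683 := d17_1 D29966 F58241 F58217
theorem F65051 : act 5 n29966 = n27681 := d20_1 D29966 (iv D27681) D27680 (iv F62727) F62726 (iv D26233) D26232
def n29967 : Q := act 1 n26233
theorem D29967 : act 1 n26233 = n29967 := rfl
def n29968 : Q := act 6 n26234
theorem D29968 : act 6 n26234 = n29968 := rfl
theorem F65052 : act 1 n29968 = n28975 := d10_1 D29968 F62246 D29048 (iv F64102) F64098
theorem F65053 : act 3 n29968 = n26792 := d17_1 D29968 (iv D26792) (iv F54063)
theorem F65054 : act 4 n29968 = n26236 := d19_1 D29968 (iv D26236) (iv F54064)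
theorem F65055 : act 5 n29968 = n29957 := d22_2 D26234 D29968 (iv D29957) F54050
def n29969 : Q := act 5 n26235
theorem D29969 : act 5 n26235 = n29969 := rfl
theorem F65056 : act 0 n29969 = n29968 := d4_1 D29969 F65055 F65020
theorem F65057 : act 3 n29969 = n26793 := d16_1 D29969 (iv D26793) (iv F54065)
theorem F65058 : act 4 n29969 = n26238 := d18_1 D29969 (iv D26238) (iv F54066)
theorem F65059 : act 6 n29969 = n29956 := d20_2 D26235 D29969 (iv D29956) D29957 (iv F65055) (iv D29968) (iv D26234)
theorem F65060 : act 1 n28213 = n29969 := d8_3 F65058 (iv F60052) F60053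
def n29970 : Q := act 2 n26237
theorem D29970 : act 2 n26237 = n29970 := rfl
theorem F65061 : act 4 n29970 = n29277 := d12_2 F56621 D29970 F62956
theorem F65062 : act 6 n29970 = n26247 := d14_2 (iv F54070) D29970 (iv D26247)
theorem F65063 : act 3 n29970 = n29275 := d21_1 D29970 F62952 F62645 (iv D28815) F50631 (iv F45564) (iv F56626) F56624
def n29971 : Q := act 5 n26237
theorem D29971 : act 5 n26237 = n29971 := rfl
theorem F65064 : act 3 n29971 = n26239 := d16_1 D29971 (iv D26239) (iv F54069)
theorem F65065 : act 4 n29971 = n27090 := d18_1 D29971 F56660 F56621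
theorem F65066 : act 6 n29971 = n27089 := d22_1 D29971 (iv D27089) (iv F56627) F56624
def n29972 : Q := act 1 n26240
theorem D29972 : act 1 n26240 = n29972 := rfl
theorem F65067 : act 3 n29972 = n29546 := d7_2 (iv F54076) D29972 (iv D29546)
theorem F65068 : act 5 n29972 = n26273 := d9_2 (iv F64359) D29972 (iv D26273) D26274 F61753
theorem F65069 : act 6 n29972 = n29972 := d10_2 (iv F64360) D29972 (iv D29972) F64360 F64330
theorem F65070 : act 2 n29326 = n29972 := d13_3 F65068 (iv F61630) (iv F63107)
theorem F65071 : act 4 n26276 = n29972 := d18_3 F65068 F54132 D26276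
def n29973 : Q := act 4 n26240
theorem D29973 : act 4 n26240 = n29973 := rfl
theorem F65072 : act 0 n29973 = n26241 := d3_1 D29973 (iv D26241) D26240
theorem F65073 : act 1 n29973 = n26276 := d8_1 D29973 F65071 (iv D29972)
theorem F65074 : act 5 n29973 = n26277 := d18_2 (iv F64359) D29973 (iv F61754)
theorem F65075 : act 3 n29561 = n29973 := d16_3 F65074 (iv F63512) F63658
def n29974 : Q := act 3 n26241
theorem D29974 : act 3 n26241 = n29974 := rfl
theorem F65076 : act 0 n29974 = n29561 := d2_1 D29974 F65075 F65072
theorem F65077 : act 1 n29974 = n26244 := d7_1 D29974 (iv D26244) (iv F54077)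
theorem F65078 : act 4 n29974 = n29550 := d15_2 D26241 D29974 (iv D29550) (iv D25794) (iv F42186)
theorem F65079 : act 5 n29974 = n29360 := d16_2 (iv F61763) D29974 F63187
theorem F65080 : act 2 n29560 = n29974 := d13_3 F65079 (iv F63312) (iv F64391)
def n29975 : Q := act 6 n26244
theorem D29975 : act 6 n26244 = n29975 := rfl
theorem F65081 : act 0 n29975 = n26272 := d5_1 D29975 (iv D26272) (iv F54080)
theorem F65082 : act 2 n29975 = n29780 := d14_1 D29975 F64418 F55696
theorem F65083 : act 3 n29975 = n26245 := d17_1 D29975 (iv D26245) D26244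
theorem F65084 : act 4 n29975 = n29557 := d19_1 D29975 (iv D29557) (iv F54081)
theorem F65085 : act 5 n29975 = n29925 := d20_1 D29975 (iv D29925) F53899 D26272 (iv F63180) (iv D29357) (iv F61767)
def n29976 : Q := act 5 n26246
theorem D29976 : act 5 n26246 = n29976 := rfl
theorem F65086 : act 0 n29976 = n29774 := d4_1 D29976 F64353 F59700
theorem F65087 : act 1 n29976 = n29928 := d9_1 D29976 (iv D29928) (iv D26181) (iv F42192) D26246
theorem F65088 : act 2 n29976 = n28140 := d13_1 D29976 (iv F61419) F59691
theorem F65089 : act 3 n29976 = n29562 := d16_1 D29976 (iv D29562) (iv F54086)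
theorem F65090 : act 4 n29976 = n28138 := d18_1 D29976 F61425 (iv F59688)
theorem F65091 : act 6 n29976 = n28136 := d22_3 (iv F64339) F64354 D29976 F59647
def n29977 : Q := act 5 n26247
theorem D29977 : act 5 n26247 = n29977 := rfl
theorem F65092 : act 2 n29977 = n26248 := d13_1 D29977 (iv D26248) D26247
theorem F65093 : act 3 n29977 = n29253 := d16_1 D29977 F62884 F54088
theorem F65094 : act 4 n29977 = n29254 := d18_1 D29977 F62887 (iv F54087)
def n29978 : Q := act 6 n26248
theorem D29978 : act 6 n26248 = n29978 := rfl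
theorem F65095 : act 0 n29978 = n29971 := d5_1 D29978 F65066 F56654
theorem F65096 : act 1 n29978 = n27920 := d10_1 D29978 (iv F60754) F64940 (iv D29937) (iv F54089)
theorem F65097 : act 3 n29978 = n26250 := d17_1 D29978 (iv D26250) (iv F54090)
theorem F65098 : act 4 n29978 = n27080 := d19_1 D29978 (iv F56649) F56648
theorem F65099 : act 5 n29978 = n27079 := d20_1 D29978 F56627 D27089 (iv F65066) (iv D29971) F54070 D26248
def n29979 : Q := act 4 n26251
theorem D29979 : act 4 n26251 = n29979 := rfl
theorem F65100 : act 1 n29979 = n28356 := d8_1 D29979 (iv F63927) F63924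
theorem F65101 : act 2 n29979 = n26252 := d12_1 D29979 (iv D26252) D26251
def n29980 : Q := act 0 n26253
theorem D29980 : act 0 n26253 = n29980 := rfl
theorem F65102 : act 2 n29980 = n26671 := d1_2 (iv F54101) D29980 F55242
theorem F65103 : act 5 n29980 = n26670 := d4_2 F54102 D29980 F55239
theorem F65104 : act 3 n29805 = n29980 := d21_7 F54101 F43371 F29844 (iv F28294) (iv F41864) (iv F53540) (iv F64481) (iv D29980)
theorem F65105 : act 4 n26775 = n29980 := d18_3 F65103 F55240 (iv F55599)
def n29981 : Q := act 3 n26253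
theorem D29981 : act 3 n26253 = n29981 := rfl
theorem F65106 : act 0 n29981 = n29805 := d2_1 D29981 F65104 (iv D29980)
theorem F65107 : act 1 n29981 = n26254 := d7_1 D29981 (iv D26254) D26253
theorem F65108 : act 2 n29981 = n29773 := d11_1 D29981 F64346 F53492 F41845 (iv F43333) (iv F55243) (iv F65102) (iv F65104) F64481 F53540 F41864 F28294 (iv F29844) (iv F43371) (iv F54101)
theorem F65109 : act 5 n29981 = n26699 := d16_2 F54102 D29981 (iv D26699)
def n29982 : Q := act 4 n26253
theorem D29982 : act 4 n26253 = n29982 := rfl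
theorem F65110 : act 0 n29982 = n26775 := d3_1 D29982 F65105 (iv D29980)
theorem F65111 : act 1 n29982 = n26255 := d8_1 D29982 (iv D26255) D26253
theorem F65112 : act 2 n29982 = n26698 := d12_1 D29982 F55328 (iv F54101)
theorem F65113 : act 5 n29982 = n26697 := d18_2 F54102 D29982 F55324
theorem F65114 : act 3 n29924 = n29982 := d16_3 F65113 F55325 (iv F64906)
theorem F65115 : act 6 n29782 = n29982 := d22_1 D29782 F65113 (iv F64415) (iv D29779)
def n29983 : Q := act 6 n26253
theorem D29983 : act 6 n26253 = n29983 := rfl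
theorem F65116 : act 2 n29983 = n26700 := d14_1 D29983 (iv D26700) (iv F54101)
theorem F65117 : act 4 n29983 = n29782 := d19_1 D29983 F65115 (iv D29982)
theorem F65118 : act 5 n29983 = n29781 := d22_2 F54102 D29983 F64422 F55239
def n29984 : Q := act 4 n26254
theorem D29984 : act 4 n26254 = n29984 := rfl
theorem F65119 : act 0 n29984 = n26259 := d3_1 D29984 (iv D26259) (iv F54103)
def n29985 : Q := act 5 n26254
theorem D29985 : act 5 n26254 = n29985 := rfl
theorem F65120 : act 0 n29985 = n26260 := d4_1 D29985 (iv D26260) (iv F54103)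
theorem F65121 : act 1 n29985 = n29785 := d9_1 D29985 (iv F64447) F64445 (iv F65109) F65107
theorem F65122 : act 3 n29985 = n26256 := d16_1 D29985 (iv D26256) D26254
def n29986 : Q := act 6 n26254
theorem D29986 : act 6 n26254 = n29986 := rfl
theorem F65123 : act 0 n29986 = n26261 := d5_1 D29986 (iv D26261) (iv F54103)
theorem F65124 : act 3 n29986 = n26257 := d17_1 D29986 (iv D26257) D26254
def n29987 : Q := act 5 n26255
theorem D29987 : act 5 n26255 = n29987 := rfl
theorem F65125 : act 0 n29987 = n26263 := d4_1 D29987 (iv D26263) (iv F54104)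
theorem F65126 : act 1 n29987 = n29786 := d9_1 D29987 (iv F64460) (iv F64461) (iv F65113) F65111
theorem F65127 : act 2 n29987 = n26432 := d13_1 D29987 (iv D26432) (iv F54105)
theorem F65128 : act 4 n29987 = n26256 := d18_1 D29987 (iv D26256) D26255
def n29988 : Q := act 1 n26257
theorem D29988 : act 1 n26257 = n29988 := rfl
theorem F65129 : act 0 n29988 = n28113 := d0_1 D29988 (iv F59701) F59700 (iv D26246) F42189 D21783 (iv F61246) (iv D26266) (iv F54108)
theorem F65130 : act 4 n29988 = n28109 := d8_2 (iv F63241) D29988 (iv F63239)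
theorem F65131 : act 5 n29988 = n28097 := d9_2 F54120 D29988 F64397 D29693 (iv F64142)
theorem F65132 : act 2 n28099 = n29988 := d13_3 F65131 F59555 D28099
def n29989 : Q := act 4 n26258
theorem D29989 : act 4 n26258 = n29989 := rfl
theorem F65133 : act 1 n29989 = n29525 := d8_1 D29989 (iv D29525) (iv F54110)
theorem F65134 : act 2 n29989 = n26259 := d12_1 D29989 (iv D26259) D26258
def n29990 : Q := act 5 n26258
theorem D29990 : act 5 n26258 = n29990 := rfl
theorem F65135 : act 2 n29990 = n26260 := d13_1 D29990 (iv D26260) D26258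
def n29991 : Q := act 6 n26258
theorem D29991 : act 6 n26258 = n29991 := rfl
theorem F65136 : act 2 n29991 = n26261 := d14_1 D29991 (iv D26261) D26258
def n29992 : Q := act 3 n26259
theorem D29992 : act 3 n26259 = n29992 := rfl
theorem F65137 : act 1 n29992 = n26268 := d7_1 D29992 (iv D26268) (iv F54111)
theorem F65138 : act 4 n29992 = n26262 := d15_2 D26259 D29992 (iv D26262) (iv D21776) D21775
def n29993 : Q := act 5 n26259
theorem D29993 : act 5 n26259 = n29993 := rfl
theorem F65139 : act 4 n29993 = n26260 := d18_1 D29993 (iv D26260) D26259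
def n29994 : Q := act 6 n26259
theorem D29994 : act 6 n26259 = n29994 := rfl
theorem F65140 : act 4 n29994 = n26261 := d19_1 D29994 (iv D26261) D26259
def n29995 : Q := act 6 n26260
theorem D29995 : act 6 n26260 = n29995 := rfl
theorem F65141 : act 3 n29995 = n26265 := d17_1 D29995 (iv D26265) (iv F54112)
theorem F65142 : act 5 n29995 = n29986 := d22_2 D26260 D29995 (iv D29986) F54103
def n29996 : Q := act 5 n26261
theorem D29996 : act 5 n26261 = n29996 := rfl
theorem F65143 : act 0 n29996 = n29995 := d4_1 D29996 F65142 F65123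
theorem F65144 : act 1 n29996 = n26806 := d9_1 D29996 F63112 (iv D29328) D29331 (iv F63125)
theorem F65145 : act 3 n29996 = n26267 := d16_1 D29996 (iv D26267) (iv F54113)
theorem F65146 : act 6 n29996 = n29985 := d20_2 D26261 D29996 (iv D29985) D29986 (iv F65142) (iv D29995) (iv D26260)
def n29997 : Q := act 5 n26262
theorem D29997 : act 5 n26262 = n29997 := rfl
theorem F65147 : act 2 n29997 = n29391 := d13_1 D29997 F63253 F63236
theorem F65148 : act 3 n29997 = n26263 := d16_1 D29997 (iv D26263) D26262
theorem F65149 : act 6 n29997 = n29386 := d22_1 D29997 (iv D29386) D29387 F63245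
def n29998 : Q := act 6 n26263
theorem D29998 : act 6 n26263 = n29998 := rfl
theorem F65150 : act 2 n29998 = n26436 := d14_1 D29998 (iv D26436) (iv F54115)
theorem F65151 : act 3 n29998 = n29386 := d17_1 D29998 (iv F65149) F65148
theorem F65152 : act 4 n29998 = n26265 := d19_1 D29998 (iv D26265) (iv F54116)
theorem F65153 : act 5 n29998 = n29384 := d22_2 D26263 D29998 (iv F63242) F54104
def n29999 : Q := act 1 n26264
theorem D29999 : act 1 n26264 = n29999 := rfl
theorem F65154 : act 0 n29999 = n26273 := d0_1 D29999 (iv D26273) (iv F54082) (iv F59687) F59686 F48799 (iv F59580) (iv F63239) F63238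
theorem F65155 : act 2 n29999 = n29070 := d6_2 (iv F54117) D29999 F62483 F54455 (iv F42470)
theorem F65156 : act 4 n29999 = n26266 := d8_2 (iv F54118) D29999 (iv D26266)
theorem F65157 : act 6 n29999 = n26273 := d10_2 D26264 D29999 (iv D26273) (iv D21782) (iv F42204)
def n30000 : Q := act 5 n26264
theorem D30000 : act 5 n26264 = n30000 := rfl
theorem F65158 : act 0 n30000 = n29998 := d4_1 D30000 F65153 F63238
theorem F65159 : act 2 n30000 = n26437 := d13_1 D30000 (iv D26437) (iv F54117)
theorem F65160 : act 3 n30000 = n29804 := d16_1 D30000 (iv F64480) F63230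
theorem F65161 : act 4 n30000 = n26267 := d18_1 D30000 (iv D26267) (iv F54118)
theorem F65162 : act 6 n30000 = n29987 := d20_2 D26264 D30000 (iv D29987) F63242 (iv F65153) (iv D29998) (iv D26263)
theorem F65163 : act 1 n26670 = n30000 := d10_5 F65162 F65126 (iv D29786) (iv F64420) F64422
def n30001 : Q := act 2 n26268
theorem D30001 : act 2 n26268 = n30001 := rfl
theorem F65164 : act 0 n30001 = n29556 := d1_1 D30001 (iv D29556) (iv F54125)
theorem F65165 : act 3 n30001 = n29416 := d11_2 D26268 D30001 (iv D29416) (iv D25693) F41379 (iv F28081) (iv F41521) D25797 D29556 (iv F64471) (iv D29801) (iv D26037) F41860 (iv F41514) (iv F42209)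
theorem F65166 : act 4 n30001 = n26271 := d12_2 (iv F54126) D30001 (iv D26271)
def n30002 : Q := act 6 n26268
theorem D30002 : act 6 n26268 = n30002 := rfl
theorem F65167 : act 0 n30002 = n29557 := d5_1 D30002 (iv D29557) (iv F54125)
theorem F65168 : act 3 n30002 = n26269 := d17_1 D30002 (iv D26269) D26268
theorem F65169 : act 4 n30002 = n26272 := d19_1 D30002 (iv D26272) (iv F54126)
def n30003 : Q := act 1 n26269
theorem D30003 : act 1 n26269 = n30003 := rfl
theorem F65170 : act 4 n30003 = n26270 := d8_2 (iv F54129) D30003 (iv D26270)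
theorem F65171 : act 2 n29565 = n30003 := d12_3 F65170 F61245 (iv F63670)
theorem F65172 : act 5 n29564 = n30003 := d18_0 F65170 (iv F61248) (iv F63666)
def n30004 : Q := act 1 n26271
theorem D30004 : act 1 n26271 = n30004 := rfl
theorem F65173 : act 2 n30004 = n29523 := d6_2 D26271 D30004 F63571 F63236 F54114
theorem F65174 : act 3 n30004 = n29798 := d7_2 F55325 D30004 (iv F64461)
theorem F65175 : act 0 n29527 = n30004 := d2_3 F65174 (iv F64462) F64464
theorem F65176 : act 6 n29520 = n30004 := d17_0 F65174 (iv D29798) (iv F63562)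
def n30005 : Q := act 6 n26271
theorem D30005 : act 6 n26271 = n30005 := rfl
theorem F65177 : act 0 n30005 = n29780 := d5_1 D30005 F64418 F55695
theorem F65178 : act 2 n30005 = n26272 := d14_1 D30005 (iv D26272) D26271
theorem F65179 : act 3 n30005 = n29779 := d17_1 D30005 F64415 F55325
def n30006 : Q := act 1 n26272
theorem D30006 : act 1 n26272 = n30006 := rfl
theorem F65180 : act 3 n30006 = n26273 := d7_2 (iv F54131) D30006 (iv D26273)
theorem F65181 : act 5 n30006 = n29546 := d9_2 F63180 D30006 (iv D29546) (iv F64364) (iv F63178)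
def n30007 : Q := act 2 n26277
theorem D30007 : act 2 n26277 = n30007 := rfl
theorem F65182 : act 0 n30007 = n29807 := d1_1 D30007 (iv D29807) F64390
theorem F65183 : act 1 n30007 = n26280 := d6_1 D30007 (iv D26280) (iv D21786) (iv F42216) D26277
theorem F65184 : act 4 n30007 = n29753 := d12_2 F61754 D30007 F64299
theorem F65185 : act 6 n30007 = n29751 := d14_2 (iv F61755) D30007 F64297
def n30008 : Q := act 0 n26278
theorem D30008 : act 0 n26278 = n30008 := rfl
theorem F65186 : act 3 n30008 = n26809 := d2_2 (iv F54137) D30008 (iv D26809)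
theorem F65187 : act 4 n30008 = n26279 := d3_2 (iv F54138) D30008 (iv D26279)
theorem F65188 : act 5 n30008 = n27404 := d4_2 F61639 D30008 F61640
theorem F65189 : act 1 n27400 = n30008 := d9_5 F65188 (iv D27404) (iv D23273) (iv F46276) D27400
def n30009 : Q := act 2 n26278
theorem D30009 : act 2 n26278 = n30009 := rfl
theorem F65190 : act 1 n30009 = n29753 := d6_1 D30009 F64299 (iv F61753) F54134 D26278
theorem F65191 : act 4 n30009 = n26280 := d12_2 (iv F54138) D30009 (iv D26280)
theorem F65192 : act 6 n29758 = n30009 := d10_0 F65190 (iv D29753) (iv D25999) D26002 D29758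
def n30010 : Q := act 6 n26278
theorem D30010 : act 6 n26278 = n30010 := rfl
theorem F65193 : act 1 n30010 = n29686 := d10_1 D30010 (iv D29686) F61764 (iv F42221) D26278
theorem F65194 : act 2 n30010 = n29758 := d14_1 D30010 F65192 (iv D30009)
theorem F65195 : act 3 n30010 = n26810 := d17_1 D30010 (iv F55709) (iv F54137)
theorem F65196 : act 4 n30010 = n26281 := d19_1 D30010 (iv D26281) (iv F54138)
def n30011 : Q := act 2 n26279
theorem D30011 : act 2 n26279 = n30011 := rfl
theorem F65197 : act 0 n30011 = n26280 := d1_1 D30011 (iv D26280) D26279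
theorem F65198 : act 3 n30011 = n27243 := d21_1 D30011 (iv D27243) F45975 D23146 (iv F45979) (iv D21788) (iv F42222) D26279
def n30012 : Q := act 6 n26279
theorem D30012 : act 6 n26279 = n30012 := rfl
theorem F65199 : act 0 n30012 = n26281 := d5_1 D30012 (iv D26281) D26279
theorem F65200 : act 3 n30012 = n26283 := d17_1 D30012 (iv D26283) (iv F54139)
theorem F65201 : act 5 n30012 = n28807 := d22_2 F61657 D30012 (iv D28807) D28805
def n30013 : Q := act 3 n26280
theorem D30013 : act 3 n26280 = n30013 := rfl
theorem F65202 : act 0 n30013 = n27243 := d2_1 D30013 (iv F65198) F65197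
theorem F65203 : act 2 n30013 = n27242 := d11_1 D30013 F57108 D27245 (iv F57112) (iv D26282) (iv F54139) D30011 F65198 (iv D27243) F45975 D23146 (iv F45979) (iv D21788) (iv F42222) D26280
def n30014 : Q := act 6 n26280
theorem D30014 : act 6 n26280 = n30014 := rfl
theorem F65204 : act 1 n30014 = n29756 := d10_1 D30014 (iv D29756) (iv F64296) (iv F65185) F65183
theorem F65205 : act 2 n30014 = n26281 := d14_1 D30014 (iv D26281) D26280
theorem F65206 : act 4 n30014 = n29758 := d19_1 D30014 F65192 F65191
def n30015 : Q := act 5 n26281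
theorem D30015 : act 5 n26281 = n30015 := rfl
theorem F65207 : act 0 n30015 = n28807 := d4_1 D30015 (iv F65201) F65199
theorem F65208 : act 3 n30015 = n26285 := d16_1 D30015 (iv D26285) (iv F54141)
theorem F65209 : act 6 n30015 = n28805 := d20_2 D26281 D30015 F61657 D30012 F65201 (iv D28807) F50593
def n30016 : Q := act 6 n26282
theorem D30016 : act 6 n26282 = n30016 := rfl
theorem F65210 : act 0 n30016 = n26284 := d5_1 D30016 (iv D26284) (iv F54142)
theorem F65211 : act 1 n30016 = n29235 := d10_1 D30016 F62828 F60811 (iv D27857) (iv F54143)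
theorem F65212 : act 2 n30016 = n26283 := d14_1 D30016 (iv D26283) D26282
theorem F65213 : act 4 n30016 = n26813 := d19_1 D30016 (iv D26813) (iv F54144)
theorem F65214 : act 5 n30016 = n28809 := d22_2 F61664 D30016 (iv D28809) (iv F61661)
def n30017 : Q := act 5 n26284
theorem D30017 : act 5 n26284 = n30017 := rfl
theorem F65215 : act 0 n30017 = n28809 := d4_1 D30017 (iv F65214) F65210
theorem F65216 : act 2 n30017 = n26285 := d13_1 D30017 (iv D26285) (iv F54148)
theorem F65217 : act 4 n30017 = n26816 := d18_1 D30017 (iv D26816) (iv F54149)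
theorem F65218 : act 6 n30017 = n28808 := d20_2 D26284 D30017 F61664 D30016 F65214 (iv D28809) F50603
def n30018 : Q := act 5 n26288
theorem D30018 : act 5 n26288 = n30018 := rfl
theorem F65219 : act 0 n30018 = n27752 := d4_1 D30018 (iv D27752) F54167
theorem F65220 : act 1 n30018 = n29652 := d9_1 D30018 (iv D29652) (iv D25893) (iv F42251) D26288
theorem F65221 : act 2 n30018 = n28940 := d13_1 D30018 (iv D28940) (iv F54163)
theorem F65222 : act 3 n30018 = n26598 := d16_1 D30018 (iv D26598) (iv F54164)
theorem F65223 : act 4 n30018 = n26291 := d18_1 D30018 (iv D26291) (iv F54165)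
theorem F65224 : act 6 n30018 = n27752 := d22_1 D30018 (iv D27752) F47182 F54167
def n30019 : Q := act 5 n26290
theorem D30019 : act 5 n26290 = n30019 := rfl
theorem F65225 : act 2 n30019 = n26291 := d13_1 D30019 (iv D26291) D26290
theorem F65226 : act 4 n30019 = n28940 := d18_1 D30019 (iv D28940) (iv F54173)
def n30020 : Q := act 4 n26294
theorem D30020 : act 4 n26294 = n30020 := rfl
theorem F65227 : act 2 n30020 = n26295 := d12_1 D30020 (iv D26295) D26294
theorem F65228 : act 5 n30020 = n29866 := d18_2 F60298 D30020 F64700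
def n30021 : Q := act 6 n26294
theorem D30021 : act 6 n26294 = n30021 := rfl
theorem F65229 : act 0 n30021 = n28382 := d5_1 D30021 (iv F64980) F64977
theorem F65230 : act 2 n30021 = n26297 := d14_1 D30021 (iv D26297) D26294
theorem F65231 : act 3 n30021 = n28384 := d17_1 D30021 (iv F60425) (iv F60297)
theorem F65232 : act 1 n28828 = n30021 := d6_5 F65230 F54190 (iv F59555) F64397 (iv F61729)
def n30022 : Q := act 1 n26298
theorem D30022 : act 1 n26298 = n30022 := rfl
theorem F65233 : act 2 n30022 = n26593 := d6_2 (iv F54193) D30022 F55002 F43027 (iv F43007)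
theorem F65234 : act 4 n30022 = n26589 := d8_2 (iv F54194) D30022 (iv D26589)
theorem F65235 : act 5 n30022 = n28100 := d9_2 D26298 D30022 (iv D28100) (iv D24148) (iv F42276)
theorem F65236 : act 6 n30022 = n27900 := d10_2 (iv F54195) D30022 (iv D27900) D27902 F58998
def n30023 : Q := act 1 n26299
theorem D30023 : act 1 n26299 = n30023 := rfl
theorem F65237 : act 2 n30023 = n27546 := d6_2 D26299 D30023 (iv D27546) (iv F54001) F54000
theorem F65238 : act 0 n29065 = n30023 := d1_3 F65237 F58178 (iv F62462)
def n30024 : Q := act 4 n26299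
theorem D30024 : act 4 n26299 = n30024 := rfl
theorem F65239 : act 0 n30024 = n26305 := d3_1 D30024 (iv D26305) (iv F54196)
theorem F65240 : act 2 n30024 = n26300 := d12_1 D30024 (iv D26300) D26299
def n30025 : Q := act 5 n26299
theorem D30025 : act 5 n26299 = n30025 := rfl
theorem F65241 : act 0 n30025 = n26306 := d4_1 D30025 (iv D26306) (iv F54196)
theorem F65242 : act 2 n30025 = n26301 := d13_1 D30025 (iv D26301) D26299
def n30026 : Q := act 6 n26299
theorem D30026 : act 6 n26299 = n30026 := rfl
theorem F65243 : act 0 n30026 = n26307 := d5_1 D30026 (iv D26307) (iv F54196)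
theorem F65244 : act 2 n30026 = n26302 := d14_1 D30026 (iv D26302) D26299
def n30027 : Q := act 0 n26303
theorem D30027 : act 0 n26303 = n30027 := rfl
theorem F65245 : act 2 n30027 = n26312 := d1_2 (iv F54205) D30027 (iv D26312)
def n30028 : Q := act 3 n26303
theorem D30028 : act 3 n26303 = n30028 := rfl
theorem F65246 : act 1 n30028 = n26304 := d7_1 D30028 (iv D26304) D26303
theorem F65247 : act 2 n30028 = n27294 := d21_2 (iv F54205) D30028 F57258 F46386 (iv F52493) (iv F54521) F54522 (iv D26312)
theorem F65248 : act 4 n29019 = n30028 := d12_0 F65247 F57259 (iv F62344)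
theorem F65249 : act 5 n27293 = n30028 := d13_0 F65247 (iv D27294) D27293
def n30029 : Q := act 4 n26303
theorem D30029 : act 4 n26303 = n30029 := rfl
theorem F65250 : act 1 n30029 = n26305 := d8_1 D30029 (iv D26305) D26303
theorem F65251 : act 2 n30029 = n26313 := d12_1 D30029 (iv D26313) (iv F54205)
def n30030 : Q := act 5 n26303
theorem D30030 : act 5 n26303 = n30030 := rfl
theorem F65252 : act 1 n30030 = n28323 := d9_1 D30030 F60282 F60300 (iv D26306) D26303
theorem F65253 : act 2 n30030 = n26314 := d13_1 D30030 (iv D26314) (iv F54205)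
theorem F65254 : act 3 n30030 = n27293 := d16_1 D30030 F65249 (iv D30028)
theorem F65255 : act 6 n27297 = n30030 := d17_0 F65254 F57256 D27297
def n30031 : Q := act 6 n26304
theorem D30031 : act 6 n26304 = n30031 := rfl
theorem F65256 : act 3 n30031 = n26307 := d17_1 D30031 (iv D26307) D26304
theorem F65257 : act 1 n29079 = n30031 := d7_3 F65256 F61043 (iv F62508)
def n30032 : Q := act 3 n26305
theorem D30032 : act 3 n26305 = n30032 := rfl
def n30033 : Q := act 5 n26305
theorem D30033 : act 5 n26305 = n30033 := rfl
theorem F65258 : act 2 n30033 = n26308 := d13_1 D30033 (iv D26308) (iv F54206)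
theorem F65259 : act 4 n30033 = n26306 := d18_1 D30033 (iv D26306) D26305
theorem F65260 : act 6 n29880 = n30033 := d14_0 F65258 (iv F54212) D29880
def n30034 : Q := act 6 n26305
theorem D30034 : act 6 n26305 = n30034 := rfl
theorem F65261 : act 2 n30034 = n26309 := d14_1 D30034 (iv D26309) (iv F54206)
theorem F65262 : act 4 n30034 = n26307 := d19_1 D30034 (iv D26307) D26305
def n30035 : Q := act 6 n26306
theorem D30035 : act 6 n26306 = n30035 := rfl
theorem F65263 : act 2 n30035 = n26310 := d14_1 D30035 (iv D26310) (iv F54207)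
theorem F65264 : act 4 n30035 = n29880 := d19_1 D30035 F65260 F65259
theorem F65265 : act 5 n30035 = n30026 := d22_2 D26306 D30035 (iv D30026) F54196
def n30036 : Q := act 5 n26307
theorem D30036 : act 5 n26307 = n30036 := rfl
theorem F65266 : act 0 n30036 = n30035 := d4_1 D30036 F65265 F65243
theorem F65267 : act 2 n30036 = n26311 := d13_1 D30036 (iv D26311) (iv F54208)
theorem F65268 : act 6 n30036 = n30025 := d20_2 D26307 D30036 (iv D30025) D30026 (iv F65265) (iv D30035) (iv D26306)
def n30037 : Q := act 4 n26312
theorem D30037 : act 4 n26312 = n30037 := rfl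
theorem F65269 : act 0 n30037 = n26313 := d3_1 D30037 (iv D26313) D26312
theorem F65270 : act 3 n30037 = n28721 := d15_1 D30037 F61467 (iv F52491) (iv F54523) F54522
def n30038 : Q := act 5 n26312
theorem D30038 : act 5 n26312 = n30038 := rfl
theorem F65271 : act 0 n30038 = n26314 := d4_1 D30038 (iv D26314) D26312
def n30039 : Q := act 6 n26312
theorem D30039 : act 6 n26312 = n30039 := rfl
theorem F65272 : act 0 n30039 = n26315 := d5_1 D30039 (iv D26315) D26312
def n30040 : Q := act 5 n26313
theorem D30040 : act 5 n26313 = n30040 := rfl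
theorem F65273 : act 4 n30040 = n26314 := d18_1 D30040 (iv D26314) D26313
def n30041 : Q := act 6 n26313
theorem D30041 : act 6 n26313 = n30041 := rfl
theorem F65274 : act 1 n30041 = n28105 := d10_1 D30041 (iv D28105) F48723 (iv F42303) (iv F54223)
theorem F65275 : act 4 n30041 = n26315 := d19_1 D30041 (iv D26315) D26313
def n30042 : Q := act 6 n26314
theorem D30042 : act 6 n26314 = n30042 := rfl
theorem F65276 : act 2 n30042 = n27297 := d14_1 D30042 F65255 F65253
theorem F65277 : act 5 n30042 = n30039 := d22_2 D26314 D30042 (iv D30039) (iv D26312)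
def n30043 : Q := act 5 n26315
theorem D30043 : act 5 n26315 = n30043 := rfl
theorem F65278 : act 0 n30043 = n30042 := d4_1 D30043 F65277 F65272
theorem F65279 : act 3 n30043 = n27471 := d16_1 D30043 F57734 F54527
theorem F65280 : act 6 n30043 = n30038 := d20_2 D26315 D30043 (iv D30038) D30039 (iv F65277) (iv D30042) (iv D26314)
def n30044 : Q := act 1 n26316
theorem D30044 : act 1 n26316 = n30044 := rfl
theorem F65281 : act 0 n30044 = n27083 := d0_1 D30044 F56637 F55128 (iv F46498) F46497 F33893 (iv F33905) (iv F46525) (iv F54225)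
theorem F65282 : act 2 n30044 = n26323 := d6_2 D26316 D30044 (iv D26323) (iv D21820) (iv F42304)
theorem F65283 : act 3 n30044 = n27082 := d7_2 (iv F54226) D30044 F56636
def n30045 : Q := act 4 n26316
theorem D30045 : act 4 n26316 = n30045 := rfl
theorem F65284 : act 0 n30045 = n27524 := d3_1 D30045 (iv D27524) (iv F54225)
theorem F65285 : act 2 n30045 = n26317 := d12_1 D30045 (iv D26317) D26316
theorem F65286 : act 3 n30045 = n27763 := d15_1 D30045 (iv D27763) (iv D23667) (iv F46524) (iv F54226)
theorem F65287 : act 5 n29899 = n30045 := d16_0 F65286 F58507 D29899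
def n30046 : Q := act 5 n26316
theorem D30046 : act 5 n26316 = n30046 := rfl
theorem F65288 : act 0 n30046 = n27515 := d4_1 D30046 F57843 (iv F54225)
theorem F65289 : act 2 n30046 = n26318 := d13_1 D30046 (iv D26318) D26316
theorem F65290 : act 3 n30046 = n27517 := d16_1 D30046 F57848 (iv F54226)
theorem F65291 : act 4 n30046 = n29899 := d18_1 D30046 F65287 (iv D30045)
def n30047 : Q := act 6 n26316
theorem D30047 : act 6 n26316 = n30047 := rfl
theorem F65292 : act 0 n30047 = n27525 := d5_1 D30047 (iv D27525) (iv F54225)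
theorem F65293 : act 2 n30047 = n26319 := d14_1 D30047 (iv D26319) D26316
theorem F65294 : act 3 n30047 = n27523 := d17_1 D30047 (iv D27523) (iv F54226)
def n30048 : Q := act 6 n26317
theorem D30048 : act 6 n26317 = n30048 := rfl
theorem F65295 : act 3 n30048 = n26827 := d17_1 D30048 (iv D26827) (iv F54228)
theorem F65296 : act 4 n30048 = n26319 := d19_1 D30048 (iv D26319) D26317
theorem F65297 : act 5 n30048 = n29891 := d22_2 F64796 D30048 F64792 (iv F64793)
theorem F65298 : act 1 n28991 = n30048 := d24_14 (iv D30048) (iv F64796) F64794 (iv F57818) (iv D27505) F46495 (iv D18986) F29017 (iv F33865) D23342 F46463 D27479 F57751 D28991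
def n30049 : Q := act 1 n26318
theorem D30049 : act 1 n26318 = n30049 := rfl
theorem F65299 : act 0 n30049 = n27488 := d0_1 D30049 (iv D27488) (iv F47209) (iv F50477) (iv F59250) (iv F61165) F61164 D28953 (iv F62180)
theorem F65300 : act 3 n30049 = n26320 := d7_2 (iv F54229) D30049 (iv D26320)
theorem F65301 : act 4 n30049 = n27497 := d8_2 F64795 D30049 (iv F64794)
theorem F65302 : act 5 n30049 = n26330 := d9_2 D26318 D30049 (iv D26330) (iv D21822) (iv F42304)
theorem F65303 : act 6 n30049 = n29583 := d24_3 (iv D26319) D26318 D30049 (iv D29583) (iv D25819) (iv D21477) (iv D16250) (iv F28098) D21473 D25814 (iv F52976) F51969 D25328 F54231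
def n30050 : Q := act 6 n26318
theorem D30050 : act 6 n26318 = n30050 := rfl
theorem F65304 : act 1 n30050 = n28588 := d10_1 D30050 F60997 (iv F63721) (iv F65303) (iv D30049)
theorem F65305 : act 3 n30050 = n26321 := d17_1 D30050 (iv D26321) (iv F54229)
theorem F65306 : act 5 n30050 = n29746 := d22_2 D26318 D30050 (iv D29746) F53454
def n30051 : Q := act 5 n26319
theorem D30051 : act 5 n26319 = n30051 := rfl
theorem F65307 : act 0 n30051 = n30050 := d4_1 D30051 F65306 F64282
theorem F65308 : act 1 n30051 = n28875 := d9_1 D30051 F61906 F51913 D25328 F54231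
theorem F65309 : act 3 n30051 = n26322 := d16_1 D30051 (iv D26322) (iv F54230)
theorem F65310 : act 4 n30051 = n29891 := d18_1 D30051 (iv F65297) F65296
theorem F65311 : act 6 n30051 = n28953 := d20_2 D26319 D30051 F62179 D29746 (iv F65306) (iv D30050) (iv D26318)
def n30052 : Q := act 0 n26323
theorem D30052 : act 0 n26323 = n30052 := rfl
theorem F65312 : act 1 n30052 = n29003 := d0_2 D26323 D30052 (iv F63423) F63424 (iv D28735) (iv D24840) F38705 (iv F28566) (iv F42308)
theorem F65313 : act 2 n30052 = n27083 := d1_2 F65282 D30052 (iv F65281)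
theorem F65314 : act 3 n27166 = n30052 := d21_7 (iv F65282) F65283 (iv D27082) F45782 (iv D23069) (iv F45759) D27166 (iv D30052)
def n30053 : Q := act 3 n26323
theorem D30053 : act 3 n26323 = n30053 := rfl
theorem F65315 : act 0 n30053 = n27166 := d2_1 D30053 F65314 (iv D30052)
theorem F65316 : act 1 n30053 = n26324 := d7_1 D30053 (iv D26324) D26323
theorem F65317 : act 2 n30053 = n27165 := d11_1 D30053 F56901 (iv F45777) F45240 D22915 D27083 (iv F65313) (iv F65314) (iv D27166) F45759 D23069 (iv F45782) D27082 (iv F65283) F65282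
theorem F65318 : act 5 n27303 = n30053 := d13_0 F65317 F56902 D27303
def n30054 : Q := act 4 n26323
theorem D30054 : act 4 n26323 = n30054 := rfl
theorem F65319 : act 1 n30054 = n26325 := d8_1 D30054 (iv D26325) D26323
def n30055 : Q := act 5 n26323
theorem D30055 : act 5 n26323 = n30055 := rfl
theorem F65320 : act 3 n30055 = n27303 := d16_1 D30055 F65318 (iv D30053)
theorem F65321 : act 1 n29348 = n30055 := d7_3 F65320 F57287 (iv F63163)
def n30056 : Q := act 6 n26323
theorem D30056 : act 6 n26323 = n30056 := rfl
def n30057 : Q := act 4 n26324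
theorem D30057 : act 4 n26324 = n30057 := rfl
theorem F65322 : act 0 n30057 = n26334 := d3_1 D30057 (iv D26334) (iv F54244)
theorem F65323 : act 2 n30057 = n28965 := d12_1 D30057 F62214 (iv F54245)
theorem F65324 : act 5 n28964 = n30057 := d13_0 F65323 (iv D28965) D28964
def n30058 : Q := act 5 n26324
theorem D30058 : act 5 n26324 = n30058 := rfl
theorem F65325 : act 0 n30058 = n26335 := d4_1 D30058 (iv D26335) (iv F54244)
theorem F65326 : act 1 n30058 = n28297 := d9_1 D30058 F60216 (iv F57287) F65318 F65316
theorem F65327 : act 2 n30058 = n28296 := d13_1 D30058 F60302 (iv F54245)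
theorem F65328 : act 3 n30058 = n26326 := d16_1 D30058 (iv D26326) D26324
theorem F65329 : act 4 n30058 = n28964 := d18_1 D30058 F65324 (iv D30057)
def n30059 : Q := act 6 n26324
theorem D30059 : act 6 n26324 = n30059 := rfl
theorem F65330 : act 0 n30059 = n26336 := d5_1 D30059 (iv D26336) (iv F54244)
theorem F65331 : act 2 n30059 = n30031 := d14_1 D30059 (iv D30031) (iv F54245)
theorem F65332 : act 3 n30059 = n26327 := d17_1 D30059 (iv D26327) D26324
def n30060 : Q := act 3 n26325
theorem D30060 : act 3 n26325 = n30060 := rfl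
theorem F65333 : act 0 n30060 = n26337 := d2_1 D30060 (iv D26337) (iv F54246)
def n30061 : Q := act 5 n26325
theorem D30061 : act 5 n26325 = n30061 := rfl
theorem F65334 : act 0 n30061 = n26338 := d4_1 D30061 (iv D26338) (iv F54246)
theorem F65335 : act 2 n30061 = n26328 := d13_1 D30061 (iv D26328) (iv F54247)
theorem F65336 : act 4 n30061 = n26326 := d18_1 D30061 (iv D26326) D26325
theorem F65337 : act 1 n28003 = n30061 := d6_5 F65335 (iv F54255) D27501 (iv F58174) (iv F59284)
def n30062 : Q := act 6 n26325
theorem D30062 : act 6 n26325 = n30062 := rfl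
theorem F65338 : act 0 n30062 = n26339 := d5_1 D30062 (iv D26339) (iv F54246)
theorem F65339 : act 2 n30062 = n26329 := d14_1 D30062 (iv D26329) (iv F54247)
theorem F65340 : act 4 n30062 = n26327 := d19_1 D30062 (iv D26327) D26325
def n30063 : Q := act 1 n26326
theorem D30063 : act 1 n26326 = n30063 := rfl
theorem F65341 : act 0 n30063 = n28004 := d0_1 D30063 F59285 (iv F59269) F59270 F50482 D24846 F59255 (iv D26340) (iv F54248)
theorem F65342 : act 3 n30063 = n28297 := d7_2 F65328 D30063 (iv F65326)
theorem F65343 : act 4 n30063 = n28003 := d8_2 F65336 D30063 F65337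
theorem F65344 : act 5 n30063 = n29348 := d9_2 D26326 D30063 F65321 (iv D30055) (iv D26323)
theorem F65345 : act 6 n28298 = n30063 := d22_1 F63145 F65344 (iv D29348) (iv F63143)
theorem F65346 : act 2 n28101 = n30063 := d12_3 F65343 F59284 D28101
def n30064 : Q := act 1 n26327
theorem D30064 : act 1 n26327 = n30064 := rfl
def n30065 : Q := act 1 n26329
theorem D30065 : act 1 n26329 = n30065 := rfl
theorem F65347 : act 3 n30065 = n26791 := d7_2 (iv F54257) D30065 (iv F55646)
theorem F65348 : act 4 n30065 = n26331 := d8_2 (iv F54258) D30065 (iv D26331)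
theorem F65349 : act 6 n30065 = n28991 := d10_2 D26329 D30065 F65298 (iv D30048) F54227
theorem F65350 : act 0 n29954 = n30065 := d5_3 F65349 F62279 (iv F65012)
theorem F65351 : act 5 n26790 = n30065 := d20_7 F65349 (iv D28991) (iv F57751) (iv F65011) F65012 (iv F62274) F62275
def n30066 : Q := act 2 n26330
theorem D30066 : act 2 n26330 = n30066 := rfl
theorem F65352 : act 0 n30066 = n27490 := d1_1 D30066 (iv D27490) F54261
theorem F65353 : act 1 n30066 = n28101 := d6_1 D30066 F65346 (iv D30063) F54249 D26330
theorem F65354 : act 4 n30066 = n27501 := d12_2 (iv F54260) D30066 (iv D27501)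
def n30067 : Q := act 2 n26331
theorem D30067 : act 2 n26331 = n30067 := rfl
theorem F65355 : act 0 n30067 = n29597 := d1_1 D30067 F63769 F54264
theorem F65356 : act 6 n30067 = n28990 := d14_2 (iv F54263) D30067 F62278
def n30068 : Q := act 3 n26332
theorem D30068 : act 3 n26332 = n30068 := rfl
theorem F65357 : act 0 n30068 = n27758 := d2_1 D30068 (iv D27758) (iv F54265)
theorem F65358 : act 4 n30068 = n27432 := d15_2 (iv F54266) D30068 F57629 F46336 (iv F44018)
theorem F65359 : act 5 n30068 = n28668 := d16_2 (iv F54267) D30068 F61222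
theorem F65360 : act 6 n30068 = n27431 := d17_2 (iv F54268) D30068 F57628
def n30069 : Q := act 1 n26333
theorem D30069 : act 1 n26333 = n30069 := rfl
theorem F65361 : act 2 n30069 = n28740 := d6_2 D26333 D30069 (iv D28740) (iv D24843) (iv F42321)
theorem F65362 : act 3 n30069 = n30023 := d7_2 (iv F54270) D30069 (iv D30023)
theorem F65363 : act 0 n29007 = n30069 := d2_3 F65362 (iv F65238) F62463
def n30070 : Q := act 4 n26333
theorem D30070 : act 4 n26333 = n30070 := rfl
theorem F65364 : act 0 n30070 = n28965 := d3_1 D30070 F62214 (iv F54269)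
theorem F65365 : act 2 n30070 = n26334 := d12_1 D30070 (iv D26334) D26333
theorem F65366 : act 5 n28963 = n30070 := d4_0 F65364 (iv D28965) D28963
def n30071 : Q := act 5 n26333
theorem D30071 : act 5 n26333 = n30071 := rfl
theorem F65367 : act 0 n30071 = n28296 := d4_1 D30071 F60302 (iv F54269)
theorem F65368 : act 2 n30071 = n26335 := d13_1 D30071 (iv D26335) D26333
theorem F65369 : act 3 n30071 = n30025 := d16_1 D30071 (iv D30025) (iv F54270)
theorem F65370 : act 4 n30071 = n28963 := d18_1 D30071 F65366 (iv D30070)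
def n30072 : Q := act 6 n26333
theorem D30072 : act 6 n26333 = n30072 := rfl
theorem F65371 : act 0 n30072 = n30031 := d5_1 D30072 (iv D30031) (iv F54269)
theorem F65372 : act 2 n30072 = n26336 := d14_1 D30072 (iv D26336) D26333
theorem F65373 : act 3 n30072 = n30026 := d17_1 D30072 (iv D30026) (iv F54270)
def n30073 : Q := act 3 n26334
theorem D30073 : act 3 n26334 = n30073 := rfl
theorem F65374 : act 1 n30073 = n28726 := d7_1 D30073 F61473 (iv F54271)
theorem F65375 : act 4 n30073 = n26337 := d15_2 D26334 D30073 (iv D26337) (iv D21827) D21826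
def n30074 : Q := act 5 n26334
theorem D30074 : act 5 n26334 = n30074 := rfl
theorem F65376 : act 0 n30074 = n28964 := d4_1 D30074 F65324 F65322
theorem F65377 : act 2 n30074 = n28963 := d13_1 D30074 F65366 F65365
theorem F65378 : act 4 n30074 = n26335 := d18_1 D30074 (iv D26335) D26334
def n30075 : Q := act 6 n26334
theorem D30075 : act 6 n26334 = n30075 := rfl
theorem F65379 : act 4 n30075 = n26336 := d19_1 D30075 (iv D26336) D26334
theorem F65380 : act 5 n30075 = n27223 := d22_2 (iv D30074) D30075 (iv F62213) (iv F65376)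
def n30076 : Q := act 6 n26335
theorem D30076 : act 6 n26335 = n30076 := rfl
theorem F65381 : act 3 n30076 = n26341 := d17_1 D30076 (iv D26341) (iv F54272)
theorem F65382 : act 5 n30076 = n30059 := d22_2 D26335 D30076 (iv D30059) F54244
def n30077 : Q := act 1 n26336
theorem D30077 : act 1 n26336 = n30077 := rfl
theorem F65383 : act 3 n30077 = n26342 := d7_2 (iv F54273) D30077 (iv D26342)
theorem F65384 : act 6 n30077 = n28604 := d10_2 D26336 D30077 F61038 F50249 (iv F42321)
theorem F65385 : act 0 n30077 = n28525 := d22_4 (iv F61018) F61019 (iv F61049) (iv F65384)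
theorem F65386 : act 4 n29317 = n30077 := d3_0 F65385 F60837 D29317
theorem F65387 : act 1 n30075 = n29317 := d8_3 F65386 (iv D30077) (iv F65379)
def n30078 : Q := act 5 n26336
theorem D30078 : act 5 n26336 = n30078 := rfl
theorem F65388 : act 0 n30078 = n30076 := d4_1 D30078 F65382 F65330
theorem F65389 : act 3 n30078 = n26343 := d16_1 D30078 (iv D26343) (iv F54273)
theorem F65390 : act 4 n30078 = n27223 := d18_1 D30078 (iv F65380) F65379
theorem F65391 : act 6 n30078 = n30058 := d20_2 D26336 D30078 (iv D30058) D30059 (iv F65382) (iv D30076) (iv D26335)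
theorem F65392 : act 1 n30078 = n27001 := d24_2 D26336 D30078 (iv D27001) (iv F56342) (iv F59091) F59094 (iv F50076) (iv F56411) (iv F62686) (iv F63415) F63412 (iv D28744) (iv D24845) (iv F42321)
def n30079 : Q := act 6 n26337
theorem D30079 : act 6 n26337 = n30079 := rfl
theorem F65393 : act 3 n30079 = n26339 := d17_1 D30079 (iv D26339) D26337
def n30080 : Q := act 6 n26338
theorem D30080 : act 6 n26338 = n30080 := rfl
theorem F65394 : act 2 n30080 = n26344 := d14_1 D30080 (iv D26344) (iv F54275)
theorem F65395 : act 4 n30080 = n26341 := d19_1 D30080 (iv D26341) (iv F54276)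
theorem F65396 : act 5 n30080 = n30062 := d22_2 D26338 D30080 (iv D30062) F54246
def n30081 : Q := act 1 n26339
theorem D30081 : act 1 n26339 = n30081 := rfl
theorem F65397 : act 2 n30081 = n27962 := d6_2 (iv F54277) D30081 (iv D27962) F48489 (iv F42328)
theorem F65398 : act 4 n30081 = n26342 := d8_2 (iv F54278) D30081 (iv D26342)
theorem F65399 : act 6 n30081 = n28599 := d10_2 D26339 D30081 F61032 F50243 (iv F42322)
def n30082 : Q := act 5 n26339
theorem D30082 : act 5 n26339 = n30082 := rfl
theorem F65400 : act 0 n30082 = n30080 := d4_1 D30082 F65396 F65338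
theorem F65401 : act 2 n30082 = n26345 := d13_1 D30082 (iv D26345) (iv F54277)
theorem F65402 : act 4 n30082 = n26343 := d18_1 D30082 (iv D26343) (iv F54278)
theorem F65403 : act 6 n30082 = n30061 := d20_2 D26339 D30082 (iv D30061) D30062 (iv F65396) (iv D30080) (iv D26338)
theorem F65404 : act 1 n29373 = n30082 := d10_5 F65403 (iv F65337) (iv F63208) F63206 D29373
theorem F65405 : act 3 n30082 = n29374 := d7_2 (iv F63215) F65404 (iv D29374)
theorem F65406 : act 5 n29374 = n30079 := d16_2 D30082 F65405 F65393
def n30083 : Q := act 1 n26341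
theorem D30083 : act 1 n26341 = n30083 := rfl
def n30084 : Q := act 5 n26342
theorem D30084 : act 5 n26342 = n30084 := rfl
theorem F65407 : act 2 n30084 = n27965 := d13_1 D30084 (iv D27965) (iv F54283)
def n30085 : Q := act 1 n26343
theorem D30085 : act 1 n26343 = n30085 := rfl
theorem F65408 : act 3 n30085 = n27001 := d7_2 F65389 D30085 (iv F65392)
theorem F65409 : act 4 n30085 = n29373 := d8_2 F65402 D30085 F65404
theorem F65410 : act 6 n30085 = n27000 := d10_2 (iv F54287) D30085 (iv F60218) F65345 (iv D30063)
theorem F65411 : act 0 n29376 = n30085 := d5_3 F65410 F56357 D29376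
def n30086 : Q := act 1 n26344
theorem D30086 : act 1 n26344 = n30086 := rfl
theorem F65412 : act 3 n30086 = n26844 := d7_2 (iv F54288) D30086 (iv D26844)
theorem F65413 : act 4 n30086 = n26346 := d8_2 (iv F54289) D30086 (iv D26346)
def n30087 : Q := act 1 n26345
theorem D30087 : act 1 n26345 = n30087 := rfl
theorem F65414 : act 3 n30087 = n26845 := d7_2 (iv F54292) D30087 (iv D26845)
theorem F65415 : act 4 n30087 = n26347 := d8_2 (iv F54293) D30087 (iv D26347)
theorem F65416 : act 5 n30087 = n27967 := d9_2 D26345 D30087 (iv D27967) (iv D24053) (iv F42328)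
theorem F65417 : act 0 n27336 = n30087 := d2_3 F65414 (iv F55819) D27336
def n30088 : Q := act 5 n26346
theorem D30088 : act 5 n26346 = n30088 := rfl
theorem F65418 : act 1 n30088 = n28506 := d9_1 D30088 F60767 (iv D26331) (iv F42332) D26346
theorem F65419 : act 3 n30088 = n26349 := d16_1 D30088 (iv D26349) (iv F54295)
def n30089 : Q := act 0 n26347
theorem D30089 : act 0 n26347 = n30089 := rfl
theorem F65420 : act 1 n30089 = n27342 := d0_2 D26347 D30089 (iv F64570) F64571 F53642 D28424 (iv F60537) (iv D26346) (iv F42333)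
theorem F65421 : act 3 n30089 = n26350 := d2_2 (iv F54296) D30089 (iv D26350)
theorem F65422 : act 4 n30089 = n27336 := d3_2 F65415 D30089 F65417
theorem F65423 : act 5 n30089 = n27968 := d4_2 (iv F54297) D30089 (iv D27968)
theorem F65424 : act 2 n28042 = n30089 := d13_3 F65423 F61363 D28042
def n30090 : Q := act 2 n26347
theorem D30090 : act 2 n26347 = n30090 := rfl
theorem F65425 : act 0 n30090 = n28042 := d1_1 D30090 F65424 (iv D30089)
theorem F65426 : act 5 n30090 = n27969 := d13_2 (iv F54297) D30090 (iv D27969)
theorem F65427 : act 3 n28044 = n30090 := d16_3 F65426 F61366 D28044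
def n30091 : Q := act 6 n26347
theorem D30091 : act 6 n26347 = n30091 := rfl
theorem F65428 : act 1 n30091 = n29581 := d10_1 D30091 F63717 (iv D26330) (iv F42335) D26347
theorem F65429 : act 3 n30091 = n26352 := d17_1 D30091 (iv D26352) (iv F54296)
def n30092 : Q := act 2 n26350
theorem D30092 : act 2 n26350 = n30092 := rfl
theorem F65430 : act 0 n30092 = n26351 := d1_1 D30092 (iv D26351) D26350
theorem F65431 : act 4 n30092 = n26846 := d12_2 (iv F54306) D30092 (iv D26846)
theorem F65432 : act 5 n30092 = n27971 := d13_2 (iv F54307) D30092 (iv D27971)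
theorem F65433 : act 6 n30092 = n29288 := d14_2 F59185 D30092 (iv F62988)
def n30093 : Q := act 3 n26351
theorem D30093 : act 3 n26351 = n30093 := rfl
theorem F65434 : act 1 n30093 = n29203 := d7_1 D30093 F62739 (iv F54308)
theorem F65435 : act 5 n30093 = n27973 := d16_2 (iv F54310) D30093 (iv D27973)
def n30094 : Q := act 6 n26351
theorem D30094 : act 6 n26351 = n30094 := rfl
theorem F65436 : act 0 n30094 = n29288 := d5_1 D30094 (iv F65433) F65430
theorem F65437 : act 2 n30094 = n26352 := d14_1 D30094 (iv D26352) D26351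
theorem F65438 : act 4 n30094 = n26847 := d19_1 D30094 (iv D26847) (iv F54309)
def n30095 : Q := act 5 n26353
theorem D30095 : act 5 n26353 = n30095 := rfl
theorem F65439 : act 1 n30095 = n27121 := d9_1 D30095 (iv D27121) F54320 (iv D26356) (iv F54313)
theorem F65440 : act 3 n30095 = n27125 := d16_1 D30095 F56763 (iv F54314)
theorem F65441 : act 4 n30095 = n26354 := d18_1 D30095 (iv D26354) D26353
def n30096 : Q := act 6 n26353
theorem D30096 : act 6 n26353 = n30096 := rfl
theorem F65442 : act 3 n30096 = n28883 := d17_1 D30096 (iv D28883) (iv F54314)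
theorem F65443 : act 4 n30096 = n26355 := d19_1 D30096 (iv D26355) D26353
def n30097 : Q := act 6 n26354
theorem D30097 : act 6 n26354 = n30097 := rfl
theorem F65444 : act 2 n30097 = n27362 := d14_1 D30097 (iv F57826) F57824
theorem F65445 : act 3 n30097 = n28717 := d17_1 D30097 (iv D28717) (iv F54315)
theorem F65446 : act 5 n30097 = n27360 := d22_2 D26354 D30097 F57446 F48548
def n30098 : Q := act 1 n26355
theorem D30098 : act 1 n26355 = n30098 := rfl
theorem F65447 : act 0 n30098 = n27956 := d0_1 D30098 F59135 F50186 (iv D24703) F38502 D21478 D25820 (iv F57444) F57443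
theorem F65448 : act 3 n30098 = n27954 := d7_2 (iv F54316) D30098 F59126
theorem F65449 : act 6 n30098 = n26359 := d10_2 D26355 D30098 (iv D26359) (iv D21839) D21836
def n30099 : Q := act 5 n26355
theorem D30099 : act 5 n26355 = n30099 := rfl
theorem F65450 : act 0 n30099 = n30097 := d4_1 D30099 F65446 F57443
theorem F65451 : act 2 n30099 = n27516 := d13_1 D30099 F57846 F57442
theorem F65452 : act 3 n30099 = n28718 := d16_1 D30099 (iv D28718) (iv F54316)
theorem F65453 : act 6 n30099 = n27513 := d20_2 D26355 D30099 (iv D27513) (iv F57446) (iv F65446) (iv D30097) (iv D26354)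
def n30100 : Q := act 1 n26357
theorem D30100 : act 1 n26357 = n30100 := rfl
theorem F65454 : act 3 n30100 = n27335 := d7_2 (iv F54322) D30100 (iv F57378)
theorem F65455 : act 4 n30100 = n26359 := d8_2 (iv F54323) D30100 (iv D26359)
theorem F65456 : act 0 n27333 = n30100 := d2_3 F65454 F57374 (iv F57372)
theorem F65457 : act 5 n27331 = n30100 := d16_0 F65454 (iv D27335) (iv F57370)
def n30101 : Q := act 2 n26358
theorem D30101 : act 2 n26358 = n30101 := rfl
theorem F65458 : act 0 n30101 = n27119 := d1_1 D30101 (iv D27119) (iv F54324)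
theorem F65459 : act 1 n30101 = n28090 := d6_1 D30101 F64435 (iv D29787) F53516 D26358
theorem F65460 : act 4 n30101 = n27120 := d12_2 (iv F54326) D30101 (iv D27120)
theorem F65461 : act 3 n28116 = n30101 := d15_5 F65460 F56750 F48705 D24397 (iv F59599)
def n30102 : Q := act 6 n26358
theorem D30102 : act 6 n26358 = n30102 := rfl
theorem F65462 : act 0 n30102 = n27072 := d5_1 D30102 F56611 (iv F54324)
theorem F65463 : act 3 n30102 = n27143 := d17_1 D30102 F56820 (iv F54325)
theorem F65464 : act 4 n30102 = n27073 := d19_1 D30102 F56613 (iv F54326)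
theorem F65465 : act 5 n30102 = n28445 := d20_1 D30102 (iv F60584) F53810 (iv F56611) (iv F64657) (iv F64815) F64814
def n30103 : Q := act 0 n26359
theorem D30103 : act 0 n26359 = n30103 := rfl
theorem F65466 : act 3 n30103 = n27723 := d2_2 (iv F54327) D30103 F58339
theorem F65467 : act 4 n30103 = n27333 := d3_2 F65455 D30103 F65456
theorem F65468 : act 6 n30103 = n27956 := d5_2 F65449 D30103 (iv F65447)
theorem F65469 : act 5 n30103 = n27330 := d24_1 (iv F65468) (iv D27330) (iv D23212) (iv F37183) F37181 D19732 F37192 D23978 F48285 D24579 (iv F50209) (iv F59156) (iv D27959) (iv F59135)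
def n30104 : Q := act 5 n26359
theorem D30104 : act 5 n26359 = n30104 := rfl
theorem F65470 : act 0 n30104 = n27330 := d4_1 D30104 (iv F65469) (iv D30103)
theorem F65471 : act 3 n30104 = n27721 := d16_1 D30104 F58335 (iv F54327)
theorem F65472 : act 4 n30104 = n27331 := d18_1 D30104 F65457 F65455
theorem F65473 : act 6 n30104 = n29714 := d22_1 D30104 F64164 (iv F65468) (iv D30103)
def n30105 : Q := act 1 n26360
theorem D30105 : act 1 n26360 = n30105 := rfl
theorem F65474 : act 2 n30105 = n26686 := d6_2 F64458 D30105 F55294 D26697 F64461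
theorem F65475 : act 3 n30105 = n27391 := d7_2 (iv F54328) D30105 (iv D27391)
theorem F65476 : act 4 n30105 = n26362 := d8_2 (iv F54329) D30105 (iv D26362)
theorem F65477 : act 6 n30105 = n30086 := d10_2 D26360 D30105 (iv D30086) (iv D26344) (iv F42346)
theorem F65478 : act 0 n29020 = n30105 := d2_3 F65475 F62371 F62368
def n30106 : Q := act 1 n26361
theorem D30106 : act 1 n26361 = n30106 := rfl
theorem F65479 : act 3 n30106 = n28276 := d7_2 (iv F54332) D30106 F60132
theorem F65480 : act 4 n30106 = n26363 := d8_2 (iv F54333) D30106 (iv D26363)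
theorem F65481 : act 5 n30106 = n28710 := d9_2 D26361 D30106 (iv D28710) (iv D24822) (iv F42349)
def n30107 : Q := act 0 n26362
theorem D30107 : act 0 n26362 = n30107 := rfl
theorem F65482 : act 2 n30107 = n26681 := d1_2 (iv F55308) D30107 F55281
theorem F65483 : act 3 n30107 = n28418 := d2_2 (iv F54335) D30107 F60518
theorem F65484 : act 4 n30107 = n29020 := d3_2 F65476 D30107 F65478
theorem F65485 : act 6 n30107 = n28424 := d5_2 (iv F54336) D30107 (iv F60537)
theorem F65486 : act 1 n28417 = n30107 := d10_5 F65485 (iv D28424) (iv D24555) (iv F49805) D28417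
def n30108 : Q := act 5 n26362
theorem D30108 : act 5 n26362 = n30108 := rfl
theorem F65487 : act 1 n30108 = n30104 := d9_1 D30108 (iv D30104) (iv D26359) (iv F42353) D26362
theorem F65488 : act 2 n30108 = n26692 := d13_1 D30108 (iv D26692) (iv F55308)
theorem F65489 : act 3 n30108 = n28720 := d16_1 D30108 (iv D28720) (iv F54335)
def n30109 : Q := act 0 n26363
theorem D30109 : act 0 n26363 = n30109 := rfl
theorem F65490 : act 1 n30109 = n29689 := d0_2 D26363 D30109 F64116 F63738 F60554 F65486 (iv D30107) (iv D26362) (iv F42354)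
theorem F65491 : act 3 n30109 = n28274 := d2_2 (iv F54337) D30109 F60121
theorem F65492 : act 5 n30109 = n28713 := d4_2 (iv F54338) D30109 (iv D28713)
theorem F65493 : act 2 n30109 = n29028 := d21_0 F62356 F52056 F46074 (iv F35959) (iv F37964) (iv F49482) (iv F54337) D30109
def n30110 : Q := act 2 n26363
theorem D30110 : act 2 n26363 = n30110 := rfl
theorem F65494 : act 0 n30110 = n29028 := d1_1 D30110 (iv F65493) (iv D30109)
theorem F65495 : act 3 n30110 = n29029 := d11_2 (iv F54337) D30110 F62358 F57290 (iv F47290) (iv F49470) (iv F60123) (iv F65491) F65493 F62356 F52056 F46074 (iv F35959) (iv F37964) (iv F49482)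
theorem F65496 : act 5 n30110 = n28714 := d13_2 (iv F54338) D30110 (iv D28714)
def n30111 : Q := act 6 n26363
theorem D30111 : act 6 n26363 = n30111 := rfl
theorem F65497 : act 1 n30111 = n30102 := d10_1 D30111 (iv D30102) (iv D26358) (iv F42356) D26363
theorem F65498 : act 3 n30111 = n28277 := d17_1 D30111 (iv D28277) (iv F54337)
def n30112 : Q := act 6 n26364
theorem D30112 : act 6 n26364 = n30112 := rfl
theorem F65499 : act 0 n30112 = n27780 := d5_1 D30112 (iv D27780) F54343
theorem F65500 : act 1 n30112 = n29884 := d10_1 D30112 (iv D29884) (iv D26128) (iv F42370) D26364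
theorem F65501 : act 2 n30112 = n28931 := d14_1 D30112 (iv D28931) (iv F54339)
theorem F65502 : act 3 n30112 = n26748 := d17_1 D30112 (iv D26748) (iv F54340)
theorem F65503 : act 4 n30112 = n26367 := d19_1 D30112 (iv D26367) (iv F54341)
theorem F65504 : act 5 n30112 = n27780 := d22_2 F54342 D30112 (iv D27780) F54343
def n30113 : Q := act 6 n26366
theorem D30113 : act 6 n26366 = n30113 := rfl
theorem F65505 : act 2 n30113 = n26367 := d14_1 D30113 (iv D26367) D26366
theorem F65506 : act 4 n30113 = n28931 := d19_1 D30113 (iv D28931) (iv F54349)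
def n30114 : Q := act 4 n26370
theorem D30114 : act 4 n26370 = n30114 := rfl
theorem F65507 : act 2 n30114 = n26371 := d12_1 D30114 (iv D26371) D26370
theorem F65508 : act 6 n30114 = n29630 := d19_2 (iv F60432) D30114 F63893
def n30115 : Q := act 5 n26370
theorem D30115 : act 5 n26370 = n30115 := rfl
theorem F65509 : act 0 n30115 = n28411 := d4_1 D30115 (iv F64214) F64212
theorem F65510 : act 2 n30115 = n26372 := d13_1 D30115 (iv D26372) D26370
theorem F65511 : act 3 n30115 = n28413 := d16_1 D30115 F60504 F60430
theorem F65512 : act 1 n28855 = n30115 := d6_5 F65510 F54362 (iv F59594) F59595 (iv F61838)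
def n30116 : Q := act 1 n26374
theorem D30116 : act 1 n26374 = n30116 := rfl
theorem F65513 : act 2 n30116 = n26743 := d6_2 (iv F54369) D30116 F55494 F43570 (iv F43553)
theorem F65514 : act 4 n30116 = n26587 := d8_2 (iv F54370) D30116 F54979
theorem F65515 : act 5 n30116 = n27928 := d9_2 (iv F54371) D30116 (iv D27928) D27930 (iv F59069)
theorem F65516 : act 6 n30116 = n28116 := d10_2 D26374 D30116 (iv D28116) (iv D24161) (iv F42393)
def n30117 : Q := act 1 n26375
theorem D30117 : act 1 n26375 = n30117 := rfl
theorem F65517 : act 2 n30117 = n27622 := d6_2 D26375 D30117 (iv D27622) (iv F53410) F53409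
theorem F65518 : act 0 n29076 = n30117 := d1_3 F65517 F58278 (iv F62501)
def n30118 : Q := act 4 n26375
theorem D30118 : act 4 n26375 = n30118 := rfl
theorem F65519 : act 0 n30118 = n26381 := d3_1 D30118 (iv D26381) (iv F54372)
theorem F65520 : act 2 n30118 = n26376 := d12_1 D30118 (iv D26376) D26375
def n30119 : Q := act 5 n26375
theorem D30119 : act 5 n26375 = n30119 := rfl
theorem F65521 : act 0 n30119 = n26382 := d4_1 D30119 (iv D26382) (iv F54372)
theorem F65522 : act 2 n30119 = n26377 := d13_1 D30119 (iv D26377) D26375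
def n30120 : Q := act 6 n26375
theorem D30120 : act 6 n26375 = n30120 := rfl
theorem F65523 : act 0 n30120 = n26383 := d5_1 D30120 (iv D26383) (iv F54372)
theorem F65524 : act 2 n30120 = n26378 := d14_1 D30120 (iv D26378) D26375
def n30121 : Q := act 0 n26379
theorem D30121 : act 0 n26379 = n30121 := rfl
theorem F65525 : act 2 n30121 = n26388 := d1_2 (iv F54381) D30121 (iv D26388)
def n30122 : Q := act 3 n26379
theorem D30122 : act 3 n26379 = n30122 := rfl
theorem F65526 : act 1 n30122 = n26380 := d7_1 D30122 (iv D26380) D26379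
theorem F65527 : act 2 n30122 = n27269 := d21_2 (iv F54381) D30122 F57184 F46217 (iv F52360) (iv F54550) F54551 (iv D26388)
theorem F65528 : act 4 n29030 = n30122 := d12_0 F65527 (iv F57295) (iv F62360)
theorem F65529 : act 6 n27268 = n30122 := d14_0 F65527 (iv D27269) D27268
def n30123 : Q := act 4 n26379
theorem D30123 : act 4 n26379 = n30123 := rfl
theorem F65530 : act 1 n30123 = n26381 := d8_1 D30123 (iv D26381) D26379
theorem F65531 : act 2 n30123 = n26389 := d12_1 D30123 (iv D26389) (iv F54381)
def n30124 : Q := act 6 n26379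
theorem D30124 : act 6 n26379 = n30124 := rfl
theorem F65532 : act 1 n30124 = n28331 := d10_1 D30124 F60308 (iv F60434) (iv D26383) D26379
theorem F65533 : act 2 n30124 = n26391 := d14_1 D30124 (iv D26391) (iv F54381)
theorem F65534 : act 3 n30124 = n27268 := d17_1 D30124 F65529 (iv D30122)
theorem F65535 : act 5 n27272 = n30124 := d16_0 F65534 F57182 D27272
def n30125 : Q := act 5 n26380
theorem D30125 : act 5 n26380 = n30125 := rfl
theorem F65536 : act 3 n30125 = n26382 := d16_1 D30125 (iv D26382) D26380
theorem F65537 : act 1 n29129 = n30125 := d7_3 F65536 F59434 (iv F62592)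
def n30126 : Q := act 3 n26381
theorem D30126 : act 3 n26381 = n30126 := rfl
def n30127 : Q := act 5 n26381
theorem D30127 : act 5 n26381 = n30127 := rfl
theorem F65538 : act 2 n30127 = n26384 := d13_1 D30127 (iv D26384) (iv F54382)
theorem F65539 : act 4 n30127 = n26382 := d18_1 D30127 (iv D26382) D26381
def n30128 : Q := act 6 n26381
theorem D30128 : act 6 n26381 = n30128 := rfl
theorem F65540 : act 2 n30128 = n26385 := d14_1 D30128 (iv D26385) (iv F54382)
theorem F65541 : act 4 n30128 = n26383 := d19_1 D30128 (iv D26383) D26381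
theorem F65542 : act 5 n29648 = n30128 := d13_0 F65540 (iv F54391) D29648
def n30129 : Q := act 6 n26382
theorem D30129 : act 6 n26382 = n30129 := rfl
theorem F65543 : act 2 n30129 = n26386 := d14_1 D30129 (iv D26386) (iv F54383)
theorem F65544 : act 5 n30129 = n30120 := d22_2 D26382 D30129 (iv D30120) F54372
def n30130 : Q := act 5 n26383
theorem D30130 : act 5 n26383 = n30130 := rfl
theorem F65545 : act 0 n30130 = n30129 := d4_1 D30130 F65544 F65523
theorem F65546 : act 2 n30130 = n26387 := d13_1 D30130 (iv D26387) (iv F54384)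
theorem F65547 : act 4 n30130 = n29648 := d18_1 D30130 F65542 F65541
theorem F65548 : act 6 n30130 = n30119 := d20_2 D26383 D30130 (iv D30119) D30120 (iv F65544) (iv D30129) (iv D26382)
def n30131 : Q := act 4 n26388
theorem D30131 : act 4 n26388 = n30131 := rfl
theorem F65549 : act 0 n30131 = n26389 := d3_1 D30131 (iv D26389) D26388
theorem F65550 : act 3 n30131 = n28785 := d15_1 D30131 F61617 (iv F52358) (iv F54552) F54551
def n30132 : Q := act 5 n26388
theorem D30132 : act 5 n26388 = n30132 := rfl
theorem F65551 : act 0 n30132 = n26390 := d4_1 D30132 (iv D26390) D26388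
def n30133 : Q := act 6 n26388
theorem D30133 : act 6 n26388 = n30133 := rfl
theorem F65552 : act 0 n30133 = n26391 := d5_1 D30133 (iv D26391) D26388
def n30134 : Q := act 5 n26389
theorem D30134 : act 5 n26389 = n30134 := rfl
theorem F65553 : act 1 n30134 = n28120 := d9_1 D30134 (iv D28120) F48747 (iv F42424) (iv F54399)
theorem F65554 : act 4 n30134 = n26390 := d18_1 D30134 (iv D26390) D26389
def n30135 : Q := act 6 n26389
theorem D30135 : act 6 n26389 = n30135 := rfl
theorem F65555 : act 4 n30135 = n26391 := d19_1 D30135 (iv D26391) D26389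
def n30136 : Q := act 6 n26390
theorem D30136 : act 6 n26390 = n30136 := rfl
theorem F65556 : act 3 n30136 = n27388 := d17_1 D30136 (iv F57521) F54554
theorem F65557 : act 5 n30136 = n30133 := d22_2 D26390 D30136 (iv D30133) (iv D26388)
theorem F65558 : act 1 n30043 = n30136 := d24_14 (iv D30136) (iv D26390) (iv D21867) (iv F28678) F28677 (iv F37410) F61388 (iv D24175) F37395 (iv F28660) F28659 D21815 D26315 D30043
theorem F65559 : act 1 n30133 = n28107 := d9_3 D30043 F65558 F65557 (iv D28107) (iv F54224)
theorem F65560 : act 1 n28122 = n30038 := d10_5 (iv F65280) F65558 (iv D30136) F54400 D28122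
def n30137 : Q := act 5 n26391
theorem D30137 : act 5 n26391 = n30137 := rfl
theorem F65561 : act 0 n30137 = n30136 := d4_1 D30137 F65557 F65552
theorem F65562 : act 2 n30137 = n27272 := d13_1 D30137 F65535 F65533
theorem F65563 : act 6 n30137 = n30132 := d20_2 D26391 D30137 (iv D30132) D30133 (iv F65557) (iv D30136) (iv D26390)
def n30138 : Q := act 1 n26392
theorem D30138 : act 1 n26392 = n30138 := rfl
theorem F65564 : act 0 n30138 = n27109 := d0_1 D30138 F56712 F55242 (iv F46621) F46620 F33965 (iv F33981) (iv F46657) (iv F54401)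
theorem F65565 : act 2 n30138 = n26399 := d6_2 D26392 D30138 (iv D26399) (iv D21872) (iv F42425)
theorem F65566 : act 3 n30138 = n27108 := d7_2 (iv F54402) D30138 F56710
def n30139 : Q := act 4 n26392
theorem D30139 : act 4 n26392 = n30139 := rfl
theorem F65567 : act 0 n30139 = n27600 := d3_1 D30139 (iv D27600) (iv F54401)
theorem F65568 : act 2 n30139 = n26393 := d12_1 D30139 (iv D26393) D26392
theorem F65569 : act 3 n30139 = n27788 := d15_1 D30139 (iv D27788) (iv D23719) (iv F46656) (iv F54402)
theorem F65570 : act 6 n29668 = n30139 := d17_0 F65569 F58603 D29668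
def n30140 : Q := act 5 n26392
theorem D30140 : act 5 n26392 = n30140 := rfl
theorem F65571 : act 0 n30140 = n27601 := d4_1 D30140 (iv D27601) (iv F54401)
theorem F65572 : act 2 n30140 = n26394 := d13_1 D30140 (iv D26394) D26392
theorem F65573 : act 3 n30140 = n27599 := d16_1 D30140 (iv D27599) (iv F54402)
def n30141 : Q := act 6 n26392
theorem D30141 : act 6 n26392 = n30141 := rfl
theorem F65574 : act 0 n30141 = n27591 := d5_1 D30141 F58019 (iv F54401)
theorem F65575 : act 2 n30141 = n26395 := d14_1 D30141 (iv D26395) D26392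
theorem F65576 : act 3 n30141 = n27593 := d17_1 D30141 F58025 (iv F54402)
theorem F65577 : act 4 n30141 = n29668 := d19_1 D30141 F65570 (iv D30139)
def n30142 : Q := act 5 n26393
theorem D30142 : act 5 n26393 = n30142 := rfl
theorem F65578 : act 3 n30142 = n26862 := d16_1 D30142 (iv D26862) (iv F54404)
theorem F65579 : act 4 n30142 = n26394 := d18_1 D30142 (iv D26394) D26393
theorem F65580 : act 6 n30142 = n29659 := d22_1 D30142 F64004 D29662 F64013
theorem F65581 : act 1 n30142 = n28997 := d24_2 F64008 D30142 (iv D28997) (iv F57927) (iv D27555) (iv F46589) (iv D23402) (iv F34787) F34788 D19004 (iv F46618) D27581 F57994 (iv F64006)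
def n30143 : Q := act 6 n26394
theorem D30143 : act 6 n26394 = n30143 := rfl
theorem F65582 : act 1 n30143 = n28879 := d10_1 D30143 F61925 F51914 D25333 F54406
theorem F65583 : act 3 n30143 = n26396 := d17_1 D30143 (iv D26396) (iv F54405)
theorem F65584 : act 4 n30143 = n29659 := d19_1 D30143 (iv F65580) F65579
theorem F65585 : act 5 n30143 = n28955 := d22_2 D26394 D30143 F62187 F54044
def n30144 : Q := act 1 n26395
theorem D30144 : act 1 n26395 = n30144 := rfl
theorem F65586 : act 0 n30144 = n27564 := d0_1 D30144 (iv D27564) (iv F47346) (iv F50582) (iv F59466) (iv F61004) F61003 D28955 (iv F62188)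
theorem F65587 : act 3 n30144 = n26397 := d7_2 (iv F54407) D30144 (iv D26397)
theorem F65588 : act 4 n30144 = n27573 := d8_2 F64007 D30144 (iv F64006)
theorem F65589 : act 6 n30144 = n26407 := d10_2 D26395 D30144 (iv D26407) (iv D21875) (iv F42425)
theorem F65590 : act 5 n29829 = n30144 := d24_1 D29829 (iv D30144) (iv D26395) D26394 (iv F54406) (iv D25333) (iv F51975) F53584 (iv D26059) (iv D21634) F28313 D16355 D21640 D26066
def n30145 : Q := act 5 n26395
theorem D30145 : act 5 n26395 = n30145 := rfl
theorem F65591 : act 0 n30145 = n30143 := d4_1 D30145 F65585 (iv F62188)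
theorem F65592 : act 1 n30145 = n28646 := d9_1 D30145 F61163 (iv F64555) F65590 (iv D30144)
theorem F65593 : act 3 n30145 = n26398 := d16_1 D30145 (iv D26398) (iv F54407)
theorem F65594 : act 6 n30145 = n29955 := d20_2 D26395 D30145 (iv D29955) (iv F62187) (iv F65585) (iv D30143) (iv D26394)
def n30146 : Q := act 0 n26399
theorem D30146 : act 0 n26399 = n30146 := rfl
theorem F65595 : act 1 n30146 = n29005 := d0_2 D26399 D30146 (iv F63104) F63105 (iv D28799) (iv D24893) F38768 (iv F28629) (iv F42429)
theorem F65596 : act 2 n30146 = n27109 := d1_2 F65565 D30146 (iv F65564)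
theorem F65597 : act 3 n27173 = n30146 := d21_7 (iv F65565) F65566 (iv D27108) F45804 (iv D23074) (iv F45766) D27173 (iv D30146)
def n30147 : Q := act 3 n26399
theorem D30147 : act 3 n26399 = n30147 := rfl
theorem F65598 : act 0 n30147 = n27173 := d2_1 D30147 F65597 (iv D30146)
theorem F65599 : act 1 n30147 = n26400 := d7_1 D30147 (iv D26400) D26399
theorem F65600 : act 2 n30147 = n27172 := d11_1 D30147 F56921 F45798 F45277 D22944 D27109 (iv F65596) (iv F65597) (iv D27173) F45766 D23074 (iv F45804) D27108 (iv F65566) F65565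
theorem F65601 : act 6 n27278 = n30147 := d14_0 F65600 (iv F56922) D27278
def n30148 : Q := act 4 n26399
theorem D30148 : act 4 n26399 = n30148 := rfl
theorem F65602 : act 1 n30148 = n26401 := d8_1 D30148 (iv D26401) D26399
def n30149 : Q := act 5 n26399
theorem D30149 : act 5 n26399 = n30149 := rfl
def n30150 : Q := act 6 n26399
theorem D30150 : act 6 n26399 = n30150 := rfl
theorem F65603 : act 3 n30150 = n27278 := d17_1 D30150 F65601 (iv D30147)
theorem F65604 : act 1 n29489 = n30150 := d7_3 F65603 F57209 (iv F63486)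
def n30151 : Q := act 4 n26400
theorem D30151 : act 4 n26400 = n30151 := rfl
theorem F65605 : act 0 n30151 = n26410 := d3_1 D30151 (iv D26410) (iv F54422)
theorem F65606 : act 2 n30151 = n28980 := d12_1 D30151 F62253 (iv F54423)
theorem F65607 : act 6 n28979 = n30151 := d14_0 F65606 (iv D28980) D28979
def n30152 : Q := act 5 n26400
theorem D30152 : act 5 n26400 = n30152 := rfl
theorem F65608 : act 0 n30152 = n26411 := d4_1 D30152 (iv D26411) (iv F54422)
theorem F65609 : act 2 n30152 = n30125 := d13_1 D30152 (iv D30125) (iv F54423)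
theorem F65610 : act 3 n30152 = n26402 := d16_1 D30152 (iv D26402) D26400
def n30153 : Q := act 6 n26400
theorem D30153 : act 6 n26400 = n30153 := rfl
theorem F65611 : act 0 n30153 = n26412 := d5_1 D30153 (iv D26412) (iv F54422)
theorem F65612 : act 1 n30153 = n28302 := d10_1 D30153 F60228 (iv F57209) F65601 F65599
theorem F65613 : act 2 n30153 = n28301 := d14_1 D30153 (iv F60436) (iv F54423)
theorem F65614 : act 3 n30153 = n26403 := d17_1 D30153 (iv D26403) D26400
theorem F65615 : act 4 n30153 = n28979 := d19_1 D30153 F65607 (iv D30151)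
def n30154 : Q := act 3 n26401
theorem D30154 : act 3 n26401 = n30154 := rfl
theorem F65616 : act 0 n30154 = n26413 := d2_1 D30154 (iv D26413) (iv F54424)
def n30155 : Q := act 5 n26401
theorem D30155 : act 5 n26401 = n30155 := rfl
theorem F65617 : act 0 n30155 = n26414 := d4_1 D30155 (iv D26414) (iv F54424)
theorem F65618 : act 2 n30155 = n26404 := d13_1 D30155 (iv D26404) (iv F54425)
theorem F65619 : act 4 n30155 = n26402 := d18_1 D30155 (iv D26402) D26401
def n30156 : Q := act 6 n26401
theorem D30156 : act 6 n26401 = n30156 := rfl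
theorem F65620 : act 0 n30156 = n26415 := d5_1 D30156 (iv D26415) (iv F54424)
theorem F65621 : act 2 n30156 = n26405 := d14_1 D30156 (iv D26405) (iv F54425)
theorem F65622 : act 4 n30156 = n26403 := d19_1 D30156 (iv D26403) D26401
theorem F65623 : act 1 n28073 = n30156 := d6_5 F65621 (iv F54436) D27577 (iv F58274) (iv F59494)
def n30157 : Q := act 1 n26402
theorem D30157 : act 1 n26402 = n30157 := rfl
def n30158 : Q := act 1 n26403
theorem D30158 : act 1 n26403 = n30158 := rfl
theorem F65624 : act 0 n30158 = n28074 := d0_1 D30158 F59495 (iv F59479) F59480 F50584 D24897 (iv F61243) (iv D26418) (iv F54428)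
theorem F65625 : act 3 n30158 = n28302 := d7_2 F65614 D30158 (iv F65612)
theorem F65626 : act 4 n30158 = n28073 := d8_2 F65622 D30158 F65623
theorem F65627 : act 6 n30158 = n29489 := d10_2 D26403 D30158 F65604 (iv D30150) (iv D26399)
theorem F65628 : act 5 n28303 = n30158 := d22_0 F65627 (iv D29489) D29490 F63487
theorem F65629 : act 2 n28117 = n30158 := d12_3 F65626 F59494 D28117
def n30159 : Q := act 1 n26404
theorem D30159 : act 1 n26404 = n30159 := rfl
theorem F65630 : act 3 n30159 = n26656 := d7_2 (iv F54431) D30159 F55198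
theorem F65631 : act 4 n30159 = n26406 := d8_2 (iv F54432) D30159 (iv D26406)
theorem F65632 : act 5 n30159 = n28997 := d9_2 D26404 D30159 (iv F65581) (iv D30142) F54403
theorem F65633 : act 0 n29744 = n30159 := d4_3 F65632 F62294 (iv F64275)
theorem F65634 : act 6 n26655 = n30159 := d20_0 F65632 (iv D28997) (iv F57927) (iv F64276) F64275 (iv F62290) F62289
def n30160 : Q := act 2 n26406
theorem D30160 : act 2 n26406 = n30160 := rfl
theorem F65635 : act 0 n30160 = n29743 := d1_1 D30160 (iv D29743) F54439
theorem F65636 : act 5 n30160 = n28996 := d13_2 (iv F54438) D30160 F62293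
def n30161 : Q := act 2 n26407
theorem D30161 : act 2 n26407 = n30161 := rfl
theorem F65637 : act 0 n30161 = n27566 := d1_1 D30161 (iv D27566) F54442
theorem F65638 : act 1 n30161 = n28117 := d6_1 D30161 F65629 (iv D30158) F54429 D26407
theorem F65639 : act 4 n30161 = n27577 := d12_2 (iv F54441) D30161 (iv D27577)
def n30162 : Q := act 3 n26408
theorem D30162 : act 3 n26408 = n30162 := rfl
theorem F65640 : act 0 n30162 = n27783 := d2_1 D30162 (iv D27783) (iv F54443)
theorem F65641 : act 4 n30162 = n27343 := d15_2 (iv F54444) D30162 F57396 F46156 (iv F44157)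
theorem F65642 : act 5 n30162 = n27342 := d16_2 (iv F54445) D30162 F57395
theorem F65643 : act 6 n30162 = n28611 := d17_2 (iv F54446) D30162 F61062
def n30163 : Q := act 1 n26409
theorem D30163 : act 1 n26409 = n30163 := rfl
theorem F65644 : act 2 n30163 = n28736 := d6_2 D26409 D30163 F61494 F50481 (iv F42442)
theorem F65645 : act 3 n30163 = n30117 := d7_2 (iv F54448) D30163 (iv D30117)
theorem F65646 : act 0 n29012 = n30163 := d2_3 F65645 (iv F65518) F62502
def n30164 : Q := act 4 n26409
theorem D30164 : act 4 n26409 = n30164 := rfl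
theorem F65647 : act 0 n30164 = n28980 := d3_1 D30164 F62253 (iv F54447)
theorem F65648 : act 2 n30164 = n26410 := d12_1 D30164 (iv D26410) D26409
theorem F65649 : act 6 n28978 = n30164 := d5_0 F65647 (iv D28980) D28978
def n30165 : Q := act 5 n26409
theorem D30165 : act 5 n26409 = n30165 := rfl
theorem F65650 : act 0 n30165 = n30125 := d4_1 D30165 (iv D30125) (iv F54447)
theorem F65651 : act 2 n30165 = n26411 := d13_1 D30165 (iv D26411) D26409
theorem F65652 : act 3 n30165 = n30119 := d16_1 D30165 (iv D30119) (iv F54448)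
def n30166 : Q := act 6 n26409
theorem D30166 : act 6 n26409 = n30166 := rfl
theorem F65653 : act 0 n30166 = n28301 := d5_1 D30166 (iv F60436) (iv F54447)
theorem F65654 : act 2 n30166 = n26412 := d14_1 D30166 (iv D26412) D26409
theorem F65655 : act 3 n30166 = n30120 := d17_1 D30166 (iv D30120) (iv F54448)
theorem F65656 : act 4 n30166 = n28978 := d19_1 D30166 F65649 (iv D30164)
def n30167 : Q := act 3 n26410
theorem D30167 : act 3 n26410 = n30167 := rfl
theorem F65657 : act 1 n30167 = n28790 := d7_1 D30167 F61625 (iv F54449)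
theorem F65658 : act 4 n30167 = n26413 := d15_2 D26410 D30167 (iv D26413) (iv D21879) D21878
def n30168 : Q := act 5 n26410
theorem D30168 : act 5 n26410 = n30168 := rfl
theorem F65659 : act 4 n30168 = n26411 := d18_1 D30168 (iv D26411) D26410
theorem F65660 : act 6 n30168 = n27211 := d22_1 D30168 (iv F62252) F65607 F65605
def n30169 : Q := act 6 n26410
theorem D30169 : act 6 n26410 = n30169 := rfl
theorem F65661 : act 0 n30169 = n28979 := d5_1 D30169 F65607 F65605
theorem F65662 : act 2 n30169 = n28978 := d14_1 D30169 F65649 F65648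
theorem F65663 : act 4 n30169 = n26412 := d19_1 D30169 (iv D26412) D26410
def n30170 : Q := act 1 n26411
theorem D30170 : act 1 n26411 = n30170 := rfl
theorem F65664 : act 3 n30170 = n26416 := d7_2 (iv F54450) D30170 (iv D26416)
theorem F65665 : act 5 n30170 = n28661 := d9_2 D26411 D30170 F61203 F50357 (iv F42442)
theorem F65666 : act 0 n28550 = n30170 := d22_4 F65665 F61207 (iv F61179) F61180
theorem F65667 : act 4 n30170 = n29459 := d3_2 (iv F60899) F65666 (iv D29459)
theorem F65668 : act 1 n29459 = n30168 := d8_1 F65667 F65659 D30170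
def n30171 : Q := act 6 n26411
theorem D30171 : act 6 n26411 = n30171 := rfl
theorem F65669 : act 3 n30171 = n26417 := d17_1 D30171 (iv D26417) (iv F54450)
theorem F65670 : act 4 n30171 = n27211 := d19_1 D30171 (iv F65660) F65659
theorem F65671 : act 5 n30171 = n30153 := d22_2 D26411 D30171 (iv D30153) F54422
theorem F65672 : act 1 n26992 = n30171 := d24_14 (iv D30171) (iv D26411) F42442 D24896 D28803 (iv F63078) F63081 F62832 F56422 F50131 (iv F59102) F59100 F56315 D26992
def n30172 : Q := act 5 n26412
theorem D30172 : act 5 n26412 = n30172 := rfl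
theorem F65673 : act 0 n30172 = n30171 := d4_1 D30172 F65671 F65611
theorem F65674 : act 3 n30172 = n26419 := d16_1 D30172 (iv D26419) (iv F54451)
theorem F65675 : act 6 n30172 = n30152 := d20_2 D26412 D30172 (iv D30152) D30153 (iv F65671) (iv D30171) (iv D26411)
def n30173 : Q := act 5 n26413
theorem D30173 : act 5 n26413 = n30173 := rfl
theorem F65676 : act 3 n30173 = n26414 := d16_1 D30173 (iv D26414) D26413
def n30174 : Q := act 1 n26414
theorem D30174 : act 1 n26414 = n30174 := rfl
theorem F65677 : act 2 n30174 = n28034 := d6_2 (iv F54453) D30174 (iv D28034) F48610 (iv F42447)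
theorem F65678 : act 4 n30174 = n26416 := d8_2 (iv F54454) D30174 (iv D26416)
theorem F65679 : act 5 n30174 = n28656 := d9_2 D26414 D30174 F61193 F50349 (iv F42443)
def n30175 : Q := act 6 n26414
theorem D30175 : act 6 n26414 = n30175 := rfl
theorem F65680 : act 2 n30175 = n26420 := d14_1 D30175 (iv D26420) (iv F54453)
theorem F65681 : act 4 n30175 = n26417 := d19_1 D30175 (iv D26417) (iv F54454)
theorem F65682 : act 5 n30175 = n30156 := d22_2 D26414 D30175 (iv D30156) F54424
theorem F65683 : act 1 n29513 = n30175 := d9_5 F65682 (iv F65623) (iv F63537) F63535 D29513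
theorem F65684 : act 3 n30175 = n29514 := d7_2 (iv F63545) F65683 (iv D29514)
theorem F65685 : act 6 n29514 = n30173 := d17_2 D30175 F65684 F65676
def n30176 : Q := act 5 n26415
theorem D30176 : act 5 n26415 = n30176 := rfl
theorem F65686 : act 0 n30176 = n30175 := d4_1 D30176 F65682 F65620
theorem F65687 : act 2 n30176 = n26421 := d13_1 D30176 (iv D26421) (iv F54455)
theorem F65688 : act 4 n30176 = n26419 := d18_1 D30176 (iv D26419) (iv F54456)
theorem F65689 : act 6 n30176 = n30155 := d20_2 D26415 D30176 (iv D30155) D30156 (iv F65682) (iv D30175) (iv D26414)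
def n30177 : Q := act 6 n26416
theorem D30177 : act 6 n26416 = n30177 := rfl
theorem F65690 : act 2 n30177 = n28037 := d14_1 D30177 (iv D28037) (iv F54457)
def n30178 : Q := act 1 n26417
theorem D30178 : act 1 n26417 = n30178 := rfl
theorem F65691 : act 3 n30178 = n26992 := d7_2 F65669 D30178 F65672
theorem F65692 : act 4 n30178 = n29513 := d8_2 F65681 D30178 F65683
theorem F65693 : act 5 n30178 = n26991 := d9_2 (iv F54460) D30178 (iv F60229) F65628 (iv D30158)
theorem F65694 : act 0 n29516 = n30178 := d4_3 F65693 F56330 D29516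
def n30179 : Q := act 1 n26419
theorem D30179 : act 1 n26419 = n30179 := rfl
def n30180 : Q := act 1 n26420
theorem D30180 : act 1 n26420 = n30180 := rfl
theorem F65695 : act 3 n30180 = n26879 := d7_2 (iv F54466) D30180 (iv D26879)
theorem F65696 : act 4 n30180 = n26422 := d8_2 (iv F54467) D30180 (iv D26422)
theorem F65697 : act 6 n30180 = n28039 := d10_2 D26420 D30180 (iv D28039) (iv D24104) (iv F42447)
theorem F65698 : act 0 n27426 = n30180 := d2_3 F65695 (iv F55924) D27426
def n30181 : Q := act 1 n26421
theorem D30181 : act 1 n26421 = n30181 := rfl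
theorem F65699 : act 3 n30181 = n26880 := d7_2 (iv F54470) D30181 (iv D26880)
theorem F65700 : act 4 n30181 = n26423 := d8_2 (iv F54471) D30181 (iv D26423)
def n30182 : Q := act 0 n26422
theorem D30182 : act 0 n26422 = n30182 := rfl
theorem F65701 : act 1 n30182 = n27431 := d0_2 D26422 D30182 (iv F63742) F63743 F53027 D28477 (iv F60696) (iv D26423) F42454
theorem F65702 : act 3 n30182 = n26424 := d2_2 (iv F54473) D30182 (iv D26424)
theorem F65703 : act 4 n30182 = n27426 := d3_2 F65696 D30182 F65698
theorem F65704 : act 6 n30182 = n27969 := d5_2 (iv F54474) D30182 F61364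
theorem F65705 : act 2 n27970 = n30182 := d14_3 F65704 (iv D27969) D27970
def n30183 : Q := act 2 n26422
theorem D30183 : act 2 n26422 = n30183 := rfl
theorem F65706 : act 0 n30183 = n27970 := d1_1 D30183 F65705 (iv D30182)
theorem F65707 : act 6 n30183 = n27968 := d14_2 (iv F54474) D30183 F61363
theorem F65708 : act 3 n27972 = n30183 := d17_3 F65707 F59168 D27972
theorem F65709 : act 5 n30091 = n30183 := d22_2 (iv F54297) D30091 F65707 (iv D27968)
def n30184 : Q := act 5 n26422
theorem D30184 : act 5 n26422 = n30184 := rfl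
theorem F65710 : act 1 n30184 = n29827 := d9_1 D30184 F64551 (iv D26407) (iv F42453) D26422
theorem F65711 : act 2 n30184 = n30091 := d13_1 D30184 F65709 (iv D30183)
theorem F65712 : act 3 n30184 = n26426 := d16_1 D30184 (iv D26426) (iv F54473)
theorem F65713 : act 6 n30184 = n30090 := d22_1 D30184 F65426 (iv F65704) (iv D30182)
def n30185 : Q := act 6 n26423
theorem D30185 : act 6 n26423 = n30185 := rfl
theorem F65714 : act 1 n30185 = n28452 := d10_1 D30185 F60606 (iv D26406) (iv F42456) D26423
theorem F65715 : act 3 n30185 = n26428 := d17_1 D30185 (iv D26428) (iv F54475)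
def n30186 : Q := act 2 n26424
theorem D30186 : act 2 n26424 = n30186 := rfl
theorem F65716 : act 0 n30186 = n26425 := d1_1 D30186 (iv D26425) D26424
theorem F65717 : act 1 n30186 = n30094 := d6_1 D30186 F65437 F54311 (iv F52998) (iv F54476)
theorem F65718 : act 4 n30186 = n26881 := d12_2 (iv F54477) D30186 (iv D26881)
theorem F65719 : act 5 n30186 = n29234 := d13_2 F59398 D30186 (iv F62824)
theorem F65720 : act 6 n30186 = n28043 := d14_2 (iv F54478) D30186 (iv D28043)
def n30187 : Q := act 3 n26425
theorem D30187 : act 3 n26425 = n30187 := rfl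
theorem F65721 : act 1 n30187 = n29258 := d7_1 D30187 F62892 (iv F54479)
theorem F65722 : act 6 n30187 = n28045 := d17_2 (iv F54481) D30187 (iv D28045)
def n30188 : Q := act 5 n26425
theorem D30188 : act 5 n26425 = n30188 := rfl
theorem F65723 : act 0 n30188 = n29234 := d4_1 D30188 (iv F65719) F65716
theorem F65724 : act 1 n30188 = n30092 := d9_1 D30188 F65432 F59172 F55749 (iv F54479)
theorem F65725 : act 2 n30188 = n26426 := d13_1 D30188 (iv D26426) D26425
theorem F65726 : act 4 n30188 = n26882 := d18_1 D30188 (iv D26882) (iv F54480)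
def n30189 : Q := act 5 n26429
theorem D30189 : act 5 n26429 = n30189 := rfl
theorem F65727 : act 3 n30189 = n28891 := d16_1 D30189 (iv D28891) (iv F54492)
theorem F65728 : act 4 n30189 = n26430 := d18_1 D30189 (iv D26430) D26429
def n30190 : Q := act 6 n26429
theorem D30190 : act 6 n26429 = n30190 := rfl
theorem F65729 : act 1 n30190 = n27128 := d10_1 D30190 (iv D27128) F54501 (iv D26433) (iv F54491)
theorem F65730 : act 3 n30190 = n27132 := d17_1 D30190 F56781 (iv F54492)
theorem F65731 : act 4 n30190 = n26431 := d19_1 D30190 (iv D26431) D26429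
def n30191 : Q := act 1 n26430
theorem D30191 : act 1 n26430 = n30191 := rfl
theorem F65732 : act 0 n30191 = n28028 := d0_1 D30191 F59351 F50292 (iv D24752) F38579 D21638 D26062 (iv F57677) F57676
theorem F65733 : act 2 n30191 = n30104 := d6_2 F57675 D30191 (iv F65487) F65488 (iv F57673)
theorem F65734 : act 3 n30191 = n28026 := d7_2 (iv F54493) D30191 F59342
theorem F65735 : act 5 n30191 = n26434 := d9_2 D26430 D30191 (iv D26434) (iv D21890) D21888
def n30192 : Q := act 6 n26430
theorem D30192 : act 6 n26430 = n30192 := rfl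
theorem F65736 : act 2 n30192 = n27592 := d14_1 D30192 F58022 F57675
theorem F65737 : act 3 n30192 = n28781 := d17_1 D30192 (iv D28781) (iv F54493)
theorem F65738 : act 5 n30192 = n27589 := d22_2 D26430 D30192 (iv D27589) F48669
def n30193 : Q := act 5 n26431
theorem D30193 : act 5 n26431 = n30193 := rfl
theorem F65739 : act 0 n30193 = n30192 := d4_1 D30193 F65738 F58014
theorem F65740 : act 2 n30193 = n27450 := d13_1 D30193 (iv F58002) F58000
theorem F65741 : act 3 n30193 = n28782 := d16_1 D30193 (iv D28782) (iv F54494)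
theorem F65742 : act 6 n30193 = n27449 := d20_2 D26431 D30193 F57679 D27589 (iv F65738) (iv D30192) (iv D26430)
def n30194 : Q := act 1 n26432
theorem D30194 : act 1 n26432 = n30194 := rfl
theorem F65743 : act 2 n30194 = n30100 := d6_2 F65127 D30194 (iv D30100) (iv F64431) (iv F65126)
theorem F65744 : act 3 n30194 = n27425 := d7_2 (iv F54496) D30194 F57616
theorem F65745 : act 4 n30194 = n26434 := d8_2 (iv F54497) D30194 (iv D26434)
theorem F65746 : act 0 n30194 = n27423 := d23_3 D29987 F65127 D30194 F59141 (iv D27332) (iv D23213) F33701 D18833 (iv F41567) D25823 (iv F53289) (iv D25933) D25931 F61764 F42088 F28436 (iv F28496) (iv F42204) (iv F54104)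
theorem F65747 : act 6 n27421 = n30194 := d5_0 F65746 (iv D27423) D27421
def n30195 : Q := act 0 n26434
theorem D30195 : act 0 n26434 = n30195 := rfl
theorem F65748 : act 2 n30195 = n30103 := d1_2 (iv F55311) D30195 (iv D30103)
theorem F65749 : act 3 n30195 = n27741 := d2_2 (iv F54502) D30195 F58407
theorem F65750 : act 4 n30195 = n27423 := d3_2 F65745 D30195 (iv F65746)
theorem F65751 : act 5 n30195 = n28028 := d4_2 F65735 D30195 (iv F65732)
theorem F65752 : act 6 n27420 = n30195 := d24_0 F65751 F59351 D28031 F59372 F50315 (iv D24634) (iv F48352) (iv D24003) (iv F37278) (iv D19770) (iv F37267) F37269 D23287 D27420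
def n30196 : Q := act 6 n26434
theorem D30196 : act 6 n26434 = n30196 := rfl
theorem F65753 : act 0 n30196 = n27420 := d5_1 D30196 F65752 (iv D30195)
theorem F65754 : act 2 n30196 = n30098 := d14_1 D30196 F65449 (iv F55311)
theorem F65755 : act 3 n30196 = n27739 := d17_1 D30196 (iv F58403) (iv F54502)
theorem F65756 : act 4 n30196 = n27421 := d19_1 D30196 F65747 F65745
theorem F65757 : act 5 n30196 = n29932 := d22_2 F65735 D30196 F64928 (iv F65732)
def n30197 : Q := act 2 n26435
theorem D30197 : act 2 n26435 = n30197 := rfl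
theorem F65758 : act 0 n30197 = n27126 := d1_1 D30197 (iv D27126) (iv F54503)
theorem F65759 : act 1 n30197 = n28099 := d6_1 D30197 F65132 (iv D29988) F54109 D26435
theorem F65760 : act 4 n30197 = n27127 := d12_2 (iv F54505) D30197 (iv D27127)
theorem F65761 : act 3 n28100 = n30197 := d15_5 F65760 F56767 F48726 (iv F49388) (iv F59564)
def n30198 : Q := act 5 n26435
theorem D30198 : act 5 n26435 = n30198 := rfl
theorem F65762 : act 0 n30198 = n27098 := d4_1 D30198 F56686 (iv F54503)
theorem F65763 : act 3 n30198 = n27152 := d16_1 D30198 F56854 (iv F54504)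
theorem F65764 : act 4 n30198 = n27099 := d18_1 D30198 F56688 (iv F54505)
theorem F65765 : act 6 n30198 = n28499 := d20_2 F64032 D30198 (iv F60746) F53221 (iv F56686) (iv F63832) (iv F64031)
def n30199 : Q := act 1 n26436
theorem D30199 : act 1 n26436 = n30199 := rfl
theorem F65766 : act 3 n30199 = n28286 := d7_2 (iv F54506) D30199 F60174
theorem F65767 : act 4 n30199 = n26438 := d8_2 (iv F54507) D30199 (iv D26438)
theorem F65768 : act 6 n30199 = n28773 := d10_2 D26436 D30199 (iv D28773) (iv D24874) (iv F42467)
def n30200 : Q := act 1 n26437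
theorem D30200 : act 1 n26437 = n30200 := rfl
theorem F65769 : act 2 n30200 = n26665 := d6_2 F65159 D30200 F55228 D26670 F65163
theorem F65770 : act 3 n30200 = n27473 := d7_2 (iv F54510) D30200 (iv D27473)
theorem F65771 : act 4 n30200 = n26439 := d8_2 (iv F54511) D30200 (iv D26439)
theorem F65772 : act 5 n30200 = n30181 := d9_2 D26437 D30200 (iv D30181) (iv D26421) (iv F42470)
theorem F65773 : act 0 n29031 = n30200 := d2_3 F65770 F62396 F62393
def n30201 : Q := act 0 n26438
theorem D30201 : act 0 n26438 = n30201 := rfl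
theorem F65774 : act 3 n30201 = n28284 := d2_2 (iv F54513) D30201 F60163
theorem F65775 : act 6 n30201 = n28775 := d5_2 (iv F54514) D30201 (iv D28775)
theorem F65776 : act 2 n30201 = n29017 := d21_0 F62340 F52041 F46035 (iv F36104) (iv F38011) (iv F49560) (iv F54513) D30201
theorem F65777 : act 1 n29913 = n30201 := d6_5 F65776 (iv D29017) (iv F52080) D29041 (iv F64871)
def n30202 : Q := act 2 n26438
theorem D30202 : act 2 n26438 = n30202 := rfl
theorem F65778 : act 0 n30202 = n29017 := d1_1 D30202 (iv F65776) (iv D30201)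
theorem F65779 : act 3 n30202 = n29018 := d11_2 (iv F54513) D30202 F62342 F57211 (iv F47439) (iv F49548) (iv F60165) (iv F65774) F65776 F62340 F52041 F46035 (iv F36104) (iv F38011) (iv F49560)
theorem F65780 : act 6 n30202 = n28776 := d14_2 (iv F54514) D30202 (iv D28776)
def n30203 : Q := act 5 n26438
theorem D30203 : act 5 n26438 = n30203 := rfl
theorem F65781 : act 1 n30203 = n30198 := d9_1 D30203 (iv D30198) (iv D26435) (iv F42474) D26438
theorem F65782 : act 3 n30203 = n28287 := d16_1 D30203 (iv D28287) (iv F54513)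
def n30204 : Q := act 0 n26439
theorem D30204 : act 0 n26439 = n30204 := rfl
theorem F65783 : act 1 n30204 = n28471 := d0_2 D26439 D30204 (iv F60716) (iv F64545) (iv F64870) F65777 (iv D30201) (iv D26438) (iv F42475)
theorem F65784 : act 2 n30204 = n26798 := d1_2 F55313 D30204 F55674
theorem F65785 : act 3 n30204 = n28472 := d2_2 (iv F54515) D30204 F60680
theorem F65786 : act 4 n30204 = n29031 := d3_2 F65771 D30204 F65773
theorem F65787 : act 5 n30204 = n28477 := d4_2 (iv F54516) D30204 (iv F60696)
def n30205 : Q := act 6 n26439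
theorem D30205 : act 6 n26439 = n30205 := rfl
theorem F65788 : act 1 n30205 = n30196 := d10_1 D30205 (iv D30196) (iv D26434) (iv F42477) D26439
theorem F65789 : act 2 n30205 = n26802 := d14_1 D30205 (iv D26802) F55313
theorem F65790 : act 3 n30205 = n28784 := d17_1 D30205 (iv D28784) (iv F54515)
def n30206 : Q := act 5 n26440
theorem D30206 : act 5 n26440 = n30206 := rfl
theorem F65791 : act 0 n30206 = n27469 := d4_1 D30206 F57728 F54519
theorem F65792 : act 1 n30206 = n27389 := d9_1 D30206 (iv F57519) (iv D26455) F42487 D26440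
theorem F65793 : act 2 n30206 = n26443 := d13_1 D30206 (iv D26443) (iv F54517)
theorem F65794 : act 3 n30206 = n27390 := d16_1 D30206 F57524 F54804
theorem F65795 : act 4 n30206 = n29260 := d18_1 D30206 (iv D29260) (iv F54518)
theorem F65796 : act 6 n30206 = n27470 := d20_2 F57732 D30206 F62913 (iv D29264) (iv F57728) F57729 D27472
def n30207 : Q := act 1 n26442
theorem D30207 : act 1 n26442 = n30207 := rfl
theorem F65797 : act 0 n30207 = n27539 := d0_1 D30207 (iv F58164) F58166 (iv D26445) (iv D21898) (iv D16518) (iv F28649) D21897 D26442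
theorem F65798 : act 2 n30207 = n27579 := d6_2 (iv F54521) D30207 F57989 F52501 (iv F52492)
theorem F65799 : act 3 n30207 = n27533 := d7_2 (iv F54522) D30207 F58169
theorem F65800 : act 4 n30207 = n29261 := d8_2 (iv F54523) D30207 (iv D29261)
def n30208 : Q := act 5 n26442
theorem D30208 : act 5 n26442 = n30208 := rfl
theorem F65801 : act 0 n30208 = n26443 := d4_1 D30208 (iv D26443) D26442
theorem F65802 : act 2 n30208 = n27469 := d13_1 D30208 F57728 (iv F54521)
theorem F65803 : act 3 n30208 = n30038 := d16_1 D30208 (iv D30038) (iv F54522)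
theorem F65804 : act 4 n30208 = n29262 := d18_1 D30208 (iv D29262) (iv F54523)
theorem F65805 : act 6 n30208 = n27471 := d22_1 D30208 F57734 (iv D26444) D26442
theorem F65806 : act 1 n28148 = n30208 := d10_5 F65805 (iv F61373) (iv F57521) F54553 D28148
def n30209 : Q := act 6 n26442
theorem D30209 : act 6 n26442 = n30209 := rfl
theorem F65807 : act 0 n30209 = n26444 := d5_1 D30209 (iv D26444) D26442
theorem F65808 : act 2 n30209 = n29264 := d14_1 D30209 (iv D29264) (iv F54521)
theorem F65809 : act 3 n30209 = n30039 := d17_1 D30209 (iv D30039) (iv F54522)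
theorem F65810 : act 4 n30209 = n29263 := d19_1 D30209 (iv D29263) (iv F54523)
def n30210 : Q := act 6 n26443
theorem D30210 : act 6 n26443 = n30210 := rfl
theorem F65811 : act 0 n30210 = n27471 := d5_1 D30210 (iv F65805) F65801
theorem F65812 : act 2 n30210 = n27470 := d14_1 D30210 (iv F65796) F65793
theorem F65813 : act 3 n30210 = n30042 := d17_1 D30210 (iv D30042) (iv F54525)
theorem F65814 : act 5 n30210 = n30209 := d20_1 D30210 (iv D30209) D30208 F65805 F57734 (iv D26444) D26443
def n30211 : Q := act 5 n26445
theorem D30211 : act 5 n26445 = n30211 := rfl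
def n30212 : Q := act 6 n26445
theorem D30212 : act 6 n26445 = n30212 := rfl
theorem F65815 : act 3 n30212 = n27702 := d17_1 D30212 (iv F61424) F58167
theorem F65816 : act 5 n27700 = n30212 := d16_0 F65815 (iv D27702) D27700
theorem F65817 : act 6 n30211 = n26460 := d22_3 F65816 (iv D30212) D30211 (iv F58266)
def n30213 : Q := act 5 n26446
theorem D30213 : act 5 n26446 = n30213 := rfl
theorem F65818 : act 0 n30213 = n26451 := d4_1 D30213 (iv D26451) (iv F54528)
theorem F65819 : act 2 n30213 = n29103 := d13_1 D30213 (iv D29103) (iv F54529)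
theorem F65820 : act 3 n30213 = n26447 := d16_1 D30213 (iv D26447) D26446
def n30214 : Q := act 6 n26446
theorem D30214 : act 6 n26446 = n30214 := rfl
theorem F65821 : act 0 n30214 = n26452 := d5_1 D30214 (iv D26452) (iv F54528)
theorem F65822 : act 2 n30214 = n29104 := d14_1 D30214 (iv D29104) (iv F54529)
theorem F65823 : act 3 n30214 = n26448 := d17_1 D30214 (iv D26448) D26446
def n30215 : Q := act 1 n26447
theorem D30215 : act 1 n26447 = n30215 := rfl
def n30216 : Q := act 1 n26448
theorem D30216 : act 1 n26448 = n30216 := rfl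
def n30217 : Q := act 4 n26449
theorem D30217 : act 4 n26449 = n30217 := rfl
theorem F65824 : act 0 n30217 = n29102 := d3_1 D30217 (iv D29102) (iv F54532)
theorem F65825 : act 1 n30217 = n30020 := d8_1 D30217 (iv D30020) (iv F54533)
theorem F65826 : act 2 n30217 = n26450 := d12_1 D30217 (iv D26450) D26449
def n30218 : Q := act 5 n26449
theorem D30218 : act 5 n26449 = n30218 := rfl
theorem F65827 : act 0 n30218 = n29103 := d4_1 D30218 (iv D29103) (iv F54532)
theorem F65828 : act 1 n30218 = n28326 := d9_1 D30218 (iv D28326) D28325 F60298 (iv F54533)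
theorem F65829 : act 2 n30218 = n26451 := d13_1 D30218 (iv D26451) D26449
theorem F65830 : act 3 n30218 = n28329 := d16_1 D30218 (iv F60295) (iv F54534)
def n30219 : Q := act 6 n26449
theorem D30219 : act 6 n26449 = n30219 := rfl
theorem F65831 : act 0 n30219 = n29104 := d5_1 D30219 (iv D29104) (iv F54532)
theorem F65832 : act 1 n30219 = n28706 := d10_1 D30219 (iv F61730) F65232 (iv D30021) (iv F54533)
theorem F65833 : act 2 n30219 = n26452 := d14_1 D30219 (iv D26452) D26449
theorem F65834 : act 3 n30219 = n29101 := d17_1 D30219 (iv D29101) (iv F54534)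
def n30220 : Q := act 5 n26450
theorem D30220 : act 5 n26450 = n30220 := rfl
theorem F65835 : act 1 n30220 = n30040 := d9_1 D30220 (iv D30040) F54223 (iv F42484) (iv F54535)
theorem F65836 : act 4 n30220 = n26451 := d18_1 D30220 (iv D26451) D26450
def n30221 : Q := act 6 n26450
theorem D30221 : act 6 n26450 = n30221 := rfl
theorem F65837 : act 1 n30221 = n28140 := d10_1 D30221 (iv D28140) F48769 (iv F42485) (iv F54535)
theorem F65838 : act 4 n30221 = n26452 := d19_1 D30221 (iv D26452) D26450
def n30222 : Q := act 6 n26451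
theorem D30222 : act 6 n26451 = n30222 := rfl
theorem F65839 : act 3 n30222 = n26453 := d17_1 D30222 (iv D26453) (iv F54537)
theorem F65840 : act 5 n30222 = n30214 := d22_2 D26451 D30222 (iv D30214) F54528
def n30223 : Q := act 5 n26452
theorem D30223 : act 5 n26452 = n30223 := rfl
theorem F65841 : act 0 n30223 = n30222 := d4_1 D30223 F65840 F65821
theorem F65842 : act 1 n30223 = n29254 := d9_1 D30223 F62887 F58273 F61389 (iv F54538)
theorem F65843 : act 3 n30223 = n26454 := d16_1 D30223 (iv D26454) (iv F54539)
theorem F65844 : act 6 n30223 = n30213 := d20_2 D26452 D30223 (iv D30213) D30214 (iv F65840) (iv D30222) (iv D26451)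
def n30224 : Q := act 1 n26453
theorem D30224 : act 1 n26453 = n30224 := rfl
def n30225 : Q := act 6 n26455
theorem D30225 : act 6 n26455 = n30225 := rfl
theorem F65845 : act 0 n30225 = n27385 := d5_1 D30225 F57513 F54545
theorem F65846 : act 1 n30225 = n27472 := d10_1 D30225 F57732 (iv D26440) (iv F42488) D26455
theorem F65847 : act 2 n30225 = n26459 := d14_1 D30225 (iv D26459) (iv F54543)
theorem F65848 : act 3 n30225 = n27384 := d17_1 D30225 F57510 F54708
theorem F65849 : act 4 n30225 = n29205 := d19_1 D30225 (iv D29205) (iv F54544)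
theorem F65850 : act 5 n30225 = n27387 := d20_1 D30225 (iv F62760) (iv D29209) (iv F57513) F57512 D27389 (iv F57519)
def n30226 : Q := act 1 n26457
theorem D30226 : act 1 n26457 = n30226 := rfl
theorem F65851 : act 0 n30226 = n27615 := d0_1 D30226 (iv F58264) F58266 (iv D26460) (iv D21905) (iv D16524) (iv F28667) D21904 D26457
theorem F65852 : act 2 n30226 = n27503 := d6_2 (iv F54550) D30226 F57813 F52368 (iv F52359)
theorem F65853 : act 3 n30226 = n27609 := d7_2 (iv F54551) D30226 F58269
theorem F65854 : act 4 n30226 = n29206 := d8_2 (iv F54552) D30226 (iv D29206)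
def n30227 : Q := act 5 n26457
theorem D30227 : act 5 n26457 = n30227 := rfl
theorem F65855 : act 0 n30227 = n26458 := d4_1 D30227 (iv D26458) D26457
theorem F65856 : act 2 n30227 = n29209 := d13_1 D30227 (iv D29209) (iv F54550)
theorem F65857 : act 3 n30227 = n30132 := d16_1 D30227 (iv D30132) (iv F54551)
theorem F65858 : act 4 n30227 = n29207 := d18_1 D30227 (iv D29207) (iv F54552)
def n30228 : Q := act 6 n26457
theorem D30228 : act 6 n26457 = n30228 := rfl
theorem F65859 : act 0 n30228 = n26459 := d5_1 D30228 (iv D26459) D26457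
theorem F65860 : act 2 n30228 = n27385 := d14_1 D30228 F57513 (iv F54550)
theorem F65861 : act 3 n30228 = n30133 := d17_1 D30228 (iv D30133) (iv F54551)
theorem F65862 : act 4 n30228 = n29208 := d19_1 D30228 (iv D29208) (iv F54552)
theorem F65863 : act 5 n30228 = n27388 := d22_2 (iv D30227) D30228 (iv F57521) (iv F65855)
theorem F65864 : act 1 n28128 = n30228 := d9_5 F65863 F61373 F57734 F54526 D28128
def n30229 : Q := act 5 n26459
theorem D30229 : act 5 n26459 = n30229 := rfl
theorem F65865 : act 0 n30229 = n27388 := d4_1 D30229 (iv F65863) F65859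
theorem F65866 : act 2 n30229 = n27387 := d13_1 D30229 (iv F65850) F65847
theorem F65867 : act 3 n30229 = n30137 := d16_1 D30229 (iv D30137) (iv F54556)
theorem F65868 : act 6 n30229 = n30227 := d20_2 D26459 D30229 (iv D30227) D30228 F65863 (iv F57521) (iv D26458)
def n30230 : Q := act 5 n26460
theorem D30230 : act 5 n26460 = n30230 := rfl
theorem F65869 : act 0 n30230 = n30212 := d4_1 D30230 (iv F65816) F58266
theorem F65870 : act 2 n30230 = n30212 := d13_1 D30230 (iv F65816) F58265
theorem F65871 : act 3 n30230 = n27663 := d16_1 D30230 F61416 F58267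
theorem F65872 : act 6 n30230 = n27660 := d22_3 D30211 F65817 D30230 F58166
def n30231 : Q := act 5 n26461
theorem D30231 : act 5 n26461 = n30231 := rfl
theorem F65873 : act 0 n30231 = n26466 := d4_1 D30231 (iv D26466) (iv F54557)
theorem F65874 : act 2 n30231 = n29154 := d13_1 D30231 (iv D29154) (iv F54558)
theorem F65875 : act 3 n30231 = n26462 := d16_1 D30231 (iv D26462) D26461
def n30232 : Q := act 6 n26461
theorem D30232 : act 6 n26461 = n30232 := rfl
theorem F65876 : act 0 n30232 = n26467 := d5_1 D30232 (iv D26467) (iv F54557)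
theorem F65877 : act 2 n30232 = n29155 := d14_1 D30232 (iv D29155) (iv F54558)
theorem F65878 : act 3 n30232 = n26463 := d17_1 D30232 (iv D26463) D26461
def n30233 : Q := act 1 n26462
theorem D30233 : act 1 n26462 = n30233 := rfl
def n30234 : Q := act 1 n26463
theorem D30234 : act 1 n26463 = n30234 := rfl
def n30235 : Q := act 4 n26464
theorem D30235 : act 4 n26464 = n30235 := rfl
theorem F65879 : act 0 n30235 = n29153 := d3_1 D30235 (iv D29153) (iv F54561)
theorem F65880 : act 1 n30235 = n30114 := d8_1 D30235 (iv D30114) (iv F54562)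
theorem F65881 : act 2 n30235 = n26465 := d12_1 D30235 (iv D26465) D26464
def n30236 : Q := act 5 n26464
theorem D30236 : act 5 n26464 = n30236 := rfl
theorem F65882 : act 0 n30236 = n29154 := d4_1 D30236 (iv D29154) (iv F54561)
theorem F65883 : act 1 n30236 = n28769 := d9_1 D30236 (iv F61839) F65512 (iv D30115) (iv F54562)
theorem F65884 : act 2 n30236 = n26466 := d13_1 D30236 (iv D26466) D26464
theorem F65885 : act 3 n30236 = n29152 := d16_1 D30236 (iv D29152) (iv F54563)
def n30237 : Q := act 6 n26464
theorem D30237 : act 6 n26464 = n30237 := rfl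
theorem F65886 : act 0 n30237 = n29155 := d5_1 D30237 (iv D29155) (iv F54561)
theorem F65887 : act 1 n30237 = n28334 := d10_1 D30237 (iv D28334) D28333 (iv F60432) (iv F54562)
theorem F65888 : act 2 n30237 = n26467 := d14_1 D30237 (iv D26467) D26464
theorem F65889 : act 3 n30237 = n28337 := d17_1 D30237 F60437 (iv F54563)
def n30238 : Q := act 5 n26465
theorem D30238 : act 5 n26465 = n30238 := rfl
theorem F65890 : act 1 n30238 = n28160 := d9_1 D30238 (iv D28160) F48800 (iv F42494) (iv F54564)
theorem F65891 : act 4 n30238 = n26466 := d18_1 D30238 (iv D26466) D26465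
def n30239 : Q := act 6 n26465
theorem D30239 : act 6 n26465 = n30239 := rfl
theorem F65892 : act 1 n30239 = n30135 := d10_1 D30239 (iv D30135) F54399 (iv F42495) (iv F54564)
theorem F65893 : act 4 n30239 = n26467 := d19_1 D30239 (iv D26467) D26465
def n30240 : Q := act 6 n26466
theorem D30240 : act 6 n26466 = n30240 := rfl
theorem F65894 : act 1 n30240 = n29199 := d10_1 D30240 F62734 F58173 (iv F61383) (iv F54565)
theorem F65895 : act 3 n30240 = n26468 := d17_1 D30240 (iv D26468) (iv F54566)
theorem F65896 : act 5 n30240 = n30232 := d22_2 D26466 D30240 (iv D30232) F54557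
def n30241 : Q := act 5 n26467
theorem D30241 : act 5 n26467 = n30241 := rfl
theorem F65897 : act 0 n30241 = n30240 := d4_1 D30241 F65896 F65876
theorem F65898 : act 3 n30241 = n26469 := d16_1 D30241 (iv D26469) (iv F54568)
theorem F65899 : act 6 n30241 = n30231 := d20_2 D26467 D30241 (iv D30231) D30232 (iv F65896) (iv D30240) (iv D26466)
def n30242 : Q := act 1 n26469
theorem D30242 : act 1 n26469 = n30242 := rfl
def n30243 : Q := act 5 n26470
theorem D30243 : act 5 n26470 = n30243 := rfl
theorem F65900 : act 0 n30243 = n26471 := d4_1 D30243 (iv D26471) D26470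
theorem F65901 : act 2 n30243 = n26483 := d13_1 D30243 (iv D26483) (iv F54572)
theorem F65902 : act 3 n30243 = n28922 := d16_1 D30243 (iv D28922) (iv F54573)
theorem F65903 : act 4 n30243 = n26486 := d18_1 D30243 (iv D26486) (iv F54574)
theorem F65904 : act 6 n30243 = n26471 := d22_1 D30243 (iv D26471) F42531 D26470
def n30244 : Q := act 6 n26472
theorem D30244 : act 6 n26472 = n30244 := rfl
theorem F65905 : act 0 n30244 = n26473 := d5_1 D30244 (iv D26473) D26472
theorem F65906 : act 1 n30244 = n30243 := d10_1 D30244 F65904 F54577 (iv F51647) (iv F54581)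
theorem F65907 : act 2 n30244 = n26488 := d14_1 D30244 (iv D26488) (iv F54582)
theorem F65908 : act 3 n30244 = n28933 := d17_1 D30244 (iv D28933) (iv F54583)
theorem F65909 : act 4 n30244 = n26491 := d19_1 D30244 (iv D26491) (iv F54584)
theorem F65910 : act 5 n30244 = n26473 := d22_2 F54585 D30244 (iv D26473) D26472
def n30245 : Q := act 5 n26485
theorem D30245 : act 5 n26485 = n30245 := rfl
theorem F65911 : act 0 n30245 = n26494 := d4_1 D30245 (iv D26494) (iv F54631)
theorem F65912 : act 2 n30245 = n26581 := d13_1 D30245 (iv F54958) F54669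
theorem F65913 : act 3 n30245 = n26486 := d16_1 D30245 (iv D26486) D26485
theorem F65914 : act 4 n30245 = n26584 := d18_1 D30245 F54970 (iv F54633)
theorem F65915 : act 6 n30245 = n26494 := d22_1 D30245 (iv D26494) F42674 (iv F54631)
def n30246 : Q := act 6 n26490
theorem D30246 : act 6 n26490 = n30246 := rfl
theorem F65916 : act 0 n30246 = n26524 := d5_1 D30246 (iv D26524) (iv F54647)
theorem F65917 : act 1 n30246 = n30245 := d10_1 D30246 F65915 F54664 (iv F47306) (iv F54648)
theorem F65918 : act 2 n30246 = n26735 := d14_1 D30246 (iv F55463) F54758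
theorem F65919 : act 3 n30246 = n26491 := d17_1 D30246 (iv D26491) D26490
theorem F65920 : act 4 n30246 = n26738 := d19_1 D30246 F55478 (iv F54649)
theorem F65921 : act 5 n30246 = n26524 := d22_2 F54650 D30246 (iv D26524) (iv F54647)
def n30247 : Q := act 5 n26493
theorem D30247 : act 5 n26493 = n30247 := rfl
theorem F65922 : act 0 n30247 = n26581 := d4_1 D30247 (iv F54958) F54667
theorem F65923 : act 1 n30247 = n26600 := d9_1 D30247 (iv F55028) (iv D26578) F42960 (iv F54660)
theorem F65924 : act 2 n30247 = n26494 := d13_1 D30247 (iv D26494) D26493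
theorem F65925 : act 3 n30247 = n26546 := d16_1 D30247 (iv D26546) (iv F54663)
theorem F65926 : act 4 n30247 = n26575 := d18_1 D30247 (iv D26575) (iv F54661)
theorem F65927 : act 6 n30247 = n26581 := d22_1 D30247 (iv F54958) F54670 F54667
def n30248 : Q := act 1 n26498
theorem D30248 : act 1 n26498 = n30248 := rfl
theorem F65928 : act 2 n30248 = n27382 := d6_2 (iv F54680) D30248 F57500 (iv D25856) D25855
theorem F65929 : act 4 n30248 = n26499 := d8_2 (iv F54681) D30248 (iv D26499)
theorem F65930 : act 5 n30248 = n26502 := d9_2 D26498 D30248 (iv D26502) (iv D21978) (iv F42679)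
theorem F65931 : act 0 n27383 = n30248 := d3_3 F65929 F54685 (iv F57504)
theorem F65932 : act 6 n26854 = n30248 := d19_0 F65929 F54686 D26854
def n30249 : Q := act 5 n26500
theorem D30249 : act 5 n26500 = n30249 := rfl
theorem F65933 : act 2 n30249 = n26873 := d13_1 D30249 (iv D26873) (iv F54688)
theorem F65934 : act 4 n30249 = n26501 := d18_1 D30249 (iv D26501) D26500
theorem F65935 : act 6 n30249 = n26502 := d22_1 D30249 (iv F65930) (iv F65932) F55848
def n30250 : Q := act 0 n26502
theorem D30250 : act 0 n26502 = n30250 := rfl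
theorem F65936 : act 4 n30250 = n26503 := d3_2 (iv F54692) D30250 (iv D26503)
theorem F65937 : act 5 n30250 = n27383 := d4_2 F65930 D30250 F65931
theorem F65938 : act 1 n27365 = n30250 := d9_5 F65937 F57503 F46214 (iv F46183) (iv F57456)
theorem F65939 : act 2 n27363 = n30250 := d13_3 F65937 (iv D27383) (iv F57452)
def n30251 : Q := act 2 n26502
theorem D30251 : act 2 n26502 = n30251 := rfl
theorem F65940 : act 0 n30251 = n27363 := d1_1 D30251 F65939 (iv D30250)
theorem F65941 : act 1 n30251 = n26799 := d6_1 D30251 F55676 (iv F45287) F45288 D26502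
theorem F65942 : act 4 n30251 = n26504 := d12_2 (iv F54692) D30251 (iv D26504)
theorem F65943 : act 5 n30251 = n27382 := d13_2 F65930 D30251 (iv F65928)
theorem F65944 : act 6 n30251 = n26873 := d14_2 F65935 D30251 (iv F65933)
def n30252 : Q := act 1 n26507
theorem D30252 : act 1 n26507 = n30252 := rfl
theorem F65945 : act 2 n30252 = n27805 := d6_2 (iv F54711) D30252 F58665 F47529 (iv F46222)
theorem F65946 : act 4 n30252 = n26508 := d8_2 (iv F54712) D30252 (iv D26508)
theorem F65947 : act 5 n30252 = n26509 := d9_2 D26507 D30252 (iv D26509) (iv D21988) (iv F42710)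
def n30253 : Q := act 0 n26509
theorem D30253 : act 0 n26509 = n30253 := rfl
theorem F65948 : act 1 n30253 = n26819 := d0_2 D26509 D30253 F55740 F54780 F42805 (iv F42787) F42786 (iv D21993) (iv F42721)
theorem F65949 : act 4 n30253 = n26510 := d3_2 (iv F54717) D30253 (iv D26510)
def n30254 : Q := act 2 n26509
theorem D30254 : act 2 n26509 = n30254 := rfl
theorem F65950 : act 1 n30254 = n27055 := d6_1 D30254 F56541 (iv F45266) F45267 D26509
theorem F65951 : act 4 n30254 = n26511 := d12_2 (iv F54717) D30254 (iv D26511)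
theorem F65952 : act 5 n30254 = n27805 := d13_2 F65947 D30254 (iv F65945)
def n30255 : Q := act 6 n26509
theorem D30255 : act 6 n26509 = n30255 := rfl
theorem F65953 : act 1 n30255 = n30249 := d10_1 D30255 F65935 (iv D26502) (iv F42723) D26509
theorem F65954 : act 4 n30255 = n26512 := d19_1 D30255 (iv D26512) (iv F54717)
theorem F65955 : act 5 n30255 = n26515 := d24_1 D30255 (iv D26515) (iv D21994) (iv D16697) F21913 (iv F29465) D21978 D26502 (iv F65935) (iv D30249) F54687 F42696 D21988 D26509
def n30256 : Q := act 6 n26510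
theorem D30256 : act 6 n26510 = n30256 := rfl
theorem F65956 : act 0 n30256 = n26512 := d5_1 D30256 (iv D26512) D26510
theorem F65957 : act 1 n30256 = n27728 := d10_1 D30256 (iv D27728) F55744 (iv D26820) (iv F54718)
theorem F65958 : act 3 n30256 = n26513 := d17_1 D30256 (iv D26513) (iv F54719)
theorem F65959 : act 5 n30256 = n26519 := d20_1 D30256 F54741 F54716 D26512 F54725 (iv F54737) (iv F54738)
def n30257 : Q := act 1 n26514
theorem D30257 : act 1 n26514 = n30257 := rfl
theorem F65960 : act 4 n30257 = n26518 := d8_2 (iv F54729) D30257 (iv D26518)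
theorem F65961 : act 6 n30257 = n26515 := d10_2 D26514 D30257 (iv D26515) (iv D21994) D21993
theorem F65962 : act 5 n30253 = n30257 := d22_0 F65961 (iv F65955) (iv D30255) D30253
theorem F65963 : act 0 n30257 = n30252 := d22_4 F65947 D30255 F65955 (iv F65961)
def n30258 : Q := act 0 n26515
theorem D30258 : act 0 n26515 = n30258 := rfl
theorem F65964 : act 4 n30258 = n26519 := d3_2 (iv F54730) D30258 (iv D26519)
theorem F65965 : act 6 n30258 = n30252 := d5_2 F65961 D30258 (iv F65963)
def n30259 : Q := act 2 n26515
theorem D30259 : act 2 n26515 = n30259 := rfl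
theorem F65966 : act 1 n30259 = n27934 := d6_1 D30259 F59076 (iv D27065) F45271 D26515
theorem F65967 : act 4 n30259 = n26520 := d12_2 (iv F54730) D30259 (iv D26520)
theorem F65968 : act 3 n27935 = n30259 := d15_5 F65967 F56138 F56135 (iv F51538) (iv F59080)
def n30260 : Q := act 6 n26516
theorem D30260 : act 6 n26516 = n30260 := rfl
theorem F65969 : act 0 n30260 = n26735 := d5_1 D30260 (iv F55463) F54756
theorem F65970 : act 1 n30260 = n26750 := d10_1 D30260 (iv F55525) (iv D26734) F43512 (iv F54731)
theorem F65971 : act 2 n30260 = n26524 := d14_1 D30260 (iv D26524) (iv F54734)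
theorem F65972 : act 3 n30260 = n26517 := d17_1 D30260 (iv D26517) D26516
theorem F65973 : act 4 n30260 = n26730 := d19_1 D30260 (iv D26730) (iv F54732)
theorem F65974 : act 5 n30260 = n26735 := d22_2 F54733 D30260 (iv F55463) F54756
def n30261 : Q := act 1 n26528
theorem D30261 : act 1 n26528 = n30261 := rfl
theorem F65975 : act 0 n30261 = n27468 := d0_1 D30261 F57724 (iv F57526) (iv D27390) (iv F54710) D30252 (iv F65963) (iv D30257) (iv F54771)
theorem F65976 : act 2 n30261 = n27467 := d6_2 (iv F54772) D30261 F57721 (iv D26097) D26096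
theorem F65977 : act 4 n30261 = n26529 := d8_2 (iv F54773) D30261 (iv D26529)
theorem F65978 : act 5 n30261 = n26819 := d9_2 (iv F54774) D30261 (iv F65948) F65962 (iv D30257)
theorem F65979 : act 6 n30261 = n26532 := d10_2 D26528 D30261 (iv D26532) (iv D22022) (iv F42787)
def n30262 : Q := act 6 n26530
theorem D30262 : act 6 n26530 = n30262 := rfl
theorem F65980 : act 2 n30262 = n26838 := d14_1 D30262 (iv D26838) (iv F54781)
theorem F65981 : act 4 n30262 = n26531 := d19_1 D30262 (iv D26531) D26530
theorem F65982 : act 5 n30262 = n26532 := d22_2 F57726 D30262 (iv F65979) F65975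
def n30263 : Q := act 0 n26532
theorem D30263 : act 0 n26532 = n30263 := rfl
theorem F65983 : act 4 n30263 = n26533 := d3_2 (iv F54785) D30263 (iv D26533)
theorem F65984 : act 6 n30263 = n27468 := d5_2 F65979 D30263 (iv F65975)
theorem F65985 : act 1 n27453 = n30263 := d10_5 F65984 F57724 F46383 (iv F46363) (iv F57686)
theorem F65986 : act 2 n27451 = n30263 := d14_3 F65984 (iv D27468) (iv F57682)
def n30264 : Q := act 2 n26532
theorem D30264 : act 2 n26532 = n30264 := rfl
theorem F65987 : act 0 n30264 = n27451 := d1_1 D30264 F65986 (iv D30263)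
theorem F65988 : act 1 n30264 = n26683 := d6_1 D30264 F55286 (iv F45250) F45251 D26532
theorem F65989 : act 4 n30264 = n26534 := d12_2 (iv F54785) D30264 (iv D26534)
theorem F65990 : act 5 n30264 = n26838 := d13_2 F65982 D30264 (iv F65980)
theorem F65991 : act 6 n30264 = n27467 := d14_2 F65979 D30264 (iv F65976)
def n30265 : Q := act 1 n26537
theorem D30265 : act 1 n26537 = n30265 := rfl
theorem F65992 : act 2 n30265 = n27814 := d6_2 (iv F54807) D30265 F58700 F47606 (iv F46391)
theorem F65993 : act 4 n30265 = n26538 := d8_2 (iv F54808) D30265 (iv D26538)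
theorem F65994 : act 6 n30265 = n26539 := d10_2 D26537 D30265 (iv D26539) (iv D22032) (iv F42823)
def n30266 : Q := act 0 n26539
theorem D30266 : act 0 n26539 = n30266 := rfl
theorem F65995 : act 1 n30266 = n26854 := d0_2 D26539 D30266 F55848 F54687 F42695 (iv F42679) F42847 (iv D22037) (iv F42834)
theorem F65996 : act 4 n30266 = n26540 := d3_2 (iv F54813) D30266 (iv D26540)
def n30267 : Q := act 2 n26539
theorem D30267 : act 2 n26539 = n30267 := rfl
theorem F65997 : act 1 n30267 = n27047 := d6_1 D30267 F56513 (iv F45229) F45230 D26539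
theorem F65998 : act 4 n30267 = n26541 := d12_2 (iv F54813) D30267 (iv D26541)
theorem F65999 : act 6 n30267 = n27814 := d14_2 F65994 D30267 (iv F65992)
def n30268 : Q := act 5 n26539
theorem D30268 : act 5 n26539 = n30268 := rfl
theorem F66000 : act 1 n30268 = n30262 := d9_1 D30268 F65982 (iv D26532) (iv F42836) D26539
theorem F66001 : act 4 n30268 = n26542 := d18_1 D30268 (iv D26542) (iv F54813)
theorem F66002 : act 6 n26545 = n30268 := d24_0 (iv D30268) (iv D26539) (iv D22032) (iv F42806) (iv F54780) D30262 F65982 (iv D26532) (iv D22022) F29562 F21963 D16773 D22038 D26545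
def n30269 : Q := act 5 n26540
theorem D30269 : act 5 n26540 = n30269 := rfl
theorem F66003 : act 0 n30269 = n26542 := d4_1 D30269 (iv D26542) D26540
theorem F66004 : act 1 n30269 = n27732 := d9_1 D30269 F58377 F55852 (iv D26855) (iv F54814)
theorem F66005 : act 3 n30269 = n26543 := d16_1 D30269 (iv D26543) (iv F54815)
theorem F66006 : act 6 n30269 = n26548 := d20_2 F54835 D30269 F54837 F54812 D26542 (iv F54821) (iv F54834)
def n30270 : Q := act 1 n26544
theorem D30270 : act 1 n26544 = n30270 := rfl
theorem F66007 : act 0 n30270 = n30265 := d0_1 D30270 (iv D30265) F54806 (iv F57507) F57506 (iv F57503) F65931 (iv D30248) (iv F54825)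
theorem F66008 : act 4 n30270 = n26547 := d8_2 (iv F54826) D30270 (iv D26547)
theorem F66009 : act 5 n30270 = n26545 := d9_2 D26544 D30270 (iv D26545) (iv D22038) D22037
theorem F66010 : act 6 n30270 = n30266 := d10_2 (iv F54827) D30270 F65995 F65932 (iv D30248)
def n30271 : Q := act 0 n26545
theorem D30271 : act 0 n26545 = n30271 := rfl
theorem F66011 : act 4 n30271 = n26548 := d3_2 (iv F54828) D30271 (iv D26548)
theorem F66012 : act 5 n30271 = n30265 := d4_2 F66009 D30271 (iv F66007)
def n30272 : Q := act 2 n26545
theorem D30272 : act 2 n26545 = n30272 := rfl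
theorem F66013 : act 1 n30272 = n27906 := d6_1 D30272 F59005 (iv D27060) F45234 D26545
theorem F66014 : act 4 n30272 = n26549 := d12_2 (iv F54828) D30272 (iv D26549)
theorem F66015 : act 3 n27907 = n30272 := d15_5 F66014 F56206 F56204 (iv F51693) (iv F59009)
def n30273 : Q := act 1 n26555
theorem D30273 : act 1 n26555 = n30273 := rfl
theorem F66016 : act 0 n30273 = n28883 := d0_1 D30273 F61940 (iv F57383) F57384 F49089 (iv D23455) F34007 D22049 D26555
theorem F66017 : act 4 n30273 = n26558 := d8_2 (iv F54863) D30273 (iv D26558)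
theorem F66018 : act 6 n30273 = n28228 := d10_2 F57762 D30273 F59950 D28229 (iv F59956)
def n30274 : Q := act 5 n26555
theorem D30274 : act 5 n26555 = n30274 := rfl
theorem F66019 : act 0 n30274 = n26557 := d4_1 D30274 (iv D26557) D26555
theorem F66020 : act 4 n30274 = n26560 := d18_1 D30274 (iv D26560) (iv F54863)
theorem F66021 : act 6 n30274 = n27484 := d22_1 D30274 (iv D27484) F46468 D26555
theorem F66022 : act 1 n30274 = n28516 := d24_2 F57762 D30274 (iv D28516) (iv F60776) F60774 (iv F57438) (iv D27358) (iv D23228) F33717 D18925 D23362 D27511 (iv F59955) (iv F59956)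
def n30275 : Q := act 5 n26556
theorem D30275 : act 5 n26556 = n30275 := rfl
theorem F66023 : act 2 n30275 = n26557 := d13_1 D30275 (iv D26557) D26556
theorem F66024 : act 3 n30275 = n27854 := d16_1 D30275 (iv D27854) F54867
theorem F66025 : act 4 n30275 = n26562 := d18_1 D30275 (iv D26562) (iv F54865)
def n30276 : Q := act 6 n26557
theorem D30276 : act 6 n26557 = n30276 := rfl
theorem F66026 : act 0 n30276 = n27484 := d5_1 D30276 (iv F66021) F66019
theorem F66027 : act 1 n30276 = n27369 := d10_1 D30276 (iv D27369) D27367 (iv F57460) F55093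
theorem F66028 : act 4 n30276 = n26563 := d19_1 D30276 (iv D26563) (iv F54868)
theorem F66029 : act 5 n30276 = n27483 := d20_1 D30276 F57762 D30274 F66021 (iv D27484) F46468 D26557
def n30277 : Q := act 5 n26559
theorem D30277 : act 5 n26559 = n30277 := rfl
theorem F66030 : act 0 n30277 = n26562 := d4_1 D30277 (iv D26562) (iv F54872)
theorem F66031 : act 1 n30277 = n27800 := d9_1 D30277 (iv F58648) F47506 (iv F55978) F55975
theorem F66032 : act 2 n30277 = n26560 := d13_1 D30277 (iv D26560) D26559
theorem F66033 : act 3 n30277 = n26943 := d16_1 D30277 (iv D26943) (iv F54874)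
theorem F66034 : act 6 n30277 = n27715 := d20_2 (iv F54873) D30277 (iv F58313) F47186 D26562 (iv F56161) (iv D26942)
def n30278 : Q := act 1 n26562
theorem D30278 : act 1 n26562 = n30278 := rfl
theorem F66035 : act 0 n30278 = n27794 := d0_1 D30278 F58627 F51605 (iv F51393) F51392 (iv F47510) (iv F58645) (iv F66031) F66030
theorem F66036 : act 2 n30278 = n27793 := d6_2 (iv F54884) D30278 F58623 (iv D26618) F43188
theorem F66037 : act 3 n30278 = n27874 := d7_2 (iv F54885) D30278 F58921
theorem F66038 : act 5 n30278 = n30278 := d9_2 D26562 D30278 (iv D30278) (iv D26562) F42875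
def n30279 : Q := act 1 n26570
theorem D30279 : act 1 n26570 = n30279 := rfl
theorem F66039 : act 0 n30279 = n27928 := d0_1 D30279 (iv D27928) (iv F59060) F64607 (iv D29841) (iv D26081) F41927 D24591 (iv F54914)
theorem F66040 : act 4 n30279 = n26571 := d8_2 (iv F54916) D30279 (iv D26571)
theorem F66041 : act 2 n27931 = n30279 := d12_3 F66040 F54922 (iv F59070)
def n30280 : Q := act 1 n26579
theorem D30280 : act 1 n26579 = n30280 := rfl
theorem F66042 : act 0 n30280 = n26603 := d0_1 D30280 F55033 (iv F45108) (iv F54668) F54667 F54660 F42929 D22085 D26579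
theorem F66043 : act 2 n30280 = n26752 := d6_2 F55466 D30280 F55529 (iv F45142) (iv F55465)
theorem F66044 : act 3 n30280 = n27036 := d7_2 F63817 D30280 (iv F63815)
theorem F66045 : act 4 n30280 = n26580 := d8_2 (iv F54949) D30280 (iv D26580)
theorem F66046 : act 5 n30280 = n26751 := d9_2 F54967 D30280 F55526 F55037 F54968
theorem F66047 : act 6 n30280 = n26600 := d10_2 (iv F54950) D30280 (iv F65923) F65927 (iv D26581)
def n30281 : Q := act 4 n26586
theorem D30281 : act 4 n26586 = n30281 := rfl
theorem F66048 : act 0 n30281 = n28015 := d3_1 D30281 F59312 (iv F54976)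
theorem F66049 : act 5 n30281 = n28013 := d18_2 (iv F54977) D30281 F59305
theorem F66050 : act 6 n30281 = n28015 := d19_2 (iv F54978) D30281 F59312
def n30282 : Q := act 4 n26592
theorem D30282 : act 4 n26592 = n30282 := rfl
theorem F66051 : act 0 n30282 = n26593 := d3_1 D30282 (iv D26593) D26592
theorem F66052 : act 1 n30282 = n28017 := d8_1 D30282 F59321 (iv F54999)
theorem F66053 : act 3 n30282 = n28937 := d15_1 D30282 (iv D28937) (iv D25246) (iv F51744) (iv F55000)
theorem F66054 : act 6 n30282 = n27903 := d19_2 (iv F55001) D30282 F58999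
def n30283 : Q := act 3 n26593
theorem D30283 : act 3 n26593 = n30283 := rfl
theorem F66055 : act 0 n30283 = n28937 := d2_1 D30283 (iv F66053) F66051
theorem F66056 : act 1 n30283 = n26595 := d7_1 D30283 (iv D26595) (iv F55002)
theorem F66057 : act 4 n30283 = n27754 := d15_2 D26593 D30283 F58468 (iv F49459) (iv F49460)
theorem F66058 : act 6 n30283 = n27904 := d17_2 (iv F55003) D30283 (iv D27904)
theorem F66059 : act 2 n27478 = n30283 := d14_3 F66058 (iv F59001) (iv F57748)
theorem F66060 : act 5 n29656 = n30283 := d22_2 (iv D29655) D29656 F66058 (iv F63985)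
def n30284 : Q := act 5 n26593
theorem D30284 : act 5 n26593 = n30284 := rfl
theorem F66061 : act 1 n30284 = n28783 := d9_1 D30284 F61608 F54485 (iv F49912) (iv F55002)
theorem F66062 : act 2 n30284 = n28100 := d13_1 D30284 (iv F65235) F65233
theorem F66063 : act 3 n30284 = n29656 := d16_1 D30284 F66060 (iv D30283)
theorem F66064 : act 4 n30284 = n26594 := d18_1 D30284 (iv D26594) D26593
theorem F66065 : act 6 n30284 = n28283 := d22_1 D30284 F60162 (iv F66054) F66051
def n30285 : Q := act 6 n26601
theorem D30285 : act 6 n26601 = n30285 := rfl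
theorem F66066 : act 0 n30285 = n26752 := d5_1 D30285 (iv F58548) F58544
theorem F66067 : act 1 n30285 = n26733 := d10_1 D30285 (iv F55473) F55474 (iv F55044) F55041
theorem F66068 : act 2 n30285 = n26603 := d14_1 D30285 (iv D26603) D26601
theorem F66069 : act 3 n30285 = n27039 := d17_1 D30285 (iv F58551) F58550
theorem F66070 : act 4 n30285 = n26608 := d19_1 D30285 (iv D26608) (iv F55029)
theorem F66071 : act 5 n30285 = n26750 := d20_1 D30285 (iv F55525) (iv F58547) F58548 (iv D26752) D26753 (iv F55536)
def n30286 : Q := act 4 n26612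
theorem D30286 : act 4 n26612 = n30286 := rfl
theorem F66072 : act 0 n30286 = n26613 := d3_1 D30286 (iv D26613) D26612
theorem F66073 : act 1 n30286 = n28217 := d8_1 D30286 F59906 (iv F55067)
theorem F66074 : act 2 n30286 = n26626 := d12_1 D30286 (iv D26626) (iv F55068)
theorem F66075 : act 3 n30286 = n28641 := d15_1 D30286 (iv F61744) F61743 F50675 (iv F55069)
theorem F66076 : act 5 n30286 = n26638 := d18_2 (iv F55070) D30286 F55137
def n30287 : Q := act 4 n26618
theorem D30287 : act 4 n26618 = n30287 := rfl
theorem F66077 : act 0 n30287 = n26620 := d3_1 D30287 (iv D26620) (iv F55090)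
theorem F66078 : act 2 n30287 = n26619 := d12_1 D30287 (iv D26619) D26618
theorem F66079 : act 5 n30287 = n27631 := d18_2 (iv F55091) D30287 F58105
theorem F66080 : act 3 n29902 = n30287 := d21_1 D29902 F66078 (iv F64092) F64091 (iv D26164) (iv F53850) D29901 F64829
def n30288 : Q := act 3 n26620
theorem D30288 : act 3 n26620 = n30288 := rfl
theorem F66081 : act 0 n30288 = n29902 := d2_1 D30288 F66080 F66077
theorem F66082 : act 2 n30288 = n29901 := d11_1 D30288 (iv D29901) F53850 D26164 (iv F64091) F64092 (iv F66078) (iv F66080) (iv D29902) (iv D26156) F42072 D21717 (iv F61760) F53288 (iv F55095)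
def n30289 : Q := act 6 n26620
theorem D30289 : act 6 n26620 = n30289 := rfl
theorem F66083 : act 1 n30289 = n26871 := d10_1 D30289 F55908 (iv F57718) (iv F58488) F58485
theorem F66084 : act 2 n30289 = n26623 := d14_1 D30289 (iv D26623) (iv F55095)
theorem F66085 : act 4 n30289 = n26621 := d19_1 D30289 (iv D26621) D26620
theorem F66086 : act 5 n30289 = n29043 := d22_2 (iv F55336) D30289 F62390 F58103
def n30290 : Q := act 3 n26626
theorem D30290 : act 3 n26626 = n30290 := rfl
theorem F66087 : act 0 n30290 = n26628 := d2_1 D30290 (iv D26628) (iv F55111)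
theorem F66088 : act 1 n30290 = n30045 := d7_1 D30290 F65286 F58505
theorem F66089 : act 4 n30290 = n30044 := d15_2 D26626 D30290 F65283 F56635 (iv F45586)
theorem F66090 : act 2 n30054 = n30290 := d12_3 F66089 F65282 D30054
def n30291 : Q := act 6 n26626
theorem D30291 : act 6 n26626 = n30291 := rfl
theorem F66091 : act 0 n30291 = n26630 := d5_1 D30291 (iv D26630) (iv F55111)
theorem F66092 : act 1 n30291 = n28920 := d10_1 D30291 (iv D28920) (iv F62022) F62024 F58505
theorem F66093 : act 4 n30291 = n26627 := d19_1 D30291 (iv D26627) D26626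
theorem F66094 : act 5 n30291 = n26916 := d22_2 (iv F58074) D30291 F56058 F58073
def n30292 : Q := act 2 n26628
theorem D30292 : act 2 n26628 = n30292 := rfl
theorem F66095 : act 0 n30292 = n30054 := d1_1 D30292 F66090 F66087
theorem F66096 : act 1 n30292 = n28563 := d6_1 D30292 (iv F63435) F63434 (iv D26634) (iv F55116)
theorem F66097 : act 4 n30292 = n30052 := d12_2 F56638 D30292 F65313
theorem F66098 : act 3 n30292 = n28559 := d21_1 D30292 (iv D28559) (iv F50310) D28641 (iv F66075) F66074 D30290 F66087
theorem F66099 : act 6 n30083 = n30292 := d10_0 F66096 (iv F63093) (iv D26340) D26341 D30083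
def n30293 : Q := act 5 n26628
theorem D30293 : act 5 n26628 = n30293 := rfl
theorem F66100 : act 3 n30293 = n26629 := d16_1 D30293 (iv D26629) D26628
def n30294 : Q := act 6 n26628
theorem D30294 : act 6 n26628 = n30294 := rfl
theorem F66101 : act 1 n30294 = n26693 := d10_1 D30294 (iv D26693) F43356 (iv F43207) (iv F55116)
theorem F66102 : act 2 n30294 = n30083 := d14_1 D30294 F66099 (iv D30292)
theorem F66103 : act 3 n30294 = n26630 := d17_1 D30294 (iv D26630) D26628
def n30295 : Q := act 1 n26629
theorem D30295 : act 1 n26629 = n30295 := rfl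
theorem F66104 : act 0 n30295 = n30295 := d0_1 D30295 (iv D30295) F58073 (iv D27614) F46673 F33992 (iv F46673) D27614 (iv F58073)
theorem F66105 : act 2 n30295 = n26636 := d6_2 (iv F55117) D30295 (iv D26636) F43208 D22180
theorem F66106 : act 4 n30295 = n26631 := d8_2 (iv F55118) D30295 (iv D26631)
theorem F66107 : act 5 n30295 = n26636 := d9_2 D26629 D30295 (iv D26636) (iv D22178) (iv F43201)
def n30296 : Q := act 5 n26630
theorem D30296 : act 5 n26630 = n30296 := rfl
theorem F66108 : act 0 n30296 = n26916 := d4_1 D30296 (iv F66094) F66091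
theorem F66109 : act 4 n30296 = n26632 := d18_1 D30296 (iv D26632) (iv F55120)
theorem F66110 : act 6 n30296 = n27614 := d20_2 D26630 D30296 (iv F58074) D30291 F66094 F56058 (iv D26629)
theorem F66111 : act 1 n30296 = n27608 := d24_2 D26630 D30296 (iv D27608) D27607 (iv F58058) (iv D26100) (iv F53660) (iv F56578) F56717 (iv D27110) F45402 F43335 (iv D22178) (iv F43201)
def n30297 : Q := act 5 n26634
theorem D30297 : act 5 n26634 = n30297 := rfl
theorem F66112 : act 0 n30297 = n29983 := d4_1 D30297 F65118 F64419
theorem F66113 : act 1 n30297 = n30297 := d9_1 D30297 (iv D30297) (iv F63434) F63436 F63434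
theorem F66114 : act 2 n30297 = n26635 := d13_1 D30297 (iv D26635) D26634
theorem F66115 : act 6 n30297 = n29980 := d20_2 (iv F55131) D30297 F65103 (iv F64422) (iv F65118) (iv D29983) (iv F54102)
def n30298 : Q := act 1 n26635
theorem D30298 : act 1 n26635 = n30298 := rfl
theorem F66116 : act 2 n30298 = n30298 := d6_2 F66114 D30298 (iv D30298) (iv F66114) F66113
theorem F66117 : act 3 n30298 = n26636 := d7_2 (iv F55132) D30298 (iv D26636)
theorem F66118 : act 0 n30298 = n30298 := d2_3 F66117 F55134 (iv F66117)
def n30299 : Q := act 6 n26636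
theorem D30299 : act 6 n26636 = n30299 := rfl
theorem F66119 : act 0 n30299 = n30299 := d5_1 D30299 (iv D30299) F55134
theorem F66120 : act 1 n30299 = n27111 := d10_1 D30299 (iv D27111) F45402 F43335 D26636
theorem F66121 : act 4 n30299 = n26637 := d19_1 D30299 (iv D26637) (iv F55133)
def n30300 : Q := act 6 n26638
theorem D30300 : act 6 n26638 = n30300 := rfl
theorem F66122 : act 0 n30300 = n26639 := d5_1 D30300 (iv D26639) D26638
theorem F66123 : act 2 n30300 = n30296 := d14_1 D30300 F66110 F58071
theorem F66124 : act 4 n30300 = n26640 := d19_1 D30300 (iv D26640) (iv F55137)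
theorem F66125 : act 5 n30300 = n28271 := d22_2 F66076 D30300 F60112 (iv F66072)
def n30301 : Q := act 5 n26639
theorem D30301 : act 5 n26639 = n30301 := rfl
theorem F66126 : act 0 n30301 = n28271 := d4_1 D30301 (iv F66125) F66122
theorem F66127 : act 1 n30301 = n26957 := d9_1 D30301 F56707 (iv D27107) (iv F45417) (iv F55138)
theorem F66128 : act 2 n30301 = n30291 := d13_1 D30301 F66094 F56057
theorem F66129 : act 4 n30301 = n26641 := d18_1 D30301 (iv D26641) (iv F55139)
theorem F66130 : act 6 n30301 = n30286 := d20_2 D26639 D30301 F66076 D30300 F66125 F60112 F55073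
def n30302 : Q := act 4 n26652
theorem D30302 : act 4 n26652 = n30302 := rfl
theorem F66131 : act 0 n30302 = n26653 := d3_1 D30302 (iv D26653) D26652
theorem F66132 : act 2 n30302 = n26662 := d12_1 D30302 (iv D26662) (iv F55184)
theorem F66133 : act 5 n30302 = n27424 := d18_2 (iv F55187) D30302 F57611
theorem F66134 : act 6 n30302 = n28870 := d19_2 (iv F55186) D30302 F61882
def n30303 : Q := act 3 n26653
theorem D30303 : act 3 n26653 = n30303 := rfl
theorem F66135 : act 1 n30303 = n26655 := d7_1 D30303 (iv D26655) (iv F55188)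
theorem F66136 : act 4 n30303 = n30185 := d15_2 D26653 D30303 F65715 F54490 F44189
theorem F66137 : act 6 n30303 = n30181 := d17_2 F55927 D30303 F65699
def n30304 : Q := act 5 n26653
theorem D30304 : act 5 n26653 = n30304 := rfl
theorem F66138 : act 0 n30304 = n27424 := d4_1 D30304 (iv F66133) F66131
theorem F66139 : act 1 n30304 = n27446 := d9_1 D30304 F57666 (iv F54613) F54615 (iv F55188)
theorem F66140 : act 2 n30304 = n26666 := d13_1 D30304 (iv D26666) (iv F55189)
theorem F66141 : act 4 n30304 = n26654 := d18_1 D30304 (iv D26654) D26653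
theorem F66142 : act 6 n30304 = n29045 := d20_2 F55927 D30304 F62395 (iv F66134) F66133 (iv F57737) F57736
def n30305 : Q := act 2 n26655
theorem D30305 : act 2 n26655 = n30305 := rfl
theorem F66143 : act 3 n30305 = n30217 := d21_1 D30305 F65826 (iv F58132) F58131 F53461 F46576 (iv F57925) (iv F57928)
def n30306 : Q := act 4 n26661
theorem D30306 : act 4 n26661 = n30306 := rfl
theorem F66144 : act 0 n30306 = n27607 := d3_1 D30306 F58057 (iv F55216)
theorem F66145 : act 1 n30306 = n26662 := d8_1 D30306 (iv D26662) D26661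
theorem F66146 : act 2 n30306 = n27531 := d12_1 D30306 F57877 F55217
theorem F66147 : act 5 n30306 = n27474 := d18_2 (iv F55218) D30306 F57740
theorem F66148 : act 3 n30306 = n29034 := d21_1 (iv F66146) (iv D29034) F52059 (iv F41030) (iv F52227) D29121 (iv F62843) (iv F62846)
def n30307 : Q := act 3 n26662
theorem D30307 : act 3 n26662 = n30307 := rfl
theorem F66149 : act 0 n30307 = n26665 := d2_1 D30307 (iv D26665) (iv F55219)
theorem F66150 : act 1 n30307 = n29034 := d7_1 D30307 (iv F66148) F66145
theorem F66151 : act 4 n30307 = n26798 := d15_2 D26662 D30307 (iv D26798) (iv D22426) (iv F43326)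
theorem F66152 : act 2 n29031 = n30307 := d12_3 F66151 (iv F65784) F65786
def n30308 : Q := act 5 n26662
theorem D30308 : act 5 n26662 = n30308 := rfl
theorem F66153 : act 0 n30308 = n26666 := d4_1 D30308 (iv D26666) (iv F55219)
theorem F66154 : act 1 n30308 = n26878 := d9_1 D30308 F55921 D27474 (iv F66147) F66145
theorem F66155 : act 2 n30308 = n27424 := d13_1 D30308 (iv F66133) F66132
theorem F66156 : act 4 n30308 = n26663 := d18_1 D30308 (iv D26663) D26662
def n30309 : Q := act 6 n26662
theorem D30309 : act 6 n26662 = n30309 := rfl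
theorem F66157 : act 0 n30309 = n26667 := d5_1 D30309 (iv D26667) (iv F55219)
theorem F66158 : act 2 n30309 = n28870 := d14_1 D30309 (iv F66134) F66132
theorem F66159 : act 4 n30309 = n26664 := d19_1 D30309 (iv D26664) D26662
theorem F66160 : act 1 n26682 = n30309 := d24_14 (iv D30309) D30308 F66154 (iv D26878) (iv D22546) (iv F30559) D22645 (iv F44502) F44340 D26838 (iv F65990) F65988 (iv D26683) D26682
def n30310 : Q := act 5 n26665
theorem D30310 : act 5 n26665 = n30310 := rfl
theorem F66161 : act 2 n30310 = n30181 := d13_1 D30310 (iv F65772) F65769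
theorem F66162 : act 3 n30310 = n26666 := d16_1 D30310 (iv D26666) D26665
theorem F66163 : act 4 n30310 = n26801 := d18_1 D30310 (iv D26801) (iv F55229)
def n30311 : Q := act 6 n26665
theorem D30311 : act 6 n26665 = n30311 := rfl
theorem F66164 : act 3 n30311 = n26667 := d17_1 D30311 (iv D26667) D26665
theorem F66165 : act 4 n30311 = n26802 := d19_1 D30311 (iv D26802) (iv F55229)
def n30312 : Q := act 6 n26666
theorem D30312 : act 6 n26666 = n30312 := rfl
theorem F66166 : act 1 n30312 = n29046 := d10_1 D30312 F62400 (iv F56578) F56717 F56714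
theorem F66167 : act 2 n30312 = n29045 := d14_1 D30312 (iv F66142) F66140
theorem F66168 : act 4 n30312 = n26668 := d19_1 D30312 (iv D26668) (iv F55230)
theorem F66169 : act 5 n30312 = n30309 := d22_2 D26666 D30312 (iv D30309) F55219
def n30313 : Q := act 5 n26667
theorem D30313 : act 5 n26667 = n30313 := rfl
theorem F66170 : act 0 n30313 = n30312 := d4_1 D30313 F66169 F66157
theorem F66171 : act 1 n30313 = n27463 := d9_1 D30313 (iv D27463) D27461 (iv F57715) (iv F57716)
theorem F66172 : act 2 n30313 = n27473 := d13_1 D30313 F57736 (iv F55928)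
theorem F66173 : act 4 n30313 = n26669 := d18_1 D30313 (iv D26669) (iv F55231)
theorem F66174 : act 6 n30313 = n30308 := d20_2 D26667 D30313 (iv D30308) D30309 (iv F66169) (iv D30312) (iv D26666)
def n30314 : Q := act 4 n26673
theorem D30314 : act 4 n26673 = n30314 := rfl
theorem F66175 : act 0 n30314 = n27532 := d3_1 D30314 F57878 (iv F55252)
theorem F66176 : act 1 n30314 = n26678 := d8_1 D30314 (iv D26678) (iv F55253)
theorem F66177 : act 2 n30314 = n27608 := d12_1 D30314 F58059 (iv F55255)
theorem F66178 : act 6 n30314 = n27392 := d19_2 F55254 D30314 F57532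
theorem F66179 : act 3 n30314 = n29023 := d21_1 (iv F66177) (iv D29023) F52044 (iv F41075) (iv F52283) D29172 (iv F62932) (iv F62699)
def n30315 : Q := act 3 n26674
theorem D30315 : act 3 n26674 = n30315 := rfl
theorem F66180 : act 0 n30315 = n29856 := d2_1 D30315 F64659 (iv F55256)
theorem F66181 : act 1 n30315 = n26681 := d7_1 D30315 (iv D26681) (iv F55257)
theorem F66182 : act 4 n30315 = n29023 := d15_2 D26674 D30315 (iv F66179) (iv D30314) (iv D26673)
theorem F66183 : act 6 n30315 = n29854 := d17_2 F55259 D30315 (iv D29854)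
theorem F66184 : act 2 n30315 = n29021 := d21_2 (iv F55258) D30315 (iv F64699) F64698 F53704 F41973 (iv F41964) (iv F53682)
def n30316 : Q := act 4 n26677
theorem D30316 : act 4 n26677 = n30316 := rfl
theorem F66185 : act 0 n30316 = n26684 := d3_1 D30316 (iv D26684) (iv F55267)
theorem F66186 : act 1 n30316 = n30300 := d8_1 D30316 F66124 (iv F55268)
theorem F66187 : act 2 n30316 = n26678 := d12_1 D30316 (iv D26678) D26677
theorem F66188 : act 5 n30316 = n28868 := d18_2 F55270 D30316 F61875
theorem F66189 : act 6 n30316 = n27334 := d19_2 F55271 D30316 F57373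
def n30317 : Q := act 3 n26678
theorem D30317 : act 3 n26678 = n30317 := rfl
theorem F66190 : act 0 n30317 = n26686 := d2_1 D30317 (iv D26686) (iv F55272)
theorem F66191 : act 1 n30317 = n29023 := d7_1 D30317 (iv F66179) F66176
theorem F66192 : act 4 n30317 = n26681 := d15_2 D26678 D30317 (iv D26681) (iv D22236) D22235
theorem F66193 : act 2 n29020 = n30317 := d12_3 F66192 (iv F65482) F65484
def n30318 : Q := act 5 n26678
theorem D30318 : act 5 n26678 = n30318 := rfl
theorem F66194 : act 0 n30318 = n26687 := d4_1 D30318 (iv D26687) (iv F55272)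
theorem F66195 : act 2 n30318 = n28868 := d13_1 D30318 (iv F66188) F66187
theorem F66196 : act 4 n30318 = n26679 := d18_1 D30318 (iv D26679) D26678
theorem F66197 : act 1 n26800 = n30318 := d8_3 F66196 (iv F55276) (iv F55680)
def n30319 : Q := act 6 n26678
theorem D30319 : act 6 n26678 = n30319 := rfl
theorem F66198 : act 0 n30319 = n26688 := d5_1 D30319 (iv D26688) (iv F55272)
theorem F66199 : act 1 n30319 = n26843 := d10_1 D30319 F55813 D27392 (iv F66178) F66176
theorem F66200 : act 2 n30319 = n27334 := d14_1 D30319 (iv F66189) F66187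
theorem F66201 : act 4 n30319 = n26680 := d19_1 D30319 (iv D26680) D26678
def n30320 : Q := act 5 n26681
theorem D30320 : act 5 n26681 = n30320 := rfl
theorem F66202 : act 0 n30320 = n26692 := d4_1 D30320 (iv D26692) (iv F55281)
theorem F66203 : act 3 n30320 = n26682 := d16_1 D30320 (iv D26682) D26681
def n30321 : Q := act 6 n26681
theorem D30321 : act 6 n26681 = n30321 := rfl
theorem F66204 : act 0 n30321 = n26693 := d5_1 D30321 (iv D26693) (iv F55281)
theorem F66205 : act 2 n30321 = n28424 := d14_1 D30321 (iv F65485) F65482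
theorem F66206 : act 3 n30321 = n26683 := d17_1 D30321 (iv D26683) D26681
def n30322 : Q := act 3 n26684
theorem D30322 : act 3 n26684 = n30322 := rfl
theorem F66207 : act 1 n30322 = n26790 := d7_1 D30322 (iv D26790) (iv F55288)
theorem F66208 : act 4 n30322 = n30088 := d15_2 D26684 D30322 F65419 F54304 F44042
theorem F66209 : act 5 n30322 = n30086 := d16_2 F55815 D30322 F65412
def n30323 : Q := act 6 n26684
theorem D30323 : act 6 n26684 = n30323 := rfl
theorem F66210 : act 0 n30323 = n27334 := d5_1 D30323 (iv F66189) F66185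
theorem F66211 : act 1 n30323 = n27357 := d10_1 D30323 F57433 (iv F54603) F54606 (iv F55288)
theorem F66212 : act 2 n30323 = n26688 := d14_1 D30323 (iv D26688) (iv F55289)
theorem F66213 : act 4 n30323 = n26685 := d19_1 D30323 (iv D26685) D26684
theorem F66214 : act 5 n30323 = n29038 := d20_1 D30323 F62370 (iv F66188) F66189 (iv F57528) F57529 F55815
def n30324 : Q := act 5 n26686
theorem D30324 : act 5 n26686 = n30324 := rfl
theorem F66215 : act 3 n30324 = n26687 := d16_1 D30324 (iv D26687) D26686
theorem F66216 : act 4 n30324 = n26692 := d18_1 D30324 (iv D26692) (iv F55295)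
def n30325 : Q := act 6 n26686
theorem D30325 : act 6 n26686 = n30325 := rfl
theorem F66217 : act 2 n30325 = n30086 := d14_1 D30325 (iv F65477) F65474
theorem F66218 : act 3 n30325 = n26688 := d17_1 D30325 (iv D26688) D26686
theorem F66219 : act 4 n30325 = n26693 := d19_1 D30325 (iv D26693) (iv F55295)
def n30326 : Q := act 6 n26687
theorem D30326 : act 6 n26687 = n30326 := rfl
theorem F66220 : act 1 n30326 = n27377 := d10_1 D30326 (iv D27377) D27374 F57488 (iv F57489)
theorem F66221 : act 2 n30326 = n27391 := d14_1 D30326 F57529 (iv F55816)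
theorem F66222 : act 4 n30326 = n26689 := d19_1 D30326 (iv D26689) (iv F55296)
theorem F66223 : act 5 n30326 = n30319 := d22_2 D26687 D30326 (iv D30319) F55272
def n30327 : Q := act 5 n26688
theorem D30327 : act 5 n26688 = n30327 := rfl
theorem F66224 : act 0 n30327 = n30326 := d4_1 D30327 F66223 F66198
theorem F66225 : act 1 n30327 = n29039 := d9_1 D30327 F62374 (iv F56554) F56645 F56642
theorem F66226 : act 2 n30327 = n29038 := d13_1 D30327 (iv F66214) F66212
theorem F66227 : act 4 n30327 = n26690 := d18_1 D30327 (iv D26690) (iv F55297)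
theorem F66228 : act 6 n30327 = n30318 := d20_2 D26688 D30327 (iv D30318) D30319 (iv F66223) (iv D30326) (iv D26687)
def n30328 : Q := act 6 n26692
theorem D30328 : act 6 n26692 = n30328 := rfl
theorem F66229 : act 3 n30328 = n26694 := d17_1 D30328 (iv D26694) (iv F55305)
theorem F66230 : act 5 n30328 = n30321 := d22_2 D26692 D30328 (iv D30321) F55281
def n30329 : Q := act 5 n26693
theorem D30329 : act 5 n26693 = n30329 := rfl
theorem F66231 : act 0 n30329 = n30328 := d4_1 D30329 F66230 F66204
theorem F66232 : act 2 n30329 = n30088 := d13_1 D30329 (iv D30088) F55307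
theorem F66233 : act 3 n30329 = n26695 := d16_1 D30329 (iv D26695) (iv F55306)
theorem F66234 : act 6 n30329 = n30320 := d20_2 D26693 D30329 (iv D30320) D30321 (iv F66230) (iv D30328) (iv D26692)
def n30330 : Q := act 1 n26695
theorem D30330 : act 1 n26695 = n30330 := rfl
theorem F66235 : act 4 n30330 = n26696 := d8_2 (iv F55319) D30330 (iv D26696)
theorem F66236 : act 5 n30330 = n27608 := d9_2 D26695 D30330 (iv F66111) (iv D30296) F55119
theorem F66237 : act 6 n30330 = n30306 := d10_2 (iv F55320) D30330 F66145 D30309 (iv F66160)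
def n30331 : Q := act 1 n26700
theorem D30331 : act 1 n26700 = n30331 := rfl
theorem F66238 : act 3 n30331 = n26701 := d7_2 (iv F55332) D30331 (iv D26701)
theorem F66239 : act 5 n30288 = n30331 := d16_0 F66238 (iv F55336) D30288
def n30332 : Q := act 2 n26702
theorem D30332 : act 2 n26702 = n30332 := rfl
theorem F66240 : act 0 n30332 = n26703 := d1_1 D30332 (iv D26703) D26702
theorem F66241 : act 1 n30332 = n27327 := d6_1 D30332 (iv D27327) (iv D23210) (iv F46096) F55339
theorem F66242 : act 4 n30332 = n26704 := d12_2 (iv F55337) D30332 (iv D26704)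
theorem F66243 : act 6 n30332 = n27316 := d14_2 (iv F55338) D30332 (iv D27316)
theorem F66244 : act 5 n26702 = n30332 := d23_0 (iv D30332) (iv F55339) F46095 D23211 F46131 D27325 F64968 F64966 (iv F57859) F57359 (iv D26638) (iv F55073) F55072 F43201 (iv F43198) (iv F43375) F43373 D22254 D26702
def n30333 : Q := act 6 n26708
theorem D30333 : act 6 n26708 = n30333 := rfl
theorem F66245 : act 0 n30333 = n27816 := d5_1 D30333 F58711 (iv F55359)
theorem F66246 : act 1 n30333 = n28189 := d10_1 D30333 (iv D28189) (iv D24243) (iv F48949) (iv F55360)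
theorem F66247 : act 2 n30333 = n28888 := d14_1 D30333 F61956 (iv F55361)
theorem F66248 : act 3 n30333 = n26709 := d17_1 D30333 (iv D26709) (iv F55362)
theorem F66249 : act 4 n30333 = n27817 := d19_1 D30333 F58714 (iv F55363)
theorem F66250 : act 5 n30333 = n28888 := d20_1 D30333 F61956 F55358 (iv F58711) F58710 F51185 D26708
def n30334 : Q := act 1 n26711
theorem D30334 : act 1 n26711 = n30334 := rfl
theorem F66251 : act 0 n30334 = n28891 := d0_1 D30334 F61966 (iv F57621) F57622 F49249 (iv D23479) (iv F34789) D22266 D26711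
theorem F66252 : act 4 n30334 = n26714 := d8_2 (iv F55372) D30334 (iv D26714)
theorem F66253 : act 5 n30334 = n28250 := d9_2 F57938 D30334 F60033 D28251 (iv F60039)
def n30335 : Q := act 6 n26711
theorem D30335 : act 6 n26711 = n30335 := rfl
theorem F66254 : act 0 n30335 = n26713 := d5_1 D30335 (iv D26713) D26711
theorem F66255 : act 4 n30335 = n26716 := d19_1 D30335 (iv D26716) (iv F55372)
theorem F66256 : act 5 n30335 = n27560 := d22_2 F57938 D30335 (iv D27560) D27559
theorem F66257 : act 1 n28464 = n30335 := d24_14 (iv D30335) (iv F57938) F60039 F60038 (iv D27587) (iv D23421) (iv D18965) (iv F33804) D23302 D27447 F57671 (iv F60612) F60614 D28464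
def n30336 : Q := act 6 n26712
theorem D30336 : act 6 n26712 = n30336 := rfl
theorem F66258 : act 2 n30336 = n26713 := d14_1 D30336 (iv D26713) D26712
theorem F66259 : act 3 n30336 = n27858 := d17_1 D30336 (iv D27858) F55376
theorem F66260 : act 4 n30336 = n26718 := d19_1 D30336 (iv D26718) (iv F55374)
def n30337 : Q := act 5 n26713
theorem D30337 : act 5 n26713 = n30337 := rfl
theorem F66261 : act 0 n30337 = n27560 := d4_1 D30337 (iv F66256) F66254
theorem F66262 : act 1 n30337 = n27457 := d9_1 D30337 (iv D27457) D27455 (iv F57690) F55566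
theorem F66263 : act 4 n30337 = n26719 := d18_1 D30337 (iv D26719) (iv F55377)
theorem F66264 : act 6 n30337 = n27559 := d20_2 D26713 D30337 F57938 D30335 F66256 (iv D27560) F46592
def n30338 : Q := act 6 n26715
theorem D30338 : act 6 n26715 = n30338 := rfl
theorem F66265 : act 0 n30338 = n26718 := d5_1 D30338 (iv D26718) (iv F55381)
theorem F66266 : act 1 n30338 = n27809 := d10_1 D30338 (iv F58683) F47583 (iv F56055) F56052
theorem F66267 : act 2 n30338 = n26716 := d14_1 D30338 (iv D26716) D26715
theorem F66268 : act 3 n30338 = n26961 := d17_1 D30338 (iv D26961) (iv F55383)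
theorem F66269 : act 5 n30338 = n27711 := d20_1 D30338 (iv F58299) F47325 D26718 (iv F56230) (iv D26960) (iv F55382)
def n30339 : Q := act 1 n26718
theorem D30339 : act 1 n26718 = n30339 := rfl
theorem F66270 : act 0 n30339 = n27769 := d0_1 D30339 F58529 F51770 (iv F51400) F51399 (iv F47587) (iv F58680) (iv F66266) F66265
theorem F66271 : act 2 n30339 = n27768 := d6_2 (iv F55394) D30339 F58525 (iv D26761) F43744
theorem F66272 : act 3 n30339 = n27875 := d7_2 (iv F55395) D30339 F58925
theorem F66273 : act 6 n30339 = n30339 := d10_2 D26718 D30339 (iv D30339) (iv D26718) F43404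
def n30340 : Q := act 1 n26726
theorem D30340 : act 1 n26726 = n30340 := rfl
theorem F66274 : act 0 n30340 = n27900 := d0_1 D30340 (iv D27900) (iv F58989) F63793 (iv D29603) (iv D25840) F41585 D24646 (iv F55423)
theorem F66275 : act 4 n30340 = n26727 := d8_2 (iv F55425) D30340 (iv D26727)
theorem F66276 : act 2 n27903 = n30340 := d12_3 F66275 (iv F55429) (iv F58999)
def n30341 : Q := act 4 n26740
theorem D30341 : act 4 n26740 = n30341 := rfl
theorem F66277 : act 0 n30341 = n28085 := d3_1 D30341 F59522 (iv F55484)
theorem F66278 : act 5 n30341 = n28085 := d18_2 (iv F55485) D30341 F59522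
theorem F66279 : act 6 n30341 = n28083 := d19_2 (iv F55486) D30341 F59515
def n30342 : Q := act 4 n26742
theorem D30342 : act 4 n26742 = n30342 := rfl
theorem F66280 : act 0 n30342 = n26743 := d3_1 D30342 (iv D26743) D26742
theorem F66281 : act 1 n30342 = n28087 := d8_1 D30342 F59531 (iv F55491)
theorem F66282 : act 3 n30342 = n28928 := d15_1 D30342 (iv D28928) (iv D25198) (iv F51583) (iv F55492)
theorem F66283 : act 5 n30342 = n27931 := d18_2 (iv F55493) D30342 F59070
def n30343 : Q := act 3 n26743
theorem D30343 : act 3 n26743 = n30343 := rfl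
theorem F66284 : act 0 n30343 = n28928 := d2_1 D30343 (iv F66282) F66280
theorem F66285 : act 1 n30343 = n26745 := d7_1 D30343 (iv D26745) (iv F55494)
theorem F66286 : act 4 n30343 = n27777 := d15_2 D26743 D30343 F58556 (iv F49522) (iv F49523)
theorem F66287 : act 5 n30343 = n27932 := d16_2 (iv F55495) D30343 (iv D27932)
theorem F66288 : act 2 n27554 = n30343 := d13_3 F66287 (iv F59072) (iv F57923)
theorem F66289 : act 6 n29887 = n30343 := d22_1 D29887 F66287 (iv F64771) F64769
def n30344 : Q := act 6 n26743
theorem D30344 : act 6 n26743 = n30344 := rfl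
theorem F66290 : act 1 n30344 = n28719 := d10_1 D30344 F61458 F54299 (iv F50046) (iv F55494)
theorem F66291 : act 2 n30344 = n28116 := d14_1 D30344 (iv F65516) F65513
theorem F66292 : act 3 n30344 = n29887 := d17_1 D30344 F66289 (iv D30343)
theorem F66293 : act 4 n30344 = n26744 := d19_1 D30344 (iv D26744) D26743
theorem F66294 : act 5 n30344 = n28273 := d22_2 (iv F55495) D30344 F60120 (iv D27931)
def n30345 : Q := act 4 n26757
theorem D30345 : act 4 n26757 = n30345 := rfl
theorem F66295 : act 0 n30345 = n26758 := d3_1 D30345 (iv D26758) D26757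
theorem F66296 : act 1 n30345 = n28241 := d8_1 D30345 F59998 (iv F55547)
theorem F66297 : act 2 n30345 = n26768 := d12_1 D30345 (iv D26768) (iv F55548)
theorem F66298 : act 3 n30345 = n28582 := d15_1 D30345 (iv F61847) F61846 F50749 (iv F55549)
theorem F66299 : act 6 n30345 = n26779 := d19_2 (iv F55550) D30345 F55608
def n30346 : Q := act 4 n26761
theorem D30346 : act 4 n26761 = n30346 := rfl
theorem F66300 : act 0 n30346 = n26763 := d3_1 D30346 (iv D26763) (iv F55563)
theorem F66301 : act 2 n30346 = n26762 := d12_1 D30346 (iv D26762) D26761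
theorem F66302 : act 6 n30346 = n27671 := d19_2 (iv F55564) D30346 F58197
theorem F66303 : act 3 n29672 = n30346 := d21_1 D29672 F66301 F64086 (iv D29682) (iv D25929) (iv F53261) D29671 F64051
def n30347 : Q := act 3 n26763
theorem D30347 : act 3 n26763 = n30347 := rfl
theorem F66304 : act 0 n30347 = n29672 := d2_1 D30347 F66303 F66300
theorem F66305 : act 2 n30347 = n29671 := d11_1 D30347 (iv D29671) F53261 D25929 D29682 (iv F64086) (iv F66301) (iv F66303) (iv D29672) (iv D25921) F41728 D21558 D25931 F61765 (iv F55568)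
def n30348 : Q := act 5 n26763
theorem D30348 : act 5 n26763 = n30348 := rfl
theorem F66306 : act 1 n30348 = n26836 := d9_1 D30348 F55800 (iv F57494) (iv F58583) F58581
theorem F66307 : act 2 n30348 = n26765 := d13_1 D30348 (iv D26765) (iv F55568)
theorem F66308 : act 4 n30348 = n26764 := d18_1 D30348 (iv D26764) D26763
theorem F66309 : act 6 n30348 = n29050 := d22_1 D30348 F62415 (iv F66302) F66300
def n30349 : Q := act 3 n26768
theorem D30349 : act 3 n26768 = n30349 := rfl
theorem F66310 : act 0 n30349 = n26770 := d2_1 D30349 (iv D26770) (iv F55581)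
theorem F66311 : act 1 n30349 = n30139 := d7_1 D30349 F65569 F58601
theorem F66312 : act 4 n30349 = n30138 := d15_2 D26768 D30349 F65566 F56711 (iv F45670)
theorem F66313 : act 2 n30148 = n30349 := d12_3 F66312 F65565 D30148
def n30350 : Q := act 5 n26768
theorem D30350 : act 5 n26768 = n30350 := rfl
theorem F66314 : act 0 n30350 = n26771 := d4_1 D30350 (iv D26771) (iv F55581)
theorem F66315 : act 1 n30350 = n28907 := d9_1 D30350 (iv D28907) (iv F62005) F62007 F58601
theorem F66316 : act 4 n30350 = n26769 := d18_1 D30350 (iv D26769) D26768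
theorem F66317 : act 6 n30350 = n26893 := d22_1 D30350 F55981 (iv D26772) (iv F55581)
def n30351 : Q := act 2 n26770
theorem D30351 : act 2 n26770 = n30351 := rfl
theorem F66318 : act 0 n30351 = n30148 := d1_1 D30351 F66313 F66310
theorem F66319 : act 1 n30351 = n28538 := d6_1 D30351 (iv F63116) F63115 (iv D26775) (iv F55586)
theorem F66320 : act 4 n30351 = n30146 := d12_2 F56713 D30351 F65596
theorem F66321 : act 3 n30351 = n28534 := d21_1 D30351 (iv D28534) (iv F50204) D28582 (iv F66298) F66297 D30349 F66310
theorem F66322 : act 5 n30179 = n30351 := d9_0 F66319 (iv F61244) (iv D26418) D26419 D30179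
def n30352 : Q := act 5 n26770
theorem D30352 : act 5 n26770 = n30352 := rfl
theorem F66323 : act 1 n30352 = n26801 := d9_1 D30352 (iv D26801) F43888 (iv F43757) (iv F55586)
theorem F66324 : act 2 n30352 = n30179 := d13_1 D30352 F66322 (iv D30351)
theorem F66325 : act 3 n30352 = n26771 := d16_1 D30352 (iv D26771) D26770
def n30353 : Q := act 6 n26770
theorem D30353 : act 6 n26770 = n30353 := rfl
theorem F66326 : act 3 n30353 = n26772 := d17_1 D30353 (iv D26772) D26770
def n30354 : Q := act 6 n26771
theorem D30354 : act 6 n26771 = n30354 := rfl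
theorem F66327 : act 0 n30354 = n26893 := d5_1 D30354 (iv F66317) F66314
theorem F66328 : act 4 n30354 = n26773 := d19_1 D30354 (iv D26773) (iv F55588)
theorem F66329 : act 5 n30354 = n27537 := d20_1 D30354 (iv F57891) D30350 F66317 F55981 (iv D26772) D26771
theorem F66330 : act 1 n27531 = n30354 := d24_14 (iv D30354) (iv D26771) F43754 D22383 F43760 (iv F45332) D27085 (iv F56645) F56554 F53057 D25859 F57879 (iv D27532) D27531
def n30355 : Q := act 1 n26772
theorem D30355 : act 1 n26772 = n30355 := rfl
theorem F66331 : act 0 n30355 = n30355 := d0_1 D30355 (iv D30355) (iv F57889) (iv D27537) F46537 F33913 (iv F46537) D27537 F57889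
theorem F66332 : act 2 n30355 = n26777 := d6_2 (iv F55589) D30355 (iv D26777) F43758 D22385
theorem F66333 : act 4 n30355 = n26774 := d8_2 (iv F55590) D30355 (iv D26774)
theorem F66334 : act 6 n30355 = n26777 := d10_2 D26772 D30355 (iv D26777) (iv D22383) (iv F43754)
def n30356 : Q := act 6 n26775
theorem D30356 : act 6 n26775 = n30356 := rfl
theorem F66335 : act 0 n30356 = n29782 := d5_1 D30356 F65115 F65110
theorem F66336 : act 1 n30356 = n30356 := d10_1 D30356 (iv D30356) (iv F63115) F63117 F63115
theorem F66337 : act 2 n30356 = n26776 := d14_1 D30356 (iv D26776) D26775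
theorem F66338 : act 4 n30356 = n30297 := d19_1 D30356 F66115 (iv F65105)
theorem F66339 : act 5 n30356 = n29779 := d20_1 D30356 F64415 (iv F65113) (iv F65115) (iv D29782) (iv F53511) (iv F55599)
def n30357 : Q := act 1 n26776
theorem D30357 : act 1 n26776 = n30357 := rfl
theorem F66340 : act 2 n30357 = n30357 := d6_2 F66337 D30357 (iv D30357) (iv F66337) F66336
theorem F66341 : act 3 n30357 = n26777 := d7_2 (iv F55600) D30357 (iv D26777)
theorem F66342 : act 4 n30357 = n30298 := d8_2 (iv F55601) D30357 (iv D30298)
theorem F66343 : act 0 n30357 = n30357 := d3_3 F66342 F66118 (iv F66342)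
def n30358 : Q := act 5 n26777
theorem D30358 : act 5 n26777 = n30358 := rfl
theorem F66344 : act 0 n30358 = n30358 := d4_1 D30358 (iv D30358) F55604
theorem F66345 : act 1 n30358 = n27084 := d9_1 D30358 (iv D27084) F45332 (iv F43760) D26777
theorem F66346 : act 4 n30358 = n26778 := d18_1 D30358 (iv D26778) (iv F55603)
def n30359 : Q := act 5 n26779
theorem D30359 : act 5 n26779 = n30359 := rfl
theorem F66347 : act 0 n30359 = n26780 := d4_1 D30359 (iv D26780) D26779
theorem F66348 : act 1 n30359 = n30302 := d9_1 D30359 F66133 (iv D27424) (iv F57597) F57595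
theorem F66349 : act 2 n30359 = n30354 := d13_1 D30359 F66329 (iv F57890)
theorem F66350 : act 4 n30359 = n26781 := d18_1 D30359 (iv D26781) (iv F55608)
theorem F66351 : act 6 n30359 = n28281 := d22_1 D30359 F60153 F55553 D26779
def n30360 : Q := act 6 n26780
theorem D30360 : act 6 n26780 = n30360 := rfl
theorem F66352 : act 0 n30360 = n28281 := d5_1 D30360 (iv F66351) F66347
theorem F66353 : act 1 n30360 = n26939 := d10_1 D30360 (iv F56633) (iv D27081) (iv F45347) (iv F55609)
theorem F66354 : act 2 n30360 = n30350 := d14_1 D30360 F66317 F55980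
theorem F66355 : act 4 n30360 = n26782 := d19_1 D30360 (iv D26782) (iv F55610)
theorem F66356 : act 5 n30360 = n30345 := d20_1 D30360 F66299 D30359 F66351 F60153 F55553 D26780
def n30361 : Q := act 2 n26790
theorem D30361 : act 2 n26790 = n30361 := rfl
theorem F66357 : act 3 n30361 = n30235 := d21_1 D30361 F65881 (iv F58226) F58225 F54051 F46453 (iv F57749) (iv F57752)
def n30362 : Q := act 3 n26795
theorem D30362 : act 3 n26795 = n30362 := rfl
theorem F66358 : act 0 n30362 = n29619 := d2_1 D30362 F63848 (iv F55662)
theorem F66359 : act 1 n30362 = n26798 := d7_1 D30362 (iv D26798) (iv F55663)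
theorem F66360 : act 4 n30362 = n29034 := d15_2 D26795 D30362 (iv F66148) (iv D30306) F55215
theorem F66361 : act 5 n30362 = n29617 := d16_2 F55665 D30362 (iv D29617)
theorem F66362 : act 2 n30362 = n29032 := d21_2 (iv F55664) D30362 (iv F63892) F63891 F53100 F41630 (iv F41621) (iv F53080)
def n30363 : Q := act 5 n26798
theorem D30363 : act 5 n26798 = n30363 := rfl
theorem F66363 : act 0 n30363 = n26801 := d4_1 D30363 (iv D26801) (iv F55674)
theorem F66364 : act 2 n30363 = n28477 := d13_1 D30363 (iv F65787) F65784
theorem F66365 : act 3 n30363 = n26799 := d16_1 D30363 (iv D26799) D26798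
def n30364 : Q := act 6 n26798
theorem D30364 : act 6 n26798 = n30364 := rfl
theorem F66366 : act 0 n30364 = n26802 := d5_1 D30364 (iv D26802) (iv F55674)
theorem F66367 : act 3 n30364 = n26800 := d17_1 D30364 (iv D26800) D26798
def n30365 : Q := act 6 n26801
theorem D30365 : act 6 n26801 = n30365 := rfl
theorem F66368 : act 2 n30365 = n30185 := d14_1 D30365 (iv D30185) (iv F55681)
theorem F66369 : act 3 n30365 = n26803 := d17_1 D30365 (iv D26803) (iv F55682)
theorem F66370 : act 5 n30365 = n30364 := d22_2 D26801 D30365 (iv D30364) F55674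
def n30366 : Q := act 5 n26802
theorem D30366 : act 5 n26802 = n30366 := rfl
theorem F66371 : act 0 n30366 = n30365 := d4_1 D30366 F66370 F66366
theorem F66372 : act 3 n30366 = n26804 := d16_1 D30366 (iv D26804) (iv F55683)
theorem F66373 : act 6 n30366 = n30363 := d20_2 D26802 D30366 (iv D30363) D30364 (iv F66370) (iv D30365) (iv D26801)
def n30367 : Q := act 1 n26803
theorem D30367 : act 1 n26803 = n30367 := rfl
theorem F66374 : act 2 n30367 = n30330 := d6_2 (iv F55684) D30367 (iv D30330) F55318 F44203
theorem F66375 : act 4 n30367 = n26805 := d8_2 (iv F55685) D30367 (iv D26805)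
theorem F66376 : act 5 n30367 = n30314 := d9_2 (iv F55686) D30367 F66176 D30318 (iv F66197)
theorem F66377 : act 6 n30367 = n27531 := d10_2 D26803 D30367 F66330 (iv D30354) F55587
def n30368 : Q := act 1 n26807
theorem D30368 : act 1 n26807 = n30368 := rfl
theorem F66378 : act 3 n30368 = n26808 := d7_2 (iv F55698) D30368 (iv D26808)
theorem F66379 : act 4 n30368 = n30331 := d8_2 (iv F55699) D30368 (iv D30331)
theorem F66380 : act 6 n30347 = n30368 := d17_0 F66378 (iv F55703) D30347
def n30369 : Q := act 2 n26809
theorem D30369 : act 2 n26809 = n30369 := rfl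
theorem F66381 : act 0 n30369 = n26810 := d1_1 D30369 (iv D26810) D26809
theorem F66382 : act 1 n30369 = n27416 := d6_1 D30369 (iv D27416) (iv D23284) (iv F46278) F55706
theorem F66383 : act 4 n30369 = n26811 := d12_2 (iv F55704) D30369 (iv D26811)
theorem F66384 : act 5 n30369 = n27407 := d13_2 (iv F55705) D30369 (iv D27407)
theorem F66385 : act 6 n26809 = n30369 := d20_0 F66384 (iv F57574) F51164 F55709 (iv F57578) (iv D27408) (iv F55705)
def n30370 : Q := act 5 n26815
theorem D30370 : act 5 n26815 = n30370 := rfl
theorem F66386 : act 0 n30370 = n27807 := d4_1 D30370 F58675 (iv F55726)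
theorem F66387 : act 1 n30370 = n28191 := d9_1 D30370 (iv D28191) (iv D24247) (iv F48963) (iv F55727)
theorem F66388 : act 2 n30370 = n28895 := d13_1 D30370 F61977 (iv F55728)
theorem F66389 : act 3 n30370 = n26816 := d16_1 D30370 (iv D26816) (iv F55729)
theorem F66390 : act 4 n30370 = n27808 := d18_1 D30370 F58679 (iv F55730)
theorem F66391 : act 6 n30370 = n28895 := d20_2 D26815 D30370 F61977 F55725 (iv F58675) F58676 F51280
def n30371 : Q := act 3 n26819
theorem D30371 : act 3 n26819 = n30371 := rfl
theorem F66392 : act 0 n30371 = n29247 := d2_1 D30371 F62867 (iv F55740)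
theorem F66393 : act 4 n30371 = n26821 := d15_2 D26819 D30371 (iv D26821) (iv D22463) D22462
def n30372 : Q := act 6 n26819
theorem D30372 : act 6 n26819 = n30372 := rfl
theorem F66394 : act 0 n30372 = n30262 := d5_1 D30372 (iv D30262) (iv F55740)
theorem F66395 : act 4 n30372 = n26820 := d19_1 D30372 (iv D26820) D26819
theorem F66396 : act 5 n30372 = n30263 := d20_1 D30372 F65984 F57726 D30262 F65982 (iv F65979) F65978
theorem F66397 : act 1 n27368 = n30372 := d8_3 F66395 (iv F55744) (iv F57462)
def n30373 : Q := act 2 n26821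
theorem D30373 : act 2 n26821 = n30373 := rfl
theorem F66398 : act 0 n30373 = n29246 := d1_1 D30373 (iv D29246) (iv F55745)
theorem F66399 : act 1 n30373 = n29207 := d6_1 D30373 F62749 D29210 F62775 F62773
def n30374 : Q := act 6 n26821
theorem D30374 : act 6 n26821 = n30374 := rfl
theorem F66400 : act 0 n30374 = n29249 := d5_1 D30374 (iv D29249) (iv F55745)
theorem F66401 : act 3 n30374 = n26822 := d17_1 D30374 (iv D26822) D26821
theorem F66402 : act 5 n30374 = n29258 := d20_1 D30374 F62893 (iv D29248) D29249 F62872 (iv F62865) F62864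
def n30375 : Q := act 2 n26830
theorem D30375 : act 2 n26830 = n30375 := rfl
theorem F66403 : act 1 n30375 = n28946 := d6_1 D30375 F62158 F54718 (iv F44004) (iv F55780)
theorem F66404 : act 6 n30375 = n30278 := d14_2 (iv F58626) D30375 F66036
theorem F66405 : act 3 n30375 = n28942 := d21_1 D30375 (iv D28942) (iv F54588) F54587 (iv F52435) (iv F55776) (iv F58632) F58630
def n30376 : Q := act 4 n26830
theorem D30376 : act 4 n26830 = n30376 := rfl
theorem F66406 : act 1 n30376 = n26833 := d8_1 D30376 (iv D26833) (iv F55780)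
def n30377 : Q := act 3 n26831
theorem D30377 : act 3 n26831 = n30377 := rfl
theorem F66407 : act 0 n30377 = n29239 := d2_1 D30377 F62840 (iv F55781)
theorem F66408 : act 1 n30377 = n26835 := d7_1 D30377 (iv D26835) (iv F55782)
theorem F66409 : act 5 n30377 = n29239 := d16_2 (iv F55784) D30377 F62840
theorem F66410 : act 6 n30377 = n29051 := d17_2 F55785 D30377 (iv D29051)
def n30378 : Q := act 3 n26833
theorem D30378 : act 3 n26833 = n30378 := rfl
theorem F66411 : act 0 n30378 = n26837 := d2_1 D30378 (iv D26837) (iv F55790)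
theorem F66412 : act 4 n30378 = n26835 := d15_2 D26833 D30378 (iv D26835) (iv D22479) D22478
def n30379 : Q := act 6 n26833
theorem D30379 : act 6 n26833 = n30379 := rfl
theorem F66413 : act 0 n30379 = n26838 := d5_1 D30379 (iv D26838) (iv F55790)
theorem F66414 : act 2 n30379 = n30372 := d14_1 D30379 (iv D30372) (iv F55791)
theorem F66415 : act 4 n30379 = n26834 := d19_1 D30379 (iv D26834) D26833
theorem F66416 : act 5 n30379 = n27451 := d20_1 D30379 F57682 F46378 D26838 (iv F65990) F65991 F57723
def n30380 : Q := act 2 n26835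
theorem D30380 : act 2 n26835 = n30380 := rfl
theorem F66417 : act 0 n30380 = n26840 := d1_1 D30380 (iv D26840) (iv F55796)
theorem F66418 : act 5 n30380 = n29061 := d13_2 F57534 D30380 (iv F62449)
theorem F66419 : act 3 n30380 = n29062 := d21_1 D30380 F62456 (iv D26337) F42323 F28568 (iv F30173) D22486 (iv F55796)
def n30381 : Q := act 6 n26835
theorem D30381 : act 6 n26835 = n30381 := rfl
theorem F66420 : act 0 n30381 = n26841 := d5_1 D30381 (iv D26841) (iv F55796)
theorem F66421 : act 3 n30381 = n26836 := d17_1 D30381 (iv D26836) D26835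
theorem F66422 : act 5 n30381 = n27396 := d22_2 F57534 D30381 (iv D27396) (iv F57533)
def n30382 : Q := act 2 n26837
theorem D30382 : act 2 n26837 = n30382 := rfl
theorem F66423 : act 4 n30382 = n26840 := d12_2 (iv F55801) D30382 (iv D26840)
def n30383 : Q := act 6 n26837
theorem D30383 : act 6 n26837 = n30383 := rfl
theorem F66424 : act 3 n30383 = n26838 := d17_1 D30383 (iv D26838) D26837
theorem F66425 : act 4 n30383 = n26841 := d19_1 D30383 (iv D26841) (iv F55801)
def n30384 : Q := act 1 n26838
theorem D30384 : act 1 n26838 = n30384 := rfl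
theorem F66426 : act 4 n30384 = n26839 := d8_2 (iv F55802) D30384 (iv D26839)
theorem F66427 : act 5 n30384 = n28917 := d9_2 F65990 D30384 F62048 F55316 (iv F65988)
theorem F66428 : act 0 n30384 = n28914 := d23_3 (iv F65982) F65980 D30384 F62044 F51476 F40026 (iv F39897) F39899 F27381 (iv F30860) (iv F44617) (iv F56149) (iv F59768) F59767 F57697 (iv D27454) D27453 F65985 (iv D30263)
theorem F66429 : act 2 n28913 = n30384 := d1_0 F66428 F62043 (iv F62040)
def n30385 : Q := act 1 n26840
theorem D30385 : act 1 n26840 = n30385 := rfl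
def n30386 : Q := act 3 n26840
theorem D30386 : act 3 n26840 = n30386 := rfl
theorem F66430 : act 0 n30386 = n29062 := d2_1 D30386 (iv F66419) F66417
theorem F66431 : act 2 n30386 = n30060 := d11_1 D30386 (iv D30060) F54247 F42310 (iv F44006) D26835 D30380 F66419 F62456 (iv D26337) F42323 F28568 (iv F30173) D22486 D26840
theorem F66432 : act 5 n30386 = n29060 := d16_2 F57535 D30386 (iv F62448)
def n30387 : Q := act 6 n26840
theorem D30387 : act 6 n26840 = n30387 := rfl
theorem F66433 : act 2 n30387 = n26841 := d14_1 D30387 (iv D26841) D26840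
def n30388 : Q := act 1 n26841
theorem D30388 : act 1 n26841 = n30388 := rfl
theorem F66434 : act 3 n30388 = n26842 := d7_2 (iv F55807) D30388 (iv D26842)
def n30389 : Q := act 5 n26841
theorem D30389 : act 5 n26841 = n30389 := rfl
theorem F66435 : act 0 n30389 = n27396 := d4_1 D30389 (iv F66422) F66420
theorem F66436 : act 3 n30389 = n26843 := d16_1 D30389 (iv D26843) (iv F55807)
theorem F66437 : act 6 n30389 = n27393 := d20_2 D26841 D30389 F57534 D30381 F66422 (iv D27396) F46247
def n30390 : Q := act 1 n26850
theorem D30390 : act 1 n26850 = n30390 := rfl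
theorem F66438 : act 0 n30390 = n30390 := d0_1 D30390 (iv D30390) F55832 (iv F51787) F51786 F44927 (iv F51786) F51787 (iv F55832)
theorem F66439 : act 3 n30390 = n28521 := d7_2 F60770 D30390 F60826
theorem F66440 : act 4 n30390 = n28932 := d8_2 (iv F55834) D30390 (iv D28932)
theorem F66441 : act 6 n30390 = n28520 := d10_2 (iv F55835) D30390 (iv D28520) F50072 F51628
def n30391 : Q := act 3 n26854
theorem D30391 : act 3 n26854 = n30391 := rfl
theorem F66442 : act 0 n30391 = n29192 := d2_1 D30391 F62714 (iv F55848)
theorem F66443 : act 4 n30391 = n26856 := d15_2 D26854 D30391 (iv D26856) (iv D22522) D22521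
def n30392 : Q := act 5 n26854
theorem D30392 : act 5 n26854 = n30392 := rfl
theorem F66444 : act 0 n30392 = n30249 := d4_1 D30392 (iv D30249) (iv F55848)
theorem F66445 : act 4 n30392 = n26855 := d18_1 D30392 (iv D26855) D26854
theorem F66446 : act 6 n30392 = n30250 := d20_2 (iv F65932) D30392 F65937 F57505 D30249 F65935 (iv F65930)
theorem F66447 : act 1 n27456 = n30392 := d8_3 F66445 (iv F55852) (iv F57692)
def n30393 : Q := act 2 n26856
theorem D30393 : act 2 n26856 = n30393 := rfl
theorem F66448 : act 0 n30393 = n29191 := d1_1 D30393 (iv D29191) (iv F55853)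
theorem F66449 : act 1 n30393 = n29263 := d6_1 D30393 F62908 D29265 F62937 F62935
def n30394 : Q := act 5 n26856
theorem D30394 : act 5 n26856 = n30394 := rfl
theorem F66450 : act 0 n30394 = n29193 := d4_1 D30394 (iv D29193) (iv F55853)
theorem F66451 : act 3 n30394 = n26857 := d16_1 D30394 (iv D26857) D26856
theorem F66452 : act 6 n30394 = n29203 := d20_2 (iv F62712) D30394 F62740 (iv D29194) D29193 F62716 (iv F62711)
def n30395 : Q := act 2 n26865
theorem D30395 : act 2 n26865 = n30395 := rfl
theorem F66453 : act 1 n30395 = n28950 := d6_1 D30395 F62171 F54814 (iv F44143) (iv F55888)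
theorem F66454 : act 5 n30395 = n30339 := d13_2 F58528 D30395 F66271
theorem F66455 : act 3 n30395 = n28948 := d21_1 D30395 (iv D28948) (iv F54579) F54578 (iv F52309) (iv F55884) (iv F58534) F58532
def n30396 : Q := act 4 n26865
theorem D30396 : act 4 n26865 = n30396 := rfl
theorem F66456 : act 1 n30396 = n26868 := d8_1 D30396 (iv D26868) (iv F55888)
def n30397 : Q := act 3 n26866
theorem D30397 : act 3 n26866 = n30397 := rfl
theorem F66457 : act 0 n30397 = n29184 := d2_1 D30397 F62695 (iv F55889)
theorem F66458 : act 1 n30397 = n26870 := d7_1 D30397 (iv D26870) (iv F55890)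
theorem F66459 : act 5 n30397 = n29044 := d16_2 F55893 D30397 (iv D29044)
theorem F66460 : act 6 n30397 = n29184 := d17_2 (iv F55892) D30397 F62695
def n30398 : Q := act 3 n26868
theorem D30398 : act 3 n26868 = n30398 := rfl
theorem F66461 : act 0 n30398 = n26872 := d2_1 D30398 (iv D26872) (iv F55898)
theorem F66462 : act 4 n30398 = n26870 := d15_2 D26868 D30398 (iv D26870) (iv D22538) D22537
def n30399 : Q := act 5 n26868
theorem D30399 : act 5 n26868 = n30399 := rfl
theorem F66463 : act 0 n30399 = n26873 := d4_1 D30399 (iv D26873) (iv F55898)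
theorem F66464 : act 2 n30399 = n30392 := d13_1 D30399 (iv D30392) (iv F55899)
theorem F66465 : act 4 n30399 = n26869 := d18_1 D30399 (iv D26869) D26868
theorem F66466 : act 6 n30399 = n27363 := d20_2 F57502 D30399 F57452 F46209 D26873 (iv F65944) F65943
def n30400 : Q := act 2 n26870
theorem D30400 : act 2 n26870 = n30400 := rfl
theorem F66467 : act 0 n30400 = n26875 := d1_1 D30400 (iv D26875) (iv F55904)
theorem F66468 : act 6 n30400 = n29072 := d14_2 F57742 D30400 F62494
theorem F66469 : act 3 n30400 = n29074 := d21_1 D30400 F62497 (iv D26413) F42444 F28631 (iv F30314) D22545 (iv F55904)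
def n30401 : Q := act 5 n26870
theorem D30401 : act 5 n26870 = n30401 := rfl
theorem F66470 : act 0 n30401 = n26876 := d4_1 D30401 (iv D26876) (iv F55904)
theorem F66471 : act 3 n30401 = n26871 := d16_1 D30401 (iv D26871) D26870
theorem F66472 : act 6 n30401 = n27477 := d22_1 D30401 (iv D27477) F46417 (iv F55904)
def n30402 : Q := act 2 n26872
theorem D30402 : act 2 n26872 = n30402 := rfl
theorem F66473 : act 4 n30402 = n26875 := d12_2 (iv F55909) D30402 (iv D26875)
def n30403 : Q := act 5 n26872
theorem D30403 : act 5 n26872 = n30403 := rfl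
theorem F66474 : act 3 n30403 = n26873 := d16_1 D30403 (iv D26873) D26872
theorem F66475 : act 4 n30403 = n26876 := d18_1 D30403 (iv D26876) (iv F55909)
def n30404 : Q := act 1 n26873
theorem D30404 : act 1 n26873 = n30404 := rfl
theorem F66476 : act 4 n30404 = n26874 := d8_2 (iv F55910) D30404 (iv D26874)
theorem F66477 : act 6 n30404 = n28903 := d10_2 F65944 D30404 F62001 F55690 (iv F65941)
theorem F66478 : act 0 n28900 = n30404 := d5_3 F66477 F62000 (iv F61997)
theorem F66479 : act 2 n28899 = n30404 := d14_3 F66477 F62002 (iv F61994)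
def n30405 : Q := act 1 n26875
theorem D30405 : act 1 n26875 = n30405 := rfl
def n30406 : Q := act 3 n26875
theorem D30406 : act 3 n26875 = n30406 := rfl
theorem F66480 : act 0 n30406 = n29074 := d2_1 D30406 (iv F66469) F66467
theorem F66481 : act 2 n30406 = n30154 := d11_1 D30406 (iv D30154) F54425 F42431 (iv F44145) D26870 D30400 F66469 F62497 (iv D26413) F42444 F28631 (iv F30314) D22545 D26875
theorem F66482 : act 6 n30406 = n29071 := d17_2 F57743 D30406 (iv F62490)
def n30407 : Q := act 5 n26875
theorem D30407 : act 5 n26875 = n30407 := rfl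
theorem F66483 : act 2 n30407 = n26876 := d13_1 D30407 (iv D26876) D26875
def n30408 : Q := act 1 n26876
theorem D30408 : act 1 n26876 = n30408 := rfl
theorem F66484 : act 3 n30408 = n26877 := d7_2 (iv F55915) D30408 (iv D26877)
def n30409 : Q := act 6 n26876
theorem D30409 : act 6 n26876 = n30409 := rfl
theorem F66485 : act 0 n30409 = n27477 := d5_1 D30409 (iv F66472) F66470
theorem F66486 : act 3 n30409 = n26878 := d17_1 D30409 (iv D26878) (iv F55915)
theorem F66487 : act 5 n30409 = n27475 := d20_1 D30409 F57742 D30401 F66472 (iv D27477) F46417 D26876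
def n30410 : Q := act 1 n26885
theorem D30410 : act 1 n26885 = n30410 := rfl
theorem F66488 : act 0 n30410 = n30410 := d0_1 D30410 (iv D30410) F55942 F51799 F51622 F44942 (iv F51622) (iv F51799) (iv F55942)
theorem F66489 : act 3 n30410 = n28469 := d7_2 F60608 D30410 F60670
theorem F66490 : act 4 n30410 = n28941 := d8_2 (iv F55944) D30410 (iv D28941)
theorem F66491 : act 5 n30410 = n28468 := d9_2 F55945 D30410 (iv D28468) F49936 F51793
def n30411 : Q := act 3 n26890
theorem D30411 : act 3 n26890 = n30411 := rfl
theorem F66492 : act 0 n30411 = n30088 := d2_1 D30411 F65419 (iv F55969)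
theorem F66493 : act 1 n30411 = n29716 := d7_1 D30411 F64170 (iv F55970)
theorem F66494 : act 2 n30411 = n30328 := d11_1 D30411 F66229 F55314 (iv F55839) F55838 F51626 (iv F54303) (iv F65419) (iv F66232) F66233 F55318 F51631 (iv D25211) (iv F44263) (iv F55971)
theorem F66495 : act 5 n30411 = n28424 := d16_2 (iv F55972) D30411 F60536
theorem F66496 : act 6 n30411 = n30108 := d17_2 F61465 D30411 F65489
def n30412 : Q := act 3 n26893
theorem D30412 : act 3 n26893 = n30412 := rfl
theorem F66497 : act 1 n30412 = n26894 := d7_1 D30412 (iv D26894) (iv F55979)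
theorem F66498 : act 4 n30412 = n28901 := d15_2 D26893 D30412 (iv D28901) F51349 (iv F44314)
theorem F66499 : act 5 n30412 = n30353 := d16_2 (iv F55981) D30412 F66326
def n30413 : Q := act 2 n26894
theorem D30413 : act 2 n26894 = n30413 := rfl
theorem F66500 : act 0 n30413 = n26903 := d1_1 D30413 (iv D26903) (iv F55982)
def n30414 : Q := act 5 n26894
theorem D30414 : act 5 n26894 = n30414 := rfl
theorem F66501 : act 0 n30414 = n26904 := d4_1 D30414 (iv D26904) (iv F55982)
theorem F66502 : act 3 n30414 = n26895 := d16_1 D30414 (iv D26895) D26894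
theorem F66503 : act 6 n30414 = n26924 := d22_1 D30414 F56078 (iv D26905) (iv F55982)
def n30415 : Q := act 6 n26894
theorem D30415 : act 6 n26894 = n30415 := rfl
theorem F66504 : act 0 n30415 = n26905 := d5_1 D30415 (iv D26905) (iv F55982)
theorem F66505 : act 3 n30415 = n26896 := d17_1 D30415 (iv D26896) D26894
theorem F66506 : act 4 n30415 = n26921 := d19_1 D30415 (iv F56068) F56019
theorem F66507 : act 5 n30415 = n26919 := d20_1 D30415 F56066 (iv D26904) D26905 (iv F56078) (iv F66503) (iv D30414)
def n30416 : Q := act 1 n26895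
theorem D30416 : act 1 n26895 = n30416 := rfl
theorem F66508 : act 0 n30416 = n30416 := d0_1 D30416 (iv D30416) F55983 F44347 F33747 F24112 (iv F33747) (iv F44347) (iv F55983)
theorem F66509 : act 2 n30416 = n30358 := d6_2 (iv F55984) D30416 F66345 F56639 F45334
theorem F66510 : act 4 n30416 = n26897 := d8_2 (iv F55985) D30416 (iv D26897)
theorem F66511 : act 5 n30416 = n30355 := d9_2 D26895 D30416 (iv D30355) (iv F55981) F55979
theorem F66512 : act 6 n30416 = n30358 := d10_2 (iv F55986) D30416 F66345 (iv F56641) F51457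
def n30417 : Q := act 1 n26896
theorem D30417 : act 1 n26896 = n30417 := rfl
theorem F66513 : act 2 n30417 = n28908 := d6_2 (iv F55988) D30417 F62017 F59053 (iv D26899)
theorem F66514 : act 4 n30417 = n26898 := d8_2 (iv F55989) D30417 (iv D26898)
theorem F66515 : act 5 n30417 = n30404 := d9_2 (iv F55990) D30417 (iv D30404) (iv D26873) (iv F44492)
theorem F66516 : act 6 n30417 = n28907 := d10_2 D26896 D30417 (iv F66315) F66317 F55979
def n30418 : Q := act 2 n26900
theorem D30418 : act 2 n26900 = n30418 := rfl
theorem F66517 : act 4 n30418 = n26903 := d12_2 (iv F56003) D30418 (iv D26903)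
theorem F66518 : act 3 n30418 = n26903 := d21_1 D30418 (iv D26903) (iv D22603) F30437 D17362 D22607 D26907 F56018
def n30419 : Q := act 6 n26900
theorem D30419 : act 6 n26900 = n30419 := rfl
theorem F66519 : act 0 n30419 = n26921 := d5_1 D30419 (iv F56068) F56018
theorem F66520 : act 3 n30419 = n26901 := d17_1 D30419 (iv D26901) D26900
theorem F66521 : act 4 n30419 = n26905 := d19_1 D30419 (iv D26905) (iv F56003)
theorem F66522 : act 5 n26917 = n30419 := d22_0 (iv D30419) F56072 (iv D26922) (iv F56059)
def n30420 : Q := act 1 n26901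
theorem D30420 : act 1 n26901 = n30420 := rfl
theorem F66523 : act 2 n30420 = n28921 := d6_2 (iv F56005) D30420 F62060 F58982 (iv D26918)
theorem F66524 : act 4 n30420 = n26902 := d8_2 (iv F56006) D30420 (iv D26902)
theorem F66525 : act 5 n30420 = n28920 := d9_2 F56007 D30420 (iv F66092) F66094 F56056
theorem F66526 : act 6 n30420 = n30384 := d10_2 D26901 D30420 (iv D30384) (iv D26838) (iv F44340)
def n30421 : Q := act 1 n26903
theorem D30421 : act 1 n26903 = n30421 := rfl
theorem F66527 : act 2 n30421 = n30385 := d6_2 D26903 D30421 (iv D30385) (iv D26840) (iv F44346)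
def n30422 : Q := act 5 n26903
theorem D30422 : act 5 n26903 = n30422 := rfl
theorem F66528 : act 2 n30422 = n26904 := d13_1 D30422 (iv D26904) D26903
def n30423 : Q := act 6 n26903
theorem D30423 : act 6 n26903 = n30423 := rfl
theorem F66529 : act 2 n30423 = n26905 := d14_1 D30423 (iv D26905) D26903
def n30424 : Q := act 1 n26905
theorem D30424 : act 1 n26905 = n30424 := rfl
theorem F66530 : act 3 n30424 = n26906 := d7_2 (iv F56014) D30424 (iv D26906)
theorem F66531 : act 6 n30424 = n30388 := d10_2 D26905 D30424 (iv D30388) (iv D26841) (iv F44346)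
def n30425 : Q := act 2 n26907
theorem D30425 : act 2 n26907 = n30425 := rfl
theorem F66532 : act 0 n30425 = n30418 := d1_1 D30425 (iv D30418) (iv F56018)
theorem F66533 : act 3 n30425 = n30413 := d11_2 D26907 D30425 (iv D30413) (iv D26894) F44317 D22596 (iv F44341) D26900 D30418 F66518 (iv D26903) (iv D22603) F30437 D17362 D22607
theorem F66534 : act 4 n30425 = n30413 := d12_2 (iv F56019) D30425 (iv D30413)
def n30426 : Q := act 5 n26907
theorem D30426 : act 5 n26907 = n30426 := rfl
theorem F66535 : act 0 n30426 = n26922 := d4_1 D30426 (iv F56072) (iv F56018)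
theorem F66536 : act 3 n30426 = n26908 := d16_1 D30426 (iv D26908) D26907
theorem F66537 : act 4 n30426 = n30414 := d18_1 D30426 (iv D30414) (iv F56019)
theorem F66538 : act 6 n30426 = n26917 := d20_2 (iv F56068) D30426 F66522 (iv D30419) F56072 (iv D26922) D26921
def n30427 : Q := act 1 n26908
theorem D30427 : act 1 n26908 = n30427 := rfl
theorem F66539 : act 0 n30427 = n30427 := d0_1 D30427 (iv D30427) F56020 F44499 F33830 F24151 (iv F33830) (iv F44499) (iv F56020)
theorem F66540 : act 2 n30427 = n30299 := d6_2 (iv F56021) D30427 F66120 F56718 F45407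
theorem F66541 : act 4 n30427 = n26909 := d8_2 (iv F56022) D30427 (iv D26909)
theorem F66542 : act 5 n30427 = n30299 := d9_2 D26908 D30427 F66120 (iv F56720) F51348
theorem F66543 : act 6 n30427 = n30295 := d10_2 (iv F56023) D30427 (iv D30295) (iv F56058) F56056
def n30428 : Q := act 3 n26913
theorem D30428 : act 3 n26913 = n30428 := rfl
theorem F66544 : act 0 n30428 = n30185 := d2_1 D30428 F65715 (iv F56046)
theorem F66545 : act 1 n30428 = n29934 := d7_1 D30428 F64934 (iv F56047)
theorem F66546 : act 2 n30428 = n30366 := d11_1 D30428 F66372 F55688 (iv F55949) F55948 F51791 (iv F54489) (iv F65715) (iv F66368) F66369 F55684 F51797 (iv D25259) (iv F44428) (iv F56048)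
theorem F66547 : act 5 n30428 = n30205 := d16_2 F61615 D30428 F65790
theorem F66548 : act 6 n30428 = n28477 := d17_2 (iv F56049) D30428 F60695
def n30429 : Q := act 3 n26916
theorem D30429 : act 3 n26916 = n30429 := rfl
theorem F66549 : act 1 n30429 = n26917 := d7_1 D30429 (iv D26917) (iv F56056)
theorem F66550 : act 4 n30429 = n28915 := d15_2 D26916 D30429 (iv D28915) F51458 (iv F44476)
theorem F66551 : act 6 n30429 = n30293 := d17_2 (iv F56058) D30429 F66100
def n30430 : Q := act 2 n26917
theorem D30430 : act 2 n26917 = n30430 := rfl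
theorem F66552 : act 0 n30430 = n26920 := d1_1 D30430 (iv D26920) (iv F56059)
def n30431 : Q := act 2 n26919
theorem D30431 : act 2 n26919 = n30431 := rfl
theorem F66553 : act 4 n30431 = n26920 := d12_2 (iv F56065) D30431 (iv D26920)
theorem F66554 : act 6 n30431 = n30422 := d14_2 (iv F56066) D30431 F66528
theorem F66555 : act 3 n30431 = n26920 := d21_1 D30431 (iv D26920) (iv D22643) F30560 D17439 D22647 D26924 F56076
def n30432 : Q := act 1 n26920
theorem D30432 : act 1 n26920 = n30432 := rfl
theorem F66556 : act 2 n30432 = n30405 := d6_2 D26920 D30432 (iv D30405) (iv D26875) (iv F44495)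
def n30433 : Q := act 5 n26920
theorem D30433 : act 5 n26920 = n30433 := rfl
theorem F66557 : act 2 n30433 = n26921 := d13_1 D30433 (iv D26921) D26920
theorem F66558 : act 6 n30425 = n30433 := d14_0 F66557 (iv F56068) D30425
def n30434 : Q := act 6 n26920
theorem D30434 : act 6 n26920 = n30434 := rfl
theorem F66559 : act 2 n30434 = n26922 := d14_1 D30434 (iv D26922) D26920
theorem F66560 : act 3 n30434 = n30422 := d17_1 D30434 (iv F66554) F66555
theorem F66561 : act 4 n30434 = n30422 := d19_1 D30434 (iv F66554) F66553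
theorem F66562 : act 5 n30418 = n30434 := d22_0 (iv D30434) D30433 (iv F66558) F66532
def n30435 : Q := act 1 n26921
theorem D30435 : act 1 n26921 = n30435 := rfl
theorem F66563 : act 3 n30435 = n26923 := d7_2 (iv F56067) D30435 (iv D26923)
theorem F66564 : act 5 n30435 = n30408 := d9_2 D26921 D30435 (iv D30408) (iv D26876) (iv F44495)
def n30436 : Q := act 2 n26924
theorem D30436 : act 2 n26924 = n30436 := rfl
theorem F66565 : act 0 n30436 = n30431 := d1_1 D30436 (iv D30431) (iv F56076)
theorem F66566 : act 3 n30436 = n30430 := d11_2 D26924 D30436 (iv D30430) (iv D26917) F44479 (iv F44361) (iv F44493) D26919 D30431 F66555 (iv D26920) (iv D22643) F30560 D17439 D22647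
theorem F66567 : act 4 n30436 = n30430 := d12_2 (iv F56077) D30436 (iv D30430)
theorem F66568 : act 5 n30436 = n30423 := d13_2 (iv F56078) D30436 F66529
def n30437 : Q := act 4 n26936
theorem D30437 : act 4 n26936 = n30437 := rfl
theorem F66569 : act 0 n30437 = n30259 := d3_1 D30437 F65967 (iv F56139)
theorem F66570 : act 1 n30437 = n26938 := d8_1 D30437 (iv D26938) (iv F56140)
theorem F66571 : act 2 n30437 = n30258 := d12_1 D30437 F65964 (iv F56141)
theorem F66572 : act 6 n30437 = n27805 := d19_2 (iv F56142) D30437 (iv D27805)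
def n30438 : Q := act 5 n26936
theorem D30438 : act 5 n26936 = n30438 := rfl
theorem F66573 : act 0 n30438 = n28898 := d4_1 D30438 F61990 (iv F56139)
theorem F66574 : act 1 n30438 = n26942 := d9_1 D30438 (iv D26942) F44612 (iv F44596) (iv F56140)
theorem F66575 : act 2 n30438 = n30256 := d13_1 D30438 F65959 (iv F56141)
theorem F66576 : act 3 n30438 = n26937 := d16_1 D30438 (iv D26937) D26936
theorem F66577 : act 6 n30438 = n28946 := d20_2 (iv F56142) D30438 F62159 F58664 (iv F61990) F61991 F54721
def n30439 : Q := act 3 n26939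
theorem D30439 : act 3 n26939 = n30439 := rfl
theorem F66578 : act 4 n30439 = n28503 := d15_2 D26939 D30439 F60753 F50018 (iv F44598)
theorem F66579 : act 5 n30439 = n26946 := d16_2 (iv F56151) D30439 (iv D26946)
def n30440 : Q := act 5 n26940
theorem D30440 : act 5 n26940 = n30440 := rfl
theorem F66580 : act 0 n30440 = n26949 := d4_1 D30440 (iv D26949) (iv F56152)
theorem F66581 : act 1 n30440 = n28924 := d9_1 D30440 (iv D28924) (iv F51527) F49024 D26940
theorem F66582 : act 2 n30440 = n28279 := d13_1 D30440 (iv D28279) (iv F56153)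
theorem F66583 : act 4 n30440 = n27837 := d18_1 D30440 (iv D27837) (iv F56154)
theorem F66584 : act 6 n30440 = n26949 := d22_1 D30440 (iv D26949) F44655 (iv F56152)
def n30441 : Q := act 5 n26941
theorem D30441 : act 5 n26941 = n30441 := rfl
theorem F66585 : act 0 n30441 = n27856 := d4_1 D30441 (iv D27856) (iv F56156)
theorem F66586 : act 2 n30441 = n30276 := d13_1 D30441 F66029 F57760
theorem F66587 : act 3 n30441 = n27855 := d16_1 D30441 (iv D27855) (iv F56158)
theorem F66588 : act 4 n30441 = n26942 := d18_1 D30441 (iv D26942) D26941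
theorem F66589 : act 6 n30441 = n30275 := d22_1 D30441 (iv D30275) F54866 (iv F56156)
def n30442 : Q := act 4 n26944
theorem D30442 : act 4 n26944 = n30442 := rfl
theorem F66590 : act 0 n30442 = n27409 := d3_1 D30442 F57581 (iv F56167)
theorem F66591 : act 1 n30442 = n26945 := d8_1 D30442 (iv D26945) D26944
theorem F66592 : act 2 n30442 = n28229 := d12_1 D30442 F59954 (iv F56168)
theorem F66593 : act 5 n30442 = n28889 := d18_2 (iv F56170) D30442 F61959
theorem F66594 : act 6 n30442 = n27102 := d19_2 (iv F56171) D30442 F56691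
def n30443 : Q := act 3 n26945
theorem D30443 : act 3 n26945 = n30443 := rfl
theorem F66595 : act 0 n30443 = n26946 := d2_1 D30443 (iv D26946) (iv F56172)
theorem F66596 : act 4 n30443 = n28501 := d15_2 D26945 D30443 F60749 F50010 (iv F44615)
theorem F66597 : act 6 n30443 = n28497 := d17_2 (iv F56174) D30443 F60740
def n30444 : Q := act 2 n26946
theorem D30444 : act 2 n26946 = n30444 := rfl
theorem F66598 : act 1 n30444 = n28448 := d6_1 D30444 F60589 (iv F50209) (iv F60998) F61002
theorem F66599 : act 4 n30444 = n28502 := d12_2 (iv F56175) D30444 F60751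
theorem F66600 : act 6 n30444 = n28498 := d14_2 (iv F56176) D30444 (iv D28498)
theorem F66601 : act 3 n30444 = n28502 := d21_1 D30444 F60751 F50000 (iv F50013) F50014 (iv F56173) D30443 F66595
def n30445 : Q := act 4 n26954
theorem D30445 : act 4 n26954 = n30445 := rfl
theorem F66602 : act 0 n30445 = n30272 := d3_1 D30445 F66014 (iv F56208)
theorem F66603 : act 1 n30445 = n26956 := d8_1 D30445 (iv D26956) (iv F56209)
theorem F66604 : act 2 n30445 = n30271 := d12_1 D30445 F66011 (iv F56210)
theorem F66605 : act 5 n30445 = n27814 := d18_2 (iv F56211) D30445 (iv D27814)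
def n30446 : Q := act 6 n26954
theorem D30446 : act 6 n26954 = n30446 := rfl
theorem F66606 : act 0 n30446 = n28912 := d5_1 D30446 F62038 (iv F56208)
theorem F66607 : act 1 n30446 = n26960 := d10_1 D30446 (iv D26960) F44715 (iv F44699) (iv F56209)
theorem F66608 : act 2 n30446 = n30269 := d14_1 D30446 F66006 (iv F56210)
theorem F66609 : act 3 n30446 = n26955 := d17_1 D30446 (iv D26955) D26954
theorem F66610 : act 5 n30446 = n28950 := d20_1 D30446 F62172 F58699 (iv F62038) F62037 F54817 (iv F56211)
def n30447 : Q := act 3 n26957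
theorem D30447 : act 3 n26957 = n30447 := rfl
theorem F66611 : act 4 n30447 = n28449 := d15_2 D26957 D30447 F60591 F49882 (iv F44701)
theorem F66612 : act 6 n30447 = n26964 := d17_2 (iv F56220) D30447 (iv D26964)
def n30448 : Q := act 6 n26958
theorem D30448 : act 6 n26958 = n30448 := rfl
theorem F66613 : act 0 n30448 = n26967 := d5_1 D30448 (iv D26967) (iv F56221)
theorem F66614 : act 1 n30448 = n28935 := d10_1 D30448 (iv D28935) (iv F51683) F48982 D26958
theorem F66615 : act 2 n30448 = n28289 := d14_1 D30448 (iv D28289) (iv F56222)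
theorem F66616 : act 4 n30448 = n27839 := d19_1 D30448 (iv D27839) (iv F56223)
theorem F66617 : act 5 n30448 = n26967 := d22_2 F56224 D30448 (iv D26967) (iv F56221)
def n30449 : Q := act 6 n26959
theorem D30449 : act 6 n26959 = n30449 := rfl
theorem F66618 : act 0 n30449 = n27860 := d5_1 D30449 (iv D27860) (iv F56225)
theorem F66619 : act 2 n30449 = n30337 := d14_1 D30449 F66264 F57936
theorem F66620 : act 3 n30449 = n27859 := d17_1 D30449 (iv D27859) (iv F56227)
theorem F66621 : act 4 n30449 = n26960 := d19_1 D30449 (iv D26960) D26959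
theorem F66622 : act 5 n30449 = n30336 := d22_2 F60624 D30449 (iv D30336) (iv F60625)
def n30450 : Q := act 4 n26962
theorem D30450 : act 4 n26962 = n30450 := rfl
theorem F66623 : act 0 n30450 = n27318 := d3_1 D30450 F57337 (iv F56236)
theorem F66624 : act 1 n30450 = n26963 := d8_1 D30450 (iv D26963) D26962
theorem F66625 : act 2 n30450 = n28251 := d12_1 D30450 F60037 (iv F56237)
theorem F66626 : act 5 n30450 = n27076 := d18_2 (iv F56239) D30450 F56616
theorem F66627 : act 6 n30450 = n28880 := d19_2 (iv F56240) D30450 F61927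
def n30451 : Q := act 3 n26963
theorem D30451 : act 3 n26963 = n30451 := rfl
theorem F66628 : act 0 n30451 = n26964 := d2_1 D30451 (iv D26964) (iv F56241)
theorem F66629 : act 4 n30451 = n28447 := d15_2 D26963 D30451 F60587 F49874 (iv F44718)
theorem F66630 : act 5 n30451 = n28443 := d16_2 (iv F56243) D30451 F60577
def n30452 : Q := act 2 n26964
theorem D30452 : act 2 n26964 = n30452 := rfl
theorem F66631 : act 1 n30452 = n28502 := d6_1 D30452 F60751 (iv F50315) (iv F60986) F60985
theorem F66632 : act 4 n30452 = n28448 := d12_2 (iv F56244) D30452 F60589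
theorem F66633 : act 5 n30452 = n28444 := d13_2 (iv F56245) D30452 (iv D28444)
theorem F66634 : act 3 n30452 = n28448 := d21_1 D30452 F60589 F49864 (iv F49877) F49878 (iv F56242) D30451 F66628
def n30453 : Q := act 2 n26969
theorem D30453 : act 2 n26969 = n30453 := rfl
theorem F66635 : act 1 n30453 = n28306 := d6_1 D30453 (iv D28306) (iv D24474) (iv F44780) D26969
theorem F66636 : act 4 n30453 = n27166 := d12_2 (iv F56265) D30453 (iv D27166)
def n30454 : Q := act 2 n26970
theorem D30454 : act 2 n26970 = n30454 := rfl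
theorem F66637 : act 1 n30454 = n28309 := d6_1 D30454 (iv D28309) (iv D24476) (iv F44785) D26970
theorem F66638 : act 4 n30454 = n27173 := d12_2 (iv F56267) D30454 (iv D27173)
def n30455 : Q := act 6 n26971
theorem D30455 : act 6 n26971 = n30455 := rfl
theorem F66639 : act 0 n30455 = n27281 := d5_1 D30455 F57220 F56932
theorem F66640 : act 1 n30455 = n27275 := d10_1 D30455 (iv F57207) F57208 (iv D26973) D26971
theorem F66641 : act 2 n30455 = n27177 := d14_1 D30455 (iv D27177) (iv F56273)
theorem F66642 : act 3 n30455 = n26983 := d17_1 D30455 (iv D26983) (iv F56268)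
theorem F66643 : act 4 n30455 = n27177 := d19_1 D30455 (iv D27177) (iv F56269)
theorem F66644 : act 5 n30455 = n27177 := d20_1 D30455 (iv D27177) D27176 (iv F57220) F57219 F56931 F56930
def n30456 : Q := act 3 n26972
theorem D30456 : act 3 n26972 = n30456 := rfl
theorem F66645 : act 0 n30456 = n26974 := d2_1 D30456 (iv D26974) (iv F56270)
theorem F66646 : act 1 n30456 = n27178 := d7_1 D30456 (iv D27178) (iv F56272)
theorem F66647 : act 5 n30456 = n27960 := d16_2 F59901 D30456 (iv F59902)
theorem F66648 : act 2 n30456 = n27888 := d21_2 D26972 D30456 (iv D27888) F48279 F37002 (iv F29021) (iv F31800) D22744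
def n30457 : Q := act 6 n26972
theorem D30457 : act 6 n26972 = n30457 := rfl
theorem F66649 : act 0 n30457 = n26975 := d5_1 D30457 (iv D26975) (iv F56270)
theorem F66650 : act 2 n30457 = n26973 := d14_1 D30457 (iv D26973) D26972
theorem F66651 : act 4 n30457 = n27179 := d19_1 D30457 (iv D27179) (iv F56271)
theorem F66652 : act 5 n30457 = n28219 := d22_2 F59901 D30457 (iv D28219) (iv F59899)
def n30458 : Q := act 2 n26974
theorem D30458 : act 2 n26974 = n30458 := rfl
theorem F66653 : act 0 n30458 = n27888 := d1_1 D30458 (iv F66648) F66645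
theorem F66654 : act 1 n30458 = n28312 := d6_1 D30458 (iv D28312) F49630 (iv F49591) (iv F56279)
theorem F66655 : act 3 n30458 = n27885 := d11_2 D26974 D30458 F58954 F48274 F37474 (iv F44791) D26972 D30456 F66648 (iv D27888) F48279 F37002 (iv F29021) (iv F31800) D22745
theorem F66656 : act 5 n30458 = n27948 := d13_2 F59910 D30458 (iv F59909)
theorem F66657 : act 4 n28956 = n30458 := d18_3 F66656 F59116 (iv F62190)
def n30459 : Q := act 4 n26974
theorem D30459 : act 4 n26974 = n30459 := rfl
theorem F66658 : act 1 n30459 = n28294 := d8_1 D30459 (iv D28294) (iv F56279)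
theorem F66659 : act 2 n30459 = n28956 := d12_1 D30459 F66657 (iv D30458)
theorem F66660 : act 3 n30459 = n27182 := d15_1 D30459 (iv D27182) (iv D23079) (iv F44794) D26974
theorem F66661 : act 5 n30459 = n28420 := d18_2 F59910 D30459 F60527
def n30460 : Q := act 6 n26974
theorem D30460 : act 6 n26974 = n30460 := rfl
theorem F66662 : act 1 n30460 = n30035 := d10_1 D30460 (iv D30035) (iv F60300) (iv D28295) (iv F56279)
theorem F66663 : act 3 n30460 = n26975 := d17_1 D30460 (iv D26975) D26974
def n30461 : Q := act 1 n26975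
theorem D30461 : act 1 n26975 = n30461 := rfl
theorem F66664 : act 2 n30461 = n30078 := d6_2 (iv F56280) D30461 F65392 F56359 F44846
theorem F66665 : act 3 n30461 = n30035 := d7_2 F66663 D30461 (iv F66662)
theorem F66666 : act 4 n30461 = n27184 := d8_2 (iv F56281) D30461 (iv D27184)
theorem F66667 : act 6 n30461 = n28296 := d10_2 D26975 D30461 (iv D28296) (iv D24464) (iv F44793)
theorem F66668 : act 5 n30072 = n30461 := d22_0 F66667 F60302 D30031 (iv F65371)
def n30462 : Q := act 5 n26975
theorem D30462 : act 5 n26975 = n30462 := rfl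
theorem F66669 : act 0 n30462 = n28219 := d4_1 D30462 (iv F66652) F66649
theorem F66670 : act 2 n30462 = n26976 := d13_1 D30462 (iv D26976) (iv F56280)
theorem F66671 : act 4 n30462 = n27185 := d18_1 D30462 (iv D27185) (iv F56281)
theorem F66672 : act 6 n30462 = n28216 := d20_2 D26975 D30462 F59901 D30457 F66652 (iv D28219) F49095
def n30463 : Q := act 5 n26977
theorem D30463 : act 5 n26977 = n30463 := rfl
theorem F66673 : act 0 n30463 = n27256 := d4_1 D30463 F57148 F56966
theorem F66674 : act 1 n30463 = n27301 := d9_1 D30463 (iv F57285) (iv F57286) (iv D26979) D26977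
theorem F66675 : act 2 n30463 = n27188 := d13_1 D30463 (iv D27188) (iv F56971)
theorem F66676 : act 3 n30463 = n26984 := d16_1 D30463 (iv D26984) (iv F56287)
theorem F66677 : act 4 n30463 = n27188 := d18_1 D30463 (iv D27188) (iv F56288)
theorem F66678 : act 6 n30463 = n27188 := d20_2 (iv F56963) D30463 (iv D27188) D27189 (iv F57148) F57149 F56962
def n30464 : Q := act 3 n26978
theorem D30464 : act 3 n26978 = n30464 := rfl
theorem F66679 : act 0 n30464 = n26980 := d2_1 D30464 (iv D26980) (iv F56289)
theorem F66680 : act 1 n30464 = n27190 := d7_1 D30464 (iv D27190) F56972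
theorem F66681 : act 6 n30464 = n28032 := d17_2 F59993 D30464 (iv F59994)
theorem F66682 : act 2 n30464 = n27916 := d21_2 D26978 D30464 (iv D27916) F48346 F37035 F34455 (iv F31802) D22747
def n30465 : Q := act 5 n26978
theorem D30465 : act 5 n26978 = n30465 := rfl
theorem F66683 : act 0 n30465 = n26981 := d4_1 D30465 (iv D26981) (iv F56289)
theorem F66684 : act 2 n30465 = n26979 := d13_1 D30465 (iv D26979) D26978
theorem F66685 : act 4 n30465 = n27191 := d18_1 D30465 (iv D27191) (iv F56290)
theorem F66686 : act 6 n30465 = n28243 := d22_1 D30465 (iv D28243) F49255 (iv F56289)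
def n30466 : Q := act 2 n26980
theorem D30466 : act 2 n26980 = n30466 := rfl
theorem F66687 : act 0 n30466 = n27916 := d1_1 D30466 (iv F66682) F66679
theorem F66688 : act 1 n30466 = n28318 := d6_1 D30466 (iv D28318) F49640 (iv F49602) (iv F56295)
theorem F66689 : act 3 n30466 = n27913 := d11_2 D26980 D30466 F59025 F48341 F37507 (iv F44797) D26978 D30464 F66682 (iv D27916) F48346 F37035 F34455 (iv F31802) D22748
theorem F66690 : act 6 n30466 = n28020 := d14_2 F60002 D30466 (iv F60001)
theorem F66691 : act 4 n28971 = n30466 := d19_3 F66690 F59332 (iv F62229)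
def n30467 : Q := act 4 n26980
theorem D30467 : act 4 n26980 = n30467 := rfl
theorem F66692 : act 1 n30467 = n28299 := d8_1 D30467 (iv D28299) (iv F56295)
theorem F66693 : act 2 n30467 = n28971 := d12_1 D30467 F66691 (iv D30466)
theorem F66694 : act 3 n30467 = n27194 := d15_1 D30467 (iv D27194) (iv D23085) (iv F44800) D26980
theorem F66695 : act 6 n30467 = n28474 := d19_2 F60002 D30467 F60689
def n30468 : Q := act 5 n26980
theorem D30468 : act 5 n26980 = n30468 := rfl
theorem F66696 : act 1 n30468 = n30130 := d9_1 D30468 (iv D30130) F60434 (iv D28300) (iv F56295)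
theorem F66697 : act 3 n30468 = n26981 := d16_1 D30468 (iv D26981) D26980
def n30469 : Q := act 1 n26981
theorem D30469 : act 1 n26981 = n30469 := rfl
theorem F66698 : act 2 n30469 = n30171 := d6_2 (iv F56296) D30469 (iv F65672) F56332 F44837
theorem F66699 : act 3 n30469 = n30130 := d7_2 F66697 D30469 (iv F66696)
theorem F66700 : act 4 n30469 = n27196 := d8_2 (iv F56297) D30469 (iv D27196)
theorem F66701 : act 5 n30469 = n28301 := d9_2 D26981 D30469 (iv D28301) (iv D24468) (iv F44799)
theorem F66702 : act 6 n30165 = n30469 := d22_1 D30165 F66701 (iv F60436) (iv F54447)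
def n30470 : Q := act 6 n26981
theorem D30470 : act 6 n26981 = n30470 := rfl
theorem F66703 : act 0 n30470 = n28243 := d5_1 D30470 (iv F66686) F66683
theorem F66704 : act 2 n30470 = n26982 := d14_1 D30470 (iv D26982) (iv F56296)
theorem F66705 : act 4 n30470 = n27197 := d19_1 D30470 (iv D27197) (iv F56297)
theorem F66706 : act 5 n30470 = n28240 := d20_1 D30470 F59993 D30465 F66686 (iv D28243) F49255 D26981
def n30471 : Q := act 1 n26985
theorem D30471 : act 1 n26985 = n30471 := rfl
theorem F66707 : act 0 n30471 = n27171 := d0_1 D30471 (iv D27171) (iv F45827) F56415 (iv D27016) (iv D22786) F31861 D22758 D26985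
theorem F66708 : act 3 n30471 = n27003 := d7_2 (iv F56311) D30471 (iv D27003)
theorem F66709 : act 4 n30471 = n27205 := d8_2 (iv F56312) D30471 (iv D27205)
theorem F66710 : act 5 n30471 = n27172 := d9_2 F56337 D30471 (iv F57183) (iv F57190) F57187
theorem F66711 : act 6 n30471 = n27097 := d10_2 (iv F56313) D30471 F57225 (iv F57224) (iv D26988)
def n30472 : Q := act 3 n26986
theorem D30472 : act 3 n26986 = n30472 := rfl
theorem F66712 : act 0 n30472 = n28712 := d2_1 D30472 (iv F63334) F63332
theorem F66713 : act 1 n30472 = n28054 := d7_1 D30472 F59426 F59100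
theorem F66714 : act 2 n30472 = n28711 := d11_1 D30472 F61432 (iv F60093) F60094 (iv D27004) (iv F56311) (iv F63333) F63334 (iv D28712) F50454 (iv F49401) F49402 (iv D22767) (iv F44831) D26986
theorem F66715 : act 4 n30472 = n29508 := d15_2 (iv F56314) D30472 (iv D29508) F52868 F52735
theorem F66716 : act 6 n30472 = n26991 := d17_2 (iv F56315) D30472 (iv D26991)
theorem F66717 : act 5 n28886 = n30472 := d22_2 D29516 (iv F63553) F66716 F56330
def n30473 : Q := act 5 n26986
theorem D30473 : act 5 n26986 = n30473 := rfl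
theorem F66718 : act 1 n30473 = n28887 := d9_1 D30473 F61952 (iv D27945) (iv F59102) F59100
theorem F66719 : act 2 n30473 = n26987 := d13_1 D30473 (iv D26987) D26986
theorem F66720 : act 3 n30473 = n28886 := d16_1 D30473 F66717 (iv D30472)
theorem F66721 : act 4 n30473 = n27206 := d18_1 D30473 (iv D27206) (iv F56314)
def n30474 : Q := act 2 n26988
theorem D30474 : act 2 n26988 = n30474 := rfl
theorem F66722 : act 4 n30474 = n27207 := d12_2 (iv F56320) D30474 (iv D27207)
theorem F66723 : act 5 n30474 = n27287 := d13_2 F56321 D30474 F57236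
def n30475 : Q := act 1 n26989
theorem D30475 : act 1 n26989 = n30475 := rfl
theorem F66724 : act 3 n30475 = n29480 := d7_2 (iv F56324) D30475 F63463
theorem F66725 : act 4 n30475 = n27209 := d8_2 (iv F56323) D30475 (iv D27209)
def n30476 : Q := act 5 n26989
theorem D30476 : act 5 n26989 = n30476 := rfl
theorem F66726 : act 0 n30476 = n26992 := d4_1 D30476 (iv D26992) (iv F56322)
theorem F66727 : act 2 n30476 = n26990 := d13_1 D30476 (iv D26990) D26989
theorem F66728 : act 3 n30476 = n29516 := d16_1 D30476 (iv D29516) (iv F56324)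
theorem F66729 : act 4 n30476 = n27210 := d18_1 D30476 (iv D27210) (iv F56323)
theorem F66730 : act 6 n30476 = n30473 := d22_1 D30476 (iv D30473) F56315 (iv F56322)
def n30477 : Q := act 6 n26992
theorem D30477 : act 6 n26992 = n30477 := rfl
theorem F66731 : act 0 n30477 = n30473 := d5_1 D30477 (iv F66730) F66726
theorem F66732 : act 2 n30477 = n26993 := d14_1 D30477 (iv D26993) (iv F56332)
theorem F66733 : act 4 n30477 = n27212 := d19_1 D30477 (iv D27212) (iv F56333)
theorem F66734 : act 5 n30477 = n29432 := d20_1 D30477 F63335 D30476 F66730 (iv D30473) F56315 D26992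
def n30478 : Q := act 1 n26994
theorem D30478 : act 1 n26994 = n30478 := rfl
theorem F66735 : act 0 n30478 = n27164 := d0_1 D30478 (iv D27164) (iv F45817) F56426 (iv D27020) (iv D22789) F31877 D22762 D26994
theorem F66736 : act 3 n30478 = n27009 := d7_2 (iv F56338) D30478 (iv D27009)
theorem F66737 : act 4 n30478 = n27217 := d8_2 (iv F56339) D30478 (iv D27217)
theorem F66738 : act 5 n30478 = n27071 := d9_2 (iv F56340) D30478 (iv F57154) F57153 (iv D26997)
theorem F66739 : act 6 n30478 = n27165 := d10_2 F56364 D30478 (iv F57257) (iv F57265) F57262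
def n30479 : Q := act 3 n26995
theorem D30479 : act 3 n26995 = n30479 := rfl
theorem F66740 : act 0 n30479 = n28779 := d2_1 D30479 (iv F63689) F63687
theorem F66741 : act 1 n30479 = n27983 := d7_1 D30479 F59213 F59091
theorem F66742 : act 2 n30479 = n28778 := d11_1 D30479 F61588 (iv F60105) F60106 (iv D27010) (iv F56338) (iv F63688) F63689 (iv D28779) F50559 (iv F49431) F49432 (iv D22776) (iv F44840) D26995
theorem F66743 : act 4 n30479 = n29368 := d15_2 (iv F56341) D30479 (iv D29368) (iv F52956) F52958
theorem F66744 : act 5 n30479 = n27000 := d16_2 (iv F56342) D30479 (iv D27000)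
theorem F66745 : act 6 n28893 = n30479 := d22_1 (iv F63223) F66744 (iv F65410) (iv F65411)
def n30480 : Q := act 6 n26995
theorem D30480 : act 6 n26995 = n30480 := rfl
theorem F66746 : act 1 n30480 = n28894 := d10_1 D30480 F61974 (iv D27941) (iv F59094) F59091
theorem F66747 : act 2 n30480 = n26996 := d14_1 D30480 (iv D26996) D26995
theorem F66748 : act 3 n30480 = n28893 := d17_1 D30480 F66745 (iv D30479)
theorem F66749 : act 4 n30480 = n27218 := d19_1 D30480 (iv D27218) (iv F56341)
def n30481 : Q := act 2 n26997
theorem D30481 : act 2 n26997 = n30481 := rfl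
theorem F66750 : act 4 n30481 = n27219 := d12_2 (iv F56347) D30481 (iv D27219)
theorem F66751 : act 6 n30481 = n27262 := d14_2 F56348 D30481 F57164
def n30482 : Q := act 1 n26998
theorem D30482 : act 1 n26998 = n30482 := rfl
theorem F66752 : act 3 n30482 = n29338 := d7_2 (iv F56351) D30482 F63139
theorem F66753 : act 4 n30482 = n27221 := d8_2 (iv F56350) D30482 (iv D27221)
def n30483 : Q := act 6 n26998
theorem D30483 : act 6 n26998 = n30483 := rfl
theorem F66754 : act 0 n30483 = n27001 := d5_1 D30483 (iv D27001) (iv F56349)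
theorem F66755 : act 2 n30483 = n26999 := d14_1 D30483 (iv D26999) D26998
theorem F66756 : act 3 n30483 = n29376 := d17_1 D30483 (iv D29376) (iv F56351)
theorem F66757 : act 4 n30483 = n27222 := d19_1 D30483 (iv D27222) (iv F56350)
theorem F66758 : act 5 n30483 = n30480 := d22_2 F63690 D30483 (iv D30480) (iv F63687)
def n30484 : Q := act 5 n27001
theorem D30484 : act 5 n27001 = n30484 := rfl
theorem F66759 : act 0 n30484 = n30480 := d4_1 D30484 (iv F66758) F66754
theorem F66760 : act 2 n30484 = n27002 := d13_1 D30484 (iv D27002) (iv F56359)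
theorem F66761 : act 4 n30484 = n27224 := d18_1 D30484 (iv D27224) (iv F56360)
theorem F66762 : act 6 n30484 = n29572 := d20_2 D27001 D30484 F63690 D30483 F66758 (iv D30480) F56342
def n30485 : Q := act 3 n27005
theorem D30485 : act 3 n27005 = n30485 := rfl
theorem F66763 : act 0 n30485 = n28664 := d2_1 D30485 F61210 (iv F56374)
theorem F66764 : act 4 n30485 = n28668 := d15_2 (iv F56375) D30485 F61222 F50368 (iv F44973)
theorem F66765 : act 5 n30485 = n27432 := d16_2 (iv F56376) D30485 F57629
theorem F66766 : act 6 n30485 = n27096 := d17_2 (iv F56377) D30485 F56682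
def n30486 : Q := act 0 n27006
theorem D30486 : act 0 n27006 = n30486 := rfl
theorem F66767 : act 2 n30486 = n27248 := d1_2 F56530 D30486 F57119
theorem F66768 : act 3 n30486 = n30017 := d2_2 F61667 D30486 F65215
theorem F66769 : act 4 n30486 = n27029 := d3_2 (iv F56378) D30486 (iv D27029)
theorem F66770 : act 5 n30486 = n27247 := d22_0 (iv D27247) (iv F56526) (iv F56528) D30486
def n30487 : Q := act 5 n27006
theorem D30487 : act 5 n27006 = n30487 := rfl
theorem F66771 : act 0 n30487 = n27247 := d4_1 D30487 (iv F66770) (iv D30486)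
theorem F66772 : act 1 n30487 = n28923 := d9_1 D30487 F62069 F58657 (iv F47546) D27006
theorem F66773 : act 2 n30487 = n27246 := d13_1 D30487 F57115 F56530
theorem F66774 : act 3 n30487 = n30016 := d16_1 D30487 F65214 F61667
theorem F66775 : act 4 n30487 = n27030 := d18_1 D30487 (iv D27030) (iv F56378)
theorem F66776 : act 6 n30487 = n27245 := d22_3 (iv F56526) (iv F56528) D30487 F57110
def n30488 : Q := act 3 n27011
theorem D30488 : act 3 n27011 = n30488 := rfl
theorem F66777 : act 0 n30488 = n28607 := d2_1 D30488 F61052 (iv F56397)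
theorem F66778 : act 4 n30488 = n28611 := d15_2 (iv F56398) D30488 F61062 F50256 (iv F44996)
theorem F66779 : act 5 n30488 = n27070 := d16_2 (iv F56399) D30488 F56607
theorem F66780 : act 6 n30488 = n27343 := d17_2 (iv F56400) D30488 F57396
def n30489 : Q := act 0 n27012
theorem D30489 : act 0 n27012 = n30489 := rfl
theorem F66781 : act 2 n30489 = n27233 := d1_2 F56502 D30489 F57080
theorem F66782 : act 3 n30489 = n29817 := d2_2 F61520 D30489 F64509
theorem F66783 : act 4 n30489 = n27031 := d3_2 (iv F56401) D30489 (iv D27031)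
theorem F66784 : act 6 n27232 = n30489 := d22_3 F56500 F56498 D27232 (iv D30489)
def n30490 : Q := act 6 n27012
theorem D30490 : act 6 n27012 = n30490 := rfl
theorem F66785 : act 0 n30490 = n27232 := d5_1 D30490 F66784 (iv D30489)
theorem F66786 : act 1 n30490 = n28934 := d10_1 D30490 F62111 F58692 F47623 D27012
theorem F66787 : act 2 n30490 = n27231 := d14_1 D30490 F57076 F56502
theorem F66788 : act 3 n30490 = n29816 := d17_1 D30490 F64508 F61520
theorem F66789 : act 4 n30490 = n27032 := d19_1 D30490 (iv D27032) (iv F56401)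
theorem F66790 : act 5 n27230 = n30490 := d22_0 (iv D30490) F56500 F56498 (iv F57071)
def n30491 : Q := act 3 n27015
theorem D30491 : act 3 n27015 = n30491 := rfl
theorem F66791 : act 1 n30491 = n28000 := d7_1 D30491 F59274 (iv F56411)
theorem F66792 : act 5 n30491 = n28723 := d16_2 F63403 D30491 F63406
theorem F66793 : act 4 n28737 = n30491 := d18_3 F66792 F61470 D28737
def n30492 : Q := act 2 n27016
theorem D30492 : act 2 n27016 = n30492 := rfl
theorem F66794 : act 0 n30492 = n27017 := d1_1 D30492 (iv D27017) D27016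
theorem F66795 : act 3 n30492 = n28714 := d11_2 (iv F56413) D30492 (iv D28714) F50455 (iv F49488) F49489 (iv D22794) (iv F44905) D27017 (iv F59337) (iv F61438) F61437 (iv F60126) F60127 F51788
theorem F66796 : act 4 n30492 = n27270 := d12_2 (iv F56414) D30492 (iv D27270)
theorem F66797 : act 5 n30492 = n29029 := d13_2 F57292 D30492 F62358
def n30493 : Q := act 6 n27017
theorem D30493 : act 6 n27017 = n30493 := rfl
theorem F66798 : act 2 n30493 = n27018 := d14_1 D30493 (iv D27018) D27017
theorem F66799 : act 4 n30493 = n27273 := d19_1 D30493 (iv D27273) (iv F56417)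
def n30494 : Q := act 5 n27018
theorem D30494 : act 5 n27018 = n30494 := rfl
theorem F66800 : act 0 n30494 = n27305 := d4_1 D30494 F57296 F57034
theorem F66801 : act 3 n30494 = n27025 := d16_1 D30494 (iv D27025) (iv F56420)
theorem F66802 : act 4 n30494 = n27274 := d18_1 D30494 (iv D27274) (iv F56421)
theorem F66803 : act 6 n30494 = n27304 := d20_2 D27018 D30494 F57292 (iv F57036) (iv F57296) (iv D27305) F46076
def n30495 : Q := act 3 n27019
theorem D30495 : act 3 n27019 = n30495 := rfl
theorem F66804 : act 1 n30495 = n28070 := d7_1 D30495 F59484 (iv F56422)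
theorem F66805 : act 6 n30495 = n28787 := d17_2 F63070 D30495 (iv F63072)
theorem F66806 : act 4 n28801 = n30495 := d19_3 F66805 F61620 D28801
def n30496 : Q := act 2 n27020
theorem D30496 : act 2 n27020 = n30496 := rfl
theorem F66807 : act 0 n30496 = n27021 := d1_1 D30496 (iv D27021) D27020
theorem F66808 : act 3 n30496 = n28776 := d11_2 (iv F56424) D30496 (iv D28776) F50558 (iv F49568) F49569 (iv D22800) (iv F44915) D27021 (iv F59121) (iv F61583) F61582 (iv F60168) F60169 F51623
theorem F66809 : act 4 n30496 = n27295 := d12_2 (iv F56425) D30496 (iv D27295)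
theorem F66810 : act 6 n30496 = n29018 := d14_2 F57212 D30496 F62342
def n30497 : Q := act 5 n27021
theorem D30497 : act 5 n27021 = n30497 := rfl
theorem F66811 : act 2 n30497 = n27022 := d13_1 D30497 (iv D27022) D27021
theorem F66812 : act 4 n30497 = n27298 := d18_1 D30497 (iv D27298) (iv F56428)
def n30498 : Q := act 6 n27022
theorem D30498 : act 6 n27022 = n30498 := rfl
theorem F66813 : act 0 n30498 = n27280 := d5_1 D30498 F57215 F57064
theorem F66814 : act 1 n30498 = n30494 := d10_1 D30498 F66803 F57289 (iv F53750) (iv F56430)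
theorem F66815 : act 3 n30498 = n27028 := d17_1 D30498 (iv D27028) (iv F56431)
theorem F66816 : act 4 n30498 = n27299 := d19_1 D30498 (iv D27299) (iv F56432)
theorem F66817 : act 5 n30498 = n27279 := d20_1 D30498 F57212 (iv F57066) (iv F57215) (iv D27280) F46036 D27022
def n30499 : Q := act 1 n27023
theorem D30499 : act 1 n27023 = n30499 := rfl
theorem F66818 : act 2 n30499 = n27062 := d6_2 D27023 D30499 (iv D27062) F45255 F45024
theorem F66819 : act 4 n30499 = n27033 := d8_2 (iv F56434) D30499 (iv D27033)
theorem F66820 : act 5 n30499 = n27063 := d9_2 (iv F56435) D30499 F56578 F53660 (iv F47283)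
theorem F66821 : act 6 n30499 = n27108 := d10_2 F57137 D30499 F56710 (iv F58025) (iv F58026)
theorem F66822 : act 0 n30499 = n27111 := d23_3 (iv F45025) D27023 D30499 (iv F56720) (iv D25126) (iv D20791) F26900 F26717 (iv F26714) (iv F32245) (iv F45206) F45209 (iv F56538) F56537 F56370 (iv F44854) (iv F44855) (iv F44921) (iv F45026)
def n30500 : Q := act 3 n27023
theorem D30500 : act 3 n27023 = n30500 := rfl
theorem F66823 : act 0 n30500 = n27024 := d2_1 D30500 (iv D27024) (iv F56433)
theorem F66824 : act 4 n30500 = n27535 := d15_2 (iv F56434) D30500 F57885 F46538 (iv F45028)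
theorem F66825 : act 5 n30500 = n27534 := d16_2 (iv F56435) D30500 F57883
def n30501 : Q := act 2 n27024
theorem D30501 : act 2 n27024 = n30501 := rfl
theorem F66826 : act 4 n30501 = n27541 := d12_2 (iv F56437) D30501 F57896
theorem F66827 : act 5 n30501 = n27540 := d13_2 (iv F56438) D30501 F57895
def n30502 : Q := act 1 n27026
theorem D30502 : act 1 n27026 = n30502 := rfl
theorem F66828 : act 2 n30502 = n27057 := d6_2 D27026 D30502 (iv D27057) F45218 (iv F45016)
theorem F66829 : act 4 n30502 = n27034 := d8_2 (iv F56443) D30502 (iv D27034)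
theorem F66830 : act 5 n30502 = n27082 := d9_2 F57098 D30502 F56636 (iv F57848) (iv F57849)
theorem F66831 : act 6 n30502 = n27058 := d10_2 (iv F56444) D30502 F56554 F53057 (iv F47428)
theorem F66832 : act 0 n30502 = n27084 := d23_3 F45950 D27026 D30502 (iv D27084) (iv D22915) (iv D18412) (iv D13439) D13441 (iv F32326) F32325 (iv F33936) (iv D18949) (iv F34802) F27901 F21409 D12136 (iv F27917) D21296 (iv F45948)
def n30503 : Q := act 3 n27026
theorem D30503 : act 3 n27026 = n30503 := rfl
theorem F66833 : act 0 n30503 = n27027 := d2_1 D30503 (iv D27027) (iv F56442)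
theorem F66834 : act 4 n30503 = n27612 := d15_2 (iv F56443) D30503 F58067 F46675 (iv F45054)
theorem F66835 : act 6 n30503 = n27610 := d17_2 (iv F56444) D30503 F58063
def n30504 : Q := act 2 n27027
theorem D30504 : act 2 n27027 = n30504 := rfl
theorem F66836 : act 4 n30504 = n27618 := d12_2 (iv F56446) D30504 F58077
theorem F66837 : act 6 n30504 = n27616 := d14_2 (iv F56447) D30504 F58075
def n30505 : Q := act 0 n27041
theorem D30505 : act 0 n27041 = n30505 := rfl
theorem F66838 : act 3 n30505 = n27042 := d2_2 (iv F56492) D30505 (iv D27042)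
theorem F66839 : act 6 n30505 = n27227 := d5_2 (iv F56493) D30505 (iv D27227)
def n30506 : Q := act 2 n27041
theorem D30506 : act 2 n27041 = n30506 := rfl
theorem F66840 : act 6 n30506 = n27228 := d14_2 (iv F56493) D30506 (iv D27228)
def n30507 : Q := act 5 n27041
theorem D30507 : act 5 n27041 = n30507 := rfl
theorem F66841 : act 1 n30507 = n30488 := d9_1 D30507 F66779 (iv D27070) F45302 D27041
theorem F66842 : act 3 n30507 = n27044 := d16_1 D30507 (iv D27044) (iv F56492)
def n30508 : Q := act 2 n27042
theorem D30508 : act 2 n27042 = n30508 := rfl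
theorem F66843 : act 0 n30508 = n27043 := d1_1 D30508 (iv D27043) D27042
theorem F66844 : act 4 n30508 = n27133 := d12_2 (iv F56494) D30508 (iv D27133)
theorem F66845 : act 5 n30508 = n30489 := d13_2 F57082 D30508 F66781
theorem F66846 : act 6 n30508 = n27230 := d14_2 (iv F56495) D30508 (iv D27230)
theorem F66847 : act 3 n28750 = n30508 := d17_3 F66846 (iv F57073) (iv F61517)
def n30509 : Q := act 1 n27048
theorem D30509 : act 1 n27048 = n30509 := rfl
theorem F66848 : act 0 n30509 = n30509 := d0_1 D30509 (iv D30509) F56516 F56509 F56393 F44875 (iv F56393) (iv F56509) (iv F56516)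
theorem F66849 : act 2 n30509 = n30410 := d6_2 (iv F56517) D30509 (iv D30410) F55943 (iv F45186)
theorem F66850 : act 3 n30509 = n29723 := d7_2 F61297 D30509 F64193
theorem F66851 : act 4 n30509 = n27134 := d8_2 (iv F56518) D30509 (iv D27134)
theorem F66852 : act 5 n30509 = n29722 := d9_2 (iv F56519) D30509 (iv D29722) F53364 F56507
theorem F66853 : act 6 n30509 = n30410 := d10_2 D27048 D30509 (iv D30410) (iv D26885) F45184
def n30510 : Q := act 0 n27049
theorem D30510 : act 0 n27049 = n30510 := rfl
theorem F66854 : act 3 n30510 = n27050 := d2_2 (iv F56520) D30510 (iv D27050)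
theorem F66855 : act 5 n30510 = n27242 := d4_2 (iv F56521) D30510 (iv D27242)
def n30511 : Q := act 2 n27049
theorem D30511 : act 2 n27049 = n30511 := rfl
theorem F66856 : act 5 n30511 = n27243 := d13_2 (iv F56521) D30511 (iv D27243)
def n30512 : Q := act 6 n27049
theorem D30512 : act 6 n27049 = n30512 := rfl
theorem F66857 : act 1 n30512 = n30485 := d10_1 D30512 F66766 (iv D27096) F45371 D27049
theorem F66858 : act 3 n30512 = n27052 := d17_1 D30512 (iv D27052) (iv F56520)
def n30513 : Q := act 2 n27050
theorem D30513 : act 2 n27050 = n30513 := rfl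
theorem F66859 : act 0 n30513 = n27051 := d1_1 D30513 (iv D27051) D27050
theorem F66860 : act 4 n30513 = n27135 := d12_2 (iv F56522) D30513 (iv D27135)
theorem F66861 : act 5 n30513 = n27245 := d13_2 (iv F56523) D30513 (iv D27245)
theorem F66862 : act 6 n30513 = n30486 := d14_2 F57121 D30513 F66767
theorem F66863 : act 3 n28808 = n30513 := d17_3 F66862 F66768 F65218
def n30514 : Q := act 1 n27056
theorem D30514 : act 1 n27056 = n30514 := rfl
theorem F66864 : act 0 n30514 = n30514 := d0_1 D30514 (iv D30514) F56544 F56537 F56370 F44851 (iv F56370) (iv F56537) (iv F56544)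
theorem F66865 : act 2 n30514 = n30390 := d6_2 (iv F56545) D30514 (iv D30390) F55833 (iv F45214)
theorem F66866 : act 3 n30514 = n29941 := d7_2 F61112 D30514 F64957
theorem F66867 : act 4 n30514 = n27136 := d8_2 (iv F56546) D30514 (iv D27136)
theorem F66868 : act 5 n30514 = n30390 := d9_2 D27056 D30514 (iv D30390) (iv D26850) F45212
theorem F66869 : act 6 n30514 = n29940 := d10_2 (iv F56547) D30514 (iv D29940) F53956 (iv F56535)
def n30515 : Q := act 3 n27058
theorem D30515 : act 3 n27058 = n30515 := rfl
theorem F66870 : act 0 n30515 = n28915 := d2_1 D30515 (iv D28915) (iv F56553)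
theorem F66871 : act 1 n30515 = n29612 := d7_1 D30515 (iv D29612) (iv F56554)
def n30516 : Q := act 3 n27063
theorem D30516 : act 3 n27063 = n30516 := rfl
theorem F66872 : act 0 n30516 = n28901 := d2_1 D30516 (iv D28901) (iv F56577)
theorem F66873 : act 1 n30516 = n29849 := d7_1 D30516 (iv D29849) (iv F56578)
def n30517 : Q := act 5 n27067
theorem D30517 : act 5 n27067 = n30517 := rfl
theorem F66874 : act 0 n30517 = n28270 := d4_1 D30517 (iv F60532) F60529
theorem F66875 : act 2 n30517 = n27183 := d13_1 D30517 (iv F61309) F61307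
theorem F66876 : act 3 n30517 = n27068 := d16_1 D30517 (iv D27068) (iv F56596)
theorem F66877 : act 4 n30517 = n28423 := d18_1 D30517 F60534 (iv F56597)
theorem F66878 : act 6 n30517 = n27181 := d20_2 D27067 D30517 F56950 D28422 F60532 (iv D28270) F49447
def n30518 : Q := act 1 n27069
theorem D30518 : act 1 n27069 = n30518 := rfl
theorem F66879 : act 3 n30518 = n27141 := d7_2 (iv F56604) D30518 (iv D27141)
theorem F66880 : act 4 n30518 = n27070 := d8_2 (iv F56605) D30518 (iv D27070)
theorem F66881 : act 6 n30518 = n29833 := d10_2 D27069 D30518 F64571 F53643 F49803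
theorem F66882 : act 0 n28613 = n30518 := d5_3 F66881 F64570 F61065
theorem F66883 : act 5 n28611 = n30518 := d20_7 F66881 F64573 F58579 D28613 (iv F61065) (iv F65642) F65643
def n30519 : Q := act 2 n27070
theorem D30519 : act 2 n27070 = n30519 := rfl
def n30520 : Q := act 2 n27071
theorem D30520 : act 2 n27071 = n30520 := rfl
theorem F66884 : act 0 n30520 = n28916 := d1_1 D30520 (iv D28916) (iv F56608)
def n30521 : Q := act 4 n27071
theorem D30521 : act 4 n27071 = n30521 := rfl
theorem F66885 : act 0 n30521 = n27266 := d3_1 D30521 F57176 (iv F56608)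
theorem F66886 : act 1 n30521 = n27220 := d8_1 D30521 (iv F57151) F57154
theorem F66887 : act 3 n30521 = n27142 := d15_1 D30521 (iv D27142) (iv D22997) (iv F45305) D27071
theorem F66888 : act 5 n30521 = n27217 := d18_2 F66738 D30521 (iv F66737)
theorem F66889 : act 6 n30521 = n27263 := d19_2 F56907 D30521 F57167
def n30522 : Q := act 2 n27072
theorem D30522 : act 2 n27072 = n30522 := rfl
theorem F66890 : act 4 n30522 = n27074 := d12_2 (iv F56610) D30522 (iv D27074)
theorem F66891 : act 6 n30522 = n27119 := d14_2 (iv F56611) D30522 (iv D27119)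
def n30523 : Q := act 1 n27073
theorem D30523 : act 1 n27073 = n30523 := rfl
theorem F66892 : act 3 n30523 = n27076 := d7_2 (iv F56612) D30523 (iv D27076)
theorem F66893 : act 4 n30523 = n30111 := d8_2 F65464 D30523 F65497
theorem F66894 : act 6 n30523 = n30106 := d10_2 (iv F56613) D30523 (iv D30106) F54334 (iv F54320)
theorem F66895 : act 0 n28892 = n30523 := d2_3 F66892 (iv F56617) D28892
def n30524 : Q := act 1 n27078
theorem D30524 : act 1 n27078 = n30524 := rfl
theorem F66896 : act 2 n30524 = n29621 := d6_2 D27078 D30524 F63855 F56776 F45453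
def n30525 : Q := act 4 n27078
theorem D30525 : act 4 n27078 = n30525 := rfl
theorem F66897 : act 0 n30525 = n29970 := d3_1 D30525 F65061 F62955
theorem F66898 : act 2 n30525 = n27079 := d12_1 D30525 (iv D27079) D27078
theorem F66899 : act 3 n30525 = n29166 := d15_1 D30525 F62660 (iv F52505) (iv F62921) F62920
theorem F66900 : act 6 n30525 = n27087 := d19_2 (iv F56623) D30525 (iv D27087)
def n30526 : Q := act 5 n27078
theorem D30526 : act 5 n27078 = n30526 := rfl
theorem F66901 : act 2 n30526 = n27080 := d13_1 D30526 (iv D27080) D27078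
theorem F66902 : act 3 n30526 = n29255 := d16_1 D30526 (iv F62922) F62920
theorem F66903 : act 6 n30526 = n29254 := d22_1 D30526 F62887 D29277 F62955
def n30527 : Q := act 1 n27080
theorem D30527 : act 1 n27080 = n30527 := rfl
theorem F66904 : act 3 n30527 = n27081 := d7_2 (iv F56628) D30527 (iv D27081)
theorem F66905 : act 4 n30527 = n27920 := d8_2 F65098 D30527 (iv F65096)
theorem F66906 : act 5 n30527 = n28497 := d9_2 D27080 D30527 F60739 (iv D27131) F45453
theorem F66907 : act 6 n30527 = n30439 := d24_3 (iv F45324) D27080 D30527 F66579 (iv F61002) F61001 (iv F58200) (iv D27672) (iv D23478) (iv D19004) F24263 F19388 (iv F23667) (iv F32324)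
theorem F66908 : act 0 n30527 = n27919 := d22_4 F59039 (iv F56176) (iv F66579) (iv F66907)
def n30528 : Q := act 5 n27083
theorem D30528 : act 5 n27083 = n30528 := rfl
theorem F66909 : act 3 n30528 = n27084 := d16_1 D30528 (iv D27084) D27083
theorem F66910 : act 4 n30528 = n30293 := d18_1 D30528 (iv D30293) (iv F56638)
theorem F66911 : act 6 n28915 = n30528 := d19_0 F66910 (iv F66551) F66550
def n30529 : Q := act 6 n27083
theorem D30529 : act 6 n27083 = n30529 := rfl
theorem F66912 : act 1 n30529 = n30325 := d10_1 D30529 (iv D30325) F55294 (iv F55130) (iv F56637)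
theorem F66913 : act 3 n30529 = n27085 := d17_1 D30529 (iv D27085) D27083
theorem F66914 : act 4 n30529 = n30294 := d19_1 D30529 (iv D30294) (iv F56638)
theorem F66915 : act 5 n30515 = n30529 := d22_0 (iv D30529) D30528 (iv F66911) (iv F66870)
def n30530 : Q := act 5 n27087
theorem D30530 : act 5 n27087 = n30530 := rfl
theorem F66916 : act 0 n30530 = n29977 := d4_1 D30530 (iv D29977) (iv F56650)
theorem F66917 : act 1 n30530 = n30511 := d9_1 D30530 F66856 (iv F64552) F64554 F57956
theorem F66918 : act 2 n30530 = n27089 := d13_1 D30530 (iv D27089) (iv F56651)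
theorem F66919 : act 3 n30530 = n29142 := d16_1 D30530 F62617 (iv F56652)
theorem F66920 : act 4 n30530 = n27088 := d18_1 D30530 (iv D27088) D27087
def n30531 : Q := act 1 n27088
theorem D30531 : act 1 n27088 = n30531 := rfl
theorem F66921 : act 2 n30531 = n27556 := d6_2 (iv F56653) D30531 (iv D27556) F46577 (iv F45351)
theorem F66922 : act 4 n30531 = n30511 := d8_2 F66920 D30531 (iv F66917)
def n30532 : Q := act 6 n27088
theorem D30532 : act 6 n27088 = n30532 := rfl
theorem F66923 : act 0 n30532 = n30526 := d5_1 D30532 F66903 F62885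
theorem F66924 : act 2 n30532 = n27090 := d14_1 D30532 (iv D27090) (iv F56653)
theorem F66925 : act 3 n30532 = n29279 := d17_1 D30532 F62963 (iv F62877)
theorem F66926 : act 5 n30532 = n29277 := d20_1 D30532 (iv D29277) (iv F62887) (iv F66903) (iv D30526) F56623 D27088
def n30533 : Q := act 1 n27090
theorem D30533 : act 1 n27090 = n30533 := rfl
theorem F66927 : act 3 n30533 = n27091 := d7_2 (iv F56659) D30533 (iv D27091)
theorem F66928 : act 5 n30533 = n28213 := d9_2 (iv F56660) D30533 F65060 (iv D29969) (iv F56620)
theorem F66929 : act 6 n30533 = n27557 := d10_2 D27090 D30533 (iv D27557) (iv D23401) (iv F45351)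
def n30534 : Q := act 6 n27093
theorem D30534 : act 6 n27093 = n30534 := rfl
theorem F66930 : act 0 n30534 = n28280 := d5_1 D30534 (iv F60694) F60691
theorem F66931 : act 2 n30534 = n27195 := d14_1 D30534 (iv F61527) F61525
theorem F66932 : act 3 n30534 = n27094 := d17_1 D30534 (iv D27094) (iv F56671)
theorem F66933 : act 4 n30534 = n28479 := d19_1 D30534 F60702 (iv F56672)
theorem F66934 : act 5 n30534 = n27193 := d20_1 D30534 F56985 D28476 F60694 (iv D28280) F49510 D27093
def n30535 : Q := act 1 n27095
theorem D30535 : act 1 n27095 = n30535 := rfl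
theorem F66935 : act 3 n30535 = n27150 := d7_2 (iv F56679) D30535 (iv D27150)
theorem F66936 : act 4 n30535 = n27096 := d8_2 (iv F56680) D30535 (iv D27096)
theorem F66937 : act 5 n30535 = n29589 := d9_2 D27095 D30535 F63743 F53028 F49940
theorem F66938 : act 0 n28670 = n30535 := d4_3 F66937 F63742 F61225
theorem F66939 : act 6 n28668 = n30535 := d20_0 F66937 F63745 F58483 D28670 (iv F61225) (iv F65360) F65359
def n30536 : Q := act 2 n27096
theorem D30536 : act 2 n27096 = n30536 := rfl
def n30537 : Q := act 2 n27097
theorem D30537 : act 2 n27097 = n30537 := rfl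
theorem F66940 : act 0 n30537 = n28902 := d1_1 D30537 (iv D28902) (iv F56683)
def n30538 : Q := act 4 n27097
theorem D30538 : act 4 n27097 = n30538 := rfl
theorem F66941 : act 0 n30538 = n27290 := d3_1 D30538 F57245 (iv F56683)
theorem F66942 : act 1 n30538 = n27208 := d8_1 D30538 (iv F57222) (iv F57225)
theorem F66943 : act 3 n30538 = n27151 := d15_1 D30538 (iv D27151) (iv D23022) (iv F45374) D27097
theorem F66944 : act 5 n30538 = n27288 := d18_2 (iv F56927) D30538 F57239
theorem F66945 : act 6 n30538 = n27205 := d19_2 F66711 D30538 (iv F66709)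
def n30539 : Q := act 2 n27098
theorem D30539 : act 2 n27098 = n30539 := rfl
theorem F66946 : act 4 n30539 = n27100 := d12_2 (iv F56685) D30539 (iv D27100)
theorem F66947 : act 5 n30539 = n27126 := d13_2 (iv F56686) D30539 (iv D27126)
def n30540 : Q := act 1 n27099
theorem D30540 : act 1 n27099 = n30540 := rfl
theorem F66948 : act 3 n30540 = n27102 := d7_2 (iv F56687) D30540 (iv D27102)
theorem F66949 : act 4 n30540 = n30203 := d8_2 F65764 D30540 F65781
theorem F66950 : act 5 n30540 = n30199 := d9_2 (iv F56688) D30540 (iv D30199) F54508 (iv F54501)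
theorem F66951 : act 0 n28884 = n30540 := d2_3 F66948 (iv F56692) D28884
def n30541 : Q := act 1 n27104
theorem D30541 : act 1 n27104 = n30541 := rfl
theorem F66952 : act 2 n30541 = n29858 := d6_2 D27104 D30541 F64667 F56758 F45435
def n30542 : Q := act 4 n27104
theorem D30542 : act 4 n27104 = n30542 := rfl
theorem F66953 : act 0 n30542 = n29762 := d3_1 D30542 F64320 F62795
theorem F66954 : act 2 n30542 = n27105 := d12_1 D30542 (iv D27105) D27104
theorem F66955 : act 3 n30542 = n29115 := d15_1 D30542 F62568 (iv F52372) (iv F62768) F62767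
theorem F66956 : act 5 n30542 = n27113 := d18_2 (iv F56698) D30542 (iv D27113)
def n30543 : Q := act 6 n27104
theorem D30543 : act 6 n27104 = n30543 := rfl
theorem F66957 : act 2 n30543 = n27106 := d14_1 D30543 (iv D27106) D27104
theorem F66958 : act 3 n30543 = n29200 := d17_1 D30543 (iv F62769) F62767
theorem F66959 : act 5 n30543 = n29199 := d22_2 (iv F56698) D30543 F62734 F52396
def n30544 : Q := act 1 n27106
theorem D30544 : act 1 n27106 = n30544 := rfl
theorem F66960 : act 3 n30544 = n27107 := d7_2 (iv F56703) D30544 (iv D27107)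
theorem F66961 : act 4 n30544 = n27892 := d8_2 F64405 D30544 (iv F64403)
theorem F66962 : act 6 n30544 = n28443 := d10_2 D27106 D30544 (iv F60579) (iv D27124) F45435
theorem F66963 : act 5 n30447 = n30544 := d24_1 (iv F66612) (iv D30544) (iv D27106) F45393 F32364 F23678 (iv F19372) (iv F24231) D18986 D23454 D27632 F58108 D28585 F60985
theorem F66964 : act 0 n27891 = n30544 := d22_4 (iv F66963) F66612 F56245 (iv F58968)
def n30545 : Q := act 5 n27109
theorem D30545 : act 5 n27109 = n30545 := rfl
theorem F66965 : act 1 n30545 = n30310 := d9_1 D30545 (iv D30310) F55228 D26671 (iv F56712)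
theorem F66966 : act 3 n30545 = n27110 := d16_1 D30545 (iv D27110) D27109
theorem F66967 : act 4 n30545 = n30352 := d18_1 D30545 (iv D30352) (iv F56713)
theorem F66968 : act 6 n30516 = n30545 := d17_0 F66966 (iv F56717) D30516
def n30546 : Q := act 6 n27109
theorem D30546 : act 6 n27109 = n30546 := rfl
theorem F66969 : act 3 n30546 = n27111 := d17_1 D30546 (iv D27111) D27109
theorem F66970 : act 4 n30546 = n30353 := d19_1 D30546 (iv D30353) (iv F56713)
theorem F66971 : act 5 n28901 = n30546 := d22_0 (iv D30546) D30545 (iv F66968) F66872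
def n30547 : Q := act 6 n27113
theorem D30547 : act 6 n27113 = n30547 := rfl
theorem F66972 : act 0 n30547 = n29775 := d5_1 D30547 (iv D29775) (iv F56725)
theorem F66973 : act 1 n30547 = n30506 := d10_1 D30547 F66840 (iv F63718) F63720 F57780
theorem F66974 : act 2 n30547 = n27115 := d14_1 D30547 (iv D27115) (iv F56726)
theorem F66975 : act 3 n30547 = n29091 := d17_1 D30547 F62532 (iv F56727)
theorem F66976 : act 4 n30547 = n27114 := d19_1 D30547 (iv D27114) D27113
def n30548 : Q := act 1 n27114
theorem D30548 : act 1 n27114 = n30548 := rfl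
theorem F66977 : act 2 n30548 = n27480 := d6_2 (iv F56728) D30548 (iv D27480) F46454 (iv F45421)
theorem F66978 : act 4 n30548 = n30506 := d8_2 F66976 D30548 (iv F66973)
def n30549 : Q := act 5 n27114
theorem D30549 : act 5 n27114 = n30549 := rfl
theorem F66979 : act 0 n30549 = n30543 := d4_1 D30549 F66959 F62732
theorem F66980 : act 2 n30549 = n27116 := d13_1 D30549 (iv D27116) (iv F56728)
theorem F66981 : act 3 n30549 = n29224 := d16_1 D30549 F62803 (iv F62724)
theorem F66982 : act 6 n30549 = n29222 := d20_2 D27114 D30549 (iv D29222) (iv F62734) (iv F66959) (iv D30543) F56698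
def n30550 : Q := act 1 n27116
theorem D30550 : act 1 n27116 = n30550 := rfl
theorem F66983 : act 3 n30550 = n27117 := d7_2 (iv F56734) D30550 (iv D27117)
theorem F66984 : act 5 n30550 = n27482 := d9_2 D27116 D30550 (iv D27482) (iv D23343) (iv F45421)
theorem F66985 : act 6 n30550 = n28201 := d10_2 (iv F56735) D30550 F64314 (iv D29760) (iv F56695)
def n30551 : Q := act 3 n27119
theorem D30551 : act 3 n27119 = n30551 := rfl
theorem F66986 : act 0 n30551 = n28116 := d2_1 D30551 F65461 F65458
theorem F66987 : act 1 n30551 = n27486 := d7_1 D30551 (iv D27486) (iv F56746)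
theorem F66988 : act 4 n30551 = n28230 := d15_2 (iv F56747) D30551 (iv D28230) F56757 (iv D27122)
def n30552 : Q := act 5 n27120
theorem D30552 : act 5 n27120 = n30552 := rfl
theorem F66989 : act 0 n30552 = n27123 := d4_1 D30552 (iv D27123) (iv F56748)
theorem F66990 : act 2 n30552 = n27121 := d13_1 D30552 (iv D27121) D27120
theorem F66991 : act 3 n30552 = n28088 := d16_1 D30552 (iv D28088) (iv F56750)
theorem F66992 : act 6 n30552 = n29602 := d22_1 D30552 F63790 F56614 (iv F56748)
theorem F66993 : act 1 n30552 = n29901 := d24_2 F63859 D30552 F64830 F64055 F64053 (iv F54017) (iv D26215) F42144 D21751 (iv F52078) (iv F62377) (iv F63868) (iv D29625) (iv F63858)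
def n30553 : Q := act 6 n27123
theorem D30553 : act 6 n27123 = n30553 := rfl
theorem F66994 : act 0 n30553 = n29602 := d5_1 D30553 (iv F66992) F66989
theorem F66995 : act 2 n30553 = n27124 := d14_1 D30553 (iv D27124) (iv F56758)
theorem F66996 : act 3 n30553 = n29603 := d17_1 D30553 (iv F64664) (iv F64665)
theorem F66997 : act 5 n30553 = n29622 := d20_1 D30553 F63859 D30552 F66992 F63790 F56614 D27123
def n30554 : Q := act 6 n27125
theorem D30554 : act 6 n27125 = n30554 := rfl
theorem F66998 : act 0 n30554 = n27329 := d5_1 D30554 F61939 F61935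
theorem F66999 : act 1 n30554 = n28510 := d10_1 D30554 (iv D28510) (iv F50031) (iv F45444) D27125
theorem F67000 : act 2 n30554 = n30273 := d14_1 D30554 F66018 F59951
theorem F67001 : act 4 n30554 = n27159 := d19_1 D30554 (iv D27159) (iv F56762)
theorem F67002 : act 5 n30554 = n30273 := d20_1 D30554 F66018 (iv F61938) (iv F61939) (iv F61943) (iv D28883) (iv F56763)
def n30555 : Q := act 3 n27126
theorem D30555 : act 3 n27126 = n30555 := rfl
theorem F67003 : act 0 n30555 = n28100 := d2_1 D30555 F65761 F65758
theorem F67004 : act 1 n30555 = n27562 := d7_1 D30555 (iv D27562) (iv F56764)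
theorem F67005 : act 4 n30555 = n28252 := d15_2 (iv F56765) D30555 (iv D28252) F56775 (iv D27129)
def n30556 : Q := act 6 n27127
theorem D30556 : act 6 n27127 = n30556 := rfl
theorem F67006 : act 0 n30556 = n27130 := d5_1 D30556 (iv D27130) (iv F56766)
theorem F67007 : act 2 n30556 = n27128 := d14_1 D30556 (iv D27128) D27127
theorem F67008 : act 3 n30556 = n28108 := d17_1 D30556 (iv D28108) (iv F56767)
theorem F67009 : act 5 n30556 = n29840 := d22_2 F64671 D30556 F64602 (iv F64669)
theorem F67010 : act 1 n29671 = n30556 := d24_14 (iv D30556) (iv F64671) F64670 D29862 F64680 F62402 F52117 (iv D21591) (iv F41801) D25982 F53860 (iv F64831) (iv F64834) (iv F64052)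
def n30557 : Q := act 5 n27130
theorem D30557 : act 5 n27130 = n30557 := rfl
theorem F67011 : act 0 n30557 = n29840 := d4_1 D30557 (iv F67009) F67006
theorem F67012 : act 2 n30557 = n27131 := d13_1 D30557 (iv D27131) (iv F56776)
theorem F67013 : act 3 n30557 = n29841 := d16_1 D30557 F64605 (iv F63853)
theorem F67014 : act 6 n30557 = n29859 := d20_2 D27130 D30557 F64671 D30556 F67009 F64602 F56689
def n30558 : Q := act 5 n27132
theorem D30558 : act 5 n27132 = n30558 := rfl
theorem F67015 : act 0 n30558 = n27418 := d4_1 D30558 (iv F61965) F61961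
theorem F67016 : act 1 n30558 = n28456 := d9_1 D30558 (iv D28456) (iv F49895) (iv F45462) D27132
theorem F67017 : act 2 n30558 = n30334 := d13_1 D30558 F66253 F60034
theorem F67018 : act 4 n30558 = n27160 := d18_1 D30558 (iv D27160) (iv F56780)
theorem F67019 : act 6 n30558 = n30334 := d20_2 (iv F56781) D30558 F66253 (iv F61964) F61965 (iv F61969) (iv D28891)
def n30559 : Q := act 1 n27133
theorem D30559 : act 1 n27133 = n30559 := rfl
theorem F67020 : act 2 n30559 = n27780 := d6_2 D27133 D30559 F58568 (iv F55178) F55177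
theorem F67021 : act 3 n30559 = n30448 := d7_2 F62114 D30559 F66614
theorem F67022 : act 6 n30559 = n27779 := d10_2 (iv F56784) D30559 F58565 F58299 (iv D27711)
theorem F67023 : act 5 n28931 = n30559 := d24_1 D28931 (iv D30559) F56784 F56465 F56462 F51679 (iv D23778) F36317 F24785 F24583 D14084 (iv F35478) (iv F40242) D25206
theorem F67024 : act 0 n30559 = n28931 := d22_4 F67023 F67022 F58567 (iv F67022)
def n30560 : Q := act 5 n27134
theorem D30560 : act 5 n27134 = n30560 := rfl
theorem F67025 : act 0 n30560 = n30560 := d4_1 D30560 (iv D30560) F56785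
theorem F67026 : act 1 n30560 = n27826 := d9_1 D30560 (iv D27826) F47826 (iv F45491) D27134
theorem F67027 : act 3 n30560 = n27827 := d16_1 D30560 F58755 F58716
theorem F67028 : act 4 n30560 = n29722 := d18_1 D30560 (iv F66852) F66851
def n30561 : Q := act 1 n27135
theorem D30561 : act 1 n27135 = n30561 := rfl
theorem F67029 : act 2 n30561 = n27752 := d6_2 D27135 D30561 F58460 (iv F55636) F55635
theorem F67030 : act 3 n30561 = n30440 := d7_2 F62072 D30561 F66581
theorem F67031 : act 5 n30561 = n27751 := d9_2 (iv F56787) D30561 F58457 F58313 (iv D27715)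
theorem F67032 : act 0 n30561 = n28940 := d23_3 (iv F45492) D27135 D30561 (iv D28940) (iv F54163) (iv D26288) F42247 (iv D21534) (iv F41666) F41665 F35548 (iv D19080) (iv D13879) (iv D10950) (iv D8197) D8199 (iv F19453) D13886 D19084
theorem F67033 : act 6 n30561 = n28940 := d24_3 F56458 (iv F56787) D30561 (iv D28940) (iv D25254) (iv F40477) F35480 (iv D14037) (iv F24529) (iv F24676) (iv F36215) D23754 (iv F51523) (iv F56455)
def n30562 : Q := act 6 n27136
theorem D30562 : act 6 n27136 = n30562 := rfl
theorem F67034 : act 0 n30562 = n30562 := d5_1 D30562 (iv D30562) F56789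
theorem F67035 : act 1 n30562 = n27821 := d10_1 D30562 (iv D27821) F47738 (iv F45516) D27136
theorem F67036 : act 3 n30562 = n27822 := d17_1 D30562 (iv F58738) F58736
theorem F67037 : act 4 n30562 = n29940 := d19_1 D30562 (iv F66869) F66867
def n30563 : Q := act 1 n27137
theorem D30563 : act 1 n27137 = n30563 := rfl
theorem F67038 : act 0 n30563 = n30563 := d0_1 D30563 (iv D30563) F56790 F55975 F54872 F42875 (iv F54872) (iv F55975) (iv F56790)
theorem F67039 : act 2 n30563 = n30562 := d6_2 (iv F56791) D30563 F67035 F58727 F55737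
theorem F67040 : act 3 n30563 = n27138 := d7_2 (iv F56792) D30563 (iv D27138)
theorem F67041 : act 4 n30563 = n28520 := d8_2 (iv F56793) D30563 (iv D28520)
theorem F67042 : act 5 n30563 = n30562 := d9_2 (iv F56794) D30563 F67035 F58730 F53950
theorem F67043 : act 6 n30563 = n28932 := d10_2 D27137 D30563 (iv D28932) (iv D25213) F45522
def n30564 : Q := act 1 n27139
theorem D30564 : act 1 n27139 = n30564 := rfl
theorem F67044 : act 0 n30564 = n30564 := d0_1 D30564 (iv D30564) F56799 F56052 F55381 F43404 (iv F55381) (iv F56052) (iv F56799)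
theorem F67045 : act 2 n30564 = n30560 := d6_2 (iv F56800) D30564 F67026 F58748 F55845
theorem F67046 : act 3 n30564 = n27140 := d7_2 (iv F56801) D30564 (iv D27140)
theorem F67047 : act 4 n30564 = n28468 := d8_2 (iv F56802) D30564 (iv D28468)
theorem F67048 : act 5 n30564 = n28941 := d9_2 D27139 D30564 (iv D28941) (iv D25261) F45532
theorem F67049 : act 6 n30564 = n30560 := d10_2 (iv F56803) D30564 F67026 F58751 F53358
def n30565 : Q := act 5 n27148
theorem D30565 : act 5 n27148 = n30565 := rfl
theorem F67050 : act 0 n30565 = n28623 := d4_1 D30565 F61090 (iv F56835)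
theorem F67051 : act 1 n30565 = n29853 := d9_1 D30565 F64657 (iv D27072) (iv F50610) (iv F56836)
theorem F67052 : act 3 n30565 = n27149 := d16_1 D30565 (iv D27149) D27148
theorem F67053 : act 4 n30565 = n28509 := d18_1 D30565 F60781 (iv F56837)
def n30566 : Q := act 6 n27157
theorem D30566 : act 6 n27157 = n30566 := rfl
theorem F67054 : act 0 n30566 = n28680 := d5_1 D30566 F61273 (iv F56870)
theorem F67055 : act 1 n30566 = n29613 := d10_1 D30566 F63832 (iv D27098) (iv F50687) (iv F56871)
theorem F67056 : act 3 n30566 = n27158 := d17_1 D30566 (iv D27158) D27157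
theorem F67057 : act 4 n30566 = n28455 := d19_1 D30566 F60619 (iv F56872)
def n30567 : Q := act 6 n27162
theorem D30567 : act 6 n27162 = n30567 := rfl
theorem F67058 : act 0 n30567 = n28689 := d5_1 D30567 (iv D28689) (iv F56892)
theorem F67059 : act 2 n30567 = n28422 := d14_1 D30567 (iv D28422) (iv F56894)
theorem F67060 : act 3 n30567 = n27163 := d17_1 D30567 (iv D27163) D27162
theorem F67061 : act 4 n30567 = n28421 := d19_1 D30567 (iv D28421) F56896
def n30568 : Q := act 2 n27164
theorem D30568 : act 2 n27164 = n30568 := rfl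
theorem F67062 : act 5 n30568 = n28916 := d13_2 F56900 D30568 (iv D28916)
theorem F67063 : act 6 n30568 = n27166 := d14_2 (iv F56899) D30568 (iv D27166)
def n30569 : Q := act 5 n27166
theorem D30569 : act 5 n27166 = n30569 := rfl
theorem F67064 : act 0 n30569 = n27303 := d4_1 D30569 F65318 F65315
theorem F67065 : act 1 n30569 = n30569 := d9_1 D30569 (iv D30569) F56903 F51996 (iv F56903)
theorem F67066 : act 2 n30569 = n27167 := d13_1 D30569 (iv D27167) D27166
theorem F67067 : act 6 n30569 = n30520 := d22_3 (iv F67062) F67063 D30569 F66884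
def n30570 : Q := act 5 n27169
theorem D30570 : act 5 n27169 = n30570 := rfl
theorem F67068 : act 0 n30570 = n28753 := d4_1 D30570 (iv D28753) (iv F56912)
theorem F67069 : act 2 n30570 = n28476 := d13_1 D30570 (iv D28476) (iv F56914)
theorem F67070 : act 3 n30570 = n27170 := d16_1 D30570 (iv D27170) D27169
theorem F67071 : act 4 n30570 = n28475 := d18_1 D30570 (iv D28475) F56916
def n30571 : Q := act 2 n27171
theorem D30571 : act 2 n27171 = n30571 := rfl
theorem F67072 : act 5 n30571 = n27173 := d13_2 (iv F56919) D30571 (iv D27173)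
theorem F67073 : act 6 n30571 = n28902 := d14_2 (iv F56920) D30571 (iv D28902)
def n30572 : Q := act 6 n27173
theorem D30572 : act 6 n27173 = n30572 := rfl
theorem F67074 : act 0 n30572 = n27278 := d5_1 D30572 F65601 F65598
theorem F67075 : act 1 n30572 = n30572 := d10_1 D30572 (iv D30572) F56923 F52000 (iv F56923)
theorem F67076 : act 2 n30572 = n27174 := d14_1 D30572 (iv D27174) D27173
theorem F67077 : act 5 n30537 = n30572 := d22_0 (iv D30572) (iv F67072) F67073 (iv F66940)
def n30573 : Q := act 6 n27178
theorem D30573 : act 6 n27178 = n30573 := rfl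
theorem F67078 : act 0 n30573 = n27183 := d5_1 D30573 (iv D27183) (iv F56939)
theorem F67079 : act 2 n30573 = n28270 := d14_1 D30573 (iv D28270) (iv F56941)
theorem F67080 : act 3 n30573 = n27179 := d17_1 D30573 (iv D27179) D27178
theorem F67081 : act 5 n30573 = n30567 := d20_1 D30573 (iv D30567) F56895 D27183 (iv F61309) (iv D28689) (iv F56940)
def n30574 : Q := act 1 n27179
theorem D30574 : act 1 n27179 = n30574 := rfl
theorem F67082 : act 2 n30574 = n29395 := d6_2 (iv F56943) D30574 (iv D29395) F56947 (iv D27180)
def n30575 : Q := act 6 n27182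
theorem D30575 : act 6 n27182 = n30575 := rfl
theorem F67083 : act 2 n30575 = n28423 := d14_1 D30575 (iv D28423) (iv F56953)
theorem F67084 : act 4 n30575 = n27183 := d19_1 D30575 (iv D27183) D27182
theorem F67085 : act 5 n30575 = n29842 := d22_2 (iv F56954) D30575 F64610 F60510
def n30576 : Q := act 1 n27183
theorem D30576 : act 1 n27183 = n30576 := rfl
theorem F67086 : act 3 n30576 = n27184 := d7_2 (iv F56955) D30576 (iv D27184)
theorem F67087 : act 6 n30576 = n28962 := d10_2 D27183 D30576 (iv D28962) (iv D25305) (iv F45815)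
def n30577 : Q := act 0 n27184
theorem D30577 : act 0 n27184 = n30577 := rfl
theorem F67088 : act 6 n30577 = n28963 := d5_2 (iv F56956) D30577 (iv D28963)
def n30578 : Q := act 5 n27184
theorem D30578 : act 5 n27184 = n30578 := rfl
theorem F67089 : act 2 n30578 = n30075 := d13_1 D30578 F65380 F57059
theorem F67090 : act 4 n30578 = n30072 := d18_1 D30578 F66668 F66666
theorem F67091 : act 6 n30578 = n30070 := d22_1 D30578 (iv F65366) (iv F67088) (iv D30577)
def n30579 : Q := act 1 n27185
theorem D30579 : act 1 n27185 = n30579 := rfl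
def n30580 : Q := act 5 n27190
theorem D30580 : act 5 n27190 = n30580 := rfl
theorem F67092 : act 0 n30580 = n27195 := d4_1 D30580 (iv D27195) (iv F56974)
theorem F67093 : act 2 n30580 = n28280 := d13_1 D30580 (iv D28280) (iv F56976)
theorem F67094 : act 3 n30580 = n27191 := d16_1 D30580 (iv D27191) D27190
theorem F67095 : act 6 n30580 = n30570 := d20_2 (iv F56975) D30580 (iv D30570) F56915 D27195 (iv F61527) (iv D28753)
def n30581 : Q := act 1 n27191
theorem D30581 : act 1 n27191 = n30581 := rfl
theorem F67096 : act 2 n30581 = n29533 := d6_2 (iv F56978) D30581 (iv D29533) F56982 (iv D27192)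
def n30582 : Q := act 5 n27194
theorem D30582 : act 5 n27194 = n30582 := rfl
theorem F67097 : act 2 n30582 = n28479 := d13_1 D30582 (iv D28479) (iv F56988)
theorem F67098 : act 4 n30582 = n27195 := d18_1 D30582 (iv D27195) D27194
theorem F67099 : act 6 n30582 = n29594 := d22_1 D30582 F63760 (iv F61798) F61796
def n30583 : Q := act 1 n27195
theorem D30583 : act 1 n27195 = n30583 := rfl
theorem F67100 : act 3 n30583 = n27196 := d7_2 (iv F56990) D30583 (iv D27196)
theorem F67101 : act 5 n30583 = n28977 := d9_2 D27195 D30583 (iv D28977) (iv D25317) (iv F45825)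
def n30584 : Q := act 0 n27196
theorem D30584 : act 0 n27196 = n30584 := rfl
theorem F67102 : act 5 n30584 = n28978 := d4_2 (iv F56991) D30584 (iv D28978)
def n30585 : Q := act 6 n27196
theorem D30585 : act 6 n27196 = n30585 := rfl
theorem F67103 : act 2 n30585 = n30168 := d14_1 D30585 F65660 F57029
theorem F67104 : act 4 n30585 = n30165 := d19_1 D30585 F66702 F66700
theorem F67105 : act 5 n30585 = n30164 := d22_2 (iv F56991) D30585 (iv F65649) (iv D28978)
def n30586 : Q := act 1 n27197
theorem D30586 : act 1 n27197 = n30586 := rfl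
def n30587 : Q := act 6 n27198
theorem D30587 : act 6 n27198 = n30587 := rfl
theorem F67106 : act 0 n30587 = n28952 := d5_1 D30587 (iv D28952) (iv F56995)
theorem F67107 : act 2 n30587 = n29867 := d14_1 D30587 F64704 F62199
theorem F67108 : act 3 n30587 = n27199 := d17_1 D30587 (iv D27199) D27198
theorem F67109 : act 4 n30587 = n28647 := d19_1 D30587 F61168 (iv F56997)
def n30588 : Q := act 5 n27200
theorem D30588 : act 5 n27200 = n30588 := rfl
theorem F67110 : act 0 n30588 = n28954 := d4_1 D30588 (iv D28954) (iv F57001)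
theorem F67111 : act 2 n30588 = n29631 := d13_1 D30588 F63895 F62238
theorem F67112 : act 3 n30588 = n27201 := d16_1 D30588 (iv D27201) D27200
theorem F67113 : act 4 n30588 = n28590 := d18_1 D30588 F61006 (iv F57003)
def n30589 : Q := act 1 n27203
theorem D30589 : act 1 n27203 = n30589 := rfl
theorem F67114 : act 6 n30589 = n29078 := d10_2 D27203 D30589 (iv D29078) (iv D25417) (iv F45884)
def n30590 : Q := act 2 n27205
theorem D30590 : act 2 n27205 = n30590 := rfl
def n30591 : Q := act 1 n27206
theorem D30591 : act 1 n27206 = n30591 := rfl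
theorem F67115 : act 4 n30591 = n28887 := d8_2 F66721 D30591 (iv F66718)
theorem F67116 : act 5 n30591 = n29439 := d9_2 D27206 D30591 (iv D29439) F52749 F52571
def n30592 : Q := act 1 n27207
theorem D30592 : act 1 n27207 = n30592 := rfl
theorem F67117 : act 2 n30592 = n27209 := d6_2 D27207 D30592 (iv D27209) (iv D23109) D23108
def n30593 : Q := act 3 n27207
theorem D30593 : act 3 n27207 = n30593 := rfl
theorem F67118 : act 0 n30593 = n28804 := d2_1 D30593 (iv F63080) F63077
theorem F67119 : act 5 n30593 = n28787 := d16_2 F63069 D30593 (iv F63072)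
theorem F67120 : act 4 n28800 = n30593 := d18_3 F67119 F61620 D28800
def n30594 : Q := act 6 n27207
theorem D30594 : act 6 n27207 = n30594 := rfl
theorem F67121 : act 0 n30594 = n29236 := d5_1 D30594 (iv F63081) F63077
theorem F67122 : act 2 n30594 = n27208 := d14_1 D30594 (iv D27208) D27207
theorem F67123 : act 5 n30594 = n29319 := d20_1 D30594 F63060 D29323 F63081 F62832 (iv F63070) F63069
def n30595 : Q := act 0 n27209
theorem D30595 : act 0 n27209 = n30595 := rfl
theorem F67124 : act 3 n30595 = n28569 := d2_2 (iv F57024) D30595 F60942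
theorem F67125 : act 6 n29441 = n30595 := d22_3 F63372 (iv D29451) (iv F63352) (iv D30595)
def n30596 : Q := act 6 n27209
theorem D30596 : act 6 n27209 = n30596 := rfl
theorem F67126 : act 0 n30596 = n29441 := d5_1 D30596 F67125 (iv D30595)
theorem F67127 : act 3 n30596 = n28568 := d17_1 D30596 F60941 (iv F57024)
theorem F67128 : act 5 n29447 = n30596 := d22_0 (iv D30596) F63372 (iv D29451) (iv F63366)
def n30597 : Q := act 1 n27210
theorem D30597 : act 1 n27210 = n30597 := rfl
theorem F67129 : act 3 n30597 = n28570 := d7_2 (iv F57027) D30597 (iv D28570)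
def n30598 : Q := act 0 n27211
theorem D30598 : act 0 n27211 = n30598 := rfl
theorem F67130 : act 2 n30598 = n30584 := d1_2 (iv F57029) D30598 (iv D30584)
theorem F67131 : act 4 n30598 = n30172 := d3_2 F65670 D30598 F65673
theorem F67132 : act 5 n30598 = n30169 := d4_2 F62252 D30598 F65661
def n30599 : Q := act 1 n27212
theorem D30599 : act 1 n27212 = n30599 := rfl
theorem F67133 : act 3 n30599 = n29433 := d7_2 (iv F57032) D30599 (iv D29433)
theorem F67134 : act 6 n30599 = n29459 := d10_2 D27212 D30599 F65668 F65660 (iv D27211)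
theorem F67135 : act 0 n30599 = n29452 := d23_3 (iv F45903) (iv F57031) D30599 F63375 F60945 (iv D28390) (iv F52558) F52561 F48433 (iv F40875) F40874 (iv F46018) F46020 (iv D18786) F24046 D16158 F27967 D18739 D23105
def n30600 : Q := act 2 n27213
theorem D30600 : act 2 n27213 = n30600 := rfl
theorem F67136 : act 0 n30600 = n30493 := d1_1 D30600 F66798 (iv F57034)
theorem F67137 : act 5 n30600 = n29030 := d13_2 F57296 D30600 F62360
theorem F67138 : act 6 n30600 = n30492 := d14_2 (iv F57036) D30600 (iv D30492)
def n30601 : Q := act 1 n27215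
theorem D30601 : act 1 n27215 = n30601 := rfl
theorem F67139 : act 5 n30601 = n29132 := d9_2 D27215 D30601 (iv D29132) (iv D25453) (iv F45906)
def n30602 : Q := act 2 n27217
theorem D30602 : act 2 n27217 = n30602 := rfl
def n30603 : Q := act 1 n27218
theorem D30603 : act 1 n27218 = n30603 := rfl
theorem F67140 : act 4 n30603 = n28894 := d8_2 F66749 D30603 (iv F66746)
theorem F67141 : act 6 n30603 = n29296 := d10_2 D27218 D30603 (iv D29296) (iv F52589) F52587
def n30604 : Q := act 1 n27219
theorem D30604 : act 1 n27219 = n30604 := rfl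
theorem F67142 : act 2 n30604 = n27221 := d6_2 D27219 D30604 (iv D27221) (iv D23121) D23120
def n30605 : Q := act 3 n27219
theorem D30605 : act 3 n27219 = n30605 := rfl
theorem F67143 : act 0 n30605 = n28746 := d2_1 D30605 (iv F63414) F63411
theorem F67144 : act 6 n30605 = n28723 := d17_2 F63404 D30605 F63406
theorem F67145 : act 4 n28738 = n30605 := d19_3 F67144 F61470 D28738
def n30606 : Q := act 5 n27219
theorem D30606 : act 5 n27219 = n30606 := rfl
theorem F67146 : act 0 n30606 = n29180 := d4_1 D30606 (iv F63415) F63411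
theorem F67147 : act 2 n30606 = n27220 := d13_1 D30606 (iv D27220) D27219
theorem F67148 : act 6 n30606 = n29461 := d20_2 F63404 D30606 F63396 D29465 F63415 F62686 (iv F63403)
def n30607 : Q := act 0 n27221
theorem D30607 : act 0 n27221 = n30607 := rfl
theorem F67149 : act 3 n30607 = n28544 := d2_2 (iv F57054) D30607 F60880
theorem F67150 : act 5 n30607 = n29300 := d22_0 F63022 D29308 (iv F63032) D30607
theorem F67151 : act 2 n29300 = n29307 := d23_5 F45910 D23121 D27221 D30607 F67150 F63030 (iv F63037) F63197 F63194 (iv D29131) (iv F52244) (iv D25453) F41039 F27778 (iv F24009) (iv F28024) F28022 D18744 D23117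
theorem F67152 : act 4 n29306 = n29300 := d12_0 F67151 (iv D29307) D29306
theorem F67153 : act 6 n29307 = n29306 := d14_2 (iv F63022) F67151 (iv D29306)
def n30608 : Q := act 5 n27221
theorem D30608 : act 5 n27221 = n30608 := rfl
theorem F67154 : act 0 n30608 = n29300 := d4_1 D30608 (iv F67150) (iv D30607)
theorem F67155 : act 3 n30608 = n28543 := d16_1 D30608 F60878 (iv F57054)
theorem F67156 : act 6 n30608 = n29304 := d22_3 D29308 (iv F63032) D30608 F63026
def n30609 : Q := act 1 n27222
theorem D30609 : act 1 n27222 = n30609 := rfl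
theorem F67157 : act 3 n30609 = n28545 := d7_2 (iv F57057) D30609 (iv D28545)
def n30610 : Q := act 0 n27223
theorem D30610 : act 0 n27223 = n30610 := rfl
theorem F67158 : act 2 n30610 = n30577 := d1_2 (iv F57059) D30610 (iv D30577)
theorem F67159 : act 4 n30610 = n30076 := d3_2 F65390 D30610 (iv F65388)
theorem F67160 : act 6 n30610 = n30074 := d5_2 F62213 D30610 F65376
def n30611 : Q := act 1 n27224
theorem D30611 : act 1 n27224 = n30611 := rfl
theorem F67161 : act 3 n30611 = n29573 := d7_2 (iv F57062) D30611 (iv D29573)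
theorem F67162 : act 5 n30611 = n29317 := d9_2 D27224 D30611 (iv F65387) F65380 (iv D27223)
theorem F67163 : act 0 n30611 = n29309 := d23_3 D23125 (iv F57061) D30611 F63035 F52591 (iv D25431) (iv F41031) F41033 (iv D21212) D21211 (iv F49605) F49608 D24470 F49610 (iv F56322) D30476 F66727 F56326 F45916
def n30612 : Q := act 2 n27225
theorem D30612 : act 2 n27225 = n30612 := rfl
theorem F67164 : act 0 n30612 = n30497 := d1_1 D30612 F66811 (iv F57064)
theorem F67165 : act 5 n30612 = n30496 := d13_2 (iv F57066) D30612 (iv D30496)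
theorem F67166 : act 6 n30612 = n29019 := d14_2 F57215 D30612 F62344
def n30613 : Q := act 2 n27226
theorem D30613 : act 2 n27226 = n30613 := rfl
theorem F67167 : act 1 n30613 = n27504 := d6_1 D30613 F57815 F46495 (iv F45933) D27226
theorem F67168 : act 4 n30613 = n27228 := d12_2 (iv F57068) D30613 (iv D27228)
theorem F67169 : act 6 n30613 = n30548 := d14_2 F57755 D30613 F66977
def n30614 : Q := act 5 n27226
theorem D30614 : act 5 n27226 = n30614 := rfl
theorem F67170 : act 1 n30614 = n30103 := d9_1 D30614 F65469 (iv D27330) F46137 D27226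
theorem F67171 : act 3 n30614 = n27710 := d16_1 D30614 F58295 (iv F57067)
theorem F67172 : act 4 n30614 = n27229 := d18_1 D30614 (iv D27229) (iv F57068)
theorem F67173 : act 6 n28586 = n30614 := d24_0 (iv D30614) (iv D27226) (iv D23128) F33573 F24090 D13763 D18918 D23349 (iv F52991) D29583 F63721 (iv F60997) (iv D28588) D28586
def n30615 : Q := act 5 n27227
theorem D30615 : act 5 n27227 = n30615 := rfl
theorem F67174 : act 0 n30615 = n27229 := d4_1 D30615 (iv D27229) D27227
theorem F67175 : act 3 n30615 = n27231 := d16_1 D30615 (iv D27231) (iv F57069)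
theorem F67176 : act 6 n30615 = n30507 := d22_1 D30615 (iv D30507) F56493 D27227
def n30616 : Q := act 5 n27228
theorem D30616 : act 5 n27228 = n30616 := rfl
theorem F67177 : act 2 n30616 = n27229 := d13_1 D30616 (iv D27229) D27228
def n30617 : Q := act 6 n27229
theorem D30617 : act 6 n27229 = n30617 := rfl
theorem F67178 : act 0 n30617 = n30507 := d5_1 D30617 (iv F67176) F67174
theorem F67179 : act 1 n30617 = n28584 := d10_1 D30617 F60984 F59149 F59139 F57371
theorem F67180 : act 3 n30617 = n27233 := d17_1 D30617 (iv D27233) (iv F57070)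
theorem F67181 : act 4 n30617 = n28586 := d19_1 D30617 F67173 F67172
theorem F67182 : act 5 n30617 = n30505 := d20_1 D30617 F66839 D30615 F67176 (iv D30507) F56493 D27229
def n30618 : Q := act 3 n27234
theorem D30618 : act 3 n27234 = n30618 := rfl
theorem F67183 : act 0 n30618 = n30408 := d2_1 D30618 F66484 (iv F57084)
def n30619 : Q := act 1 n27235
theorem D30619 : act 1 n27235 = n30619 := rfl
theorem F67184 : act 0 n30619 = n30367 := d0_1 D30619 (iv D30367) (iv F55687) (iv F62001) F62000 (iv F62005) F62004 (iv D27236) (iv F57086)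
theorem F67185 : act 4 n30619 = n27712 := d8_2 (iv F57087) D30619 (iv D27712)
theorem F67186 : act 5 n30619 = n27532 := d9_2 (iv F57088) D30619 (iv F57879) (iv D25859) (iv F47428)
theorem F67187 : act 6 n30619 = n29240 := d10_2 (iv F57089) D30619 (iv D29240) (iv D25549) (iv F52428)
def n30620 : Q := act 3 n27235
theorem D30620 : act 3 n27235 = n30620 := rfl
theorem F67188 : act 0 n30620 = n27237 := d2_1 D30620 (iv D27237) (iv F57086)
theorem F67189 : act 4 n30620 = n27611 := d15_2 (iv F57087) D30620 F58065 F46672 (iv F46820)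
theorem F67190 : act 5 n30620 = n27610 := d16_2 (iv F57088) D30620 F58063
theorem F67191 : act 6 n30620 = n29237 := d17_2 (iv F57089) D30620 (iv D29237)
def n30621 : Q := act 3 n27236
theorem D30621 : act 3 n27236 = n30621 := rfl
theorem F67192 : act 1 n30621 = n27237 := d7_1 D30621 (iv D27237) D27236
theorem F67193 : act 4 n30621 = n27601 := d15_2 (iv F57091) D30621 F58047 F46660 (iv F46824)
theorem F67194 : act 5 n30621 = n27600 := d16_2 (iv F57092) D30621 F58045
def n30622 : Q := act 2 n27237
theorem D30622 : act 2 n27237 = n30622 := rfl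
theorem F67195 : act 4 n30622 = n27617 := d12_2 (iv F57093) D30622 F58076
theorem F67196 : act 5 n30622 = n27616 := d13_2 (iv F57094) D30622 F58075
def n30623 : Q := act 6 n27237
theorem D30623 : act 6 n27237 = n30623 := rfl
theorem F67197 : act 0 n30623 = n29237 := d5_1 D30623 (iv F67191) F67188
theorem F67198 : act 3 n30623 = n27238 := d17_1 D30623 (iv D27238) D27237
theorem F67199 : act 4 n30623 = n27619 := d19_1 D30623 (iv D27619) (iv F57093)
theorem F67200 : act 5 n30623 = n30503 := d20_1 D30623 F66835 (iv F67190) F67191 F62835 F56447 (iv F57094)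
theorem F67201 : act 1 n30046 = n30623 := d8_3 F67199 (iv F64823) (iv F65291)
def n30624 : Q := act 2 n27241
theorem D30624 : act 2 n27241 = n30624 := rfl
theorem F67202 : act 1 n30624 = n27580 := d6_1 D30624 F57991 F46618 (iv F45972) D27241
theorem F67203 : act 4 n30624 = n27243 := d12_2 (iv F57107) D30624 (iv D27243)
theorem F67204 : act 5 n30624 = n30531 := d13_2 F57931 D30624 F66921
def n30625 : Q := act 6 n27241
theorem D30625 : act 6 n27241 = n30625 := rfl
theorem F67205 : act 1 n30625 = n30195 := d10_1 D30625 (iv F65752) (iv D27420) F46321 D27241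
theorem F67206 : act 3 n30625 = n27714 := d17_1 D30625 (iv F58309) (iv F57106)
theorem F67207 : act 4 n30625 = n27244 := d19_1 D30625 (iv D27244) (iv F57107)
theorem F67208 : act 5 n30625 = n28644 := d24_1 D30625 (iv D28644) D28646 F61163 (iv F64555) (iv D29829) F53596 (iv D23408) (iv D18958) (iv D13783) (iv F24129) (iv F33601) D23143 D27241
def n30626 : Q := act 6 n27242
theorem D30626 : act 6 n27242 = n30626 := rfl
theorem F67209 : act 0 n30626 = n27244 := d5_1 D30626 (iv D27244) D27242
theorem F67210 : act 3 n30626 = n27246 := d17_1 D30626 (iv D27246) (iv F57108)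
theorem F67211 : act 5 n30626 = n30512 := d22_2 F66855 D30626 (iv D30512) D30510
def n30627 : Q := act 6 n27243
theorem D30627 : act 6 n27243 = n30627 := rfl
theorem F67212 : act 2 n30627 = n27244 := d14_1 D30627 (iv D27244) D27243
theorem F67213 : act 1 n30616 = n30627 := d6_5 F67212 (iv F57609) (iv F59140) F57371 (iv F67177)
def n30628 : Q := act 5 n27244
theorem D30628 : act 5 n27244 = n30628 := rfl
theorem F67214 : act 0 n30628 = n30512 := d4_1 D30628 (iv F67211) F67209
theorem F67215 : act 1 n30628 = n28643 := d9_1 D30628 F61154 F59365 (iv F59141) F57609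
theorem F67216 : act 3 n30628 = n27248 := d16_1 D30628 (iv D27248) (iv F57109)
theorem F67217 : act 4 n30628 = n28644 := d18_1 D30628 (iv F67208) F67207
theorem F67218 : act 6 n30628 = n30510 := d20_2 D27244 D30628 F66855 D30626 F67211 (iv D30512) F56521
def n30629 : Q := act 3 n27249
theorem D30629 : act 3 n27249 = n30629 := rfl
theorem F67219 : act 0 n30629 = n30388 := d2_1 D30629 F66434 (iv F57123)
def n30630 : Q := act 1 n27250
theorem D30630 : act 1 n27250 = n30630 := rfl
theorem F67220 : act 0 n30630 = n30330 := d0_1 D30630 (iv D30330) F55317 (iv F62048) F62047 (iv F62022) F62021 (iv D27251) (iv F57125)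
theorem F67221 : act 2 n30630 = n30619 := d6_2 D27250 D30630 (iv D30619) (iv D27235) (iv F45982)
theorem F67222 : act 4 n30630 = n27716 := d8_2 (iv F57126) D30630 (iv D27716)
theorem F67223 : act 5 n30630 = n29185 := d9_2 (iv F57127) D30630 (iv D29185) (iv D25491) (iv F52302)
theorem F67224 : act 6 n30630 = n27607 := d10_2 (iv F57128) D30630 (iv F58058) (iv D26100) (iv F47283)
def n30631 : Q := act 3 n27250
theorem D30631 : act 3 n27250 = n30631 := rfl
theorem F67225 : act 0 n30631 = n27252 := d2_1 D30631 (iv D27252) (iv F57125)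
theorem F67226 : act 4 n30631 = n27536 := d15_2 (iv F57126) D30631 F57887 F46540 (iv F46848)
theorem F67227 : act 5 n30631 = n29181 := d16_2 (iv F57127) D30631 (iv D29181)
theorem F67228 : act 6 n30631 = n27534 := d17_2 (iv F57128) D30631 F57883
def n30632 : Q := act 3 n27251
theorem D30632 : act 3 n27251 = n30632 := rfl
theorem F67229 : act 1 n30632 = n27252 := d7_1 D30632 (iv D27252) D27251
theorem F67230 : act 4 n30632 = n27525 := d15_2 (iv F57130) D30632 F57868 F46527 (iv F46852)
theorem F67231 : act 6 n30632 = n27524 := d17_2 (iv F57131) D30632 F57866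
def n30633 : Q := act 2 n27252
theorem D30633 : act 2 n27252 = n30633 := rfl
theorem F67232 : act 4 n30633 = n27542 := d12_2 (iv F57132) D30633 F57897
theorem F67233 : act 6 n30633 = n27540 := d14_2 (iv F57133) D30633 F57895
def n30634 : Q := act 5 n27252
theorem D30634 : act 5 n27252 = n30634 := rfl
theorem F67234 : act 0 n30634 = n29181 := d4_1 D30634 (iv F67227) F67225
theorem F67235 : act 3 n30634 = n27253 := d16_1 D30634 (iv D27253) D27252
theorem F67236 : act 4 n30634 = n27544 := d18_1 D30634 (iv D27544) (iv F57132)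
theorem F67237 : act 6 n30634 = n30500 := d20_2 (iv F57133) D30634 F66825 (iv F67228) F67227 F62689 F56438
theorem F67238 : act 1 n30141 = n30634 := d8_3 F67236 (iv F64040) (iv F65577)
def n30635 : Q := act 2 n27257
theorem D30635 : act 2 n27257 = n30635 := rfl
theorem F67239 : act 0 n30635 = n27258 := d1_1 D30635 (iv D27258) D27257
theorem F67240 : act 4 n30635 = n30606 := d12_2 (iv F57151) D30635 F67147
theorem F67241 : act 5 n30635 = n30481 := d13_2 (iv F57153) D30635 (iv D30481)
theorem F67242 : act 6 n30635 = n27260 := d14_2 (iv F57152) D30635 (iv D27260)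
def n30636 : Q := act 3 n27258
theorem D30636 : act 3 n27258 = n30636 := rfl
theorem F67243 : act 1 n30636 = n29300 := d7_1 D30636 (iv D29300) (iv F57155)
theorem F67244 : act 6 n30636 = n27261 := d17_2 (iv F57156) D30636 (iv D27261)
def n30637 : Q := act 5 n27258
theorem D30637 : act 5 n27258 = n30637 := rfl
theorem F67245 : act 0 n30637 = n30481 := d4_1 D30637 (iv F67241) F67239
theorem F67246 : act 2 n30637 = n27259 := d13_1 D30637 (iv D27259) D27258
theorem F67247 : act 4 n30637 = n29465 := d18_1 D30637 F63415 F62685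
theorem F67248 : act 6 n30637 = n29462 := d20_2 (iv F57156) D30637 F63400 (iv F67242) F67241 F66751 (iv D27262)
def n30638 : Q := act 3 n27260
theorem D30638 : act 3 n27260 = n30638 := rfl
theorem F67249 : act 0 n30638 = n27261 := d2_1 D30638 (iv D27261) (iv F57161)
theorem F67250 : act 1 n30638 = n30638 := d7_1 D30638 (iv D30638) F57162
def n30639 : Q := act 2 n27261
theorem D30639 : act 2 n27261 = n30639 := rfl
def n30640 : Q := act 4 n27261
theorem D30640 : act 4 n27261 = n30640 := rfl
theorem F67251 : act 1 n30640 = n29294 := d8_1 D30640 (iv D29294) (iv F57163)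
theorem F67252 : act 3 n30640 = n28737 := d15_1 D30640 F66793 (iv D30491) F56412 D27261
theorem F67253 : act 5 n28736 = n30640 := d16_0 F67252 (iv D28737) D28736
def n30641 : Q := act 5 n27261
theorem D30641 : act 5 n27261 = n30641 := rfl
theorem F67254 : act 3 n30641 = n27262 := d16_1 D30641 (iv D27262) D27261
theorem F67255 : act 4 n30641 = n28736 := d18_1 D30641 F67253 (iv D30640)
theorem F67256 : act 1 n28739 = n30641 := d8_3 F67255 F61494 D28739
def n30642 : Q := act 1 n27262
theorem D30642 : act 1 n27262 = n30642 := rfl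
theorem F67257 : act 2 n30642 = n30591 := d6_2 (iv F57164) D30642 (iv D30591) F57020 (iv F46014)
theorem F67258 : act 3 n30642 = n28739 := d7_2 F67254 D30642 F67256
theorem F67259 : act 4 n30642 = n28724 := d8_2 F63402 D30642 (iv F63405)
theorem F67260 : act 5 n30642 = n29296 := d9_2 D27262 D30642 (iv D29296) (iv D25604) (iv F46013)
theorem F67261 : act 0 n28726 = n30642 := d3_3 F67259 F61471 D28726
def n30643 : Q := act 2 n27263
theorem D30643 : act 2 n27263 = n30643 := rfl
theorem F67262 : act 0 n30643 = n27264 := d1_1 D30643 (iv D27264) D27263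
theorem F67263 : act 1 n30643 = n30643 := d6_1 D30643 (iv D30643) F57165 F52782 (iv F57165)
theorem F67264 : act 4 n30643 = n30569 := d12_2 (iv F57167) D30643 F67066
theorem F67265 : act 5 n30643 = n30453 := d13_2 F57168 D30643 (iv D30453)
def n30644 : Q := act 3 n27264
theorem D30644 : act 3 n27264 = n30644 := rfl
theorem F67266 : act 1 n30644 = n29518 := d7_1 D30644 (iv D29518) (iv F57169)
def n30645 : Q := act 5 n27264
theorem D30645 : act 5 n27264 = n30645 := rfl
theorem F67267 : act 0 n30645 = n30453 := d4_1 D30645 (iv F67265) F67262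
theorem F67268 : act 1 n30645 = n30057 := d9_1 D30645 (iv F65324) F62212 (iv F52885) (iv F57169)
theorem F67269 : act 2 n30645 = n27265 := d13_1 D30645 (iv D27265) D27264
theorem F67270 : act 4 n30645 = n30053 := d18_1 D30645 (iv F65318) F57288
theorem F67271 : act 6 n30602 = n30645 := d14_0 F67269 (iv F57173) D30602
def n30646 : Q := act 6 n27264
theorem D30646 : act 6 n27264 = n30646 := rfl
theorem F67272 : act 1 n30646 = n29534 := d10_1 D30646 F63598 F52917 (iv F52886) (iv F57169)
theorem F67273 : act 2 n30646 = n27266 := d14_1 D30646 (iv D27266) D27264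
theorem F67274 : act 4 n30646 = n28916 := d19_1 D30646 F62046 F57288
def n30647 : Q := act 2 n27267
theorem D30647 : act 2 n27267 = n30647 := rfl
theorem F67275 : act 0 n30647 = n27268 := d1_1 D30647 (iv D27268) D27267
theorem F67276 : act 4 n30647 = n29029 := d12_2 F57291 D30647 F62358
theorem F67277 : act 5 n30647 = n27270 := d13_2 (iv F57178) D30647 (iv D27270)
def n30648 : Q := act 1 n27270
theorem D30648 : act 1 n27270 = n30648 := rfl
def n30649 : Q := act 3 n27270
theorem D30649 : act 3 n27270 = n30649 := rfl
theorem F67278 : act 0 n30649 = n27272 := d2_1 D30649 (iv D27272) (iv F57185)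
theorem F67279 : act 2 n30649 = n30136 := d11_1 D30649 F65556 (iv D27388) (iv D23250) (iv D18844) (iv F33633) D23165 D27272 (iv F65562) (iv F65867) F65866 (iv D27387) (iv D23248) (iv F46025) D27270
theorem F67280 : act 6 n28658 = n30649 := d14_0 F67279 (iv D30136) F61197
def n30650 : Q := act 6 n27270
theorem D30650 : act 6 n27270 = n30650 := rfl
theorem F67281 : act 0 n30650 = n27273 := d5_1 D30650 (iv D27273) (iv F57185)
theorem F67282 : act 2 n30650 = n27271 := d14_1 D30650 (iv D27271) D27270
theorem F67283 : act 3 n30650 = n28658 := d17_1 D30650 F67280 (iv D30649)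
theorem F67284 : act 4 n30650 = n30600 := d19_1 D30650 F67138 F66796
theorem F67285 : act 5 n30650 = n30122 := d22_2 F67277 D30650 (iv F65529) (iv F67275)
theorem F67286 : act 1 n28650 = n30650 := d9_5 F67285 F65526 D30125 (iv F65537) F62593
def n30651 : Q := act 4 n27272
theorem D30651 : act 4 n27272 = n30651 := rfl
def n30652 : Q := act 6 n27272
theorem D30652 : act 6 n27272 = n30652 := rfl
theorem F67287 : act 0 n30652 = n28658 := d5_1 D30652 F67280 F67278
theorem F67288 : act 2 n30652 = n30132 := d14_1 D30652 (iv F65563) F65562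
theorem F67289 : act 3 n30652 = n27273 := d17_1 D30652 (iv D27273) D27272
theorem F67290 : act 5 n30121 = n30652 := d22_0 (iv D30652) F65535 (iv D30124) D30121
def n30653 : Q := act 1 n27273
theorem D30653 : act 1 n27273 = n30653 := rfl
theorem F67291 : act 2 n30653 = n30589 := d6_2 (iv F57191) D30653 (iv D30589) F57014 (iv F46026)
def n30654 : Q := act 5 n27273
theorem D30654 : act 5 n27273 = n30654 := rfl
theorem F67292 : act 0 n30654 = n30122 := d4_1 D30654 (iv F67285) F67281
theorem F67293 : act 2 n30654 = n27274 := d13_1 D30654 (iv D27274) (iv F57191)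
theorem F67294 : act 3 n30654 = n30121 := d16_1 D30654 F67290 F67289
theorem F67295 : act 6 n30654 = n30647 := d20_2 D27273 D30654 F67277 D30650 F67285 (iv F65529) F57182
theorem F67296 : act 1 n30654 = n29015 := d24_2 D27273 D30654 F62335 F52288 F60478 (iv F60479) D29037 F62364 F63911 (iv F63912) F60331 F51944 (iv F52561) F52559
theorem F67297 : act 5 n30653 = n29036 := d9_2 (iv D30654) D30653 (iv D29036) (iv F62334) (iv F67296)
def n30655 : Q := act 2 n27282
theorem D30655 : act 2 n27282 = n30655 := rfl
theorem F67298 : act 0 n30655 = n27283 := d1_1 D30655 (iv D27283) D27282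
theorem F67299 : act 4 n30655 = n30594 := d12_2 (iv F57222) D30655 F67122
theorem F67300 : act 5 n30655 = n27285 := d13_2 (iv F57223) D30655 (iv D27285)
theorem F67301 : act 6 n30655 = n30474 := d14_2 F57224 D30655 (iv D30474)
def n30656 : Q := act 3 n27283
theorem D30656 : act 3 n27283 = n30656 := rfl
theorem F67302 : act 1 n30656 = n29441 := d7_1 D30656 (iv D29441) (iv F57226)
theorem F67303 : act 5 n30656 = n27286 := d16_2 (iv F57227) D30656 (iv D27286)
def n30657 : Q := act 6 n27283
theorem D30657 : act 6 n27283 = n30657 := rfl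
theorem F67304 : act 0 n30657 = n30474 := d5_1 D30657 (iv F67301) F67298
theorem F67305 : act 2 n30657 = n27284 := d14_1 D30657 (iv D27284) D27283
theorem F67306 : act 4 n30657 = n29323 := d19_1 D30657 F63081 F62831
theorem F67307 : act 5 n30657 = n29320 := d20_1 D30657 F63066 (iv F67300) F67301 F66723 (iv D27287) (iv F57227)
def n30658 : Q := act 3 n27285
theorem D30658 : act 3 n27285 = n30658 := rfl
theorem F67308 : act 0 n30658 = n27286 := d2_1 D30658 (iv D27286) (iv F57233)
theorem F67309 : act 1 n30658 = n30658 := d7_1 D30658 (iv D30658) F57234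
def n30659 : Q := act 2 n27286
theorem D30659 : act 2 n27286 = n30659 := rfl
def n30660 : Q := act 4 n27286
theorem D30660 : act 4 n27286 = n30660 := rfl
theorem F67310 : act 1 n30660 = n29437 := d8_1 D30660 (iv D29437) (iv F57235)
theorem F67311 : act 3 n30660 = n28801 := d15_1 D30660 F66806 (iv D30495) F56423 D27286
theorem F67312 : act 6 n28740 = n30660 := d17_0 F67311 (iv D28801) (iv F61497)
def n30661 : Q := act 6 n27286
theorem D30661 : act 6 n27286 = n30661 := rfl
theorem F67313 : act 3 n30661 = n27287 := d17_1 D30661 (iv D27287) D27286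
theorem F67314 : act 4 n30661 = n28740 := d19_1 D30661 F67312 (iv D30660)
theorem F67315 : act 1 n28741 = n30661 := d8_3 F67314 (iv D28740) D28741
def n30662 : Q := act 1 n27287
theorem D30662 : act 1 n27287 = n30662 := rfl
theorem F67316 : act 2 n30662 = n30603 := d6_2 (iv F57236) D30662 (iv D30603) F57050 (iv F46046)
theorem F67317 : act 3 n30662 = n28741 := d7_2 F67313 D30662 F67315
theorem F67318 : act 4 n30662 = n28788 := d8_2 F63068 D30662 F63071
theorem F67319 : act 6 n30662 = n29439 := d10_2 D27287 D30662 (iv D29439) (iv D25710) (iv F46045)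
theorem F67320 : act 0 n28790 = n30662 := d3_3 F67318 F61621 D28790
def n30663 : Q := act 2 n27288
theorem D30663 : act 2 n27288 = n30663 := rfl
theorem F67321 : act 0 n30663 = n27289 := d1_1 D30663 (iv D27289) D27288
theorem F67322 : act 1 n30663 = n30663 := d6_1 D30663 (iv D30663) F57237 F52605 (iv F57237)
theorem F67323 : act 4 n30663 = n30572 := d12_2 (iv F57239) D30663 F67076
theorem F67324 : act 6 n30663 = n30454 := d14_2 F57240 D30663 (iv D30454)
def n30664 : Q := act 3 n27289
theorem D30664 : act 3 n27289 = n30664 := rfl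
theorem F67325 : act 1 n30664 = n29378 := d7_1 D30664 (iv D29378) (iv F57241)
def n30665 : Q := act 5 n27289
theorem D30665 : act 5 n27289 = n30665 := rfl
theorem F67326 : act 1 n30665 = n29393 := d9_1 D30665 F63257 F52701 (iv F52684) (iv F57241)
theorem F67327 : act 2 n30665 = n27290 := d13_1 D30665 (iv D27290) D27289
theorem F67328 : act 4 n30665 = n28902 := d18_1 D30665 F61999 (iv F57242)
def n30666 : Q := act 6 n27289
theorem D30666 : act 6 n27289 = n30666 := rfl
theorem F67329 : act 0 n30666 = n30454 := d5_1 D30666 (iv F67324) F67321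
theorem F67330 : act 1 n30666 = n30151 := d10_1 D30666 (iv F65607) F62251 (iv F52685) (iv F57241)
theorem F67331 : act 2 n30666 = n27291 := d14_1 D30666 (iv D27291) D27289
theorem F67332 : act 4 n30666 = n30147 := d19_1 D30666 (iv F65601) (iv F57242)
theorem F67333 : act 5 n30590 = n30666 := d13_0 F67331 (iv F57249) D30590
def n30667 : Q := act 2 n27292
theorem D30667 : act 2 n27292 = n30667 := rfl
theorem F67334 : act 0 n30667 = n27293 := d1_1 D30667 (iv D27293) D27292
theorem F67335 : act 4 n30667 = n29018 := d12_2 (iv F57251) D30667 F62342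
theorem F67336 : act 6 n30667 = n27295 := d14_2 (iv F57252) D30667 (iv D27295)
def n30668 : Q := act 1 n27295
theorem D30668 : act 1 n27295 = n30668 := rfl
def n30669 : Q := act 3 n27295
theorem D30669 : act 3 n27295 = n30669 := rfl
theorem F67337 : act 0 n30669 = n27297 := d2_1 D30669 (iv D27297) (iv F57260)
theorem F67338 : act 2 n30669 = n30043 := d11_1 D30669 F65279 (iv D27471) (iv D23321) (iv D18891) (iv F33658) D23181 D27297 (iv F65276) (iv F65813) F65812 (iv D27470) (iv D23319) (iv F46059) D27295
theorem F67339 : act 5 n28601 = n30669 := d13_0 F67338 (iv D30043) F61046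
def n30670 : Q := act 5 n27295
theorem D30670 : act 5 n27295 = n30670 := rfl
theorem F67340 : act 0 n30670 = n27298 := d4_1 D30670 (iv D27298) (iv F57260)
theorem F67341 : act 2 n30670 = n27296 := d13_1 D30670 (iv D27296) D27295
theorem F67342 : act 3 n30670 = n28601 := d16_1 D30670 F67339 (iv D30669)
theorem F67343 : act 4 n30670 = n30612 := d18_1 D30670 F67165 F66809
theorem F67344 : act 6 n30670 = n30028 := d22_1 D30670 (iv F65249) F57256 (iv F57260)
theorem F67345 : act 1 n28593 = n30670 := d10_5 F67344 F65246 D30031 (iv F65257) F62509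
def n30671 : Q := act 4 n27297
theorem D30671 : act 4 n27297 = n30671 := rfl
def n30672 : Q := act 5 n27297
theorem D30672 : act 5 n27297 = n30672 := rfl
theorem F67346 : act 0 n30672 = n28601 := d4_1 D30672 F67339 F67337
theorem F67347 : act 2 n30672 = n30039 := d13_1 D30672 (iv F65277) F65276
theorem F67348 : act 3 n30672 = n27298 := d16_1 D30672 (iv D27298) D27297
theorem F67349 : act 6 n30672 = n30027 := d22_3 D30030 (iv F65255) D30672 (iv D30027)
def n30673 : Q := act 1 n27298
theorem D30673 : act 1 n27298 = n30673 := rfl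
theorem F67350 : act 2 n30673 = n30601 := d6_2 (iv F57266) D30673 (iv D30601) F57044 (iv F46060)
def n30674 : Q := act 6 n27298
theorem D30674 : act 6 n27298 = n30674 := rfl
theorem F67351 : act 0 n30674 = n30028 := d5_1 D30674 (iv F67344) F67340
theorem F67352 : act 2 n30674 = n27299 := d14_1 D30674 (iv D27299) (iv F57266)
theorem F67353 : act 3 n30674 = n30027 := d17_1 D30674 (iv F67349) F67348
theorem F67354 : act 5 n30674 = n30667 := d20_1 D30674 F67336 D30670 F67344 (iv F65249) F57256 D27298
theorem F67355 : act 1 n29010 = n30674 := d24_14 (iv D30674) (iv D27298) (iv F52751) F52753 (iv F51917) (iv F60322) F64712 F64710 (iv F62348) (iv D29026) (iv F60399) (iv F60400) F52232 (iv F62324)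
theorem F67356 : act 6 n30673 = n29025 := d10_4 (iv F62325) F67355 (iv D30674) D30673 (iv D29025)
def n30675 : Q := act 5 n27314
theorem D30675 : act 5 n27314 = n30675 := rfl
theorem F67357 : act 3 n30675 = n27317 := d16_1 D30675 (iv D27317) (iv F57325)
theorem F67358 : act 4 n30675 = n29815 := d18_1 D30675 F64503 F61509
theorem F67359 : act 6 n30675 = n29810 := d22_1 D30675 (iv D29810) (iv F61484) (iv F61485)
theorem F67360 : act 1 n28892 = n30675 := d7_3 F67357 (iv F57336) D28892
def n30676 : Q := act 1 n27315
theorem D30676 : act 1 n27315 = n30676 := rfl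
theorem F67361 : act 3 n30676 = n27318 := d7_2 (iv F57327) D30676 (iv D27318)
theorem F67362 : act 4 n30676 = n28715 := d8_2 F61022 D30676 F61441
theorem F67363 : act 5 n30676 = n28892 := d9_2 D27315 D30676 F67360 (iv D30675) (iv D27314)
theorem F67364 : act 6 n30676 = n28710 := d10_2 (iv F57328) D30676 (iv D28710) F50453 (iv F57304)
def n30677 : Q := act 3 n27316
theorem D30677 : act 3 n27316 = n30677 := rfl
theorem F67365 : act 0 n30677 = n30675 := d2_1 D30677 F67357 F57332
theorem F67366 : act 1 n30677 = n27319 := d7_1 D30677 (iv D27319) (iv F57329)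
theorem F67367 : act 4 n30677 = n28749 := d15_2 (iv F57330) D30677 F61513 F50505 (iv F46874)
theorem F67368 : act 5 n30677 = n28730 := d16_2 F57331 D30677 F61482
def n30678 : Q := act 2 n27319
theorem D30678 : act 2 n27319 = n30678 := rfl
theorem F67369 : act 0 n30678 = n30519 := d1_1 D30678 (iv D30519) (iv F57341)
theorem F67370 : act 6 n30678 = n27341 := d14_2 (iv F57342) D30678 (iv D27341)
def n30679 : Q := act 3 n27320
theorem D30679 : act 3 n27320 = n30679 := rfl
theorem F67371 : act 0 n30679 = n27432 := d2_1 D30679 F57629 (iv F57343)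
theorem F67372 : act 1 n30679 = n28786 := d7_1 D30679 F61618 (iv F57344)
theorem F67373 : act 4 n30679 = n27758 := d15_2 (iv F57345) D30679 (iv D27758) F47220 (iv F46899)
theorem F67374 : act 5 n30679 = n28664 := d16_2 (iv F57346) D30679 F61210
theorem F67375 : act 6 n30679 = n27429 := d17_2 (iv F57347) D30679 (iv D27429)
def n30680 : Q := act 1 n27321
theorem D30680 : act 1 n27321 = n30680 := rfl
theorem F67376 : act 0 n30680 = n29714 := d0_1 D30680 (iv D29714) (iv D25948) (iv D21568) (iv F28296) D21627 D26048 F58813 F58810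
theorem F67377 : act 2 n30680 = n29932 := d6_2 F60962 D30680 (iv D29932) D29933 (iv F64932)
theorem F67378 : act 3 n30680 = n27718 := d7_2 (iv F57348) D30680 (iv D27718)
theorem F67379 : act 4 n30680 = n27323 := d8_2 (iv F57349) D30680 (iv D27323)
theorem F67380 : act 6 n30680 = n27330 := d10_2 D27321 D30680 (iv D27330) (iv D23212) (iv F46122)
theorem F67381 : act 5 n30098 = n30680 := d24_1 (iv F65449) (iv D30680) (iv D27321) (iv F48265) F48263 (iv F37207) (iv D19740) (iv F28570) (iv D16475) D16474 (iv F28580) D21842 F42353 D26359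
def n30681 : Q := act 5 n27321
theorem D30681 : act 5 n27321 = n30681 := rfl
theorem F67382 : act 0 n30681 = n27883 := d4_1 D30681 F58951 F58810
theorem F67383 : act 1 n30681 = n30099 := d9_1 D30681 (iv D30099) D30098 F67381 (iv D30680)
theorem F67384 : act 3 n30681 = n27719 := d16_1 D30681 (iv D27719) (iv F57348)
theorem F67385 : act 4 n30681 = n27324 := d18_1 D30681 (iv D27324) (iv F57349)
theorem F67386 : act 6 n30681 = n27840 := d20_2 D27321 D30681 F58803 D27843 (iv F58951) (iv D27883) F48265
def n30682 : Q := act 1 n27322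
theorem D30682 : act 1 n27322 = n30682 := rfl
theorem F67387 : act 3 n30682 = n27325 := d7_2 (iv F57350) D30682 (iv D27325)
theorem F67388 : act 4 n30682 = n27970 := d8_2 F58950 D30682 F59169
theorem F67389 : act 6 n30682 = n27967 := d10_2 D27322 D30682 (iv D27967) F48498 F48273
theorem F67390 : act 2 n27426 = n30682 := d12_3 F67388 F65705 F65703
theorem F67391 : act 1 n28576 = n27430 := d6_3 F67390 (iv D30682) (iv F60964) (iv D27430) (iv F57617)
def n30683 : Q := act 0 n27323
theorem D30683 : act 0 n27323 = n30683 := rfl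
theorem F67392 : act 1 n30683 = n29711 := d0_2 D27323 D30683 (iv D29711) (iv D25947) (iv F41869) D26047 D29808 (iv F64488) F57314
theorem F67393 : act 3 n30683 = n27326 := d2_2 (iv F57352) D30683 (iv D27326)
theorem F67394 : act 4 n30683 = n29714 := d3_2 F67379 D30683 (iv F67376)
theorem F67395 : act 6 n30683 = n27331 := d5_2 (iv F57353) D30683 (iv D27331)
theorem F67396 : act 5 n30683 = n27422 := d22_0 F59139 (iv D27333) (iv F57353) D30683
theorem F67397 : act 2 n27412 = n30683 := d13_3 F67396 (iv D27422) (iv F57589)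
def n30684 : Q := act 2 n27323
theorem D30684 : act 2 n27323 = n30684 := rfl
theorem F67398 : act 0 n30684 = n27412 := d1_1 D30684 F67397 (iv D30683)
theorem F67399 : act 1 n30684 = n29929 := d6_1 D30684 (iv F64920) (iv D28577) F50196 D27323
theorem F67400 : act 4 n30684 = n29932 := d12_2 F67379 D30684 (iv F67377)
theorem F67401 : act 6 n30684 = n27332 := d14_2 (iv F57353) D30684 (iv D27332)
theorem F67402 : act 3 n27415 = n30684 := d17_3 F67401 F59142 F57624
theorem F67403 : act 5 n27421 = n30684 := d22_0 F67401 (iv F59141) (iv D27423) D27421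
def n30685 : Q := act 5 n27323
theorem D30685 : act 5 n27323 = n30685 := rfl
theorem F67404 : act 0 n30685 = n27422 := d4_1 D30685 (iv F67396) (iv D30683)
theorem F67405 : act 2 n30685 = n27421 := d13_1 D30685 F67403 (iv D30684)
theorem F67406 : act 3 n30685 = n27328 := d16_1 D30685 (iv D27328) (iv F57352)
theorem F67407 : act 4 n30685 = n30098 := d18_1 D30685 F67381 F67379
theorem F67408 : act 6 n30685 = n30100 := d20_2 (iv F57353) D30685 (iv F65457) (iv F67395) F67396 F59139 (iv D27333)
theorem F67409 : act 1 n30685 = n30096 := d24_2 (iv F57353) D30685 (iv D30096) D30095 F65439 F56753 (iv D27075) (iv D22905) (iv D18405) (iv F32222) F32221 D18754 (iv F33703) D23213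
def n30686 : Q := act 1 n27324
theorem D30686 : act 1 n27324 = n30686 := rfl
theorem F67410 : act 3 n30686 = n27329 := d7_2 (iv F57355) D30686 (iv D27329)
theorem F67411 : act 4 n30686 = n30099 := d8_2 F67385 D30686 (iv F67383)
theorem F67412 : act 5 n30686 = n30096 := d9_2 D27324 D30686 (iv F67409) (iv D30685) (iv D27323)
def n30687 : Q := act 3 n27327
theorem D30687 : act 3 n27327 = n30687 := rfl
theorem F67413 : act 5 n30687 = n30682 := d16_2 F57364 D30687 F67387
theorem F67414 : act 6 n30687 = n27336 := d17_2 (iv F57363) D30687 (iv D27336)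
def n30688 : Q := act 1 n27331
theorem D30688 : act 1 n27331 = n30688 := rfl
theorem F67415 : act 3 n30688 = n27334 := d7_2 (iv F57370) D30688 (iv D27334)
theorem F67416 : act 4 n30688 = n30108 := d8_2 F65472 D30688 F65487
theorem F67417 : act 5 n30688 = n30105 := d9_2 (iv F65457) D30688 (iv D30105) F54330 D30100
theorem F67418 : act 2 n30324 = n30688 := d13_3 F67417 F65474 D30324
def n30689 : Q := act 2 n27331
theorem D30689 : act 2 n27331 = n30689 := rfl
theorem F67419 : act 0 n30689 = n27332 := d1_1 D30689 (iv D27332) D27331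
theorem F67420 : act 4 n30689 = n30191 := d12_2 F65472 D30689 F65733
theorem F67421 : act 5 n30689 = n30194 := d13_2 (iv F65457) D30689 F65743
theorem F67422 : act 6 n30689 = n27412 := d14_2 F67395 D30689 F67397
theorem F67423 : act 3 n27417 = n30689 := d17_3 F67422 F57588 D27417
theorem F67424 : act 1 n30189 = n30689 := d24_14 F67422 F57589 (iv D23288) F33790 (iv D18772) (iv F32236) F32237 D18426 D22934 D27101 (iv F56771) (iv F65729) (iv D30190) D30189
def n30690 : Q := act 2 n27336
theorem D30690 : act 2 n27336 = n30690 := rfl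
theorem F67425 : act 4 n30690 = n28042 := d12_2 F65422 D30690 F65424
theorem F67426 : act 3 n30690 = n27419 := d21_1 D30690 (iv F57605) F67423 (iv D30689) F57370 F55820 (iv F65414) (iv F65417)
theorem F67427 : act 1 n27414 = n30690 := d7_3 F67426 (iv D27419) (iv F57593)
theorem F67428 : act 5 n28039 = n30690 := d16_0 F67426 F57603 (iv F59382)
theorem F67429 : act 1 n27341 = n28637 := d6_5 F61139 F67427 (iv D30690) F57379 D27341
def n30691 : Q := act 5 n27336
theorem D30691 : act 5 n27336 = n30691 := rfl
theorem F67430 : act 0 n30691 = n27967 := d4_1 D30691 (iv F65416) (iv F65417)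
theorem F67431 : act 2 n30691 = n28039 := d13_1 D30691 F67428 (iv D30690)
theorem F67432 : act 3 n30691 = n27337 := d16_1 D30691 (iv D27337) D27336
theorem F67433 : act 4 n30691 = n27968 := d18_1 D30691 (iv F65423) F65422
def n30692 : Q := act 2 n27339
theorem D30692 : act 2 n27339 = n30692 := rfl
theorem F67434 : act 0 n30692 = n27341 := d1_1 D30692 (iv D27341) (iv F57387)
theorem F67435 : act 6 n30692 = n30519 := d14_2 (iv F57389) D30692 (iv D30519)
theorem F67436 : act 3 n30692 = n30639 := d21_1 D30692 (iv D30639) (iv D27261) (iv D23159) F33627 D18829 D23220 (iv F57387)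
def n30693 : Q := act 5 n27339
theorem D30693 : act 5 n27339 = n30693 := rfl
theorem F67437 : act 0 n30693 = n27343 := d4_1 D30693 (iv D27343) (iv F57387)
theorem F67438 : act 3 n30693 = n27340 := d16_1 D30693 (iv D27340) D27339
theorem F67439 : act 4 n30693 = n27783 := d18_1 D30693 (iv F64573) F64572
theorem F67440 : act 6 n30693 = n28607 := d20_2 (iv F57389) D30693 (iv F61054) F57342 D27343 (iv F66780) F66779
theorem F67441 : act 1 n30693 = n28722 := d24_2 (iv F57389) D30693 (iv D28722) (iv F57794) (iv D27493) F46486 (iv D23226) (iv D18832) (iv D13721) (iv F24018) (iv F32221) D22858 (iv F45302) D27070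
def n30694 : Q := act 3 n27341
theorem D30694 : act 3 n27341 = n30694 := rfl
theorem F67442 : act 0 n30694 = n30639 := d2_1 D30694 (iv F67436) F67434
theorem F67443 : act 1 n30694 = n28555 := d7_1 D30694 (iv F61140) (iv F67429)
theorem F67444 : act 2 n30694 = n30638 := d11_1 D30694 (iv D30638) (iv D27260) F46012 D23218 D27339 D30692 F67436 (iv D30639) (iv D27261) (iv D23159) F33627 D18829 D23220 D27341
def n30695 : Q := act 4 n27341
theorem D30695 : act 4 n27341 = n30695 := rfl
theorem F67445 : act 2 n30695 = n27342 := d12_1 D30695 (iv D27342) D27341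
def n30696 : Q := act 5 n27341
theorem D30696 : act 5 n27341 = n30696 := rfl
theorem F67446 : act 2 n30696 = n27343 := d13_1 D30696 (iv D27343) D27341
def n30697 : Q := act 1 n27343
theorem D30697 : act 1 n27343 = n30697 := rfl
theorem F67447 : act 3 n30697 = n27344 := d7_2 (iv F57396) D30697 (iv D27344)
theorem F67448 : act 0 n27482 = n30697 := d2_3 F67447 F57399 (iv F57759)
theorem F67449 : act 2 n29644 = n30697 := d21_2 (iv F53114) D29644 F67447 F57397 (iv F53568) F53567 (iv F53106) F53105
def n30698 : Q := act 2 n27345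
theorem D30698 : act 2 n27345 = n30698 := rfl
theorem F67450 : act 0 n30698 = n27346 := d1_1 D30698 (iv D27346) D27345
theorem F67451 : act 1 n30698 = n27439 := d6_1 D30698 (iv D27439) D27438 (iv F61084) F61083
theorem F67452 : act 4 n30698 = n27350 := d12_2 (iv F57401) D30698 (iv D27350)
theorem F67453 : act 5 n30698 = n28051 := d13_2 F57779 D30698 F59414
theorem F67454 : act 6 n30698 = n27485 := d14_2 (iv F57402) D30698 (iv D27485)
theorem F67455 : act 3 n30698 = n28052 := d21_7 F59399 D28051 F59414 F57777 F47216 (iv F57400) D30698 F59416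
def n30699 : Q := act 5 n27346
theorem D30699 : act 5 n27346 = n30699 := rfl
theorem F67456 : act 0 n30699 = n28051 := d4_1 D30699 (iv F67453) F67450
theorem F67457 : act 2 n30699 = n27347 := d13_1 D30699 (iv D27347) D27346
theorem F67458 : act 3 n30699 = n28050 := d16_1 D30699 F59411 (iv F59401)
theorem F67459 : act 4 n30699 = n27352 := d18_1 D30699 (iv D27352) (iv F57403)
theorem F67460 : act 6 n30699 = n27756 := d20_2 (iv F57404) D30699 F58476 (iv F67454) F67453 (iv F59415) (iv D27487)
theorem F67461 : act 1 n29830 = n30699 := d10_5 F67460 F64250 (iv D29737) D29736 (iv F64561)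
def n30700 : Q := act 1 n27347
theorem D30700 : act 1 n27347 = n30700 := rfl
theorem F67462 : act 0 n30700 = n28024 := d0_1 D30700 F61439 (iv D28713) (iv D24824) F38682 D24823 D28711 (iv F61434) F57776
theorem F67463 : act 2 n30700 = n28023 := d6_2 F67457 D30700 F64539 (iv F64559) F67461
theorem F67464 : act 3 n30700 = n27722 := d7_2 (iv F57405) D30700 F58336
theorem F67465 : act 4 n30700 = n27353 := d8_2 (iv F57406) D30700 (iv D27353)
theorem F67466 : act 5 n30700 = n27348 := d9_2 D27347 D30700 (iv D27348) (iv D23223) D23222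
def n30701 : Q := act 0 n27348
theorem D30701 : act 0 n27348 = n30701 := rfl
theorem F67467 : act 1 n30701 = n29684 := d0_2 D27348 D30701 F64094 F53291 (iv F53464) D29749 (iv F64294) (iv D27226) (iv F46160)
theorem F67468 : act 3 n30701 = n27724 := d2_2 (iv F57408) D30701 (iv D27724)
theorem F67469 : act 4 n30701 = n27354 := d3_2 (iv F57409) D30701 (iv D27354)
theorem F67470 : act 5 n30701 = n28024 := d4_2 F67466 D30701 (iv F67462)
theorem F67471 : act 6 n30701 = n27951 := d5_2 (iv F57410) D30701 (iv D27951)
theorem F67472 : act 2 n30701 = n27437 := d21_0 F57641 (iv F58409) (iv F65749) F65748 F65466 F58341 (iv F57408) D30701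
def n30702 : Q := act 2 n27348
theorem D30702 : act 2 n27348 = n30702 := rfl
theorem F67473 : act 0 n30702 = n27437 := d1_1 D30702 (iv F67472) (iv D30701)
theorem F67474 : act 1 n30702 = n29912 := d6_1 D30702 F64867 (iv D27630) F46691 D27348
theorem F67475 : act 3 n30702 = n27742 := d11_2 (iv F57408) D30702 F58413 (iv F54502) F55311 F54327 (iv F58345) (iv F67468) F67472 F57641 (iv F58409) (iv F65749) F65748 F65466 F58341
theorem F67476 : act 4 n30702 = n27355 := d12_2 (iv F57409) D30702 (iv D27355)
theorem F67477 : act 5 n30702 = n28023 := d13_2 F67466 D30702 (iv F67463)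
theorem F67478 : act 6 n30702 = n27952 := d14_2 (iv F57410) D30702 (iv D27952)
def n30703 : Q := act 0 n27349
theorem D30703 : act 0 n27349 = n30703 := rfl
theorem F67479 : act 2 n30703 = n28683 := d1_2 F61267 D30703 F61283
theorem F67480 : act 3 n30703 = n27357 := d2_2 (iv F57411) D30703 (iv D27357)
theorem F67481 : act 4 n30703 = n28626 := d3_2 F61086 D30703 F61098
theorem F67482 : act 5 n30703 = n28610 := d4_2 (iv F61265) D30703 (iv F61261)
theorem F67483 : act 6 n30703 = n28682 := d5_2 (iv F57412) D30703 F61279
def n30704 : Q := act 1 n27350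
theorem D30704 : act 1 n27350 = n30704 := rfl
theorem F67484 : act 0 n30704 = n27435 := d0_1 D30704 (iv F59190) F64258 (iv D29739) F53435 D26221 (iv F57422) F52993 (iv F57413)
theorem F67485 : act 2 n30704 = n27434 := d6_2 D27350 D30704 (iv F61266) F61267 (iv D27349)
theorem F67486 : act 3 n30704 = n27982 := d7_2 F57415 D30704 F59208
theorem F67487 : act 4 n30704 = n27439 := d8_2 F67452 D30704 (iv F67451)
theorem F67488 : act 5 n30704 = n27561 := d9_2 F57801 D30704 (iv F57943) (iv F59431) F59429
theorem F67489 : act 6 n30704 = n27980 := d10_2 (iv F57414) D30704 F59199 F48512 (iv F48553)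
def n30705 : Q := act 1 n27352
theorem D30705 : act 1 n27352 = n30705 := rfl
theorem F67490 : act 0 n30705 = n29831 := d0_1 D30705 F64562 (iv F64578) F64579 F63948 F54385 (iv F59428) F59429 F57799
theorem F67491 : act 3 n30705 = n27853 := d7_2 F59261 D30705 (iv F59260)
theorem F67492 : act 4 n30705 = n29830 := d8_2 F67459 D30705 F67461
theorem F67493 : act 6 n30705 = n27852 := d10_2 F57790 D30705 F58842 (iv F53849) F57791
def n30706 : Q := act 0 n27353
theorem D30706 : act 0 n27353 = n30706 := rfl
theorem F67494 : act 3 n30706 = n27364 := d2_2 (iv F57425) D30706 (iv D27364)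
theorem F67495 : act 4 n30706 = n28024 := d3_2 F67465 D30706 (iv F67462)
theorem F67496 : act 5 n30706 = n27354 := d4_2 (iv F57426) D30706 (iv D27354)
theorem F67497 : act 2 n27445 = n30706 := d13_3 F67496 F61376 D27445
def n30707 : Q := act 2 n27353
theorem D30707 : act 2 n27353 = n30707 := rfl
theorem F67498 : act 0 n30707 = n27445 := d1_1 D30707 F67497 (iv D30706)
theorem F67499 : act 4 n30707 = n28023 := d12_2 F67465 D30707 (iv F67463)
theorem F67500 : act 5 n30707 = n27355 := d13_2 (iv F57426) D30707 (iv D27355)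
theorem F67501 : act 3 n27457 = n30707 := d16_3 F67500 F61375 D27457
def n30708 : Q := act 6 n27353
theorem D30708 : act 6 n27353 = n30708 := rfl
theorem F67502 : act 3 n30708 = n27366 := d17_1 D30708 (iv D27366) (iv F57425)
def n30709 : Q := act 6 n27354
theorem D30709 : act 6 n27354 = n30709 := rfl
theorem F67503 : act 0 n30709 = n27356 := d5_1 D30709 (iv D27356) D27354
theorem F67504 : act 2 n30709 = n27442 := d14_1 D30709 F57659 (iv F61376)
theorem F67505 : act 3 n30709 = n27369 := d17_1 D30709 (iv D27369) (iv F57427)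
theorem F67506 : act 4 n30709 = n27951 := d19_1 D30709 (iv F67471) F67469
theorem F67507 : act 5 n30709 = n30708 := d22_2 F67496 D30709 (iv D30708) D30706
def n30710 : Q := act 6 n27355
theorem D30710 : act 6 n27355 = n30710 := rfl
theorem F67508 : act 0 n30710 = n27442 := d5_1 D30710 F57659 (iv F61374)
theorem F67509 : act 2 n30710 = n27356 := d14_1 D30710 (iv D27356) D27355
theorem F67510 : act 3 n30710 = n27452 := d17_1 D30710 F57684 (iv F61375)
theorem F67511 : act 4 n30710 = n27952 := d19_1 D30710 (iv F67478) F67476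
def n30711 : Q := act 5 n27356
theorem D30711 : act 5 n27356 = n30711 := rfl
theorem F67512 : act 0 n30711 = n30708 := d4_1 D30711 (iv F67507) F67503
theorem F67513 : act 3 n30711 = n27372 := d16_1 D30711 (iv D27372) (iv F57429)
theorem F67514 : act 4 n30711 = n27953 := d18_1 D30711 (iv D27953) (iv F57430)
theorem F67515 : act 6 n30711 = n30706 := d20_2 D27356 D30711 F67496 D30709 F67507 (iv D30708) F57426
def n30712 : Q := act 4 n27359
theorem D30712 : act 4 n27359 = n30712 := rfl
theorem F67516 : act 0 n30712 = n27361 := d3_1 D30712 (iv D27361) (iv F57439)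
theorem F67517 : act 1 n30712 = n30311 := d8_1 D30712 F66165 (iv F57440)
theorem F67518 : act 2 n30712 = n30096 := d12_1 D30712 F65443 (iv F57442)
theorem F67519 : act 3 n30712 = n27465 := d15_1 D30712 F57713 (iv D23562) (iv F46174) D27359
theorem F67520 : act 6 n30712 = n27506 := d19_2 (iv F57441) D30712 (iv D27506)
def n30713 : Q := act 4 n27360
theorem D30713 : act 4 n27360 = n30713 := rfl
theorem F67521 : act 0 n30713 = n30096 := d3_1 D30713 F65443 (iv F57443)
theorem F67522 : act 1 n30713 = n29579 := d8_1 D30713 F63712 (iv F57444)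
theorem F67523 : act 2 n30713 = n27361 := d12_1 D30713 (iv D27361) D27360
theorem F67524 : act 3 n30713 = n30273 := d15_1 D30713 F66017 F54870 (iv F53005) (iv F57445)
theorem F67525 : act 6 n30713 = n27512 := d19_2 (iv F57446) D30713 (iv D27512)
def n30714 : Q := act 5 n27361
theorem D30714 : act 5 n27361 = n30714 := rfl
theorem F67526 : act 1 n30714 = n27477 := d9_1 D30714 (iv D27477) F46416 F46204 (iv F57447)
theorem F67527 : act 3 n30714 = n27466 := d16_1 D30714 (iv D27466) (iv F57448)
theorem F67528 : act 4 n30714 = n27362 := d18_1 D30714 (iv D27362) D27361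
def n30715 : Q := act 1 n27362
theorem D30715 : act 1 n27362 = n30715 := rfl
theorem F67529 : act 3 n30715 = n27363 := d7_2 (iv F57450) D30715 (iv D27363)
theorem F67530 : act 4 n30715 = n27477 := d8_2 F67528 D30715 (iv F67526)
theorem F67531 : act 5 n30715 = n27381 := d9_2 D27362 D30715 (iv D27381) (iv D23243) (iv F46176)
def n30716 : Q := act 2 n27364
theorem D30716 : act 2 n27364 = n30716 := rfl
theorem F67532 : act 0 n30716 = n27365 := d1_1 D30716 (iv D27365) D27364
theorem F67533 : act 4 n30716 = n27725 := d12_2 (iv F57453) D30716 (iv D27725)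
theorem F67534 : act 5 n30716 = n27368 := d13_2 (iv F57454) D30716 (iv D27368)
def n30717 : Q := act 3 n27365
theorem D30717 : act 3 n27365 = n30717 := rfl
theorem F67535 : act 4 n30717 = n30093 := d15_2 (iv F57455) D30717 (iv D30093) F54309 (iv F46991)
theorem F67536 : act 5 n30717 = n27370 := d16_2 (iv F57456) D30717 (iv D27370)
def n30718 : Q := act 6 n27365
theorem D30718 : act 6 n27365 = n30718 := rfl
theorem F67537 : act 2 n30718 = n27366 := d14_1 D30718 (iv D27366) D27365
theorem F67538 : act 4 n30718 = n27726 := d19_1 D30718 (iv D27726) (iv F57455)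
def n30719 : Q := act 2 n27367
theorem D30719 : act 2 n27367 = n30719 := rfl
theorem F67539 : act 0 n30719 = n30289 := d1_1 D30719 F66084 (iv F57458)
theorem F67540 : act 1 n30719 = n30379 := d6_1 D30719 F66414 (iv F66397) (iv D27368) D27367
theorem F67541 : act 4 n30719 = n27727 := d12_2 (iv F57459) D30719 (iv D27727)
theorem F67542 : act 5 n30719 = n27584 := d13_2 F62384 D30719 F62386
theorem F67543 : act 6 n30719 = n30287 := d14_2 F57460 D30719 F66078
def n30720 : Q := act 3 n27368
theorem D30720 : act 3 n27368 = n30720 := rfl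
theorem F67544 : act 0 n30720 = n27370 := d2_1 D30720 (iv D27370) (iv F57461)
def n30721 : Q := act 6 n27368
theorem D30721 : act 6 n27368 = n30721 := rfl
theorem F67545 : act 0 n30721 = n27371 := d5_1 D30721 (iv D27371) (iv F57461)
theorem F67546 : act 2 n30721 = n27369 := d14_1 D30721 (iv D27369) D27368
theorem F67547 : act 4 n30721 = n27728 := d19_1 D30721 (iv D27728) (iv F57462)
theorem F67548 : act 5 n30721 = n30718 := d22_2 F67534 D30721 (iv D30718) (iv F67532)
def n30722 : Q := act 6 n27370
theorem D30722 : act 6 n27370 = n30722 := rfl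
theorem F67549 : act 1 n30722 = n27470 := d10_1 D30722 (iv F65796) F65792 (iv D27389) (iv F57466)
theorem F67550 : act 3 n30722 = n27371 := d17_1 D30722 (iv D27371) D27370
def n30723 : Q := act 5 n27371
theorem D30723 : act 5 n27371 = n30723 := rfl
theorem F67551 : act 0 n30723 = n30718 := d4_1 D30723 (iv F67548) F67545
theorem F67552 : act 1 n30723 = n30271 := d9_1 D30723 F66012 (iv D30265) (iv F54809) F57469
theorem F67553 : act 2 n30723 = n27372 := d13_1 D30723 (iv D27372) (iv F57467)
theorem F67554 : act 4 n30723 = n27729 := d18_1 D30723 (iv D27729) (iv F57468)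
theorem F67555 : act 6 n30723 = n30716 := d20_2 D27371 D30723 F67534 D30721 F67548 (iv D30718) F57456
def n30724 : Q := act 3 n27373
theorem D30724 : act 3 n27373 = n30724 := rfl
theorem F67556 : act 0 n30724 = n27375 := d2_1 D30724 (iv D27375) (iv F57473)
theorem F67557 : act 5 n30724 = n30424 := d16_2 (iv F57475) D30724 F66530
def n30725 : Q := act 3 n27374
theorem D30725 : act 3 n27374 = n30725 := rfl
theorem F67558 : act 1 n30725 = n27375 := d7_1 D30725 (iv D27375) D27374
theorem F67559 : act 4 n30725 = n27592 := d15_2 (iv F57477) D30725 F58021 F46636 F47008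
theorem F67560 : act 5 n30725 = n27590 := d16_2 F57478 D30725 F58016
def n30726 : Q := act 2 n27375
theorem D30726 : act 2 n27375 = n30726 := rfl
def n30727 : Q := act 4 n27375
theorem D30727 : act 4 n27375 = n30727 := rfl
theorem F67561 : act 1 n30727 = n27592 := d8_1 D30727 (iv F67559) F67558
theorem F67562 : act 3 n30727 = n27595 := d15_1 D30727 F58030 (iv D23576) (iv F46189) D27375
def n30728 : Q := act 5 n27375
theorem D30728 : act 5 n27375 = n30728 := rfl
theorem F67563 : act 0 n30728 = n30424 := d4_1 D30728 (iv F67557) F67556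
theorem F67564 : act 3 n30728 = n27376 := d16_1 D30728 (iv D27376) D27375
theorem F67565 : act 6 n30629 = n30728 := d17_0 F67564 (iv F57482) D30629
def n30729 : Q := act 6 n27375
theorem D30729 : act 6 n27375 = n30729 := rfl
theorem F67566 : act 3 n30729 = n27377 := d17_1 D30729 (iv D27377) D27375
theorem F67567 : act 5 n30729 = n30388 := d22_2 (iv D30728) D30729 (iv F66531) (iv F67563)
def n30730 : Q := act 1 n27376
theorem D30730 : act 1 n27376 = n30730 := rfl
theorem F67568 : act 2 n30730 = n27789 := d6_2 (iv F57480) D30730 F58605 F47444 F46259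
theorem F67569 : act 4 n30730 = n27731 := d8_2 (iv F57481) D30730 (iv D27731)
theorem F67570 : act 5 n30730 = n27786 := d9_2 D27376 D30730 F58591 F57478 (iv D27374)
theorem F67571 : act 6 n30730 = n28904 := d10_2 F57482 D30730 F62005 (iv F61997) F61995
theorem F67572 : act 0 n30730 = n29667 := d23_3 D23238 (iv F57480) D30730 F64036 (iv D25914) F41719 (iv F41771) (iv F53341) (iv F53342) (iv D25089) F39339 F39338 F39327 (iv F39933) F39932 D20828 (iv F51417) F51416 (iv D23236)
def n30731 : Q := act 3 n27378
theorem D30731 : act 3 n27378 = n30731 := rfl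
theorem F67573 : act 0 n30731 = n27379 := d2_1 D30731 (iv D27379) D27378
theorem F67574 : act 1 n30731 = n30324 := d7_1 D30731 F66215 F57489
theorem F67575 : act 4 n30731 = n27448 := d15_2 (iv F57486) D30731 (iv D27448) F46354 (iv F47015)
theorem F67576 : act 5 n30731 = n27582 := d16_2 (iv F57487) D30731 F57998
theorem F67577 : act 6 n30731 = n30725 := d17_2 F57488 D30731 (iv D30725)
theorem F67578 : act 2 n30189 = n30731 := d13_3 F67576 F57997 D30189
def n30732 : Q := act 2 n27379
theorem D30732 : act 2 n27379 = n30732 := rfl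
theorem F67579 : act 0 n30732 = n30189 := d1_1 D30732 F67578 F67573
theorem F67580 : act 1 n30732 = n29820 := d6_1 D30732 F64522 (iv D29739) F53436 (iv F57490)
theorem F67581 : act 4 n30732 = n27449 := d12_2 (iv F57491) D30732 (iv D27449)
theorem F67582 : act 5 n30732 = n27588 := d13_2 (iv F57492) D30732 F58013
theorem F67583 : act 3 n30334 = n30732 := d16_3 F67582 (iv F60035) (iv F66253)
def n30733 : Q := act 6 n27379
theorem D30733 : act 6 n27379 = n30733 := rfl
theorem F67584 : act 0 n30733 = n30725 := d5_1 D30733 (iv F67577) F67573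
theorem F67585 : act 1 n30733 = n27396 := d10_1 D30733 (iv D27396) F46246 (iv F46200) (iv F57490)
theorem F67586 : act 3 n30733 = n27380 := d17_1 D30733 (iv D27380) D27379
theorem F67587 : act 4 n30733 = n27450 := d19_1 D30733 (iv D27450) (iv F57491)
def n30734 : Q := act 0 n27381
theorem D30734 : act 0 n27381 = n30734 := rfl
theorem F67588 : act 1 n30734 = n29617 := d0_2 D27381 D30734 F63847 (iv F58062) F58061 F46676 F33995 (iv F33835) (iv F46205)
theorem F67589 : act 3 n30734 = n27382 := d2_2 (iv F57497) D30734 (iv D27382)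
theorem F67590 : act 4 n30734 = n27475 := d3_2 (iv F57498) D30734 F57741
theorem F67591 : act 6 n30734 = n30398 := d5_2 (iv F57499) D30734 F66461
def n30735 : Q := act 2 n27381
theorem D30735 : act 2 n27381 = n30735 := rfl
theorem F67592 : act 4 n30735 = n27476 := d12_2 (iv F57498) D30735 (iv D27476)
theorem F67593 : act 6 n30735 = n30402 := d14_2 (iv F57499) D30735 (iv D30402)
def n30736 : Q := act 3 n27383
theorem D30736 : act 3 n27383 = n30736 := rfl
theorem F67594 : act 1 n30736 = n27385 := d7_1 D30736 (iv D27385) (iv F57503)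
theorem F67595 : act 4 n30736 = n29194 := d15_2 (iv F57504) D30736 F62719 F52328 (iv F47027)
theorem F67596 : act 6 n30736 = n29192 := d17_2 (iv F57505) D30736 F62714
theorem F67597 : act 2 n30242 = n30736 := d6_0 F67594 (iv F65860) (iv F65864) F59629 D30242
def n30737 : Q := act 0 n27386
theorem D30737 : act 0 n27386 = n30737 := rfl
theorem F67598 : act 2 n30737 = n27457 := d1_2 (iv F57514) D30737 F57693
theorem F67599 : act 4 n30737 = n27732 := d3_2 (iv F57515) D30737 (iv D27732)
theorem F67600 : act 5 n30737 = n27456 := d4_2 (iv F57516) D30737 F57691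
def n30738 : Q := act 3 n27386
theorem D30738 : act 3 n27386 = n30738 := rfl
theorem F67601 : act 1 n30738 = n27387 := d7_1 D30738 (iv D27387) D27386
theorem F67602 : act 5 n30738 = n27458 := d16_2 (iv F57516) D30738 (iv D27458)
theorem F67603 : act 2 n30738 = n30717 := d21_2 (iv F57514) D30738 (iv D30717) (iv D27365) (iv F57425) D30707 (iv F67501) F57693
def n30739 : Q := act 6 n27386
theorem D30739 : act 6 n27386 = n30739 := rfl
theorem F67604 : act 1 n30739 = n30258 := d10_1 D30739 F65965 (iv D30252) F54713 D27386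
theorem F67605 : act 2 n30739 = n27459 := d14_1 D30739 (iv D27459) (iv F57514)
theorem F67606 : act 4 n30739 = n27733 := d19_1 D30739 (iv D27733) (iv F57515)
def n30740 : Q := act 3 n27392
theorem D30740 : act 3 n27392 = n30740 := rfl
theorem F67607 : act 0 n30740 = n27530 := d2_1 D30740 (iv D27530) (iv F57530)
theorem F67608 : act 1 n30740 = n27393 := d7_1 D30740 (iv D27393) D27392
theorem F67609 : act 4 n30740 = n29854 := d15_2 (iv F57532) D30740 (iv D29854) (iv F55266) F55265
theorem F67610 : act 5 n30740 = n29121 := d16_2 F62845 D30740 (iv F62843)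
theorem F67611 : act 6 n30740 = n29023 := d17_2 F66178 D30740 (iv F66179)
theorem F67612 : act 2 n30740 = n29009 := d25_14 (iv F39533) F23620 D13450 D18436 D22949 (iv F46494) D27503 (iv F65852) F65853 (iv D27609) (iv F58055) (iv D27606) (iv F57531) D30740 (iv D29009) F52018 F40843 (iv F40819) F40818 (iv D16029) F21336 F17723 F7833 F3912 D5160 F7846 (iv F7051) D9563 D11643 D15205 (iv F39540) (iv F39525) F39524 (iv F35824) (iv F47157) D27747 F58438 (iv F47410) (iv F58305) F58304 (iv F51448) F51449 F39994 F35056 (iv D19027) (iv D13843) (iv F23492) (iv F23688) F28828 F22398 F22397 (iv F34294) (iv F22534) (iv F30561) (iv F44323) F44322 D22599 F44334 F37440 F25484 D14610 D19858 D24210 (iv F49464) (iv F49528) (iv F54922) (iv D26571) F42913 F29621 F21992 (iv F35318) (iv D14472) F19996 (iv F19110) F19111 F18994 F39530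
def n30741 : Q := act 4 n27393
theorem D30741 : act 4 n27393 = n30741 := rfl
theorem F67613 : act 0 n30741 = n27395 := d3_1 D30741 (iv D27395) (iv F57533)
theorem F67614 : act 1 n30741 = n29854 := d8_1 D30741 (iv F67609) F67608
theorem F67615 : act 3 n30741 = n27467 := d15_1 D30741 F57722 (iv D23588) (iv F46244) D27393
theorem F67616 : act 5 n30741 = n30378 := d18_2 (iv F57534) D30741 F66412
def n30742 : Q := act 4 n27394
theorem D30742 : act 4 n27394 = n30742 := rfl
theorem F67617 : act 2 n30742 = n27395 := d12_1 D30742 (iv D27395) D27394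
theorem F67618 : act 5 n30742 = n30382 := d18_2 (iv F57535) D30742 F66423
def n30743 : Q := act 6 n27394
theorem D30743 : act 6 n27394 = n30743 := rfl
theorem F67619 : act 1 n30743 = n28383 := d10_1 D30743 (iv D28383) D28382 (iv F64980) F64978
theorem F67620 : act 2 n30743 = n27396 := d14_1 D30743 (iv D27396) D27394
theorem F67621 : act 3 n30743 = n28386 := d17_1 D30743 F62443 (iv F62448)
def n30744 : Q := act 6 n27395
theorem D30744 : act 6 n27395 = n30744 := rfl
theorem F67622 : act 1 n30744 = n27450 := d10_1 D30744 (iv D27450) F46356 (iv F46252) (iv F57536)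
theorem F67623 : act 3 n30744 = n27451 := d17_1 D30744 F57682 (iv F57537)
theorem F67624 : act 4 n30744 = n27396 := d19_1 D30744 (iv D27396) D27395
def n30745 : Q := act 6 n27404
theorem D30745 : act 6 n27404 = n30745 := rfl
theorem F67625 : act 3 n30745 = n27408 := d17_1 D30745 (iv D27408) (iv F57566)
theorem F67626 : act 4 n30745 = n30015 := d19_1 D30745 F65209 F61656
theorem F67627 : act 5 n30745 = n30010 := d22_2 F65188 D30745 (iv D30010) D30008
theorem F67628 : act 1 n28884 = n30745 := d7_3 F67625 (iv F57579) D28884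
def n30746 : Q := act 1 n27405
theorem D30746 : act 1 n27405 = n30746 := rfl
theorem F67629 : act 3 n30746 = n27409 := d7_2 (iv F57567) D30746 (iv D27409)
theorem F67630 : act 4 n30746 = n28777 := d8_2 F61183 D30746 F61586
theorem F67631 : act 5 n30746 = n28773 := d9_2 (iv F57568) D30746 (iv D28773) F50553 (iv F57551)
theorem F67632 : act 6 n30746 = n28884 := d10_2 D27405 D30746 F67628 (iv D30745) (iv D27404)
def n30747 : Q := act 3 n27407
theorem D30747 : act 3 n27407 = n30747 := rfl
theorem F67633 : act 0 n30747 = n30745 := d2_1 D30747 F67625 F57575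
theorem F67634 : act 1 n30747 = n27410 := d7_1 D30747 (iv D27410) (iv F57572)
theorem F67635 : act 4 n30747 = n28807 := d15_2 (iv F57573) D30747 F61660 F50605 F47061
theorem F67636 : act 6 n30747 = n28794 := d17_2 F57574 D30747 F61637
def n30748 : Q := act 2 n27410
theorem D30748 : act 2 n27410 = n30748 := rfl
theorem F67637 : act 0 n30748 = n30536 := d1_1 D30748 (iv D30536) (iv F57584)
theorem F67638 : act 5 n30748 = n27430 := d13_2 (iv F57585) D30748 (iv D27430)
def n30749 : Q := act 1 n27411
theorem D30749 : act 1 n27411 = n30749 := rfl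
theorem F67639 : act 0 n30749 = n29932 := d0_1 D30749 (iv D29932) (iv D26183) (iv D21727) (iv F28500) D21786 D26279 F58819 F58816
theorem F67640 : act 2 n30749 = n29714 := d6_2 F61131 D30749 (iv D29714) D29715 (iv F64168)
theorem F67641 : act 3 n30749 = n27736 := d7_2 (iv F57586) D30749 (iv D27736)
theorem F67642 : act 4 n30749 = n27412 := d8_2 (iv F57587) D30749 (iv D27412)
theorem F67643 : act 5 n30749 = n27420 := d9_2 D27411 D30749 (iv D27420) (iv D23287) (iv F46306)
theorem F67644 : act 6 n30749 = n30191 := d24_3 F48332 D27411 D30749 F65735 (iv D26434) (iv F42477) (iv D21895) F28645 (iv D16508) D16507 F28632 D19778 F37293 (iv F48330)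
def n30750 : Q := act 6 n27411
theorem D30750 : act 6 n27411 = n30750 := rfl
theorem F67645 : act 0 n30750 = n27911 := d5_1 D30750 F59022 F58816
theorem F67646 : act 1 n30750 = n30192 := d10_1 D30750 (iv D30192) D30191 (iv F67644) (iv D30749)
theorem F67647 : act 3 n30750 = n27737 := d17_1 D30750 (iv D27737) (iv F57586)
theorem F67648 : act 4 n30750 = n27413 := d19_1 D30750 (iv D27413) (iv F57587)
theorem F67649 : act 5 n30750 = n27841 := d20_1 D30750 F58807 D27845 (iv F59022) (iv D27911) F48332 D27411
def n30751 : Q := act 1 n27413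
theorem D30751 : act 1 n27413 = n30751 := rfl
theorem F67650 : act 3 n30751 = n27418 := d7_2 (iv F57590) D30751 (iv D27418)
theorem F67651 : act 4 n30751 = n30192 := d8_2 F67648 D30751 (iv F67646)
theorem F67652 : act 6 n30751 = n30189 := d10_2 D27413 D30751 F67424 F67422 (iv D27412)
theorem F67653 : act 2 n30725 = n30751 := d14_3 F67652 F67578 F67577
theorem F67654 : act 1 n28636 = n30726 := d6_3 F67653 (iv D30751) (iv F61135) (iv D30726) (iv F67558)
def n30752 : Q := act 3 n27416
theorem D30752 : act 3 n27416 = n30752 := rfl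
theorem F67655 : act 5 n30752 = n27426 := d16_2 (iv F57599) D30752 (iv D27426)
theorem F67656 : act 6 n30752 = n30690 := d17_2 F57604 D30752 F67426
theorem F67657 : act 2 n30752 = n30687 := d21_2 D27416 D30752 (iv D30687) (iv D27327) (iv F57352) D30684 (iv F67402) (iv D27415)
def n30753 : Q := act 1 n27421
theorem D30753 : act 1 n27421 = n30753 := rfl
theorem F67658 : act 2 n30753 = n30311 := d6_2 F67405 D30753 (iv F67517) F67518 (iv F67409)
theorem F67659 : act 3 n30753 = n27424 := d7_2 (iv F57608) D30753 (iv D27424)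
theorem F67660 : act 4 n30753 = n30205 := d8_2 F65756 D30753 F65788
theorem F67661 : act 6 n30753 = n30200 := d10_2 (iv F65747) D30753 (iv D30200) F54512 D30194
def n30754 : Q := act 6 n27426
theorem D30754 : act 6 n27426 = n30754 := rfl
theorem F67662 : act 0 n30754 = n28039 := d5_1 D30754 (iv F65697) (iv F65698)
theorem F67663 : act 2 n30754 = n27967 := d14_1 D30754 (iv F67389) (iv F67390)
theorem F67664 : act 3 n30754 = n27427 := d17_1 D30754 (iv D27427) D27426
theorem F67665 : act 4 n30754 = n27969 := d19_1 D30754 (iv F65704) F65703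
def n30755 : Q := act 2 n27429
theorem D30755 : act 2 n27429 = n30755 := rfl
theorem F67666 : act 0 n30755 = n27430 := d1_1 D30755 (iv D27430) (iv F57625)
theorem F67667 : act 5 n30755 = n30536 := d13_2 (iv F57627) D30755 (iv D30536)
theorem F67668 : act 3 n30755 = n30659 := d21_1 D30755 (iv D30659) (iv D27286) (iv D23175) F33649 D18876 D23294 (iv F57625)
def n30756 : Q := act 3 n27430
theorem D30756 : act 3 n27430 = n30756 := rfl
theorem F67669 : act 0 n30756 = n30659 := d2_1 D30756 (iv F67668) F67666

end Cfsg.Agent.Helper17.SuzbTC
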