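import Cfsg.Agent.Helper17.SuzbTC.Facts7

set_option autoImplicit false
set_option linter.all false

noncomputable section

namespace Cfsg.Agent.Helper17.SuzbTC

theorem F67670 : act 1 n30756 = n28529 := d7_1 D30756 (iv F60965) F67391
theorem F67671 : act 2 n30756 = n30658 := d11_1 D30756 (iv D30658) (iv D27285) F46044 D23293 D27429 D30755 F67668 (iv D30659) (iv D27286) (iv D23175) F33649 D18876 D23294 D27430
def n30757 : Q := act 4 n27430
theorem D30757 : act 4 n27430 = n30757 := rfl
theorem F67672 : act 2 n30757 = n27431 := d12_1 D30757 (iv D27431) D27430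
def n30758 : Q := act 6 n27430
theorem D30758 : act 6 n27430 = n30758 := rfl
theorem F67673 : act 2 n30758 = n27432 := d14_1 D30758 (iv D27432) D27430
def n30759 : Q := act 1 n27432
theorem D30759 : act 1 n27432 = n30759 := rfl
theorem F67674 : act 3 n30759 = n27433 := d7_2 (iv F57629) D30759 (iv D27433)
theorem F67675 : act 0 n27557 = n30759 := d2_3 F67674 (iv F57632) (iv F57932)
theorem F67676 : act 2 n29876 = n30759 := d21_2 (iv F53717) D29876 F67674 F57630 (iv F54159) F54158 (iv F53714) F53713
def n30760 : Q := act 6 n27435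
theorem D30760 : act 6 n27435 = n30760 := rfl
theorem F67677 : act 0 n30760 = n27980 := d5_1 D30760 (iv F67489) F67484
theorem F67678 : act 2 n30760 = n27436 := d14_1 D30760 (iv D27436) D27435
theorem F67679 : act 3 n30760 = n27979 := d17_1 D30760 (iv F59198) (iv F59188)
theorem F67680 : act 4 n30760 = n27441 := d19_1 D30760 (iv D27441) (iv F57636)
theorem F67681 : act 5 n30760 = n27781 := d20_1 D30760 F58572 (iv F67488) F67489 (iv F59202) (iv D27563) (iv F57637)
theorem F67682 : act 1 n29590 = n30760 := d9_5 F67681 (iv F64047) F64050 D29953 (iv F65009)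
def n30761 : Q := act 1 n27436
theorem D30761 : act 1 n27436 = n30761 := rfl
theorem F67683 : act 0 n30761 = n27952 := d0_1 D30761 F61584 (iv D28775) (iv D24876) (iv F38745) D24877 D28778 (iv F61590) F57952
theorem F67684 : act 2 n30761 = n27951 := d6_2 F67678 D30761 F63735 (iv F63747) F67682
theorem F67685 : act 3 n30761 = n27740 := d7_2 (iv F57638) D30761 F58404
theorem F67686 : act 4 n30761 = n27442 := d8_2 (iv F57639) D30761 (iv D27442)
theorem F67687 : act 6 n30761 = n27437 := d10_2 D27436 D30761 (iv D27437) (iv D23297) D23296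
def n30762 : Q := act 0 n27438
theorem D30762 : act 0 n27438 = n30762 := rfl
theorem F67688 : act 2 n30762 = n28626 := d1_2 F61084 D30762 F61098
theorem F67689 : act 3 n30762 = n27446 := d2_2 (iv F57644) D30762 (iv D27446)
theorem F67690 : act 4 n30762 = n28683 := d3_2 F61269 D30762 F61283
theorem F67691 : act 5 n30762 = n28625 := d4_2 (iv F57645) D30762 F61095
theorem F67692 : act 6 n30762 = n28667 := d5_2 (iv F61082) D30762 F61217
def n30763 : Q := act 1 n27441
theorem D30763 : act 1 n27441 = n30763 := rfl
theorem F67693 : act 0 n30763 = n29591 := d0_1 D30763 F63749 (iv F63765) (iv F64743) F64742 F54213 (iv F59215) F59216 F57975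
theorem F67694 : act 3 n30763 = n27849 := d7_2 F59476 D30763 (iv F59475)
theorem F67695 : act 4 n30763 = n29590 := d8_2 F67680 D30763 F67682
theorem F67696 : act 5 n30763 = n27848 := d9_2 F57966 D30763 F58829 (iv F53260) F57967
def n30764 : Q := act 5 n27442
theorem D30764 : act 5 n27442 = n30764 := rfl
theorem F67697 : act 2 n30764 = n30708 := d13_1 D30764 (iv F67507) F67504
theorem F67698 : act 3 n30764 = n27454 := d16_1 D30764 (iv D27454) (iv F57658)
theorem F67699 : act 6 n30764 = n30707 := d22_1 D30764 F67500 D30710 F67508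
def n30765 : Q := act 6 n27445
theorem D30765 : act 6 n27445 = n30765 := rfl
theorem F67700 : act 0 n30765 = n30764 := d5_1 D30765 F67699 F67498
theorem F67701 : act 2 n30765 = n30711 := d14_1 D30765 F67515 (iv F67497)
theorem F67702 : act 3 n30765 = n27459 := d17_1 D30765 (iv D27459) (iv F57662)
theorem F67703 : act 4 n30765 = n28025 := d19_1 D30765 (iv D28025) (iv F57663)
theorem F67704 : act 5 n30765 = n30710 := d20_1 D30765 (iv D30710) (iv F67500) (iv F67699) (iv D30764) F57659 D27445
def n30766 : Q := act 2 n27452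
theorem D30766 : act 2 n27452 = n30766 := rfl
theorem F67705 : act 0 n30766 = n27453 := d1_1 D30766 (iv D27453) D27452
theorem F67706 : act 1 n30766 = n30718 := d6_1 D30766 F67537 (iv F57834) (iv F61958) F61957
theorem F67707 : act 4 n30766 = n27743 := d12_2 (iv F57683) D30766 (iv D27743)
theorem F67708 : act 5 n30766 = n30739 := d13_2 F57699 D30766 F67605
theorem F67709 : act 6 n30766 = n27456 := d14_2 (iv F57684) D30766 (iv D27456)
def n30767 : Q := act 3 n27453
theorem D30767 : act 3 n27453 = n30767 := rfl
theorem F67710 : act 4 n30767 = n30187 := d15_2 (iv F57685) D30767 (iv D30187) F54480 (iv F47140)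
theorem F67711 : act 6 n30767 = n27458 := d17_2 (iv F57686) D30767 (iv D27458)
theorem F67712 : act 2 n30767 = n30722 := d21_2 D27453 D30767 F67550 F57467 (iv F57429) (iv F67509) F67510 (iv D27452)
def n30768 : Q := act 5 n27453
theorem D30768 : act 5 n27453 = n30768 := rfl
theorem F67713 : act 0 n30768 = n30739 := d4_1 D30768 (iv F67708) F67705
theorem F67714 : act 1 n30768 = n30716 := d9_1 D30768 F67534 F66397 F66396 (iv F65985)
theorem F67715 : act 2 n30768 = n27454 := d13_1 D30768 (iv D27454) D27453
theorem F67716 : act 4 n30768 = n27744 := d18_1 D30768 (iv D27744) (iv F57685)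
theorem F67717 : act 6 n30768 = n30737 := d20_2 (iv F57686) D30768 F67600 (iv F67709) F67708 (iv D30739) F57516
def n30769 : Q := act 2 n27455
theorem D30769 : act 2 n27455 = n30769 := rfl
theorem F67718 : act 0 n30769 = n30348 := d1_1 D30769 F66307 (iv F57688)
theorem F67719 : act 1 n30769 = n30399 := d6_1 D30769 F66464 (iv F66447) (iv D27456) D27455
theorem F67720 : act 4 n30769 = n27745 := d12_2 (iv F57689) D30769 (iv D27745)
theorem F67721 : act 5 n30769 = n30346 := d13_2 F57690 D30769 F66301
theorem F67722 : act 6 n30769 = n27508 := d14_2 F62410 D30769 F62411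
def n30770 : Q := act 3 n27456
theorem D30770 : act 3 n27456 = n30770 := rfl
theorem F67723 : act 0 n30770 = n27458 := d2_1 D30770 (iv D27458) (iv F57691)
theorem F67724 : act 2 n30770 = n30720 := d11_1 D30770 (iv D30720) (iv D27368) (iv F57427) F61376 F46348 D23308 D27458 F61362 (iv D27370) (iv D23234) (iv F46168) D27355 F61375 D27456
def n30771 : Q := act 3 n27460
theorem D30771 : act 3 n27460 = n30771 := rfl
theorem F67725 : act 0 n30771 = n27462 := d2_1 D30771 (iv D27462) (iv F57700)
theorem F67726 : act 6 n30771 = n30435 := d17_2 (iv F57702) D30771 F66563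
def n30772 : Q := act 3 n27461
theorem D30772 : act 3 n27461 = n30772 := rfl
theorem F67727 : act 0 n30772 = n30714 := d2_1 D30772 F67527 F57717
theorem F67728 : act 1 n30772 = n27462 := d7_1 D30772 (iv D27462) D27461
theorem F67729 : act 4 n30772 = n27516 := d15_2 (iv F57704) D30772 F57845 F46512 (iv F46981)
theorem F67730 : act 5 n30772 = n30712 := d16_2 F57715 D30772 F67519
theorem F67731 : act 6 n30772 = n27514 := d17_2 F57705 D30772 F57840
theorem F67732 : act 2 n30772 = n30686 := d21_2 (iv F57703) D30772 F67410 (iv F61941) (iv F65442) (iv F67518) F67519 (iv D27465)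
def n30773 : Q := act 2 n27462
theorem D30773 : act 2 n27462 = n30773 := rfl
theorem F67733 : act 1 n30773 = n28578 := d6_1 D30773 F60970 D30686 (iv F67732) F67728
def n30774 : Q := act 4 n27462
theorem D30774 : act 4 n27462 = n30774 := rfl
theorem F67734 : act 1 n30774 = n27516 := d8_1 D30774 (iv F67729) F67728
theorem F67735 : act 3 n30774 = n27519 := d15_1 D30774 F57852 (iv D23629) (iv F46369) D27462
def n30775 : Q := act 5 n27462
theorem D30775 : act 5 n27462 = n30775 := rfl
theorem F67736 : act 3 n30775 = n27463 := d16_1 D30775 (iv D27463) D27462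
theorem F67737 : act 6 n30775 = n30408 := d22_1 D30775 (iv F66564) (iv F67726) F67725
def n30776 : Q := act 6 n27462
theorem D30776 : act 6 n27462 = n30776 := rfl
theorem F67738 : act 0 n30776 = n30435 := d5_1 D30776 (iv F67726) F67725
theorem F67739 : act 3 n30776 = n27464 := d17_1 D30776 (iv D27464) D27462
theorem F67740 : act 5 n30618 = n30776 := d22_0 (iv D30776) D30775 F67737 (iv F67183)
def n30777 : Q := act 1 n27464
theorem D30777 : act 1 n27464 = n30777 := rfl
theorem F67741 : act 2 n30777 = n27764 := d6_2 (iv F57710) D30777 F58509 F47295 F46427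
theorem F67742 : act 4 n30777 = n27747 := d8_2 (iv F57711) D30777 (iv D27747)
theorem F67743 : act 5 n30777 = n28909 := d9_2 F57712 D30777 F62022 (iv F62044) F62042
theorem F67744 : act 6 n30777 = n27761 := d10_2 D27464 D30777 F58495 F57705 (iv D27461)
theorem F67745 : act 0 n30777 = n29898 := d23_3 F46374 (iv F57710) D30777 F64819 F57129 (iv D23152) F33610 (iv F33607) (iv D18775) (iv D13692) (iv F19313) F19315 D13689 (iv F34561) F25727 D14792 (iv F37811) D24356 F49258
def n30778 : Q := act 3 n27468
theorem D30778 : act 3 n27468 = n30778 := rfl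
theorem F67746 : act 1 n30778 = n27469 := d7_1 D30778 (iv D27469) (iv F57724)
theorem F67747 : act 4 n30778 = n29248 := d15_2 (iv F57725) D30778 F62870 F52456 (iv F47049)
theorem F67748 : act 5 n30778 = n29247 := d16_2 (iv F57726) D30778 F62867
theorem F67749 : act 2 n30224 = n30778 := d6_0 F67746 (iv F65802) (iv F65806) F59677 D30224
def n30779 : Q := act 3 n27474
theorem D30779 : act 3 n27474 = n30779 := rfl
theorem F67750 : act 0 n30779 = n27606 := d2_1 D30779 (iv D27606) (iv F57738)
theorem F67751 : act 1 n30779 = n27475 := d7_1 D30779 (iv D27475) D27474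
theorem F67752 : act 4 n30779 = n29617 := d15_2 (iv F57740) D30779 (iv D29617) (iv F55670) F55669
theorem F67753 : act 5 n30779 = n29034 := d16_2 F66147 D30779 (iv F66148)
theorem F67754 : act 6 n30779 = n29172 := d17_2 F62698 D30779 (iv F62932)
theorem F67755 : act 2 n30779 = n29014 := d21_2 (iv F57739) D30779 F62330 F52031 (iv F62321) (iv F67612) (iv D30740) F57530
def n30780 : Q := act 5 n27476
theorem D30780 : act 5 n27476 = n30780 := rfl
theorem F67756 : act 1 n30780 = n28412 := d9_1 D30780 (iv D28412) D28411 (iv F64214) F64213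
theorem F67757 : act 2 n30780 = n27477 := d13_1 D30780 (iv D27477) D27476
theorem F67758 : act 3 n30780 = n28415 := d16_1 D30780 F62491 (iv F62490)
def n30781 : Q := act 2 n27479
theorem D30781 : act 2 n27479 = n30781 := rfl
theorem F67759 : act 0 n30781 = n30361 := d1_1 D30781 (iv D30361) F57752
theorem F67760 : act 1 n30781 = n28406 := d6_1 D30781 F60488 F56836 F50607 D27479
theorem F67761 : act 3 n30781 = n29153 := d11_2 (iv F57749) D30781 (iv F65039) (iv D29962) F54060 F42176 (iv F43856) D26790 D30361 F66357 F65881 (iv F58226) F58225 F54051 F46453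
theorem F67762 : act 4 n30781 = n28403 := d12_2 (iv F57750) D30781 F60481
theorem F67763 : act 6 n30781 = n28989 := d14_2 (iv F57751) D30781 F62276
def n30782 : Q := act 0 n27480
theorem D30782 : act 0 n27480 = n30782 := rfl
theorem F67764 : act 1 n30782 = n29746 := d0_2 D27480 D30782 F64282 (iv F54231) F51973 (iv F54091) (iv F56835) F56836 F50606
theorem F67765 : act 3 n30782 = n27946 := d2_2 (iv F57753) D30782 (iv D27946)
theorem F67766 : act 4 n30782 = n30505 := d3_2 (iv F57754) D30782 (iv D30505)
theorem F67767 : act 6 n30782 = n29749 := d5_2 (iv F57755) D30782 (iv F64294)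
theorem F67768 : act 5 n30782 = n28586 := d22_0 F67173 (iv D30614) (iv F57755) D30782
def n30783 : Q := act 5 n27480
theorem D30783 : act 5 n27480 = n30783 := rfl
theorem F67769 : act 0 n30783 = n28586 := d4_1 D30783 (iv F67768) (iv D30782)
theorem F67770 : act 1 n30783 = n28611 := d9_1 D30783 F66883 (iv D30518) F56606 D27480
theorem F67771 : act 3 n30783 = n27947 := d16_1 D30783 (iv D27947) (iv F57753)
theorem F67772 : act 4 n30783 = n30507 := d18_1 D30783 (iv D30507) (iv F57754)
def n30784 : Q := act 0 n27481
theorem D30784 : act 0 n27481 = n30784 := rfl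
theorem F67773 : act 3 n30784 = n27483 := d2_2 (iv F57756) D30784 (iv D27483)
theorem F67774 : act 4 n30784 = n29574 := d3_2 (iv F57757) D30784 (iv D29574)
theorem F67775 : act 6 n30784 = n29579 := d5_2 (iv F57758) D30784 (iv D29579)
theorem F67776 : act 2 n30784 = n27848 := d21_0 (iv D27848) (iv D23870) F36676 D19551 D23882 (iv F54857) (iv F57756) D30784
def n30785 : Q := act 2 n27481
theorem D30785 : act 2 n27481 = n30785 := rfl
theorem F67777 : act 0 n30785 = n27848 := d1_1 D30785 (iv F67776) (iv D30784)
theorem F67778 : act 1 n30785 = n30522 := d6_1 D30785 (iv D30522) (iv D27072) (iv F46460) D27481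
theorem F67779 : act 3 n30785 = n27847 := d11_2 (iv F57756) D30785 (iv D27847) F47919 D23880 (iv F56158) (iv F57760) (iv F67773) F67776 (iv D27848) (iv D23870) F36676 D19551 D23882 (iv F54857)
theorem F67780 : act 4 n30785 = n29575 := d12_2 (iv F57757) D30785 (iv D29575)
theorem F67781 : act 6 n30785 = n28048 := d14_2 (iv F57758) D30785 F59405
theorem F67782 : act 5 n30785 = n29591 := d24_1 (iv F67781) F63749 F53034 D25878 (iv F54395) F54398 (iv D26377) (iv F53409) D29735 (iv F64249) (iv F64250) (iv F67460) (iv D30699) (iv F59403)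
def n30786 : Q := act 5 n27481
theorem D30786 : act 5 n27481 = n30786 := rfl
theorem F67783 : act 1 n30786 = n29954 := d9_1 D30786 F65011 (iv D27479) (iv F46463) D27481
theorem F67784 : act 2 n30786 = n29591 := d13_1 D30786 (iv F67782) (iv D30785)
theorem F67785 : act 3 n30786 = n27484 := d16_1 D30786 (iv D27484) (iv F57756)
theorem F67786 : act 4 n30786 = n29576 := d18_1 D30786 (iv D29576) (iv F57757)
def n30787 : Q := act 2 n27482
theorem D30787 : act 2 n27482 = n30787 := rfl
theorem F67787 : act 0 n30787 = n29644 := d1_1 D30787 F67449 (iv F67448)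
theorem F67788 : act 3 n30787 = n29633 := d11_2 (iv F57759) D30787 F63899 F53106 (iv F53567) F53568 (iv F57397) (iv F67447) (iv F67449) (iv D29644) F53114 F41644 (iv F43027) D26595 (iv F55011)
def n30788 : Q := act 1 n27487
theorem D30788 : act 1 n27487 = n30788 := rfl
theorem F67789 : act 3 n30788 = n28085 := d7_2 F59422 D30788 F59521
theorem F67790 : act 4 n30788 = n27495 := d8_2 (iv F57772) D30788 (iv D27495)
theorem F67791 : act 6 n30788 = n28082 := d10_2 (iv F59415) D30788 (iv D28082) F48696 (iv F59412)
def n30789 : Q := act 2 n27488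
theorem D30789 : act 2 n27488 = n30789 := rfl
theorem F67792 : act 4 n30789 = n27498 := d12_2 (iv F57774) D30789 (iv D27498)
theorem F67793 : act 5 n30789 = n27490 := d13_2 (iv F57775) D30789 (iv D27490)
def n30790 : Q := act 6 n27488
theorem D30790 : act 6 n27488 = n30790 := rfl
theorem F67794 : act 0 n30790 = n29583 := d5_1 D30790 (iv F65303) F65299
theorem F67795 : act 1 n30790 = n28832 := d10_1 D30790 F61740 (iv F61434) (iv D27489) D27488
theorem F67796 : act 3 n30790 = n27757 := d17_1 D30790 (iv D27757) (iv F57773)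
theorem F67797 : act 4 n30790 = n27499 := d19_1 D30790 (iv D27499) (iv F57774)
theorem F67798 : act 5 n30790 = n29581 := d20_1 D30790 F63717 (iv F65302) F65303 (iv D29583) F52991 (iv F57775)
def n30791 : Q := act 0 n27493
theorem D30791 : act 0 n27493 = n30791 := rfl
theorem F67799 : act 1 n30791 = n30587 := d0_2 D27493 D30791 F67106 (iv F62175) (iv F64793) F64794 (iv D27497) (iv D23355) (iv F46484)
theorem F67800 : act 3 n30791 = n27509 := d2_2 (iv F57792) D30791 (iv D27509)
theorem F67801 : act 4 n30791 = n27995 := d3_2 (iv F57793) D30791 F59250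
theorem F67802 : act 5 n30791 = n27994 := d4_2 (iv F57794) D30791 F59246
def n30792 : Q := act 2 n27493
theorem D30792 : act 2 n27493 = n30792 := rfl
theorem F67803 : act 1 n30792 = n29900 := d6_1 D30792 (iv D29900) F57791 F57788 D27493
theorem F67804 : act 4 n30792 = n28732 := d12_2 (iv F57793) D30792 F61488
theorem F67805 : act 5 n30792 = n28721 := d13_2 (iv F57794) D30792 (iv D28721)
def n30793 : Q := act 6 n27493
theorem D30793 : act 6 n27493 = n30793 := rfl
theorem F67806 : act 1 n30793 = n30708 := d10_1 D30793 (iv D30708) (iv D27353) (iv F46486) D27493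
theorem F67807 : act 3 n30793 = n27511 := d17_1 D30793 (iv D27511) (iv F57792)
theorem F67808 : act 4 n30793 = n28734 := d19_1 D30793 (iv D28734) (iv F57793)
def n30794 : Q := act 2 n27495
theorem D30794 : act 2 n27495 = n30794 := rfl
theorem F67809 : act 0 n30794 = n30541 := d1_1 D30794 F66952 F64666
theorem F67810 : act 1 n30794 = n27498 := d6_1 D30794 (iv D27498) (iv D23355) (iv F46487) D27495
theorem F67811 : act 5 n30794 = n30541 := d13_2 F64668 D30794 F66952
def n30795 : Q := act 2 n27497
theorem D30795 : act 2 n27497 = n30795 := rfl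
theorem F67812 : act 0 n30795 = n27498 := d1_1 D30795 (iv D27498) D27497
theorem F67813 : act 5 n30795 = n27501 := d13_2 (iv F57803) D30795 (iv D27501)
def n30796 : Q := act 3 n27498
theorem D30796 : act 3 n27498 = n30796 := rfl
theorem F67814 : act 5 n30796 = n27503 := d16_2 (iv F57804) D30796 (iv D27503)
theorem F67815 : act 4 n29211 = n30796 := d18_3 F67814 (iv F57814) D29211
def n30797 : Q := act 6 n27498
theorem D30797 : act 6 n27498 = n30797 := rfl
theorem F67816 : act 2 n30797 = n27499 := d14_1 D30797 (iv D27499) D27498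
theorem F67817 : act 1 n28118 = n30797 := d6_5 F67816 (iv F57806) F53962 (iv F63535) (iv F63538)
def n30798 : Q := act 5 n27500
theorem D30798 : act 5 n27500 = n30798 := rfl
theorem F67818 : act 1 n30798 = n28678 := d9_1 D30798 (iv F61265) (iv D27349) (iv F46492) D27500
theorem F67819 : act 2 n30798 = n28676 := d13_1 D30798 (iv F63528) F63527
theorem F67820 : act 3 n30798 = n27520 := d16_1 D30798 (iv D27520) (iv F57807)
theorem F67821 : act 6 n30798 = n29515 := d22_1 D30798 (iv D29515) (iv F61359) (iv F61428)
def n30799 : Q := act 6 n27501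
theorem D30799 : act 6 n27501 = n30799 := rfl
theorem F67822 : act 0 n30799 = n27504 := d5_1 D30799 (iv D27504) (iv F57809)
theorem F67823 : act 2 n30799 = n27502 := d14_1 D30799 (iv D27502) D27501
theorem F67824 : act 5 n30799 = n30797 := d22_2 F67813 D30799 (iv D30797) (iv F67812)
def n30800 : Q := act 1 n27502
theorem D30800 : act 1 n27502 = n30800 := rfl
theorem F67825 : act 3 n30800 = n27521 := d7_2 (iv F57811) D30800 (iv D27521)
theorem F67826 : act 4 n30800 = n30091 := d8_2 F63716 D30800 F65428
theorem F67827 : act 6 n30800 = n30087 := d10_2 D27502 D30800 (iv D30087) F54294 (iv F54255)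
theorem F67828 : act 0 n30687 = n30800 := d5_3 F67827 (iv F65417) (iv F67414)
def n30801 : Q := act 6 n27503
theorem D30801 : act 6 n27503 = n30801 := rfl
theorem F67829 : act 3 n30801 = n27504 := d17_1 D30801 (iv D27504) D27503
theorem F67830 : act 4 n30801 = n29212 := d19_1 D30801 (iv D29212) F57814
def n30802 : Q := act 5 n27504
theorem D30802 : act 5 n27504 = n30802 := rfl
theorem F67831 : act 0 n30802 = n30797 := d4_1 D30802 (iv F67824) F67822
theorem F67832 : act 2 n30802 = n27505 := d13_1 D30802 (iv D27505) (iv F57815)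
theorem F67833 : act 6 n30802 = n30795 := d20_2 D27504 D30802 F67813 D30799 F67824 (iv D30797) F57804
def n30803 : Q := act 5 n27506
theorem D30803 : act 5 n27506 = n30803 := rfl
theorem F67834 : act 0 n30803 = n27514 := d4_1 D30803 (iv D27514) (iv F57819)
theorem F67835 : act 1 n30803 = n30288 := d9_1 D30803 F66239 (iv D30331) F55333 (iv F57820)
theorem F67836 : act 2 n30803 = n30095 := d13_1 D30803 (iv D30095) (iv F57821)
theorem F67837 : act 3 n30803 = n27759 := d16_1 D30803 F58487 (iv F57822)
theorem F67838 : act 4 n30803 = n27507 := d18_1 D30803 (iv D27507) D27506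
theorem F67839 : act 6 n30803 = n30714 := d20_2 F67520 D30803 (iv D30714) F57449 D27514 (iv F67731) F67730
def n30804 : Q := act 1 n27507
theorem D30804 : act 1 n27507 = n30804 := rfl
theorem F67840 : act 3 n30804 = n27508 := d7_2 (iv F57825) D30804 (iv D27508)
theorem F67841 : act 4 n30804 = n30288 := d8_2 F67838 D30804 (iv F67835)
theorem F67842 : act 5 n30804 = n30368 := d9_2 D27507 D30804 (iv D30368) (iv D26807) (iv F46498)
def n30805 : Q := act 3 n27510
theorem D30805 : act 3 n27510 = n30805 := rfl
theorem F67843 : act 0 n30805 = n30199 := d2_1 D30805 F65766 F60173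
theorem F67844 : act 4 n30805 = n30201 := d15_2 (iv F57832) D30805 F65774 (iv D28284) F49544
theorem F67845 : act 5 n30805 = n28884 := d16_2 (iv F57833) D30805 (iv D28884)
def n30806 : Q := act 5 n27512
theorem D30806 : act 5 n27512 = n30806 := rfl
theorem F67846 : act 0 n30806 = n30095 := d4_1 D30806 (iv D30095) (iv F57836)
theorem F67847 : act 2 n30806 = n27514 := d13_1 D30806 (iv D27514) (iv F57837)
theorem F67848 : act 3 n30806 = n28882 := d16_1 D30806 F61938 F59952
theorem F67849 : act 4 n30806 = n27513 := d18_1 D30806 (iv D27513) D27512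
theorem F67850 : act 6 n30806 = n30686 := d22_1 D30806 F67412 (iv D30096) (iv F57836)
def n30807 : Q := act 6 n27515
theorem D30807 : act 6 n27515 = n30807 := rfl
theorem F67851 : act 2 n30807 = n30051 := d14_1 D30807 F65311 F62176
theorem F67852 : act 3 n30807 = n27518 := d17_1 D30807 (iv D27518) (iv F57842)
theorem F67853 : act 5 n30807 = n30047 := d22_2 (iv F57843) D30807 (iv D30047) F54225
def n30808 : Q := act 1 n27518
theorem D30808 : act 1 n27518 = n30808 := rfl
theorem F67854 : act 0 n30808 = n30417 := d0_1 D30808 (iv D30417) F55987 D26906 (iv F57479) D30730 F67572 F64038 F57869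
theorem F67855 : act 2 n30808 = n28865 := d6_2 F58049 D30808 F61862 D29898 F64821
theorem F67856 : act 4 n30808 = n27746 := d8_2 (iv F57850) D30808 F58432
theorem F67857 : act 5 n30808 = n28900 := d9_2 F57864 D30808 F61995 (iv F62054) F62052
theorem F67858 : act 6 n30808 = n27519 := d10_2 D27518 D30808 (iv D27519) (iv D23367) D23366
def n30809 : Q := act 5 n27525
theorem D30809 : act 5 n27525 = n30809 := rfl
theorem F67859 : act 0 n30809 = n30807 := d4_1 D30809 F67853 F65292
theorem F67860 : act 2 n30809 = n30050 := d13_1 D30809 F65306 F64283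
theorem F67861 : act 3 n30809 = n27526 := d16_1 D30809 (iv D27526) (iv F57868)
theorem F67862 : act 6 n30809 = n30046 := d20_2 D27525 D30809 (iv D30046) D30047 (iv F67853) (iv D30807) F57843
def n30810 : Q := act 5 n27527
theorem D30810 : act 5 n27527 = n30810 := rfl
theorem F67863 : act 0 n30810 = n30792 := d4_1 D30810 F67805 F61466
theorem F67864 : act 2 n30810 = n30791 := d13_1 D30810 F67802 F59248
theorem F67865 : act 3 n30810 = n30040 := d16_1 D30810 (iv D30040) (iv F57873)
theorem F67866 : act 4 n30810 = n27528 := d18_1 D30810 (iv D27528) D27527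
def n30811 : Q := act 6 n27527
theorem D30811 : act 6 n27527 = n30811 := rfl
theorem F67867 : act 1 n30811 = n27551 := d10_1 D30811 (iv D27551) F46551 (iv F46534) (iv F57872)
theorem F67868 : act 3 n30811 = n30041 := d17_1 D30811 (iv D30041) (iv F57873)
theorem F67869 : act 4 n30811 = n27529 := d19_1 D30811 (iv D27529) D27527
def n30812 : Q := act 6 n27528
theorem D30812 : act 6 n27528 = n30812 := rfl
theorem F67870 : act 2 n30812 = n27944 := d14_1 D30812 (iv F59253) F59251
theorem F67871 : act 5 n30812 = n28733 := d22_2 D27528 D30812 (iv D28733) F50476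
def n30813 : Q := act 5 n27529
theorem D30813 : act 5 n27529 = n30813 := rfl
theorem F67872 : act 0 n30813 = n30812 := d4_1 D30813 F67871 F61489
theorem F67873 : act 2 n30813 = n28734 := d13_1 D30813 F61493 F59258
theorem F67874 : act 3 n30813 = n28061 := d16_1 D30813 (iv F59448) F58119
theorem F67875 : act 6 n30813 = n28732 := d20_2 D27529 D30813 (iv D28732) D28733 (iv F67871) (iv D30812) (iv D27528)
def n30814 : Q := act 2 n27530
theorem D30814 : act 2 n27530 = n30814 := rfl
theorem F67876 : act 0 n30814 = n29009 := d1_1 D30814 (iv F67612) F67607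
theorem F67877 : act 1 n30814 = n30027 := d6_1 D30814 F65245 (iv F58169) (iv D27533) (iv F57875)
theorem F67878 : act 4 n30814 = n29855 := d12_2 (iv F57876) D30814 (iv D29855)
theorem F67879 : act 3 n30814 = n29010 := d21_7 (iv F52031) (iv F62330) (iv F67755) (iv D30779) F57739 D27530 D30814 (iv D29010)
theorem F67880 : act 5 n29120 = n30814 := d16_0 F67879 F62324 (iv F62577)
theorem F67881 : act 6 n29022 = n30814 := d17_0 F67879 F62325 (iv F62346)
def n30815 : Q := act 5 n27530
theorem D30815 : act 5 n27530 = n30815 := rfl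
theorem F67882 : act 0 n30815 = n29121 := d4_1 D30815 (iv F67610) F67607
theorem F67883 : act 2 n30815 = n29120 := d13_1 D30815 F67880 (iv D30814)
theorem F67884 : act 3 n30815 = n27531 := d16_1 D30815 (iv D27531) D27530
theorem F67885 : act 4 n30815 = n29849 := d18_1 D30815 F64640 (iv F57876)
def n30816 : Q := act 6 n27530
theorem D30816 : act 6 n27530 = n30816 := rfl
theorem F67886 : act 0 n30816 = n29023 := d5_1 D30816 (iv F67611) F67607
theorem F67887 : act 2 n30816 = n29022 := d14_1 D30816 F67881 (iv D30814)
theorem F67888 : act 3 n30816 = n27532 := d17_1 D30816 (iv D27532) D27530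
theorem F67889 : act 4 n30816 = n29856 := d19_1 D30816 (iv D29856) (iv F57876)
theorem F67890 : act 1 n29619 = n30816 := d7_3 F67888 (iv F57879) (iv F63848)
def n30817 : Q := act 4 n27533
theorem D30817 : act 4 n27533 = n30817 := rfl
theorem F67891 : act 0 n30817 = n27540 := d3_1 D30817 (iv D27540) (iv F57880)
theorem F67892 : act 1 n30817 = n30037 := d8_1 D30817 (iv D30037) (iv F58169)
theorem F67893 : act 2 n30817 = n27534 := d12_1 D30817 (iv D27534) D27533
def n30818 : Q := act 5 n27533
theorem D30818 : act 5 n27533 = n30818 := rfl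
theorem F67894 : act 0 n30818 = n27541 := d4_1 D30818 (iv D27541) (iv F57880)
theorem F67895 : act 1 n30818 = n28119 := d9_1 D30818 (iv F59609) F65560 (iv D30038) (iv F58169)
theorem F67896 : act 2 n30818 = n27535 := d13_1 D30818 (iv D27535) D27533
def n30819 : Q := act 6 n27533
theorem D30819 : act 6 n27533 = n30819 := rfl
theorem F67897 : act 0 n30819 = n27542 := d5_1 D30819 (iv D27542) (iv F57880)
theorem F67898 : act 2 n30819 = n27536 := d14_1 D30819 (iv D27536) D27533
def n30820 : Q := act 1 n27535
theorem D30820 : act 1 n27535 = n30820 := rfl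
theorem F67899 : act 3 n30820 = n27537 := d7_2 (iv F57885) D30820 (iv D27537)
theorem F67900 : act 6 n30820 = n30349 := d10_2 F57902 D30820 F66311 (iv F65570) F64040
theorem F67901 : act 0 n30353 = n30820 := d5_3 F67900 F66310 D30353
def n30821 : Q := act 1 n27536
theorem D30821 : act 1 n27536 = n30821 := rfl
theorem F67902 : act 3 n30821 = n27538 := d7_2 (iv F57887) D30821 (iv D27538)
theorem F67903 : act 6 n30821 = n29619 := d10_2 D27536 D30821 F67890 (iv D30816) F57875
def n30822 : Q := act 4 n27539
theorem D30822 : act 4 n27539 = n30822 := rfl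
theorem F67904 : act 0 n30822 = n29261 := d3_1 D30822 (iv F65800) F65797
theorem F67905 : act 2 n30822 = n27684 := d12_1 D30822 (iv F59668) F59666
def n30823 : Q := act 5 n27539
theorem D30823 : act 5 n27539 = n30823 := rfl
theorem F67906 : act 3 n30823 = n27541 := d16_1 D30823 (iv D27541) D27539
def n30824 : Q := act 6 n27539
theorem D30824 : act 6 n27539 = n30824 := rfl
theorem F67907 : act 3 n30824 = n27542 := d17_1 D30824 (iv D27542) D27539
def n30825 : Q := act 3 n27540
theorem D30825 : act 3 n27540 = n30825 := rfl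
theorem F67908 : act 2 n30825 = n29464 := d21_2 (iv F57895) D30825 (iv D29464) (iv D25731) (iv F41959) (iv F47284) (iv F57883) F57881
def n30826 : Q := act 1 n27541
theorem D30826 : act 1 n27541 = n30826 := rfl
theorem F67909 : act 0 n30826 = n30826 := d0_1 D30826 (iv D30826) (iv F67894) F67895 F59603 F48749 (iv F59603) (iv F67895) F67894
theorem F67910 : act 2 n30826 = n30826 := d6_2 (iv F57896) D30826 (iv D30826) F57896 F46543
def n30827 : Q := act 6 n27541
theorem D30827 : act 6 n27541 = n30827 := rfl
theorem F67911 : act 2 n30827 = n27543 := d14_1 D30827 (iv D27543) (iv F57896)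
theorem F67912 : act 5 n30827 = n30819 := d22_2 D27541 D30827 (iv D30819) F57880
def n30828 : Q := act 1 n27542
theorem D30828 : act 1 n27542 = n30828 := rfl
theorem F67913 : act 2 n30828 = n30782 := d6_2 (iv F57897) D30828 F67764 F64283 F57867
theorem F67914 : act 0 n30548 = n30828 := d1_3 F67913 (iv D30782) (iv F66977)
def n30829 : Q := act 5 n27542
theorem D30829 : act 5 n27542 = n30829 := rfl
theorem F67915 : act 0 n30829 = n30827 := d4_1 D30829 F67912 F67897
theorem F67916 : act 2 n30829 = n27544 := d13_1 D30829 (iv D27544) (iv F57897)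
theorem F67917 : act 6 n30829 = n30818 := d20_2 D27542 D30829 (iv D30818) D30819 (iv F67912) (iv D30827) (iv D27541)
def n30830 : Q := act 0 n27545
theorem D30830 : act 0 n27545 = n30830 := rfl
theorem F67918 : act 1 n30830 = n30346 := d0_2 D27545 D30830 F66300 (iv F58581) F58580 (iv F58591) F58590 F53237 F46548
theorem F67919 : act 4 n30830 = n27768 := d3_2 (iv F57903) D30830 (iv D27768)
theorem F67920 : act 6 n30830 = n30830 := d5_2 F57904 D30830 (iv D30830)
theorem F67921 : act 5 n30830 = n30396 := d24_1 F67920 F66456 (iv F57502) (iv F65943) F65941 (iv F55690) (iv D26804) (iv F46173) F46175 D23361 D27508 (iv F67722) F67721 (iv F67918)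
def n30831 : Q := act 2 n27545
theorem D30831 : act 2 n27545 = n30831 := rfl
theorem F67922 : act 1 n30831 = n28016 := d6_1 D30831 (iv F59316) (iv D27598) F46652 D27545
theorem F67923 : act 4 n30831 = n27769 := d12_2 (iv F57903) D30831 (iv D27769)
theorem F67924 : act 6 n30831 = n30831 := d14_2 F57904 D30831 (iv D30831)
theorem F67925 : act 3 n28014 = n30831 := d15_5 F67923 F58531 (iv F51835) F51837 (iv F59309)
def n30832 : Q := act 5 n27545
theorem D30832 : act 5 n27545 = n30832 := rfl
theorem F67926 : act 0 n30832 = n30396 := d4_1 D30832 (iv F67921) (iv D30830)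
theorem F67927 : act 1 n30832 = n29611 := d9_1 D30832 F63827 (iv D27538) (iv F46547) D27545
theorem F67928 : act 4 n30832 = n27770 := d18_1 D30832 (iv D27770) (iv F57903)
theorem F67929 : act 6 n30832 = n30396 := d22_1 D30832 (iv F67921) F67920 (iv D30830)
def n30833 : Q := act 4 n27546
theorem D30833 : act 4 n27546 = n30833 := rfl
theorem F67930 : act 0 n30833 = n29112 := d3_1 D30833 (iv D29112) (iv F58178)
theorem F67931 : act 1 n30833 = n27547 := d8_1 D30833 (iv D27547) D27546
theorem F67932 : act 3 n30833 = n30066 := d15_1 D30833 F65354 (iv F59614) F59615 F58146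
def n30834 : Q := act 5 n27546
theorem D30834 : act 5 n27546 = n30834 := rfl
theorem F67933 : act 0 n30834 = n29113 := d4_1 D30834 (iv D29113) (iv F58178)
def n30835 : Q := act 6 n27546
theorem D30835 : act 6 n27546 = n30835 := rfl
theorem F67934 : act 0 n30835 = n29114 := d5_1 D30835 (iv D29114) (iv F58178)
def n30836 : Q := act 5 n27547
theorem D30836 : act 5 n27547 = n30836 := rfl
theorem F67935 : act 0 n30836 = n27550 := d4_1 D30836 (iv D27550) (iv F57905)
theorem F67936 : act 2 n30836 = n28072 := d13_1 D30836 F59491 (iv F57906)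
theorem F67937 : act 4 n30836 = n27548 := d18_1 D30836 (iv D27548) D27547
theorem F67938 : act 6 n30836 = n29669 := d20_2 F64079 D30836 F64043 (iv D27551) D27550 (iv F57913) D29680
def n30837 : Q := act 1 n27548
theorem D30837 : act 1 n27548 = n30837 := rfl
theorem F67939 : act 6 n30837 = n28795 := d10_2 F57920 D30837 (iv D28795) D28797 F62756
theorem F67940 : act 2 n28801 = n30837 := d14_3 F67939 F61641 D28801
def n30838 : Q := act 1 n27549
theorem D30838 : act 1 n27549 = n30838 := rfl
theorem F67941 : act 2 n30838 = n29632 := d6_2 (iv F57909) D30838 (iv D29632) (iv D25870) (iv F53102)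
def n30839 : Q := act 2 n27555
theorem D30839 : act 2 n27555 = n30839 := rfl
theorem F67942 : act 0 n30839 = n30305 := d1_1 D30839 (iv D30305) F57928
theorem F67943 : act 1 n30839 = n28377 := d6_1 D30839 F60409 F56871 F50684 D27555
theorem F67944 : act 3 n30839 = n29102 := d11_2 (iv F57925) D30839 (iv F64302) (iv D29754) F53469 F41827 (iv F43307) D26655 D30305 F66143 F65826 (iv F58132) F58131 F53461 F46576
theorem F67945 : act 4 n30839 = n28374 := d12_2 (iv F57926) D30839 F60402
theorem F67946 : act 5 n30839 = n28995 := d13_2 (iv F57927) D30839 F62291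
def n30840 : Q := act 0 n27556
theorem D30840 : act 0 n27556 = n30840 := rfl
theorem F67947 : act 1 n30840 = n29955 := d0_2 D27556 D30840 F65013 (iv F54406) F51979 (iv F53500) (iv F56870) F56871 F50683
theorem F67948 : act 3 n30840 = n28018 := d2_2 (iv F57929) D30840 (iv D28018)
theorem F67949 : act 4 n30840 = n30510 := d3_2 (iv F57930) D30840 (iv D30510)
theorem F67950 : act 5 n30840 = n29958 := d4_2 (iv F57931) D30840 (iv F65026)
theorem F67951 : act 6 n28644 = n30840 := d22_3 F57931 D30625 F67208 (iv D30840)
def n30841 : Q := act 6 n27556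
theorem D30841 : act 6 n27556 = n30841 := rfl
theorem F67952 : act 0 n30841 = n28644 := d5_1 D30841 F67951 (iv D30840)
theorem F67953 : act 1 n30841 = n28668 := d10_1 D30841 F66939 (iv D30535) F56681 D27556
theorem F67954 : act 3 n30841 = n28019 := d17_1 D30841 (iv D28019) (iv F57929)
theorem F67955 : act 4 n30841 = n30512 := d19_1 D30841 (iv D30512) (iv F57930)
def n30842 : Q := act 2 n27557
theorem D30842 : act 2 n27557 = n30842 := rfl
theorem F67956 : act 0 n30842 = n29876 := d1_1 D30842 F67676 (iv F67675)
theorem F67957 : act 3 n30842 = n29869 := d11_2 (iv F57932) D30842 F64707 F53714 (iv F54158) F54159 (iv F57630) (iv F67674) (iv F67676) (iv D29876) F53717 F41988 (iv F43570) D26745 (iv F55503)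
def n30843 : Q := act 0 n27558
theorem D30843 : act 0 n27558 = n30843 := rfl
theorem F67958 : act 3 n30843 = n27559 := d2_2 (iv F57933) D30843 (iv D27559)
theorem F67959 : act 4 n30843 = n29818 := d3_2 (iv F57934) D30843 (iv D29818)
theorem F67960 : act 5 n30843 = n29820 := d4_2 (iv F57935) D30843 (iv D29820)
theorem F67961 : act 2 n30843 = n27852 := d21_0 (iv D27852) (iv D23874) F36684 D19555 D23891 (iv F47981) (iv F57933) D30843
def n30844 : Q := act 2 n27558
theorem D30844 : act 2 n27558 = n30844 := rfl
theorem F67962 : act 0 n30844 = n27852 := d1_1 D30844 (iv F67961) (iv D30843)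
theorem F67963 : act 1 n30844 = n30539 := d6_1 D30844 (iv D30539) (iv D27098) (iv F46586) D27558
theorem F67964 : act 3 n30844 = n27851 := d11_2 (iv F57933) D30844 (iv D27851) F47931 D23889 (iv F56227) (iv F57936) (iv F67958) F67961 (iv D27852) (iv D23874) F36684 D19555 D23891 (iv F47981)
theorem F67965 : act 4 n30844 = n29819 := d12_2 (iv F57934) D30844 (iv D29819)
theorem F67966 : act 5 n30844 = n27977 := d13_2 (iv F57935) D30844 F59192
theorem F67967 : act 6 n29831 = n30844 := d24_0 F67966 F59190 D30760 F67681 (iv F64047) (iv F64998) (iv D29951) F54000 D26302 (iv F54219) F54216 (iv D26117) (iv F53636) (iv F64562)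
def n30845 : Q := act 6 n27558
theorem D30845 : act 6 n27558 = n30845 := rfl
theorem F67968 : act 1 n30845 = n29744 := d10_1 D30845 F64276 (iv D27555) (iv F46589) D27558
theorem F67969 : act 2 n30845 = n29831 := d14_1 D30845 F67967 (iv D30844)
theorem F67970 : act 3 n30845 = n27560 := d17_1 D30845 (iv D27560) (iv F57933)
theorem F67971 : act 4 n30845 = n29742 := d19_1 D30845 F64268 (iv F57934)
def n30846 : Q := act 1 n27563
theorem D30846 : act 1 n27563 = n30846 := rfl
theorem F67972 : act 3 n30846 = n28015 := d7_2 F59204 D30846 F59311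
theorem F67973 : act 4 n30846 = n27571 := d8_2 (iv F57948) D30846 (iv D27571)
theorem F67974 : act 5 n30846 = n28012 := d9_2 (iv F59202) D30846 (iv D28012) F48575 (iv F59199)
def n30847 : Q := act 2 n27564
theorem D30847 : act 2 n27564 = n30847 := rfl
theorem F67975 : act 4 n30847 = n27574 := d12_2 (iv F57950) D30847 (iv D27574)
theorem F67976 : act 6 n30847 = n27566 := d14_2 (iv F57951) D30847 (iv D27566)
def n30848 : Q := act 5 n27564
theorem D30848 : act 5 n27564 = n30848 := rfl
theorem F67977 : act 0 n30848 = n29829 := d4_1 D30848 F65590 F65586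
theorem F67978 : act 1 n30848 = n28863 := d9_1 D30848 F61859 (iv F61590) (iv D27565) D27564
theorem F67979 : act 3 n30848 = n27782 := d16_1 D30848 (iv D27782) (iv F57949)
theorem F67980 : act 4 n30848 = n27575 := d18_1 D30848 (iv D27575) (iv F57950)
theorem F67981 : act 6 n30848 = n29827 := d20_2 (iv F57951) D30848 F64551 (iv F65589) (iv F65590) (iv D29829) F53596
def n30849 : Q := act 0 n27569
theorem D30849 : act 0 n27569 = n30849 := rfl
theorem F67982 : act 1 n30849 = n30588 := d0_2 D27569 D30849 F67110 (iv F62183) (iv F64005) F64006 (iv D27573) (iv D23414) (iv F46607)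
theorem F67983 : act 3 n30849 = n27585 := d2_2 (iv F57968) D30849 (iv D27585)
theorem F67984 : act 4 n30849 = n28066 := d3_2 (iv F57969) D30849 F59466
theorem F67985 : act 6 n30849 = n28064 := d5_2 (iv F57970) D30849 F59459
def n30850 : Q := act 2 n27569
theorem D30850 : act 2 n27569 = n30850 := rfl
theorem F67986 : act 1 n30850 = n29669 := d6_1 D30850 (iv D29669) F57967 F57964 D27569
theorem F67987 : act 4 n30850 = n28797 := d12_2 (iv F57969) D30850 F61645
theorem F67988 : act 6 n30850 = n28785 := d14_2 (iv F57970) D30850 (iv D28785)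
def n30851 : Q := act 5 n27569
theorem D30851 : act 5 n27569 = n30851 := rfl
theorem F67989 : act 1 n30851 = n30764 := d9_1 D30851 (iv D30764) (iv D27442) (iv F46609) D27569
theorem F67990 : act 3 n30851 = n27587 := d16_1 D30851 (iv D27587) (iv F57968)
theorem F67991 : act 4 n30851 = n28798 := d18_1 D30851 (iv D28798) (iv F57969)
def n30852 : Q := act 2 n27571
theorem D30852 : act 2 n27571 = n30852 := rfl
theorem F67992 : act 0 n30852 = n30524 := d1_1 D30852 F66896 F63854
theorem F67993 : act 1 n30852 = n27574 := d6_1 D30852 (iv D27574) (iv D23414) (iv F46610) D27571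
theorem F67994 : act 6 n30852 = n30524 := d14_2 F63856 D30852 F66896
def n30853 : Q := act 2 n27573
theorem D30853 : act 2 n27573 = n30853 := rfl
theorem F67995 : act 0 n30853 = n27574 := d1_1 D30853 (iv D27574) D27573
theorem F67996 : act 1 n30853 = n30829 := d6_1 D30853 F67916 (iv F64040) F64041 F64006
theorem F67997 : act 6 n30853 = n27577 := d14_2 (iv F57979) D30853 (iv D27577)
def n30854 : Q := act 3 n27574
theorem D30854 : act 3 n27574 = n30854 := rfl
theorem F67998 : act 6 n30854 = n27579 := d17_2 (iv F57980) D30854 (iv D27579)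
theorem F67999 : act 4 n29267 = n30854 := d19_3 F67998 (iv F57990) D29267
def n30855 : Q := act 5 n27574
theorem D30855 : act 5 n27574 = n30855 := rfl
theorem F68000 : act 2 n30855 = n27575 := d13_1 D30855 (iv D27575) D27574
theorem F68001 : act 1 n28103 = n30855 := d6_5 F68000 (iv F57982) F53370 (iv F63206) (iv F63209)
def n30856 : Q := act 6 n27576
theorem D30856 : act 6 n27576 = n30856 := rfl
theorem F68002 : act 1 n30856 = n28621 := d10_1 D30856 (iv F61082) (iv D27438) (iv F46615) D27576
theorem F68003 : act 2 n30856 = n28619 := d14_1 D30856 (iv F63201) F63199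
theorem F68004 : act 3 n30856 = n27596 := d17_1 D30856 (iv D27596) (iv F57983)
theorem F68005 : act 5 n30856 = n29375 := d22_2 (iv F57984) D30856 (iv D29375) (iv F53369)
def n30857 : Q := act 5 n27577
theorem D30857 : act 5 n27577 = n30857 := rfl
theorem F68006 : act 0 n30857 = n27580 := d4_1 D30857 (iv D27580) (iv F57985)
theorem F68007 : act 1 n30857 = n30799 := d9_1 D30857 F67824 (iv F67817) (iv D28118) F58274
theorem F68008 : act 2 n30857 = n27578 := d13_1 D30857 (iv D27578) D27577
theorem F68009 : act 6 n30857 = n30855 := d22_1 D30857 (iv D30855) F57980 (iv F57985)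
def n30858 : Q := act 1 n27578
theorem D30858 : act 1 n27578 = n30858 := rfl
theorem F68010 : act 2 n30858 = n30800 := d6_2 F68008 D30858 (iv D30800) (iv F67823) (iv F68007)
theorem F68011 : act 3 n30858 = n27597 := d7_2 (iv F57987) D30858 (iv D27597)
theorem F68012 : act 4 n30858 = n30184 := d8_2 F64550 D30858 F65710
theorem F68013 : act 5 n30858 = n30180 := d9_2 D27578 D30858 (iv D30180) F54468 (iv F54436)
theorem F68014 : act 0 n30752 = n30858 := d4_3 F68013 (iv F65698) (iv F67655)
def n30859 : Q := act 5 n27579
theorem D30859 : act 5 n27579 = n30859 := rfl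
theorem F68015 : act 3 n30859 = n27580 := d16_1 D30859 (iv D27580) D27579
theorem F68016 : act 4 n30859 = n29266 := d18_1 D30859 (iv D29266) F57990
def n30860 : Q := act 6 n27580
theorem D30860 : act 6 n27580 = n30860 := rfl
theorem F68017 : act 0 n30860 = n30855 := d5_1 D30860 (iv F68009) F68006
theorem F68018 : act 2 n30860 = n27581 := d14_1 D30860 (iv D27581) (iv F57991)
theorem F68019 : act 5 n30860 = n30853 := d20_1 D30860 F67997 D30857 F68009 (iv D30855) F57980 D27580
def n30861 : Q := act 6 n27582
theorem D30861 : act 6 n27582 = n30861 := rfl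
theorem F68020 : act 0 n30861 = n27590 := d5_1 D30861 (iv D27590) (iv F57995)
theorem F68021 : act 1 n30861 = n30347 := d10_1 D30861 F66380 (iv D30368) F55700 (iv F57996)
theorem F68022 : act 2 n30861 = n30190 := d14_1 D30861 (iv D30190) (iv F57997)
theorem F68023 : act 3 n30861 = n27784 := d17_1 D30861 F58584 (iv F57998)
theorem F68024 : act 4 n30861 = n27583 := d19_1 D30861 (iv D27583) D27582
theorem F68025 : act 5 n30861 = n30733 := d20_1 D30861 (iv D30733) F57492 D27590 (iv F67560) (iv F67577) F67576
def n30862 : Q := act 1 n27583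
theorem D30862 : act 1 n27583 = n30862 := rfl
theorem F68026 : act 3 n30862 = n27584 := d7_2 (iv F58001) D30862 (iv D27584)
theorem F68027 : act 4 n30862 = n30347 := d8_2 F68024 D30862 (iv F68021)
theorem F68028 : act 6 n30862 = n30331 := d10_2 D27583 D30862 (iv D30331) (iv D26700) (iv F46621)
def n30863 : Q := act 3 n27586
theorem D30863 : act 3 n27586 = n30863 := rfl
theorem F68029 : act 0 n30863 = n30106 := d2_1 D30863 F65479 F60131
theorem F68030 : act 4 n30863 = n30109 := d15_2 (iv F58008) D30863 F65491 (iv D28274) F49466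
theorem F68031 : act 6 n30863 = n28892 := d17_2 (iv F58009) D30863 (iv D28892)
def n30864 : Q := act 6 n27588
theorem D30864 : act 6 n27588 = n30864 := rfl
theorem F68032 : act 0 n30864 = n30190 := d5_1 D30864 (iv D30190) (iv F58012)
theorem F68033 : act 2 n30864 = n27590 := d14_1 D30864 (iv D27590) (iv F58013)
theorem F68034 : act 3 n30864 = n28890 := d17_1 D30864 F61964 F60035
theorem F68035 : act 4 n30864 = n27589 := d19_1 D30864 (iv D27589) D27588
theorem F68036 : act 5 n30864 = n30751 := d22_2 F67582 D30864 F67652 (iv F67579)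
def n30865 : Q := act 5 n27591
theorem D30865 : act 5 n27591 = n30865 := rfl
theorem F68037 : act 2 n30865 = n30143 := d13_1 D30865 F65585 F62184
theorem F68038 : act 3 n30865 = n27594 := d16_1 D30865 (iv D27594) (iv F58018)
theorem F68039 : act 6 n30865 = n30140 := d22_1 D30865 (iv D30140) D30141 F65574
def n30866 : Q := act 1 n27594
theorem D30866 : act 1 n27594 = n30866 := rfl
theorem F68040 : act 0 n30866 = n30420 := d0_1 D30866 (iv D30420) F56004 D26923 (iv F57709) D30777 F67745 F64821 F58048
theorem F68041 : act 2 n30866 = n28837 := d6_2 (iv F58027) D30866 F61774 D29667 F64038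
theorem F68042 : act 4 n30866 = n27730 := d8_2 (iv F58028) D30866 F58367
theorem F68043 : act 5 n30866 = n27595 := d9_2 D27594 D30866 (iv D27595) (iv D23426) D23425
theorem F68044 : act 6 n30866 = n28914 := d10_2 F58043 D30866 F62042 (iv F62012) F62009
def n30867 : Q := act 6 n27601
theorem D30867 : act 6 n27601 = n30867 := rfl
theorem F68045 : act 0 n30867 = n30865 := d5_1 D30867 F68039 F65571
theorem F68046 : act 2 n30867 = n30145 := d14_1 D30867 F65594 F65014
theorem F68047 : act 3 n30867 = n27602 := d17_1 D30867 (iv D27602) (iv F58047)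
theorem F68048 : act 5 n30867 = n30141 := d20_1 D30867 (iv D30141) D30140 (iv F68039) (iv D30865) F58019 D27601
def n30868 : Q := act 5 n27603
theorem D30868 : act 5 n27603 = n30868 := rfl
theorem F68049 : act 1 n30868 = n27626 := d9_1 D30868 (iv D27626) F46688 (iv F46667) (iv F58052)
theorem F68050 : act 3 n30868 = n30134 := d16_1 D30868 (iv D30134) (iv F58053)
theorem F68051 : act 4 n30868 = n27604 := d18_1 D30868 (iv D27604) D27603
def n30869 : Q := act 6 n27603
theorem D30869 : act 6 n27603 = n30869 := rfl
theorem F68052 : act 0 n30869 = n30850 := d5_1 D30869 F67988 F61616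
theorem F68053 : act 2 n30869 = n30849 := d14_1 D30869 F67985 F59461
theorem F68054 : act 3 n30869 = n30135 := d17_1 D30869 (iv D30135) (iv F58053)
theorem F68055 : act 4 n30869 = n27605 := d19_1 D30869 (iv D27605) D27603
def n30870 : Q := act 6 n27604
theorem D30870 : act 6 n27604 = n30870 := rfl
theorem F68056 : act 1 n30870 = n30813 := d10_1 D30870 F67875 F62906 (iv D27628) (iv F58054)
theorem F68057 : act 2 n30870 = n28798 := d14_1 D30870 F61648 F59464
theorem F68058 : act 3 n30870 = n27991 := d17_1 D30870 (iv F59235) F58208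
theorem F68059 : act 5 n30870 = n28797 := d22_2 D27604 D30870 (iv D28797) F50580
def n30871 : Q := act 5 n27605
theorem D30871 : act 5 n27605 = n30871 := rfl
theorem F68060 : act 0 n30871 = n30870 := d4_1 D30871 F68059 F61644
theorem F68061 : act 2 n30871 = n27940 := d13_1 D30871 (iv F59469) F59467
theorem F68062 : act 6 n30871 = n28796 := d20_2 D27605 D30871 (iv D28796) D28797 (iv F68059) (iv D30870) (iv D27604)
def n30872 : Q := act 2 n27606
theorem D30872 : act 2 n27606 = n30872 := rfl
theorem F68063 : act 0 n30872 = n29014 := d1_1 D30872 (iv F67755) F67750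
theorem F68064 : act 1 n30872 = n30121 := d6_1 D30872 F65525 (iv F58269) (iv D27609) (iv F58055)
theorem F68065 : act 3 n30872 = n29015 := d11_2 D27606 D30872 F62333 (iv F67879) (iv D30814) (iv D27530) (iv F57739) D30779 F67755 F62330 F52031 (iv F62321) (iv F67612) (iv D30740) F57531
theorem F68066 : act 4 n30872 = n29618 := d12_2 (iv F58056) D30872 (iv D29618)
theorem F68067 : act 5 n29033 = n30872 := d16_0 F68065 F62334 (iv F62362)
theorem F68068 : act 6 n29171 = n30872 := d17_0 F68065 F62335 (iv F62669)
def n30873 : Q := act 5 n27606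
theorem D30873 : act 5 n27606 = n30873 := rfl
theorem F68069 : act 0 n30873 = n29034 := d4_1 D30873 (iv F67753) F67750
theorem F68070 : act 2 n30873 = n29033 := d13_1 D30873 F68067 (iv D30872)
theorem F68071 : act 3 n30873 = n27607 := d16_1 D30873 (iv D27607) D27606
theorem F68072 : act 4 n30873 = n29619 := d18_1 D30873 (iv D29619) (iv F58056)
theorem F68073 : act 1 n29856 = n30873 := d8_3 F68072 F67890 F67889
def n30874 : Q := act 6 n27606
theorem D30874 : act 6 n27606 = n30874 := rfl
theorem F68074 : act 0 n30874 = n29172 := d5_1 D30874 (iv F67754) F67750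
theorem F68075 : act 2 n30874 = n29171 := d14_1 D30874 F68068 (iv D30872)
theorem F68076 : act 3 n30874 = n27608 := d17_1 D30874 (iv D27608) D27606
theorem F68077 : act 4 n30874 = n29612 := d19_1 D30874 F63829 (iv F58056)
def n30875 : Q := act 4 n27609
theorem D30875 : act 4 n27609 = n30875 := rfl
theorem F68078 : act 0 n30875 = n27616 := d3_1 D30875 (iv D27616) (iv F58060)
theorem F68079 : act 1 n30875 = n30131 := d8_1 D30875 (iv D30131) (iv F58269)
theorem F68080 : act 2 n30875 = n27610 := d12_1 D30875 (iv D27610) D27609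
def n30876 : Q := act 5 n27609
theorem D30876 : act 5 n27609 = n30876 := rfl
theorem F68081 : act 0 n30876 = n27617 := d4_1 D30876 (iv D27617) (iv F58060)
theorem F68082 : act 2 n30876 = n27611 := d13_1 D30876 (iv D27611) D27609
def n30877 : Q := act 6 n27609
theorem D30877 : act 6 n27609 = n30877 := rfl
theorem F68083 : act 0 n30877 = n27618 := d5_1 D30877 (iv D27618) (iv F58060)
theorem F68084 : act 1 n30877 = n28102 := d10_1 D30877 (iv F59576) (iv F65559) (iv D30133) (iv F58269)
theorem F68085 : act 2 n30877 = n27612 := d14_1 D30877 (iv D27612) D27609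
def n30878 : Q := act 1 n27611
theorem D30878 : act 1 n27611 = n30878 := rfl
theorem F68086 : act 3 n30878 = n27613 := d7_2 (iv F58065) D30878 (iv D27613)
theorem F68087 : act 5 n30878 = n29856 := d9_2 D27611 D30878 F68073 (iv D30873) F58055
def n30879 : Q := act 1 n27612
theorem D30879 : act 1 n27612 = n30879 := rfl
theorem F68088 : act 3 n30879 = n27614 := d7_2 (iv F58067) D30879 (iv D27614)
theorem F68089 : act 5 n30879 = n30290 := d9_2 F58079 D30879 F66088 (iv F65287) F64823
theorem F68090 : act 0 n30293 = n30879 := d4_3 F68089 F66087 D30293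
def n30880 : Q := act 4 n27615
theorem D30880 : act 4 n27615 = n30880 := rfl
theorem F68091 : act 0 n30880 = n29206 := d3_1 D30880 (iv F65854) F65851
theorem F68092 : act 2 n30880 = n27644 := d12_1 D30880 (iv F59615) F59613
def n30881 : Q := act 5 n27615
theorem D30881 : act 5 n27615 = n30881 := rfl
theorem F68093 : act 3 n30881 = n27617 := d16_1 D30881 (iv D27617) D27615
def n30882 : Q := act 6 n27615
theorem D30882 : act 6 n27615 = n30882 := rfl
theorem F68094 : act 3 n30882 = n27618 := d17_1 D30882 (iv D27618) D27615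
def n30883 : Q := act 3 n27616
theorem D30883 : act 3 n27616 = n30883 := rfl
theorem F68095 : act 2 n30883 = n29322 := d21_2 (iv F58075) D30883 (iv D29322) (iv D25626) (iv F41616) (iv F47429) (iv F58063) F58061
def n30884 : Q := act 1 n27617
theorem D30884 : act 1 n27617 = n30884 := rfl
theorem F68096 : act 2 n30884 = n30840 := d6_2 (iv F58076) D30884 F67947 F65014 F58046
theorem F68097 : act 0 n30884 = n30531 := d23_3 D23444 (iv F58076) D30884 (iv F67204) (iv D30624) (iv D27241) (iv F46340) F46343 F37270 (iv F40937) F40936 D25370 F52057 D25372 D29033 F68067 (iv D30872) F58055 F46669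
def n30885 : Q := act 6 n27617
theorem D30885 : act 6 n27617 = n30885 := rfl
theorem F68098 : act 2 n30885 = n27619 := d14_1 D30885 (iv D27619) (iv F58076)
theorem F68099 : act 5 n30885 = n30877 := d22_2 D27617 D30885 (iv D30877) F58060
theorem F68100 : act 1 n30795 = n30885 := d24_14 (iv D30885) (iv D27617) (iv F46786) (iv F61398) (iv D27662) F46729 D27542 D30829 (iv F67996) F67997 D30857 F68007 (iv D30799) (iv F67813)
def n30886 : Q := act 1 n27618
theorem D30886 : act 1 n27618 = n30886 := rfl
theorem F68101 : act 0 n30886 = n30886 := d0_1 D30886 (iv D30886) (iv F68083) F68084 F59567 F48725 (iv F59567) (iv F68084) F68083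
theorem F68102 : act 2 n30886 = n30886 := d6_2 (iv F58077) D30886 (iv D30886) F58077 F46679
def n30887 : Q := act 5 n27618
theorem D30887 : act 5 n27618 = n30887 := rfl
theorem F68103 : act 0 n30887 = n30885 := d4_1 D30887 F68099 F68083
theorem F68104 : act 2 n30887 = n27620 := d13_1 D30887 (iv D27620) (iv F58077)
theorem F68105 : act 6 n30887 = n30876 := d20_2 D27618 D30887 (iv D30876) D30877 (iv F68099) (iv D30885) (iv D27617)
def n30888 : Q := act 0 n27621
theorem D30888 : act 0 n27621 = n30888 := rfl
theorem F68106 : act 1 n30888 = n30287 := d0_2 D27621 D30888 F66077 (iv F58485) F58484 (iv F58495) F58494 F53826 (iv F46684)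
theorem F68107 : act 4 n30888 = n27793 := d3_2 (iv F58083) D30888 (iv D27793)
theorem F68108 : act 5 n30888 = n30888 := d4_2 F58084 D30888 (iv D30888)
theorem F68109 : act 6 n30376 = n30888 := d24_0 F68108 F68106 (iv F67543) F67542 (iv D27584) (iv D23420) (iv F46355) F46353 D26694 F55316 (iv F65988) F65991 F57723 (iv F66406)
def n30889 : Q := act 2 n27621
theorem D30889 : act 2 n27621 = n30889 := rfl
theorem F68110 : act 1 n30889 = n28086 := d6_1 D30889 (iv F59526) (iv D27522) (iv F46685) D27621
theorem F68111 : act 4 n30889 = n27794 := d12_2 (iv F58083) D30889 (iv D27794)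
theorem F68112 : act 5 n30889 = n30889 := d13_2 F58084 D30889 (iv D30889)
theorem F68113 : act 3 n28084 = n30889 := d15_5 F68111 F58629 (iv F51878) F51880 (iv F59519)
def n30890 : Q := act 6 n27621
theorem D30890 : act 6 n27621 = n30890 := rfl
theorem F68114 : act 0 n30890 = n30376 := d5_1 D30890 F68109 (iv D30888)
theorem F68115 : act 1 n30890 = n29848 := d10_1 D30890 F64639 (iv D27613) (iv F46687) D27621
theorem F68116 : act 4 n30890 = n27795 := d19_1 D30890 (iv D27795) (iv F58083)
theorem F68117 : act 5 n30890 = n30376 := d22_2 F58084 D30890 F68109 (iv D30888)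
def n30891 : Q := act 4 n27622
theorem D30891 : act 4 n27622 = n30891 := rfl
theorem F68118 : act 0 n30891 = n29163 := d3_1 D30891 (iv D29163) (iv F58278)
theorem F68119 : act 1 n30891 = n27623 := d8_1 D30891 (iv D27623) D27622
theorem F68120 : act 3 n30891 = n30161 := d15_1 D30891 F65639 (iv F59667) F59668 F58242
def n30892 : Q := act 5 n27622
theorem D30892 : act 5 n27622 = n30892 := rfl
theorem F68121 : act 0 n30892 = n29164 := d4_1 D30892 (iv D29164) (iv F58278)
theorem F68122 : act 6 n30838 = n30892 := d24_0 (iv D30892) (iv D27622) D27625 (iv F58096) (iv F62906) (iv F67875) (iv D30813) F57874 (iv D23392) D23391 F46552 D27552 F57918 D30838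
theorem F68123 : act 1 n30892 = n30835 := d10_1 F68122 (iv D30835) (iv D27546) D27549 D30838
theorem F68124 : act 5 n29165 = n30838 := d22_2 (iv D29164) D29165 F68122 F68121
def n30893 : Q := act 6 n27622
theorem D30893 : act 6 n27622 = n30893 := rfl
theorem F68125 : act 0 n30893 = n29165 := d5_1 D30893 (iv D29165) (iv F58278)
def n30894 : Q := act 6 n27623
theorem D30894 : act 6 n27623 = n30894 := rfl
theorem F68126 : act 0 n30894 = n27627 := d5_1 D30894 (iv D27627) (iv F58085)
theorem F68127 : act 2 n30894 = n28002 := d14_1 D30894 F59282 (iv F58086)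
theorem F68128 : act 4 n30894 = n27625 := d19_1 D30894 (iv D27625) D27623
theorem F68129 : act 5 n30894 = n29900 := d20_1 D30894 F64827 (iv D27626) D27627 (iv F58095) D29910 (iv F64860)
def n30895 : Q := act 1 n27624
theorem D30895 : act 1 n27624 = n30895 := rfl
theorem F68130 : act 2 n30895 = n29868 := d6_2 (iv F58088) D30895 (iv D29868) (iv D26111) (iv F53709)
theorem F68131 : act 5 n30895 = n30835 := d9_2 D27624 D30895 (iv F68123) (iv D30892) (iv D27622)
theorem F68132 : act 6 n29113 = n30895 := d22_1 D29113 F68131 (iv D30835) F58178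
def n30896 : Q := act 1 n27625
theorem D30896 : act 1 n27625 = n30896 := rfl
theorem F68133 : act 5 n30896 = n28731 := d9_2 F58096 D30896 (iv D28731) D28732 F62906
theorem F68134 : act 2 n28737 = n30896 := d13_3 F68133 F61486 D28737
def n30897 : Q := act 3 n27631
theorem D30897 : act 3 n27631 = n30897 := rfl
theorem F68135 : act 0 n30897 = n30331 := d2_1 D30897 F66238 (iv F58103)
theorem F68136 : act 1 n30897 = n30897 := d7_1 D30897 (iv D30897) F58104
theorem F68137 : act 5 n30897 = n29902 := d16_2 F66079 D30897 F66080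
theorem F68138 : act 2 n30897 = n29904 := d21_2 D27631 D30897 F64835 F53854 (iv F53882) (iv F64108) F64109 F55098
def n30898 : Q := act 6 n27634
theorem D30898 : act 6 n27634 = n30898 := rfl
theorem F68139 : act 0 n30898 = n28061 := d5_1 D30898 (iv F62904) F62901
theorem F68140 : act 2 n30898 = n28060 := d14_1 D30898 (iv F62898) F62896
theorem F68141 : act 3 n30898 = n30812 := d17_1 D30898 (iv D30812) (iv F58116)
theorem F68142 : act 4 n30898 = n30210 := d19_1 D30898 (iv D30210) (iv F58117)
theorem F68143 : act 5 n30898 = n29263 := d20_1 D30898 (iv D29263) D29262 F62904 (iv F59448) (iv D27635) D27634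
def n30899 : Q := act 0 n27636
theorem D30899 : act 0 n27636 = n30899 := rfl
theorem F68144 : act 1 n30899 = n30822 := d0_2 D27636 D30899 F67904 (iv D29261) F52490 (iv D23457) F34014 D18990 D23458
theorem F68145 : act 3 n30899 = n29750 := d2_2 (iv F58121) D30899 (iv D29750)
theorem F68146 : act 4 n30899 = n27660 := d3_2 (iv F58122) D30899 F58166
theorem F68147 : act 2 n30899 = n27636 := d21_0 F58121 F53468 F41837 F41378 (iv F41837) (iv F53468) (iv F58121) D30899
def n30900 : Q := act 5 n27636
theorem D30900 : act 5 n27636 = n30900 := rfl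
theorem F68148 : act 3 n30900 = n29752 := d16_1 D30900 (iv D29752) (iv F58121)
theorem F68149 : act 4 n30900 = n30211 := d18_1 D30900 (iv D30211) (iv F58122)
theorem F68150 : act 6 n27676 = n30900 := d19_0 F68149 F65817 (iv F58214)
def n30901 : Q := act 6 n27636
theorem D30901 : act 6 n27636 = n30901 := rfl
theorem F68151 : act 3 n30901 = n29753 := d17_1 D30901 (iv D29753) (iv F58121)
theorem F68152 : act 4 n30901 = n30212 := d19_1 D30901 (iv D30212) (iv F58122)
def n30902 : Q := act 1 n27637
theorem D30902 : act 1 n27637 = n30902 := rfl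
theorem F68153 : act 0 n30902 = n29226 := d0_1 D30902 F62804 (iv F52439) (iv F61415) F58252 F62905 F62901 F58115 (iv F58123)
theorem F68154 : act 3 n30902 = n29757 := d7_2 (iv F58124) D30902 (iv D29757)
theorem F68155 : act 4 n30902 = n30215 := d8_2 (iv F58125) D30902 (iv D30215)
theorem F68156 : act 6 n30902 = n29256 := d10_2 F61406 D30902 (iv D29256) (iv D25563) D25560
theorem F68157 : act 2 n29225 = n30902 := d14_3 F68156 (iv F62968) F62969
def n30903 : Q := act 1 n27638
theorem D30903 : act 1 n27638 = n30903 := rfl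
theorem F68158 : act 3 n30903 = n29758 := d7_2 (iv F58127) D30903 (iv D29758)
theorem F68159 : act 4 n30903 = n30216 := d8_2 (iv F58128) D30903 (iv D30216)
def n30904 : Q := act 5 n27639
theorem D30904 : act 5 n27639 = n30904 := rfl
theorem F68160 : act 0 n30904 = n29755 := d4_1 D30904 (iv D29755) (iv F58129)
theorem F68161 : act 1 n30904 = n30810 := d9_1 D30904 (iv D30810) F57872 (iv F46718) (iv F58130)
theorem F68162 : act 2 n30904 = n29747 := d13_1 D30904 (iv D29747) (iv F58131)
theorem F68163 : act 3 n30904 = n30220 := d16_1 D30904 (iv D30220) (iv F58132)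
theorem F68164 : act 4 n30904 = n27640 := d18_1 D30904 (iv D27640) D27639
def n30905 : Q := act 6 n27639
theorem D30905 : act 6 n27639 = n30905 := rfl
theorem F68165 : act 0 n30905 = n29756 := d5_1 D30905 (iv D29756) (iv F58129)
theorem F68166 : act 1 n30905 = n27665 := d10_1 D30905 (iv D27665) F46730 (iv F46719) (iv F58130)
theorem F68167 : act 2 n30905 = n29748 := d14_1 D30905 (iv D29748) (iv F58131)
theorem F68168 : act 3 n30905 = n30221 := d17_1 D30905 (iv D30221) (iv F58132)
theorem F68169 : act 4 n30905 = n27641 := d19_1 D30905 (iv D27641) D27639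
def n30906 : Q := act 1 n27642
theorem D30906 : act 1 n27642 = n30906 := rfl
theorem F68170 : act 2 n30906 = n29248 := d6_2 F58249 D30906 F62869 (iv F62902) (iv F62905)
theorem F68171 : act 4 n30906 = n30224 := d8_2 (iv F58141) D30906 (iv D30224)
theorem F68172 : act 5 n29246 = n30906 := d24_1 (iv F62974) (iv D30906) (iv D27642) (iv D23460) (iv D18990) F24246 F19380 D13807 D18996 (iv F61392) F58271 D21321 D25592 D29283
def n30907 : Q := act 5 n27644
theorem D30907 : act 5 n27644 = n30907 := rfl
theorem F68173 : act 0 n30907 = n29211 := d4_1 D30907 (iv D29211) F58175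
theorem F68174 : act 3 n30907 = n30834 := d16_1 D30907 (iv D30834) (iv F58146)
def n30908 : Q := act 6 n27644
theorem D30908 : act 6 n27644 = n30908 := rfl
theorem F68175 : act 0 n30908 = n29212 := d5_1 D30908 (iv D29212) F58175
theorem F68176 : act 3 n30908 = n30835 := d17_1 D30908 (iv D30835) (iv F58146)
def n30909 : Q := act 1 n27645
theorem D30909 : act 1 n27645 = n30909 := rfl
theorem F68177 : act 3 n30909 = n30837 := d7_2 (iv F58148) D30909 (iv D30837)
theorem F68178 : act 6 n30909 = n29206 := d10_2 F58155 D30909 (iv D29206) D29208 (iv F62755)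
theorem F68179 : act 2 n29212 = n30909 := d14_3 F68178 F62746 D29212
def n30910 : Q := act 1 n27646
theorem D30910 : act 1 n27646 = n30910 := rfl
theorem F68180 : act 3 n30910 = n30838 := d7_2 (iv F58150) D30910 (iv D30838)
theorem F68181 : act 5 n30910 = n29267 := d9_2 F58152 D30910 F62925 (iv D29188) (iv F61413)
def n30911 : Q := act 4 n27654
theorem D30911 : act 4 n27654 = n30911 := rfl
theorem F68182 : act 0 n30911 = n27661 := d3_1 D30911 (iv D27661) (iv F58158)
theorem F68183 : act 1 n30911 = n29754 := d8_1 D30911 F64301 F58168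
theorem F68184 : act 2 n30911 = n27655 := d12_1 D30911 (iv D27655) D27654
theorem F68185 : act 3 n30911 = n29751 := d15_1 D30911 (iv D29751) (iv F58121) F58122 (iv F58167)
def n30912 : Q := act 5 n27654
theorem D30912 : act 5 n27654 = n30912 := rfl
theorem F68186 : act 0 n30912 = n27662 := d4_1 D30912 (iv D27662) (iv F58158)
theorem F68187 : act 2 n30912 = n27656 := d13_1 D30912 (iv D27656) D27654
theorem F68188 : act 3 n30912 = n30211 := d16_1 D30912 (iv D30211) (iv F58167)
theorem F68189 : act 6 n30912 = n27694 := d20_2 (iv F61424) D30912 (iv F61416) (iv D27663) D27662 F61398 D27702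
def n30913 : Q := act 5 n27655
theorem D30913 : act 5 n27655 = n30913 := rfl
theorem F68190 : act 0 n30913 = n27664 := d4_1 D30913 (iv D27664) (iv F58159)
theorem F68191 : act 4 n30913 = n27656 := d18_1 D30913 (iv D27656) D27655
theorem F68192 : act 6 n30913 = n27695 := d20_2 (iv F61422) D30913 (iv F61417) (iv D27665) D27664 F61397 D27704
def n30914 : Q := act 1 n27656
theorem D30914 : act 1 n27656 = n30914 := rfl
theorem F68193 : act 3 n30914 = n27658 := d7_2 (iv F58161) D30914 (iv D27658)
theorem F68194 : act 5 n30914 = n29221 := d9_2 D27656 D30914 (iv D29221) (iv D25530) (iv F58170)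
theorem F68195 : act 6 n30914 = n29276 := d10_2 F61401 D30914 (iv D29276) (iv D25588) (iv F58270)
def n30915 : Q := act 0 n27658
theorem D30915 : act 0 n27658 = n30915 := rfl
theorem F68196 : act 5 n30915 = n29225 := d4_2 F58176 D30915 (iv D29225)
theorem F68197 : act 6 n30915 = n29280 := d5_2 (iv F61396) D30915 (iv D29280)
def n30916 : Q := act 2 n27658
theorem D30916 : act 2 n27658 = n30916 := rfl
theorem F68198 : act 1 n30916 = n30916 := d6_1 D30916 (iv D30916) (iv D27658) F46726 D27658
theorem F68199 : act 5 n30916 = n29226 := d13_2 F58176 D30916 (iv D29226)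
theorem F68200 : act 6 n30916 = n29281 := d14_2 (iv F61396) D30916 (iv D29281)
def n30917 : Q := act 5 n27660
theorem D30917 : act 5 n27660 = n30917 := rfl
theorem F68201 : act 0 n30917 = n30211 := d4_1 D30917 (iv D30211) (iv F58166)
theorem F68202 : act 2 n30917 = n30211 := d13_1 D30917 (iv D30211) (iv F58165)
theorem F68203 : act 3 n30917 = n27662 := d16_1 D30917 (iv D27662) D27660
theorem F68204 : act 6 n30917 = n27700 := d20_2 F65872 D30917 F65816 (iv D30212) D30211 F65817 D30230
def n30918 : Q := act 3 n27661
theorem D30918 : act 3 n27661 = n30918 := rfl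
theorem F68205 : act 0 n30918 = n29751 := d2_1 D30918 (iv F68185) F68182
theorem F68206 : act 1 n30918 = n30825 := d7_1 D30918 (iv D30825) (iv F58180)
theorem F68207 : act 2 n30918 = n29765 := d11_1 D30918 F64382 (iv D29421) (iv F53495) (iv F59638) F59639 (iv F68184) F68185 F64297 D29768 F64387 F63309 F59649 F48770 (iv F58181)
theorem F68208 : act 4 n30918 = n29750 := d15_2 D27661 D30918 (iv F68145) F68146 (iv D27660)
theorem F68209 : act 6 n29807 = n30918 := d19_0 F68208 (iv F65035) F65034
def n30919 : Q := act 5 n27661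
theorem D30919 : act 5 n27661 = n30919 := rfl
theorem F68210 : act 2 n30919 = n27664 := d13_1 D30919 (iv D27664) (iv F58181)
theorem F68211 : act 4 n30919 = n27662 := d18_1 D30919 (iv D27662) D27661
theorem F68212 : act 6 n27701 = n30919 := d19_0 F68211 F61398 D27701
def n30920 : Q := act 6 n27661
theorem D30920 : act 6 n27661 = n30920 := rfl
theorem F68213 : act 2 n30920 = n27665 := d14_1 D30920 (iv D27665) (iv F58181)
theorem F68214 : act 3 n30920 = n29807 := d17_1 D30920 F68209 (iv D30918)
theorem F68215 : act 4 n30920 = n27663 := d19_1 D30920 (iv D27663) D27661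
theorem F68216 : act 1 n29813 = n30920 := d7_3 F68214 F64484 D29813
def n30921 : Q := act 1 n27662
theorem D30921 : act 1 n27662 = n30921 := rfl
theorem F68217 : act 2 n30921 = n30921 := d6_2 (iv F58182) D30921 (iv D30921) F58182 F46731
theorem F68218 : act 5 n30921 = n30826 := d9_2 D27662 D30921 (iv D30826) (iv D27541) (iv F46729)
theorem F68219 : act 6 n30921 = n30886 := d10_2 (iv F61398) D30921 (iv D30886) (iv D27618) (iv F46786)
theorem F68220 : act 0 n30921 = n30921 := d23_3 D23472 (iv F58182) D30921 F68218 F67910 (iv D30826) (iv F67894) (iv D30818) (iv D27533) (iv F57875) (iv F67607) F67610 (iv D29121) (iv D25445) (iv F52221) (iv D25439) (iv F41150) (iv F58170) F46724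
def n30922 : Q := act 1 n27663
theorem D30922 : act 1 n27663 = n30922 := rfl
theorem F68221 : act 2 n30922 = n29749 := d6_2 (iv F58183) D30922 (iv D29749) (iv F58139) F58138
theorem F68222 : act 4 n30922 = n29813 := d8_2 F68215 D30922 F68216
theorem F68223 : act 6 n30922 = n30828 := d10_2 D27663 D30922 (iv D30828) (iv D27542) (iv F46729)
theorem F68224 : act 0 n30613 = n30922 := d5_3 F68223 (iv F67914) (iv F67169)
def n30923 : Q := act 3 n27671
theorem D30923 : act 3 n27671 = n30923 := rfl
theorem F68225 : act 0 n30923 = n30368 := d2_1 D30923 F66378 (iv F58195)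
theorem F68226 : act 1 n30923 = n30923 := d7_1 D30923 (iv D30923) F58196
theorem F68227 : act 4 n30923 = n30897 := d15_2 (iv F58197) D30923 (iv D30897) F58105 (iv F55402)
theorem F68228 : act 6 n30923 = n29672 := d17_2 F66302 D30923 F66303
theorem F68229 : act 2 n30923 = n29675 := d21_2 D27671 D30923 F64060 F53268 (iv F53292) (iv F64104) F64105 F55574
def n30924 : Q := act 5 n27675
theorem D30924 : act 5 n27675 = n30924 := rfl
theorem F68230 : act 0 n30924 = n27991 := d4_1 D30924 (iv F62754) F62751
theorem F68231 : act 2 n30924 = n27990 := d13_1 D30924 (iv F62745) F62743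
theorem F68232 : act 3 n30924 = n30871 := d16_1 D30924 (iv D30871) (iv F58211)
theorem F68233 : act 4 n30924 = n30229 := d18_1 D30924 (iv D30229) (iv F58212)
theorem F68234 : act 6 n30924 = n29207 := d20_2 D27675 D30924 (iv D29207) D29208 F62754 (iv F59235) (iv D27674)
def n30925 : Q := act 0 n27676
theorem D30925 : act 0 n27676 = n30925 := rfl
theorem F68235 : act 1 n30925 = n30880 := d0_2 D27676 D30925 F68091 (iv D29206) F52357 (iv D23481) F34059 D19010 D23482
theorem F68236 : act 3 n30925 = n29959 := d2_2 (iv F58213) D30925 (iv D29959)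
theorem F68237 : act 4 n30925 = n27700 := d3_2 (iv F58214) D30925 F58266
theorem F68238 : act 2 n30925 = n27676 := d21_0 F58213 F54059 F42186 F41520 (iv F42186) (iv F54059) (iv F58213) D30925
theorem F68239 : act 5 n30925 = n30901 := d22_0 (iv D30901) D30900 (iv F68150) D30925
def n30926 : Q := act 5 n27676
theorem D30926 : act 5 n27676 = n30926 := rfl
theorem F68240 : act 0 n30926 = n30901 := d4_1 D30926 (iv F68239) (iv D30925)
theorem F68241 : act 2 n30926 = n30901 := d13_1 D30926 (iv F68239) F68238
theorem F68242 : act 3 n30926 = n29961 := d16_1 D30926 (iv D29961) (iv F58213)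
theorem F68243 : act 4 n30926 = n30230 := d18_1 D30926 (iv D30230) (iv F58214)
theorem F68244 : act 6 n30926 = n30899 := d22_3 D30900 (iv F68150) D30926 (iv D30899)
def n30927 : Q := act 1 n27677
theorem D30927 : act 1 n27677 = n30927 := rfl
theorem F68245 : act 3 n30927 = n29965 := d7_2 (iv F58217) D30927 (iv D29965)
theorem F68246 : act 4 n30927 = n30233 := d8_2 (iv F58218) D30927 (iv D30233)
def n30928 : Q := act 1 n27678
theorem D30928 : act 1 n27678 = n30928 := rfl
theorem F68247 : act 0 n30928 = n29281 := d0_1 D30928 F62965 F52544 (iv F61413) (iv F58153) F62755 F62751 F58210 (iv F58219)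
theorem F68248 : act 3 n30928 = n29967 := d7_2 (iv F58221) D30928 (iv D29967)
theorem F68249 : act 4 n30928 = n30234 := d8_2 (iv F58222) D30928 (iv D30234)
theorem F68250 : act 5 n30928 = n29201 := d9_2 F61410 D30928 (iv D29201) (iv D25505) D25502
theorem F68251 : act 2 n29280 = n30928 := d13_3 F68250 (iv F62806) (iv F62964)
def n30929 : Q := act 5 n27679
theorem D30929 : act 5 n27679 = n30929 := rfl
theorem F68252 : act 0 n30929 = n29963 := d4_1 D30929 (iv D29963) (iv F58223)
theorem F68253 : act 1 n30929 = n27704 := d9_1 D30929 (iv D27704) F46787 (iv F46772) (iv F58224)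
theorem F68254 : act 2 n30929 = n29956 := d13_1 D30929 (iv D29956) (iv F58225)
theorem F68255 : act 3 n30929 = n30238 := d16_1 D30929 (iv D30238) (iv F58226)
theorem F68256 : act 4 n30929 = n27680 := d18_1 D30929 (iv D27680) D27679
def n30930 : Q := act 6 n27679
theorem D30930 : act 6 n27679 = n30930 := rfl
theorem F68257 : act 0 n30930 = n29964 := d5_1 D30930 (iv D29964) (iv F58223)
theorem F68258 : act 1 n30930 = n30869 := d10_1 D30930 (iv D30869) F58052 (iv F46773) (iv F58224)
theorem F68259 : act 2 n30930 = n29957 := d14_1 D30930 (iv D29957) (iv F58225)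
theorem F68260 : act 3 n30930 = n30239 := d17_1 D30930 (iv D30239) (iv F58226)
theorem F68261 : act 4 n30930 = n27681 := d19_1 D30930 (iv D27681) D27679
def n30931 : Q := act 1 n27683
theorem D30931 : act 1 n27683 = n30931 := rfl
theorem F68262 : act 2 n30931 = n29194 := d6_2 (iv F58239) D30931 F62718 (iv F62752) (iv F62755)
theorem F68263 : act 4 n30931 = n30242 := d8_2 (iv F58240) D30931 (iv D30242)
theorem F68264 : act 6 n30931 = n29191 := d24_3 D23485 D27683 D30931 F62810 (iv D29228) (iv D25534) (iv D21282) (iv F58171) (iv F61385) (iv D19015) (iv D13821) F19398 (iv F24281) D19010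
def n30932 : Q := act 5 n27684
theorem D30932 : act 5 n27684 = n30932 := rfl
theorem F68265 : act 0 n30932 = n29266 := d4_1 D30932 (iv D29266) F58275
theorem F68266 : act 3 n30932 = n30892 := d16_1 D30932 (iv D30892) (iv F58242)
theorem F68267 : act 6 n30932 = n30910 := d22_1 D30932 F68181 (iv D29267) F58275
theorem F68268 : act 1 n30908 = n30932 := d10_5 F68267 (iv D30910) (iv D27646) D27644 D30908
def n30933 : Q := act 6 n27684
theorem D30933 : act 6 n27684 = n30933 := rfl
theorem F68269 : act 0 n30933 = n29267 := d5_1 D30933 (iv D29267) F58275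
theorem F68270 : act 3 n30933 = n30893 := d17_1 D30933 (iv D30893) (iv F58242)
def n30934 : Q := act 1 n27685
theorem D30934 : act 1 n27685 = n30934 := rfl
theorem F68271 : act 3 n30934 = n30895 := d7_2 (iv F58245) D30934 (iv D30895)
theorem F68272 : act 5 n30934 = n30908 := d9_2 D27685 D30934 F68268 (iv D30932) (iv D27684)
theorem F68273 : act 6 n30934 = n29211 := d10_2 F58255 D30934 F62858 (iv D29243) (iv F61415)
def n30935 : Q := act 1 n27686
theorem D30935 : act 1 n27686 = n30935 := rfl
theorem F68274 : act 3 n30935 = n30896 := d7_2 (iv F58248) D30935 (iv D30896)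
theorem F68275 : act 5 n30935 = n29261 := d9_2 F58251 D30935 (iv D29261) D29262 (iv F62905)
theorem F68276 : act 2 n29266 = n30935 := d23_1 D29266 (iv D30935) F58246 D27688 (iv F61403) (iv D25560) (iv F52459) F52460 (iv D21314) (iv F41222) (iv F52482) D29260 F62896 F58115 (iv F58123) (iv D27637) (iv F46774) D27684 (iv F58275)
def n30936 : Q := act 4 n27694
theorem D30936 : act 4 n27694 = n30936 := rfl
theorem F68277 : act 0 n30936 = n27701 := d3_1 D30936 (iv D27701) (iv F58258)
theorem F68278 : act 1 n30936 = n29962 := d8_1 D30936 F65038 F58268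
theorem F68279 : act 2 n30936 = n27695 := d12_1 D30936 (iv D27695) D27694
theorem F68280 : act 3 n30936 = n29960 := d15_1 D30936 (iv D29960) (iv F58213) F58214 (iv F58267)
theorem F68281 : act 5 n30936 = n30920 := d18_2 F61416 D30936 F68215
def n30937 : Q := act 3 n27701
theorem D30937 : act 3 n27701 = n30937 := rfl
theorem F68282 : act 0 n30937 = n29960 := d2_1 D30937 (iv F68280) F68277
theorem F68283 : act 1 n30937 = n30883 := d7_1 D30937 (iv D30883) (iv F58280)
theorem F68284 : act 2 n30937 = n29973 := d11_1 D30937 (iv F65075) (iv D29561) (iv F54086) (iv F59691) F59692 (iv F68279) F68280 F65030 D29974 (iv F65080) F63656 F59702 F48801 (iv F58281)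
theorem F68285 : act 4 n30937 = n29959 := d15_2 D27701 D30937 (iv F68236) F68237 (iv D27700)
theorem F68286 : act 5 n30007 = n30937 := d18_0 F68285 F65028 (iv F65184)
def n30938 : Q := act 5 n27701
theorem D30938 : act 5 n27701 = n30938 := rfl
theorem F68287 : act 0 n30938 = n30920 := d4_1 D30938 (iv F68281) F68277
theorem F68288 : act 2 n30938 = n27704 := d13_1 D30938 (iv D27704) (iv F58281)
theorem F68289 : act 3 n30938 = n30007 := d16_1 D30938 F68286 (iv D30937)
theorem F68290 : act 4 n30938 = n27702 := d18_1 D30938 (iv D27702) D27701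
theorem F68291 : act 6 n30938 = n30911 := d22_3 D30919 (iv F68212) D30938 F68182
theorem F68292 : act 1 n30013 = n30938 := d7_3 F68289 F65183 D30013
def n30939 : Q := act 1 n27702
theorem D30939 : act 1 n27702 = n30939 := rfl
theorem F68293 : act 0 n30939 = n30624 := d0_1 D30939 F67202 (iv F68006) F68007 F67822 (iv F67167) F68224 (iv D30922) (iv F61423)
theorem F68294 : act 2 n30939 = n29958 := d6_2 (iv F58282) D30939 (iv D29958) (iv F58229) F58228
theorem F68295 : act 4 n30939 = n30013 := d8_2 F68290 D30939 F68292
theorem F68296 : act 5 n30939 = n30884 := d9_2 D27702 D30939 (iv D30884) (iv D27617) (iv F46786)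
def n30940 : Q := act 2 n27758
theorem D30940 : act 2 n27758 = n30940 := rfl
theorem F68297 : act 5 n30940 = n28669 := d13_2 (iv F58483) D30940 (iv D28669)
def n30941 : Q := act 5 n27769
theorem D30941 : act 5 n27769 = n30941 := rfl
theorem F68298 : act 0 n30941 = n30395 := d4_1 D30941 F66454 F66270
theorem F68299 : act 1 n30941 = n28938 := d9_1 D30941 (iv D28938) F51764 D25250 (iv F58529)
theorem F68300 : act 2 n30941 = n27770 := d13_1 D30941 (iv D27770) D27769
theorem F68301 : act 3 n30941 = n28939 := d16_1 D30941 F62129 (iv F58531)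
theorem F68302 : act 6 n30941 = n30395 := d22_1 D30941 F66454 F66273 F66270
def n30942 : Q := act 1 n27773
theorem D30942 : act 1 n27773 = n30942 := rfl
theorem F68303 : act 4 n30942 = n27774 := d8_2 (iv F58541) D30942 (iv D27774)
def n30943 : Q := act 5 n27774
theorem D30943 : act 5 n27774 = n30943 := rfl
theorem F68304 : act 0 n30943 = n28196 := d4_1 D30943 F59834 F59718
theorem F68305 : act 1 n30943 = n28940 := d9_1 D30943 (iv D28940) (iv D25254) (iv F47294) D27774
theorem F68306 : act 2 n30943 = n28195 := d13_1 D30943 F59832 F58643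
theorem F68307 : act 3 n30943 = n28211 := d16_1 D30943 F59882 (iv F58543)
theorem F68308 : act 6 n30943 = n28210 := d20_2 F59872 D30943 (iv D28210) (iv F59720) (iv F59834) (iv F61901) F61900
def n30944 : Q := act 2 n27783
theorem D30944 : act 2 n27783 = n30944 := rfl
theorem F68309 : act 6 n30944 = n28612 := d14_2 (iv F58579) D30944 (iv D28612)
def n30945 : Q := act 6 n27794
theorem D30945 : act 6 n27794 = n30945 := rfl
theorem F68310 : act 0 n30945 = n30375 := d5_1 D30945 F66404 F66035
theorem F68311 : act 1 n30945 = n28929 := d10_1 D30945 (iv D28929) F51601 D25202 (iv F58627)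
theorem F68312 : act 2 n30945 = n27795 := d14_1 D30945 (iv D27795) D27794
theorem F68313 : act 3 n30945 = n28930 := d17_1 D30945 F62098 (iv F58629)
theorem F68314 : act 5 n30945 = n30375 := d22_2 F58628 D30945 F66404 F66035
def n30946 : Q := act 1 n27798
theorem D30946 : act 1 n27798 = n30946 := rfl
theorem F68315 : act 2 n30946 = n30942 := d6_2 (iv F58640) D30946 (iv D30942) F58540 (iv F56449)
theorem F68316 : act 4 n30946 = n27799 := d8_2 (iv F58641) D30946 (iv D27799)
def n30947 : Q := act 6 n27799
theorem D30947 : act 6 n27799 = n30947 := rfl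
theorem F68317 : act 0 n30947 = n28208 := d5_1 D30947 F59874 F59721
theorem F68318 : act 1 n30947 = n28931 := d10_1 D30947 (iv D28931) (iv D25206) (iv F47443) D27799
theorem F68319 : act 2 n30947 = n28207 := d14_1 D30947 F59872 (iv F58643)
theorem F68320 : act 3 n30947 = n28199 := d17_1 D30947 F59842 (iv F58644)
theorem F68321 : act 5 n30947 = n28198 := d20_1 D30947 (iv D28198) (iv F59724) (iv F59874) (iv F61919) F61920 F59832
def n30948 : Q := act 4 n27800
theorem D30948 : act 4 n27800 = n30948 := rfl
theorem F68322 : act 0 n30948 = n27802 := d3_1 D30948 (iv D27802) (iv F58645)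
theorem F68323 : act 2 n30948 = n27801 := d12_1 D30948 (iv D27801) D27800
theorem F68324 : act 3 n30948 = n28517 := d15_1 D30948 F60813 (iv F55955) F55956 (iv F58646)
theorem F68325 : act 5 n30948 = n27801 := d18_2 F58648 D30948 (iv D27801)
theorem F68326 : act 6 n30948 = n28923 := d19_2 (iv F58647) D30948 (iv D28923)
def n30949 : Q := act 4 n27804
theorem D30949 : act 4 n27804 = n30949 := rfl
theorem F68327 : act 0 n30949 = n27805 := d3_1 D30949 (iv D27805) (iv F58661)
theorem F68328 : act 1 n30949 = n29886 := d8_1 D30949 F64770 (iv F58662)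
theorem F68329 : act 2 n30949 = n30257 := d12_1 D30949 F65960 (iv F58663)
theorem F68330 : act 6 n30949 = n30259 := d19_2 (iv F58664) D30949 F65967
def n30950 : Q := act 4 n27809
theorem D30950 : act 4 n27809 = n30950 := rfl
theorem F68331 : act 0 n30950 = n27811 := d3_1 D30950 (iv D27811) (iv F58680)
theorem F68332 : act 2 n30950 = n27810 := d12_1 D30950 (iv D27810) D27809
theorem F68333 : act 3 n30950 = n28465 := d15_1 D30950 F60657 (iv F56032) F56033 (iv F58681)
theorem F68334 : act 5 n30950 = n28934 := d18_2 (iv F58682) D30950 (iv D28934)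
theorem F68335 : act 6 n30950 = n27810 := d19_2 F58683 D30950 (iv D27810)
def n30951 : Q := act 4 n27813
theorem D30951 : act 4 n27813 = n30951 := rfl
theorem F68336 : act 0 n30951 = n27814 := d3_1 D30951 (iv D27814) (iv F58696)
theorem F68337 : act 1 n30951 = n29654 := d8_1 D30951 F63982 (iv F58697)
theorem F68338 : act 2 n30951 = n30270 := d12_1 D30951 F66008 (iv F58698)
theorem F68339 : act 5 n30951 = n30272 := d18_2 (iv F58699) D30951 F66014
def n30952 : Q := act 5 n27828
theorem D30952 : act 5 n27828 = n30952 := rfl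
theorem F68340 : act 0 n30952 = n27831 := d4_1 D30952 (iv D27831) (iv F58757)
theorem F68341 : act 2 n30952 = n27829 := d13_1 D30952 (iv D27829) D27828
theorem F68342 : act 3 n30952 = n30019 := d16_1 D30952 (iv D30019) (iv F58760)
theorem F68343 : act 4 n30952 = n27836 := d18_1 D30952 (iv D27836) (iv F58758)
theorem F68344 : act 6 n30952 = n27831 := d22_1 D30952 (iv D27831) F47839 (iv F58757)
theorem F68345 : act 1 n29946 = n30952 := d8_3 F68343 F58791 (iv F64976)
def n30953 : Q := act 5 n27830
theorem D30953 : act 5 n27830 = n30953 := rfl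
theorem F68346 : act 0 n30953 = n30019 := d4_1 D30953 (iv D30019) (iv F58765)
theorem F68347 : act 1 n30953 = n30513 := d9_1 D30953 F66861 F58855 (iv D27856) (iv F58766)
theorem F68348 : act 2 n30953 = n29664 := d13_1 D30953 F64026 (iv F58767)
theorem F68349 : act 3 n30953 = n27831 := d16_1 D30953 (iv D27831) D27830
theorem F68350 : act 4 n30953 = n30561 := d18_1 D30953 F67031 (iv F58768)
theorem F68351 : act 6 n30953 = n30019 := d22_1 D30953 (iv D30019) F54174 (iv F58765)
def n30954 : Q := act 6 n27832
theorem D30954 : act 6 n27832 = n30954 := rfl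
theorem F68352 : act 0 n30954 = n27835 := d5_1 D30954 (iv D27835) (iv F58772)
theorem F68353 : act 2 n30954 = n27833 := d14_1 D30954 (iv D27833) D27832
theorem F68354 : act 3 n30954 = n30113 := d17_1 D30954 (iv D30113) (iv F58775)
theorem F68355 : act 4 n30954 = n27838 := d19_1 D30954 (iv D27838) (iv F58773)
theorem F68356 : act 5 n30954 = n27835 := d22_2 F58774 D30954 (iv D27835) (iv F58772)
theorem F68357 : act 1 n29728 = n30954 := d8_3 F68355 (iv F58797) (iv F64211)
def n30955 : Q := act 6 n27834
theorem D30955 : act 6 n27834 = n30955 := rfl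
theorem F68358 : act 0 n30955 = n30113 := d5_1 D30955 (iv D30113) (iv F58781)
theorem F68359 : act 1 n30955 = n30508 := d10_1 D30955 F66846 F58869 (iv D27860) (iv F58782)
theorem F68360 : act 2 n30955 = n29895 := d14_1 D30955 F64810 (iv F58783)
theorem F68361 : act 3 n30955 = n27835 := d17_1 D30955 (iv D27835) D27834
theorem F68362 : act 4 n30955 = n30559 := d19_1 D30955 F67022 (iv F58784)
theorem F68363 : act 5 n30955 = n30113 := d22_2 F58785 D30955 (iv D30113) (iv F58781)
def n30956 : Q := act 6 n27842
theorem D30956 : act 6 n27842 = n30956 := rfl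
theorem F68364 : act 0 n30956 = n28575 := d5_1 D30956 (iv D28575) (iv F58808)
theorem F68365 : act 2 n30956 = n27843 := d14_1 D30956 (iv D27843) D27842
theorem F68366 : act 4 n30956 = n28573 := d19_1 D30956 (iv D28573) (iv F58809)
def n30957 : Q := act 5 n27844
theorem D30957 : act 5 n27844 = n30957 := rfl
theorem F68367 : act 0 n30957 = n28634 := d4_1 D30957 (iv D28634) (iv F58814)
theorem F68368 : act 2 n30957 = n27845 := d13_1 D30957 (iv D27845) D27844
theorem F68369 : act 4 n30957 = n28632 := d18_1 D30957 (iv D28632) (iv F58815)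
def n30958 : Q := act 1 n27847
theorem D30958 : act 1 n27847 = n30958 := rfl
theorem F68370 : act 0 n30958 = n30116 := d0_1 D30958 (iv D30116) F54368 F43007 (iv F43016) F43017 F41730 (iv F47922) (iv F58825)
theorem F68371 : act 2 n30958 = n30342 := d6_2 D27847 D30958 F66281 F59529 F48701
theorem F68372 : act 3 n30958 = n30522 := d7_2 F67779 D30958 (iv F67778)
theorem F68373 : act 4 n30958 = n28245 := d8_2 (iv F58826) D30958 (iv D28245)
theorem F68374 : act 5 n30958 = n30279 := d9_2 (iv F58827) D30958 (iv D30279) (iv D26570) (iv F54898)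
theorem F68375 : act 6 n30958 = n30551 := d10_2 (iv F58828) D30958 F66987 F59402 (iv D28047)
def n30959 : Q := act 1 n27851
theorem D30959 : act 1 n27851 = n30959 := rfl
theorem F68376 : act 0 n30959 = n30022 := d0_1 D30959 (iv D30022) F54192 F43553 (iv F43563) F43564 F42076 (iv F47934) (iv F58838)
theorem F68377 : act 2 n30959 = n30282 := d6_2 D27851 D30959 F66052 F59319 F48580
theorem F68378 : act 3 n30959 = n30539 := d7_2 F67964 D30959 (iv F67963)
theorem F68379 : act 4 n30959 = n28222 := d8_2 (iv F58839) D30959 (iv D28222)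
theorem F68380 : act 5 n30959 = n30555 := d9_2 (iv F58840) D30959 F67004 F59189 (iv D27976)
theorem F68381 : act 6 n30959 = n30340 := d10_2 (iv F58841) D30959 (iv D30340) (iv D26726) (iv F55407)
def n30960 : Q := act 1 n27854
theorem D30960 : act 1 n27854 = n30960 := rfl
theorem F68382 : act 0 n30960 = n28084 := d0_1 D30960 F59518 F53836 (iv D26151) (iv F53822) (iv F55750) (iv F60810) F60811 F58856
theorem F68383 : act 2 n30960 = n28083 := d6_2 (iv F58846) D30960 (iv F59517) F58887 F48011
theorem F68384 : act 4 n30960 = n27876 := d8_2 (iv F58847) D30960 F58929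
theorem F68385 : act 5 n30960 = n30960 := d9_2 D27854 D30960 (iv D30960) (iv D27854) F47943
def n30961 : Q := act 1 n27855
theorem D30961 : act 1 n27855 = n30961 := rfl
theorem F68386 : act 2 n30961 = n27935 := d6_2 (iv F58849) D30961 (iv D27935) F48385 (iv F47954)
theorem F68387 : act 4 n30961 = n27878 := d8_2 (iv F58850) D30961 (iv D27878)
theorem F68388 : act 6 n28947 = n30961 := d19_0 F68387 (iv F58938) D28947
def n30962 : Q := act 6 n27856
theorem D30962 : act 6 n27856 = n30962 := rfl
theorem F68389 : act 0 n30962 = n30275 := d5_1 D30962 (iv F66589) F66585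
theorem F68390 : act 1 n30962 = n30948 := d10_1 D30962 F68326 (iv F66772) F66776 F58855
theorem F68391 : act 2 n30962 = n30274 := d14_1 D30962 F66021 (iv F58852)
theorem F68392 : act 3 n30962 = n27857 := d17_1 D30962 (iv D27857) (iv F58853)
theorem F68393 : act 4 n30962 = n30277 := d19_1 D30962 F66034 (iv F58854)
theorem F68394 : act 5 n30962 = n28511 := d20_1 D30962 F60786 D30441 F66589 (iv D30275) F54866 D27856
def n30963 : Q := act 1 n27858
theorem D30963 : act 1 n27858 = n30963 := rfl
theorem F68395 : act 0 n30963 = n28014 := d0_1 D30963 F59308 F53247 (iv D25916) (iv F53233) (iv F55860) (iv F60654) F60655 F58870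
theorem F68396 : act 2 n30963 = n28013 := d6_2 (iv F58860) D30963 (iv F59307) F58905 F48029
theorem F68397 : act 4 n30963 = n27877 := d8_2 (iv F58861) D30963 F58933
theorem F68398 : act 6 n30963 = n30963 := d10_2 D27858 D30963 (iv D30963) (iv D27858) F47966
def n30964 : Q := act 1 n27859
theorem D30964 : act 1 n27859 = n30964 := rfl
theorem F68399 : act 2 n30964 = n27907 := d6_2 (iv F58863) D30964 (iv D27907) F48316 (iv F47977)
theorem F68400 : act 4 n30964 = n27879 := d8_2 (iv F58864) D30964 (iv D27879)
theorem F68401 : act 5 n28951 = n30964 := d18_0 F68400 (iv F58941) D28951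
def n30965 : Q := act 5 n27860
theorem D30965 : act 5 n27860 = n30965 := rfl
theorem F68402 : act 0 n30965 = n30336 := d4_1 D30965 (iv F66622) F66618
theorem F68403 : act 1 n30965 = n30950 := d9_1 D30965 F68334 (iv F66786) (iv F66790) F58869
theorem F68404 : act 2 n30965 = n30335 := d13_1 D30965 F66256 (iv F58866)
theorem F68405 : act 3 n30965 = n27861 := d16_1 D30965 (iv D27861) (iv F58867)
theorem F68406 : act 4 n30965 = n30338 := d18_1 D30965 F66269 (iv F58868)
theorem F68407 : act 6 n30965 = n28457 := d20_2 D27860 D30965 F60624 D30449 F66622 (iv D30336) F55375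
def n30966 : Q := act 3 n27864
theorem D30966 : act 3 n27864 = n30966 := rfl
theorem F68408 : act 6 n30966 = n27865 := d17_2 (iv F58885) D30966 (iv D27865)
def n30967 : Q := act 2 n27865
theorem D30967 : act 2 n27865 = n30967 := rfl
def n30968 : Q := act 5 n27865
theorem D30968 : act 5 n27865 = n30968 := rfl
theorem F68409 : act 3 n30968 = n27866 := d16_1 D30968 (iv D27866) D27865
theorem F68410 : act 6 n27929 = n30968 := d17_0 F68409 (iv F58889) D27929
def n30969 : Q := act 3 n27869
theorem D30969 : act 3 n27869 = n30969 := rfl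
theorem F68411 : act 4 n30969 = n30968 := d15_2 (iv F58901) D30969 F68409 F58888 (iv F48245)
theorem F68412 : act 5 n30969 = n27870 := d16_2 (iv F58902) D30969 (iv D27870)
def n30970 : Q := act 2 n27870
theorem D30970 : act 2 n27870 = n30970 := rfl
theorem F68413 : act 4 n30970 = n30967 := d12_2 (iv F58904) D30970 (iv D30967)
theorem F68414 : act 3 n30970 = n30967 := d21_1 D30970 (iv D30967) (iv D27865) (iv D23900) (iv F47992) (iv F53992) (iv F64990) (iv F64992)
def n30971 : Q := act 6 n27870
theorem D30971 : act 6 n27870 = n30971 := rfl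
theorem F68415 : act 3 n30971 = n27871 := d17_1 D30971 (iv D27871) D27870
theorem F68416 : act 4 n30971 = n30966 := d19_1 D30971 F68408 (iv F58904)
theorem F68417 : act 5 n27901 = n30971 := d16_0 F68415 (iv F58907) D27901
def n30972 : Q := act 6 n27880
theorem D30972 : act 6 n27880 = n30972 := rfl
theorem F68418 : act 0 n30972 = n29871 := d5_1 D30972 (iv F64712) F60321
theorem F68419 : act 1 n30972 = n29874 := d10_1 D30972 (iv F64726) (iv D29081) F52191 D27880
theorem F68420 : act 2 n30972 = n28340 := d14_1 D30972 (iv D28340) (iv F58942)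
theorem F68421 : act 3 n30972 = n29870 := d17_1 D30972 (iv F64708) F58952
theorem F68422 : act 4 n30972 = n29871 := d19_1 D30972 (iv F64712) F60324
theorem F68423 : act 5 n30972 = n28340 := d20_1 D30972 (iv D28340) D28339 F64712 F64710 (iv D28958) (iv F58943)
def n30973 : Q := act 5 n27881
theorem D30973 : act 5 n27881 = n30973 := rfl
theorem F68424 : act 0 n30973 = n29638 := d4_1 D30973 (iv F63912) F60330
theorem F68425 : act 1 n30973 = n29642 := d9_1 D30973 (iv F63932) (iv D29131) F52243 D27881
theorem F68426 : act 2 n30973 = n28343 := d13_1 D30973 (iv D28343) (iv F58944)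
theorem F68427 : act 3 n30973 = n29637 := d16_1 D30973 (iv F63923) F59023
theorem F68428 : act 4 n30973 = n29638 := d18_1 D30973 (iv F63912) F60333
theorem F68429 : act 6 n30973 = n28343 := d20_2 (iv F58945) D30973 (iv D28343) D28344 F63912 (iv F63911) (iv D28973)
def n30974 : Q := act 1 n27882
theorem D30974 : act 1 n27882 = n30974 := rfl
theorem F68430 : act 0 n30974 = n28313 := d0_1 D30974 F60255 (iv F60277) F60278 F59115 F48488 (iv F50198) (iv F60958) F60957
theorem F68431 : act 2 n30974 = n27884 := d6_2 D27882 D30974 (iv D27884) (iv D23972) (iv F48263)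
theorem F68432 : act 3 n30974 = n29006 := d7_2 (iv F58948) D30974 F62318
theorem F68433 : act 4 n30974 = n28310 := d8_2 (iv F58946) D30974 F60249
theorem F68434 : act 5 n30974 = n28431 := d9_2 (iv F58947) D30974 F60558 F49847 (iv F50192)
def n30975 : Q := act 6 n27882
theorem D30975 : act 6 n27882 = n30975 := rfl
theorem F68435 : act 2 n30975 = n27883 := d14_1 D30975 (iv D27883) D27882
theorem F68436 : act 3 n30975 = n30956 := d17_1 D30975 (iv D30956) (iv F58948)
theorem F68437 : act 4 n30975 = n28576 := d19_1 D30975 (iv D28576) (iv F58946)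
theorem F68438 : act 5 n30975 = n30956 := d22_2 (iv F58947) D30975 (iv D30956) F58808
theorem F68439 : act 1 n30757 = n30975 := d8_3 F68437 F67391 D30757
def n30976 : Q := act 4 n27884
theorem D30976 : act 4 n27884 = n30976 := rfl
theorem F68440 : act 0 n30976 = n28312 := d3_1 D30976 (iv F64720) F64717
theorem F68441 : act 1 n30976 = n27885 := d8_1 D30976 (iv D27885) D27884
theorem F68442 : act 2 n30976 = n28310 := d12_1 D30976 (iv F68433) F68431
theorem F68443 : act 3 n30976 = n28312 := d15_1 D30976 (iv F64720) F64719 F60324 (iv F58952)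
theorem F68444 : act 5 n30976 = n28427 := d18_2 F62193 D30976 F62195
def n30977 : Q := act 6 n27886
theorem D30977 : act 6 n27886 = n30977 := rfl
theorem F68445 : act 2 n30977 = n28434 := d14_1 D30977 (iv D28434) (iv F58957)
theorem F68446 : act 3 n30977 = n28826 := d17_1 D30977 F61728 (iv F58958)
theorem F68447 : act 4 n30977 = n27887 := d19_1 D30977 (iv D27887) D27886
theorem F68448 : act 5 n30977 = n28823 := d22_2 (iv F58959) D30977 (iv D28823) F50643
def n30978 : Q := act 1 n27887
theorem D30978 : act 1 n27887 = n30978 := rfl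
theorem F68449 : act 3 n30978 = n30589 := d7_2 (iv F58961) D30978 (iv D30589)
theorem F68450 : act 6 n30978 = n27890 := d10_2 D27887 D30978 (iv D27890) (iv D23976) D23974
def n30979 : Q := act 6 n27888
theorem D30979 : act 6 n27888 = n30979 := rfl
theorem F68451 : act 3 n30979 = n27889 := d17_1 D30979 (iv D27889) D27888
def n30980 : Q := act 1 n27889
theorem D30980 : act 1 n27889 = n30980 := rfl
theorem F68452 : act 4 n30980 = n27890 := d8_2 (iv F58965) D30980 (iv D27890)
def n30981 : Q := act 0 n27890
theorem D30981 : act 0 n27890 = n30981 := rfl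
def n30982 : Q := act 2 n27890
theorem D30982 : act 2 n27890 = n30982 := rfl
theorem F68453 : act 1 n30982 = n27893 := d6_1 D30982 (iv D27893) (iv D23978) (iv F48281) D27890
def n30983 : Q := act 5 n27890
theorem D30983 : act 5 n27890 = n30983 := rfl
def n30984 : Q := act 2 n27891
theorem D30984 : act 2 n27891 = n30984 := rfl
theorem F68454 : act 4 n30984 = n27893 := d12_2 (iv F58967) D30984 (iv D27893)
theorem F68455 : act 6 n30984 = n28444 := d14_2 (iv F58968) D30984 (iv D28444)
theorem F68456 : act 3 n30984 = n27893 := d21_1 D30984 (iv D27893) F48284 D23980 (iv F56193) (iv F56704) (iv F66960) (iv F66964)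
def n30985 : Q := act 5 n27891
theorem D30985 : act 5 n27891 = n30985 := rfl
theorem F68457 : act 0 n30985 = n30447 := d4_1 D30985 F66963 (iv F66964)
theorem F68458 : act 1 n30985 = n30711 := d9_1 D30985 (iv D30711) F57428 F48473 D27891
theorem F68459 : act 3 n30985 = n28168 := d16_1 D30985 (iv D28168) (iv F58966)
theorem F68460 : act 4 n30985 = n27894 := d18_1 D30985 (iv D27894) (iv F58967)
theorem F68461 : act 6 n30985 = n30451 := d20_2 (iv F58968) D30985 F66630 (iv F66962) (iv F66963) F66612 F56245
def n30986 : Q := act 2 n27892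
theorem D30986 : act 2 n27892 = n30986 := rfl
theorem F68462 : act 0 n30986 = n27893 := d1_1 D30986 (iv D27893) D27892
theorem F68463 : act 6 n30986 = n28446 := d14_2 (iv F58970) D30986 (iv D28446)
def n30987 : Q := act 5 n27893
theorem D30987 : act 5 n27893 = n30987 := rfl
theorem F68464 : act 2 n30987 = n27894 := d13_1 D30987 (iv D27894) D27893
def n30988 : Q := act 3 n27899
theorem D30988 : act 3 n27899 = n30988 := rfl
theorem F68465 : act 0 n30988 = n27901 := d2_1 D30988 (iv D27901) (iv F58989)
theorem F68466 : act 1 n30988 = n30553 := d7_1 D30988 F66996 (iv F63793)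
theorem F68467 : act 4 n30988 = n27929 := d15_2 (iv F58990) D30988 (iv D27929) F48375 (iv F48856)
theorem F68468 : act 6 n30988 = n30969 := d17_2 (iv F58991) D30988 (iv D30969)
def n30989 : Q := act 3 n27900
theorem D30989 : act 3 n27900 = n30989 := rfl
theorem F68469 : act 1 n30989 = n27901 := d7_1 D30989 (iv D27901) D27900
theorem F68470 : act 4 n30989 = n30557 := d15_2 (iv F58993) D30989 F67013 F64604 F55432
theorem F68471 : act 2 n30989 = n28499 := d21_2 (iv F58992) D30989 F60744 (iv F50002) (iv F53189) (iv F63986) F63987 (iv D27903)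
theorem F68472 : act 5 n29666 = n30989 := d13_0 F68471 (iv F60746) D29666
def n30990 : Q := act 5 n27900
theorem D30990 : act 5 n27900 = n30990 := rfl
theorem F68473 : act 1 n30990 = n30281 := d9_1 D30990 F66049 (iv F59307) (iv F58907) D27900
theorem F68474 : act 2 n30990 = n27905 := d13_1 D30990 (iv D27905) (iv F58992)
theorem F68475 : act 3 n30990 = n29666 := d16_1 D30990 F68472 (iv D30989)
theorem F68476 : act 4 n30990 = n28169 := d18_1 D30990 (iv D28169) (iv F58993)
theorem F68477 : act 6 n30990 = n30555 := d22_1 D30990 (iv F68380) F68381 F66274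
def n30991 : Q := act 2 n27901
theorem D30991 : act 2 n27901 = n30991 := rfl
theorem F68478 : act 1 n30991 = n28500 := d6_1 D30991 (iv D28500) D28499 (iv F68471) F68469
def n30992 : Q := act 4 n27901
theorem D30992 : act 4 n27901 = n30992 := rfl
theorem F68479 : act 0 n30992 = n27929 := d3_1 D30992 (iv F68467) F68465
theorem F68480 : act 1 n30992 = n30557 := d8_1 D30992 (iv F68470) F68469
theorem F68481 : act 3 n30992 = n27927 := d15_1 D30992 F59061 (iv D24207) (iv F48306) D27901
theorem F68482 : act 5 n30992 = n30966 := d18_2 (iv F68417) D30992 (iv F68416)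
def n30993 : Q := act 6 n27901
theorem D30993 : act 6 n27901 = n30993 := rfl
theorem F68483 : act 0 n30993 = n30969 := d5_1 D30993 (iv F68468) F68465
theorem F68484 : act 3 n30993 = n27902 := d17_1 D30993 (iv D27902) D27901
theorem F68485 : act 5 n30993 = n29950 := d24_1 D30993 (iv D29950) F53991 F52078 D26221 (iv F65008) (iv F65009) F67682 (iv D30760) F57637 (iv F56764) (iv F64034) F68472 F68469
theorem F68486 : act 1 n29948 = n30993 := d9_5 F68485 (iv D29950) (iv D26209) (iv F53979) D29948
def n30994 : Q := act 1 n27903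
theorem D30994 : act 1 n27903 = n30994 := rfl
theorem F68487 : act 0 n30994 = n28461 := d0_1 D30994 (iv D28461) (iv D24593) (iv D20223) F26083 (iv F25242) (iv F37013) D23989 D27903
theorem F68488 : act 2 n30994 = n28513 := d6_2 (iv F66276) D30994 (iv D28513) (iv F55424) D30340
theorem F68489 : act 4 n30994 = n28170 := d8_2 (iv F58999) D30994 (iv D28170)
theorem F68490 : act 6 n30994 = n29727 := d10_2 F66054 D30994 (iv D29727) (iv F59322) (iv F66052)
def n30995 : Q := act 1 n27905
theorem D30995 : act 1 n27905 = n30995 := rfl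
theorem F68491 : act 0 n30995 = n28268 := d0_1 D30995 F60102 F49418 F37921 (iv F25875) (iv F38010) (iv F49547) (iv F60160) F60159
theorem F68492 : act 3 n30995 = n30951 := d7_2 (iv F63984) D30995 F68337
theorem F68493 : act 4 n30995 = n28172 := d8_2 (iv F59003) D30995 (iv D28172)
theorem F68494 : act 5 n30995 = n27907 := d9_2 D27905 D30995 (iv D27907) (iv D23991) D23989
theorem F68495 : act 6 n30995 = n28951 := d24_3 F55003 D27905 D30995 F68401 (iv D30964) (iv D27859) (iv F49899) (iv D24590) (iv F38327) (iv D20225) D20223 D24595 (iv F49912) (iv F55002)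
theorem F68496 : act 2 n28951 = n30995 := d13_3 F68494 (iv F68399) (iv F68401)
def n30996 : Q := act 6 n27905
theorem D30996 : act 6 n27905 = n30996 := rfl
theorem F68497 : act 0 n30996 = n30284 := d5_1 D30996 F66065 F60159
theorem F68498 : act 2 n30996 = n30555 := d14_1 D30996 (iv F68477) F68474
theorem F68499 : act 4 n30996 = n28173 := d19_1 D30996 (iv D28173) (iv F59003)
theorem F68500 : act 5 n30996 = n30282 := d20_1 D30996 F66054 (iv F60162) (iv F66065) (iv D30284) F55003 D27905
def n30997 : Q := act 0 n27907
theorem D30997 : act 0 n27907 = n30997 := rfl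
theorem F68501 : act 1 n30997 = n28451 := d0_2 D27907 D30997 F60598 F56116 F53317 F41760 (iv F41763) F41764 (iv F48315)
theorem F68502 : act 3 n30997 = n30445 := d2_2 (iv F66015) D30997 F66602
theorem F68503 : act 4 n30997 = n28174 := d3_2 (iv F59009) D30997 (iv D28174)
theorem F68504 : act 5 n30997 = n28268 := d4_2 F68494 D30997 (iv F68491)
theorem F68505 : act 6 n30964 = n30997 := d22_3 (iv F68494) F68495 F68401 (iv D30997)
def n30998 : Q := act 6 n27907
theorem D30998 : act 6 n27907 = n30998 := rfl
theorem F68506 : act 0 n30998 = n30964 := d5_1 D30998 F68505 (iv D30997)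
theorem F68507 : act 1 n30998 = n29720 := d10_1 D30998 F64181 (iv D27898) (iv F48318) D27907
theorem F68508 : act 2 n30998 = n30997 := d14_1 D30998 (iv F68505) F68399
theorem F68509 : act 4 n30998 = n28175 := d19_1 D30998 (iv D28175) (iv F59009)
def n30999 : Q := act 1 n27908
theorem D30999 : act 1 n27908 = n30999 := rfl
theorem F68510 : act 0 n30999 = n30946 := d0_1 D30999 (iv D30946) F58639 (iv F58605) F58604 (iv F61774) (iv F62059) F62060 (iv F59010)
theorem F68511 : act 3 n30999 = n27909 := d7_2 (iv F59012) D30999 (iv D27909)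
theorem F68512 : act 4 n30999 = n28167 := d8_2 (iv F59013) D30999 (iv D28167)
theorem F68513 : act 5 n30999 = n28197 := d9_2 (iv F59014) D30999 F59836 D28200 (iv F59849)
theorem F68514 : act 6 n30999 = n29726 := d10_2 D27908 D30999 (iv D29726) F53381 F53339
def n31000 : Q := act 0 n27909
theorem D31000 : act 0 n27909 = n31000 := rfl
theorem F68515 : act 1 n31000 = n28194 := d0_2 D27909 D31000 F59827 F53229 F53226 (iv F50678) (iv F58988) (iv D27898) (iv F48322)
theorem F68516 : act 3 n31000 = n30946 := d2_2 F68511 D31000 (iv F68510)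
theorem F68517 : act 4 n31000 = n28177 := d3_2 (iv F59015) D31000 (iv D28177)
theorem F68518 : act 5 n31000 = n30994 := d4_2 F60636 D31000 F68487
theorem F68519 : act 6 n31000 = n29728 := d5_2 (iv F59016) D31000 (iv D29728)
def n31001 : Q := act 1 n27910
theorem D31001 : act 1 n27910 = n31001 := rfl
theorem F68520 : act 0 n31001 = n28319 := d0_1 D31001 F60269 (iv F60303) F60304 F59331 F48609 (iv F50304) (iv F61127) F61126
theorem F68521 : act 2 n31001 = n27912 := d6_2 D27910 D31001 (iv D27912) (iv D23997) (iv F48330)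
theorem F68522 : act 3 n31001 = n29011 := d7_2 (iv F59019) D31001 F62327
theorem F68523 : act 4 n31001 = n28316 := d8_2 (iv F59017) D31001 F60263
theorem F68524 : act 6 n31001 = n28485 := d10_2 (iv F59018) D31001 F60720 F49984 (iv F50298)
def n31002 : Q := act 5 n27910
theorem D31002 : act 5 n27910 = n31002 := rfl
theorem F68525 : act 2 n31002 = n27911 := d13_1 D31002 (iv D27911) D27910
theorem F68526 : act 3 n31002 = n30957 := d16_1 D31002 (iv D30957) (iv F59019)
theorem F68527 : act 4 n31002 = n28637 := d18_1 D31002 (iv D28637) (iv F59017)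
theorem F68528 : act 6 n31002 = n30957 := d22_1 D31002 (iv D30957) (iv F61130) F61126
theorem F68529 : act 1 n30695 = n31002 := d8_3 F68527 (iv F67429) D30695
def n31003 : Q := act 4 n27912
theorem D31003 : act 4 n27912 = n31003 := rfl
theorem F68530 : act 0 n31003 = n28318 := d3_1 D31003 (iv F63919) F63921
theorem F68531 : act 1 n31003 = n27913 := d8_1 D31003 (iv D27913) D27912
theorem F68532 : act 2 n31003 = n28316 := d12_1 D31003 (iv F68523) F68521
theorem F68533 : act 3 n31003 = n28318 := d15_1 D31003 (iv F63919) F63918 F60333 (iv F59023)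
theorem F68534 : act 6 n31003 = n28481 := d19_2 F62232 D31003 F62234
def n31004 : Q := act 5 n27914
theorem D31004 : act 5 n27914 = n31004 := rfl
theorem F68535 : act 2 n31004 = n28488 := d13_1 D31004 (iv D28488) (iv F59028)
theorem F68536 : act 3 n31004 = n28853 := d16_1 D31004 F61833 (iv F59029)
theorem F68537 : act 4 n31004 = n27915 := d18_1 D31004 (iv D27915) D27914
theorem F68538 : act 6 n31004 = n28851 := d22_1 D31004 (iv D28851) F61824 F61820
def n31005 : Q := act 1 n27915
theorem D31005 : act 1 n27915 = n31005 := rfl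
theorem F68539 : act 3 n31005 = n30601 := d7_2 (iv F59032) D31005 (iv D30601)
theorem F68540 : act 5 n31005 = n27918 := d9_2 D27915 D31005 (iv D27918) (iv D24001) D23999
def n31006 : Q := act 5 n27916
theorem D31006 : act 5 n27916 = n31006 := rfl
theorem F68541 : act 3 n31006 = n27917 := d16_1 D31006 (iv D27917) D27916
def n31007 : Q := act 1 n27917
theorem D31007 : act 1 n27917 = n31007 := rfl
theorem F68542 : act 4 n31007 = n27918 := d8_2 (iv F59036) D31007 (iv D27918)
def n31008 : Q := act 0 n27918
theorem D31008 : act 0 n27918 = n31008 := rfl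
def n31009 : Q := act 2 n27918
theorem D31009 : act 2 n27918 = n31009 := rfl
theorem F68543 : act 1 n31009 = n27921 := d6_1 D31009 (iv D27921) (iv D24003) (iv F48348) D27918
def n31010 : Q := act 6 n27918
theorem D31010 : act 6 n27918 = n31010 := rfl
def n31011 : Q := act 2 n27919
theorem D31011 : act 2 n27919 = n31011 := rfl
theorem F68544 : act 4 n31011 = n27921 := d12_2 (iv F59038) D31011 (iv D27921)
theorem F68545 : act 5 n31011 = n28498 := d13_2 (iv F59039) D31011 (iv D28498)
theorem F68546 : act 3 n31011 = n27921 := d21_1 D31011 (iv D27921) F48351 D24005 (iv F56108) (iv F56629) (iv F66904) F66908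
def n31012 : Q := act 6 n27919
theorem D31012 : act 6 n27919 = n31012 := rfl
theorem F68547 : act 0 n31012 = n30439 := d5_1 D31012 (iv F66907) F66908
theorem F68548 : act 1 n31012 = n30765 := d10_1 D31012 (iv D30765) F57661 F48599 D27919
theorem F68549 : act 3 n31012 = n28178 := d17_1 D31012 (iv D28178) (iv F59037)
theorem F68550 : act 4 n31012 = n27922 := d19_1 D31012 (iv D27922) (iv F59038)
theorem F68551 : act 5 n31012 = n30443 := d20_1 D31012 F66597 (iv F66906) F66907 F66579 F56176 (iv F59039)
def n31013 : Q := act 2 n27920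
theorem D31013 : act 2 n27920 = n31013 := rfl
theorem F68552 : act 0 n31013 = n27921 := d1_1 D31013 (iv D27921) D27920
theorem F68553 : act 5 n31013 = n28500 := d13_2 (iv F59041) D31013 (iv D28500)
def n31014 : Q := act 6 n27921
theorem D31014 : act 6 n27921 = n31014 := rfl
theorem F68554 : act 2 n31014 = n27922 := d14_1 D31014 (iv D27922) D27921
theorem F68555 : act 1 n30987 = n31014 := d6_5 F68554 (iv F59339) F59356 F59123 (iv F68464)
def n31015 : Q := act 3 n27928
theorem D31015 : act 3 n27928 = n31015 := rfl
theorem F68556 : act 1 n31015 = n27929 := d7_1 D31015 (iv D27929) D27928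
theorem F68557 : act 4 n31015 = n30553 := d15_2 (iv F59064) D31015 F66996 F63791 F54920
theorem F68558 : act 2 n31015 = n28445 := d21_2 (iv F59063) D31015 F60582 (iv F49866) (iv F53781) (iv F64777) F64778 (iv D27931)
theorem F68559 : act 6 n29897 = n31015 := d14_0 F68558 (iv F60584) D29897
def n31016 : Q := act 6 n27928
theorem D31016 : act 6 n27928 = n31016 := rfl
theorem F68560 : act 1 n31016 = n30341 := d10_1 D31016 F66279 (iv F59517) (iv F58889) D27928
theorem F68561 : act 2 n31016 = n27933 := d14_1 D31016 (iv D27933) (iv F59063)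
theorem F68562 : act 3 n31016 = n29897 := d17_1 D31016 F68559 (iv D31015)
theorem F68563 : act 4 n31016 = n28179 := d19_1 D31016 (iv D28179) (iv F59064)
theorem F68564 : act 5 n31016 = n30551 := d22_2 F65515 D31016 (iv F68375) F68370
def n31017 : Q := act 2 n27929
theorem D31017 : act 2 n27929 = n31017 := rfl
theorem F68565 : act 1 n31017 = n28446 := d6_1 D31017 (iv D28446) D28445 (iv F68558) F68556
def n31018 : Q := act 5 n27929
theorem D31018 : act 5 n27929 = n31018 := rfl
theorem F68566 : act 0 n31018 = n30966 := d4_1 D31018 (iv F68482) F68479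
theorem F68567 : act 3 n31018 = n27930 := d16_1 D31018 (iv D27930) D27929
theorem F68568 : act 6 n31018 = n29733 := d22_3 D30968 (iv F68410) D31018 (iv F64231)
theorem F68569 : act 1 n29730 = n31018 := d10_5 F68568 (iv D29733) (iv D25975) (iv F53386) D29730
def n31019 : Q := act 1 n27931
theorem D31019 : act 1 n27931 = n31019 := rfl
theorem F68570 : act 0 n31019 = n28513 := d0_1 D31019 (iv D28513) (iv D24648) (iv D20257) F26114 (iv F25259) (iv F37049) D24014 D27931
theorem F68571 : act 2 n31019 = n28461 := d6_2 (iv F66041) D31019 (iv D28461) (iv F54915) D30279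
theorem F68572 : act 4 n31019 = n28180 := d8_2 (iv F59070) D31019 (iv D28180)
theorem F68573 : act 5 n31019 = n29945 := d9_2 F66283 D31019 (iv D29945) (iv F59532) (iv F66281)
def n31020 : Q := act 1 n27933
theorem D31020 : act 1 n27933 = n31020 := rfl
theorem F68574 : act 0 n31020 = n28265 := d0_1 D31020 F60090 F49390 F37909 (iv F25834) (iv F37963) (iv F49469) (iv F60118) F60117
theorem F68575 : act 3 n31020 = n30949 := d7_2 (iv F64772) D31020 F68328
theorem F68576 : act 4 n31020 = n28182 := d8_2 (iv F59074) D31020 (iv D28182)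
theorem F68577 : act 6 n31020 = n27935 := d10_2 D27933 D31020 (iv D27935) (iv D24016) D24014
theorem F68578 : act 5 n28947 = n31020 := d24_1 (iv F68388) (iv D31020) (iv D27933) (iv F55495) F55494 F50046 (iv D24649) (iv D20257) D20259 F38393 D24645 F50035 D27855 D30961
theorem F68579 : act 2 n28947 = n31020 := d23_1 (iv F68578) (iv D31020) (iv F60117) (iv F66294) F66291 (iv D28116) F48743 F37899 F37382 (iv D15097) (iv F26291) (iv F26300) F26298 D20387 D24825 (iv F59973) F59972 (iv F60090) (iv F68574)
def n31021 : Q := act 5 n27933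
theorem D31021 : act 5 n27933 = n31021 := rfl
theorem F68580 : act 0 n31021 = n30344 := d4_1 D31021 F66294 F60117
theorem F68581 : act 2 n31021 = n30551 := d13_1 D31021 (iv F68564) F68561
theorem F68582 : act 4 n31021 = n28183 := d18_1 D31021 (iv D28183) (iv F59074)
theorem F68583 : act 6 n31021 = n30342 := d20_2 D27933 D31021 F66283 (iv F60120) (iv F66294) (iv D30344) F55495
def n31022 : Q := act 0 n27935
theorem D31022 : act 0 n27935 = n31022 := rfl
theorem F68584 : act 1 n31022 = n28505 := d0_2 D27935 D31022 F60760 F56090 F53909 F42101 (iv F42104) F42105 (iv F48384)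
theorem F68585 : act 3 n31022 = n30437 := d2_2 (iv F65968) D31022 F66569
theorem F68586 : act 4 n31022 = n28184 := d3_2 (iv F59080) D31022 (iv D28184)
theorem F68587 : act 6 n31022 = n28265 := d5_2 F68577 D31022 (iv F68574)
theorem F68588 : act 5 n31022 = n30961 := d22_0 (iv F68388) F68578 F68577 D31022
def n31023 : Q := act 5 n27935
theorem D31023 : act 5 n27935 = n31023 := rfl
theorem F68589 : act 0 n31023 = n30961 := d4_1 D31023 (iv F68588) (iv D31022)
theorem F68590 : act 1 n31023 = n29938 := d9_1 D31023 F64945 (iv D27926) (iv F48387) D27935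
theorem F68591 : act 2 n31023 = n31022 := d13_1 D31023 F68588 F68386
theorem F68592 : act 4 n31023 = n28185 := d18_1 D31023 (iv D28185) (iv F59080)
def n31024 : Q := act 1 n27936
theorem D31024 : act 1 n27936 = n31024 := rfl
theorem F68593 : act 0 n31024 = n30942 := d0_1 D31024 (iv D30942) F58539 (iv F58509) F58508 (iv F61862) (iv F62016) F62017 (iv F59081)
theorem F68594 : act 2 n31024 = n30999 := d6_2 (iv F59082) D31024 (iv D30999) F59011 F48827
theorem F68595 : act 3 n31024 = n27937 := d7_2 (iv F59083) D31024 (iv D27937)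
theorem F68596 : act 4 n31024 = n28166 := d8_2 (iv F59084) D31024 (iv D28166)
theorem F68597 : act 5 n31024 = n29944 := d9_2 D27936 D31024 (iv D29944) F53973 F53931
theorem F68598 : act 6 n31024 = n28209 := d10_2 (iv F59085) D31024 F59876 D28212 (iv F59889)
def n31025 : Q := act 0 n27937
theorem D31025 : act 0 n27937 = n31025 := rfl
theorem F68599 : act 1 n31025 = n28206 := d0_2 D27937 D31025 F59867 F53818 F53815 (iv F50752) (iv F59059) (iv D27926) (iv F48391)
theorem F68600 : act 3 n31025 = n30942 := d2_2 F68595 D31025 (iv F68593)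
theorem F68601 : act 4 n31025 = n28187 := d3_2 (iv F59086) D31025 (iv D28187)
theorem F68602 : act 5 n31025 = n29946 := d4_2 (iv F59087) D31025 (iv D29946)
theorem F68603 : act 6 n31025 = n31019 := d5_2 F60792 D31025 F68570
def n31026 : Q := act 4 n27940
theorem D31026 : act 4 n27940 = n31026 := rfl
theorem F68604 : act 0 n31026 = n30851 := d3_1 D31026 F67991 F61646
theorem F68605 : act 1 n31026 = n30534 := d8_1 D31026 F66933 F60703
theorem F68606 : act 3 n31026 = n28881 := d15_1 D31026 F61932 F51106 (iv F48413) D27940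
theorem F68607 : act 5 n31026 = n30849 := d18_2 F59469 D31026 F67984
theorem F68608 : act 6 n31026 = n28786 := d19_2 (iv F59095) D31026 F61619
def n31027 : Q := act 4 n27944
theorem D31027 : act 4 n27944 = n31027 := rfl
theorem F68609 : act 0 n31027 = n30793 := d3_1 D31027 F67808 F61491
theorem F68610 : act 1 n31027 = n30517 := d8_1 D31027 F66877 (iv F60535)
theorem F68611 : act 3 n31027 = n28885 := d15_1 D31027 F61947 F51179 (iv F48441) D27944
theorem F68612 : act 5 n31027 = n28722 := d18_2 (iv F59104) D31027 F61469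
theorem F68613 : act 6 n31027 = n30791 := d19_2 F59253 D31027 F67801
def n31028 : Q := act 6 n27948
theorem D31028 : act 6 n27948 = n31028 := rfl
theorem F68614 : act 0 n31028 = n27961 := d5_1 D31028 (iv D27961) (iv F59115)
theorem F68615 : act 3 n31028 = n27949 := d17_1 D31028 (iv D27949) D27948
theorem F68616 : act 4 n31028 = n29440 := d19_1 D31028 F63351 (iv F59116)
theorem F68617 : act 5 n31028 = n30979 := d22_2 F66656 D31028 (iv D30979) (iv F66653)
theorem F68618 : act 1 n30671 = n31028 := d8_3 F68616 F63350 D30671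
def n31029 : Q := act 1 n27949
theorem D31029 : act 1 n27949 = n31029 := rfl
theorem F68619 : act 3 n31029 = n30671 := d7_2 F68615 D31029 F68618
theorem F68620 : act 4 n31029 = n27950 := d8_2 (iv F59119) D31029 (iv D27950)
def n31030 : Q := act 5 n27950
theorem D31030 : act 5 n27950 = n31030 := rfl
theorem F68621 : act 1 n31030 = n30983 := d9_1 D31030 (iv D30983) (iv D27890) (iv F48469) D27950
theorem F68622 : act 3 n31030 = n30497 := d16_1 D31030 (iv D30497) (iv F59121)
def n31031 : Q := act 5 n27951
theorem D31031 : act 5 n27951 = n31031 := rfl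
theorem F68623 : act 0 n31031 = n27953 := d4_1 D31031 (iv D27953) D27951
theorem F68624 : act 1 n31031 = n28734 := d9_1 D31031 F61493 F63695 (iv F63734) (iv F63735)
theorem F68625 : act 3 n31031 = n27955 := d16_1 D31031 (iv D27955) (iv F59122)
theorem F68626 : act 4 n31031 = n30708 := d18_1 D31031 (iv F67507) F67506
theorem F68627 : act 6 n31031 = n30700 := d20_2 F67471 D31031 F67466 F57410 D27953 F59355 (iv F67470)
def n31032 : Q := act 6 n27960
theorem D31032 : act 6 n27960 = n31032 := rfl
theorem F68628 : act 2 n31032 = n27961 := d14_1 D31032 (iv D27961) D27960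
theorem F68629 : act 3 n31032 = n30462 := d17_1 D31032 F66672 F59902
theorem F68630 : act 5 n31032 = n30460 := d22_2 F66647 D31032 (iv D30460) (iv F66645)
def n31033 : Q := act 1 n27961
theorem D31033 : act 1 n27961 = n31033 := rfl
theorem F68631 : act 3 n31033 = n27962 := d7_2 (iv F59158) D31033 (iv D27962)
theorem F68632 : act 6 n31033 = n28596 := d10_2 D27961 D31033 (iv D28596) (iv D24723) (iv F48488)
def n31034 : Q := act 5 n27961
theorem D31034 : act 5 n27961 = n31034 := rfl
theorem F68633 : act 0 n31034 = n30979 := d4_1 D31034 (iv F68617) F68614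
theorem F68634 : act 2 n31034 = n30460 := d13_1 D31034 (iv F68630) F68628
theorem F68635 : act 3 n31034 = n27963 := d16_1 D31034 (iv D27963) (iv F59158)
theorem F68636 : act 4 n31034 = n29878 := d18_1 D31034 (iv F64736) F60366
theorem F68637 : act 6 n31034 = n30458 := d20_2 D27961 D31034 F66656 D31028 F68617 (iv D30979) F58963
theorem F68638 : act 1 n29877 = n31034 := d10_5 F68637 F66654 F64716 F64713 D29877
def n31035 : Q := act 0 n27962
theorem D31035 : act 0 n27962 = n31035 := rfl
theorem F68639 : act 4 n31035 = n27964 := d3_2 (iv F59159) D31035 (iv D27964)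
theorem F68640 : act 6 n31035 = n28598 := d5_2 (iv F59160) D31035 (iv D28598)
theorem F68641 : act 1 n30034 = n31035 := d8_3 F68639 (iv F61043) (iv F65262)
def n31036 : Q := act 5 n27962
theorem D31036 : act 5 n27962 = n31036 := rfl
theorem F68642 : act 4 n31036 = n27965 := d18_1 D31036 (iv D27965) (iv F59159)
def n31037 : Q := act 1 n27963
theorem D31037 : act 1 n27963 = n31037 := rfl
theorem F68643 : act 3 n31037 = n29877 := d7_2 F68635 D31037 F68638
theorem F68644 : act 4 n31037 = n27966 := d8_2 (iv F59163) D31037 (iv D27966)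
theorem F68645 : act 6 n29876 = n31037 := d17_0 F68643 (iv D29877) D29876
def n31038 : Q := act 0 n27966
theorem D31038 : act 0 n27966 = n31038 := rfl
theorem F68646 : act 3 n31038 = n29087 := d2_2 F62512 D31038 F62526
theorem F68647 : act 5 n31038 = n29086 := d4_2 (iv F61368) D31038 F62523
def n31039 : Q := act 6 n27966
theorem D31039 : act 6 n27966 = n31039 := rfl
theorem F68648 : act 1 n31039 = n29870 := d10_1 D31039 (iv F64708) (iv D27884) (iv F48494) D27966
theorem F68649 : act 3 n31039 = n29874 := d17_1 D31039 (iv F64726) F62512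
theorem F68650 : act 4 n31039 = n29876 := d19_1 D31039 F68645 F68644
def n31040 : Q := act 5 n27970
theorem D31040 : act 5 n27970 = n31040 := rfl
theorem F68651 : act 0 n31040 = n30091 := d4_1 D31040 F65709 F65706
theorem F68652 : act 1 n31040 = n29812 := d9_1 D31040 (iv D29812) F58813 (iv F58951) (iv F59169)
theorem F68653 : act 3 n31040 = n27975 := d16_1 D31040 (iv D27975) (iv F59170)
theorem F68654 : act 4 n31040 = n30687 := d18_1 D31040 F67413 F67388
theorem F68655 : act 6 n31040 = n30089 := d20_2 D27970 D31040 F65423 (iv F65707) (iv F65709) (iv D30091) F54297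
def n31041 : Q := act 3 n27971
theorem D31041 : act 3 n27971 = n31041 := rfl
theorem F68656 : act 0 n31041 = n27973 := d2_1 D31041 (iv D27973) (iv F59171)
theorem F68657 : act 1 n31041 = n30374 := d7_1 D31041 F66401 (iv F59172)
theorem F68658 : act 4 n31041 = n30720 := d15_2 (iv F59173) D31041 (iv D30720) F57462 (iv F49105)
def n31042 : Q := act 6 n27971
theorem D31042 : act 6 n27971 = n31042 := rfl
theorem F68659 : act 0 n31042 = n27974 := d5_1 D31042 (iv D27974) (iv F59171)
theorem F68660 : act 1 n31042 = n29219 := d10_1 D31042 (iv D29219) F52379 D26822 (iv F59172)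
theorem F68661 : act 2 n31042 = n27972 := d14_1 D31042 (iv D27972) D27971
theorem F68662 : act 4 n31042 = n28221 := d19_1 D31042 (iv D28221) (iv F59173)
theorem F68663 : act 5 n31042 = n30094 := d20_1 D31042 (iv D30094) F54310 D27974 (iv F62987) (iv F65433) F65432
def n31043 : Q := act 6 n27973
theorem D31043 : act 6 n27973 = n31043 := rfl
theorem F68664 : act 1 n31043 = n28060 := d10_1 D31043 (iv F62898) F62895 (iv D27992) (iv F59177)
theorem F68665 : act 2 n31043 = n30187 := d14_1 D31043 F65722 (iv F61360)
theorem F68666 : act 3 n31043 = n27974 := d17_1 D31043 (iv D27974) D27973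
theorem F68667 : act 4 n31043 = n30722 := d19_1 D31043 (iv D30722) (iv F59178)
def n31044 : Q := act 6 n27977
theorem D31044 : act 6 n27977 = n31044 := rfl
theorem F68668 : act 1 n31044 = n29585 := d10_1 D31044 (iv F63748) F67682 (iv D30760) (iv F59190)
theorem F68669 : act 2 n31044 = n29821 := d14_1 D31044 (iv D29821) (iv F59192)
theorem F68670 : act 3 n31044 = n27978 := d17_1 D31044 (iv D27978) D27977
theorem F68671 : act 4 n31044 = n29823 := d19_1 D31044 (iv D29823) (iv F59191)
theorem F68672 : act 5 n31044 = n30705 := d22_2 F67966 D31044 F67493 (iv F67962)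
def n31045 : Q := act 4 n27983
theorem D31045 : act 4 n27983 = n31045 := rfl
theorem F68673 : act 0 n31045 = n27986 := d3_1 D31045 (iv D27986) (iv F59212)
theorem F68674 : act 1 n31045 = n29368 := d8_1 D31045 (iv F66743) F66741
theorem F68675 : act 2 n31045 = n27984 := d12_1 D31045 (iv D27984) D27983
theorem F68676 : act 3 n31045 = n29367 := d15_1 D31045 F63195 F63040 (iv F59092) (iv F59213)
theorem F68677 : act 6 n31045 = n27999 := d19_2 (iv F59214) D31045 (iv D27999)
def n31046 : Q := act 4 n27985
theorem D31046 : act 4 n27985 = n31046 := rfl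
theorem F68678 : act 0 n31046 = n30081 := d3_1 D31046 F65398 (iv F61042)
theorem F68679 : act 1 n31046 = n27986 := d8_1 D31046 (iv D27986) D27985
theorem F68680 : act 2 n31046 = n31035 := d12_1 D31046 F68639 F61041
def n31047 : Q := act 5 n27985
theorem D31047 : act 5 n27985 = n31047 := rfl
theorem F68681 : act 0 n31047 = n30084 := d4_1 D31047 (iv D30084) (iv F61042)
theorem F68682 : act 1 n31047 = n29339 := d9_1 D31047 F63142 F60831 (iv F50086) D27985
theorem F68683 : act 2 n31047 = n28606 := d13_1 D31047 F61051 F61041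
theorem F68684 : act 3 n31047 = n28594 := d16_1 D31047 F61018 F60836
theorem F68685 : act 6 n31047 = n28605 := d22_1 D31047 (iv D28605) (iv F54284) (iv F61042)
def n31048 : Q := act 2 n27988
theorem D31048 : act 2 n27988 = n31048 := rfl
theorem F68686 : act 0 n31048 = n30128 := d1_1 D31048 F65540 F59226
theorem F68687 : act 4 n31048 = n30120 := d12_2 (iv F59225) D31048 F65524
theorem F68688 : act 6 n31048 = n30118 := d14_2 F59227 D31048 F65520
def n31049 : Q := act 0 n27989
theorem D31049 : act 0 n27989 = n31049 := rfl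
theorem F68689 : act 1 n31049 = n29274 := d0_2 D27989 D31049 F62947 F52515 (iv F55746) (iv F59172) F59171 F48501 (iv F48520)
theorem F68690 : act 2 n31049 = n28044 := d1_2 (iv F59228) D31049 F59390
theorem F68691 : act 4 n31049 = n28227 := d3_2 (iv F59229) D31049 (iv D28227)
theorem F68692 : act 5 n31049 = n28043 := d4_2 (iv F59230) D31049 F59387
theorem F68693 : act 6 n31049 = n30188 := d5_2 F62823 D31049 F65723
def n31050 : Q := act 3 n27989
theorem D31050 : act 3 n27989 = n31050 := rfl
theorem F68694 : act 1 n31050 = n27990 := d7_1 D31050 (iv D27990) D27989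
theorem F68695 : act 4 n31050 = n30738 := d15_2 (iv F59229) D31050 (iv D30738) F57515 (iv F49153)
theorem F68696 : act 5 n31050 = n28045 := d16_2 (iv F59230) D31050 (iv D28045)
theorem F68697 : act 2 n31050 = n30093 := d21_2 (iv F59228) D31050 (iv D30093) (iv D26351) (iv F54296) D30090 (iv F65427) F59390
def n31051 : Q := act 6 n27994
theorem D31051 : act 6 n27994 = n31051 := rfl
theorem F68698 : act 0 n31051 = n28722 := d5_1 D31051 (iv D28722) (iv F59246)
theorem F68699 : act 1 n31051 = n30784 := d10_1 D31051 F67775 (iv F67522) F67525 (iv F59247)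
theorem F68700 : act 2 n31051 = n30811 := d14_1 D31051 (iv D30811) (iv F59248)
theorem F68701 : act 3 n31051 = n28229 := d17_1 D31051 (iv D28229) (iv F59249)
theorem F68702 : act 4 n31051 = n27996 := d19_1 D31051 (iv D27996) D27994
theorem F68703 : act 5 n31051 = n30793 := d20_1 D31051 (iv D30793) F57794 D28722 (iv F68612) F68613 F67802
def n31052 : Q := act 3 n27999
theorem D31052 : act 3 n27999 = n31052 := rfl
theorem F68704 : act 0 n31052 = n28007 := d2_1 D31052 (iv D28007) (iv F59269)
theorem F68705 : act 1 n31052 = n28673 := d7_1 D31052 F61230 (iv F59270)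
theorem F68706 : act 2 n31052 = n29136 := d11_1 D31052 (iv F62605) (iv D28238) (iv D24339) F37778 (iv F37240) (iv F48568) D28007 (iv F59291) D29137 F62610 (iv D28232) F49188 (iv F48558) (iv F59271)
theorem F68707 : act 4 n31052 = n29295 := d15_2 D27999 D31052 F63007 F52569 (iv F48546)
theorem F68708 : act 6 n31052 = n29367 := d17_2 F68677 D31052 (iv F68676)
theorem F68709 : act 5 n29294 = n31052 := d22_2 (iv D29315) (iv F63005) F68708 (iv F63196)
def n31053 : Q := act 5 n27999
theorem D31053 : act 5 n27999 = n31053 := rfl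
theorem F68710 : act 0 n31053 = n28008 := d4_1 D31053 (iv D28008) (iv F59269)
theorem F68711 : act 1 n31053 = n28737 := d9_1 D31053 (iv D28737) (iv D24840) D24842 (iv F59270)
theorem F68712 : act 2 n31053 = n28001 := d13_1 D31053 (iv D28001) (iv F59271)
theorem F68713 : act 3 n31053 = n29294 := d16_1 D31053 F68709 (iv D31052)
theorem F68714 : act 4 n31053 = n28000 := d18_1 D31053 (iv D28000) D27999
theorem F68715 : act 6 n31053 = n28524 := d22_1 D31053 F60834 F59220 (iv F59269)
def n31054 : Q := act 5 n28003
theorem D31054 : act 5 n28003 = n31054 := rfl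
theorem F68716 : act 0 n31054 = n28005 := d4_1 D31054 (iv D28005) D28003
theorem F68717 : act 2 n31054 = n28102 := d13_1 D31054 (iv D28102) (iv F59284)
theorem F68718 : act 4 n31054 = n29348 := d18_1 D31054 (iv F65344) F65343
theorem F68719 : act 6 n31054 = n29346 := d22_1 D31054 (iv F63162) (iv D28006) D28003
def n31055 : Q := act 5 n28004
theorem D31055 : act 5 n28004 = n31055 := rfl
theorem F68720 : act 0 n31055 = n29348 := d4_1 D31055 (iv F65344) F65341
theorem F68721 : act 2 n31055 = n28104 := d13_1 D31055 (iv D28104) (iv F59286)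
theorem F68722 : act 3 n31055 = n29135 := d16_1 D31055 (iv D29135) F59287
theorem F68723 : act 4 n31055 = n28005 := d18_1 D31055 (iv D28005) D28004
theorem F68724 : act 6 n31055 = n29340 := d20_2 (iv F63157) D31055 F63145 F65345 F65344 (iv D29348) D29347
def n31056 : Q := act 1 n28005
theorem D31056 : act 1 n28005 = n31056 := rfl
theorem F68725 : act 2 n31056 = n31056 := d6_2 (iv F59288) D31056 (iv D31056) F59288 F48725
theorem F68726 : act 5 n31056 = n28009 := d9_2 D28005 D31056 (iv D28009) (iv D24083) D24081
theorem F68727 : act 0 n31056 = n31056 := d23_3 D24151 (iv F59288) D31056 F68726 F59294 (iv D28009) (iv F59272) (iv D28000) (iv D24077) (iv F48553) F46483 D23354 F46487 D23355 D27497 F57803 D27501 (iv F58174) (iv D24149)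
def n31057 : Q := act 6 n28005
theorem D31057 : act 6 n28005 = n31057 := rfl
theorem F68728 : act 0 n31057 = n29346 := d5_1 D31057 (iv F68719) F68716
theorem F68729 : act 2 n31057 = n28106 := d14_1 D31057 (iv D28106) (iv F59288)
theorem F68730 : act 3 n31057 = n29372 := d17_1 D31057 F63213 F62628
theorem F68731 : act 4 n31057 = n29340 := d19_1 D31057 (iv F68724) F68723
theorem F68732 : act 5 n31057 = n29371 := d20_1 D31057 F63208 D31054 F68719 (iv F63162) (iv D28006) D28005
def n31058 : Q := act 5 n28007
theorem D31058 : act 5 n28007 = n31058 := rfl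
theorem F68733 : act 0 n31058 = n29294 := d4_1 D31058 F68709 F68704
theorem F68734 : act 2 n31058 = n29138 := d13_1 D31058 (iv D29138) F59291
theorem F68735 : act 3 n31058 = n28008 := d16_1 D31058 (iv D28008) D28007
theorem F68736 : act 4 n31058 = n29292 := d18_1 D31058 F63002 F60474
theorem F68737 : act 6 n31058 = n29310 := d20_2 (iv F63050) D31058 F63197 (iv F68708) (iv F68709) F63005 D29315
def n31059 : Q := act 1 n28008
theorem D31059 : act 1 n28008 = n31059 := rfl
theorem F68738 : act 2 n31059 = n31059 := d6_2 (iv F59292) D31059 (iv D31059) F59292 F48570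
theorem F68739 : act 4 n31059 = n28009 := d8_2 (iv F59293) D31059 (iv D28009)
theorem F68740 : act 0 n31059 = n31059 := d3_3 F68739 F63000 (iv F68739)
def n31060 : Q := act 6 n28008
theorem D31060 : act 6 n28008 = n31060 := rfl
theorem F68741 : act 0 n31060 = n28524 := d5_1 D31060 (iv F68715) F68710
theorem F68742 : act 2 n31060 = n28011 := d14_1 D31060 (iv D28011) (iv F59292)
theorem F68743 : act 3 n31060 = n29310 := d17_1 D31060 (iv F68737) F68735
theorem F68744 : act 4 n31060 = n28010 := d19_1 D31060 (iv D28010) (iv F59293)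
theorem F68745 : act 5 n31060 = n31045 := d20_1 D31060 F68677 D31053 F68715 F60834 F59220 D28008
theorem F68746 : act 1 n31057 = n31060 := d9_5 F68745 F68674 F63200 (iv F63206) (iv F68732)
theorem F68747 : act 6 n31059 = n31056 := d10_4 D31057 F68746 (iv D31060) D31059 (iv D31056)
def n31061 : Q := act 6 n28009
theorem D31061 : act 6 n28009 = n31061 := rfl
theorem F68748 : act 0 n31061 = n31061 := d5_1 D31061 (iv D31061) F63000
theorem F68749 : act 1 n31061 = n31055 := d10_1 D31061 F68724 F63144 (iv D28010) D28009
theorem F68750 : act 2 n31061 = n31061 := d14_1 D31061 (iv D31061) F59294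
theorem F68751 : act 4 n31061 = n31056 := d19_1 D31061 (iv F68747) F68739
theorem F68752 : act 5 n31061 = n31059 := d22_2 F68726 D31061 F68747 F68727
def n31062 : Q := act 0 n28012
theorem D31062 : act 0 n28012 = n31062 := rfl
theorem F68753 : act 3 n31062 = n28013 := d2_2 (iv F59303) D31062 (iv D28013)
theorem F68754 : act 6 n31062 = n31062 := d5_2 F59304 D31062 (iv D31062)
theorem F68755 : act 1 n30971 = n31062 := d7_3 F68753 (iv F59307) (iv F68415)
def n31063 : Q := act 2 n28012
theorem D31063 : act 2 n28012 = n31063 := rfl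
theorem F68756 : act 1 n31063 = n29679 := d6_1 D31063 F64073 F63144 F59296 D28012
theorem F68757 : act 6 n31063 = n31063 := d14_2 F59304 D31063 (iv D31063)
theorem F68758 : act 3 n29678 = n31063 := d7_0 F68756 (iv D29679) D29678
def n31064 : Q := act 5 n28014
theorem D31064 : act 5 n28014 = n31064 := rfl
theorem F68759 : act 1 n31064 = n30996 := d9_1 D31064 F68500 F66052 (iv D28017) (iv F59308)
theorem F68760 : act 2 n31064 = n28015 := d13_1 D31064 (iv D28015) D28014
theorem F68761 : act 4 n31064 = n28239 := d18_1 D31064 (iv D28239) (iv F59309)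
def n31065 : Q := act 5 n28020
theorem D31065 : act 5 n28020 = n31065 := rfl
theorem F68762 : act 0 n31065 = n28033 := d4_1 D31065 (iv D28033) (iv F59331)
theorem F68763 : act 3 n31065 = n28021 := d16_1 D31065 (iv D28021) D28020
theorem F68764 : act 4 n31065 = n29290 := d18_1 D31065 F62996 (iv F59332)
theorem F68765 : act 6 n31065 = n31006 := d22_1 D31065 (iv D31006) F59034 (iv F59331)
theorem F68766 : act 1 n30651 = n31065 := d8_3 F68764 F62995 D30651
def n31066 : Q := act 1 n28021
theorem D31066 : act 1 n28021 = n31066 := rfl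
theorem F68767 : act 3 n31066 = n30651 := d7_2 F68763 D31066 F68766
theorem F68768 : act 4 n31066 = n28022 := d8_2 (iv F59335) D31066 (iv D28022)
def n31067 : Q := act 6 n28022
theorem D31067 : act 6 n28022 = n31067 := rfl
theorem F68769 : act 1 n31067 = n31010 := d10_1 D31067 (iv D31010) (iv D27918) (iv F48595) D28022
theorem F68770 : act 3 n31067 = n30493 := d17_1 D31067 (iv D30493) (iv F59337)
def n31068 : Q := act 6 n28023
theorem D31068 : act 6 n28023 = n31068 := rfl
theorem F68771 : act 0 n31068 = n28025 := d5_1 D31068 (iv D28025) D28023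
theorem F68772 : act 1 n31068 = n28798 := d10_1 D31068 F61648 F64515 (iv F64538) (iv F64539)
theorem F68773 : act 2 n31068 = n31031 := d14_1 D31068 F68627 F67463
theorem F68774 : act 3 n31068 = n28027 := d17_1 D31068 (iv D28027) (iv F59338)
theorem F68775 : act 4 n31068 = n30764 := d19_1 D31068 F67699 F67499
theorem F68776 : act 5 n31068 = n30761 := d20_1 D31068 F67687 F57643 D28025 (iv F59357) (iv F67478) F67477
def n31069 : Q := act 5 n28032
theorem D31069 : act 5 n28032 = n31069 := rfl
theorem F68777 : act 2 n31069 = n28033 := d13_1 D31069 (iv D28033) D28032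
theorem F68778 : act 3 n31069 = n30470 := d16_1 D31069 F66706 F59994
theorem F68779 : act 6 n31069 = n30468 := d22_1 D31069 (iv D30468) (iv F60002) F60000
def n31070 : Q := act 1 n28033
theorem D31070 : act 1 n28033 = n31070 := rfl
theorem F68780 : act 3 n31070 = n28034 := d7_2 (iv F59374) D31070 (iv D28034)
theorem F68781 : act 5 n31070 = n28653 := d9_2 D28033 D31070 (iv D28653) (iv D24772) (iv F48609)
def n31071 : Q := act 6 n28033
theorem D31071 : act 6 n28033 = n31071 := rfl
theorem F68782 : act 0 n31071 = n31006 := d5_1 D31071 (iv F68765) F68762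
theorem F68783 : act 2 n31071 = n30468 := d14_1 D31071 (iv F68779) F68777
theorem F68784 : act 3 n31071 = n28035 := d17_1 D31071 (iv D28035) (iv F59374)
theorem F68785 : act 4 n31071 = n29646 := d19_1 D31071 (iv F63942) F60442
theorem F68786 : act 5 n31071 = n30466 := d20_1 D31071 F66690 D31065 F68765 (iv D31006) F59034 D28033
theorem F68787 : act 1 n29645 = n31071 := d9_5 F68786 F66688 F63915 F63913 D29645
def n31072 : Q := act 0 n28034
theorem D31072 : act 0 n28034 = n31072 := rfl
theorem F68788 : act 4 n31072 = n28036 := d3_2 (iv F59375) D31072 (iv D28036)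
theorem F68789 : act 5 n31072 = n28655 := d4_2 (iv F59376) D31072 (iv D28655)
theorem F68790 : act 1 n30127 = n31072 := d8_3 F68788 (iv F59434) (iv F65539)
def n31073 : Q := act 6 n28034
theorem D31073 : act 6 n28034 = n31073 := rfl
theorem F68791 : act 4 n31073 = n28037 := d19_1 D31073 (iv D28037) (iv F59375)
def n31074 : Q := act 1 n28035
theorem D31074 : act 1 n28035 = n31074 := rfl
theorem F68792 : act 3 n31074 = n29645 := d7_2 F68784 D31074 F68787
theorem F68793 : act 4 n31074 = n28038 := d8_2 (iv F59379) D31074 (iv D28038)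
theorem F68794 : act 5 n29644 = n31074 := d16_0 F68792 (iv D29645) D29644
def n31075 : Q := act 0 n28038
theorem D31075 : act 0 n28038 = n31075 := rfl
theorem F68795 : act 3 n31075 = n29139 := d2_2 F62596 D31075 F62612
theorem F68796 : act 6 n31075 = n29137 := d5_2 F61371 D31075 F62608
def n31076 : Q := act 5 n28038
theorem D31076 : act 5 n28038 = n31076 := rfl
theorem F68797 : act 1 n31076 = n29637 := d9_1 D31076 (iv F63923) (iv D27912) (iv F48615) D28038
theorem F68798 : act 3 n31076 = n29642 := d16_1 D31076 (iv F63932) F62596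
theorem F68799 : act 4 n31076 = n29644 := d18_1 D31076 F68794 F68793
def n31077 : Q := act 6 n28042
theorem D31077 : act 6 n28042 = n31077 := rfl
theorem F68800 : act 0 n31077 = n30184 := d5_1 D31077 F65713 F65425
theorem F68801 : act 1 n31077 = n30012 := d10_1 D31077 (iv D30012) F58819 (iv F59022) (iv F59385)
theorem F68802 : act 2 n31077 = n31040 := d14_1 D31077 F68655 (iv F65424)
theorem F68803 : act 3 n31077 = n28046 := d17_1 D31077 (iv D28046) (iv F59386)
theorem F68804 : act 4 n31077 = n30752 := d19_1 D31077 F67656 F67425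
theorem F68805 : act 5 n31077 = n30182 := d20_1 D31077 F65704 (iv F65426) (iv F65713) (iv D30184) F54474 D28042
def n31078 : Q := act 3 n28043
theorem D31078 : act 3 n28043 = n31078 := rfl
theorem F68806 : act 0 n31078 = n28045 := d2_1 D31078 (iv D28045) (iv F59387)
theorem F68807 : act 1 n31078 = n30394 := d7_1 D31078 F66451 (iv F59388)
theorem F68808 : act 2 n31078 = n31041 := d11_1 D31078 (iv D31041) (iv D27971) (iv F59168) F61363 F48620 D24107 D28045 (iv F61360) (iv D27973) (iv D24056) (iv F48499) D27969 F61366 D28043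
theorem F68809 : act 4 n31078 = n30770 := d15_2 (iv F59389) D31078 (iv D30770) F57692 (iv F49264)
def n31079 : Q := act 5 n28048
theorem D31079 : act 5 n28048 = n31079 := rfl
theorem F68810 : act 1 n31079 = n29823 := d9_1 D31079 (iv F64560) F67461 (iv D30699) (iv F59403)
theorem F68811 : act 2 n31079 = n29580 := d13_1 D31079 (iv D29580) (iv F59405)
theorem F68812 : act 3 n31079 = n28049 := d16_1 D31079 (iv D28049) D28048
theorem F68813 : act 4 n31079 = n29585 := d18_1 D31079 (iv D29585) (iv F59404)
theorem F68814 : act 6 n31079 = n30763 := d22_1 D31079 F67696 (iv F64227) (iv F64228)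
def n31080 : Q := act 4 n28054
theorem D31080 : act 4 n28054 = n31080 := rfl
theorem F68815 : act 0 n31080 = n28057 := d3_1 D31080 (iv D28057) (iv F59425)
theorem F68816 : act 1 n31080 = n29508 := d8_1 D31080 (iv F66715) F66713
theorem F68817 : act 2 n31080 = n28055 := d12_1 D31080 (iv D28055) D28054
theorem F68818 : act 3 n31080 = n29507 := d15_1 D31080 F63523 (iv D29297) (iv F59101) (iv F59426)
theorem F68819 : act 5 n31080 = n28069 := d18_2 (iv F59427) D31080 (iv D28069)
def n31081 : Q := act 4 n28056
theorem D31081 : act 4 n28056 = n31081 := rfl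
theorem F68820 : act 0 n31081 = n30174 := d3_1 D31081 F65678 (iv F59432)
theorem F68821 : act 1 n31081 = n28057 := d8_1 D31081 (iv D28057) D28056
theorem F68822 : act 2 n31081 = n31072 := d12_1 D31081 F68788 F59433
def n31082 : Q := act 6 n28056
theorem D31082 : act 6 n28056 = n31082 := rfl
theorem F68823 : act 0 n31082 = n30177 := d5_1 D31082 (iv D30177) (iv F59432)
theorem F68824 : act 1 n31082 = n29481 := d10_1 D31082 F63466 F60893 (iv F50140) D28056
theorem F68825 : act 2 n31082 = n28663 := d14_1 D31082 F61209 F59433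
theorem F68826 : act 3 n31082 = n28651 := d17_1 D31082 F61180 F60898
theorem F68827 : act 5 n31082 = n28662 := d22_2 F61200 D31082 (iv D28662) (iv F61198)
def n31083 : Q := act 2 n28059
theorem D31083 : act 2 n28059 = n31083 := rfl
theorem F68828 : act 0 n31083 = n30033 := d1_1 D31083 F65258 F59442
theorem F68829 : act 4 n31083 = n30025 := d12_2 (iv F59441) D31083 F65242
theorem F68830 : act 5 n31083 = n30024 := d13_2 F59443 D31083 F65240
def n31084 : Q := act 5 n28064
theorem D31084 : act 5 n28064 = n31084 := rfl
theorem F68831 : act 0 n31084 = n28786 := d4_1 D31084 (iv D28786) (iv F59459)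
theorem F68832 : act 1 n31084 = n30843 := d9_1 D31084 F67960 (iv F67580) F67582 (iv F59460)
theorem F68833 : act 2 n31084 = n30868 := d13_1 D31084 (iv D30868) (iv F59461)
theorem F68834 : act 3 n31084 = n28251 := d16_1 D31084 (iv D28251) (iv F59462)
theorem F68835 : act 4 n31084 = n28065 := d18_1 D31084 (iv D28065) D28064
theorem F68836 : act 6 n31084 = n30851 := d20_2 F67985 D31084 (iv D30851) F57970 D28786 (iv F68608) F68607
def n31085 : Q := act 3 n28069
theorem D31085 : act 3 n28069 = n31085 := rfl
theorem F68837 : act 0 n31085 = n28077 := d2_1 D31085 (iv D28077) (iv F59479)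
theorem F68838 : act 1 n31085 = n28616 := d7_1 D31085 F61070 (iv F59480)
theorem F68839 : act 2 n31085 = n29085 := d11_1 D31085 (iv F62520) (iv D28260) (iv D24391) F37875 (iv F37329) (iv F48689) D28077 (iv F59501) D29086 F62525 (iv D28254) F49349 (iv F48679) (iv F59481)
theorem F68840 : act 4 n31085 = n29438 := d15_2 D28069 D31085 F63345 F52748 (iv F48667)
theorem F68841 : act 5 n31085 = n29507 := d16_2 F68819 D31085 (iv F68818)
theorem F68842 : act 6 n29437 = n31085 := d22_1 (iv F63343) F68841 (iv F63525) F63377
def n31086 : Q := act 6 n28069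
theorem D31086 : act 6 n28069 = n31086 := rfl
theorem F68843 : act 0 n31086 = n28078 := d5_1 D31086 (iv D28078) (iv F59479)
theorem F68844 : act 1 n31086 = n28801 := d10_1 D31086 (iv D28801) (iv D24893) D24894 (iv F59480)
theorem F68845 : act 2 n31086 = n28071 := d14_1 D31086 (iv D28071) (iv F59481)
theorem F68846 : act 3 n31086 = n29437 := d17_1 D31086 F68842 (iv D31085)
theorem F68847 : act 4 n31086 = n28070 := d19_1 D31086 (iv D28070) D28069
theorem F68848 : act 5 n31086 = n28549 := d22_2 F68819 D31086 F60896 (iv F68815)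
def n31087 : Q := act 6 n28073
theorem D31087 : act 6 n28073 = n31087 := rfl
theorem F68849 : act 0 n31087 = n28076 := d5_1 D31087 (iv D28076) D28073
theorem F68850 : act 2 n31087 = n28119 := d14_1 D31087 (iv D28119) (iv F59494)
theorem F68851 : act 4 n31087 = n29489 := d19_1 D31087 (iv F65627) F65626
theorem F68852 : act 5 n31087 = n29488 := d22_2 F63537 D31087 (iv F63482) (iv F63534)
def n31088 : Q := act 6 n28074
theorem D31088 : act 6 n28074 = n31088 := rfl
theorem F68853 : act 0 n31088 = n29489 := d5_1 D31088 (iv F65627) F65624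
theorem F68854 : act 2 n31088 = n28121 := d14_1 D31088 (iv D28121) (iv F59496)
theorem F68855 : act 3 n31088 = n29084 := d17_1 D31088 (iv D29084) F59497
theorem F68856 : act 4 n31088 = n28076 := d19_1 D31088 (iv D28076) D28074
theorem F68857 : act 5 n31088 = n29482 := d20_1 D31088 F63469 F65628 F65627 (iv D29489) D29490 (iv F63491)
def n31089 : Q := act 1 n28076
theorem D31089 : act 1 n28076 = n31089 := rfl
theorem F68858 : act 2 n31089 = n31089 := d6_2 (iv F59499) D31089 (iv D31089) F59499 F48749
theorem F68859 : act 6 n31089 = n28079 := d10_2 D28076 D31089 (iv D28079) (iv D24134) D24132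
theorem F68860 : act 0 n31089 = n31089 := d5_3 F68859 F63062 (iv F68859)
def n31090 : Q := act 5 n28076
theorem D31090 : act 5 n28076 = n31090 := rfl
theorem F68861 : act 0 n31090 = n29488 := d4_1 D31090 (iv F68852) F68849
theorem F68862 : act 2 n31090 = n28123 := d13_1 D31090 (iv D28123) (iv F59499)
theorem F68863 : act 3 n31090 = n29512 := d16_1 D31090 F63543 F62547
theorem F68864 : act 4 n31090 = n29482 := d18_1 D31090 (iv F68857) F68856
theorem F68865 : act 6 n31090 = n29511 := d20_2 D28076 D31090 F63537 D31087 F68852 (iv F63482) (iv D28075)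
def n31091 : Q := act 6 n28077
theorem D31091 : act 6 n28077 = n31091 := rfl
theorem F68866 : act 0 n31091 = n29437 := d5_1 D31091 F68842 F68837
theorem F68867 : act 2 n31091 = n29088 := d14_1 D31091 (iv D29088) F59501
theorem F68868 : act 3 n31091 = n28078 := d17_1 D31091 (iv D28078) D28077
theorem F68869 : act 4 n31091 = n29435 := d19_1 D31091 F63341 F60395
theorem F68870 : act 5 n31091 = n29453 := d20_1 D31091 F63525 (iv F68841) (iv F68842) F63343 D29457 (iv F63386)
def n31092 : Q := act 1 n28078
theorem D31092 : act 1 n28078 = n31092 := rfl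
theorem F68871 : act 2 n31092 = n31092 := d6_2 (iv F59502) D31092 (iv D31092) F59502 F48691
theorem F68872 : act 4 n31092 = n28079 := d8_2 (iv F59503) D31092 (iv D28079)
theorem F68873 : act 0 n31092 = n31092 := d3_3 F68872 F63062 (iv F68872)
theorem F68874 : act 5 n31092 = n31089 := d23_4 (iv D28081) (iv F59502) D31092 F68873 F68858 (iv D31089) (iv F68849) F68852 F63483 F65560 F65271 (iv D26314) (iv F54205) (iv D26303) (iv F54196) D30025 F65242 F59439 (iv F59509)
def n31093 : Q := act 5 n28078
theorem D31093 : act 5 n28078 = n31093 := rfl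
theorem F68875 : act 0 n31093 = n28549 := d4_1 D31093 (iv F68848) F68843
theorem F68876 : act 1 n31093 = n31090 := d9_1 D31093 (iv D31090) D31089 (iv F68874) (iv D31092)
theorem F68877 : act 2 n31093 = n28081 := d13_1 D31093 (iv D28081) (iv F59502)
theorem F68878 : act 3 n31093 = n29453 := d16_1 D31093 (iv F68870) F68868
theorem F68879 : act 4 n31093 = n28080 := d18_1 D31093 (iv D28080) (iv F59503)
theorem F68880 : act 6 n31093 = n31080 := d20_2 D28078 D31093 F68819 D31086 F68848 F60896 F59436
def n31094 : Q := act 5 n28079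
theorem D31094 : act 5 n28079 = n31094 := rfl
theorem F68881 : act 0 n31094 = n31094 := d4_1 D31094 (iv D31094) F63062
theorem F68882 : act 1 n31094 = n31088 := d9_1 D31094 F68857 F63468 (iv D28080) D28079
theorem F68883 : act 2 n31094 = n31094 := d13_1 D31094 (iv D31094) F59504
theorem F68884 : act 4 n31094 = n31089 := d18_1 D31094 (iv F68874) F68872
theorem F68885 : act 6 n31094 = n31092 := d22_1 D31094 F68874 F68859 F63062
def n31095 : Q := act 0 n28082
theorem D31095 : act 0 n28082 = n31095 := rfl
theorem F68886 : act 3 n31095 = n28083 := d2_2 (iv F59513) D31095 (iv D28083)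
theorem F68887 : act 5 n31095 = n31095 := d4_2 F59514 D31095 (iv D31095)
theorem F68888 : act 1 n30968 = n31095 := d7_3 F68886 (iv F59517) (iv F68409)
def n31096 : Q := act 2 n28082
theorem D31096 : act 2 n28082 = n31096 := rfl
theorem F68889 : act 1 n31096 = n29909 := d6_1 D31096 F64854 F63468 F59506 D28082
theorem F68890 : act 5 n31096 = n31096 := d13_2 F59514 D31096 (iv D31096)
theorem F68891 : act 3 n29908 = n31096 := d7_0 F68889 (iv D29909) D29908
def n31097 : Q := act 6 n28084
theorem D31097 : act 6 n28084 = n31097 := rfl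
theorem F68892 : act 1 n31097 = n31021 := d10_1 D31097 F68583 F66281 (iv D28087) (iv F59518)
theorem F68893 : act 2 n31097 = n28085 := d14_1 D31097 (iv D28085) D28084
theorem F68894 : act 4 n31097 = n28261 := d19_1 D31097 (iv D28261) (iv F59519)
def n31098 : Q := act 5 n28089
theorem D31098 : act 5 n28089 = n31098 := rfl
theorem F68895 : act 0 n31098 = n28096 := d4_1 D31098 (iv D28096) (iv F59536)
theorem F68896 : act 1 n31098 = n29983 := d9_1 D31098 F65118 F64420 F63577 F63574
theorem F68897 : act 2 n31098 = n28091 := d13_1 D31098 (iv D28091) D28089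
theorem F68898 : act 3 n31098 = n29990 := d16_1 D31098 (iv D29990) (iv F59537)
theorem F68899 : act 6 n31098 = n29988 := d22_1 D31098 F65131 (iv D28097) (iv F59536)
def n31099 : Q := act 6 n28089
theorem D31099 : act 6 n28089 = n31099 := rfl
theorem F68900 : act 0 n31099 = n28097 := d5_1 D31099 (iv D28097) (iv F59536)
theorem F68901 : act 2 n31099 = n28092 := d14_1 D31099 (iv D28092) D28089
theorem F68902 : act 3 n31099 = n29991 := d17_1 D31099 (iv D29991) (iv F59537)
theorem F68903 : act 4 n31099 = n28114 := d19_1 D31099 (iv F64436) F64434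
theorem F68904 : act 5 n31099 = n28113 := d20_1 D31099 (iv F59593) (iv D28096) D28097 (iv F65131) (iv F68899) (iv D31098)
theorem F68905 : act 1 n29915 = n31099 := d24_14 (iv D31099) D31098 F68896 (iv D29983) (iv F54102) F55309 (iv D26035) (iv D21618) (iv D16338) (iv F28232) D21566 D25946 D29710 (iv F64876)
def n31100 : Q := act 1 n28091
theorem D31100 : act 1 n28091 = n31100 := rfl
theorem F68906 : act 2 n31100 = n30331 := d6_2 F68897 D31100 (iv D30331) (iv F65116) (iv F68896)
theorem F68907 : act 3 n31100 = n28093 := d7_2 (iv F59542) D31100 (iv D28093)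
theorem F68908 : act 5 n31100 = n29901 := d9_2 D28091 D31100 (iv F66993) (iv D30552) (iv F56749)
theorem F68909 : act 0 n29904 = n31100 := d4_3 F68908 F64829 D29904
def n31101 : Q := act 4 n28094
theorem D31101 : act 4 n28094 = n31101 := rfl
theorem F68910 : act 0 n31101 = n29989 := d3_1 D31101 (iv D29989) (iv F59551)
theorem F68911 : act 2 n31101 = n29984 := d12_1 D31101 (iv D29984) (iv F59552)
def n31102 : Q := act 5 n28094
theorem D31102 : act 5 n28094 = n31102 := rfl
theorem F68912 : act 0 n31102 = n29990 := d4_1 D31102 (iv D29990) (iv F59551)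
theorem F68913 : act 2 n31102 = n29985 := d13_1 D31102 (iv D29985) (iv F59552)
theorem F68914 : act 3 n31102 = n28096 := d16_1 D31102 (iv D28096) D28094
def n31103 : Q := act 6 n28094
theorem D31103 : act 6 n28094 = n31103 := rfl
theorem F68915 : act 0 n31103 = n29991 := d5_1 D31103 (iv D29991) (iv F59551)
theorem F68916 : act 2 n31103 = n29986 := d14_1 D31103 (iv D29986) (iv F59552)
theorem F68917 : act 3 n31103 = n28097 := d17_1 D31103 (iv D28097) D28094
theorem F68918 : act 1 n29691 = n31103 := d7_3 F68917 F64397 D29691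
def n31104 : Q := act 3 n28095
theorem D31104 : act 3 n28095 = n31104 := rfl
theorem F68919 : act 1 n31104 = n29420 := d7_1 D31104 F63309 F59648
theorem F68920 : act 2 n31104 = n29794 := d21_2 (iv F59553) D31104 F64446 F53529 F42352 (iv F48744) (iv F59539) F59538
theorem F68921 : act 6 n29789 = n31104 := d14_0 F68920 (iv D29794) (iv F64439)
def n31105 : Q := act 6 n28095
theorem D31105 : act 6 n28095 = n31105 := rfl
theorem F68922 : act 0 n31105 = n28114 := d5_1 D31105 (iv F64436) F64433
theorem F68923 : act 1 n31105 = n29692 := d10_1 D31105 (iv F64916) (iv F65087) F65091 F59648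
theorem F68924 : act 2 n31105 = n28098 := d14_1 D31105 (iv D28098) (iv F59553)
theorem F68925 : act 3 n31105 = n29789 := d17_1 D31105 F68921 (iv D31104)
theorem F68926 : act 4 n31105 = n28097 := d19_1 D31105 (iv D28097) D28095
theorem F68927 : act 5 n28109 = n31105 := d22_0 (iv D31105) F59598 (iv D28115) (iv F59580)
def n31106 : Q := act 1 n28096
theorem D31106 : act 1 n28096 = n31106 := rfl
theorem F68928 : act 0 n31106 = n31106 := d0_1 D31106 (iv D31106) (iv F68895) F68896 (iv F66112) F66113 F66112 (iv F68896) F68895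
theorem F68929 : act 2 n31106 = n31106 := d6_2 (iv F59554) D31106 (iv D31106) F59554 F48716
def n31107 : Q := act 6 n28100
theorem D31107 : act 6 n28100 = n31107 := rfl
theorem F68930 : act 0 n31107 = n30990 := d5_1 D31107 F68477 F67003
theorem F68931 : act 1 n31107 = n29907 := d10_1 D31107 F64850 (iv D28093) (iv F48722) D28100
theorem F68932 : act 2 n31107 = n28283 := d14_1 D31107 (iv F66065) F66062
theorem F68933 : act 4 n31107 = n28263 := d19_1 D31107 (iv D28263) (iv F59564)
theorem F68934 : act 5 n31107 = n30340 := d20_1 D31107 (iv F68381) F68380 (iv F68477) (iv D30990) (iv F65236) F65235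
def n31108 : Q := act 5 n28101
theorem D31108 : act 5 n28101 = n31108 := rfl
theorem F68935 : act 0 n31108 = n28104 := d4_1 D31108 (iv D28104) (iv F59565)
theorem F68936 : act 2 n31108 = n29348 := d13_1 D31108 (iv F65344) (iv F65346)
theorem F68937 : act 3 n31108 = n30836 := d16_1 D31108 (iv D30836) (iv F59566)
theorem F68938 : act 4 n31108 = n28102 := d18_1 D31108 (iv D28102) D28101
theorem F68939 : act 6 n31108 = n29345 := d22_1 D31108 F63159 (iv D28105) (iv F59565)
def n31109 : Q := act 6 n28101
theorem D31109 : act 6 n28101 = n31109 := rfl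
theorem F68940 : act 0 n31109 = n28105 := d5_1 D31109 (iv D28105) (iv F59565)
theorem F68941 : act 2 n31109 = n28298 := d14_1 D31109 F65345 (iv F65346)
theorem F68942 : act 3 n31109 = n29680 := d17_1 D31109 F64079 (iv F59566)
theorem F68943 : act 4 n31109 = n28103 := d19_1 D31109 (iv D28103) D28101
theorem F68944 : act 5 n31109 = n29679 := d20_1 D31109 F64075 (iv D28104) D28105 (iv F63159) (iv F68939) (iv D31108)
def n31110 : Q := act 1 n28106
theorem D31110 : act 1 n28106 = n31110 := rfl
theorem F68945 : act 2 n31110 = n29607 := d6_2 F68729 D31110 F63805 (iv F68742) (iv F68746)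
theorem F68946 : act 3 n31110 = n29187 := d7_2 F59625 D31110 F62704
theorem F68947 : act 4 n31110 = n31063 := d8_2 F64074 D31110 F68756
theorem F68948 : act 5 n31110 = n30852 := d9_2 (iv F59574) D31110 F67993 D30855 (iv F68001)
theorem F68949 : act 6 n31110 = n31110 := d10_2 D28106 D31110 (iv D31110) (iv D28106) F48725
def n31111 : Q := act 6 n28109
theorem D31111 : act 6 n28109 = n31111 := rfl
theorem F68950 : act 0 n31111 = n28115 := d5_1 D31111 (iv D28115) (iv F59580)
theorem F68951 : act 1 n31111 = n29782 := d10_1 D31111 F65115 F65111 F63242 F63239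
theorem F68952 : act 2 n31111 = n28110 := d14_1 D31111 (iv D28110) D28109
theorem F68953 : act 3 n31111 = n29790 := d17_1 D31111 (iv D29790) (iv F59581)
theorem F68954 : act 4 n31111 = n31098 := d19_1 D31111 F68899 F65130
theorem F68955 : act 5 n31111 = n29787 := d20_1 D31111 F64436 (iv D28114) D28115 (iv F59598) D31105 (iv F68927)
def n31112 : Q := act 1 n28110
theorem D31112 : act 1 n28110 = n31112 := rfl
theorem F68956 : act 2 n31112 = n30368 := d6_2 F68952 D31112 (iv D30368) (iv F64424) (iv F68951)
theorem F68957 : act 3 n31112 = n28111 := d7_2 (iv F59583) D31112 (iv D28111)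
theorem F68958 : act 4 n31112 = n31100 := d8_2 (iv F59584) D31112 (iv D31100)
theorem F68959 : act 6 n31112 = n29671 := d10_2 D28110 D31112 F67010 (iv D30556) (iv F56768)
theorem F68960 : act 0 n29675 = n31112 := d5_3 F68959 F64051 D29675
def n31113 : Q := act 4 n28112
theorem D31113 : act 4 n28112 = n31113 := rfl
theorem F68961 : act 0 n31113 = n29788 := d3_1 D31113 (iv D29788) (iv F59590)
theorem F68962 : act 2 n31113 = n29783 := d12_1 D31113 (iv D29783) (iv F59591)
def n31114 : Q := act 5 n28112
theorem D31114 : act 5 n28112 = n31114 := rfl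
theorem F68963 : act 0 n31114 = n29789 := d4_1 D31114 (iv D29789) (iv F59590)
theorem F68964 : act 2 n31114 = n29784 := d13_1 D31114 (iv D29784) (iv F59591)
theorem F68965 : act 3 n31114 = n28114 := d16_1 D31114 (iv D28114) D28112
theorem F68966 : act 1 n29914 = n31114 := d7_3 F68965 F59595 D29914
def n31115 : Q := act 6 n28112
theorem D31115 : act 6 n28112 = n31115 := rfl
theorem F68967 : act 0 n31115 = n29790 := d5_1 D31115 (iv D29790) (iv F59590)
theorem F68968 : act 2 n31115 = n29785 := d14_1 D31115 (iv D29785) (iv F59591)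
theorem F68969 : act 3 n31115 = n28115 := d17_1 D31115 (iv D28115) D28112
theorem F68970 : act 5 n31115 = n31104 := d22_2 (iv D31114) D31115 (iv F68921) (iv F68963)
def n31116 : Q := act 3 n28113
theorem D31116 : act 3 n28113 = n31116 := rfl
theorem F68971 : act 1 n31116 = n29560 := d7_1 D31116 F63656 F59701
theorem F68972 : act 5 n31116 = n29991 := d16_2 F68904 D31116 (iv F68902)
theorem F68973 : act 6 n31116 = n31102 := d17_2 F59593 D31116 F68914
theorem F68974 : act 2 n31116 = n29996 := d21_2 (iv F59592) D31116 F65145 F54123 F42476 (iv F48720) (iv F59561) F59560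
def n31117 : Q := act 1 n28115
theorem D31117 : act 1 n28115 = n31117 := rfl
theorem F68975 : act 0 n31117 = n31117 := d0_1 D31117 (iv D31117) (iv F68950) F68951 (iv F66335) F66336 F66335 (iv F68951) F68950
theorem F68976 : act 2 n31117 = n31117 := d6_2 (iv F59596) D31117 (iv D31117) F59596 F48739
theorem F68977 : act 4 n31117 = n31106 := d8_2 (iv F59597) D31117 (iv D31106)
def n31118 : Q := act 5 n28116
theorem D31118 : act 5 n28116 = n31118 := rfl
theorem F68978 : act 0 n31118 = n31016 := d4_1 D31118 F68564 F66986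
theorem F68979 : act 1 n31118 = n29676 := d9_1 D31118 F64064 (iv D28111) (iv F48746) D28116
theorem F68980 : act 2 n31118 = n28273 := d13_1 D31118 (iv F66294) F66291
theorem F68981 : act 4 n31118 = n28262 := d18_1 D31118 (iv D28262) (iv F59599)
theorem F68982 : act 6 n31118 = n30279 := d20_2 F65516 D31118 (iv F68374) F68375 (iv F68564) (iv D31016) (iv F65515)
def n31119 : Q := act 5 n28117
theorem D31119 : act 5 n28117 = n31119 := rfl
theorem F68983 : act 0 n31119 = n28120 := d4_1 D31119 (iv D28120) (iv F59600)
theorem F68984 : act 2 n31119 = n28303 := d13_1 D31119 F65628 (iv F65629)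
theorem F68985 : act 3 n31119 = n29910 := d16_1 D31119 (iv F64860) (iv F59601)
theorem F68986 : act 4 n31119 = n28118 := d18_1 D31119 (iv D28118) D28117
theorem F68987 : act 6 n31119 = n29909 := d22_1 D31119 F64856 (iv D28121) (iv F59600)
def n31120 : Q := act 6 n28117
theorem D31120 : act 6 n28117 = n31120 := rfl
theorem F68988 : act 0 n31120 = n28121 := d5_1 D31120 (iv D28121) (iv F59600)
theorem F68989 : act 2 n31120 = n29489 := d14_1 D31120 (iv F65627) (iv F65629)
theorem F68990 : act 3 n31120 = n30894 := d17_1 D31120 (iv D30894) (iv F59601)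
theorem F68991 : act 4 n31120 = n28119 := d19_1 D31120 (iv D28119) D28117
theorem F68992 : act 5 n31120 = n29487 := d20_1 D31120 F63485 (iv D28120) D28121 (iv F64856) (iv F68987) (iv D31119)
def n31121 : Q := act 1 n28123
theorem D31121 : act 1 n28123 = n31121 := rfl
theorem F68993 : act 2 n31121 = n29844 := d6_2 F68862 D31121 F64616 (iv F68877) F68876
theorem F68994 : act 3 n31121 = n29242 := d7_2 F59683 D31121 F62852
theorem F68995 : act 4 n31121 = n31096 := d8_2 F64855 D31121 F68889
theorem F68996 : act 5 n31121 = n31121 := d9_2 D28123 D31121 (iv D31121) (iv D28123) F48749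
theorem F68997 : act 6 n31121 = n30794 := d10_2 (iv F59611) D31121 F67810 D30797 (iv F67817)
def n31122 : Q := act 5 n28124
theorem D31122 : act 5 n28124 = n31122 := rfl
theorem F68998 : act 0 n31122 = n30796 := d4_1 D31122 F67814 (iv F59612)
theorem F68999 : act 2 n31122 = n30881 := d13_1 D31122 (iv D30881) (iv F59613)
theorem F69000 : act 3 n31122 = n30795 := d16_1 D31122 F67813 (iv F59614)
theorem F69001 : act 4 n31122 = n30907 := d18_1 D31122 (iv D30907) (iv F59615)
def n31123 : Q := act 6 n28124
theorem D31123 : act 6 n28124 = n31123 := rfl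
theorem F69002 : act 0 n31123 = n30801 := d5_1 D31123 (iv D30801) (iv F59612)
theorem F69003 : act 2 n31123 = n30882 := d14_1 D31123 (iv D30882) (iv F59613)
theorem F69004 : act 3 n31123 = n30799 := d17_1 D31123 (iv D30799) (iv F59614)
theorem F69005 : act 4 n31123 = n30908 := d19_1 D31123 (iv D30908) (iv F59615)
def n31124 : Q := act 1 n28125
theorem D31124 : act 1 n28125 = n31124 := rfl
theorem F69006 : act 3 n31124 = n30877 := d7_2 (iv F59618) D31124 F68084
theorem F69007 : act 4 n31124 = n30909 := d8_2 (iv F59619) D31124 (iv D30909)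
theorem F69008 : act 6 n31124 = n30226 := d10_2 F59632 D31124 (iv D30226) D30228 (iv F65864)
theorem F69009 : act 0 n30882 = n31124 := d5_3 F69008 F65851 D30882
theorem F69010 : act 2 n30801 = n31124 := d14_3 F69008 F65852 D30801
def n31125 : Q := act 1 n28126
theorem D31125 : act 1 n28126 = n31125 := rfl
theorem F69011 : act 3 n31125 = n30855 := d7_2 (iv F59622) D31125 (iv F68001)
theorem F69012 : act 4 n31125 = n30910 := d8_2 (iv F59623) D31125 (iv D30910)
theorem F69013 : act 5 n30854 = n31125 := d18_0 F69012 F68181 F67999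
def n31126 : Q := act 3 n28129
theorem D31126 : act 3 n28129 = n31126 := rfl
theorem F69014 : act 0 n31126 = n28135 := d2_1 D31126 (iv D28135) (iv F59633)
theorem F69015 : act 1 n31126 = n29773 := d7_1 D31126 F64346 (iv F59634)
theorem F69016 : act 2 n31126 = n28135 := d21_2 D28129 D31126 (iv D28135) (iv D24173) (iv D19816) F25411 D19816 (iv F48761)
def n31127 : Q := act 5 n28129
theorem D31127 : act 5 n28129 = n31127 := rfl
theorem F69017 : act 0 n31127 = n28137 := d4_1 D31127 (iv D28137) (iv F59633)
theorem F69018 : act 1 n31127 = n29769 := d9_1 D31127 (iv D29769) F53486 D26014 (iv F59634)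
theorem F69019 : act 2 n31127 = n28131 := d13_1 D31127 (iv D28131) D28129
theorem F69020 : act 4 n31127 = n29770 := d18_1 D31127 F64339 F59635
theorem F69021 : act 6 n31127 = n28150 := d20_2 (iv F61427) D31127 (iv F61425) (iv D28138) D28137 F61386 D28158
def n31128 : Q := act 5 n28130
theorem D31128 : act 5 n28130 = n31128 := rfl
theorem F69022 : act 0 n31128 = n28139 := d4_1 D31128 (iv D28139) (iv F59636)
theorem F69023 : act 2 n31128 = n29770 := d13_1 D31128 F64339 (iv F59638)
theorem F69024 : act 3 n31128 = n30913 := d16_1 D31128 (iv D30913) (iv F59639)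
theorem F69025 : act 4 n31128 = n28131 := d18_1 D31128 (iv D28131) D28130
theorem F69026 : act 6 n31128 = n28151 := d20_2 F61421 D31128 F61419 (iv D28140) D28139 F61387 D28160
def n31129 : Q := act 1 n28131
theorem D31129 : act 1 n28131 = n31129 := rfl
theorem F69027 : act 3 n31129 = n28133 := d7_2 (iv F59641) D31129 (iv D28133)
def n31130 : Q := act 0 n28133
theorem D31130 : act 0 n28133 = n31130 := rfl
theorem F69028 : act 4 n31130 = n30915 := d3_2 (iv F59644) D31130 (iv D30915)
def n31131 : Q := act 2 n28133
theorem D31131 : act 2 n28133 = n31131 := rfl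
theorem F69029 : act 1 n31131 = n31131 := d6_1 D31131 (iv D31131) (iv D28133) F48763 D28133
theorem F69030 : act 4 n31131 = n30916 := d12_2 (iv F59644) D31131 (iv D30916)
def n31132 : Q := act 4 n28135
theorem D31132 : act 4 n28135 = n31132 := rfl
theorem F69031 : act 1 n31132 = n31101 := d8_1 D31132 (iv D31101) (iv F59646)
def n31133 : Q := act 5 n28135
theorem D31133 : act 5 n28135 = n31133 := rfl
theorem F69032 : act 3 n31133 = n28137 := d16_1 D31133 (iv D28137) D28135
theorem F69033 : act 6 n28156 = n31133 := d17_0 F69032 F61386 D28156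
def n31134 : Q := act 6 n28135
theorem D31134 : act 6 n28135 = n31134 := rfl
theorem F69034 : act 3 n31134 = n28138 := d17_1 D31134 (iv D28138) D28135
def n31135 : Q := act 5 n28136
theorem D31135 : act 5 n28136 = n31135 := rfl
theorem F69035 : act 0 n31135 = n29770 := d4_1 D31135 F64339 (iv F59647)
theorem F69036 : act 2 n31135 = n28139 := d13_1 D31135 (iv D28139) (iv F59649)
theorem F69037 : act 4 n31135 = n28137 := d18_1 D31135 (iv D28137) D28136
theorem F69038 : act 6 n31135 = n28157 := d20_2 F65091 D31135 (iv F64353) (iv D29774) (iv F64339) F64354 D29976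
def n31136 : Q := act 1 n28137
theorem D31136 : act 1 n28137 = n31136 := rfl
theorem F69039 : act 2 n31136 = n31136 := d6_2 (iv F59650) D31136 (iv D31136) F59650 F48771
theorem F69040 : act 5 n31136 = n31106 := d9_2 D28137 D31136 (iv D31106) (iv D28096) (iv F48768)
theorem F69041 : act 6 n31136 = n31117 := d10_2 (iv F61386) D31136 (iv D31117) (iv D28115) (iv F48799)
theorem F69042 : act 0 n31136 = n31136 := d23_3 D24175 (iv F59650) D31136 F69040 F68929 (iv D31106) (iv F68895) (iv D31098) (iv D28089) F56749 F56748 D27123 F56758 F45435 (iv F56694) F56697 (iv F52397) F58173 F48761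
def n31137 : Q := act 5 n28145
theorem D31137 : act 5 n28145 = n31137 := rfl
theorem F69043 : act 0 n31137 = n30859 := d4_1 D31137 (iv D30859) (iv F59665)
theorem F69044 : act 2 n31137 = n30823 := d13_1 D31137 (iv D30823) (iv F59666)
theorem F69045 : act 3 n31137 = n30857 := d16_1 D31137 (iv D30857) (iv F59667)
theorem F69046 : act 4 n31137 = n30932 := d18_1 D31137 (iv D30932) (iv F59668)
theorem F69047 : act 6 n31137 = n31125 := d22_1 D31137 (iv F69013) F67998 (iv F59665)
theorem F69048 : act 1 n31123 = n31137 := d10_5 F69047 (iv D31125) (iv D28126) D28124 D31123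
def n31138 : Q := act 6 n28145
theorem D31138 : act 6 n28145 = n31138 := rfl
theorem F69049 : act 0 n31138 = n30854 := d5_1 D31138 F67998 (iv F59665)
theorem F69050 : act 2 n31138 = n30824 := d14_1 D31138 (iv D30824) (iv F59666)
theorem F69051 : act 3 n31138 = n30853 := d17_1 D31138 F67997 (iv F59667)
theorem F69052 : act 4 n31138 = n30933 := d19_1 D31138 (iv D30933) (iv F59668)
def n31139 : Q := act 1 n28146
theorem D31139 : act 1 n28146 = n31139 := rfl
theorem F69053 : act 3 n31139 = n30797 := d7_2 (iv F59671) D31139 (iv F67817)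
theorem F69054 : act 4 n31139 = n30934 := d8_2 (iv F59672) D31139 (iv D30934)
theorem F69055 : act 5 n31139 = n31123 := d9_2 D28146 D31139 F69048 (iv D31137) (iv D28145)
theorem F69056 : act 6 n30796 = n31139 := d22_1 (iv F67814) F69055 (iv D31123) F59612
def n31140 : Q := act 1 n28147
theorem D31140 : act 1 n28147 = n31140 := rfl
theorem F69057 : act 3 n31140 = n30818 := d7_2 (iv F59675) D31140 F67895
theorem F69058 : act 4 n31140 = n30935 := d8_2 (iv F59676) D31140 (iv D30935)
theorem F69059 : act 5 n31140 = n30207 := d9_2 F59680 D31140 (iv D30207) D30208 (iv F65806)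
theorem F69060 : act 0 n31140 = n30823 := d23_3 F54540 (iv F59674) D31140 (iv D30823) (iv F59666) (iv D28145) (iv D24179) D24180 F48784 (iv F54524) (iv F65801) (iv D30208) F54521 F52492 F41229 (iv F41218) (iv F52468) (iv F61414) F54541
theorem F69061 : act 2 n30859 = n31140 := d23_1 D30859 (iv D31140) F59673 D28149 F59682 F61414 (iv F62874) F62876 F52501 (iv F52492) F54519 D30206 F65793 F54524 (iv F54530) (iv D26447) (iv F48781) D28145 F59665
def n31141 : Q := act 3 n28150
theorem D31141 : act 3 n28150 = n31141 := rfl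
theorem F69062 : act 0 n31141 = n28156 := d2_1 D31141 (iv D28156) (iv F59686)
theorem F69063 : act 1 n31141 = n29975 := d7_1 D31141 F65083 (iv F59687)
theorem F69064 : act 5 n31141 = n31134 := d16_2 F61425 D31141 F69034
theorem F69065 : act 2 n31141 = n28156 := d21_2 D28150 D31141 (iv D28156) (iv D24186) (iv D19822) F25424 D19822 (iv F48792)
def n31142 : Q := act 4 n28156
theorem D31142 : act 4 n28156 = n31142 := rfl
theorem F69066 : act 1 n31142 = n31113 := d8_1 D31142 (iv D31113) (iv F59699)
def n31143 : Q := act 5 n28156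
theorem D31143 : act 5 n28156 = n31143 := rfl
theorem F69067 : act 0 n31143 = n31134 := d4_1 D31143 (iv F69064) F69062
theorem F69068 : act 2 n31143 = n31134 := d13_1 D31143 (iv F69064) F69065
theorem F69069 : act 3 n31143 = n28158 := d16_1 D31143 (iv D28158) D28156
theorem F69070 : act 6 n31143 = n31126 := d22_3 D31133 (iv F69033) D31143 F69014
def n31144 : Q := act 4 n28195
theorem D31144 : act 4 n28195 = n31144 := rfl
theorem F69071 : act 0 n31144 = n28197 := d3_1 D31144 (iv D28197) (iv F59830)
theorem F69072 : act 1 n31144 = n29655 := d8_1 D31144 F63988 (iv F59831)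
theorem F69073 : act 3 n31144 = n30994 := d15_1 D31144 F68489 (iv F59809) F59810 D28195
theorem F69074 : act 5 n31144 = n30946 := d18_2 (iv F59832) D31144 F68316
def n31145 : Q := act 6 n28197
theorem D31145 : act 6 n28197 = n31145 := rfl
theorem F69075 : act 1 n31145 = n30489 := d10_1 D31145 (iv F66784) (iv F59820) F59822 (iv F59836)
theorem F69076 : act 4 n31145 = n28198 := d19_1 D31145 (iv D28198) D28197
def n31146 : Q := act 2 n28201
theorem D31146 : act 2 n28201 = n31146 := rfl
theorem F69077 : act 4 n31146 = n29137 := d12_2 F59969 D31146 F62610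
theorem F69078 : act 1 n29140 = n31146 := d8_3 F69077 F62609 D29140
def n31147 : Q := act 5 n28201
theorem D31147 : act 5 n28201 = n31147 := rfl
theorem F69079 : act 0 n31147 = n28695 := d4_1 D31147 (iv F61329) F59987
theorem F69080 : act 1 n31147 = n30615 := d9_1 D31147 (iv D30615) F64291 (iv F64313) (iv F64314)
theorem F69081 : act 3 n31147 = n28202 := d16_1 D31147 (iv D28202) D28201
theorem F69082 : act 4 n31147 = n28696 := d18_1 D31147 F61331 F59969
theorem F69083 : act 6 n31147 = n30697 := d22_3 (iv F66984) F66985 D31147 (iv F67448)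
def n31148 : Q := act 4 n28207
theorem D31148 : act 4 n28207 = n31148 := rfl
theorem F69084 : act 0 n31148 = n28209 := d3_1 D31148 (iv D28209) (iv F59870)
theorem F69085 : act 1 n31148 = n29888 := d8_1 D31148 F64779 (iv F59871)
theorem F69086 : act 3 n31148 = n31019 := d15_1 D31148 F68572 (iv F59815) F59816 D28207
theorem F69087 : act 6 n31148 = n30942 := d19_2 (iv F59872) D31148 F68303
def n31149 : Q := act 5 n28209
theorem D31149 : act 5 n28209 = n31149 := rfl
theorem F69088 : act 1 n31149 = n30486 := d9_1 D31149 F66770 (iv F59860) F59861 (iv F59876)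
theorem F69089 : act 4 n31149 = n28210 := d18_1 D31149 (iv D28210) D28209
def n31150 : Q := act 2 n28213
theorem D31150 : act 2 n28213 = n31150 := rfl
theorem F69090 : act 4 n31150 = n29086 := d12_2 F60053 D31150 F62525
theorem F69091 : act 1 n29089 = n31150 := d8_3 F69090 F62524 D29089
def n31151 : Q := act 6 n28213
theorem D31151 : act 6 n28213 = n31151 := rfl
theorem F69092 : act 0 n31151 = n28759 := d5_1 D31151 (iv F61547) F60071
theorem F69093 : act 1 n31151 = n30626 := d10_1 D31151 (iv D30626) F65019 (iv F65059) (iv F65060)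
theorem F69094 : act 3 n31151 = n28214 := d17_1 D31151 (iv D28214) D28213
theorem F69095 : act 4 n31151 = n28760 := d19_1 D31151 F61549 F60053
theorem F69096 : act 5 n31151 = n30759 := d24_1 D31151 (iv D30759) (iv D27432) (iv F57585) (iv F67634) F67636 F61639 (iv D26278) F42221 F42090 (iv F42175) D26235 D29969 (iv F65060)
def n31152 : Q := act 6 n28218
theorem D31152 : act 6 n28218 = n31152 := rfl
theorem F69097 : act 0 n31152 = n31032 := d5_1 D31152 (iv D31032) (iv F59908)
theorem F69098 : act 2 n31152 = n31028 := d14_1 D31152 (iv D31028) (iv F59909)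
theorem F69099 : act 3 n31152 = n28219 := d17_1 D31152 (iv D28219) D28218
def n31153 : Q := act 2 n28220
theorem D31153 : act 2 n28220 = n31153 := rfl
theorem F69100 : act 0 n31153 = n30602 := d1_1 D31153 (iv D30602) (iv F59913)
theorem F69101 : act 4 n31153 = n30568 := d12_2 (iv F59915) D31153 (iv D30568)
theorem F69102 : act 5 n31153 = n30646 := d13_2 (iv F59916) D31153 F67273
theorem F69103 : act 6 n31153 = n30453 := d14_2 (iv F59917) D31153 (iv D30453)
def n31154 : Q := act 3 n28223
theorem D31154 : act 3 n28223 = n31154 := rfl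
theorem F69104 : act 0 n31154 = n28225 := d2_1 D31154 (iv D28225) (iv F59927)
theorem F69105 : act 1 n31154 = n29763 := d7_1 D31154 F64323 (iv F59928)
theorem F69106 : act 2 n31154 = n31075 := d11_1 D31154 F68795 (iv F63047) F63048 F59219 F48514 (iv F49143) D28225 (iv F61370) (iv F62596) (iv F63194) (iv F68676) F68675 F59217 (iv F59929)
theorem F69107 : act 4 n31154 = n30550 := d15_2 D28223 D31154 F66983 F56736 (iv F49133)
theorem F69108 : act 5 n31154 = n28688 := d16_2 (iv F59930) D31154 F61304
theorem F69109 : act 6 n31154 = n28232 := d17_2 (iv F59931) D31154 (iv D28232)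
def n31155 : Q := act 3 n28224
theorem D31155 : act 3 n28224 = n31155 := rfl
theorem F69110 : act 0 n31155 = n30550 := d2_1 D31155 F66983 (iv F59932)
theorem F69111 : act 1 n31155 = n30691 := d7_1 D31155 F67432 (iv F59933)
theorem F69112 : act 4 n31155 = n28225 := d15_2 D28224 D31155 (iv D28225) (iv D24315) D24314
theorem F69113 : act 5 n31155 = n30697 := d16_2 (iv F59935) D31155 F67447
theorem F69114 : act 6 n31155 = n28237 := d17_2 (iv F59936) D31155 (iv D28237)
theorem F69115 : act 2 n31155 = n31074 := d21_2 (iv F59934) D31155 F68792 F63938 F53116 (iv F49909) F49910 (iv F59819)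
def n31156 : Q := act 5 n28225
theorem D31156 : act 5 n28225 = n31156 := rfl
theorem F69116 : act 0 n31156 = n28688 := d4_1 D31156 (iv F69108) F69104
theorem F69117 : act 1 n31156 = n30162 := d9_1 D31156 F65642 (iv F65420) F65423 (iv F59937)
theorem F69118 : act 2 n31156 = n31076 := d13_1 D31156 (iv D31076) F61370
theorem F69119 : act 3 n31156 = n28226 := d16_1 D31156 (iv D28226) D28225
theorem F69120 : act 4 n31156 = n30697 := d18_1 D31156 (iv F69113) F69112
theorem F69121 : act 6 n31156 = n28696 := d20_2 (iv F59938) D31156 F61331 (iv F69109) F69108 F61306 (iv F50426)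
def n31157 : Q := act 3 n28233
theorem D31157 : act 3 n28233 = n31157 := rfl
theorem F69122 : act 0 n31157 = n28235 := d2_1 D31157 (iv D28235) (iv F59970)
theorem F69123 : act 1 n31157 = n28624 := d7_1 D31157 F61093 (iv F59971)
theorem F69124 : act 4 n31157 = n30798 := d15_2 D28233 D31157 F67820 F57855 F49195
theorem F69125 : act 5 n31157 = n28711 := d16_2 (iv F59973) D31157 F61432
theorem F69126 : act 6 n31157 = n28833 := d17_2 (iv F59974) D31157 F61742
theorem F69127 : act 2 n31157 = n28886 := d21_2 (iv F59972) D31157 (iv F66720) F66719 F56317 F44855 (iv F37910) (iv F49390)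
def n31158 : Q := act 3 n28234
theorem D31158 : act 3 n28234 = n31158 := rfl
theorem F69128 : act 0 n31158 = n30798 := d2_1 D31158 F67820 (iv F59975)
theorem F69129 : act 1 n31158 = n28237 := d7_1 D31158 (iv D28237) (iv F59976)
theorem F69130 : act 2 n31158 = n29509 := d11_1 D31158 F63531 F52871 F41486 (iv F42110) (iv F53935) (iv F57854) (iv F67820) F67819 F61254 F52882 F41497 (iv F42124) (iv F53972) (iv F59977)
theorem F69131 : act 4 n31158 = n28235 := d15_2 D28234 D31158 (iv D28235) (iv D24336) D24335
theorem F69132 : act 5 n31158 = n28709 := d16_2 (iv F59978) D31158 F61357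
theorem F69133 : act 6 n31158 = n29942 := d17_2 (iv F59979) D31158 F64963
def n31159 : Q := act 2 n28235
theorem D31159 : act 2 n28235 = n31159 := rfl
theorem F69134 : act 0 n31159 = n28886 := d1_1 D31159 (iv F69127) F69122
theorem F69135 : act 1 n31159 = n30177 := d6_1 D31159 F65690 F61372 (iv D28238) (iv F59980)
theorem F69136 : act 3 n31159 = n30477 := d11_2 D28235 D31159 F66732 F56335 (iv F47529) (iv F49391) (iv F59972) D31157 F69127 (iv F66720) F66719 F56317 F44855 (iv F37910) (iv F49201)
theorem F69137 : act 4 n31159 = n29509 := d12_2 F69131 D31159 (iv F69130)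
theorem F69138 : act 5 n31159 = n28712 := d13_2 (iv F59981) D31159 (iv D28712)
theorem F69139 : act 6 n30178 = n31159 := d20_0 F69138 F61436 D29516 (iv F63553) F66717 F66716 (iv F65693)
def n31160 : Q := act 6 n28235
theorem D31160 : act 6 n28235 = n31160 := rfl
theorem F69140 : act 0 n31160 = n28833 := d5_1 D31160 (iv F69126) F69122
theorem F69141 : act 1 n31160 = n30183 := d10_1 D31160 F65707 (iv F59937) F59938 (iv F59980)
theorem F69142 : act 2 n31160 = n30178 := d14_1 D31160 F69139 (iv D31159)
theorem F69143 : act 3 n31160 = n28236 := d17_1 D31160 (iv D28236) D28235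
theorem F69144 : act 4 n31160 = n29942 := d19_1 D31160 (iv F69133) F69131
theorem F69145 : act 5 n31160 = n28832 := d20_1 D31160 F61740 (iv F69125) F69126 (iv D28833) F50668 (iv F59981)
def n31161 : Q := act 2 n28237
theorem D31161 : act 2 n28237 = n31161 := rfl
theorem F69146 : act 0 n31161 = n31146 := d1_1 D31161 (iv D31146) (iv F59987)
theorem F69147 : act 4 n31161 = n28238 := d12_2 (iv F59988) D31161 (iv D28238)
theorem F69148 : act 6 n31161 = n31074 := d14_2 F69114 D31161 (iv F69115)
theorem F69149 : act 1 n31073 = n31161 := d10_5 F69148 (iv D31074) (iv D28035) D28034 D31073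
def n31162 : Q := act 5 n28242
theorem D31162 : act 5 n28242 = n31162 := rfl
theorem F69150 : act 0 n31162 = n31069 := d4_1 D31162 (iv D31069) (iv F60000)
theorem F69151 : act 2 n31162 = n31065 := d13_1 D31162 (iv D31065) (iv F60001)
theorem F69152 : act 3 n31162 = n28243 := d16_1 D31162 (iv D28243) D28242
def n31163 : Q := act 2 n28244
theorem D31163 : act 2 n28244 = n31163 := rfl
theorem F69153 : act 0 n31163 = n30590 := d1_1 D31163 (iv D30590) (iv F60005)
theorem F69154 : act 4 n31163 = n30571 := d12_2 (iv F60007) D31163 (iv D30571)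
theorem F69155 : act 5 n31163 = n30454 := d13_2 (iv F60008) D31163 (iv D30454)
theorem F69156 : act 6 n31163 = n30665 := d14_2 (iv F60009) D31163 F67327
def n31164 : Q := act 3 n28246
theorem D31164 : act 3 n28246 = n31164 := rfl
theorem F69157 : act 0 n31164 = n28248 := d2_1 D31164 (iv D28248) (iv F60015)
theorem F69158 : act 1 n31164 = n29971 := d7_1 D31164 F65064 (iv F60016)
theorem F69159 : act 2 n31164 = n31038 := d11_1 D31164 F68646 (iv F63383) F63384 F59435 F48635 (iv F49304) D28248 F61367 (iv F62512) (iv F63522) (iv F68818) F68817 F59430 (iv F60017)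
theorem F69160 : act 4 n31164 = n30533 := d15_2 D28246 D31164 F66927 F56661 (iv F49294)
theorem F69161 : act 5 n31164 = n28254 := d16_2 (iv F60018) D31164 (iv D28254)
theorem F69162 : act 6 n31164 = n28752 := d17_2 (iv F60019) D31164 F61522
def n31165 : Q := act 3 n28247
theorem D31165 : act 3 n28247 = n31165 := rfl
theorem F69163 : act 0 n31165 = n30533 := d2_1 D31165 F66927 (iv F60020)
theorem F69164 : act 1 n31165 = n30754 := d7_1 D31165 F67664 (iv F60021)
theorem F69165 : act 4 n31165 = n28248 := d15_2 D28247 D31165 (iv D28248) (iv D24370) D24369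
theorem F69166 : act 5 n31165 = n28259 := d16_2 (iv F60023) D31165 (iv D28259)
theorem F69167 : act 6 n31165 = n30759 := d17_2 (iv F60024) D31165 F67674
theorem F69168 : act 2 n31165 = n31037 := d21_2 (iv F60022) D31165 F68643 F64732 F53719 (iv F50043) F50044 (iv F59859)
def n31166 : Q := act 6 n28248
theorem D31166 : act 6 n28248 = n31166 := rfl
theorem F69169 : act 0 n31166 = n28752 := d5_1 D31166 (iv F69162) F69157
theorem F69170 : act 1 n31166 = n30068 := d10_1 D31166 F65360 (iv F65701) F65704 F61365
theorem F69171 : act 2 n31166 = n31039 := d14_1 D31166 (iv D31039) (iv F61367)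
theorem F69172 : act 3 n31166 = n28249 := d17_1 D31166 (iv D28249) D28248
theorem F69173 : act 4 n31166 = n30759 := d19_1 D31166 (iv F69167) F69165
theorem F69174 : act 5 n31166 = n28760 := d20_1 D31166 F61549 (iv F69161) F69162 F61524 (iv F50530) (iv F60026)
def n31167 : Q := act 3 n28255
theorem D31167 : act 3 n28255 = n31167 := rfl
theorem F69175 : act 0 n31167 = n28257 := d2_1 D31167 (iv D28257) (iv F60054)
theorem F69176 : act 1 n31167 = n28681 := d7_1 D31167 F61276 (iv F60055)
theorem F69177 : act 4 n31167 = n30856 := d15_2 D28255 D31167 F68004 F58033 F49357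
theorem F69178 : act 5 n31167 = n28864 := d16_2 (iv F60057) D31167 F61861
theorem F69179 : act 6 n31167 = n28778 := d17_2 (iv F60058) D31167 F61588
theorem F69180 : act 2 n31167 = n28893 := d21_2 (iv F60056) D31167 (iv F66748) F66747 F56344 F44879 (iv F37922) (iv F49418)
def n31168 : Q := act 3 n28256
theorem D31168 : act 3 n28256 = n31168 := rfl
theorem F69181 : act 0 n31168 = n30856 := d2_1 D31168 F68004 (iv F60059)
theorem F69182 : act 1 n31168 = n28259 := d7_1 D31168 (iv D28259) (iv F60060)
theorem F69183 : act 2 n31168 = n29369 := d11_1 D31168 F63203 F52672 F41353 (iv F41769) (iv F53343) (iv F58032) (iv F68004) F68003 F61075 F52682 F41362 (iv F41783) (iv F53380) (iv F60061)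
theorem F69184 : act 4 n31168 = n28257 := d15_2 D28256 D31168 (iv D28257) (iv D24388) D24387
theorem F69185 : act 5 n31168 = n29724 := d16_2 (iv F60062) D31168 F64199
theorem F69186 : act 6 n31168 = n28774 := d17_2 (iv F60063) D31168 F61577
def n31169 : Q := act 2 n28257
theorem D31169 : act 2 n28257 = n31169 := rfl
theorem F69187 : act 0 n31169 = n28893 := d1_1 D31169 (iv F69180) F69175
theorem F69188 : act 1 n31169 = n30084 := d6_1 D31169 F65407 (iv F61369) (iv D28260) (iv F60064)
theorem F69189 : act 3 n31169 = n30484 := d11_2 D28257 D31169 F66760 F56362 (iv F47606) (iv F49419) (iv F60056) D31167 F69180 (iv F66748) F66747 F56344 F44879 (iv F37922) (iv F49362)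
theorem F69190 : act 4 n31169 = n29369 := d12_2 F69184 D31169 (iv F69183)
theorem F69191 : act 6 n31169 = n28779 := d14_2 (iv F60065) D31169 (iv D28779)
theorem F69192 : act 5 n30085 = n31169 := d20_7 F69191 F61592 D29376 (iv F63223) F66745 F66744 (iv F65410)
def n31170 : Q := act 5 n28257
theorem D31170 : act 5 n28257 = n31170 := rfl
theorem F69193 : act 0 n31170 = n28864 := d4_1 D31170 (iv F69178) F69175
theorem F69194 : act 1 n31170 = n30090 := d9_1 D31170 F65426 F61365 F60026 (iv F60064)
theorem F69195 : act 2 n31170 = n30085 := d13_1 D31170 F69192 (iv D31169)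
theorem F69196 : act 3 n31170 = n28258 := d16_1 D31170 (iv D28258) D28257
theorem F69197 : act 4 n31170 = n29724 := d18_1 D31170 (iv F69185) F69184
theorem F69198 : act 6 n31170 = n28863 := d20_2 (iv F60065) D31170 F61859 (iv F69179) F69178 (iv D28864) F50748
def n31171 : Q := act 2 n28259
theorem D31171 : act 2 n28259 = n31171 := rfl
theorem F69199 : act 0 n31171 = n31150 := d1_1 D31171 (iv D31150) (iv F60071)
theorem F69200 : act 4 n31171 = n28260 := d12_2 (iv F60072) D31171 (iv D28260)
theorem F69201 : act 5 n31171 = n31037 := d13_2 F69166 D31171 (iv F69168)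
theorem F69202 : act 1 n31036 = n31171 := d9_5 F69201 (iv D31037) (iv D27963) D27962 D31036
def n31172 : Q := act 4 n28264
theorem D31172 : act 4 n28264 = n31172 := rfl
theorem F69203 : act 0 n31172 = n28947 := d3_1 D31172 (iv D28947) (iv F60085)
theorem F69204 : act 1 n31172 = n28628 := d8_1 D31172 F61108 (iv F60086)
theorem F69205 : act 2 n31172 = n28265 := d12_1 D31172 (iv D28265) D28264
theorem F69206 : act 3 n31172 = n30254 := d15_1 D31172 F65951 F54722 (iv F51848) (iv F60087)
theorem F69207 : act 5 n31172 = n28265 := d18_2 F60089 D31172 (iv D28265)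
theorem F69208 : act 6 n31172 = n31023 := d19_2 (iv F60088) D31172 F68592
def n31173 : Q := act 4 n28267
theorem D31173 : act 4 n28267 = n31173 := rfl
theorem F69209 : act 0 n31173 = n28951 := d3_1 D31173 (iv D28951) (iv F60097)
theorem F69210 : act 1 n31173 = n28685 := d8_1 D31173 F61293 (iv F60098)
theorem F69211 : act 2 n31173 = n28268 := d12_1 D31173 (iv D28268) D28267
theorem F69212 : act 3 n31173 = n30267 := d15_1 D31173 F65998 F54818 (iv F51888) (iv F60099)
theorem F69213 : act 5 n31173 = n30998 := d18_2 (iv F60100) D31173 F68509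
theorem F69214 : act 6 n31173 = n28268 := d19_2 F60101 D31173 (iv D28268)
def n31174 : Q := act 1 n28270
theorem D31174 : act 1 n28270 = n31174 := rfl
theorem F69215 : act 3 n31174 = n28271 := d7_2 (iv F60109) D31174 (iv D28271)
theorem F69216 : act 4 n31174 = n28836 := d8_2 F60540 D31174 F61772
theorem F69217 : act 6 n31174 = n28831 := d10_2 D28270 D31174 (iv D28831) F50666 (iv F49446)
def n31175 : Q := act 1 n28280
theorem D31175 : act 1 n28280 = n31175 := rfl
theorem F69218 : act 3 n31175 = n28281 := d7_2 (iv F60150) D31175 (iv D28281)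
theorem F69219 : act 4 n31175 = n28862 := d8_2 F60698 D31175 F61854
theorem F69220 : act 5 n31175 = n28859 := d9_2 D28280 D31175 (iv D28859) F50740 (iv F49509)
def n31176 : Q := act 6 n28290
theorem D31176 : act 6 n28290 = n31176 := rfl
theorem F69221 : act 0 n31176 = n29867 := d5_1 D31176 F64704 F62198
theorem F69222 : act 1 n31176 = n30806 := d10_1 D31176 F67850 (iv D30686) F57356 (iv F60192)
theorem F69223 : act 2 n31176 = n28952 := d14_1 D31176 (iv D28952) (iv F60193)
theorem F69224 : act 3 n31176 = n28866 := d17_1 D31176 (iv D28866) (iv F60194)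
theorem F69225 : act 4 n31176 = n28291 := d19_1 D31176 (iv D28291) D28290
theorem F69226 : act 5 n31176 = n30587 := d20_1 D31176 (iv D30587) (iv F62202) (iv F64704) F64703 (iv D28952) (iv F60195)
def n31177 : Q := act 5 n28292
theorem D31177 : act 5 n28292 = n31177 := rfl
theorem F69227 : act 0 n31177 = n29631 := d4_1 D31177 F63895 F62237
theorem F69228 : act 1 n31177 = n30864 := d9_1 D31177 F68036 (iv D30751) F57591 (iv F60200)
theorem F69229 : act 2 n31177 = n28954 := d13_1 D31177 (iv D28954) (iv F60201)
theorem F69230 : act 3 n31177 = n28867 := d16_1 D31177 (iv D28867) (iv F60202)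
theorem F69231 : act 4 n31177 = n28293 := d18_1 D31177 (iv D28293) D28292
theorem F69232 : act 6 n31177 = n30588 := d20_2 (iv F60203) D31177 (iv D30588) (iv F62241) (iv F63895) F63896 (iv D28954)
def n31178 : Q := act 6 n28294
theorem D31178 : act 6 n28294 = n31178 := rfl
theorem F69233 : act 2 n31178 = n28324 := d14_1 D31178 (iv D28324) (iv F60208)
theorem F69234 : act 3 n31178 = n28961 := d17_1 D31178 (iv D28961) (iv F60209)
theorem F69235 : act 4 n31178 = n28295 := d19_1 D31178 (iv D28295) D28294
theorem F69236 : act 1 n30033 = n31178 := d8_3 F69235 F60300 (iv F65259)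
def n31179 : Q := act 5 n28299
theorem D31179 : act 5 n28299 = n31179 := rfl
theorem F69237 : act 2 n31179 = n28332 := d13_1 D31179 (iv D28332) (iv F60219)
theorem F69238 : act 3 n31179 = n28976 := d16_1 D31179 (iv D28976) (iv F60220)
theorem F69239 : act 4 n31179 = n28300 := d18_1 D31179 (iv D28300) D28299
theorem F69240 : act 1 n30128 = n31179 := d8_3 F69239 (iv F60434) (iv F65541)
def n31180 : Q := act 2 n28304
theorem D31180 : act 2 n28304 = n31180 := rfl
theorem F69241 : act 0 n31180 = n28427 := d1_1 D31180 F60545 (iv F60230)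
theorem F69242 : act 1 n31180 = n28341 := d6_1 D31180 F60326 F60278 (iv F59909) (iv F60231)
theorem F69243 : act 5 n31180 = n28312 := d13_2 (iv F60232) D31180 (iv D28312)
theorem F69244 : act 3 n31180 = n28427 := d21_1 D31180 F60545 F49843 (iv D24501) F38149 D24501 (iv F49843) (iv F60230)
theorem F69245 : act 4 n28338 = n31180 := d15_0 F69244 F62195 (iv D28957) F51918 D28338
def n31181 : Q := act 4 n28304
theorem D31181 : act 4 n28304 = n31181 := rfl
theorem F69246 : act 0 n31181 = n28431 := d3_1 D31181 (iv D28431) (iv F60230)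
theorem F69247 : act 1 n31181 = n28420 := d8_1 D31181 F60527 (iv F60231)
theorem F69248 : act 2 n31181 = n28338 := d12_1 D31181 F69245 (iv D31180)
theorem F69249 : act 3 n31181 = n28419 := d15_1 D31181 F60523 (iv D25337) (iv F49613) D28304
theorem F69250 : act 5 n31181 = n28313 := d18_2 (iv F60232) D31181 (iv D28313)
def n31182 : Q := act 2 n28307
theorem D31182 : act 2 n28307 = n31182 := rfl
theorem F69251 : act 0 n31182 = n28481 := d1_1 D31182 F60707 (iv F60239)
theorem F69252 : act 1 n31182 = n28345 := d6_1 D31182 F60335 F60304 (iv F60001) (iv F60240)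
theorem F69253 : act 6 n31182 = n28318 := d14_2 (iv F60241) D31182 (iv D28318)
theorem F69254 : act 3 n31182 = n28481 := d21_1 D31182 F60707 F49980 (iv D24505) F38166 D24505 (iv F49980) (iv F60239)
theorem F69255 : act 4 n28342 = n31182 := d15_0 F69254 F62234 (iv D28972) F51945 D28342
def n31183 : Q := act 4 n28307
theorem D31183 : act 4 n28307 = n31183 := rfl
theorem F69256 : act 0 n31183 = n28485 := d3_1 D31183 (iv D28485) (iv F60239)
theorem F69257 : act 1 n31183 = n28474 := d8_1 D31183 F60689 (iv F60240)
theorem F69258 : act 2 n31183 = n28342 := d12_1 D31183 F69255 (iv D31182)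
theorem F69259 : act 3 n31183 = n28473 := d15_1 D31183 F60685 (iv D25340) (iv F49619) D28307
theorem F69260 : act 6 n31183 = n28319 := d19_2 (iv F60241) D31183 (iv D28319)
def n31184 : Q := act 6 n28310
theorem D31184 : act 6 n28310 = n31184 := rfl
theorem F69261 : act 0 n31184 = n28314 := d5_1 D31184 (iv D28314) (iv F60248)
theorem F69262 : act 1 n31184 = n30758 := d10_1 D31184 (iv D30758) (iv F67391) (iv D28576) (iv F60249)
theorem F69263 : act 3 n31184 = n28311 := d17_1 D31184 (iv D28311) D28310
theorem F69264 : act 5 n31184 = n28349 := d20_1 D31184 F60346 F60232 D28314 F60258 (iv F49844) (iv F60250)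
def n31185 : Q := act 1 n28311
theorem D31185 : act 1 n28311 = n31185 := rfl
theorem F69265 : act 3 n31185 = n30758 := d7_2 F69263 D31185 (iv F69262)
theorem F69266 : act 4 n31185 = n29007 := d8_2 (iv F60253) D31185 (iv D29007)
theorem F69267 : act 6 n31185 = n30756 := d10_2 D28311 D31185 F67670 (iv D28529) F50097
def n31186 : Q := act 0 n28315
theorem D31186 : act 0 n28315 = n31186 := rfl
theorem F69268 : act 4 n31186 = n29010 := d3_2 (iv F60259) D31186 (iv D29010)
theorem F69269 : act 5 n31186 = n28384 := d4_2 (iv F60260) D31186 (iv D28384)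
theorem F69270 : act 6 n31186 = n28327 := d5_2 (iv F60261) D31186 (iv D28327)
def n31187 : Q := act 5 n28316
theorem D31187 : act 5 n28316 = n31187 := rfl
theorem F69271 : act 0 n31187 = n28320 := d4_1 D31187 (iv D28320) (iv F60262)
theorem F69272 : act 1 n31187 = n30696 := d9_1 D31187 (iv D30696) F67429 (iv D28637) (iv F60263)
theorem F69273 : act 3 n31187 = n28317 := d16_1 D31187 (iv D28317) D28316
theorem F69274 : act 6 n31187 = n28355 := d20_2 (iv F60264) D31187 F60358 F60241 D28320 F60272 (iv F49981)
def n31188 : Q := act 1 n28317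
theorem D31188 : act 1 n28317 = n31188 := rfl
theorem F69275 : act 3 n31188 = n30696 := d7_2 F69273 D31188 (iv F69272)
theorem F69276 : act 4 n31188 = n29012 := d8_2 (iv F60267) D31188 (iv D29012)
theorem F69277 : act 5 n31188 = n30694 := d9_2 D28317 D31188 F67443 (iv D28555) F50152
def n31189 : Q := act 0 n28321
theorem D31189 : act 0 n28321 = n31189 := rfl
theorem F69278 : act 2 n31189 = n31186 := d1_2 (iv F60273) D31189 (iv D31186)
theorem F69279 : act 4 n31189 = n29015 := d3_2 (iv F60274) D31189 (iv D29015)
theorem F69280 : act 5 n31189 = n28335 := d4_2 (iv F60275) D31189 (iv D28335)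
theorem F69281 : act 6 n31189 = n28413 := d5_2 (iv F60276) D31189 (iv D28413)
def n31190 : Q := act 6 n28322
theorem D31190 : act 6 n28322 = n31190 := rfl
theorem F69282 : act 0 n31190 = n28324 := d5_1 D31190 (iv D28324) (iv F60277)
theorem F69283 : act 3 n31190 = n29016 := d17_1 D31190 (iv D29016) (iv F60279)
theorem F69284 : act 4 n31190 = n28323 := d19_1 D31190 (iv D28323) D28322
theorem F69285 : act 5 n31190 = n31178 := d22_2 F60328 D31190 (iv D31178) (iv F60325)
def n31191 : Q := act 5 n28324
theorem D31191 : act 5 n28324 = n31191 := rfl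
theorem F69286 : act 0 n31191 = n31178 := d4_1 D31191 (iv F69285) F69282
theorem F69287 : act 2 n31191 = n31190 := d13_1 D31191 F69285 F69233
theorem F69288 : act 3 n31191 = n28428 := d16_1 D31191 F60549 (iv F60283)
theorem F69289 : act 4 n31191 = n28326 := d18_1 D31191 (iv D28326) (iv F60284)
theorem F69290 : act 6 n31191 = n28341 := d20_2 D28324 D31191 F60328 D31190 F69285 (iv D31178) F60210
def n31192 : Q := act 0 n28325
theorem D31192 : act 0 n28325 = n31192 := rfl
theorem F69291 : act 2 n31192 = n29948 := d1_2 F60299 D31192 F64981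
theorem F69292 : act 3 n31192 = n28327 := d2_2 (iv F60285) D31192 (iv D28327)
theorem F69293 : act 5 n31192 = n29947 := d4_2 (iv F60298) D31192 F64977
def n31193 : Q := act 1 n28327
theorem D31193 : act 1 n28327 = n31193 := rfl
theorem F69294 : act 4 n31193 = n29025 := d8_2 (iv F60290) D31193 (iv D29025)
def n31194 : Q := act 5 n28330
theorem D31194 : act 5 n28330 = n31194 := rfl
theorem F69295 : act 0 n31194 = n28332 := d4_1 D31194 (iv D28332) (iv F60303)
theorem F69296 : act 3 n31194 = n29027 := d16_1 D31194 (iv D29027) (iv F60305)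
theorem F69297 : act 4 n31194 = n28331 := d18_1 D31194 (iv D28331) D28330
theorem F69298 : act 6 n31194 = n31179 := d22_1 D31194 (iv D31179) F60221 (iv F60303)
def n31195 : Q := act 6 n28332
theorem D31195 : act 6 n28332 = n31195 := rfl
theorem F69299 : act 0 n31195 = n31179 := d5_1 D31195 (iv F69298) F69295
theorem F69300 : act 2 n31195 = n31194 := d14_1 D31195 F69298 F69237
theorem F69301 : act 3 n31195 = n28482 := d17_1 D31195 F60711 (iv F60309)
theorem F69302 : act 4 n31195 = n28334 := d19_1 D31195 (iv D28334) (iv F60310)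
theorem F69303 : act 5 n31195 = n28345 := d20_1 D31195 F60337 D31194 F69298 (iv D31179) F60221 D28332
def n31196 : Q := act 0 n28333
theorem D31196 : act 0 n28333 = n31196 := rfl
theorem F69304 : act 2 n31196 = n29730 := d1_2 (iv F60433) D31196 F64216
theorem F69305 : act 3 n31196 = n28335 := d2_2 (iv F60311) D31196 (iv D28335)
theorem F69306 : act 6 n31196 = n29729 := d5_2 F60432 D31196 F64212
def n31197 : Q := act 1 n28335
theorem D31197 : act 1 n28335 = n31197 := rfl
theorem F69307 : act 4 n31197 = n29036 := d8_2 (iv F60316) D31197 (iv D29036)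
def n31198 : Q := act 6 n28338
theorem D31198 : act 6 n28338 = n31198 := rfl
theorem F69308 : act 0 n31198 = n29777 := d5_1 D31198 F64410 F62191
theorem F69309 : act 3 n31198 = n28340 := d17_1 D31198 (iv D28340) D28338
theorem F69310 : act 5 n31198 = n29870 := d20_1 D31198 (iv F64708) (iv F62193) (iv F64410) F64409 D29873 F64721
def n31199 : Q := act 5 n28342
theorem D31199 : act 5 n28342 = n31199 := rfl
theorem F69311 : act 0 n31199 = n29641 := d4_1 D31199 F63928 F62230
theorem F69312 : act 3 n31199 = n28343 := d16_1 D31199 (iv D28343) D28342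
theorem F69313 : act 6 n31199 = n29637 := d20_2 (iv F63920) D31199 (iv F63923) (iv F62232) (iv F63928) (iv D29641) D29640
def n31200 : Q := act 2 n28346
theorem D31200 : act 2 n28346 = n31200 := rfl
theorem F69314 : act 0 n31200 = n28347 := d1_1 D31200 (iv D28347) D28346
theorem F69315 : act 4 n31200 = n29057 := d12_2 (iv F60339) D31200 (iv D29057)
theorem F69316 : act 5 n31200 = n28347 := d13_2 (iv F60341) D31200 (iv D28347)
theorem F69317 : act 6 n31200 = n29466 := d14_2 (iv F60340) D31200 F63418
theorem F69318 : act 3 n29467 = n31200 := d17_3 F69317 (iv D29466) D29467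
def n31201 : Q := act 1 n28347
theorem D31201 : act 1 n28347 = n31201 := rfl
theorem F69319 : act 2 n31201 = n28348 := d6_2 D28347 D31201 (iv D28348) (iv D24503) D24502
theorem F69320 : act 4 n31201 = n29058 := d8_2 (iv F60342) D31201 (iv D29058)
theorem F69321 : act 3 n30074 = n31201 := d15_5 F69320 F62445 F54276 (iv F54272) (iv F65378)
theorem F69322 : act 5 n30073 = n31201 := d18_0 F69320 (iv F62447) (iv F65375)
def n31202 : Q := act 3 n28347
theorem D31202 : act 3 n28347 = n31202 := rfl
theorem F69323 : act 0 n31202 = n29467 := d2_1 D31202 F69318 F69314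
theorem F69324 : act 1 n31202 = n30074 := d7_1 D31202 F69321 (iv D31201)
theorem F69325 : act 4 n31202 = n28564 := d15_2 (iv F60342) D31202 (iv F63087) F62455 (iv D29059)
theorem F69326 : act 5 n31202 = n29467 := d16_2 F69316 D31202 F69318
theorem F69327 : act 6 n31202 = n28561 := d17_2 (iv F60343) D31202 (iv F63095)
theorem F69328 : act 2 n31202 = n28562 := d21_2 D28347 D31202 F60922 (iv F63420) F69318 (iv D31200) F60338 (iv D28346)
def n31203 : Q := act 3 n28348
theorem D31203 : act 3 n28348 = n31203 := rfl
theorem F69329 : act 1 n31203 = n28349 := d7_1 D31203 (iv D28349) D28348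
def n31204 : Q := act 5 n28348
theorem D31204 : act 5 n28348 = n31204 := rfl
theorem F69330 : act 2 n31204 = n30073 := d13_1 D31204 F69322 F69319
theorem F69331 : act 4 n31204 = n29062 := d18_1 D31204 (iv D29062) (iv F60344)
theorem F69332 : act 6 n31204 = n29128 := d22_1 D31204 (iv D29128) (iv F62585) F62583
def n31205 : Q := act 2 n28349
theorem D31205 : act 2 n28349 = n31205 := rfl
theorem F69333 : act 0 n31205 = n28350 := d1_1 D31205 (iv D28350) (iv F60345)
theorem F69334 : act 6 n31205 = n31180 := d14_2 (iv F60346) D31205 (iv D31180)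
theorem F69335 : act 3 n31205 = n28350 := d21_1 D31205 (iv D28350) (iv D24504) (iv D20155) F26017 D20155 D24504 (iv F60345)
theorem F69336 : act 4 n31198 = n31205 := d15_0 F69335 F64411 F64408 F62197 (iv F69309)
def n31206 : Q := act 4 n28349
theorem D31206 : act 4 n28349 = n31206 := rfl
theorem F69337 : act 0 n31206 = n28351 := d3_1 D31206 (iv D28351) (iv F60345)
theorem F69338 : act 2 n31206 = n31198 := d12_1 D31206 F69336 (iv D31205)
theorem F69339 : act 3 n31206 = n29064 := d15_1 D31206 (iv D29064) (iv D25407) (iv F49683) D28349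
theorem F69340 : act 6 n31206 = n31181 := d19_2 (iv F60346) D31206 (iv D31181)
def n31207 : Q := act 2 n28352
theorem D31207 : act 2 n28352 = n31207 := rfl
theorem F69341 : act 0 n31207 = n28353 := d1_1 D31207 (iv D28353) D28352
theorem F69342 : act 4 n31207 = n29068 := d12_2 (iv F60351) D31207 (iv D29068)
theorem F69343 : act 5 n31207 = n29324 := d13_2 (iv F60352) D31207 F63099
theorem F69344 : act 6 n31207 = n28353 := d14_2 (iv F60353) D31207 (iv D28353)
theorem F69345 : act 3 n29325 = n31207 := d16_3 F69343 (iv D29324) D29325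
def n31208 : Q := act 1 n28353
theorem D31208 : act 1 n28353 = n31208 := rfl
theorem F69346 : act 2 n31208 = n28354 := d6_2 D28353 D31208 (iv D28354) (iv D24507) D24506
theorem F69347 : act 4 n31208 = n29069 := d8_2 (iv F60354) D31208 (iv D29069)
theorem F69348 : act 3 n30169 = n31208 := d15_5 F69347 (iv F62481) F54456 (iv F54451) (iv F65663)
theorem F69349 : act 6 n30167 = n31208 := d19_0 F69347 F62480 (iv F65658)
def n31209 : Q := act 3 n28353
theorem D31209 : act 3 n28353 = n31209 := rfl
theorem F69350 : act 0 n31209 = n29325 := d2_1 D31209 F69345 F69341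
theorem F69351 : act 1 n31209 = n30169 := d7_1 D31209 F69348 (iv D31208)
theorem F69352 : act 4 n31209 = n28539 := d15_2 (iv F60354) D31209 F61242 F62486 (iv D29070)
theorem F69353 : act 5 n31209 = n28536 := d16_2 (iv F60355) D31209 F62488
theorem F69354 : act 6 n31209 = n29325 := d17_2 F69344 D31209 F69345
theorem F69355 : act 2 n31209 = n28537 := d21_2 D28353 D31209 F60860 (iv F63101) F69345 (iv D31207) F60350 (iv D28352)
def n31210 : Q := act 3 n28354
theorem D31210 : act 3 n28354 = n31210 := rfl
theorem F69356 : act 1 n31210 = n28355 := d7_1 D31210 (iv D28355) D28354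
def n31211 : Q := act 6 n28354
theorem D31211 : act 6 n28354 = n31211 := rfl
theorem F69357 : act 2 n31211 = n30167 := d14_1 D31211 F69349 F69346
theorem F69358 : act 4 n31211 = n29074 := d19_1 D31211 (iv D29074) (iv F60356)
theorem F69359 : act 5 n31211 = n29179 := d22_2 F62679 D31211 (iv D29179) D29177
def n31212 : Q := act 2 n28355
theorem D31212 : act 2 n28355 = n31212 := rfl
theorem F69360 : act 0 n31212 = n28356 := d1_1 D31212 (iv D28356) (iv F60357)
theorem F69361 : act 5 n31212 = n31182 := d13_2 (iv F60358) D31212 (iv D31182)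
theorem F69362 : act 3 n31212 = n28356 := d21_1 D31212 (iv D28356) (iv D24508) (iv D20160) F26027 D20160 D24508 (iv F60357)
theorem F69363 : act 4 n31199 = n31212 := d15_0 F69362 (iv F63927) F63926 F62236 (iv F69312)
def n31213 : Q := act 4 n28355
theorem D31213 : act 4 n28355 = n31213 := rfl
theorem F69364 : act 0 n31213 = n28357 := d3_1 D31213 (iv D28357) (iv F60357)
theorem F69365 : act 2 n31213 = n31199 := d12_1 D31213 F69363 (iv D31212)
theorem F69366 : act 3 n31213 = n29075 := d15_1 D31213 (iv D29075) (iv D25414) (iv F49695) D28355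
theorem F69367 : act 5 n31213 = n31183 := d18_2 (iv F60358) D31213 (iv D31183)
def n31214 : Q := act 5 n28358
theorem D31214 : act 5 n28358 = n31214 := rfl
theorem F69368 : act 0 n31214 = n30459 := d4_1 D31214 F66661 F60525
theorem F69369 : act 1 n31214 = n28813 := d9_1 D31214 F61680 F60511 F61322 F61319
theorem F69370 : act 2 n31214 = n28359 := d13_1 D31214 (iv D28359) D28358
theorem F69371 : act 3 n31214 = n28813 := d16_1 D31214 F61680 F60513
theorem F69372 : act 4 n31214 = n30456 := d18_1 D31214 F66647 (iv F60361)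
def n31215 : Q := act 6 n28358
theorem D31215 : act 6 n28358 = n31215 := rfl
theorem F69373 : act 2 n31215 = n28360 := d14_1 D31215 (iv D28360) D28358
theorem F69374 : act 3 n31215 = n29842 := d17_1 D31215 F64610 F60513
theorem F69375 : act 4 n31215 = n31032 := d19_1 D31215 (iv D31032) (iv F60361)
def n31216 : Q := act 6 n28359
theorem D31216 : act 6 n28359 = n31216 := rfl
theorem F69376 : act 0 n31216 = n29878 := d5_1 D31216 F64735 F62189
theorem F69377 : act 3 n31216 = n28361 := d17_1 D31216 (iv D28361) (iv F60363)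
theorem F69378 : act 4 n31216 = n30979 := d19_1 D31216 (iv D30979) (iv F60364)
theorem F69379 : act 5 n31216 = n29440 := d20_1 D31216 F63351 (iv F62190) (iv F64735) (iv F64736) (iv D28360) D28359
def n31217 : Q := act 1 n28360
theorem D31217 : act 1 n28360 = n31217 := rfl
theorem F69380 : act 3 n31217 = n28362 := d7_2 (iv F60365) D31217 (iv D28362)
theorem F69381 : act 4 n31217 = n31033 := d8_2 (iv F60366) D31217 (iv D31033)
def n31218 : Q := act 1 n28361
theorem D31218 : act 1 n28361 = n31218 := rfl
theorem F69382 : act 2 n31218 = n29132 := d6_2 (iv F60367) D31218 (iv D29132) F52245 (iv F49703)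
theorem F69383 : act 4 n31218 = n29078 := d8_2 (iv F60368) D31218 (iv D29078)
theorem F69384 : act 5 n31218 = n30673 := d9_2 (iv F60369) D31218 (iv D30673) (iv D27298) (iv F52751)
def n31219 : Q := act 0 n28362
theorem D31219 : act 0 n28362 = n31219 := rfl
theorem F69385 : act 4 n31219 = n29079 := d3_2 (iv F60370) D31219 (iv D29079)
theorem F69386 : act 5 n31219 = n29096 := d22_0 (iv D29096) (iv F61014) F61015 D31219
def n31220 : Q := act 5 n28362
theorem D31220 : act 5 n28362 = n31220 := rfl
theorem F69387 : act 0 n31220 = n29096 := d4_1 D31220 (iv F69386) (iv D31219)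
theorem F69388 : act 4 n31220 = n29080 := d18_1 D31220 (iv D29080) (iv F60370)
theorem F69389 : act 6 n31220 = n29095 := d22_3 (iv F61014) F61015 D31220 (iv D29095)
def n31221 : Q := act 0 n28365
theorem D31221 : act 0 n28365 = n31221 := rfl
theorem F69390 : act 1 n31221 = n31220 := d0_2 D28365 D31221 F69387 (iv F62564) (iv F63959) (iv D28437) F49854 F49718 (iv F49727)
theorem F69391 : act 2 n31221 = n29438 := d1_2 (iv F60397) D31221 F63344
theorem F69392 : act 3 n31221 = n28459 := d2_2 F64594 D31221 (iv F64591)
theorem F69393 : act 4 n31221 = n29085 := d3_2 (iv F60378) D31221 (iv D29085)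
theorem F69394 : act 5 n31221 = n29875 := d4_2 (iv F63380) D31221 F64727
theorem F69395 : act 6 n31221 = n29436 := d5_2 F64587 D31221 (iv F64583)
def n31222 : Q := act 4 n28366
theorem D31222 : act 4 n28366 = n31222 := rfl
theorem F69396 : act 0 n31222 = n28368 := d3_1 D31222 (iv D28368) (iv F60379)
theorem F69397 : act 2 n31222 = n30566 := d12_1 D31222 F67057 F60618
theorem F69398 : act 3 n31222 = n29089 := d15_1 D31222 (iv D29089) (iv D25427) (iv F49728) D28366
theorem F69399 : act 6 n31222 = n28377 := d19_2 (iv F60380) D31222 (iv D28377)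
def n31223 : Q := act 5 n28367
theorem D31223 : act 5 n28367 = n31223 := rfl
theorem F69400 : act 1 n31223 = n29375 := d9_1 D31223 (iv F68005) F68002 F61080 (iv F60381)
theorem F69401 : act 2 n31223 = n28369 := d13_1 D31223 (iv D28369) D28367
theorem F69402 : act 3 n31223 = n28467 := d16_1 D31223 F60666 F60615
theorem F69403 : act 4 n31223 = n28843 := d18_1 D31223 F61795 F61272
theorem F69404 : act 6 n31223 = n28466 := d22_1 D31223 (iv D28466) (iv F60619) F60616
def n31224 : Q := act 5 n28368
theorem D31224 : act 5 n28368 = n31224 := rfl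
theorem F69405 : act 1 n31224 = n28600 := d9_1 D31224 (iv D28600) (iv D24724) D24725 (iv F60383)
theorem F69406 : act 2 n31224 = n28843 := d13_1 D31224 F61795 F61270
theorem F69407 : act 3 n31224 = n29093 := d16_1 D31224 (iv D29093) (iv F60384)
theorem F69408 : act 4 n31224 = n28369 := d18_1 D31224 (iv D28369) D28368
theorem F69409 : act 6 n31224 = n28842 := d22_1 D31224 F61793 (iv F69399) F69396
def n31225 : Q := act 0 n28370
theorem D31225 : act 0 n28370 = n31225 := rfl
theorem F69410 : act 2 n31225 = n30077 := d1_2 F60835 D31225 F65385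
theorem F69411 : act 3 n31225 = n28603 := d2_2 (iv F60388) D31225 F61036
theorem F69412 : act 4 n31225 = n29095 := d3_2 (iv F60389) D31225 (iv D29095)
theorem F69413 : act 5 n31225 = n28593 := d4_2 (iv F60390) D31225 (iv D28593)
theorem F69414 : act 6 n29080 = n31225 := d22_3 F60390 (iv F52187) D29080 (iv D31225)
def n31226 : Q := act 6 n28370
theorem D31226 : act 6 n28370 = n31226 := rfl
theorem F69415 : act 0 n31226 = n29080 := d5_1 D31226 F69414 (iv D31225)
theorem F69416 : act 3 n31226 = n28606 := d17_1 D31226 (iv D28606) (iv F60388)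
theorem F69417 : act 4 n31226 = n29096 := d19_1 D31226 (iv D29096) (iv F60389)
theorem F69418 : act 5 n31226 = n29079 := d20_1 D31226 F62509 (iv F69413) (iv F69414) (iv D29080) F52187 (iv F60390)
def n31227 : Q := act 6 n28371
theorem D31227 : act 6 n28371 = n31227 := rfl
theorem F69419 : act 0 n31227 = n29378 := d5_1 D31227 F63226 F62254
theorem F69420 : act 2 n31227 = n28376 := d14_1 D31227 (iv D28376) (iv F60391)
theorem F69421 : act 3 n31227 = n28985 := d17_1 D31227 F62266 F60393
theorem F69422 : act 4 n31227 = n29099 := d19_1 D31227 (iv D29099) (iv F60392)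
theorem F69423 : act 5 n31227 = n28984 := d20_1 D31227 (iv D28984) (iv F62255) (iv F63226) F63225 (iv F62259) F62258
def n31228 : Q := act 3 n28373
theorem D31228 : act 3 n28373 = n31228 := rfl
theorem F69424 : act 0 n31228 = n28374 := d2_1 D31228 (iv D28374) D28373
theorem F69425 : act 1 n31228 = n29024 := d7_1 D31228 F62347 F60400
theorem F69426 : act 2 n31228 = n28452 := d11_1 D31228 (iv D28452) (iv D24585) (iv F49724) D28364 F60393 F60391 D28374 F60402 (iv D25329) (iv D21116) (iv F40732) D25319 D28981 (iv F62256)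
theorem F69427 : act 4 n31228 = n30305 := d15_2 (iv F60398) D31228 F66143 (iv D30217) F54534
theorem F69428 : act 5 n31228 = n28992 := d16_2 (iv F60399) D31228 F62284
theorem F69429 : act 6 n30160 = n31228 := d20_0 F69428 F62285 (iv F64271) F64272 (iv F60403) D28996 (iv F65636)
def n31229 : Q := act 6 n28373
theorem D31229 : act 6 n28373 = n31229 := rfl
theorem F69430 : act 0 n31229 = n28376 := d5_1 D31229 (iv D28376) D28373
theorem F69431 : act 2 n31229 = n29378 := d14_1 D31229 F63226 (iv F62256)
theorem F69432 : act 3 n31229 = n30160 := d17_1 D31229 F69429 (iv D31228)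
theorem F69433 : act 4 n31229 = n29101 := d19_1 D31229 (iv D29101) (iv F60398)
theorem F69434 : act 5 n31229 = n29404 := d20_1 D31229 F63279 (iv D28375) D28376 (iv F62351) (iv D29026) (iv F60399)
def n31230 : Q := act 1 n28375
theorem D31230 : act 1 n28375 = n31230 := rfl
theorem F69435 : act 2 n31230 = n29162 := d6_2 F62260 D31230 F62649 (iv F63391) F63390
theorem F69436 : act 3 n31230 = n28994 := d7_2 (iv F60405) D31230 (iv D28994)
theorem F69437 : act 4 n31230 = n29105 := d8_2 (iv F60406) D31230 (iv D29105)
theorem F69438 : act 5 n31230 = n28379 := d9_2 D28375 D31230 (iv D28379) (iv D24523) D24521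
def n31231 : Q := act 1 n28378
theorem D31231 : act 1 n28378 = n31231 := rfl
theorem F69439 : act 0 n31231 = n28812 := d0_1 D31231 (iv D28812) F50622 D24922 D28828 F65232 F65229 (iv D28382) (iv F60411)
theorem F69440 : act 3 n31231 = n28379 := d7_2 (iv F60412) D31231 (iv D28379)
theorem F69441 : act 5 n31231 = n28994 := d9_2 D28378 D31231 (iv D28994) F60403 F60401
def n31232 : Q := act 6 n28379
theorem D31232 : act 6 n28379 = n31232 := rfl
theorem F69442 : act 0 n31232 = n29083 := d5_1 D31232 (iv F63954) (iv F63955)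
theorem F69443 : act 1 n31232 = n31226 := d10_1 D31232 (iv D31226) (iv D28370) (iv F49741) D28379
theorem F69444 : act 2 n31232 = n29157 := d14_1 D31232 F62641 (iv F60414)
theorem F69445 : act 4 n31232 = n29111 := d19_1 D31232 (iv D29111) (iv F60415)
def n31233 : Q := act 1 n28380
theorem D31233 : act 1 n28380 = n31233 := rfl
theorem F69446 : act 0 n31233 = n29821 := d0_1 D31233 F64525 F64084 F61764 F42088 (iv F38845) (iv F50701) (iv F60659) F60658
theorem F69447 : act 3 n31233 = n30335 := d7_2 F60651 D31233 (iv F66257)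
theorem F69448 : act 4 n31233 = n29822 := d8_2 F61788 D31233 (iv F64532)
theorem F69449 : act 5 n31233 = n30845 := d9_2 D28380 D31233 F67968 F64275 F53508
theorem F69450 : act 6 n31233 = n29820 := d24_3 F60382 D28380 D31233 (iv F67960) (iv F68832) F68836 (iv D30851) (iv D27569) (iv D23411) (iv F46345) D27438 F61082 F61080 (iv F60381)
def n31234 : Q := act 6 n28380
theorem D31234 : act 6 n28380 = n31234 := rfl
theorem F69451 : act 0 n31234 = n31223 := d5_1 D31234 F69404 F60658
theorem F69452 : act 2 n31234 = n28383 := d14_1 D31234 (iv D28383) (iv F60416)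
theorem F69453 : act 3 n31234 = n28456 := d17_1 D31234 (iv F60653) F60651
theorem F69454 : act 5 n31234 = n28455 := d20_1 D31234 F60619 D28466 (iv F69404) (iv D31223) F60382 D28380
def n31235 : Q := act 6 n28381
theorem D31235 : act 6 n28381 = n31235 := rfl
theorem F69455 : act 0 n31235 = n31224 := d5_1 D31235 F69409 F61791
theorem F69456 : act 3 n31235 = n29119 := d17_1 D31235 (iv D29119) (iv F60417)
theorem F69457 : act 4 n31235 = n28383 := d19_1 D31235 (iv D28383) (iv F60418)
theorem F69458 : act 5 n31235 = n31222 := d20_1 D31235 F69399 (iv F61793) (iv F69409) (iv D31224) F60385 D28381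
def n31236 : Q := act 1 n28384
theorem D31236 : act 1 n28384 = n31236 := rfl
theorem F69459 : act 0 n31236 = n28820 := d0_1 D31236 (iv D28820) (iv F53140) D29650 (iv F63955) (iv D28379) F49738 D24527 D28384
theorem F69460 : act 3 n31236 = n28828 := d7_2 F65231 D31236 F65232
theorem F69461 : act 4 n31236 = n29124 := d8_2 (iv F60424) D31236 (iv D29124)
def n31237 : Q := act 5 n28386
theorem D31237 : act 5 n28386 = n31237 := rfl
theorem F69462 : act 1 n31237 = n29456 := d9_1 D31237 (iv F63380) (iv D28365) (iv F49749) D28386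
theorem F69463 : act 2 n31237 = n30079 := d13_1 D31237 (iv F65406) F63217
theorem F69464 : act 4 n31237 = n29128 := d18_1 D31237 (iv D29128) (iv F60439)
theorem F69465 : act 6 n31237 = n29062 := d22_1 D31237 (iv D29062) D29063 F62457
def n31238 : Q := act 5 n28387
theorem D31238 : act 5 n28387 = n31238 := rfl
theorem F69466 : act 2 n31238 = n28388 := d13_1 D31238 (iv D28388) D28387
theorem F69467 : act 3 n31238 = n29594 := d16_1 D31238 F63760 F60675
theorem F69468 : act 4 n31238 = n31069 := d18_1 D31238 (iv D31069) (iv F60440)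
def n31239 : Q := act 6 n28387
theorem D31239 : act 6 n28387 = n31239 := rfl
theorem F69469 : act 0 n31239 = n30467 := d5_1 D31239 F66695 F60687
theorem F69470 : act 1 n31239 = n28844 := d10_1 D31239 F61798 F60673 F61540 F61537
theorem F69471 : act 2 n31239 = n28389 := d14_1 D31239 (iv D28389) D28387
theorem F69472 : act 3 n31239 = n28844 := d17_1 D31239 F61798 F60675
theorem F69473 : act 4 n31239 = n30464 := d19_1 D31239 F66681 (iv F60440)
def n31240 : Q := act 1 n28388
theorem D31240 : act 1 n28388 = n31240 := rfl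
theorem F69474 : act 3 n31240 = n28390 := d7_2 (iv F60441) D31240 (iv D28390)
theorem F69475 : act 4 n31240 = n31070 := d8_2 (iv F60442) D31240 (iv D31070)
def n31241 : Q := act 5 n28389
theorem D31241 : act 5 n28389 = n31241 := rfl
theorem F69476 : act 0 n31241 = n29646 := d4_1 D31241 F63941 F62228
theorem F69477 : act 3 n31241 = n28392 := d16_1 D31241 (iv D28392) (iv F60444)
theorem F69478 : act 4 n31241 = n31006 := d18_1 D31241 (iv D31006) (iv F60445)
theorem F69479 : act 6 n31241 = n29290 := d20_2 D28389 D31241 F62996 (iv F62229) (iv F63941) (iv F63942) (iv D28388)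
def n31242 : Q := act 0 n28390
theorem D31242 : act 0 n28390 = n31242 := rfl
theorem F69480 : act 4 n31242 = n29129 := d3_2 (iv F60446) D31242 (iv D29129)
theorem F69481 : act 6 n29147 = n31242 := d22_3 (iv F61175) F61176 D29147 (iv D31242)
def n31243 : Q := act 6 n28390
theorem D31243 : act 6 n28390 = n31243 := rfl
theorem F69482 : act 0 n31243 = n29147 := d5_1 D31243 F69481 (iv D31242)
theorem F69483 : act 4 n31243 = n29130 := d19_1 D31243 (iv D29130) (iv F60446)
theorem F69484 : act 5 n29146 = n31243 := d22_0 (iv D31243) (iv F61175) F61176 D29146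
def n31244 : Q := act 1 n28392
theorem D31244 : act 1 n28392 = n31244 := rfl
theorem F69485 : act 2 n31244 = n29078 := d6_2 (iv F60451) D31244 (iv D29078) F52183 (iv F49760)
theorem F69486 : act 4 n31244 = n29132 := d8_2 (iv F60452) D31244 (iv D29132)
theorem F69487 : act 6 n31244 = n30653 := d10_2 (iv F60453) D31244 (iv D30653) (iv D27273) (iv F52559)
def n31245 : Q := act 0 n28394
theorem D31245 : act 0 n28394 = n31245 := rfl
theorem F69488 : act 1 n31245 = n31243 := d0_2 D28394 D31245 F69482 (iv F62649) (iv F62650) (iv D28491) F49990 F49770 (iv F49779)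
theorem F69489 : act 2 n31245 = n29295 := d1_2 (iv F60476) D31245 F63006
theorem F69490 : act 3 n31245 = n28512 := d2_2 F63784 D31245 (iv F63781)
theorem F69491 : act 4 n31245 = n29136 := d3_2 (iv F60457) D31245 (iv D29136)
theorem F69492 : act 5 n31245 = n29293 := d4_2 (iv F63777) D31245 (iv F63773)
theorem F69493 : act 6 n31245 = n29643 := d5_2 (iv F63044) D31245 F63933
def n31246 : Q := act 4 n28395
theorem D31246 : act 4 n28395 = n31246 := rfl
theorem F69494 : act 0 n31246 = n28397 := d3_1 D31246 (iv D28397) (iv F60458)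
theorem F69495 : act 2 n31246 = n30565 := d12_1 D31246 F67053 F60780
theorem F69496 : act 3 n31246 = n29140 := d15_1 D31246 (iv D29140) (iv D25461) (iv F49780) D28395
theorem F69497 : act 5 n31246 = n28406 := d18_2 (iv F60459) D31246 (iv D28406)
def n31247 : Q := act 6 n28396
theorem D31247 : act 6 n28396 = n31247 := rfl
theorem F69498 : act 1 n31247 = n29515 := d10_1 D31247 (iv F67821) F67818 F61264 (iv F60460)
theorem F69499 : act 2 n31247 = n28398 := d14_1 D31247 (iv D28398) D28396
theorem F69500 : act 3 n31247 = n28519 := d17_1 D31247 F60822 F60777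
theorem F69501 : act 4 n31247 = n28816 := d19_1 D31247 F61689 F61089
theorem F69502 : act 5 n31247 = n28518 := d22_2 (iv F60461) D31247 (iv D28518) F50060
def n31248 : Q := act 6 n28397
theorem D31248 : act 6 n28397 = n31248 := rfl
theorem F69503 : act 1 n31248 = n28657 := d10_1 D31248 (iv D28657) (iv D24773) D24774 (iv F60462)
theorem F69504 : act 2 n31248 = n28816 := d14_1 D31248 F61689 F61087
theorem F69505 : act 3 n31248 = n29144 := d17_1 D31248 (iv D29144) (iv F60463)
theorem F69506 : act 4 n31248 = n28398 := d19_1 D31248 (iv D28398) D28397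
theorem F69507 : act 5 n31248 = n28815 := d22_2 (iv F60464) D31248 F61687 F60487
def n31249 : Q := act 0 n28399
theorem D31249 : act 0 n28399 = n31249 := rfl
theorem F69508 : act 2 n31249 = n30170 := d1_2 F60897 D31249 (iv F65666)
theorem F69509 : act 3 n31249 = n28660 := d2_2 (iv F60467) D31249 F61201
theorem F69510 : act 4 n31249 = n29146 := d3_2 (iv F60468) D31249 (iv D29146)
theorem F69511 : act 6 n31249 = n28650 := d5_2 (iv F60469) D31249 (iv D28650)
theorem F69512 : act 5 n31249 = n29130 := d22_0 (iv D29130) F52240 (iv F60469) D31249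
def n31250 : Q := act 5 n28399
theorem D31250 : act 5 n28399 = n31250 := rfl
theorem F69513 : act 0 n31250 = n29130 := d4_1 D31250 (iv F69512) (iv D31249)
theorem F69514 : act 3 n31250 = n28663 := d16_1 D31250 (iv D28663) (iv F60467)
theorem F69515 : act 4 n31250 = n29147 := d18_1 D31250 (iv D29147) (iv F60468)
theorem F69516 : act 6 n31250 = n29129 := d20_2 (iv F60469) D31250 F62593 (iv F69511) F69512 (iv D29130) F52240
def n31251 : Q := act 5 n28400
theorem D31251 : act 5 n28400 = n31251 := rfl
theorem F69517 : act 0 n31251 = n29518 := d4_1 D31251 F63555 F62215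
theorem F69518 : act 2 n31251 = n28404 := d13_1 D31251 (iv D28404) (iv F60470)
theorem F69519 : act 3 n31251 = n28970 := d16_1 D31251 F62227 F60472
theorem F69520 : act 4 n31251 = n29149 := d18_1 D31251 (iv D29149) (iv F60471)
theorem F69521 : act 6 n31251 = n28969 := d20_2 F62220 D31251 (iv D28969) (iv F62216) (iv F63555) F63556 (iv F62219)
def n31252 : Q := act 3 n28402
theorem D31252 : act 3 n28402 = n31252 := rfl
theorem F69522 : act 0 n31252 = n28403 := d2_1 D31252 (iv D28403) D28402
theorem F69523 : act 1 n31252 = n29035 := d7_1 D31252 F62363 F60478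
theorem F69524 : act 2 n31252 = n28506 := d11_1 D31252 (iv D28506) (iv D24640) (iv F49776) D28393 F60472 F60470 D28403 F60481 (iv D25324) (iv D21109) (iv F40715) D25307 D28966 (iv F62217)
theorem F69525 : act 4 n31252 = n30361 := d15_2 (iv F60477) D31252 F66357 (iv D30235) F54563
theorem F69526 : act 6 n31252 = n28986 := d17_2 F60479 D31252 F62269
theorem F69527 : act 5 n30067 = n31252 := d20_7 F69526 F62270 F63771 (iv F63770) (iv F60482) D28990 (iv F65356)
def n31253 : Q := act 5 n28402
theorem D31253 : act 5 n28402 = n31253 := rfl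
theorem F69528 : act 0 n31253 = n28404 := d4_1 D31253 (iv D28404) D28402
theorem F69529 : act 2 n31253 = n29518 := d13_1 D31253 F63555 (iv F62217)
theorem F69530 : act 3 n31253 = n30067 := d16_1 D31253 F69527 (iv D31252)
theorem F69531 : act 4 n31253 = n29152 := d18_1 D31253 (iv D29152) (iv F60477)
theorem F69532 : act 6 n31253 = n29544 := d20_2 F60479 D31253 F63626 (iv D28405) D28404 (iv F62367) (iv D29037)
def n31254 : Q := act 1 n28405
theorem D31254 : act 1 n28405 = n31254 := rfl
theorem F69533 : act 2 n31254 = n29111 := d6_2 F62221 D31254 F62564 (iv F63055) F63054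
theorem F69534 : act 3 n31254 = n28988 := d7_2 (iv F60485) D31254 (iv D28988)
theorem F69535 : act 4 n31254 = n29157 := d8_2 (iv F60486) D31254 (iv D29157)
theorem F69536 : act 6 n31254 = n28408 := d10_2 D28405 D31254 (iv D28408) (iv D24543) D24541
def n31255 : Q := act 1 n28407
theorem D31255 : act 1 n28407 = n31255 := rfl
theorem F69537 : act 0 n31255 = n28840 := d0_1 D31255 (iv D28840) F50697 D24949 D28855 F65512 F65509 (iv D28411) (iv F60490)
theorem F69538 : act 3 n31255 = n28408 := d7_2 (iv F60491) D31255 (iv D28408)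
theorem F69539 : act 6 n31255 = n28988 := d10_2 D28407 D31255 (iv D28988) F60482 F60480
def n31256 : Q := act 5 n28408
theorem D31256 : act 5 n28408 = n31256 := rfl
theorem F69540 : act 0 n31256 = n29134 := d4_1 D31256 (iv F64750) (iv F64751)
theorem F69541 : act 1 n31256 = n31250 := d9_1 D31256 (iv D31250) (iv D28399) (iv F49793) D28408
theorem F69542 : act 2 n31256 = n29105 := d13_1 D31256 F62553 (iv F60493)
theorem F69543 : act 4 n31256 = n29162 := d18_1 D31256 (iv D29162) (iv F60494)
def n31257 : Q := act 1 n28409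
theorem D31257 : act 1 n28409 = n31257 := rfl
theorem F69544 : act 0 n31257 = n29580 := d0_1 D31257 (iv F64090) F64089 F53287 F41747 (iv F38809) (iv F50624) (iv F60815) F60814
theorem F69545 : act 3 n31257 = n30274 := d7_2 F60807 D31257 F66022
theorem F69546 : act 4 n31257 = n29584 := d8_2 F61682 D31257 F63728
theorem F69547 : act 6 n31257 = n30786 := d10_2 D28409 D31257 F67783 F65012 F54099
theorem F69548 : act 5 n29579 = n31257 := d24_1 F67775 (iv D31257) (iv D28409) (iv F60461) F60460 (iv F61264) (iv F61265) (iv D27349) F46165 D23352 D27493 D30793 (iv F68703) F68699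
def n31258 : Q := act 5 n28409
theorem D31258 : act 5 n28409 = n31258 := rfl
theorem F69549 : act 0 n31258 = n31247 := d4_1 D31258 F69502 F60814
theorem F69550 : act 2 n31258 = n28412 := d13_1 D31258 (iv D28412) (iv F60495)
theorem F69551 : act 3 n31258 = n28510 := d16_1 D31258 (iv F60809) F60807
theorem F69552 : act 6 n31258 = n28509 := d20_2 D28409 D31258 F60781 D28518 (iv F69502) (iv D31247) F60461
def n31259 : Q := act 5 n28410
theorem D31259 : act 5 n28410 = n31259 := rfl
theorem F69553 : act 0 n31259 = n31248 := d4_1 D31259 F69507 F61685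
theorem F69554 : act 3 n31259 = n29170 := d16_1 D31259 (iv D29170) (iv F60496)
theorem F69555 : act 4 n31259 = n28412 := d18_1 D31259 (iv D28412) (iv F60497)
theorem F69556 : act 6 n31259 = n31246 := d20_2 D28410 D31259 F69497 (iv F61687) (iv F69507) (iv D31248) F60464
def n31260 : Q := act 1 n28413
theorem D31260 : act 1 n28413 = n31260 := rfl
theorem F69557 : act 0 n31260 = n28847 := d0_1 D31260 (iv D28847) (iv F53739) D29882 (iv F64751) (iv D28408) F49790 D24547 D28413
theorem F69558 : act 3 n31260 = n28855 := d7_2 F65511 D31260 F65512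
theorem F69559 : act 4 n31260 = n29175 := d8_2 (iv F60503) D31260 (iv D29175)
def n31261 : Q := act 6 n28415
theorem D31261 : act 6 n28415 = n31261 := rfl
theorem F69560 : act 1 n31261 = n29314 := d10_1 D31261 (iv F63044) (iv D28394) (iv F49801) D28415
theorem F69561 : act 2 n31261 = n30173 := d14_1 D31261 (iv F65685) F63547
theorem F69562 : act 4 n31261 = n29179 := d19_1 D31261 (iv D29179) (iv F60509)
theorem F69563 : act 5 n31261 = n29074 := d22_2 (iv F62491) D31261 (iv D29074) D29071
def n31262 : Q := act 6 n28420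
theorem D31262 : act 6 n28420 = n31262 := rfl
theorem F69564 : act 0 n31262 = n31215 := d5_1 D31262 (iv D31215) (iv F60525)
theorem F69565 : act 2 n31262 = n29440 := d14_1 D31262 F63351 (iv F60526)
theorem F69566 : act 3 n31262 = n28421 := d17_1 D31262 (iv D28421) D28420
theorem F69567 : act 4 n31262 = n31152 := d19_1 D31262 (iv D31152) (iv F60527)
def n31263 : Q := act 1 n28421
theorem D31263 : act 1 n28421 = n31263 := rfl
def n31264 : Q := act 5 n28421
theorem D31264 : act 5 n28421 = n31264 := rfl
theorem F69568 : act 0 n31264 = n30575 := d4_1 D31264 F67085 F64608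
theorem F69569 : act 2 n31264 = n28425 := d13_1 D31264 (iv D28425) (iv F60528)
theorem F69570 : act 4 n31264 = n30573 := d18_1 D31264 F67081 F67061
theorem F69571 : act 6 n31264 = n28813 := d20_2 D28421 D31264 F61680 (iv F64610) (iv F67085) (iv D30575) F56954
def n31265 : Q := act 1 n28422
theorem D31265 : act 1 n28422 = n31265 := rfl
theorem F69572 : act 0 n31265 = n30086 := d0_1 D31265 (iv D30086) (iv F54291) D30087 (iv F65417) F57379 (iv F57387) F57388 (iv F60529)
theorem F69573 : act 3 n31265 = n28868 := d7_2 (iv F60530) D31265 (iv D28868)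
theorem F69574 : act 4 n31265 = n28424 := d8_2 (iv F60531) D31265 (iv D28424)
theorem F69575 : act 6 n31265 = n29020 := d10_2 D28422 D31265 (iv D29020) (iv D25360) (iv F49812)
def n31266 : Q := act 1 n28428
theorem D31266 : act 1 n28428 = n31266 := rfl
theorem F69576 : act 2 n31266 = n28993 := d6_2 (iv F60547) D31266 F62287 F61096 F50254
theorem F69577 : act 4 n31266 = n28992 := d8_2 (iv F60548) D31266 F62283
theorem F69578 : act 6 n31266 = n29778 := d10_2 D28428 D31266 F64412 F60546 (iv D28427)
theorem F69579 : act 0 n28995 = n31266 := d3_3 F69577 F62282 D28995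
theorem F69580 : act 5 n30305 = n31266 := d18_0 F69577 (iv F69428) F69427
def n31267 : Q := act 1 n28432
theorem D31267 : act 1 n28432 = n31267 := rfl
theorem F69581 : act 6 n31267 = n28705 := d10_2 D28432 D31267 (iv D28705) (iv D24818) F49848
def n31268 : Q := act 1 n28434
theorem D31268 : act 1 n28434 = n31268 := rfl
theorem F69582 : act 4 n31268 = n28435 := d8_2 (iv F60566) D31268 (iv D28435)
theorem F69583 : act 6 n31268 = n28439 := d10_2 D28434 D31268 (iv D28439) (iv D24574) (iv F49853)
def n31269 : Q := act 5 n28434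
theorem D31269 : act 5 n28434 = n31269 := rfl
theorem F69584 : act 0 n31269 = n30977 := d4_1 D31269 F68448 F61716
theorem F69585 : act 2 n31269 = n28823 := d13_1 D31269 (iv F68448) F68445
theorem F69586 : act 3 n31269 = n28824 := d16_1 D31269 F61721 F61676
theorem F69587 : act 4 n31269 = n28436 := d18_1 D31269 (iv D28436) (iv F60566)
theorem F69588 : act 6 n31269 = n28822 := d20_2 D28434 D31269 F61715 D28823 (iv F68448) (iv D30977) F58959
def n31270 : Q := act 2 n28435
theorem D31270 : act 2 n28435 = n31270 := rfl
theorem F69589 : act 6 n31270 = n28441 := d14_2 (iv F60567) D31270 (iv D28441)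
def n31271 : Q := act 5 n28435
theorem D31271 : act 5 n28435 = n31271 := rfl
def n31272 : Q := act 2 n28437
theorem D31272 : act 2 n28437 = n31272 := rfl
theorem F69590 : act 0 n31272 = n31254 := d1_1 D31272 F69533 (iv F63959)
theorem F69591 : act 1 n31272 = n28542 := d6_1 D31272 (iv D28542) (iv D24675) (iv F49855) D28437
theorem F69592 : act 6 n31272 = n29882 := d14_2 F63958 D31272 F64747
def n31273 : Q := act 5 n28437
theorem D31273 : act 5 n28437 = n31273 := rfl
theorem F69593 : act 1 n31273 = n28535 := d9_1 D31273 (iv D28535) (iv D24671) (iv F49857) D28437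
theorem F69594 : act 3 n31273 = n28442 := d16_1 D31273 (iv D28442) (iv F60572)
theorem F69595 : act 6 n31273 = n29105 := d22_1 D31273 F62553 D29111 (iv F63959)
def n31274 : Q := act 1 n28438
theorem D31274 : act 1 n28438 = n31274 := rfl
theorem F69596 : act 2 n31274 = n28988 := d6_2 (iv F60573) D31274 (iv D28988) (iv D25326) (iv F51913)
theorem F69597 : act 3 n31274 = n28439 := d7_2 (iv F60574) D31274 (iv D28439)
def n31275 : Q := act 0 n28439
theorem D31275 : act 0 n28439 = n31275 := rfl
theorem F69598 : act 4 n31275 = n28440 := d3_2 (iv F60575) D31275 (iv D28440)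
def n31276 : Q := act 2 n28439
theorem D31276 : act 2 n28439 = n31276 := rfl
theorem F69599 : act 1 n31276 = n28444 := d6_1 D31276 (iv D28444) (iv D24576) (iv F49859) D28439
theorem F69600 : act 4 n31276 = n28441 := d12_2 (iv F60575) D31276 (iv D28441)
theorem F69601 : act 3 n31276 = n28441 := d21_5 (iv F69533) F69534 (iv F69596) F69597 D31276 (iv D28441) (iv F60572) F63959
def n31277 : Q := act 5 n28439
theorem D31277 : act 5 n28439 = n31277 := rfl
theorem F69602 : act 4 n31277 = n28442 := d18_1 D31277 (iv D28442) (iv F60575)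
def n31278 : Q := act 1 n28440
theorem D31278 : act 1 n28440 = n31278 := rfl
theorem F69603 : act 3 n31278 = n29096 := d7_2 F63963 D31278 (iv F62564)
theorem F69604 : act 6 n31278 = n29094 := d10_2 (iv F63962) D31278 (iv D29094) (iv F52223) D29109
def n31279 : Q := act 2 n28440
theorem D31279 : act 2 n28440 = n31279 := rfl
theorem F69605 : act 0 n31279 = n28441 := d1_1 D31279 (iv D28441) D28440
def n31280 : Q := act 5 n28440
theorem D31280 : act 5 n28440 = n31280 := rfl
theorem F69606 : act 0 n31280 = n28442 := d4_1 D31280 (iv D28442) D28440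
theorem F69607 : act 6 n31280 = n31271 := d22_1 D31280 (iv D31271) F60567 D28440
def n31281 : Q := act 5 n28441
theorem D31281 : act 5 n28441 = n31281 := rfl
theorem F69608 : act 2 n31281 = n28442 := d13_1 D31281 (iv D28442) D28441
def n31282 : Q := act 6 n28442
theorem D31282 : act 6 n28442 = n31282 := rfl
theorem F69609 : act 0 n31282 = n31271 := d5_1 D31282 (iv F69607) F69606
theorem F69610 : act 3 n31282 = n29105 := d17_1 D31282 (iv F69595) F69594
theorem F69611 : act 5 n31282 = n29109 := d20_1 D31282 (iv F63962) D31280 F69607 (iv D31271) F60567 D28442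
theorem F69612 : act 1 n29103 = n31282 := d9_5 F69611 (iv D29109) (iv D25439) (iv F52219) D29103
def n31283 : Q := act 2 n28443
theorem D31283 : act 2 n28443 = n31283 := rfl
theorem F69613 : act 0 n31283 = n28444 := d1_1 D31283 (iv D28444) D28443
theorem F69614 : act 3 n31283 = n28446 := d11_2 (iv F60577) D31283 (iv D28446) F49863 D24581 (iv F49870) F44725 (iv F49861) D28444 F60581 (iv D24578) F38306 D20216 (iv F44675) (iv F50810)
theorem F69615 : act 4 n31283 = n28446 := d12_2 (iv F60578) D31283 (iv D28446)
def n31284 : Q := act 5 n28446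
theorem D31284 : act 5 n28446 = n31284 := rfl
theorem F69616 : act 0 n31284 = n28448 := d4_1 D31284 (iv D28448) (iv F60585)
theorem F69617 : act 2 n31284 = n28447 := d13_1 D31284 (iv D28447) D28446
theorem F69618 : act 6 n31284 = n30987 := d22_1 D31284 (iv D30987) F58971 (iv F60585)
def n31285 : Q := act 1 n28447
theorem D31285 : act 1 n28447 = n31285 := rfl
theorem F69619 : act 0 n31285 = n28715 := d0_1 D31285 F61441 (iv F61902) (iv F65308) F65307 F65304 F60995 F50209 (iv F60586)
theorem F69620 : act 3 n31285 = n28450 := d7_2 (iv F60587) D31285 (iv D28450)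
theorem F69621 : act 5 n31285 = n30111 := d9_2 D28447 D31285 F65497 F65465 (iv D28445)
theorem F69622 : act 6 n31285 = n28713 := d10_2 (iv F60588) D31285 (iv F61439) (iv F59355) F59123
theorem F69623 : act 2 n31067 = n31285 := d25_4 (iv F44931) (iv F56420) (iv F66798) (iv F68770) (iv D31285) F60587 F49873 F44665 (iv F44722) (iv F50921) (iv F60987) F60986 F50316 F47949 (iv D23879) (iv F47919) D27847 (iv F67779) (iv D30785) (iv D27481) F46461 (iv F46430) F46431 (iv F47452) (iv F48017) F48018 F36969 (iv F40185) (iv F47658) F47657 F36441 D19470 D23816 D27820 F58722 F49198 (iv D19993) (iv D14762) (iv D11407) (iv D9101) (iv D4398) (iv F6707) (iv F11519) F11520 F5700 D3722 F5711 D3737 D7810 D10824 D13649 D18695 (iv F37834) (iv F42821) (iv F47036) F47035 (iv F35827) (iv F44957) F44956 F41687 (iv F29729) D22126 (iv F53171) F53170 F47074 F44131 F44001 F42498 F35605 (iv F28197) F28196 D16292 F28202 D16845 (iv F42249) F42248 (iv F31975)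
def n31286 : Q := act 6 n28448
theorem D31286 : act 6 n28448 = n31286 := rfl
theorem F69624 : act 0 n31286 = n30987 := d5_1 D31286 (iv F69618) F69616
theorem F69625 : act 2 n31286 = n28449 := d14_1 D31286 (iv D28449) (iv F60589)
theorem F69626 : act 5 n31286 = n30986 := d20_1 D31286 F68463 D31284 F69618 (iv D30987) F58971 D28448
def n31287 : Q := act 2 n28458
theorem D31287 : act 2 n28458 = n31287 := rfl
theorem F69627 : act 4 n31287 = n28512 := d12_2 (iv F60628) D31287 (iv D28512)
theorem F69628 : act 6 n31287 = n29645 := d14_2 (iv F60629) D31287 F63938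
theorem F69629 : act 3 n31287 = n31161 := d21_1 D31287 (iv D31161) (iv D28237) F49208 (iv F49905) (iv F54915) (iv F63786) F63785
def n31288 : Q := act 1 n28459
theorem D31288 : act 1 n28459 = n31288 := rfl
theorem F69630 : act 0 n31288 = n31278 := d0_1 D31288 (iv D31278) (iv D28440) (iv D24575) (iv F38544) (iv F49730) (iv F60379) (iv F64592) F64591
theorem F69631 : act 3 n31288 = n31220 := d7_2 F69392 D31288 (iv F69390)
theorem F69632 : act 5 n31288 = n31217 := d9_2 (iv F60630) D31288 (iv D31217) F64736 (iv D29878)
def n31289 : Q := act 4 n28459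
theorem D31289 : act 4 n28459 = n31289 := rfl
theorem F69633 : act 2 n31289 = n28460 := d12_1 D31289 (iv D28460) D28459
theorem F69634 : act 3 n31289 = n31171 := d15_1 D31289 F69200 F62520 (iv F69393) F69392
theorem F69635 : act 5 n31289 = n29877 := d18_2 (iv F60630) D31289 F64733
def n31290 : Q := act 6 n28461
theorem D31290 : act 6 n28461 = n31290 := rfl
theorem F69636 : act 0 n31290 = n29727 := d5_1 D31290 (iv F68490) F68487
theorem F69637 : act 1 n31290 = n29817 := d10_1 D31290 (iv D29817) F60642 (iv D28462) D28461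
theorem F69638 : act 2 n31290 = n31025 := d14_1 D31290 F68603 F68571
theorem F69639 : act 3 n31290 = n31145 := d17_1 D31290 (iv D31145) (iv F60634)
theorem F69640 : act 4 n31290 = n28869 := d19_1 D31290 (iv D28869) (iv F60635)
theorem F69641 : act 5 n31290 = n29728 := d20_1 D31290 (iv F68519) F68518 F68490 F64210 (iv F59016) (iv F60636)
def n31291 : Q := act 5 n28474
theorem D31291 : act 5 n28474 = n31291 := rfl
theorem F69642 : act 0 n31291 = n31238 := d4_1 D31291 (iv D31238) (iv F60687)
theorem F69643 : act 2 n31291 = n29290 := d13_1 D31291 F62996 (iv F60688)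
theorem F69644 : act 3 n31291 = n28475 := d16_1 D31291 (iv D28475) D28474
theorem F69645 : act 4 n31291 = n31162 := d18_1 D31291 (iv D31162) (iv F60689)
def n31292 : Q := act 1 n28475
theorem D31292 : act 1 n28475 = n31292 := rfl
def n31293 : Q := act 6 n28475
theorem D31293 : act 6 n28475 = n31293 := rfl
theorem F69646 : act 0 n31293 = n30582 := d5_1 D31293 F67099 F63758
theorem F69647 : act 2 n31293 = n28478 := d14_1 D31293 (iv D28478) (iv F60690)
theorem F69648 : act 4 n31293 = n30580 := d19_1 D31293 F67095 F67071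
theorem F69649 : act 5 n31293 = n28844 := d20_1 D31293 F61798 (iv F63760) (iv F67099) (iv D30582) F56989 D28475
def n31294 : Q := act 1 n28476
theorem D31294 : act 1 n28476 = n31294 := rfl
theorem F69650 : act 0 n31294 = n30181 := d0_1 D31294 (iv D30181) F54469 D30180 (iv F65698) F57617 (iv F57625) F57626 (iv F60691)
theorem F69651 : act 3 n31294 = n28870 := d7_2 (iv F60692) D31294 (iv D28870)
theorem F69652 : act 4 n31294 = n28477 := d8_2 (iv F60693) D31294 (iv D28477)
theorem F69653 : act 5 n31294 = n29031 := d9_2 D28476 D31294 (iv D29031) (iv D25370) (iv F49949)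
def n31295 : Q := act 1 n28482
theorem D31295 : act 1 n28482 = n31295 := rfl
theorem F69654 : act 2 n31295 = n28987 := d6_2 (iv F60709) D31295 F62272 F61280 F50366
theorem F69655 : act 4 n31295 = n28986 := d8_2 (iv F60710) D31295 F62268
theorem F69656 : act 5 n31295 = n29979 := d9_2 D28482 D31295 F65100 F60708 (iv D28481)
theorem F69657 : act 0 n28989 = n31295 := d3_3 F69655 F62267 D28989
theorem F69658 : act 6 n30361 = n31295 := d19_0 F69655 (iv F69526) F69525
def n31296 : Q := act 1 n28486
theorem D31296 : act 1 n28486 = n31296 := rfl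
theorem F69659 : act 5 n31296 = n28772 := d9_2 D28486 D31296 (iv D28772) (iv D24873) (iv F50718)
def n31297 : Q := act 1 n28488
theorem D31297 : act 1 n28488 = n31297 := rfl
theorem F69660 : act 4 n31297 = n28489 := d8_2 (iv F60728) D31297 (iv D28489)
theorem F69661 : act 5 n31297 = n28493 := d9_2 D28488 D31297 (iv D28493) (iv D24629) (iv F49989)
def n31298 : Q := act 6 n28488
theorem D31298 : act 6 n28488 = n31298 := rfl
theorem F69662 : act 0 n31298 = n31004 := d5_1 D31298 F68538 F61825
theorem F69663 : act 2 n31298 = n28851 := d14_1 D31298 (iv F68538) F68535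
theorem F69664 : act 3 n31298 = n28854 := d17_1 D31298 F61837 F61785
theorem F69665 : act 4 n31298 = n28490 := d19_1 D31298 (iv D28490) (iv F60728)
theorem F69666 : act 5 n31298 = n28850 := d20_1 D31298 (iv F61824) D28851 (iv F68538) (iv D31004) F59030 D28488
def n31299 : Q := act 2 n28489
theorem D31299 : act 2 n28489 = n31299 := rfl
theorem F69667 : act 5 n31299 = n28495 := d13_2 (iv F60729) D31299 (iv D28495)
def n31300 : Q := act 6 n28489
theorem D31300 : act 6 n28489 = n31300 := rfl
def n31301 : Q := act 2 n28491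
theorem D31301 : act 2 n28491 = n31301 := rfl
theorem F69668 : act 0 n31301 = n31230 := d1_1 D31301 F69435 (iv F62650)
theorem F69669 : act 1 n31301 = n28567 := d6_1 D31301 (iv D28567) (iv D24697) (iv F49991) D28491
theorem F69670 : act 5 n31301 = n29650 := d13_2 F62652 D31301 F63952
def n31302 : Q := act 6 n28491
theorem D31302 : act 6 n28491 = n31302 := rfl
theorem F69671 : act 1 n31302 = n28560 := d10_1 D31302 (iv D28560) (iv D24693) (iv F49993) D28491
theorem F69672 : act 3 n31302 = n28496 := d17_1 D31302 (iv D28496) (iv F60734)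
theorem F69673 : act 5 n31302 = n29157 := d22_2 F62652 D31302 F62641 D29161
def n31303 : Q := act 1 n28492
theorem D31303 : act 1 n28492 = n31303 := rfl
theorem F69674 : act 2 n31303 = n28994 := d6_2 (iv F60735) D31303 (iv D28994) (iv D25331) (iv F51914)
theorem F69675 : act 3 n31303 = n28493 := d7_2 (iv F60736) D31303 (iv D28493)
def n31304 : Q := act 0 n28493
theorem D31304 : act 0 n28493 = n31304 := rfl
theorem F69676 : act 4 n31304 = n28494 := d3_2 (iv F60737) D31304 (iv D28494)
def n31305 : Q := act 2 n28493
theorem D31305 : act 2 n28493 = n31305 := rfl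
theorem F69677 : act 1 n31305 = n28498 := d6_1 D31305 (iv D28498) (iv D24631) (iv F49995) D28493
theorem F69678 : act 4 n31305 = n28495 := d12_2 (iv F60737) D31305 (iv D28495)
theorem F69679 : act 3 n31305 = n28495 := d21_5 (iv F69435) F69436 (iv F69674) F69675 D31305 (iv D28495) (iv F60734) F62650
def n31306 : Q := act 6 n28493
theorem D31306 : act 6 n28493 = n31306 := rfl
theorem F69680 : act 4 n31306 = n28496 := d19_1 D31306 (iv D28496) (iv F60737)
def n31307 : Q := act 1 n28494
theorem D31307 : act 1 n28494 = n31307 := rfl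
theorem F69681 : act 3 n31307 = n29147 := d7_2 F62651 D31307 (iv F62649)
theorem F69682 : act 5 n31307 = n29145 := d9_2 (iv F62656) D31307 (iv D29145) (iv F52279) D29160
def n31308 : Q := act 2 n28494
theorem D31308 : act 2 n28494 = n31308 := rfl
theorem F69683 : act 0 n31308 = n28495 := d1_1 D31308 (iv D28495) D28494
def n31309 : Q := act 6 n28494
theorem D31309 : act 6 n28494 = n31309 := rfl
theorem F69684 : act 0 n31309 = n28496 := d5_1 D31309 (iv D28496) D28494
theorem F69685 : act 5 n31309 = n31300 := d22_2 (iv F62656) D31309 (iv D31300) (iv F62655)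
def n31310 : Q := act 6 n28495
theorem D31310 : act 6 n28495 = n31310 := rfl
theorem F69686 : act 2 n31310 = n28496 := d14_1 D31310 (iv D28496) D28495
def n31311 : Q := act 5 n28496
theorem D31311 : act 5 n28496 = n31311 := rfl
theorem F69687 : act 0 n31311 = n31300 := d4_1 D31311 (iv F69685) F69684
theorem F69688 : act 3 n31311 = n29157 := d16_1 D31311 (iv F69673) F69672
theorem F69689 : act 6 n31311 = n29160 := d20_2 D28496 D31311 (iv F62656) D31309 F69685 (iv D31300) F60729
theorem F69690 : act 1 n29155 = n31311 := d10_5 F69689 (iv D29160) (iv D25473) (iv F52275) D29155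
def n31312 : Q := act 2 n28497
theorem D31312 : act 2 n28497 = n31312 := rfl
theorem F69691 : act 0 n31312 = n28498 := d1_1 D31312 (iv D28498) D28497
theorem F69692 : act 3 n31312 = n28500 := d11_2 (iv F60740) D31312 (iv D28500) F49999 D24636 (iv F50006) F44622 (iv F49997) D28498 F60743 (iv D24633) F38372 D20250 (iv F44549) (iv F50873)
theorem F69693 : act 4 n31312 = n28500 := d12_2 (iv F60741) D31312 (iv D28500)
def n31313 : Q := act 6 n28500
theorem D31313 : act 6 n28500 = n31313 := rfl
theorem F69694 : act 0 n31313 = n28502 := d5_1 D31313 (iv D28502) (iv F60747)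
theorem F69695 : act 2 n31313 = n28501 := d14_1 D31313 (iv D28501) D28500
theorem F69696 : act 5 n31313 = n31014 := d22_2 F68553 D31313 (iv D31014) (iv F68552)
def n31314 : Q := act 1 n28501
theorem D31314 : act 1 n28501 = n31314 := rfl
theorem F69697 : act 0 n31314 = n28777 := d0_1 D31314 F61586 (iv F61921) (iv F65582) (iv F65591) F65592 F61161 F50315 (iv F60748)
theorem F69698 : act 3 n31314 = n28504 := d7_2 (iv F60749) D31314 (iv D28504)
theorem F69699 : act 5 n31314 = n28775 := d9_2 (iv F60750) D31314 (iv F61584) F59357 F59339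
theorem F69700 : act 6 n31314 = n30203 := d10_2 D28501 D31314 F65781 F65765 (iv D28499)
theorem F69701 : act 2 n31030 = n31314 := d25_4 (iv F44946) (iv F56431) (iv F66811) (iv F68622) (iv D31314) F60749 F50009 F44540 (iv F44619) (iv F50998) (iv F60999) F60998 F50210 F47972 (iv D23888) (iv F47931) D27851 (iv F67964) (iv D30844) (iv D27558) F46587 (iv F46558) F46559 (iv F47557) (iv F48035) F48036 F36984 (iv F40410) (iv F47718) F47717 F36571 D19512 D23838 D27825 F58743 F49359 (iv D20047) (iv D14811) (iv D11429) (iv D9111) (iv D4402) (iv F6711) (iv F11514) F11515 F5697 D3718 F5706 D3729 D7791 D10813 D13632 D18670 (iv F37738) (iv F42707) (iv F47030) (iv D23583) F35691 (iv F44980) F44979 F42031 (iv F34633) D22337 (iv F53760) F53759 F46870 (iv F44131) F44130 F42502 F35758 (iv F34643) F28399 D16395 F28404 D17037 (iv F42368) F42367 (iv F32000)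
def n31315 : Q := act 5 n28502
theorem D31315 : act 5 n28502 = n31315 := rfl
theorem F69702 : act 0 n31315 = n31014 := d4_1 D31315 (iv F69696) F69694
theorem F69703 : act 2 n31315 = n28503 := d13_1 D31315 (iv D28503) (iv F60751)
theorem F69704 : act 6 n31315 = n31013 := d20_2 D28502 D31315 F68553 D31313 F69696 (iv D31014) F59042
def n31316 : Q := act 1 n28512
theorem D31316 : act 1 n28512 = n31316 := rfl
theorem F69705 : act 0 n31316 = n31307 := d0_1 D31316 (iv D31307) (iv D28494) (iv D24630) (iv F38625) (iv F49782) (iv F60458) (iv F63782) F63781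
theorem F69706 : act 3 n31316 = n31243 := d7_2 F69490 D31316 (iv F69488)
theorem F69707 : act 6 n31316 = n31240 := d10_2 (iv F60789) D31316 (iv D31240) F63942 (iv D29646)
def n31317 : Q := act 5 n28513
theorem D31317 : act 5 n28513 = n31317 := rfl
theorem F69708 : act 0 n31317 = n29945 := d4_1 D31317 (iv F68573) F68570
theorem F69709 : act 1 n31317 = n30017 := d9_1 D31317 (iv D30017) F60798 (iv D28514) D28513
theorem F69710 : act 2 n31317 = n31000 := d13_1 D31317 F68518 F68488
theorem F69711 : act 3 n31317 = n31149 := d16_1 D31317 (iv D31149) (iv F60790)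
theorem F69712 : act 4 n31317 = n28871 := d18_1 D31317 (iv D28871) (iv F60791)
theorem F69713 : act 6 n31317 = n29946 := d20_2 (iv F60792) D31317 (iv F68602) F68603 F68573 F64974 (iv F59087)
def n31318 : Q := act 1 n28522
theorem D31318 : act 1 n28522 = n31318 := rfl
theorem F69714 : act 2 n31318 = n29303 := d6_2 D28522 D31318 (iv D29303) (iv D25610) (iv F50078)
theorem F69715 : act 4 n31318 = n29303 := d8_2 (iv F60829) D31318 (iv D29303)
def n31319 : Q := act 3 n28522
theorem D31319 : act 3 n28522 = n31319 := rfl
theorem F69716 : act 0 n31319 = n28523 := d2_1 D31319 (iv D28523) (iv F60828)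
theorem F69717 : act 6 n31319 = n29335 := d17_2 (iv F60830) D31319 (iv D29335)
def n31320 : Q := act 2 n28523
theorem D31320 : act 2 n28523 = n31320 := rfl
theorem F69718 : act 1 n31320 = n31048 := d6_1 D31320 (iv D31048) (iv D27988) (iv F50085) (iv F60831)
def n31321 : Q := act 4 n28523
theorem D31321 : act 4 n28523 = n31321 := rfl
theorem F69719 : act 1 n31321 = n28524 := d8_1 D31321 (iv D28524) (iv F60831)
theorem F69720 : act 3 n31321 = n29307 := d15_1 D31321 (iv D29307) (iv D25612) (iv F50082) D28523
def n31322 : Q := act 6 n28525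
theorem D31322 : act 6 n28525 = n31322 := rfl
theorem F69721 : act 0 n31322 = n28604 := d5_1 D31322 (iv F65384) F65385
theorem F69722 : act 1 n31322 = n29150 := d10_1 D31322 (iv D29150) (iv D25466) (iv F50090) D28525
theorem F69723 : act 2 n31322 = n31226 := d14_1 D31322 (iv D31226) (iv F60835)
theorem F69724 : act 3 n31322 = n28602 := d17_1 D31322 (iv F61044) (iv F60836)
theorem F69725 : act 4 n31322 = n29318 := d19_1 D31322 (iv D29318) (iv F60837)
theorem F69726 : act 5 n29377 = n31322 := d22_0 (iv D31322) (iv F61018) F61019 D29377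
def n31323 : Q := act 1 n28526
theorem D31323 : act 1 n28526 = n31323 := rfl
theorem F69727 : act 4 n31323 = n30756 := d8_2 F60849 D31323 F67670
theorem F69728 : act 6 n31323 = n29007 := d10_2 D28526 D31323 (iv D29007) (iv D25346) (iv F50091)
def n31324 : Q := act 1 n28528
theorem D31324 : act 1 n28528 = n31324 := rfl
theorem F69729 : act 3 n31324 = n30773 := d7_2 F60971 D31324 F67733
theorem F69730 : act 4 n31324 = n28530 := d8_2 (iv F60845) D31324 (iv D28530)
theorem F69731 : act 6 n31324 = n28532 := d10_2 D28528 D31324 (iv D28532) (iv D24670) (iv F50093)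
def n31325 : Q := act 0 n28530
theorem D31325 : act 0 n28530 = n31325 := rfl
theorem F69732 : act 3 n31325 = n29930 := d2_2 F60967 D31325 F64921
theorem F69733 : act 6 n31325 = n28533 := d5_2 (iv F60851) D31325 (iv D28533)
def n31326 : Q := act 2 n28530
theorem D31326 : act 2 n28530 = n31326 := rfl
theorem F69734 : act 1 n31326 = n31326 := d6_1 D31326 (iv D31326) (iv D28530) F50100 D28530
theorem F69735 : act 6 n31326 = n28534 := d14_2 (iv F60851) D31326 (iv D28534)
def n31327 : Q := act 5 n28530
theorem D31327 : act 5 n28530 = n31327 := rfl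
def n31328 : Q := act 1 n28531
theorem D31328 : act 1 n28531 = n31328 := rfl
theorem F69736 : act 3 n31328 = n28532 := d7_2 (iv F60853) D31328 (iv D28532)
theorem F69737 : act 6 n31328 = n30773 := d10_2 D28531 D31328 F67733 F60972 F60841
theorem F69738 : act 2 n30776 = n31328 := d14_3 F69737 (iv D30773) D30776
def n31329 : Q := act 0 n28532
theorem D31329 : act 0 n28532 = n31329 := rfl
theorem F69739 : act 4 n31329 = n28533 := d3_2 (iv F60854) D31329 (iv D28533)
def n31330 : Q := act 2 n28532
theorem D31330 : act 2 n28532 = n31330 := rfl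
theorem F69740 : act 1 n31330 = n28536 := d6_1 D31330 (iv D28536) (iv D24672) (iv F50103) D28532
theorem F69741 : act 4 n31330 = n28534 := d12_2 (iv F60854) D31330 (iv D28534)
theorem F69742 : act 3 n31330 = n30454 := d21_3 F69738 F69736 D31330 (iv D30454) F56266 (iv F56073) (iv F66563) (iv F67738)
def n31331 : Q := act 5 n28532
theorem D31331 : act 5 n28532 = n31331 := rfl
theorem F69743 : act 4 n31331 = n28535 := d18_1 D31331 (iv D28535) (iv F60854)
def n31332 : Q := act 1 n28533
theorem D31332 : act 1 n28533 = n31332 := rfl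
theorem F69744 : act 0 n31332 = n30673 := d0_1 D31332 (iv D30673) (iv F67340) (iv F67345) (iv D28593) (iv D24721) F38539 D24671 D28533
def n31333 : Q := act 2 n28533
theorem D31333 : act 2 n28533 = n31333 := rfl
theorem F69745 : act 0 n31333 = n28534 := d1_1 D31333 (iv D28534) D28533
theorem F69746 : act 3 n31333 = n30148 := d11_2 F60978 D31333 F66313 (iv D30349) (iv F66297) F66298 (iv D28582) F50204 D28534 (iv F66321) (iv D30351) (iv D26770) (iv F55552) (iv F61842) (iv F61845)
theorem F69747 : act 1 n30154 = n31333 := d7_3 F69746 F65602 D30154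
def n31334 : Q := act 5 n28533
theorem D31334 : act 5 n28533 = n31334 := rfl
theorem F69748 : act 0 n31334 = n28535 := d4_1 D31334 (iv D28535) D28533
theorem F69749 : act 6 n31334 = n31327 := d22_1 D31334 (iv D31327) F60851 D28533
def n31335 : Q := act 5 n28534
theorem D31335 : act 5 n28534 = n31335 := rfl
theorem F69750 : act 1 n31335 = n30172 := d9_1 D31335 (iv D30172) F61241 (iv D28539) (iv F60855)
theorem F69751 : act 2 n31335 = n28535 := d13_1 D31335 (iv D28535) D28534
theorem F69752 : act 3 n31335 = n30179 := d16_1 D31335 F66322 F66321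
def n31336 : Q := act 6 n28535
theorem D31336 : act 6 n28535 = n31336 := rfl
theorem F69753 : act 0 n31336 = n31327 := d5_1 D31336 (iv F69749) F69748
theorem F69754 : act 1 n31336 = n29106 := d10_1 D31336 (iv D29106) D29105 (iv F69595) F69593
theorem F69755 : act 5 n31336 = n31325 := d20_1 D31336 F69733 D31334 F69749 (iv D31327) F60851 D28535
def n31337 : Q := act 2 n28540
theorem D31337 : act 2 n28540 = n31337 := rfl
theorem F69756 : act 0 n31337 = n29082 := d1_1 D31337 (iv D29082) (iv F60868)
theorem F69757 : act 1 n31337 = n30166 := d6_1 D31337 F65654 F61241 F60866 D28540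
theorem F69758 : act 5 n31337 = n28542 := d13_2 (iv F60870) D31337 (iv D28542)
theorem F69759 : act 6 n31337 = n29301 := d14_2 (iv F60871) D31337 (iv D29301)
def n31338 : Q := act 2 n28541
theorem D31338 : act 2 n28541 = n31338 := rfl
theorem F69760 : act 0 n31338 = n28542 := d1_1 D31338 (iv D28542) D28541
theorem F69761 : act 1 n31338 = n28978 := d6_1 D31338 (iv F65662) (iv F69351) F69355 (iv F60872)
theorem F69762 : act 4 n31338 = n31337 := d12_2 (iv F60874) D31338 (iv D31337)
theorem F69763 : act 5 n31338 = n29082 := d13_2 (iv F60875) D31338 (iv D29082)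
def n31339 : Q := act 3 n28542
theorem D31339 : act 3 n28542 = n31339 := rfl
theorem F69764 : act 6 n31339 = n28858 := d17_2 F63020 D31339 F63021
def n31340 : Q := act 1 n28544
theorem D31340 : act 1 n28544 = n31340 := rfl
theorem F69765 : act 2 n31340 = n28802 := d6_2 D28544 D31340 F63103 F63101 F52623
theorem F69766 : act 4 n31340 = n28615 := d8_2 (iv F60881) D31340 F61239
theorem F69767 : act 0 n28617 = n31340 := d3_3 F69766 F61066 D28617
theorem F69768 : act 6 n28739 = n31340 := d19_0 F69766 F61067 D28739
def n31341 : Q := act 0 n28545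
theorem D31341 : act 0 n28545 = n31341 := rfl
theorem F69769 : act 2 n31341 = n31219 := d1_2 (iv F60883) D31341 (iv D31219)
theorem F69770 : act 4 n31341 = n29377 := d3_2 (iv F60884) D31341 (iv D29377)
theorem F69771 : act 6 n31341 = n30611 := d5_2 F63036 D31341 F67163
theorem F69772 : act 5 n31341 = n29318 := d22_0 (iv D29318) (iv F63035) F63036 D31341
def n31342 : Q := act 5 n28545
theorem D31342 : act 5 n28545 = n31342 := rfl
theorem F69773 : act 0 n31342 = n29318 := d4_1 D31342 (iv F69772) (iv D31341)
theorem F69774 : act 2 n31342 = n31220 := d13_1 D31342 (iv D31220) (iv F60883)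
theorem F69775 : act 4 n31342 = n28604 := d18_1 D31342 F61049 (iv F60884)
theorem F69776 : act 6 n31342 = n29317 := d20_2 F63036 D31342 (iv F67162) (iv F69771) F69772 (iv D29318) (iv F63035)
theorem F69777 : act 1 n31342 = n28617 := d24_2 F63036 D31342 F61072 D28742 F63422 (iv D29467) F52800 (iv F63398) (iv F67248) (iv D30637) F57155 F52577 D25613 D29309
def n31343 : Q := act 1 n28546
theorem D31343 : act 1 n28546 = n31343 := rfl
theorem F69778 : act 3 n31343 = n30603 := d7_2 (iv F60887) D31343 (iv D30603)
theorem F69779 : act 4 n31343 = n28618 := d8_2 (iv F60888) D31343 F61073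
theorem F69780 : act 5 n31343 = n28617 := d9_2 D28546 D31343 (iv F69777) (iv D31342) (iv D28545)
def n31344 : Q := act 1 n28547
theorem D31344 : act 1 n28547 = n31344 := rfl
theorem F69781 : act 2 n31344 = n29446 := d6_2 D28547 D31344 (iv D29446) (iv D25716) (iv F50132)
theorem F69782 : act 4 n31344 = n29446 := d8_2 (iv F60891) D31344 (iv D29446)
def n31345 : Q := act 3 n28547
theorem D31345 : act 3 n28547 = n31345 := rfl
theorem F69783 : act 0 n31345 = n28548 := d2_1 D31345 (iv D28548) (iv F60890)
theorem F69784 : act 5 n31345 = n29477 := d16_2 (iv F60892) D31345 (iv D29477)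
def n31346 : Q := act 2 n28548
theorem D31346 : act 2 n28548 = n31346 := rfl
theorem F69785 : act 1 n31346 = n31083 := d6_1 D31346 (iv D31083) (iv D28059) (iv F50139) (iv F60893)
def n31347 : Q := act 4 n28548
theorem D31347 : act 4 n28548 = n31347 := rfl
theorem F69786 : act 1 n31347 = n28549 := d8_1 D31347 (iv D28549) (iv F60893)
theorem F69787 : act 3 n31347 = n29450 := d15_1 D31347 (iv D29450) (iv D25718) (iv F50136) D28548
def n31348 : Q := act 5 n28550
theorem D31348 : act 5 n28550 = n31348 := rfl
theorem F69788 : act 0 n31348 = n28661 := d4_1 D31348 (iv F65665) (iv F65666)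
theorem F69789 : act 1 n31348 = n29098 := d9_1 D31348 (iv D29098) (iv D25432) F50144 D28550
theorem F69790 : act 2 n31348 = n31250 := d13_1 D31348 (iv D31250) (iv F60897)
theorem F69791 : act 3 n31348 = n28659 := d16_1 D31348 F61200 (iv F60898)
theorem F69792 : act 4 n31348 = n29460 := d18_1 D31348 (iv D29460) (iv F60899)
theorem F69793 : act 6 n31348 = n29517 := d22_3 (iv F61179) F61180 D31348 (iv D29517)
def n31349 : Q := act 1 n28551
theorem D31349 : act 1 n28551 = n31349 := rfl
theorem F69794 : act 4 n31349 = n30694 := d8_2 F60912 D31349 F67443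
theorem F69795 : act 5 n31349 = n29012 := d9_2 D28551 D31349 (iv D29012) (iv D25352) (iv F50145)
def n31350 : Q := act 1 n28553
theorem D31350 : act 1 n28553 = n31350 := rfl
theorem F69796 : act 3 n31350 = n30726 := d7_2 F61136 D31350 (iv F67654)
theorem F69797 : act 4 n31350 = n28554 := d8_2 (iv F60907) D31350 (iv D28554)
theorem F69798 : act 5 n31350 = n28557 := d9_2 D28553 D31350 (iv D28557) (iv D24692) (iv F50147)
def n31351 : Q := act 0 n28554
theorem D31351 : act 0 n28554 = n31351 := rfl
theorem F69799 : act 3 n31351 = n29712 := d2_2 F61133 D31351 F64157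
theorem F69800 : act 5 n31351 = n28558 := d4_2 (iv F60909) D31351 (iv D28558)
def n31352 : Q := act 2 n28554
theorem D31352 : act 2 n28554 = n31352 := rfl
theorem F69801 : act 1 n31352 = n31352 := d6_1 D31352 (iv D31352) (iv D28554) F50150 D28554
theorem F69802 : act 5 n31352 = n28559 := d13_2 (iv F60909) D31352 (iv D28559)
def n31353 : Q := act 6 n28554
theorem D31353 : act 6 n28554 = n31353 := rfl
def n31354 : Q := act 1 n28556
theorem D31354 : act 1 n28556 = n31354 := rfl
theorem F69803 : act 3 n31354 = n28557 := d7_2 (iv F60915) D31354 (iv D28557)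
theorem F69804 : act 5 n31354 = n30726 := d9_2 D28556 D31354 (iv F67654) F61137 F60903
theorem F69805 : act 2 n30728 = n31354 := d13_3 F69804 (iv D30726) D30728
def n31355 : Q := act 0 n28557
theorem D31355 : act 0 n28557 = n31355 := rfl
theorem F69806 : act 4 n31355 = n28558 := d3_2 (iv F60916) D31355 (iv D28558)
def n31356 : Q := act 2 n28557
theorem D31356 : act 2 n28557 = n31356 := rfl
theorem F69807 : act 1 n31356 = n28561 := d6_1 D31356 (iv D28561) (iv D24694) (iv F50157) D28557
theorem F69808 : act 4 n31356 = n28559 := d12_2 (iv F60916) D31356 (iv D28559)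
theorem F69809 : act 3 n31356 = n30453 := d21_3 F69805 F69803 D31356 (iv D30453) F56264 (iv F56015) (iv F66530) (iv F67563)
def n31357 : Q := act 6 n28557
theorem D31357 : act 6 n28557 = n31357 := rfl
theorem F69810 : act 4 n31357 = n28560 := d19_1 D31357 (iv D28560) (iv F60916)
def n31358 : Q := act 1 n28558
theorem D31358 : act 1 n28558 = n31358 := rfl
theorem F69811 : act 0 n31358 = n30653 := d0_1 D31358 (iv D30653) (iv F67281) (iv F67286) (iv D28650) (iv D24770) F38620 D24693 D28558
def n31359 : Q := act 2 n28558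
theorem D31359 : act 2 n28558 = n31359 := rfl
theorem F69812 : act 0 n31359 = n28559 := d1_1 D31359 (iv D28559) D28558
theorem F69813 : act 3 n31359 = n30054 := d11_2 F61147 D31359 F66090 (iv D30290) (iv F66074) F66075 (iv D28641) F50310 D28559 (iv F66098) (iv D30292) (iv D26628) (iv F55072) (iv F61733) (iv F61736)
theorem F69814 : act 1 n31359 = n30060 := d23_2 F69800 D31359 F65333 F62447 F62440 (iv D25406) F40969 F40844 F40843 F35330 (iv F40846) (iv D21143) D21142 (iv F50145) (iv D24687) D24689 F50150 D28554 D31351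
def n31360 : Q := act 6 n28558
theorem D31360 : act 6 n28558 = n31360 := rfl
theorem F69815 : act 0 n31360 = n28560 := d5_1 D31360 (iv D28560) D28558
theorem F69816 : act 5 n31360 = n31353 := d22_2 F69800 D31360 (iv D31353) D31351
def n31361 : Q := act 6 n28559
theorem D31361 : act 6 n28559 = n31361 := rfl
theorem F69817 : act 1 n31361 = n30076 := d10_1 D31361 (iv D30076) (iv F63096) (iv D28564) (iv F60917)
theorem F69818 : act 2 n31361 = n28560 := d14_1 D31361 (iv D28560) D28559
theorem F69819 : act 3 n31361 = n30083 := d17_1 D31361 F66099 F66098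
def n31362 : Q := act 5 n28560
theorem D31362 : act 5 n28560 = n31362 := rfl
theorem F69820 : act 0 n31362 = n31353 := d4_1 D31362 (iv F69816) F69815
theorem F69821 : act 1 n31362 = n29158 := d9_1 D31362 (iv D29158) D29157 (iv F69673) F69671
theorem F69822 : act 6 n31362 = n31351 := d20_2 D28560 D31362 F69800 D31360 F69816 (iv D31353) F60909
def n31363 : Q := act 2 n28565
theorem D31363 : act 2 n28565 = n31363 := rfl
theorem F69823 : act 0 n31363 = n29133 := d1_1 D31363 (iv D29133) (iv F60930)
theorem F69824 : act 1 n31363 = n30071 := d6_1 D31363 F65368 (iv F63096) F60928 D28565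
theorem F69825 : act 5 n31363 = n29444 := d13_2 (iv F60932) D31363 (iv D29444)
theorem F69826 : act 6 n31363 = n28567 := d14_2 (iv F60933) D31363 (iv D28567)
def n31364 : Q := act 2 n28566
theorem D31364 : act 2 n28566 = n31364 := rfl
theorem F69827 : act 0 n31364 = n28567 := d1_1 D31364 (iv D28567) D28566
theorem F69828 : act 1 n31364 = n28963 := d6_1 D31364 (iv F65377) (iv F69324) F69328 (iv F60934)
theorem F69829 : act 4 n31364 = n31363 := d12_2 (iv F60936) D31364 (iv D31363)
theorem F69830 : act 6 n31364 = n29133 := d14_2 (iv F60937) D31364 (iv D29133)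
def n31365 : Q := act 3 n28567
theorem D31365 : act 3 n28567 = n31365 := rfl
theorem F69831 : act 5 n31365 = n28827 := d16_2 F63360 D31365 F63362
def n31366 : Q := act 1 n28569
theorem D31366 : act 1 n28569 = n31366 := rfl
theorem F69832 : act 2 n31366 = n28742 := d6_2 D28569 D31366 F63422 F63420 F52801
theorem F69833 : act 4 n31366 = n28672 := d8_2 (iv F60943) D31366 (iv F63082)
theorem F69834 : act 0 n28674 = n31366 := d3_3 F69833 F61226 D28674
theorem F69835 : act 5 n28741 = n31366 := d18_0 F69833 F61227 D28741
def n31367 : Q := act 0 n28570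
theorem D31367 : act 0 n28570 = n31367 := rfl
theorem F69836 : act 2 n31367 = n31242 := d1_2 (iv F60945) D31367 (iv D31242)
theorem F69837 : act 4 n31367 = n29517 := d3_2 (iv F60946) D31367 (iv D29517)
theorem F69838 : act 5 n31367 = n30599 := d4_2 F63375 D31367 F67135
theorem F69839 : act 6 n29460 = n31367 := d22_3 (iv F63375) F63376 D29460 (iv D31367)
def n31368 : Q := act 6 n28570
theorem D31368 : act 6 n28570 = n31368 := rfl
theorem F69840 : act 0 n31368 = n29460 := d5_1 D31368 F69839 (iv D31367)
theorem F69841 : act 2 n31368 = n31243 := d14_1 D31368 (iv D31243) (iv F60945)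
theorem F69842 : act 4 n31368 = n28661 := d19_1 D31368 F61207 (iv F60946)
theorem F69843 : act 5 n31368 = n29459 := d20_1 D31368 (iv F67134) (iv F69838) (iv F69839) (iv D29460) (iv F63376) F63375
theorem F69844 : act 1 n28674 = n31368 := d24_14 (iv D31368) (iv F63375) (iv D29452) (iv D25719) (iv F52754) (iv F57226) D30657 F67307 F63064 F52622 D29325 (iv F63103) (iv D28802) (iv F61233)
def n31369 : Q := act 1 n28571
theorem D31369 : act 1 n28571 = n31369 := rfl
theorem F69845 : act 2 n31369 = n31343 := d6_2 (iv F60948) D31369 (iv D31343) F60886 (iv F50180)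
theorem F69846 : act 3 n31369 = n30591 := d7_2 (iv F60949) D31369 (iv D30591)
theorem F69847 : act 4 n31369 = n28675 := d8_2 (iv F60950) D31369 F61234
theorem F69848 : act 6 n31369 = n28674 := d10_2 D28571 D31369 F69844 (iv D31368) (iv D28570)
def n31370 : Q := act 1 n28573
theorem D31370 : act 1 n28573 = n31370 := rfl
theorem F69849 : act 3 n31370 = n31323 := d7_2 (iv F60956) D31370 (iv D31323)
theorem F69850 : act 6 n31370 = n29065 := d10_2 D28573 D31370 (iv D29065) F52164 F52012
theorem F69851 : act 2 n29114 = n31370 := d14_3 F69850 F62462 D29114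
def n31371 : Q := act 6 n28574
theorem D31371 : act 6 n28574 = n31371 := rfl
theorem F69852 : act 0 n31371 = n30975 := d5_1 D31371 (iv D30975) (iv F60957)
theorem F69853 : act 2 n31371 = n30681 := d14_1 D31371 F67386 (iv F60959)
theorem F69854 : act 3 n31371 = n28575 := d17_1 D31371 (iv D28575) D28574
theorem F69855 : act 4 n31371 = n28578 := d19_1 D31371 F60972 (iv F60960)
theorem F69856 : act 5 n31371 = n28575 := d20_1 D31371 (iv D28575) (iv F58947) D30975 F68438 (iv D30956) (iv F60961)
def n31372 : Q := act 5 n28577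
theorem D31372 : act 5 n28577 = n31372 := rfl
theorem F69857 : act 3 n31372 = n31327 := d16_1 D31372 (iv D31327) (iv F60967)
def n31373 : Q := act 1 n28579
theorem D31373 : act 1 n28579 = n31373 := rfl
theorem F69858 : act 3 n31373 = n28580 := d7_2 (iv F60974) D31373 (iv D28580)
theorem F69859 : act 4 n31373 = n31328 := d8_2 (iv F60975) D31373 (iv D31328)
def n31374 : Q := act 5 n28580
theorem D31374 : act 5 n28580 = n31374 := rfl
theorem F69860 : act 1 n31374 = n31277 := d9_1 D31374 (iv D31277) (iv D28439) (iv F50203) D28580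
theorem F69861 : act 2 n31374 = n29937 := d13_1 D31374 F64939 (iv F61850)
theorem F69862 : act 4 n31374 = n28583 := d18_1 D31374 (iv D28583) (iv F60977)
theorem F69863 : act 6 n31374 = n29936 := d22_1 D31374 (iv D29936) (iv F61853) F61851
def n31375 : Q := act 1 n28581
theorem D31375 : act 1 n28581 = n31375 := rfl
theorem F69864 : act 3 n31375 = n31332 := d7_2 (iv F60978) D31375 (iv D31332)
def n31376 : Q := act 5 n28581
theorem D31376 : act 5 n28581 = n31376 := rfl
theorem F69865 : act 0 n31376 = n28583 := d4_1 D31376 (iv D28583) D28581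
theorem F69866 : act 2 n31376 = n31175 := d13_1 D31376 F69220 (iv F61845)
theorem F69867 : act 3 n31376 = n31334 := d16_1 D31376 (iv D31334) (iv F60978)
theorem F69868 : act 6 n31376 = n31372 := d22_1 D31376 (iv D31372) F60968 D28581
def n31377 : Q := act 5 n28582
theorem D31377 : act 5 n28582 = n31377 := rfl
theorem F69869 : act 0 n31377 = n31175 := d4_1 D31377 F69220 F61841
theorem F69870 : act 1 n31377 = n30439 := d9_1 D31377 F66579 (iv F61002) (iv D28589) (iv F60979)
theorem F69871 : act 2 n31377 = n28583 := d13_1 D31377 (iv D28583) D28582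
theorem F69872 : act 3 n31377 = n30360 := d16_1 D31377 F66356 F66298
theorem F69873 : act 4 n31377 = n29937 := d18_1 D31377 F64939 F61847
theorem F69874 : act 6 n31377 = n29931 := d22_1 D31377 (iv D29931) (iv F61844) F61841
def n31378 : Q := act 6 n28583
theorem D31378 : act 6 n28583 = n31378 := rfl
theorem F69875 : act 0 n31378 = n31372 := d5_1 D31378 (iv F69868) F69865
theorem F69876 : act 2 n31378 = n29931 := d14_1 D31378 (iv F69874) F69871
theorem F69877 : act 3 n31378 = n31336 := d17_1 D31378 (iv D31336) (iv F60981)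
theorem F69878 : act 4 n31378 = n29936 := d19_1 D31378 (iv F69863) F69862
theorem F69879 : act 5 n31378 = n29930 := d20_1 D31378 F64923 D31376 F69868 (iv D31372) F60968 D28583
def n31379 : Q := act 5 n28584
theorem D31379 : act 5 n28584 = n31379 := rfl
theorem F69880 : act 0 n31379 = n28585 := d4_1 D31379 (iv D28585) D28584
theorem F69881 : act 2 n31379 = n28646 := d13_1 D31379 F61163 F61120
theorem F69882 : act 3 n31379 = n28873 := d16_1 D31379 (iv D28873) (iv F60982)
theorem F69883 : act 4 n31379 = n28588 := d18_1 D31379 (iv D28588) (iv F60983)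
theorem F69884 : act 6 n31379 = n28645 := d20_2 (iv F60984) D31379 F61159 F58108 D28585 F60989 F59152
def n31380 : Q := act 2 n28586
theorem D31380 : act 2 n28586 = n31380 := rfl
theorem F69885 : act 1 n31380 = n30860 := d6_1 D31380 F68018 F60994 (iv D28587) D28586
theorem F69886 : act 5 n31380 = n30828 := d13_2 F67768 D31380 F67913
def n31381 : Q := act 5 n28587
theorem D31381 : act 5 n28587 = n31381 := rfl
theorem F69887 : act 0 n31381 = n28589 := d4_1 D31381 (iv D28589) (iv F60991)
theorem F69888 : act 2 n31381 = n28588 := d13_1 D31381 (iv D28588) D28587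
theorem F69889 : act 3 n31381 = n28877 := d16_1 D31381 F61915 (iv F60992)
theorem F69890 : act 4 n31381 = n28646 := d18_1 D31381 F61163 F61122
theorem F69891 : act 6 n31381 = n28643 := d20_2 (iv F60993) D31381 F61154 (iv F59368) D28589 F61001 (iv F58200)
def n31382 : Q := act 1 n28591
theorem D31382 : act 1 n28591 = n31382 := rfl
theorem F69892 : act 3 n31382 = n28592 := d7_2 (iv F61010) D31382 (iv D28592)
theorem F69893 : act 4 n31382 = n28596 := d8_2 (iv F61011) D31382 (iv D28596)
theorem F69894 : act 5 n31382 = n29094 := d9_2 (iv F61012) D31382 (iv D29094) (iv D25430) (iv F52200)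
theorem F69895 : act 6 n31382 = n31217 := d10_2 D28591 D31382 (iv D31217) (iv D28360) (iv F50223)
def n31383 : Q := act 0 n28592
theorem D31383 : act 0 n28592 = n31383 := rfl
theorem F69896 : act 2 n31383 = n30611 := d1_2 F63033 D31383 F67163
theorem F69897 : act 4 n31383 = n28593 := d3_2 (iv F61013) D31383 (iv D28593)
theorem F69898 : act 5 n31383 = n29095 := d4_2 (iv F61014) D31383 (iv D29095)
theorem F69899 : act 6 n31383 = n31219 := d5_2 (iv F61015) D31383 (iv D31219)
theorem F69900 : act 1 n30612 = n31383 := d23_2 (iv F57066) D30612 (iv D31383) F61014 (iv F52591) (iv D25619) (iv F52586) (iv D25615) (iv D21341) D21340 (iv F44827) (iv D22757) (iv F33542) (iv F33541) F31831 D20286 F38455 D22789 D27020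
def n31384 : Q := act 2 n28593
theorem D31384 : act 2 n28593 = n31384 := rfl
theorem F69901 : act 0 n31384 = n28594 := d1_1 D31384 (iv D28594) D28593
theorem F69902 : act 1 n31384 = n30484 := d6_1 D31384 F66760 (iv F57262) (iv F67341) (iv F67345)
theorem F69903 : act 3 n31384 = n30084 := d11_2 (iv F61016) D31384 F65407 (iv F62511) F62510 (iv D28604) (iv D24727) (iv F50229) D28594 (iv F68684) F68683 (iv F69416) (iv F69723) F69724 (iv D28602)
theorem F69904 : act 4 n31384 = n30611 := d12_2 F69897 D31384 (iv F69896)
theorem F69905 : act 5 n31384 = n30077 := d13_2 F69413 D31384 (iv F69410)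
theorem F69906 : act 6 n31384 = n29377 := d14_2 F62509 D31384 F63224
def n31385 : Q := act 0 n28596
theorem D31385 : act 0 n28596 = n31385 := rfl
theorem F69907 : act 3 n31385 = n28598 := d2_2 (iv F61024) D31385 (iv D28598)
def n31386 : Q := act 2 n28596
theorem D31386 : act 2 n28596 = n31386 := rfl
def n31387 : Q := act 5 n28596
theorem D31387 : act 5 n28596 = n31387 := rfl
theorem F69908 : act 1 n31387 = n29093 := d9_1 D31387 (iv D29093) F61030 (iv D28597) D28596
theorem F69909 : act 3 n31387 = n28600 := d16_1 D31387 (iv D28600) (iv F61024)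
theorem F69910 : act 4 n31387 = n29094 := d18_1 D31387 (iv F69894) F69893
def n31388 : Q := act 1 n28598
theorem D31388 : act 1 n28598 = n31388 := rfl
theorem F69911 : act 4 n31388 = n28601 := d8_2 (iv F61031) D31388 (iv D28601)
theorem F69912 : act 6 n31388 = n30029 := d10_2 F68640 D31388 F65250 D30034 F68641
theorem F69913 : act 2 n30041 = n31388 := d14_3 F69912 F65251 D30041
def n31389 : Q := act 2 n28598
theorem D31389 : act 2 n28598 = n31389 := rfl
theorem F69914 : act 0 n31389 = n28599 := d1_1 D31389 (iv D28599) D28598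
theorem F69915 : act 1 n31389 = n29347 := d6_1 D31389 (iv F63158) (iv F65274) F69913 (iv D31388)
theorem F69916 : act 4 n31389 = n28602 := d12_2 (iv F61031) D31389 (iv D28602)
theorem F69917 : act 6 n31389 = n31046 := d14_2 F68640 D31389 F68680
theorem F69918 : act 3 n29349 = n31389 := d15_5 F69916 (iv F69724) F69725 F63056 (iv F63164)
def n31390 : Q := act 5 n28598
theorem D31390 : act 5 n28598 = n31390 := rfl
theorem F69919 : act 0 n31390 = n28600 := d4_1 D31390 (iv D28600) D28598
theorem F69920 : act 4 n31390 = n28603 := d18_1 D31390 (iv D28603) (iv F61031)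
theorem F69921 : act 6 n31390 = n31036 := d22_1 D31390 (iv D31036) F59160 D28598
def n31391 : Q := act 3 n28599
theorem D31391 : act 3 n28599 = n31391 := rfl
theorem F69922 : act 0 n31391 = n29349 := d2_1 D31391 F69918 F69914
theorem F69923 : act 1 n31391 = n28609 := d7_1 D31391 (iv D28609) (iv F61032)
def n31392 : Q := act 5 n28599
theorem D31392 : act 5 n28599 = n31392 := rfl
theorem F69924 : act 1 n31392 = n29376 := d9_1 D31392 (iv F63223) (iv D28893) F51275 (iv F61032)
theorem F69925 : act 2 n31392 = n28600 := d13_1 D31392 (iv D28600) D28599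
theorem F69926 : act 4 n31392 = n28605 := d18_1 D31392 (iv D28605) (iv F61033)
def n31393 : Q := act 6 n28600
theorem D31393 : act 6 n28600 = n31393 := rfl
theorem F69927 : act 0 n31393 = n31036 := d5_1 D31393 (iv F69921) F69919
theorem F69928 : act 4 n31393 = n28606 := d19_1 D31393 (iv D28606) (iv F61034)
theorem F69929 : act 5 n31393 = n31035 := d20_1 D31393 F68640 D31390 F69921 (iv D31036) F59160 D28600
def n31394 : Q := act 5 n28602
theorem D31394 : act 5 n28602 = n31394 := rfl
theorem F69930 : act 0 n31394 = n28605 := d4_1 D31394 (iv D28605) (iv F61035)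
theorem F69931 : act 2 n31394 = n28603 := d13_1 D31394 (iv D28603) D28602
theorem F69932 : act 3 n31394 = n29377 := d16_1 D31394 F69726 F69724
theorem F69933 : act 6 n31394 = n30084 := d20_2 F61044 D31394 (iv D30084) F54284 D28605 (iv F68685) (iv D31047)
def n31395 : Q := act 1 n28603
theorem D31395 : act 1 n28603 = n31395 := rfl
def n31396 : Q := act 1 n28606
theorem D31396 : act 1 n28606 = n31396 := rfl
theorem F69934 : act 3 n31396 = n31232 := d7_2 F69416 D31396 F69443
theorem F69935 : act 6 n31396 = n31231 := d10_2 D28606 D31396 (iv D31231) F60413 F60386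
def n31397 : Q := act 2 n28607
theorem D31397 : act 2 n28607 = n31397 := rfl
theorem F69936 : act 4 n31397 = n28612 := d12_2 (iv F61053) D31397 (iv D28612)
theorem F69937 : act 5 n31397 = n30678 := d13_2 F61054 D31397 (iv D30678)
def n31398 : Q := act 1 n28608
theorem D31398 : act 1 n28608 = n31398 := rfl
theorem F69938 : act 0 n31398 = n29338 := d0_1 D31398 F63139 (iv F56357) (iv F60218) (iv F63154) (iv F69915) F69914 F61032 (iv F61055)
theorem F69939 : act 4 n31398 = n28614 := d8_2 (iv F61056) D31398 (iv D28614)
def n31399 : Q := act 3 n28608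
theorem D31399 : act 3 n28608 = n31399 := rfl
theorem F69940 : act 0 n31399 = n28609 := d2_1 D31399 (iv D28609) (iv F61055)
theorem F69941 : act 5 n31399 = n28789 := d16_2 F61481 D31399 F61623
theorem F69942 : act 6 n31399 = n28724 := d17_2 (iv F61057) D31399 (iv D28724)
theorem F69943 : act 2 n31399 = n28666 := d21_2 D28608 D31399 (iv D28666) (iv D24779) F38628 F35159 (iv F38547) D24729
def n31400 : Q := act 2 n28609
theorem D31400 : act 2 n28609 = n31400 := rfl
theorem F69944 : act 0 n31400 = n28666 := d1_1 D31400 (iv F69943) F69940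
theorem F69945 : act 3 n31400 = n28665 := d11_2 D28609 D31400 (iv D28665) F50345 F39167 (iv F50239) D28608 D31399 F69943 (iv D28666) (iv D24779) F38628 F35159 (iv F38547) D24730
theorem F69946 : act 5 n31400 = n28788 := d13_2 F61973 D31400 (iv F61972)
theorem F69947 : act 6 n31400 = n28725 := d14_2 (iv F61058) D31400 (iv D28725)
def n31401 : Q := act 4 n28609
theorem D31401 : act 4 n28609 = n31401 := rfl
theorem F69948 : act 3 n31401 = n28617 := d15_1 D31401 (iv D28617) (iv D24734) (iv F50242) D28609
theorem F69949 : act 5 n31401 = n30603 := d18_2 F61973 D31401 F67140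
theorem F69950 : act 6 n31401 = n28726 := d19_2 (iv F61058) D31401 (iv D28726)
def n31402 : Q := act 2 n28611
theorem D31402 : act 2 n28611 = n31402 := rfl
theorem F69951 : act 0 n31402 = n28612 := d1_1 D31402 (iv D28612) D28611
def n31403 : Q := act 1 n28612
theorem D31403 : act 1 n28612 = n31403 := rfl
theorem F69952 : act 2 n31403 = n28614 := d6_2 D28612 D31403 (iv D28614) (iv D24733) D24732
theorem F69953 : act 0 n29337 = n31403 := d1_3 F69952 F61253 D29337
def n31404 : Q := act 3 n28612
theorem D31404 : act 3 n28612 = n31404 := rfl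
def n31405 : Q := act 5 n28612
theorem D31405 : act 5 n28612 = n31405 := rfl
theorem F69954 : act 2 n31405 = n28613 := d13_1 D31405 (iv D28613) D28612
theorem F69955 : act 4 n31405 = n30678 := d18_1 D31405 (iv F69937) F69936
theorem F69956 : act 6 n30695 = n31405 := d19_0 F69955 F67370 D30695
def n31406 : Q := act 6 n28614
theorem D31406 : act 6 n28614 = n31406 := rfl
theorem F69957 : act 0 n31406 = n29339 := d5_1 D31406 (iv D29339) (iv F61253)
theorem F69958 : act 1 n31406 = n28738 := d10_1 D31406 (iv D28738) (iv D24840) (iv F50248) D28614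
theorem F69959 : act 3 n31406 = n29336 := d17_1 D31406 (iv D29336) F61252
theorem F69960 : act 5 n31406 = n31319 := d20_1 D31406 F69717 F63132 D29339 F63142 (iv F63110) F63109
def n31407 : Q := act 4 n28616
theorem D31407 : act 4 n28616 = n31407 := rfl
theorem F69961 : act 0 n31407 = n28802 := d3_1 D31407 F61649 (iv F61069)
theorem F69962 : act 1 n31407 = n29438 := d8_1 D31407 (iv F68840) F68838
theorem F69963 : act 2 n31407 = n28617 := d12_1 D31407 (iv D28617) D28616
theorem F69964 : act 3 n31407 = n29439 := d15_1 D31407 F63348 F59106 F57960 (iv F61070)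
theorem F69965 : act 5 n31407 = n31369 := d18_2 F61237 D31407 F69847
theorem F69966 : act 6 n31407 = n28741 := d19_2 (iv F61071) D31407 (iv D28741)
def n31408 : Q := act 1 n28626
theorem D31408 : act 1 n28626 = n31408 := rfl
theorem F69967 : act 0 n31408 = n30108 := d0_1 D31408 F65487 F65470 (iv D27330) F46134 D23222 D27345 (iv F61083) (iv F61098)
theorem F69968 : act 3 n31408 = n28630 := d7_2 (iv F61099) D31408 (iv D28630)
theorem F69969 : act 5 n31408 = n30107 := d9_2 D28626 D31408 (iv F65486) F60517 (iv F50254)
theorem F69970 : act 6 n31408 = n30088 := d10_2 (iv F61100) D31408 F65418 F60768 F61079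
theorem F69971 : act 2 n30320 = n31408 := d25_4 (iv F49020) F49019 (iv F55283) (iv F66203) (iv D31408) F61099 (iv F61111) F61112 F56545 F45214 F44059 (iv F43357) (iv F55305) (iv F65488) F65487 F65471 (iv F59144) (iv F59354) (iv D28024) (iv D24094) F37277 F25359 (iv F25302) F34698 (iv F21655) F21656 (iv F20741) (iv F26666) (iv F39750) F27329 D15797 (iv F40357) (iv F51704) F51705 F50985 D25026 (iv F55293) F55292 F43355 F29838 (iv F25805) F25806 (iv F23901) F28964 F25465 (iv F26500) F26501 (iv F34724) F34538 F23933 (iv F22519) (iv F30535) (iv F35508) (iv F35536) F35992 (iv F32893) (iv F32925) (iv F35504) (iv F45490) (iv F47668) F47667 (iv F36595) F36596 (iv F36350) (iv F37923) (iv F49366) F49365 (iv F58398) F58397 F47115 (iv D20007) (iv D14784) (iv F25729) (iv F35376) F31915 (iv F35375) D19929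
def n31409 : Q := act 1 n28632
theorem D31409 : act 1 n28632 = n31409 := rfl
theorem F69972 : act 3 n31409 = n31349 := d7_2 (iv F61125) D31409 (iv D31349)
theorem F69973 : act 5 n31409 = n29076 := d9_2 D28632 D31409 (iv D29076) F52180 F52023
theorem F69974 : act 2 n29164 = n31409 := d23_1 D29164 (iv D31409) F61123 (iv D24756) F38590 F33783 F24123 D13743 (iv F28324) D21638 D26062 (iv F64514) (iv F64516) (iv D29736) (iv F53708) F53710 F53410 D27622 F58278
def n31410 : Q := act 5 n28633
theorem D31410 : act 5 n28633 = n31410 := rfl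
theorem F69975 : act 0 n31410 = n31002 := d4_1 D31410 (iv D31002) (iv F61126)
theorem F69976 : act 2 n31410 = n30750 := d13_1 D31410 F67649 (iv F61128)
theorem F69977 : act 3 n31410 = n28634 := d16_1 D31410 (iv D28634) D28633
theorem F69978 : act 4 n31410 = n28636 := d18_1 D31410 F61137 (iv F61129)
theorem F69979 : act 6 n31410 = n28634 := d20_2 (iv F61130) D31410 (iv D28634) (iv F59018) D31002 F68528 (iv D30957)
def n31411 : Q := act 6 n28635
theorem D31411 : act 6 n28635 = n31411 := rfl
theorem F69980 : act 3 n31411 = n31353 := d17_1 D31411 (iv D31353) (iv F61133)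
def n31412 : Q := act 1 n28638
theorem D31412 : act 1 n28638 = n31412 := rfl
theorem F69981 : act 3 n31412 = n28639 := d7_2 (iv F61143) D31412 (iv D28639)
theorem F69982 : act 4 n31412 = n31354 := d8_2 (iv F61144) D31412 (iv D31354)
def n31413 : Q := act 6 n28639
theorem D31413 : act 6 n28639 = n31413 := rfl
theorem F69983 : act 1 n31413 = n31306 := d10_1 D31413 (iv D31306) (iv D28493) (iv F50309) D28639
theorem F69984 : act 2 n31413 = n29719 := d14_1 D31413 F64175 (iv F61747)
theorem F69985 : act 4 n31413 = n28642 := d19_1 D31413 (iv D28642) (iv F61146)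
theorem F69986 : act 5 n31413 = n29718 := d22_2 F64167 D31413 (iv D29718) (iv F64165)
def n31414 : Q := act 1 n28640
theorem D31414 : act 1 n28640 = n31414 := rfl
theorem F69987 : act 3 n31414 = n31358 := d7_2 (iv F61147) D31414 (iv D31358)
def n31415 : Q := act 6 n28640
theorem D31415 : act 6 n28640 = n31415 := rfl
theorem F69988 : act 0 n31415 = n28642 := d5_1 D31415 (iv D28642) D28640
theorem F69989 : act 2 n31415 = n31174 := d14_1 D31415 F69217 (iv F61736)
theorem F69990 : act 3 n31415 = n31360 := d17_1 D31415 (iv D31360) (iv F61147)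
theorem F69991 : act 5 n31415 = n31411 := d22_2 F64159 D31415 (iv D31411) (iv F64157)
def n31416 : Q := act 6 n28641
theorem D31416 : act 6 n28641 = n31416 := rfl
theorem F69992 : act 0 n31416 = n31174 := d5_1 D31416 F69217 F61732
theorem F69993 : act 1 n31416 = n30447 := d10_1 D31416 F66612 (iv F60985) F60989 (iv F61148)
theorem F69994 : act 2 n31416 = n28642 := d14_1 D31416 (iv D28642) D28641
theorem F69995 : act 3 n31416 = n30301 := d17_1 D31416 F66130 F66075
theorem F69996 : act 4 n31416 = n29719 := d19_1 D31416 F64175 F61744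
theorem F69997 : act 5 n31416 = n29713 := d22_2 F64155 D31416 (iv D29713) D29711
def n31417 : Q := act 5 n28642
theorem D31417 : act 5 n28642 = n31417 := rfl
theorem F69998 : act 0 n31417 = n31411 := d4_1 D31417 (iv F69991) F69988
theorem F69999 : act 2 n31417 = n29713 := d13_1 D31417 (iv F69997) F69994
theorem F70000 : act 3 n31417 = n31362 := d16_1 D31417 (iv D31362) (iv F61150)
theorem F70001 : act 4 n31417 = n29718 := d18_1 D31417 (iv F69986) F69985
theorem F70002 : act 6 n31417 = n29712 := d20_2 D28642 D31417 F64159 D31415 F69991 (iv D31411) F61134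
def n31418 : Q := act 2 n28644
theorem D31418 : act 2 n28644 = n31418 := rfl
theorem F70003 : act 1 n31418 = n30802 := d6_1 D31418 F67832 F61160 (iv D28645) D28644
theorem F70004 : act 6 n31418 = n30884 := d14_2 (iv F67951) D31418 F68096
def n31419 : Q := act 1 n28648
theorem D31419 : act 1 n28648 = n31419 := rfl
theorem F70005 : act 3 n31419 = n28649 := d7_2 (iv F61171) D31419 (iv D28649)
theorem F70006 : act 4 n31419 = n28653 := d8_2 (iv F61172) D31419 (iv D28653)
theorem F70007 : act 5 n31419 = n31240 := d9_2 D28648 D31419 (iv D31240) (iv D28388) (iv F50329)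
theorem F70008 : act 6 n31419 = n29145 := d10_2 (iv F61173) D31419 (iv D29145) (iv D25464) (iv F52256)
theorem F70009 : act 2 n31385 = n31419 := d25_14 (iv F46469) (iv F57759) D30787 F67788 F63899 F53275 F53273 F41731 (iv F41338) (iv F52653) D29349 F69918 (iv D31389) (iv F69907) (iv D31419) F61171 F50332 (iv F41412) (iv F42027) (iv F53155) F53156 F41679 F28211 (iv F26383) D20458 F38819 (iv F43116) F43115 F35243 (iv D18583) (iv D13562) (iv F23784) F39654 (iv F38394) F39790 (iv D18573) (iv F30127) (iv F34907) F24739 D14171 F24749 D14179 (iv F33030) (iv D14259) (iv D11152) (iv D8525) F6201 F3144 (iv F3703) (iv F7413) D9868 F17550 (iv F12773) (iv F19673) D14194 (iv F36127) (iv F31995) F31996 (iv F35795) (iv F44018) (iv D22483) (iv D17186) (iv F30170) (iv F35714) D23588 F54779 (iv D26529) F42790 F29554 (iv F29547) (iv F42782) F42781 (iv F42942) (iv F47178) F47179 F35878 D19245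
theorem F70010 : act 0 n31419 = n31386 := d1_1 F70009 (iv D31386) D31385
def n31420 : Q := act 0 n28649
theorem D31420 : act 0 n28649 = n31420 := rfl
theorem F70011 : act 2 n31420 = n30599 := d1_2 F63373 D31420 F67135
theorem F70012 : act 3 n31420 = n31386 := d2_2 F70005 D31420 (iv F70010)
theorem F70013 : act 4 n31420 = n28650 := d3_2 (iv F61174) D31420 (iv D28650)
theorem F70014 : act 5 n31420 = n31242 := d4_2 (iv F61175) D31420 (iv D31242)
theorem F70015 : act 6 n31420 = n29146 := d5_2 (iv F61176) D31420 (iv D29146)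
theorem F70016 : act 1 n30600 = n31420 := d24_14 F70015 F69484 (iv F69488) F69493 (iv D29643) (iv F63909) (iv F63911) (iv D28973) (iv D25313) F40729 D21159 D25369 D29030 (iv F67137)
def n31421 : Q := act 2 n28650
theorem D31421 : act 2 n28650 = n31421 := rfl
theorem F70017 : act 0 n31421 = n28651 := d1_1 D31421 (iv D28651) D28650
theorem F70018 : act 1 n31421 = n30477 := d6_1 D31421 F66732 (iv F57187) (iv F67282) (iv F67286)
theorem F70019 : act 3 n31421 = n30177 := d11_2 (iv F61177) D31421 F65690 (iv F62595) F62594 (iv D28661) (iv D24776) (iv F50335) D28651 (iv F68826) F68825 (iv F69514) (iv F69790) F69791 (iv D28659)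
theorem F70020 : act 4 n31421 = n30599 := d12_2 F70013 D31421 (iv F70011)
theorem F70021 : act 5 n31421 = n29517 := d13_2 F62593 D31421 F63554
theorem F70022 : act 6 n31421 = n30170 := d14_2 F69511 D31421 (iv F69508)
def n31422 : Q := act 0 n28653
theorem D31422 : act 0 n28653 = n31422 := rfl
theorem F70023 : act 3 n31422 = n28655 := d2_2 (iv F61185) D31422 (iv D28655)
theorem F70024 : act 4 n31422 = n31386 := d3_2 F70006 D31422 (iv F70010)
theorem F70025 : act 2 n31382 = n31422 := d12_3 F70024 (iv D31386) (iv F69893)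
def n31423 : Q := act 2 n28653
theorem D31423 : act 2 n28653 = n31423 := rfl
theorem F70026 : act 0 n31423 = n31382 := d1_1 D31423 F70025 (iv D31422)
theorem F70027 : act 4 n31423 = n31385 := d12_2 F70006 D31423 F70009
theorem F70028 : act 3 n31423 = n31383 := d25_18 (iv F62019) F62018 F59056 (iv F61846) (iv F61850) (iv D28580) (iv F60974) (iv F61903) F61904 F50943 (iv F39157) F39158 F26646 (iv F26268) (iv F38623) D24773 (iv F61185) D31423 F69896 (iv D30611) F57062 F52962 F41542 (iv F42234) D26287 F54160 F43562 (iv D20629) (iv D15295) (iv D11709) (iv D9594) F7070 (iv F8422) (iv F18089) (iv F22182) (iv F34449) F22009 F20693 F14312 F7063 (iv F4193) F4194 D5539 D10201 D12560 D16880 F35243 (iv D18583) (iv F33166) D22987 (iv F48846) F48849 D24237 F48928 F44485 (iv F37443) (iv F37445) (iv F37446) D19878 (iv F48856) (iv D24205) (iv F37520) F44691 (iv D22708) (iv F35433) D22667 (iv F44689) (iv F44691) (iv F48859) (iv D24207) (iv D19856) (iv D14609) (iv F25484) (iv F37440) (iv F44334) (iv F48874) (iv F51383)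
def n31424 : Q := act 6 n28653
theorem D31424 : act 6 n28653 = n31424 := rfl
theorem F70029 : act 1 n31424 = n29144 := d10_1 D31424 (iv D29144) F61191 (iv D28654) D28653
theorem F70030 : act 3 n31424 = n28657 := d17_1 D31424 (iv D28657) (iv F61185)
theorem F70031 : act 4 n31424 = n29145 := d19_1 D31424 (iv F70008) F70006
def n31425 : Q := act 1 n28655
theorem D31425 : act 1 n28655 = n31425 := rfl
theorem F70032 : act 4 n31425 = n28658 := d8_2 (iv F61192) D31425 (iv D28658)
theorem F70033 : act 5 n31425 = n30123 := d9_2 F68789 D31425 F65530 D30127 F68790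
theorem F70034 : act 2 n30134 = n31425 := d13_3 F70033 F65531 D30134
def n31426 : Q := act 2 n28655
theorem D31426 : act 2 n28655 = n31426 := rfl
theorem F70035 : act 0 n31426 = n28656 := d1_1 D31426 (iv D28656) D28655
theorem F70036 : act 1 n31426 = n29490 := d6_1 D31426 F63488 (iv F65553) F70034 (iv D31425)
theorem F70037 : act 4 n31426 = n28659 := d12_2 (iv F61192) D31426 (iv D28659)
theorem F70038 : act 5 n31426 = n31081 := d13_2 F68789 D31426 F68822
theorem F70039 : act 3 n31426 = n29491 := d21_1 D31426 (iv F63691) (iv F67161) (iv F69896) (iv F70028) (iv D31423) F61185 D28655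
def n31427 : Q := act 6 n28655
theorem D31427 : act 6 n28655 = n31427 := rfl
theorem F70040 : act 0 n31427 = n28657 := d5_1 D31427 (iv D28657) D28655
theorem F70041 : act 4 n31427 = n28660 := d19_1 D31427 (iv D28660) (iv F61192)
theorem F70042 : act 5 n31427 = n31073 := d22_2 F68789 D31427 (iv D31073) D31072
def n31428 : Q := act 3 n28656
theorem D31428 : act 3 n28656 = n31428 := rfl
theorem F70043 : act 0 n31428 = n29491 := d2_1 D31428 (iv F70039) F70035
theorem F70044 : act 1 n31428 = n28666 := d7_1 D31428 (iv D28666) (iv F61193)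
def n31429 : Q := act 6 n28656
theorem D31429 : act 6 n28656 = n31429 := rfl
theorem F70045 : act 1 n31429 = n29516 := d10_1 D31429 (iv F63553) (iv D28886) F51167 (iv F61193)
theorem F70046 : act 2 n31429 = n28657 := d14_1 D31429 (iv D28657) D28656
theorem F70047 : act 4 n31429 = n28662 := d19_1 D31429 (iv D28662) (iv F61194)
def n31430 : Q := act 5 n28657
theorem D31430 : act 5 n28657 = n31430 := rfl
theorem F70048 : act 0 n31430 = n31073 := d4_1 D31430 (iv F70042) F70040
theorem F70049 : act 4 n31430 = n28663 := d18_1 D31430 (iv D28663) (iv F61195)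
theorem F70050 : act 6 n31430 = n31072 := d20_2 D28657 D31430 F68789 D31427 F70042 (iv D31073) F59376
def n31431 : Q := act 6 n28659
theorem D31431 : act 6 n28659 = n31431 := rfl
theorem F70051 : act 0 n31431 = n28662 := d5_1 D31431 (iv D28662) (iv F61198)
theorem F70052 : act 2 n31431 = n28660 := d14_1 D31431 (iv D28660) D28659
theorem F70053 : act 3 n31431 = n29517 := d17_1 D31431 (iv F69793) F69791
theorem F70054 : act 5 n31431 = n30177 := d20_1 D31431 (iv D30177) F54458 D28662 (iv F68827) (iv D31082) (iv F61200)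
def n31432 : Q := act 1 n28660
theorem D31432 : act 1 n28660 = n31432 := rfl
def n31433 : Q := act 1 n28663
theorem D31433 : act 1 n28663 = n31433 := rfl
theorem F70055 : act 3 n31433 = n31256 := d7_2 F69514 D31433 F69541
theorem F70056 : act 5 n31433 = n31255 := d9_2 D28663 D31433 (iv D31255) F60492 F60465
def n31434 : Q := act 2 n28664
theorem D31434 : act 2 n28664 = n31434 := rfl
theorem F70057 : act 4 n31434 = n28669 := d12_2 (iv F61211) D31434 (iv D28669)
theorem F70058 : act 6 n31434 = n30748 := d14_2 F61212 D31434 (iv D30748)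
def n31435 : Q := act 1 n28665
theorem D31435 : act 1 n28665 = n31435 := rfl
theorem F70059 : act 0 n31435 = n29480 := d0_1 D31435 F63463 (iv F56330) (iv F60229) (iv F63487) (iv F70036) F70035 F61193 (iv F61213)
theorem F70060 : act 4 n31435 = n28671 := d8_2 (iv F61214) D31435 (iv D28671)
def n31436 : Q := act 4 n28666
theorem D31436 : act 4 n28666 = n31436 := rfl
theorem F70061 : act 3 n31436 = n28674 := d15_1 D31436 (iv D28674) (iv D24783) (iv F50348) D28666
theorem F70062 : act 5 n31436 = n28790 := d18_2 (iv F61216) D31436 (iv D28790)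
theorem F70063 : act 6 n31436 = n30591 := d19_2 F61953 D31436 F67115
def n31437 : Q := act 2 n28668
theorem D31437 : act 2 n28668 = n31437 := rfl
theorem F70064 : act 0 n31437 = n28669 := d1_1 D31437 (iv D28669) D28668
def n31438 : Q := act 1 n28669
theorem D31438 : act 1 n28669 = n31438 := rfl
theorem F70065 : act 2 n31438 = n28671 := d6_2 D28669 D31438 (iv D28671) (iv D24782) D24781
theorem F70066 : act 0 n29479 = n31438 := d1_3 F70065 (iv F63086) D29479
def n31439 : Q := act 3 n28669
theorem D31439 : act 3 n28669 = n31439 := rfl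
def n31440 : Q := act 6 n28669
theorem D31440 : act 6 n28669 = n31440 := rfl
theorem F70067 : act 2 n31440 = n28670 := d14_1 D31440 (iv D28670) D28669
theorem F70068 : act 4 n31440 = n30748 := d19_1 D31440 (iv F70058) F70057
theorem F70069 : act 5 n30757 = n31440 := d18_0 F70068 F67638 D30757
def n31441 : Q := act 5 n28671
theorem D31441 : act 5 n28671 = n31441 := rfl
theorem F70070 : act 0 n31441 = n29481 := d4_1 D31441 (iv D29481) F63086
theorem F70071 : act 1 n31441 = n28800 := d9_1 D31441 (iv D28800) (iv D24893) (iv F50356) D28671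
theorem F70072 : act 3 n31441 = n29478 := d16_1 D31441 (iv D29478) (iv F63085)
theorem F70073 : act 6 n31441 = n31345 := d20_2 F63429 D31441 F69784 F63456 D29481 F63466 (iv F63428)
def n31442 : Q := act 4 n28673
theorem D31442 : act 4 n28673 = n31442 := rfl
theorem F70074 : act 0 n31442 = n28742 := d3_1 D31442 F61500 (iv F61229)
theorem F70075 : act 1 n31442 = n29295 := d8_1 D31442 (iv F68707) F68705
theorem F70076 : act 2 n31442 = n28674 := d12_1 D31442 (iv D28674) D28673
theorem F70077 : act 3 n31442 = n29296 := d15_1 D31442 F63008 F59096 F57784 (iv F61230)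
theorem F70078 : act 5 n31442 = n28739 := d18_2 (iv F61231) D31442 (iv D28739)
theorem F70079 : act 6 n31442 = n31343 := d19_2 F61232 D31442 F69779
def n31443 : Q := act 1 n28683
theorem D31443 : act 1 n28683 = n31443 := rfl
theorem F70080 : act 0 n31443 = n30205 := d0_1 D31443 F65788 F65753 (iv D27420) F46318 D23296 D27434 (iv F61266) (iv F61283)
theorem F70081 : act 3 n31443 = n28687 := d7_2 (iv F61284) D31443 (iv D28687)
theorem F70082 : act 5 n31443 = n30185 := d9_2 (iv F61285) D31443 F65714 F60605 F61260
theorem F70083 : act 6 n31443 = n30204 := d10_2 D28683 D31443 F65783 F60679 (iv F50366)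
theorem F70084 : act 2 n30364 = n31443 := d25_4 (iv F48978) F48977 (iv F55679) (iv F66367) (iv D31443) F61284 (iv F61296) F61297 F56517 F45186 F44200 (iv F43891) (iv F55683) (iv F65789) F65788 F65755 (iv F59359) F59360 (iv D27952) (iv D24042) F37191 F25321 (iv F25284) F25283 (iv F21566) F21567 (iv F20703) (iv F26592) (iv F39706) F27174 D15669 (iv F40135) (iv F51544) F51545 F51062 D25047 (iv F55193) F55192 F43328 F30088 (iv F25844) F25845 (iv F23933) (iv F34538) F34724 (iv F26453) F26454 (iv F25465) (iv F28964) F23901 (iv F22444) (iv F30413) (iv F34152) (iv F35567) F36137 (iv F32508) F32507 (iv F33121) (iv F45515) (iv F47776) F47775 F36535 F36456 (iv F36253) (iv F37913) (iv F49205) F49204 (iv F58330) F58329 F46948 (iv D19952) (iv D14735) (iv F25683) (iv F31905) F31906 F29234 D19909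
def n31444 : Q := act 2 n28688
theorem D31444 : act 2 n28688 = n31444 := rfl
theorem F70085 : act 0 n31444 = n31076 := d1_1 D31444 (iv F69118) F69116
theorem F70086 : act 1 n31444 = n30519 := d6_1 D31444 (iv D30519) (iv D27070) (iv F50403) D28688
theorem F70087 : act 3 n31444 = n29313 := d11_2 (iv F61304) D31444 F63042 (iv F60833) F60832 F59221 (iv F59941) (iv F69119) F69118 F68798 F63930 (iv F68743) F68742 F59300 F50409
theorem F70088 : act 4 n31444 = n30787 := d12_2 (iv F61305) D31444 (iv D30787)
theorem F70089 : act 5 n31444 = n31075 := d13_2 F69108 D31444 (iv F69106)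
theorem F70090 : act 6 n31444 = n28697 := d14_2 (iv F61306) D31444 (iv D28697)
def n31445 : Q := act 1 n28689
theorem D31445 : act 1 n28689 = n31445 := rfl
theorem F70091 : act 3 n31445 = n30579 := d7_2 (iv F61308) D31445 (iv D30579)
theorem F70092 : act 6 n31445 = n28694 := d10_2 D28689 D31445 (iv D28694) (iv D24807) D24803
def n31446 : Q := act 1 n28691
theorem D31446 : act 1 n28691 = n31446 := rfl
theorem F70093 : act 3 n31446 = n28694 := d7_2 (iv F61317) D31446 (iv D28694)
theorem F70094 : act 6 n31446 = n30579 := d10_2 D28691 D31446 (iv D30579) F56959 F56889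
def n31447 : Q := act 1 n28693
theorem D31447 : act 1 n28693 = n31447 := rfl
theorem F70095 : act 4 n31447 = n28694 := d8_2 (iv F61325) D31447 (iv D28694)
def n31448 : Q := act 0 n28694
theorem D31448 : act 0 n28694 = n31448 := rfl
def n31449 : Q := act 2 n28694
theorem D31449 : act 2 n28694 = n31449 := rfl
theorem F70096 : act 1 n31449 = n28697 := d6_1 D31449 (iv D28697) (iv D24810) (iv F50418) D28694
theorem F70097 : act 5 n31432 = n31449 := d9_0 F70096 F61332 (iv F61372) (iv F61202) D31432
def n31450 : Q := act 5 n28694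
theorem D31450 : act 5 n28694 = n31450 := rfl
theorem F70098 : act 2 n31450 = n31432 := d13_1 D31450 F70097 (iv D31449)
def n31451 : Q := act 2 n28695
theorem D31451 : act 2 n28695 = n31451 := rfl
theorem F70099 : act 4 n31451 = n28697 := d12_2 (iv F61327) D31451 (iv D28697)
theorem F70100 : act 5 n31451 = n31161 := d13_2 F61329 D31451 (iv D31161)
theorem F70101 : act 6 n31451 = n30787 := d14_2 (iv F61328) D31451 (iv D30787)
def n31452 : Q := act 1 n28696
theorem D31452 : act 1 n28696 = n31452 := rfl
theorem F70102 : act 0 n31452 = n30614 := d0_1 D31452 F67170 (iv D30103) (iv D26359) F42344 F28582 (iv F38668) D24810 D28696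
theorem F70103 : act 3 n31452 = n28698 := d7_2 (iv F61330) D31452 (iv D28698)
theorem F70104 : act 4 n31452 = n30615 := d8_2 F69082 D31452 (iv F69080)
theorem F70105 : act 5 n31452 = n29749 := d9_2 (iv F61331) D31452 (iv D29749) (iv F53479) (iv F59968)
theorem F70106 : act 6 n31452 = n30783 := d10_2 F69121 D31452 F67770 (iv F65643) (iv F69117)
def n31453 : Q := act 2 n28696
theorem D31453 : act 2 n28696 = n31453 := rfl
theorem F70107 : act 0 n31453 = n28697 := d1_1 D31453 (iv D28697) D28696
theorem F70108 : act 5 n31453 = n29137 := d13_2 (iv F61331) D31453 F62610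
theorem F70109 : act 6 n31453 = n31076 := d14_2 F69121 D31453 (iv F69118)
theorem F70110 : act 3 n31453 = n29138 := d21_1 D31453 (iv F68734) F68735 F59292 F48571 F43975 (iv F50425) D28696
theorem F70111 : act 1 n31453 = n29154 := d23_2 (iv F61331) D31453 (iv F65882) (iv D30236) (iv D26464) F42490 F28675 F28620 (iv D14546) (iv F25383) (iv F37323) (iv F48633) D28054 (iv F66713) F66712 (iv F69138) (iv D31159) F59980 (iv F59967)
theorem F70112 : act 0 n28758 = n31449 := d0_7 F70111 (iv F65882) F65883 (iv D28769) (iv D24870) (iv F50519) D28758 F70096 (iv F70107)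
theorem F70113 : act 2 n31448 = n28758 := d1_0 F70112 (iv D31449) D31448
theorem F70114 : act 1 n28761 = n31448 := d6_5 F70113 (iv D28758) F50520 D24862 D28761
theorem F70115 : act 6 n31448 = n31395 := d10_2 (iv F61550) F70114 (iv D31395) F61037 (iv F61369)
theorem F70116 : act 0 n31395 = n31445 := d5_1 F70115 F70092 D31448
def n31454 : Q := act 3 n28697
theorem D31454 : act 3 n28697 = n31454 := rfl
theorem F70117 : act 0 n31454 = n29138 := d2_1 D31454 (iv F70110) F70107
theorem F70118 : act 2 n31454 = n29294 := d11_1 D31454 (iv F68713) F68712 F59277 (iv F50430) (iv F61330) D31453 F70110 (iv F68734) F68735 F59292 F48571 F43975 (iv F50425) D28697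
theorem F70119 : act 5 n31454 = n29136 := d16_2 (iv F61332) D31454 (iv F62605)
theorem F70120 : act 6 n31454 = n29313 := d17_2 F70090 D31454 (iv F70087)
theorem F70121 : act 4 n29293 = n31454 := d19_3 F70120 (iv D29313) (iv F63004)
def n31455 : Q := act 1 n28699
theorem D31455 : act 1 n28699 = n31455 := rfl
theorem F70122 : act 3 n31455 = n28705 := d7_2 (iv F61338) D31455 (iv D28705)
theorem F70123 : act 4 n31455 = n28700 := d8_2 (iv F61339) D31455 (iv D28700)
def n31456 : Q := act 0 n28700
theorem D31456 : act 0 n28700 = n31456 := rfl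
theorem F70124 : act 3 n31456 = n28706 := d2_2 (iv F61341) D31456 (iv D28706)
theorem F70125 : act 6 n31456 = n31236 := d5_2 F61705 D31456 F69459
theorem F70126 : act 1 n29101 = n31456 := d10_5 F70125 (iv D31236) (iv F60425) F60296 D29101
def n31457 : Q := act 2 n28700
theorem D31457 : act 2 n28700 = n31457 := rfl
def n31458 : Q := act 5 n28700
theorem D31458 : act 5 n28700 = n31458 := rfl
theorem F70127 : act 3 n31458 = n28707 := d16_1 D31458 (iv D28707) (iv F61341)
def n31459 : Q := act 1 n28701
theorem D31459 : act 1 n28701 = n31459 := rfl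
theorem F70128 : act 3 n31459 = n28708 := d7_2 (iv F61344) D31459 (iv D28708)
theorem F70129 : act 4 n31459 = n31446 := d8_2 (iv F61345) D31459 (iv D31446)
def n31460 : Q := act 1 n28702
theorem D31460 : act 1 n28702 = n31460 := rfl
theorem F70130 : act 2 n31460 = n29506 := d6_2 (iv F61347) D31460 F63521 F61429 (iv D28709)
theorem F70131 : act 3 n31460 = n28703 := d7_2 (iv F61348) D31460 (iv D28703)
theorem F70132 : act 4 n31460 = n28705 := d8_2 (iv F61349) D31460 (iv D28705)
def n31461 : Q := act 0 n28703
theorem D31461 : act 0 n28703 = n31461 := rfl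
theorem F70133 : act 2 n31461 = n29928 := d1_2 F64134 D31461 F64913
theorem F70134 : act 4 n31461 = n28706 := d3_2 (iv F61351) D31461 (iv D28706)
theorem F70135 : act 5 n31461 = n29927 := d23_4 (iv D24822) (iv F50440) D28703 D31461 (iv D29927) (iv D26181) (iv F42215) (iv D21784) F28497 (iv F26353) (iv F38769) F38771 (iv F50358) D28676 (iv F63530) (iv D29509) F61429 (iv D28709) (iv F50450)
def n31462 : Q := act 5 n28703
theorem D31462 : act 5 n28703 = n31462 := rfl
theorem F70136 : act 0 n31462 = n29927 := d4_1 D31462 (iv F70135) (iv D31461)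
theorem F70137 : act 2 n31462 = n29926 := d13_1 D31462 F64911 F64134
theorem F70138 : act 4 n31462 = n28707 := d18_1 D31462 (iv D28707) (iv F61351)
def n31463 : Q := act 1 n28704
theorem D31463 : act 1 n28704 = n31463 := rfl
theorem F70139 : act 3 n31463 = n31447 := d7_2 (iv F61354) D31463 (iv D31447)
theorem F70140 : act 4 n31463 = n28708 := d8_2 (iv F61355) D31463 (iv D28708)
def n31464 : Q := act 0 n28705
theorem D31464 : act 0 n28705 = n31464 := rfl
def n31465 : Q := act 2 n28705
theorem D31465 : act 2 n28705 = n31465 := rfl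
theorem F70141 : act 1 n31465 = n28712 := d6_1 D31465 (iv D28712) (iv D24823) (iv F50442) D28705
theorem F70142 : act 4 n31465 = n29506 := d12_2 F70132 D31465 (iv F70130)
theorem F70143 : act 0 n30157 = n31465 := d0_9 F70141 (iv F66712) F66713 F59425 D28056 F59432 (iv D26416) (iv F54426) D30157
theorem F70144 : act 2 n31464 = n30157 := d1_0 F70143 (iv D31465) D31464
theorem F70145 : act 1 n30160 = n31464 := d6_5 F70144 (iv D30157) F54427 D26406 D30160
def n31466 : Q := act 5 n28705
theorem D31466 : act 5 n28705 = n31466 := rfl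
theorem F70146 : act 1 n31466 = n31450 := d9_1 D31466 (iv D31450) (iv D28694) (iv F50443) D28705
def n31467 : Q := act 5 n28706
theorem D31467 : act 5 n28706 = n31467 := rfl
theorem F70147 : act 0 n31467 = n28707 := d4_1 D31467 (iv D28707) D28706
theorem F70148 : act 2 n31467 = n29702 := d13_1 D31467 F64138 F64124
theorem F70149 : act 4 n31467 = n29927 := d18_1 D31467 (iv F70135) F70134
theorem F70150 : act 6 n31467 = n28829 := d22_1 D31467 (iv D28829) F50656 D28706
theorem F70151 : act 1 n29930 = n31467 := d24_14 F70150 (iv D28829) (iv D24922) (iv D20452) D20451 D24920 (iv F60571) (iv D28436) D28435 F60567 D28442 (iv F60980) D31378 F69879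
def n31468 : Q := act 1 n28707
theorem D31468 : act 1 n28707 = n31468 := rfl
theorem F70152 : act 5 n31468 = n28708 := d9_2 D28707 D31468 (iv D28708) (iv D24820) D24819
def n31469 : Q := act 6 n28707
theorem D31469 : act 6 n28707 = n31469 := rfl
theorem F70153 : act 0 n31469 = n28829 := d5_1 D31469 (iv F70150) F70147
theorem F70154 : act 2 n31469 = n29693 := d14_1 D31469 (iv F64141) F64140
theorem F70155 : act 5 n31469 = n28828 := d20_1 D31469 F61730 D31467 F70150 (iv D28829) F50656 D28707
theorem F70156 : act 1 n30202 = n31469 := d6_5 F70154 (iv F64142) F54119 D26438 D30202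
def n31470 : Q := act 0 n28708
theorem D31470 : act 0 n28708 = n31470 := rfl
theorem F70157 : act 1 n31470 = n29834 := d0_2 D28708 D31470 F64574 (iv F64270) (iv F65635) F70145 (iv D31464) (iv D28705) (iv F50444)
def n31471 : Q := act 2 n28708
theorem D31471 : act 2 n28708 = n31471 := rfl
theorem F70158 : act 1 n31471 = n28714 := d6_1 D31471 (iv D28714) (iv D24824) (iv F50445) D28708
def n31472 : Q := act 6 n28708
theorem D31472 : act 6 n28708 = n31472 := rfl
theorem F70159 : act 1 n31472 = n31032 := d10_1 D31472 (iv D31032) F59157 (iv F50446) D28708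
def n31473 : Q := act 0 n28710
theorem D31473 : act 0 n28710 = n31473 := rfl
theorem F70160 : act 1 n31473 = n30706 := d0_2 D28710 D31473 (iv D30706) (iv D27353) (iv F46490) D27500 F61428 (iv D28709) (iv F50450)
theorem F70161 : act 3 n31473 = n28880 := d2_2 (iv F61430) D31473 (iv D28880)
theorem F70162 : act 4 n31473 = n28713 := d3_2 (iv F61431) D31473 (iv D28713)
theorem F70163 : act 5 n31473 = n30863 := d4_2 F65481 D31473 F68029
theorem F70164 : act 2 n31473 = n31066 := d23_1 (iv F70163) (iv D31066) F59333 (iv D24101) F37287 F25364 (iv F20574) F20577 (iv F21742) (iv F28641) (iv F42461) D26432 (iv F65127) F65126 F64430 D29799 F64463 D30106 (iv F68029)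
def n31474 : Q := act 2 n28710
theorem D31474 : act 2 n28710 = n31474 := rfl
theorem F70165 : act 0 n31474 = n31066 := d1_1 D31474 (iv F70164) (iv D31473)
theorem F70166 : act 4 n31474 = n28714 := d12_2 (iv F61431) D31474 (iv D28714)
def n31475 : Q := act 6 n28714
theorem D31475 : act 6 n28714 = n31475 := rfl
theorem F70167 : act 0 n31475 = n31067 := d5_1 D31475 (iv D31067) (iv F61440)
theorem F70168 : act 2 n31475 = n28715 := d14_1 D31475 (iv D28715) D28714
theorem F70169 : act 3 n31475 = n30600 := d17_1 D31475 F67138 F66795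
theorem F70170 : act 1 n31386 = n31475 := d7_3 F70169 F70016 F70012
def n31476 : Q := act 5 n28715
theorem D31476 : act 5 n28715 = n31476 := rfl
theorem F70171 : act 0 n31476 = n30111 := d4_1 D31476 (iv F69621) F69619
theorem F70172 : act 1 n31476 = n29815 := d9_1 D31476 F64503 F61507 (iv F61023) (iv F61441)
theorem F70173 : act 3 n31476 = n28716 := d16_1 D31476 (iv D28716) (iv F61442)
theorem F70174 : act 4 n31476 = n28892 := d18_1 D31476 (iv F67363) F67362
theorem F70175 : act 6 n31476 = n30109 := d20_2 D28715 D31476 F65492 (iv F69622) F69621 (iv D30111) F54338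
def n31477 : Q := act 1 n28721
theorem D31477 : act 1 n28721 = n31477 := rfl
theorem F70176 : act 0 n31477 = n30825 := d0_1 D31477 (iv F68206) F68205 F64296 (iv F58129) F58130 F46715 (iv F57872) (iv F61466)
theorem F70177 : act 2 n31477 = n28723 := d6_2 D28721 D31477 (iv D28723) (iv D24833) D24832
theorem F70178 : act 3 n31477 = n30817 := d7_2 F65270 D31477 F67892
theorem F70179 : act 4 n31477 = n28731 := d8_2 (iv F61467) D31477 (iv D28731)
def n31478 : Q := act 6 n28721
theorem D31478 : act 6 n28721 = n31478 := rfl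
theorem F70180 : act 0 n31478 = n30811 := d5_1 D31478 (iv D30811) (iv F61466)
theorem F70181 : act 2 n31478 = n28722 := d14_1 D31478 (iv D28722) D28721
theorem F70182 : act 4 n31478 = n28733 := d19_1 D31478 (iv D28733) (iv F61467)
def n31479 : Q := act 1 n28725
theorem D31479 : act 1 n28725 = n31479 := rfl
def n31480 : Q := act 4 n28725
theorem D31480 : act 4 n28725 = n31480 := rfl
theorem F70183 : act 0 n31480 = n30591 := d3_1 D31480 F67115 F61950
theorem F70184 : act 2 n31480 = n28726 := d12_1 D31480 (iv D28726) D28725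
def n31481 : Q := act 5 n28726
theorem D31481 : act 5 n28726 = n31481 := rfl
theorem F70185 : act 0 n31481 = n29296 := d4_1 D31481 (iv F67260) (iv F67261)
theorem F70186 : act 1 n31481 = n31200 := d9_1 D31481 F69316 D31201 (iv F69322) F65374
theorem F70187 : act 3 n31481 = n28742 := d16_1 D31481 (iv D28742) (iv F61473)
theorem F70188 : act 4 n31481 = n28727 := d18_1 D31481 (iv D28727) D28726
def n31482 : Q := act 1 n28729
theorem D31482 : act 1 n28729 = n31482 := rfl
theorem F70189 : act 0 n31482 = n28738 := d0_1 D31482 (iv F69958) F69957 (iv F68682) F68681 (iv F69188) F69187 (iv D28893) (iv F61478)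
theorem F70190 : act 4 n31482 = n28746 := d8_2 (iv F61480) D31482 (iv D28746)
theorem F70191 : act 6 n31482 = n28735 := d10_2 D28729 D31482 (iv F63424) F63427 (iv D28728)
def n31483 : Q := act 2 n28730
theorem D31483 : act 2 n28730 = n31483 := rfl
theorem F70192 : act 0 n31483 = n29090 := d1_1 D31483 F62530 F61485
theorem F70193 : act 4 n31483 = n28748 := d12_2 (iv F61483) D31483 (iv D28748)
theorem F70194 : act 6 n31483 = n29809 := d14_2 (iv F61484) D31483 (iv D29809)
def n31484 : Q := act 0 n28731
theorem D31484 : act 0 n28731 = n31484 := rfl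
theorem F70195 : act 1 n31484 = n29750 := d0_2 D28731 D31484 (iv D29750) (iv D25999) (iv F46709) F46710 F34020 D23377 (iv F50476)
theorem F70196 : act 2 n31484 = n28735 := d1_2 (iv F61486) D31484 (iv D28735)
theorem F70197 : act 3 n31484 = n30822 := d2_2 F62900 D31484 F67904
theorem F70198 : act 4 n31484 = n30825 := d3_2 F70179 D31484 (iv F70176)
def n31485 : Q := act 6 n28731
theorem D31485 : act 6 n28731 = n31485 := rfl
theorem F70199 : act 2 n31485 = n28738 := d14_1 D31485 (iv D28738) (iv F61486)
def n31486 : Q := act 1 n28733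
theorem D31486 : act 1 n28733 = n31486 := rfl
theorem F70200 : act 3 n31486 = n30393 := d7_2 F62909 D31486 F66449
def n31487 : Q := act 3 n28735
theorem D31487 : act 3 n28735 = n31487 := rfl
theorem F70201 : act 0 n31487 = n28736 := d2_1 D31487 (iv D28736) D28735
theorem F70202 : act 1 n31487 = n29002 := d7_1 D31487 (iv F63425) F63424
theorem F70203 : act 2 n31487 = n29012 := d11_1 D31487 (iv F62502) F62501 (iv F52499) (iv F62899) F62900 F61486 D28736 (iv F65644) F65645 F65517 (iv F58242) (iv F67905) (iv F70197) F70196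
def n31488 : Q := act 5 n28735
theorem D31488 : act 5 n28735 = n31488 := rfl
theorem F70204 : act 0 n31488 = n28737 := d4_1 D31488 (iv D28737) D28735
theorem F70205 : act 1 n31488 = n31488 := d9_1 D31488 (iv D31488) (iv F63424) F63426 F63424
def n31489 : Q := act 6 n28736
theorem D31489 : act 6 n28736 = n31489 := rfl
theorem F70206 : act 1 n31489 = n29336 := d10_1 D31489 (iv D29336) (iv F61239) F61067 (iv F61494)
theorem F70207 : act 3 n31489 = n28738 := d17_1 D31489 (iv D28738) D28736
def n31490 : Q := act 6 n28737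
theorem D31490 : act 6 n28737 = n31490 := rfl
theorem F70208 : act 5 n31490 = n31482 := d22_2 D28737 D31490 F70191 (iv D28735)
def n31491 : Q := act 5 n28738
theorem D31491 : act 5 n28738 = n31491 := rfl
theorem F70209 : act 0 n31491 = n31490 := d4_1 D31491 F70208 F70189
theorem F70210 : act 6 n31491 = n31488 := d20_2 D28738 D31491 (iv D31488) (iv F70191) (iv F70208) (iv D31490) (iv D28737)
def n31492 : Q := act 0 n28740
theorem D31492 : act 0 n28740 = n31492 := rfl
theorem F70211 : act 1 n31492 = n29004 := d0_2 D28740 D31492 F62314 (iv F56923) (iv F65598) F65599 F54422 F42442 (iv F50485)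
theorem F70212 : act 2 n31492 = n29007 := d1_2 F65361 D31492 F65363
theorem F70213 : act 3 n31492 = n28799 := d2_2 (iv F61497) D31492 (iv D28799)
theorem F70214 : act 5 n31479 = n31492 := d9_0 F70211 (iv F62476) F62475 (iv F61629) D31479
def n31493 : Q := act 5 n28740
theorem D31493 : act 5 n28740 = n31493 := rfl
theorem F70215 : act 0 n31493 = n31479 := d4_1 D31493 F70214 (iv D31492)
theorem F70216 : act 1 n31493 = n29478 := d9_1 D31493 (iv D29478) F63082 F61227 D28740
theorem F70217 : act 3 n31493 = n28800 := d16_1 D31493 (iv D28800) (iv F61497)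
def n31494 : Q := act 6 n28742
theorem D31494 : act 6 n28742 = n31494 := rfl
theorem F70218 : act 0 n31494 = n31343 := d5_1 D31494 (iv F70079) F70074
theorem F70219 : act 1 n31494 = n30637 := d10_1 D31494 F67248 F63398 D29467 (iv F63422)
theorem F70220 : act 4 n31494 = n28744 := d19_1 D31494 (iv D28744) (iv F61500)
theorem F70221 : act 5 n31494 = n31340 := d20_1 D31494 (iv F69768) (iv F70078) F70079 F69780 F61072 D28742
def n31495 : Q := act 2 n28746
theorem D31495 : act 2 n28746 = n31495 := rfl
theorem F70222 : act 1 n31495 = n28748 := d6_1 D31495 (iv D28748) (iv D24848) (iv F50490) D28746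
theorem F70223 : act 6 n31495 = n30825 := d14_2 (iv F63409) D31495 F67908
theorem F70224 : act 3 n31495 = n30633 := d21_1 D31495 (iv D30633) (iv D27252) (iv D23150) (iv F45913) D27219 D30605 F67143
def n31496 : Q := act 5 n28746
theorem D31496 : act 5 n28746 = n31496 := rfl
theorem F70225 : act 1 n31496 = n29327 := d9_1 D31496 F63109 (iv D28614) (iv F50491) D28746
theorem F70226 : act 3 n31496 = n29180 := d16_1 D31496 (iv F63415) F63414
theorem F70227 : act 4 n31496 = n31490 := d18_1 D31496 F70208 F70190
theorem F70228 : act 6 n31496 = n30491 := d22_1 D31496 F66792 (iv F67144) F67143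
def n31497 : Q := act 2 n28747
theorem D31497 : act 2 n28747 = n31497 := rfl
theorem F70229 : act 0 n31497 = n28748 := d1_1 D31497 (iv D28748) D28747
theorem F70230 : act 1 n31497 = n29091 := d6_1 D31497 F62531 F61030 F61026 (iv F61507)
theorem F70231 : act 4 n31497 = n29090 := d12_2 (iv F61509) D31497 F62530
theorem F70232 : act 6 n31497 = n29811 := d14_2 (iv F61510) D31497 (iv D29811)
theorem F70233 : act 3 n31497 = n30506 := d21_1 D31497 (iv D30506) F56492 D27043 (iv F56499) (iv D24851) (iv F50492) D28747
def n31498 : Q := act 3 n28748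
theorem D31498 : act 3 n28748 = n31498 := rfl
theorem F70234 : act 0 n31498 = n30506 := d2_1 D31498 (iv F70233) F70229
theorem F70235 : act 1 n31498 = n30633 := d7_1 D31498 (iv F70224) F70222
theorem F70236 : act 2 n31498 = n30505 := d11_1 D31498 F66838 D30508 (iv F66847) (iv D28750) (iv F61508) D31497 F70233 (iv D30506) F56492 D27043 (iv F56499) (iv D24851) (iv F50492) D28748
theorem F70237 : act 6 n31498 = n29813 := d17_2 (iv F61511) D31498 (iv D29813)
theorem F70238 : act 4 n30828 = n31498 := d19_3 F70237 (iv F68222) F68223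
def n31499 : Q := act 5 n28748
theorem D31499 : act 5 n28748 = n31499 := rfl
theorem F70239 : act 2 n31499 = n28749 := d13_1 D31499 (iv D28749) D28748
def n31500 : Q := act 2 n28752
theorem D31500 : act 2 n28752 = n31500 := rfl
theorem F70240 : act 0 n31500 = n31039 := d1_1 D31500 (iv F69171) F69169
theorem F70241 : act 1 n31500 = n30536 := d6_1 D31500 (iv D30536) (iv D27096) (iv F50507) D28752
theorem F70242 : act 3 n31500 = n29455 := d11_2 (iv F61522) D31500 F63378 (iv F60895) F60894 F59437 (iv F60029) (iv F69172) F69171 F68649 F64724 (iv F68878) F68877 F59510 F50513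
theorem F70243 : act 4 n31500 = n30842 := d12_2 (iv F61523) D31500 (iv D30842)
theorem F70244 : act 5 n31500 = n28761 := d13_2 (iv F61524) D31500 (iv D28761)
theorem F70245 : act 6 n31500 = n31038 := d14_2 F69162 D31500 (iv F69159)
def n31501 : Q := act 1 n28753
theorem D31501 : act 1 n28753 = n31501 := rfl
theorem F70246 : act 3 n31501 = n30586 := d7_2 (iv F61526) D31501 (iv D30586)
theorem F70247 : act 5 n31501 = n28758 := d9_2 D28753 D31501 (iv D28758) (iv D24858) D24855
theorem F70248 : act 0 n31501 = n31432 := d23_3 D27093 (iv F61525) D31501 F70097 (iv D31449) (iv D28694) F50417 D24820 F50445 D24824 D28713 (iv F65492) F65493 (iv D29028) F52053 (iv D21163) D21161 (iv F49949) F49948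
def n31502 : Q := act 1 n28755
theorem D31502 : act 1 n28755 = n31502 := rfl
theorem F70249 : act 3 n31502 = n28758 := d7_2 (iv F61535) D31502 (iv D28758)
theorem F70250 : act 5 n31502 = n30586 := d9_2 D28755 D31502 (iv D30586) F56994 F56909
def n31503 : Q := act 1 n28757
theorem D31503 : act 1 n28757 = n31503 := rfl
theorem F70251 : act 4 n31503 = n28758 := d8_2 (iv F61543) D31503 (iv D28758)
def n31504 : Q := act 6 n28758
theorem D31504 : act 6 n28758 = n31504 := rfl
theorem F70252 : act 2 n31504 = n31395 := d14_1 D31504 (iv F70115) F70113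
def n31505 : Q := act 2 n28759
theorem D31505 : act 2 n28759 = n31505 := rfl
theorem F70253 : act 4 n31505 = n28761 := d12_2 (iv F61545) D31505 (iv D28761)
theorem F70254 : act 5 n31505 = n30842 := d13_2 (iv F61546) D31505 (iv D30842)
theorem F70255 : act 6 n31505 = n31171 := d14_2 F61547 D31505 (iv D31171)
def n31506 : Q := act 1 n28760
theorem D31506 : act 1 n28760 = n31506 := rfl
theorem F70256 : act 0 n31506 = n30625 := d0_1 D31506 F67205 (iv D30195) (iv D26434) F42463 F28643 (iv F38729) D24862 D28760
theorem F70257 : act 3 n31506 = n28762 := d7_2 (iv F61548) D31506 (iv D28762)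
theorem F70258 : act 4 n31506 = n30626 := d8_2 F69095 D31506 (iv F69093)
theorem F70259 : act 5 n31506 = n30841 := d9_2 F69174 D31506 F67953 (iv F65359) (iv F69170)
theorem F70260 : act 6 n31506 = n29958 := d10_2 (iv F61549) D31506 (iv D29958) (iv F54073) (iv F60052)
def n31507 : Q := act 2 n28760
theorem D31507 : act 2 n28760 = n31507 := rfl
theorem F70261 : act 0 n31507 = n28761 := d1_1 D31507 (iv D28761) D28760
theorem F70262 : act 5 n31507 = n31039 := d13_2 F69174 D31507 (iv F69171)
theorem F70263 : act 6 n31507 = n29086 := d14_2 (iv F61549) D31507 F62525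
theorem F70264 : act 3 n31507 = n29088 := d21_1 D31507 (iv F68867) F68868 F59502 F48692 F39579 (iv F50529) D28760
theorem F70265 : act 1 n29104 = n31507 := d7_3 F70264 F62527 (iv F62552)
def n31508 : Q := act 3 n28761
theorem D31508 : act 3 n28761 = n31508 := rfl
theorem F70266 : act 0 n31508 = n29088 := d2_1 D31508 (iv F70264) F70261
theorem F70267 : act 2 n31508 = n29437 := d11_1 D31508 (iv F68846) F68845 F59487 (iv F50531) (iv F61548) D31507 F70264 (iv F68867) F68868 F59502 F48692 F39579 (iv F50529) D28761
theorem F70268 : act 5 n31508 = n29455 := d16_2 F70244 D31508 (iv F70242)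
theorem F70269 : act 6 n31508 = n29085 := d17_2 (iv F61550) D31508 (iv F62520)
theorem F70270 : act 4 n29436 = n31508 := d19_3 F70269 (iv F69393) F69395
def n31509 : Q := act 1 n28763
theorem D31509 : act 1 n28763 = n31509 := rfl
theorem F70271 : act 3 n31509 = n28772 := d7_2 (iv F61556) D31509 (iv D28772)
theorem F70272 : act 4 n31509 = n28764 := d8_2 (iv F61557) D31509 (iv D28764)
def n31510 : Q := act 0 n28764
theorem D31510 : act 0 n28764 = n31510 := rfl
theorem F70273 : act 3 n31510 = n28769 := d2_2 (iv F61559) D31510 (iv D28769)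
theorem F70274 : act 5 n31510 = n31260 := d4_2 F61810 D31510 F69557
theorem F70275 : act 1 n29152 = n31510 := d9_5 F70274 (iv D31260) F60504 (iv F60431) D29152
def n31511 : Q := act 2 n28764
theorem D31511 : act 2 n28764 = n31511 := rfl
def n31512 : Q := act 6 n28764
theorem D31512 : act 6 n28764 = n31512 := rfl
theorem F70276 : act 3 n31512 = n28770 := d17_1 D31512 (iv D28770) (iv F61559)
def n31513 : Q := act 1 n28765
theorem D31513 : act 1 n28765 = n31513 := rfl
theorem F70277 : act 3 n31513 = n28771 := d7_2 (iv F61562) D31513 (iv D28771)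
theorem F70278 : act 4 n31513 = n31502 := d8_2 (iv F61563) D31513 (iv D31502)
def n31514 : Q := act 1 n28766
theorem D31514 : act 1 n28766 = n31514 := rfl
theorem F70279 : act 2 n31514 = n29366 := d6_2 (iv F61565) D31514 F63193 F61581 (iv D28774)
theorem F70280 : act 3 n31514 = n28767 := d7_2 (iv F61566) D31514 (iv D28767)
theorem F70281 : act 4 n31514 = n28772 := d8_2 (iv F61567) D31514 (iv D28772)
def n31515 : Q := act 0 n28767
theorem D31515 : act 0 n28767 = n31515 := rfl
theorem F70282 : act 2 n31515 = n29710 := d1_2 F64893 D31515 (iv F64891)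
theorem F70283 : act 4 n31515 = n28769 := d3_2 (iv F61569) D31515 (iv D28769)
theorem F70284 : act 6 n29709 = n31515 := d14_0 F70282 (iv D29710) D29709
def n31516 : Q := act 6 n28767
theorem D31516 : act 6 n28767 = n31516 := rfl
theorem F70285 : act 0 n31516 = n29709 := d5_1 D31516 F70284 (iv D31515)
theorem F70286 : act 2 n31516 = n29708 := d14_1 D31516 (iv F64895) F64893
theorem F70287 : act 4 n31516 = n28770 := d19_1 D31516 (iv D28770) (iv F61569)
def n31517 : Q := act 1 n28768
theorem D31517 : act 1 n28768 = n31517 := rfl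
theorem F70288 : act 3 n31517 = n31503 := d7_2 (iv F61572) D31517 (iv D31503)
theorem F70289 : act 4 n31517 = n28771 := d8_2 (iv F61573) D31517 (iv D28771)
def n31518 : Q := act 6 n28769
theorem D31518 : act 6 n28769 = n31518 := rfl
theorem F70290 : act 0 n31518 = n28770 := d5_1 D31518 (iv D28770) D28769
theorem F70291 : act 2 n31518 = n29707 := d14_1 D31518 (iv F64881) F64879
theorem F70292 : act 4 n31518 = n29709 := d19_1 D31518 F70284 F70283
theorem F70293 : act 5 n31518 = n28856 := d22_2 F61839 D31518 (iv D28856) D28855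
theorem F70294 : act 1 n31518 = n29712 := d24_2 D28856 (iv F70293) (iv F70002) (iv D31417) F61149 (iv D28496) (iv F60729) (iv D28489) D28490 F60733 (iv D24951) (iv D20470) D20469 D24949
def n31519 : Q := act 1 n28770
theorem D31519 : act 1 n28770 = n31519 := rfl
theorem F70295 : act 2 n31519 = n31468 := d6_2 F64898 D31519 (iv D31468) (iv F64140) (iv F64897)
theorem F70296 : act 6 n31519 = n28771 := d10_2 D28770 D31519 (iv D28771) (iv D24871) D24870
theorem F70297 : act 5 n31471 = n31519 := d13_0 F70295 F70152 D31471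
def n31520 : Q := act 5 n28770
theorem D31520 : act 5 n28770 = n31520 := rfl
theorem F70298 : act 0 n31520 = n28856 := d4_1 D31520 (iv F70293) F70290
theorem F70299 : act 1 n31520 = n30110 := d9_1 D31520 F65496 (iv F70158) F70297 (iv D31519)
theorem F70300 : act 2 n31520 = n29800 := d13_1 D31520 (iv F64900) F64898
theorem F70301 : act 6 n31520 = n28855 := d20_2 D28770 D31520 F61839 D31518 F70293 (iv D28856) F50729
def n31521 : Q := act 0 n28771
theorem D31521 : act 0 n28771 = n31521 := rfl
def n31522 : Q := act 2 n28771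
theorem D31522 : act 2 n28771 = n31522 := rfl
theorem F70302 : act 1 n31522 = n28776 := d6_1 D31522 (iv D28776) (iv D24876) (iv F50546) D28771
theorem F70303 : act 6 n31522 = n31468 := d14_2 F70296 D31522 (iv F70295)
def n31523 : Q := act 5 n28771
theorem D31523 : act 5 n28771 = n31523 := rfl
theorem F70304 : act 1 n31523 = n31069 := d9_1 D31523 (iv D31069) F59373 (iv F50547) D28771
def n31524 : Q := act 0 n28772
theorem D31524 : act 0 n28772 = n31524 := rfl
def n31525 : Q := act 2 n28772
theorem D31525 : act 2 n28772 = n31525 := rfl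
theorem F70305 : act 1 n31525 = n28779 := d6_1 D31525 (iv D28779) (iv D24877) (iv F50549) D28772
theorem F70306 : act 4 n31525 = n29366 := d12_2 F70281 D31525 (iv F70279)
theorem F70307 : act 0 n30064 = n31525 := d0_9 F70305 (iv F66740) F66741 F59212 D27985 F61042 (iv D26342) (iv F54250) D30064
theorem F70308 : act 2 n31524 = n30064 := d1_0 F70307 (iv D31525) D31524
theorem F70309 : act 1 n30067 = n31524 := d6_5 F70308 (iv D30064) F54251 D26331 D30067
theorem F70310 : act 1 n31521 = n29595 := d0_6 F70309 (iv D31524) (iv D28772) F50548 D28771 D31521 F63761 D29597 (iv F65355)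
def n31526 : Q := act 6 n28772
theorem D31526 : act 6 n28772 = n31526 := rfl
theorem F70311 : act 1 n31526 = n31504 := d10_1 D31526 (iv D31504) (iv D28758) (iv F50550) D28772
def n31527 : Q := act 0 n28773
theorem D31527 : act 0 n28773 = n31527 := rfl
theorem F70312 : act 1 n31527 = n30710 := d0_2 D28773 D31527 F67508 (iv D27442) (iv F46613) D27576 F61580 (iv D28774) F50554
theorem F70313 : act 3 n31527 = n28889 := d2_2 (iv F61575) D31527 (iv D28889)
theorem F70314 : act 4 n31527 = n28775 := d3_2 (iv F61576) D31527 (iv D28775)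
theorem F70315 : act 6 n31527 = n30805 := d5_2 F65768 D31527 F67843
theorem F70316 : act 2 n31029 = n31527 := d12_3 F70314 F61583 (iv F68620)
def n31528 : Q := act 2 n28773
theorem D31528 : act 2 n28773 = n31528 := rfl
theorem F70317 : act 0 n31528 = n31029 := d1_1 D31528 F70316 (iv D31527)
theorem F70318 : act 4 n31528 = n28776 := d12_2 (iv F61576) D31528 (iv D28776)
def n31529 : Q := act 5 n28776
theorem D31529 : act 5 n28776 = n31529 := rfl
theorem F70319 : act 0 n31529 = n31030 := d4_1 D31529 (iv D31030) (iv F61585)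
theorem F70320 : act 2 n31529 = n28777 := d13_1 D31529 (iv D28777) D28776
theorem F70321 : act 3 n31529 = n30612 := d16_1 D31529 F67165 F66808
theorem F70322 : act 1 n31423 = n31529 := d7_3 F70321 F69900 (iv F70028)
def n31530 : Q := act 6 n28777
theorem D31530 : act 6 n28777 = n31530 := rfl
theorem F70323 : act 0 n31530 = n30203 := d5_1 D31530 (iv F69700) F69697
theorem F70324 : act 1 n31530 = n30015 := d10_1 D31530 F65209 F61654 (iv F61184) (iv F61586)
theorem F70325 : act 3 n31530 = n28780 := d17_1 D31530 (iv D28780) (iv F61587)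
theorem F70326 : act 4 n31530 = n28884 := d19_1 D31530 (iv F67632) F67630
theorem F70327 : act 5 n31530 = n30201 := d20_1 D31530 F65775 (iv F69699) F69700 (iv D30203) F54514 D28777
def n31531 : Q := act 1 n28785
theorem D31531 : act 1 n28785 = n31531 := rfl
theorem F70328 : act 0 n31531 = n30883 := d0_1 D31531 (iv F68283) F68282 F65029 (iv F58223) F58224 F46769 (iv F58052) (iv F61616)
theorem F70329 : act 2 n31531 = n28787 := d6_2 D28785 D31531 (iv D28787) (iv D24886) D24885
theorem F70330 : act 3 n31531 = n30875 := d7_2 F65550 D31531 F68079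
theorem F70331 : act 4 n31531 = n28795 := d8_2 (iv F61617) D31531 (iv D28795)
def n31532 : Q := act 5 n28785
theorem D31532 : act 5 n28785 = n31532 := rfl
theorem F70332 : act 0 n31532 = n30868 := d4_1 D31532 (iv D30868) (iv F61616)
theorem F70333 : act 2 n31532 = n28786 := d13_1 D31532 (iv D28786) D28785
theorem F70334 : act 4 n31532 = n28796 := d18_1 D31532 (iv D28796) (iv F61617)
def n31533 : Q := act 1 n28789
theorem D31533 : act 1 n28789 = n31533 := rfl
theorem F70335 : act 0 n31533 = n31489 := d0_1 D31533 F70206 F63133 (iv F61017) (iv F69901) F69902 F66759 F66746 F61971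
theorem F70336 : act 3 n31533 = n31482 := d7_2 (iv F61623) D31533 (iv D31482)
theorem F70337 : act 6 n31533 = n31487 := d10_2 F61624 D31533 F70202 (iv F62439) F62451
def n31534 : Q := act 4 n28789
theorem D31534 : act 4 n28789 = n31534 := rfl
theorem F70338 : act 0 n31534 = n30603 := d3_1 D31534 F67140 F61971
theorem F70339 : act 2 n31534 = n28790 := d12_1 D31534 (iv D28790) D28789
theorem F70340 : act 3 n31534 = n31494 := d15_1 D31534 F70220 F61503 (iv F61480) (iv F61623)
theorem F70341 : act 6 n31534 = n31481 := d19_2 F61624 D31534 F70188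
def n31535 : Q := act 6 n28790
theorem D31535 : act 6 n28790 = n31535 := rfl
theorem F70342 : act 0 n31535 = n29439 := d5_1 D31535 (iv F67319) (iv F67320)
theorem F70343 : act 1 n31535 = n31207 := d10_1 D31535 F69344 D31208 (iv F69349) F65657
theorem F70344 : act 2 n31535 = n31481 := d14_1 D31535 (iv F70341) F70339
theorem F70345 : act 3 n31535 = n28802 := d17_1 D31535 (iv D28802) (iv F61625)
theorem F70346 : act 4 n31535 = n28791 := d19_1 D31535 (iv D28791) D28790
theorem F70347 : act 5 n31480 = n31535 := d22_0 (iv D31535) (iv F70062) F70063 (iv F70183)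
def n31536 : Q := act 1 n28793
theorem D31536 : act 1 n28793 = n31536 := rfl
theorem F70348 : act 0 n31536 = n28800 := d0_1 D31536 (iv F70071) F70070 (iv F68824) F68823 (iv F69135) F69134 (iv D28886) (iv F61632)
theorem F70349 : act 3 n31536 = n31479 := d7_2 (iv F61634) D31536 (iv D31479)
theorem F70350 : act 4 n31536 = n28804 := d8_2 (iv F61635) D31536 (iv D28804)
theorem F70351 : act 5 n31536 = n28799 := d9_2 D28793 D31536 (iv F63105) F63107 (iv D28792)
def n31537 : Q := act 2 n28794
theorem D31537 : act 2 n28794 = n31537 := rfl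
theorem F70352 : act 0 n31537 = n29141 := d1_1 D31537 F62615 F61640
theorem F70353 : act 4 n31537 = n28806 := d12_2 (iv F61638) D31537 (iv D28806)
theorem F70354 : act 5 n31537 = n30009 := d13_2 (iv F61639) D31537 (iv D30009)
def n31538 : Q := act 0 n28795
theorem D31538 : act 0 n28795 = n31538 := rfl
theorem F70355 : act 1 n31538 = n29959 := d0_2 D28795 D31538 (iv D29959) (iv D26230) (iv F46761) F46762 F34066 D23436 (iv F50580)
theorem F70356 : act 2 n31538 = n28799 := d1_2 (iv F61641) D31538 (iv D28799)
theorem F70357 : act 3 n31538 = n30880 := d2_2 F62747 D31538 F68091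
theorem F70358 : act 4 n31538 = n30883 := d3_2 F70331 D31538 (iv F70328)
def n31539 : Q := act 5 n28795
theorem D31539 : act 5 n28795 = n31539 := rfl
theorem F70359 : act 2 n31539 = n28800 := d13_1 D31539 (iv D28800) (iv F61641)
def n31540 : Q := act 1 n28796
theorem D31540 : act 1 n28796 = n31540 := rfl
theorem F70360 : act 3 n31540 = n30373 := d7_2 F62750 D31540 F66399
def n31541 : Q := act 6 n28799
theorem D31541 : act 6 n28799 = n31541 := rfl
theorem F70361 : act 0 n31541 = n28801 := d5_1 D31541 (iv D28801) D28799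
theorem F70362 : act 1 n31541 = n31541 := d10_1 D31541 (iv D31541) (iv F63105) F63108 F63105
def n31542 : Q := act 6 n28800
theorem D31542 : act 6 n28800 = n31542 := rfl
theorem F70363 : act 5 n31542 = n31541 := d22_2 D28800 D31542 (iv D31541) (iv D28799)
def n31543 : Q := act 5 n28801
theorem D31543 : act 5 n28801 = n31543 := rfl
theorem F70364 : act 0 n31543 = n31542 := d4_1 D31543 F70363 F70361
theorem F70365 : act 6 n31543 = n31536 := d20_2 D28801 D31543 F70351 D31541 (iv F70363) (iv D31542) (iv D28800)
def n31544 : Q := act 5 n28802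
theorem D31544 : act 5 n28802 = n31544 := rfl
theorem F70366 : act 0 n31544 = n31369 := d4_1 D31544 (iv F69965) F69961
theorem F70367 : act 1 n31544 = n30657 := d9_1 D31544 F67307 F63064 D29325 (iv F63103)
theorem F70368 : act 2 n31544 = n31494 := d13_1 D31544 F70221 F69765
theorem F70369 : act 3 n31544 = n31480 := d16_1 D31544 F70347 F70345
theorem F70370 : act 4 n31544 = n28803 := d18_1 D31544 (iv D28803) (iv F61649)
theorem F70371 : act 6 n31544 = n31366 := d20_2 D28802 D31544 (iv F69835) (iv F69966) F69965 F69848 F61233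
def n31545 : Q := act 2 n28804
theorem D31545 : act 2 n28804 = n31545 := rfl
theorem F70372 : act 1 n31545 = n28806 := d6_1 D31545 (iv D28806) (iv D24899) (iv F50590) D28804
theorem F70373 : act 5 n31545 = n30883 := d13_2 (iv F63075) D31545 F68095
theorem F70374 : act 3 n31545 = n30622 := d21_1 D31545 (iv D30622) (iv D27237) (iv D23135) (iv F45891) D27207 D30593 F67118
def n31546 : Q := act 6 n28804
theorem D31546 : act 6 n28804 = n31546 := rfl
theorem F70375 : act 1 n31546 = n29469 := d10_1 D31546 F63429 (iv D28671) (iv F50591) D28804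
theorem F70376 : act 3 n31546 = n29236 := d17_1 D31546 (iv F63081) F63080
theorem F70377 : act 4 n31546 = n31543 := d19_1 D31546 F70365 F70350
theorem F70378 : act 5 n31546 = n30495 := d22_2 (iv F63075) D31546 F66805 (iv F63073)
def n31547 : Q := act 2 n28805
theorem D31547 : act 2 n28805 = n31547 := rfl
theorem F70379 : act 0 n31547 = n28806 := d1_1 D31547 (iv D28806) D28805
theorem F70380 : act 1 n31547 = n29142 := d6_1 D31547 F62616 F61191 F61187 (iv F61654)
theorem F70381 : act 4 n31547 = n29141 := d12_2 (iv F61656) D31547 F62615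
theorem F70382 : act 5 n31547 = n30011 := d13_2 (iv F61657) D31547 (iv D30011)
theorem F70383 : act 3 n31547 = n30511 := d21_1 D31547 (iv D30511) F56520 D27051 (iv F56527) (iv D24902) (iv F50592) D28805
def n31548 : Q := act 3 n28806
theorem D31548 : act 3 n28806 = n31548 := rfl
theorem F70384 : act 0 n31548 = n30511 := d2_1 D31548 (iv F70383) F70379
theorem F70385 : act 1 n31548 = n30622 := d7_1 D31548 (iv F70374) F70372
theorem F70386 : act 2 n31548 = n30510 := d11_1 D31548 F66854 D30513 (iv F66863) (iv D28808) (iv F61655) D31547 F70383 (iv D30511) F56520 D27051 (iv F56527) (iv D24902) (iv F50592) D28806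
theorem F70387 : act 5 n31548 = n30013 := d16_2 (iv F61658) D31548 (iv D30013)
theorem F70388 : act 4 n30884 = n31548 := d18_3 F70387 (iv F68295) F68296
def n31549 : Q := act 6 n28806
theorem D31549 : act 6 n28806 = n31549 := rfl
theorem F70389 : act 2 n31549 = n28807 := d14_1 D31549 (iv D28807) D28806
def n31550 : Q := act 1 n28810
theorem D31550 : act 1 n28810 = n31550 := rfl
theorem F70390 : act 0 n31550 = n31396 := d0_1 D31550 (iv D31396) F61050 (iv F61369) (iv F62523) F62524 F52208 (iv F52200) (iv F61669)
theorem F70391 : act 3 n31550 = n29083 := d7_2 (iv F61671) D31550 (iv D29083)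
theorem F70392 : act 4 n31550 = n31274 := d8_2 (iv F61672) D31550 (iv D31274)
theorem F70393 : act 6 n31550 = n28812 := d10_2 D28810 D31550 (iv D28812) (iv D24908) D24905
def n31551 : Q := act 1 n28811
theorem D31551 : act 1 n28811 = n31551 := rfl
theorem F70394 : act 2 n31551 = n31255 := d6_2 (iv F61675) D31551 (iv D31255) (iv F60816) F60815
theorem F70395 : act 3 n31551 = n31268 := d7_2 (iv F61676) D31551 (iv D31268)
theorem F70396 : act 4 n31551 = n28812 := d8_2 (iv F61677) D31551 (iv D28812)
theorem F70397 : act 6 n31551 = n31274 := d10_2 D28811 D31551 (iv D31274) (iv D28438) (iv F50617)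
def n31552 : Q := act 2 n28812
theorem D31552 : act 2 n28812 = n31552 := rfl
theorem F70398 : act 1 n31552 = n28815 := d6_1 D31552 (iv D28815) (iv D24911) (iv F50623) D28812
theorem F70399 : act 4 n31552 = n31255 := d12_2 F70396 D31552 (iv F70394)
def n31553 : Q := act 5 n28812
theorem D31553 : act 5 n28812 = n31553 := rfl
theorem F70400 : act 0 n31553 = n28994 := d4_1 D31553 (iv F69441) F69439
theorem F70401 : act 1 n31553 = n31365 := d9_1 D31553 F69831 (iv D28827) F50654 D28812
theorem F70402 : act 3 n31553 = n31301 := d16_1 D31553 F69670 F63953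
def n31554 : Q := act 5 n28814
theorem D31554 : act 5 n28814 = n31554 := rfl
theorem F70403 : act 0 n31554 = n28816 := d4_1 D31554 (iv D28816) D28814
theorem F70404 : act 1 n31554 = n30097 := d9_1 D31554 F65446 F57444 D29584 F63728
theorem F70405 : act 2 n31554 = n31259 := d13_1 D31554 (iv D31259) F61684
theorem F70406 : act 3 n31554 = n28817 := d16_1 D31554 (iv D28817) (iv F61681)
theorem F70407 : act 4 n31554 = n31258 := d18_1 D31554 (iv D31258) (iv F61682)
theorem F70408 : act 6 n31554 = n30565 := d20_2 (iv F61683) D31554 (iv D30565) F56838 D28816 F61689 F61090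
def n31555 : Q := act 1 n28818
theorem D31555 : act 1 n28818 = n31555 := rfl
theorem F70409 : act 0 n31555 = n29124 := d0_1 D31555 (iv D29124) (iv D25447) (iv D21223) (iv F41026) D25440 D29110 F63957 (iv F61695)
theorem F70410 : act 3 n31555 = n31267 := d7_2 (iv F61697) D31555 (iv D31267)
theorem F70411 : act 4 n31555 = n28820 := d8_2 (iv F61698) D31555 (iv D28820)
theorem F70412 : act 6 n31555 = n31455 := d10_2 D28818 D31555 (iv D31455) (iv D28699) (iv F50638)
def n31556 : Q := act 2 n28820
theorem D31556 : act 2 n28820 = n31556 := rfl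
theorem F70413 : act 1 n31556 = n29018 := d6_1 D31556 F62342 F57210 F53133 D28820
theorem F70414 : act 6 n31556 = n31457 := d14_2 (iv F61705) D31556 (iv D31457)
theorem F70415 : act 3 n31556 = n31469 := d21_7 F61731 (iv F64127) (iv D29695) (iv D25939) (iv F50655) (iv F61704) D31556 F70153
theorem F70416 : act 5 n31236 = n31556 := d23_0 (iv D31556) (iv D28820) (iv F53140) (iv F61703) F61700 F53155 F42026 (iv D21421) F28038 F21472 (iv F34673) D21409 (iv F42027) (iv F53155) F53154 F53149 F53133 D28820 (iv F69459)
theorem E10458 : n31458 = n31457 := ((c22_2 F70416 F70414 (iv D31458) (iv F61705) (iv F69459))).symm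
theorem F70417 : act 3 n31457 = n28707 := (sb E10458 F70127)
theorem F70418 : act 5 n31457 = n28700 := (sb E10458 (iv D31458))
def n31557 : Q := act 5 n28820
theorem D31557 : act 5 n28820 = n31557 := rfl
theorem F70419 : act 0 n31557 = n31556 := d4_1 D31557 (iv F70416) F69459
theorem F70420 : act 2 n31557 = n31236 := d13_1 D31557 F70416 (iv D31556)
theorem F70421 : act 3 n31557 = n28829 := d16_1 D31557 (iv D28829) (iv F61704)
def n31558 : Q := act 1 n28821
theorem D31558 : act 1 n28821 = n31558 := rfl
theorem F70422 : act 3 n31558 = n28830 := d7_2 (iv F61708) D31558 (iv D28830)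
theorem F70423 : act 4 n31558 = n30589 := d8_2 (iv F61709) D31558 (iv D30589)
theorem F70424 : act 6 n31558 = n31218 := d10_2 (iv F61710) D31558 (iv D31218) (iv D28361) (iv F53136)
def n31559 : Q := act 1 n28823
theorem D31559 : act 1 n28823 = n31559 := rfl
theorem F70425 : act 3 n31559 = n28825 := d7_2 (iv F61717) D31559 (iv D28825)
theorem F70426 : act 4 n31559 = n31267 := d8_2 (iv F61718) D31559 (iv D31267)
theorem F70427 : act 6 n31559 = n31460 := d10_2 D28823 D31559 (iv D31460) (iv D28702) (iv F50644)
def n31560 : Q := act 0 n28825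
theorem D31560 : act 0 n28825 = n31560 := rfl
theorem F70428 : act 2 n31560 = n29692 := d1_2 (iv F61722) D31560 F64121
theorem F70429 : act 4 n31560 = n28828 := d3_2 (iv F61723) D31560 (iv D28828)
theorem F70430 : act 6 n31560 = n31461 := d5_2 (iv F61724) D31560 (iv D31461)
def n31561 : Q := act 5 n28825
theorem D31561 : act 5 n28825 = n31561 := rfl
theorem F70431 : act 2 n31561 = n29699 := d13_1 D31561 (iv D29699) (iv F61722)
theorem F70432 : act 4 n31561 = n28829 := d18_1 D31561 (iv D28829) (iv F61723)
theorem F70433 : act 6 n31561 = n29927 := d22_1 D31561 (iv F70135) (iv F70430) (iv D31560)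
def n31562 : Q := act 1 n28826
theorem D31562 : act 1 n28826 = n31562 := rfl
theorem F70434 : act 2 n31562 = n31414 := d6_2 (iv F61726) D31562 (iv D31414) F61736 (iv D28831)
theorem F70435 : act 4 n31562 = n28830 := d8_2 (iv F61727) D31562 (iv D28830)
def n31563 : Q := act 0 n28827
theorem D31563 : act 0 n28827 = n31563 := rfl
theorem F70436 : act 2 n31563 = n31435 := d1_2 F63464 D31563 F70059
theorem F70437 : act 4 n31563 = n31438 := d3_2 (iv F63462) D31563 (iv F70066)
theorem F70438 : act 1 n31434 = n31563 := d8_3 F70437 (iv D31438) (iv F70057)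
def n31564 : Q := act 1 n28829
theorem D31564 : act 1 n28829 = n31564 := rfl
theorem F70439 : act 5 n31564 = n28830 := d9_2 D28829 D31564 (iv D28830) (iv D24923) D24922
theorem F70440 : act 6 n31564 = n31375 := d10_2 F70150 D31564 (iv D31375) (iv F64923) F70151
def n31565 : Q := act 0 n28830
theorem D31565 : act 0 n28830 = n31565 := rfl
def n31566 : Q := act 2 n28830
theorem D31566 : act 2 n28830 = n31566 := rfl
theorem F70441 : act 1 n31566 = n28835 := d6_1 D31566 (iv D28835) (iv D24927) (iv F50658) D28830
theorem F70442 : act 4 n31566 = n31414 := d12_2 F70435 D31566 (iv F70434)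
def n31567 : Q := act 6 n28830
theorem D31567 : act 6 n28830 = n31567 := rfl
theorem F70443 : act 1 n31567 = n31216 := d10_1 D31567 (iv D31216) F60362 (iv F50659) D28830
theorem F70444 : act 3 n31567 = n31218 := d17_1 D31567 (iv F70424) F70422
def n31568 : Q := act 3 n28835
theorem D31568 : act 3 n28835 = n31568 := rfl
theorem F70445 : act 0 n31568 = n31412 := d2_1 D31568 F69981 (iv F61769)
theorem F70446 : act 5 n31568 = n29717 := d16_2 (iv F61771) D31568 (iv D29717)
def n31569 : Q := act 6 n28835
theorem D31569 : act 6 n28835 = n31569 := rfl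
theorem F70447 : act 0 n31569 = n31413 := d5_1 D31569 (iv D31413) (iv F61769)
theorem F70448 : act 2 n31569 = n28836 := d14_1 D31569 (iv D28836) D28835
theorem F70449 : act 4 n31569 = n31415 := d19_1 D31569 (iv D31415) (iv F61770)
def n31570 : Q := act 1 n28838
theorem D31570 : act 1 n28838 = n31570 := rfl
theorem F70450 : act 0 n31570 = n31433 := d0_1 D31570 (iv D31433) F61208 F61372 (iv F62608) F62609 F52264 (iv F52256) (iv F61778)
theorem F70451 : act 3 n31570 = n29134 := d7_2 (iv F61780) D31570 (iv D29134)
theorem F70452 : act 4 n31570 = n31303 := d8_2 (iv F61781) D31570 (iv D31303)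
theorem F70453 : act 5 n31570 = n28840 := d9_2 D28838 D31570 (iv D28840) (iv D24936) D24934
def n31571 : Q := act 1 n28839
theorem D31571 : act 1 n28839 = n31571 := rfl
theorem F70454 : act 2 n31571 = n31231 := d6_2 (iv F61784) D31571 (iv D31231) (iv F60660) F60659
theorem F70455 : act 3 n31571 = n31297 := d7_2 (iv F61785) D31571 (iv D31297)
theorem F70456 : act 4 n31571 = n28840 := d8_2 (iv F61786) D31571 (iv D28840)
theorem F70457 : act 5 n31571 = n31303 := d9_2 D28839 D31571 (iv D31303) (iv D28492) (iv F50694)
theorem F70458 : act 0 n31552 = n31571 := d23_19 F70457 F69674 (iv D28994) (iv F62282) (iv F69428) F69426 (iv F65714) (iv F66544) F66547 F65789 (iv F57440) F57439 D27362 (iv F65444) (iv F70404) F70403 (iv D28816) D28815 (iv F70398)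
def n31572 : Q := act 2 n28840
theorem D31572 : act 2 n28840 = n31572 := rfl
theorem F70459 : act 0 n31572 = n31551 := d1_1 D31572 F70394 F69537
theorem F70460 : act 1 n31572 = n28842 := d6_1 D31572 (iv D28842) (iv D24939) (iv F50698) D28840
theorem F70461 : act 4 n31572 = n31231 := d12_2 F70456 D31572 (iv F70454)
def n31573 : Q := act 6 n28840
theorem D31573 : act 6 n28840 = n31573 := rfl
theorem F70462 : act 0 n31573 = n28988 := d5_1 D31573 (iv F69539) F69537
theorem F70463 : act 1 n31573 = n31339 := d10_1 D31573 F69764 (iv D28858) F50737 D28840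
theorem F70464 : act 3 n31573 = n31272 := d17_1 D31573 F69592 F64748
def n31574 : Q := act 6 n28841
theorem D31574 : act 6 n28841 = n31574 := rfl
theorem F70465 : act 0 n31574 = n28843 := d5_1 D31574 (iv D28843) D28841
theorem F70466 : act 1 n31574 = n30193 := d10_1 D31574 F65742 F57677 D29822 (iv F64532)
theorem F70467 : act 2 n31574 = n31235 := d14_1 D31574 (iv D31235) F61790
theorem F70468 : act 3 n31574 = n28845 := d17_1 D31574 (iv D28845) (iv F61787)
theorem F70469 : act 4 n31574 = n31234 := d19_1 D31574 (iv D31234) (iv F61788)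
theorem F70470 : act 5 n31574 = n30566 := d20_1 D31574 (iv D30566) F56873 D28843 F61795 F61273 (iv F61789)
def n31575 : Q := act 1 n28846
theorem D31575 : act 1 n28846 = n31575 := rfl
theorem F70471 : act 0 n31575 = n29175 := d0_1 D31575 (iv D29175) (iv D25481) (iv D21247) (iv F41071) D25474 D29161 (iv F62653) (iv F61804)
theorem F70472 : act 3 n31575 = n31296 := d7_2 (iv F61806) D31575 (iv D31296)
theorem F70473 : act 4 n31575 = n28847 := d8_2 (iv F61807) D31575 (iv D28847)
theorem F70474 : act 5 n31575 = n31509 := d9_2 D28846 D31575 (iv D31509) (iv D28763) (iv F50715)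
def n31576 : Q := act 2 n28847
theorem D31576 : act 2 n28847 = n31576 := rfl
theorem F70475 : act 1 n31576 = n29029 := d6_1 D31576 F62358 F57289 F53732 D28847
theorem F70476 : act 5 n31576 = n31511 := d13_2 (iv F61810) D31576 (iv D31511)
theorem F70477 : act 3 n31576 = n31520 := d21_7 F61840 F64883 (iv D29917) (iv D26174) (iv F50728) (iv F61809) D31576 F70298
theorem E10459 : n31512 = n31511 := (c16_4 (iv F70476) F70477 (iv D31520) (iv F70276))
theorem F70478 : act 3 n31511 = n28770 := (sb E10459 F70276)
theorem F70479 : act 6 n31511 = n28764 := (sb E10459 (iv D31512))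
theorem F70480 : act 6 n31260 = n31576 := d17_0 F70477 F70301 (iv F69558)
def n31577 : Q := act 6 n28847
theorem D31577 : act 6 n28847 = n31577 := rfl
theorem F70481 : act 0 n31577 = n31576 := d5_1 D31577 (iv F70480) F69557
theorem F70482 : act 2 n31577 = n31260 := d14_1 D31577 F70480 (iv D31576)
theorem F70483 : act 3 n31577 = n28856 := d17_1 D31577 (iv D28856) (iv F61809)
def n31578 : Q := act 1 n28848
theorem D31578 : act 1 n28848 = n31578 := rfl
theorem F70484 : act 3 n31578 = n28857 := d7_2 (iv F61812) D31578 (iv D28857)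
theorem F70485 : act 4 n31578 = n30601 := d8_2 (iv F61813) D31578 (iv D30601)
theorem F70486 : act 5 n31578 = n31244 := d9_2 (iv F61814) D31578 (iv D31244) (iv D28392) (iv F53743)
def n31579 : Q := act 1 n28851
theorem D31579 : act 1 n28851 = n31579 := rfl
theorem F70487 : act 3 n31579 = n28852 := d7_2 (iv F61826) D31579 (iv D28852)
theorem F70488 : act 4 n31579 = n31296 := d8_2 (iv F61827) D31579 (iv D31296)
theorem F70489 : act 5 n31579 = n31514 := d9_2 D28851 D31579 (iv D31514) (iv D28766) (iv F50722)
def n31580 : Q := act 0 n28852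
theorem D31580 : act 0 n28852 = n31580 := rfl
theorem F70490 : act 2 n31580 = n29915 := d1_2 (iv F61828) D31580 F64875
theorem F70491 : act 4 n31580 = n28855 := d3_2 (iv F61829) D31580 (iv D28855)
theorem F70492 : act 5 n31580 = n31515 := d4_2 (iv F61830) D31580 (iv D31515)
def n31581 : Q := act 6 n28852
theorem D31581 : act 6 n28852 = n31581 := rfl
theorem F70493 : act 2 n31581 = n29701 := d14_1 D31581 F64380 (iv F61828)
theorem F70494 : act 4 n31581 = n28856 := d19_1 D31581 (iv D28856) (iv F61829)
theorem F70495 : act 5 n31581 = n29709 := d22_2 (iv F61830) D31581 F70284 (iv D31515)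
def n31582 : Q := act 1 n28853
theorem D31582 : act 1 n28853 = n31582 := rfl
theorem F70496 : act 2 n31582 = n31375 := d6_2 (iv F61831) D31582 (iv D31375) F61845 (iv D28859)
theorem F70497 : act 4 n31582 = n28857 := d8_2 (iv F61832) D31582 (iv D28857)
def n31583 : Q := act 1 n28856
theorem D31583 : act 1 n28856 = n31583 := rfl
theorem F70498 : act 5 n31583 = n31414 := d9_2 F70293 D31583 (iv D31414) (iv F64159) (iv F70294)
theorem F70499 : act 6 n31583 = n28857 := d10_2 D28856 D31583 (iv D28857) (iv D24950) D24949
def n31584 : Q := act 0 n28857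
theorem D31584 : act 0 n28857 = n31584 := rfl
def n31585 : Q := act 2 n28857
theorem D31585 : act 2 n28857 = n31585 := rfl
theorem F70500 : act 1 n31585 = n28861 := d6_1 D31585 (iv D28861) (iv D24955) (iv F50730) D28857
theorem F70501 : act 4 n31585 = n31375 := d12_2 F70497 D31585 (iv F70496)
def n31586 : Q := act 5 n28857
theorem D31586 : act 5 n28857 = n31586 := rfl
theorem F70502 : act 1 n31586 = n31241 := d9_1 D31586 (iv D31241) F60443 (iv F50731) D28857
theorem F70503 : act 3 n31586 = n31244 := d16_1 D31586 (iv F70486) F70484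
def n31587 : Q := act 0 n28858
theorem D31587 : act 0 n28858 = n31587 := rfl
theorem F70504 : act 2 n31587 = n31398 := d1_2 F63140 D31587 F69938
theorem F70505 : act 4 n31587 = n31403 := d3_2 (iv F63138) D31587 (iv F69953)
theorem F70506 : act 1 n31397 = n31587 := d8_3 F70505 (iv D31403) (iv F69936)
def n31588 : Q := act 3 n28861
theorem D31588 : act 3 n28861 = n31588 := rfl
theorem F70507 : act 0 n31588 = n31373 := d2_1 D31588 F69858 (iv F61851)
theorem F70508 : act 6 n31588 = n29935 := d17_2 (iv F61853) D31588 (iv D29935)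
def n31589 : Q := act 5 n28861
theorem D31589 : act 5 n28861 = n31589 := rfl
theorem F70509 : act 0 n31589 = n31374 := d4_1 D31589 (iv D31374) (iv F61851)
theorem F70510 : act 2 n31589 = n28862 := d13_1 D31589 (iv D28862) D28861
theorem F70511 : act 4 n31589 = n31376 := d18_1 D31589 (iv D31376) (iv F61852)
def n31590 : Q := act 1 n28872
theorem D31590 : act 1 n28872 = n31590 := rfl
theorem F70512 : act 0 n31590 = n31149 := d0_1 D31590 F69088 (iv D30486) (iv D27006) F44859 (iv F44760) (iv F55012) F55013 (iv F61888)
theorem F70513 : act 2 n31590 = n31145 := d6_2 D28872 D31590 F69075 F66781 (iv F57083)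
theorem F70514 : act 3 n31590 = n29945 := d7_2 (iv F61889) D31590 (iv D29945)
theorem F70515 : act 4 n31590 = n28874 := d8_2 (iv F61890) D31590 (iv D28874)
theorem F70516 : act 5 n31590 = n31148 := d9_2 F61892 D31590 F69085 F64780 F62093
theorem F70517 : act 6 n31590 = n29944 := d10_2 (iv F61891) D31590 (iv D29944) (iv D26203) D26202
def n31591 : Q := act 1 n28876
theorem D31591 : act 1 n28876 = n31591 := rfl
theorem F70518 : act 0 n31591 = n31145 := d0_1 D31591 F69075 (iv D30489) (iv D27012) F44883 (iv F44766) (iv F55504) F55505 (iv F61907)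
theorem F70519 : act 2 n31591 = n31149 := d6_2 D28876 D31591 F69088 F66767 (iv F57122)
theorem F70520 : act 3 n31591 = n29727 := d7_2 (iv F61908) D31591 (iv D29727)
theorem F70521 : act 4 n31591 = n28878 := d8_2 (iv F61909) D31591 (iv D28878)
theorem F70522 : act 5 n31591 = n29726 := d9_2 (iv F61910) D31591 (iv D29726) (iv D25968) D25967
theorem F70523 : act 6 n31591 = n31144 := d10_2 F61911 D31591 F69072 (iv F63989) F62123
def n31592 : Q := act 2 n28884
theorem D31592 : act 2 n28884 = n31592 := rfl
theorem F70524 : act 3 n31592 = n30029 := d21_1 D31592 F65251 (iv F57873) (iv F59248) F59249 F56693 (iv F66948) (iv F66951)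
theorem F70525 : act 1 n31592 = n30032 := d25_15 D23761 (iv F49391) (iv F59972) D31157 F69127 (iv D28886) D28887 F61951 (iv D28724) (iv D24833) D24832 F50466 D25072 D28884 D31592 (iv D30032) F54206 F42291 (iv F43961) (iv F52379) (iv F62774) (iv F62775) F62761 (iv F60812) F60811 F58858 F48170 (iv D23930) F36839 D19610 F39014 F39684 (iv D17556) F22713 D12977 D17629 D22683 (iv F54853) F47184 D26553 F54849 (iv F55172) F55171 (iv F47321) F47323 F44715 (iv D17806) (iv D13062) (iv F22842) D17732 D22700 F44662 D22719 (iv F47323) F47321 (iv F55171) F55170 F54852 (iv D26553) (iv F47184) F54853 F44612 (iv D17630) (iv D12977) (iv F22713) D17556 D22655 F44536 (iv D19610) (iv F36839) D23930 (iv F55953) F55955 F50908 (iv F54715) F54714 F47524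
def n31593 : Q := act 2 n28892
theorem D31593 : act 2 n28892 = n31593 := rfl
theorem F70526 : act 3 n31593 = n30123 := d21_1 D31593 F65531 (iv F58053) (iv F59461) F59462 F56618 (iv F66892) (iv F66895)
theorem F70527 : act 1 n31593 = n30126 := d25_15 D23785 (iv F49419) (iv F60056) D31167 F69180 (iv D28893) D28894 F61972 (iv D28788) (iv D24886) D24885 F50570 D25104 D28892 D31593 (iv D30126) F54382 F42412 (iv F44111) (iv F52512) (iv F62936) (iv F62937) F62914 (iv F60656) F60655 F58872 F48182 (iv D23939) F36844 D19619 F38935 F39828 (iv D17732) F22842 D13062 D17805 D22719 (iv F47323) F47321 (iv F55171) F55170 F54852 (iv D26553) (iv F47184) F54853 F44612 (iv D17630) (iv D12977) (iv F22713) D17556 D22655 F44537 D22683 (iv F54853) F47184 D26553 F54849 (iv F55172) F55171 (iv F47321) F47323 F44715 (iv D17806) (iv D13062) (iv F22842) D17732 D22700 F44661 (iv D19619) (iv F36844) D23939 (iv F56030) F56032 F50843 (iv F54811) F54810 F47601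
def n31594 : Q := act 3 n28896
theorem D31594 : act 3 n28896 = n31594 := rfl
theorem F70528 : act 0 n31594 = n30545 := d2_1 D31594 F66966 (iv F61978)
theorem F70529 : act 1 n31594 = n30771 := d7_1 D31594 (iv D30771) (iv F61979)
theorem F70530 : act 5 n31594 = n30138 := d16_2 (iv F61981) D31594 F65566
theorem F70531 : act 6 n31594 = n28901 := d17_2 (iv F61982) D31594 (iv D28901)
theorem F70532 : act 2 n30149 = n31594 := d13_3 F70530 F65565 D30149
def n31595 : Q := act 4 n28898
theorem D31595 : act 4 n28898 = n31595 := rfl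
theorem F70533 : act 1 n31595 = n28899 := d8_1 D31595 (iv D28899) (iv F61989)
theorem F70534 : act 2 n31595 = n30255 := d12_1 D31595 F65954 (iv F61992)
theorem F70535 : act 3 n31595 = n31023 := d15_1 D31595 F68592 (iv F61985) F61986 D28898
theorem F70536 : act 5 n31595 = n30259 := d18_2 (iv F61990) D31595 F65967
theorem F70537 : act 6 n31595 = n30254 := d19_2 (iv F61991) D31595 F65951
def n31596 : Q := act 3 n28900
theorem D31596 : act 3 n28900 = n31596 := rfl
theorem F70538 : act 1 n31596 = n30629 := d7_1 D31596 (iv D30629) (iv F61995)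
theorem F70539 : act 4 n31596 = n30618 := d15_2 D28900 D31596 (iv D30618) F57085 (iv F51334)
theorem F70540 : act 6 n31596 = n28906 := d17_2 (iv F61997) D31596 (iv D28906)
def n31597 : Q := act 2 n28901
theorem D31597 : act 2 n28901 = n31597 := rfl
theorem F70541 : act 6 n31597 = n30149 := d14_2 F70531 D31597 F70532
theorem F70542 : act 3 n31597 = n30537 := d21_1 D31597 (iv D30537) (iv D27097) (iv D22931) (iv F45259) D27063 D30516 F66872
def n31598 : Q := act 3 n28902
theorem D31598 : act 3 n28902 = n31598 := rfl
theorem F70543 : act 0 n31598 = n31597 := d2_1 D31598 F70542 F66940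
theorem F70544 : act 2 n31598 = n30516 := d11_1 D31598 (iv D30516) (iv D27063) F45259 D22931 D27097 D30537 (iv F70542) (iv D31597) (iv D28901) (iv D25126) F39515 D20792 D25127 D28902
theorem F70545 : act 5 n31598 = n30150 := d16_2 (iv F61999) D31598 F65603
def n31599 : Q := act 3 n28903
theorem D31599 : act 3 n28903 = n31599 := rfl
theorem F70546 : act 0 n31599 = n28906 := d2_1 D31599 (iv D28906) (iv F62000)
theorem F70547 : act 1 n31599 = n30366 := d7_1 D31599 F66372 (iv F62001)
theorem F70548 : act 4 n31599 = n30775 := d15_2 D28903 D31599 F67736 F57707 (iv F51358)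
theorem F70549 : act 5 n31599 = n30774 := d16_2 (iv F62003) D31599 F67735
def n31600 : Q := act 3 n28904
theorem D31600 : act 3 n28904 = n31600 := rfl
theorem F70550 : act 0 n31600 = n30621 := d2_1 D31600 (iv D30621) (iv F62004)
theorem F70551 : act 1 n31600 = n28906 := d7_1 D31600 (iv D28906) (iv F62005)
theorem F70552 : act 4 n31600 = n30140 := d15_2 D28904 D31600 F65573 F58042 (iv F51368)
theorem F70553 : act 5 n31600 = n30139 := d16_2 (iv F62007) D31600 F65569
theorem F70554 : act 2 n31600 = n30142 := d21_2 (iv F62006) D31600 F65578 F55877 F52101 (iv F50394) F50395 (iv F51397)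
def n31601 : Q := act 3 n28905
theorem D31601 : act 3 n28905 = n31601 := rfl
theorem F70555 : act 0 n31601 = n30775 := d2_1 D31601 F67736 (iv F62008)
theorem F70556 : act 1 n31601 = n30140 := d7_1 D31601 F65573 (iv F62009)
theorem F70557 : act 4 n31601 = n28906 := d15_2 D28905 D31601 (iv D28906) (iv D25135) D25134
theorem F70558 : act 5 n31601 = n30771 := d16_2 (iv F62011) D31601 (iv D30771)
theorem F70559 : act 6 n31601 = n30618 := d17_2 (iv F62012) D31601 (iv D30618)
def n31602 : Q := act 2 n28906
theorem D31602 : act 2 n28906 = n31602 := rfl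
theorem F70560 : act 3 n31602 = n29936 := d21_1 D31602 F64936 F53905 (iv F53922) F53923 (iv F62002) D31599 F70546
theorem F70561 : act 5 n29935 = n31602 := d16_0 F70560 (iv D29936) D29935
def n31603 : Q := act 5 n28906
theorem D31603 : act 5 n28906 = n31603 := rfl
theorem F70562 : act 0 n31603 = n30774 := d4_1 D31603 (iv F70549) F70546
theorem F70563 : act 2 n31603 = n29935 := d13_1 D31603 F70561 (iv D31602)
theorem F70564 : act 3 n31603 = n28907 := d16_1 D31603 (iv D28907) D28906
theorem F70565 : act 4 n31603 = n30771 := d18_1 D31603 (iv F70558) F70557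
def n31604 : Q := act 3 n28909
theorem D31604 : act 3 n28909 = n31604 := rfl
theorem F70566 : act 0 n31604 = n30632 := d2_1 D31604 (iv D30632) (iv F62021)
theorem F70567 : act 1 n31604 = n28919 := d7_1 D31604 (iv D28919) (iv F62022)
theorem F70568 : act 4 n31604 = n30047 := d15_2 D28909 D31604 F65294 F57863 (iv F51388)
theorem F70569 : act 6 n31604 = n30045 := d17_2 (iv F62024) D31604 F65286
theorem F70570 : act 2 n31604 = n30048 := d21_2 (iv F62023) D31604 F65295 F55769 F52140 (iv F50282) F50283 (iv F51390)
def n31605 : Q := act 3 n28910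
theorem D31605 : act 3 n28910 = n31605 := rfl
theorem F70571 : act 0 n31605 = n30529 := d2_1 D31605 F66913 (iv F62025)
theorem F70572 : act 1 n31605 = n30724 := d7_1 D31605 (iv D30724) (iv F62026)
theorem F70573 : act 5 n31605 = n28915 := d16_2 (iv F62028) D31605 (iv D28915)
theorem F70574 : act 6 n31605 = n30044 := d17_2 (iv F62029) D31605 F65283
theorem F70575 : act 2 n30056 = n31605 := d14_3 F70574 F65282 D30056
def n31606 : Q := act 4 n28912
theorem D31606 : act 4 n28912 = n31606 := rfl
theorem F70576 : act 1 n31606 = n28913 := d8_1 D31606 (iv D28913) (iv F62036)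
theorem F70577 : act 2 n31606 = n30268 := d12_1 D31606 F66001 (iv F62039)
theorem F70578 : act 3 n31606 = n30998 := d15_1 D31606 F68509 (iv F62032) F62033 D28912
theorem F70579 : act 5 n31606 = n30267 := d18_2 (iv F62037) D31606 F65998
theorem F70580 : act 6 n31606 = n30272 := d19_2 (iv F62038) D31606 F66014
def n31607 : Q := act 3 n28914
theorem D31607 : act 3 n28914 = n31607 := rfl
theorem F70581 : act 1 n31607 = n30618 := d7_1 D31607 (iv D30618) (iv F62042)
theorem F70582 : act 4 n31607 = n30629 := d15_2 D28914 D31607 (iv D30629) F57124 (iv F51445)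
theorem F70583 : act 5 n31607 = n28919 := d16_2 (iv F62044) D31607 (iv D28919)
def n31608 : Q := act 2 n28915
theorem D31608 : act 2 n28915 = n31608 := rfl
theorem F70584 : act 5 n31608 = n30056 := d13_2 F70573 D31608 F70575
theorem F70585 : act 3 n31608 = n30520 := d21_1 D31608 (iv D30520) (iv D27071) (iv D22902) (iv F45222) D27058 D30515 F66870
def n31609 : Q := act 3 n28916
theorem D31609 : act 3 n28916 = n31609 := rfl
theorem F70586 : act 0 n31609 = n31608 := d2_1 D31609 F70585 F66884
theorem F70587 : act 2 n31609 = n30515 := d11_1 D31609 (iv D30515) (iv D27058) F45222 D22902 D27071 D30520 (iv F70585) (iv D31608) (iv D28915) (iv D25157) F39996 D20843 D25158 D28916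
theorem F70588 : act 6 n31609 = n30055 := d17_2 (iv F62046) D31609 F65320
def n31610 : Q := act 3 n28917
theorem D31610 : act 3 n28917 = n31610 := rfl
theorem F70589 : act 0 n31610 = n28919 := d2_1 D31610 (iv D28919) (iv F62047)
theorem F70590 : act 1 n31610 = n30328 := d7_1 D31610 F66229 (iv F62048)
theorem F70591 : act 4 n31610 = n30729 := d15_2 D28917 D31610 F67566 F57484 (iv F51468)
theorem F70592 : act 6 n31610 = n30727 := d17_2 (iv F62050) D31610 F67562
def n31611 : Q := act 3 n28918
theorem D31611 : act 3 n28918 = n31611 := rfl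
theorem F70593 : act 0 n31611 = n30729 := d2_1 D31611 F67566 (iv F62051)
theorem F70594 : act 1 n31611 = n30047 := d7_1 D31611 F65294 (iv F62052)
theorem F70595 : act 4 n31611 = n28919 := d15_2 D28918 D31611 (iv D28919) (iv D25164) D25163
theorem F70596 : act 5 n31611 = n30629 := d16_2 (iv F62054) D31611 (iv D30629)
theorem F70597 : act 6 n31611 = n30724 := d17_2 (iv F62055) D31611 (iv D30724)
def n31612 : Q := act 2 n28919
theorem D31612 : act 2 n28919 = n31612 := rfl
theorem F70598 : act 3 n31612 = n29718 := d21_1 D31612 F64172 F53313 (iv F53330) F53331 (iv F62049) D31610 F70589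
theorem F70599 : act 6 n29717 = n31612 := d17_0 F70598 (iv D29718) D29717
def n31613 : Q := act 6 n28919
theorem D31613 : act 6 n28919 = n31613 := rfl
theorem F70600 : act 0 n31613 = n30727 := d5_1 D31613 (iv F70592) F70589
theorem F70601 : act 2 n31613 = n29717 := d14_1 D31613 F70599 (iv D31612)
theorem F70602 : act 3 n31613 = n28920 := d17_1 D31613 (iv D28920) D28919
theorem F70603 : act 4 n31613 = n30724 := d19_1 D31613 (iv F70597) F70595
def n31614 : Q := act 6 n28928
theorem D31614 : act 6 n28928 = n31614 := rfl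
theorem F70604 : act 0 n31614 = n29887 := d5_1 D31614 F66289 F66284
theorem F70605 : act 2 n31614 = n29847 := d14_1 D31614 (iv F64785) F64782
theorem F70606 : act 3 n31614 = n31021 := d17_1 D31614 F68583 F66282
theorem F70607 : act 4 n31614 = n28929 := d19_1 D31614 (iv D28929) D28928
theorem F70608 : act 5 n31614 = n29886 := d20_1 D31614 F64771 (iv F66287) (iv F66289) (iv D29887) D29888 F64780
def n31615 : Q := act 5 n28937
theorem D31615 : act 5 n28937 = n31615 := rfl
theorem F70609 : act 0 n31615 = n29656 := d4_1 D31615 F66060 F66055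
theorem F70610 : act 2 n31615 = n29610 := d13_1 D31615 (iv F63997) F63994
theorem F70611 : act 3 n31615 = n30996 := d16_1 D31615 F68500 F66053
theorem F70612 : act 4 n31615 = n28938 := d18_1 D31615 (iv D28938) D28937
theorem F70613 : act 6 n31615 = n29654 := d20_2 (iv F63989) D31615 F63983 (iv F66058) (iv F66060) (iv D29656) D29655
def n31616 : Q := act 4 n28944
theorem D31616 : act 4 n28944 = n31616 := rfl
theorem F70614 : act 0 n31616 = n31097 := d3_1 D31616 F68894 (iv F62146)
theorem F70615 : act 1 n31616 = n28947 := d8_1 D31616 (iv D28947) (iv F62147)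
theorem F70616 : act 2 n31616 = n30341 := d12_1 D31616 (iv D30341) (iv F62148)
theorem F70617 : act 5 n31616 = n31097 := d18_2 (iv F62149) D31616 F68894
theorem F70618 : act 6 n31616 = n30960 := d19_2 (iv F62150) D31616 F68384
def n31617 : Q := act 4 n28946
theorem D31617 : act 4 n28946 = n31617 := rfl
theorem F70619 : act 0 n31617 = n30254 := d3_1 D31617 F65951 (iv F62157)
theorem F70620 : act 2 n31617 = n30253 := d12_1 D31617 F65949 (iv F62158)
theorem F70621 : act 3 n31617 = n28947 := d15_1 D31617 (iv D28947) (iv D25276) (iv F51842) D28946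
theorem F70622 : act 5 n31617 = n30949 := d18_2 (iv F62159) D31617 (iv D30949)
def n31618 : Q := act 4 n28949
theorem D31618 : act 4 n28949 = n31618 := rfl
theorem F70623 : act 0 n31618 = n31064 := d3_1 D31618 F68761 (iv F62165)
theorem F70624 : act 1 n31618 = n28951 := d8_1 D31618 (iv D28951) (iv F62166)
theorem F70625 : act 2 n31618 = n30281 := d12_1 D31618 (iv D30281) (iv F62167)
theorem F70626 : act 5 n31618 = n30963 := d18_2 (iv F62168) D31618 F68397
theorem F70627 : act 6 n31618 = n31064 := d19_2 (iv F62169) D31618 F68761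
def n31619 : Q := act 4 n28950
theorem D31619 : act 4 n28950 = n31619 := rfl
theorem F70628 : act 0 n31619 = n30267 := d3_1 D31619 F65998 (iv F62170)
theorem F70629 : act 2 n31619 = n30266 := d12_1 D31619 F65996 (iv F62171)
theorem F70630 : act 3 n31619 = n28951 := d15_1 D31619 (iv D28951) (iv D25288) (iv F51882) D28950
theorem F70631 : act 6 n31619 = n30951 := d19_2 (iv F62172) D31619 (iv D30951)
def n31620 : Q := act 1 n28961
theorem D31620 : act 1 n28961 = n31620 := rfl
theorem F70632 : act 3 n31620 = n30033 := d7_2 F69234 D31620 F69236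
theorem F70633 : act 4 n31620 = n28962 := d8_2 (iv F62210) D31620 (iv D28962)
theorem F70634 : act 5 n30032 = n31620 := d16_0 F70632 (iv D30033) D30032
def n31621 : Q := act 0 n28962
theorem D31621 : act 0 n28962 = n31621 := rfl
theorem F70635 : act 3 n31621 = n28963 := d2_2 (iv F62211) D31621 (iv D28963)
def n31622 : Q := act 2 n28962
theorem D31622 : act 2 n28962 = n31622 := rfl
def n31623 : Q := act 5 n28962
theorem D31623 : act 5 n28962 = n31623 := rfl
theorem F70636 : act 3 n31623 = n28965 := d16_1 D31623 (iv D28965) (iv F62211)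
theorem F70637 : act 4 n31623 = n30032 := d18_1 D31623 F70634 F70633
def n31624 : Q := act 3 n28964
theorem D31624 : act 3 n28964 = n31624 := rfl
theorem F70638 : act 0 n31624 = n31201 := d2_1 D31624 (iv F69321) F65376
theorem F70639 : act 1 n31624 = n28966 := d7_1 D31624 (iv D28966) (iv F62212)
theorem F70640 : act 6 n31624 = n29127 := d17_2 (iv F62213) D31624 (iv F62590)
theorem F70641 : act 2 n31624 = n29125 := d25_24 (iv F26322) (iv F38711) (iv F50490) (iv F61503) (iv F61651) (iv F63078) F63080 D31545 F70374 (iv D30622) (iv F67192) (iv D30621) F57090 (iv F50395) F50394 (iv D21177) (iv F40916) (iv F52084) (iv F62205) F62204 D28962 F62211 D28964 D31624 (iv D29125) (iv F60428) (iv F64979) (iv D29947) (iv D26206) F42127 (iv D21582) D21583 F41789 (iv D18898) (iv D13751) D13750 (iv F33659) (iv F37348) D21385 D25676 (iv F53519) (iv F59581) (iv D28109) (iv D24154) F37376 D20391 (iv F42339) F48555 (iv D23360) (iv D18924) D18923 F33886 F29216 F20772 (iv F26657) (iv F35164) D20598 F39092 (iv F36044) F36045 (iv F24573) (iv F35939) (iv F46852)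 F46851 F39885 (iv F43143) F43142 (iv F41777) F47391 F47387 (iv F49436) (iv F51186) (iv F58708) F58707 (iv D25080) (iv D20709) (iv D15377)
def n31625 : Q := act 6 n28965
theorem D31625 : act 6 n28965 = n31625 := rfl
theorem F70642 : act 0 n31625 = n30578 := d5_1 D31625 F67091 F65364
theorem F70643 : act 1 n31625 = n31219 := d10_1 D31625 (iv F69899) (iv F69900) F67166 F62343
theorem F70644 : act 4 n31625 = n30031 := d19_1 D31625 (iv D30031) (iv F62214)
theorem F70645 : act 5 n31625 = n30577 := d20_1 D31625 F67088 F65366 (iv F67091) (iv D30578) F56956 D28965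
def n31626 : Q := act 0 n28967
theorem D31626 : act 0 n28967 = n31626 := rfl
theorem F70646 : act 3 n31626 = n31342 := d2_2 F63056 D31626 F69773
theorem F70647 : act 4 n31626 = n31391 := d3_2 F63164 D31626 F69922
theorem F70648 : act 1 n31401 = n31626 := d8_3 F70647 F69923 D31401
theorem F70649 : act 5 n31626 = n30609 := d9_2 (iv F69949) F70648 (iv D30609) F57058 D30603
def n31627 : Q := act 5 n28967
theorem D31627 : act 5 n28967 = n31627 := rfl
theorem F70650 : act 0 n31627 = n30609 := d4_1 D31627 (iv F70649) (iv D31626)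
theorem F70651 : act 1 n31627 = n29543 := d9_1 D31627 (iv D29543) F52917 (iv F51933) D28967
theorem F70652 : act 3 n31627 = n31341 := d16_1 D31627 F69772 F63056
theorem F70653 : act 6 n29573 = n31627 := d17_0 F70652 F69771 F67161
def n31628 : Q := act 1 n28970
theorem D31628 : act 1 n28970 = n31628 := rfl
theorem F70654 : act 0 n31628 = n31628 := d0_1 D31628 (iv D31628) F62225 (iv F57169) (iv F67262) F67263 F67262 F57169 (iv F62225)
theorem F70655 : act 2 n31628 = n29291 := d6_2 (iv F62226) D31628 (iv D29291) (iv D25602) (iv F51939)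
theorem F70656 : act 6 n31628 = n29291 := d10_2 D28970 D31628 (iv D29291) F52565 F51937
def n31629 : Q := act 1 n28976
theorem D31629 : act 1 n28976 = n31629 := rfl
theorem F70657 : act 3 n31629 = n30128 := d7_2 F69238 D31629 F69240
theorem F70658 : act 4 n31629 = n28977 := d8_2 (iv F62249) D31629 (iv D28977)
theorem F70659 : act 6 n30126 = n31629 := d17_0 F70657 (iv D30128) D30126
def n31630 : Q := act 0 n28977
theorem D31630 : act 0 n28977 = n31630 := rfl
theorem F70660 : act 3 n31630 = n28978 := d2_2 (iv F62250) D31630 (iv D28978)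
def n31631 : Q := act 2 n28977
theorem D31631 : act 2 n28977 = n31631 := rfl
def n31632 : Q := act 6 n28977
theorem D31632 : act 6 n28977 = n31632 := rfl
theorem F70661 : act 3 n31632 = n28980 := d17_1 D31632 (iv D28980) (iv F62250)
theorem F70662 : act 4 n31632 = n30126 := d19_1 D31632 F70659 F70658
def n31633 : Q := act 3 n28979
theorem D31633 : act 3 n28979 = n31633 := rfl
theorem F70663 : act 0 n31633 = n31208 := d2_1 D31633 (iv F69348) F65661
theorem F70664 : act 1 n31633 = n28981 := d7_1 D31633 (iv D28981) (iv F62251)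
theorem F70665 : act 5 n31633 = n29178 := d16_2 (iv F62252) D31633 (iv F62682)
theorem F70666 : act 2 n31633 = n29176 := d25_24 (iv F26362) (iv F38774) (iv F50590) (iv F61652) F61651 (iv F63412) F63414 D31495 F70224 (iv D30633) (iv F67229) (iv D30632) F57129 (iv F50283) F50282 (iv D21189) (iv F40946) (iv F52123) (iv F62244) F62243 D28977 F62250 D28979 D31633 (iv D29176) (iv F60507) (iv F64215) (iv D29729) (iv D25971) (iv F42127) (iv D21741) D21742 F42131 (iv D18851) (iv D13729) D13728 (iv F33634) F37364 D21454 D25780 (iv F54110) (iv F59537) (iv D28089) (iv D24141) F37338 D20426 (iv F42460) F48676 (iv D23419) (iv D18964) D18963 F33959 F35229 F20805 (iv F26583) F35164 D20636 F39173 (iv F35910) F35911 (iv F24587) (iv F36079) (iv F46824) F46823 (iv F40038) (iv F43701) F43700 (iv F42118) F47253 F47249 (iv F49408) (iv F51281) (iv F58673) F58672 (iv D25108) (iv D20759) (iv D15435)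
def n31634 : Q := act 5 n28980
theorem D31634 : act 5 n28980 = n31634 := rfl
theorem F70667 : act 0 n31634 = n30585 := d4_1 D31634 F67105 F65647
theorem F70668 : act 1 n31634 = n31242 := d9_1 D31634 (iv F70014) (iv F70016) F67137 F62359
theorem F70669 : act 4 n31634 = n30125 := d18_1 D31634 (iv D30125) (iv F62253)
theorem F70670 : act 6 n31634 = n30584 := d20_2 D28980 D31634 F67102 F65649 (iv F67105) (iv D30585) F56991
def n31635 : Q := act 0 n28982
theorem D31635 : act 0 n28982 = n31635 := rfl
theorem F70671 : act 3 n31635 = n31368 := d2_2 F63392 D31635 F69840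
theorem F70672 : act 4 n31635 = n31428 := d3_2 F63492 D31635 F70043
theorem F70673 : act 1 n31436 = n31635 := d8_3 F70672 F70044 D31436
theorem F70674 : act 6 n31635 = n30597 := d10_2 (iv F70063) F70673 (iv D30597) F57028 D30591
def n31636 : Q := act 6 n28982
theorem D31636 : act 6 n28982 = n31636 := rfl
theorem F70675 : act 0 n31636 = n30597 := d5_1 D31636 (iv F70674) (iv D31635)
theorem F70676 : act 1 n31636 = n29403 := d10_1 D31636 (iv D29403) F52701 (iv F51960) D28982
theorem F70677 : act 3 n31636 = n31367 := d17_1 D31636 (iv F69839) F63392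
theorem F70678 : act 5 n29433 = n31636 := d16_0 F70677 F69838 F67133
def n31637 : Q := act 1 n28985
theorem D31637 : act 1 n28985 = n31637 := rfl
theorem F70679 : act 0 n31637 = n31637 := d0_1 D31637 (iv D31637) F62264 (iv F57241) (iv F67321) F67322 F67321 F57241 (iv F62264)
theorem F70680 : act 2 n31637 = n29434 := d6_2 (iv F62265) D31637 (iv D29434) (iv D25708) (iv F51966)
theorem F70681 : act 5 n31637 = n29434 := d9_2 D28985 D31637 (iv D29434) F52743 F51964
def n31638 : Q := act 4 n28988
theorem D31638 : act 4 n28988 = n31638 := rfl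
theorem F70682 : act 1 n31638 = n28989 := d8_1 D31638 (iv D28989) D28988
theorem F70683 : act 2 n31638 = n31550 := d12_1 D31638 F70392 F69596
theorem F70684 : act 6 n31638 = n31552 := d19_2 F69539 D31638 F70399
def n31639 : Q := act 5 n28988
theorem D31639 : act 5 n28988 = n31639 := rfl
theorem F70685 : act 6 n31639 = n31570 := d22_1 D31639 F70453 D31573 F70462
def n31640 : Q := act 3 n28989
theorem D31640 : act 3 n28989 = n31640 := rfl
theorem F70686 : act 4 n31640 = n29155 := d15_2 D28989 D31640 F62637 (iv F60486) F60485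
theorem F70687 : act 6 n31640 = n29153 := d17_2 F67763 D31640 (iv F67761)
def n31641 : Q := act 5 n28989
theorem D31641 : act 5 n28989 = n31641 := rfl
theorem F70688 : act 0 n31641 = n29979 := d4_1 D31641 (iv F69656) (iv F69657)
theorem F70689 : act 2 n31641 = n28991 := d13_1 D31641 (iv D28991) (iv F62276)
theorem F70690 : act 4 n31641 = n28990 := d18_1 D31641 (iv D28990) D28989
theorem F70691 : act 1 n31612 = n31641 := d6_5 F70689 F65298 (iv F70570) F70567 D31612
def n31642 : Q := act 1 n28990
theorem D31642 : act 1 n28990 = n31642 := rfl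
theorem F70692 : act 2 n31642 = n31611 := d6_2 (iv F62278) D31642 F70594 F65293 (iv F54231)
theorem F70693 : act 4 n31642 = n31612 := d8_2 F70690 D31642 F70691
def n31643 : Q := act 4 n28994
theorem D31643 : act 4 n28994 = n31643 := rfl
theorem F70694 : act 1 n31643 = n28995 := d8_1 D31643 (iv D28995) D28994
theorem F70695 : act 2 n31643 = n31570 := d12_1 D31643 F70452 F69674
theorem F70696 : act 5 n31643 = n31572 := d18_2 F69441 D31643 F70461
def n31644 : Q := act 6 n28994
theorem D31644 : act 6 n28994 = n31644 := rfl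
theorem F70697 : act 5 n31644 = n31550 := d22_2 F69441 D31644 F70393 (iv F69439)
def n31645 : Q := act 3 n28995
theorem D31645 : act 3 n28995 = n31645 := rfl
theorem F70698 : act 4 n31645 = n29103 := d15_2 D28995 D31645 F62551 (iv F60406) F60405
theorem F70699 : act 5 n31645 = n29102 := d16_2 F67946 D31645 (iv F67944)
def n31646 : Q := act 6 n28995
theorem D31646 : act 6 n28995 = n31646 := rfl
theorem F70700 : act 0 n31646 = n29778 := d5_1 D31646 (iv F69578) (iv F69579)
theorem F70701 : act 2 n31646 = n28997 := d14_1 D31646 (iv D28997) (iv F62291)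
theorem F70702 : act 4 n31646 = n28996 := d19_1 D31646 (iv D28996) D28995
theorem F70703 : act 1 n31602 = n31646 := d6_5 F70701 (iv F65581) (iv F70554) F70551 D31602
def n31647 : Q := act 1 n28996
theorem D31647 : act 1 n28996 = n31647 := rfl
theorem F70704 : act 2 n31647 = n31601 := d6_2 (iv F62293) D31647 F70556 F65572 (iv F54406)
theorem F70705 : act 4 n31647 = n31602 := d8_2 F70702 D31647 F70703
def n31648 : Q := act 2 n28998
theorem D31648 : act 2 n28998 = n31648 := rfl
theorem F70706 : act 0 n31648 = n28999 := d1_1 D31648 (iv D28999) D28998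
theorem F70707 : act 1 n31648 = n29055 := d6_1 D31648 (iv D29055) (iv D25402) (iv F52007) F62300
theorem F70708 : act 4 n31648 = n31648 := d12_2 F62298 D31648 (iv D31648)
theorem F70709 : act 5 n31648 = n31648 := d13_2 F62299 D31648 (iv D31648)
def n31649 : Q := act 3 n28999
theorem D31649 : act 3 n28999 = n31649 := rfl
theorem F70710 : act 1 n31649 = n31649 := d7_1 D31649 (iv D31649) F62301
theorem F70711 : act 5 n31649 = n31649 := d16_2 F62303 D31649 (iv D31649)
theorem F70712 : act 2 n31649 = n29406 := d21_2 D28999 D31649 (iv F64326) (iv F64384) F63425 (iv D29002) (iv F62297) (iv D28998)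
def n31650 : Q := act 2 n29000
theorem D31650 : act 2 n29000 = n31650 := rfl
theorem F70713 : act 0 n31650 = n29001 := d1_1 D31650 (iv D29001) D29000
theorem F70714 : act 1 n31650 = n29053 := d6_1 D31650 (iv D29053) (iv D25401) (iv F52002) (iv F62304)
theorem F70715 : act 4 n31650 = n31650 := d12_2 F62306 D31650 (iv D31650)
theorem F70716 : act 6 n31650 = n31650 := d14_2 F62307 D31650 (iv D31650)
def n31651 : Q := act 3 n29001
theorem D31651 : act 3 n29001 = n31651 := rfl
theorem F70717 : act 1 n31651 = n31651 := d7_1 D31651 (iv D31651) F62308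
theorem F70718 : act 6 n31651 = n31651 := d17_2 F62310 D31651 (iv D31651)
theorem F70719 : act 2 n31651 = n29546 := d21_2 D29001 D31651 (iv F65067) (iv F65070) F63106 (iv D29004) (iv F62305) (iv D29000)
def n31652 : Q := act 2 n29003
theorem D31652 : act 2 n29003 = n31652 := rfl
theorem F70720 : act 0 n31652 = n29764 := d1_1 D31652 (iv F64384) F63423
theorem F70721 : act 1 n31652 = n29779 := d6_1 D31652 F64414 (iv F56637) (iv F65313) F65312
theorem F70722 : act 4 n31652 = n29471 := d12_2 F63094 D31652 F63435
theorem F70723 : act 5 n31652 = n31652 := d13_2 F62313 D31652 (iv D31652)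
theorem F70724 : act 6 n31652 = n29797 := d14_2 F62441 D31652 F64455
def n31653 : Q := act 2 n29005
theorem D31653 : act 2 n29005 = n31653 := rfl
theorem F70725 : act 0 n31653 = n29972 := d1_1 D31653 (iv F65070) F63104
theorem F70726 : act 1 n31653 = n29980 := d6_1 D31653 F65102 (iv F56712) (iv F65596) F65595
theorem F70727 : act 4 n31653 = n29329 := d12_2 (iv F62487) D31653 F63116
theorem F70728 : act 5 n31653 = n29999 := d13_2 F62484 D31653 F65155
theorem F70729 : act 6 n31653 = n31653 := d14_2 F62316 D31653 (iv D31653)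
def n31654 : Q := act 5 n29007
theorem D31654 : act 5 n29007 = n31654 := rfl
theorem F70730 : act 1 n31654 = n29062 := d9_1 D31654 (iv D29062) (iv D25406) (iv F52015) D29007
theorem F70731 : act 2 n31654 = n31479 := d13_1 D31654 F70214 F70212
theorem F70732 : act 6 n29454 = n31654 := d24_0 (iv D31654) (iv D29007) (iv D25346) (iv F40966) (iv F49713) (iv F49716) (iv F50228) D28592 F61015 D31220 (iv F69390) F69395 F63342 D29454
def n31655 : Q := act 6 n29012
theorem D31655 : act 6 n29012 = n31655 := rfl
theorem F70733 : act 1 n31655 = n29074 := d10_1 D31655 (iv D29074) (iv D25413) (iv F52026) D29012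
theorem F70734 : act 2 n31655 = n31533 := d14_1 D31655 F70337 F70203
theorem F70735 : act 5 n31655 = n29312 := d24_1 D31655 (iv D29312) (iv F63004) (iv F69492) F69488 (iv D31243) (iv F61175) (iv D28649) F50334 F49768 F49765 F40987 D25352 D29012
def n31656 : Q := act 1 n29016
theorem D31656 : act 1 n29016 = n31656 := rfl
theorem F70736 : act 4 n31656 = n29017 := d8_2 (iv F62338) D31656 (iv D29017)
theorem F70737 : act 5 n31656 = n31592 := d9_2 (iv F62339) D31656 F70525 F70634 (iv D31620)
theorem F70738 : act 6 n31656 = n31029 := d10_2 D29016 D31656 (iv D31029) (iv D27949) (iv F52035)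
theorem F70739 : act 2 n30805 = n31656 := d23_1 (iv F67845) (iv D31656) F62336 (iv F60549) F60547 (iv F50254) (iv F61091) F61094 F61084 (iv D27438) (iv D23298) F33799 D18960 (iv F45452) (iv F56766) (iv F64671) F64672 D30540 (iv F66951)
def n31657 : Q := act 5 n29017
theorem D31657 : act 5 n29017 = n31657 := rfl
theorem F70740 : act 1 n31657 = n31623 := d9_1 D31657 (iv D31623) (iv D28962) (iv F52040) D29017
theorem F70741 : act 2 n31657 = n31530 := d13_1 D31657 F70327 F65776
theorem F70742 : act 3 n31657 = n29019 := d16_1 D31657 (iv D29019) (iv F62340)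
theorem F70743 : act 4 n31657 = n31592 := d18_1 D31657 (iv F70737) F70736
theorem F70744 : act 6 n31657 = n31529 := d22_1 D31657 (iv D31529) (iv F65780) F65778
def n31658 : Q := act 5 n29018
theorem D31658 : act 5 n29018 = n31658 := rfl
theorem F70745 : act 0 n31658 = n29019 := d4_1 D31658 (iv D29019) D29018
theorem F70746 : act 1 n31658 = n31186 := d9_1 D31658 F69269 D31236 F70416 F70413
theorem F70747 : act 2 n31658 = n30498 := d13_1 D31658 F66817 (iv F62342)
theorem F70748 : act 4 n31658 = n30674 := d18_1 D31658 F67354 F67335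
theorem F70749 : act 6 n31658 = n30497 := d20_2 F66810 D31658 (iv D30497) F56429 D29019 (iv F67166) F67165
def n31659 : Q := act 5 n29020
theorem D31659 : act 5 n29020 = n31659 := rfl
theorem F70750 : act 0 n31659 = n30688 := d4_1 D31659 F67417 (iv F65478)
theorem F70751 : act 1 n31659 = n30703 := d9_1 D31659 F67482 F61059 F60553 D29020
theorem F70752 : act 3 n31659 = n30323 := d16_1 D31659 F66214 F62368
theorem F70753 : act 4 n31659 = n31408 := d18_1 D31659 F69969 F65484
theorem F70754 : act 6 n31659 = n30322 := d22_1 D31659 F66209 (iv F65477) (iv F65478)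
def n31660 : Q := act 0 n29021
theorem D31660 : act 0 n29021 = n31660 := rfl
theorem F70755 : act 2 n31660 = n29856 := d1_2 F66184 D31660 (iv F66180)
theorem F70756 : act 4 n31660 = n29022 := d3_2 (iv F62345) D31660 (iv D29022)
theorem F70757 : act 6 n31660 = n29855 := d5_2 F64691 D31660 (iv F64686)
def n31661 : Q := act 5 n29021
theorem D31661 : act 5 n29021 = n31661 := rfl
theorem F70758 : act 1 n31661 = n30305 := d9_1 D31661 F69580 (iv D31266) F60549 D29021
theorem F70759 : act 3 n31661 = n30020 := d16_1 D31661 F65228 F64699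
theorem F70760 : act 4 n31661 = n29024 := d18_1 D31661 (iv D29024) (iv F62345)
def n31662 : Q := act 1 n29022
theorem D31662 : act 1 n29022 = n31662 := rfl
theorem F70761 : act 0 n31662 = n31564 := d0_1 D31662 (iv D31564) (iv F70153) (iv F70156) F65778 (iv D29017) F52038 D25362 D29022
theorem F70762 : act 3 n31662 = n29025 := d7_2 (iv F62346) D31662 (iv D29025)
theorem F70763 : act 5 n31565 = n31662 := d4_0 F70761 F70439 D31565
def n31663 : Q := act 5 n29023
theorem D31663 : act 5 n29023 = n31663 := rfl
theorem F70764 : act 2 n31663 = n29024 := d13_1 D31663 (iv D29024) D29023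
theorem F70765 : act 3 n31663 = n30367 := d16_1 D31663 F66376 F66179
theorem F70766 : act 6 n31663 = n30815 := d22_1 D31663 (iv D30815) D30816 F67886
theorem F70767 : act 1 n30365 = n31663 := d7_3 F70765 (iv D30367) (iv F66369)
def n31664 : Q := act 0 n29025
theorem D31664 : act 0 n29025 = n31664 := rfl
theorem F70768 : act 1 n31664 = n31557 := d0_2 D29025 D31664 F70419 F70413 (iv D29018) (iv D25359) F40861 D21154 D25364
theorem F70769 : act 3 n31664 = n31564 := d2_2 F70762 D31664 (iv F70761)
theorem F70770 : act 6 n31664 = n31332 := d5_2 F67356 D31664 F69744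
theorem F70771 : act 5 n31664 = n31558 := d22_0 F70424 F69384 F67356 D31664
theorem F70772 : act 2 n31197 = n31664 := d6_0 F70768 F70420 (iv D31236) F60423 D31197
def n31665 : Q := act 2 n29025
theorem D31665 : act 2 n29025 = n31665 := rfl
theorem F70773 : act 0 n31665 = n31197 := d1_1 D31665 F70772 (iv D31664)
theorem F70774 : act 6 n31665 = n30601 := d14_2 F67356 D31665 (iv F67350)
def n31666 : Q := act 5 n29025
theorem D31666 : act 5 n29025 = n31666 := rfl
theorem F70775 : act 0 n31666 = n31558 := d4_1 D31666 (iv F70771) (iv D31664)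
theorem F70776 : act 3 n31666 = n31565 := d16_1 D31666 F70763 F70762
def n31667 : Q := act 1 n29027
theorem D31667 : act 1 n29027 = n31667 := rfl
theorem F70777 : act 4 n31667 = n29028 := d8_2 (iv F62354) D31667 (iv D29028)
theorem F70778 : act 5 n31667 = n31066 := d9_2 D29027 D31667 (iv D31066) (iv D28021) (iv F52050)
theorem F70779 : act 6 n31667 = n31593 := d10_2 (iv F62355) D31667 F70527 F70659 (iv D31629)
theorem F70780 : act 2 n30863 = n31667 := d25_9 F68035 (iv F59457) F59456 (iv F57965) F57964 D27569 F57968 D27586 D30863 (iv D31667) (iv F69296) (iv F69300) F69301 F60709 (iv F50366) F50367 (iv F50388) F50389 F45182 (iv F34187) F26779 F20797 (iv F20542) (iv F21737) (iv F28630) (iv D16506) (iv D12322) (iv F21728) D16496 D21861 D26379 D30122 F65527 F57184 F46217 F42710 (iv F41143) (iv F52368) (iv F52369) (iv D22949) F32364 (iv D13459) (iv D10728) F11421 (iv F17145) F17070 (iv F11419) (iv F19059) (iv F23672) F23671 D13784 (iv F33950) F33949 D19311 D23700 D27781 (iv F64047) F64049 F54031 (iv F54072) (iv F62728) F62725 (iv D25503)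 (iv D21267) (iv D16102) (iv D12120) (iv D9987) (iv F17732) (iv F21357) (iv F27762) (iv F41001) D25420 F52192 D25892 (iv F62181) (iv F69229) F69228
def n31668 : Q := act 6 n29028
theorem D31668 : act 6 n29028 = n31668 := rfl
theorem F70781 : act 1 n31668 = n31632 := d10_1 D31668 (iv D31632) (iv D28977) (iv F52055) D29028
theorem F70782 : act 2 n31668 = n31476 := d14_1 D31668 F70175 F65493
theorem F70783 : act 3 n31668 = n29030 := d17_1 D31668 (iv D29030) (iv F62356)
theorem F70784 : act 4 n31668 = n31593 := d19_1 D31668 (iv F70779) F70777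
theorem F70785 : act 5 n31668 = n31475 := d22_2 (iv F62357) D31668 (iv D31475) F61440
def n31669 : Q := act 6 n29029
theorem D31669 : act 6 n29029 = n31669 := rfl
theorem F70786 : act 0 n31669 = n29030 := d5_1 D31669 (iv D29030) D29029
theorem F70787 : act 1 n31669 = n31189 := d10_1 D31669 F69281 D31260 F70480 F70475
theorem F70788 : act 2 n31669 = n30494 := d14_1 D31669 F66803 (iv F62358)
theorem F70789 : act 4 n31669 = n30654 := d19_1 D31669 F67295 F67276
theorem F70790 : act 5 n31669 = n30493 := d20_1 D31669 (iv D30493) F56418 D29030 (iv F67137) F67138 F66797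
def n31670 : Q := act 6 n29031
theorem D31670 : act 6 n29031 = n31670 := rfl
theorem F70791 : act 0 n31670 = n30753 := d5_1 D31670 F67661 (iv F65773)
theorem F70792 : act 1 n31670 = n30762 := d10_1 D31670 F67692 F61218 F60715 D29031
theorem F70793 : act 3 n31670 = n30304 := d17_1 D31670 F66142 F62393
theorem F70794 : act 4 n31670 = n31443 := d19_1 D31670 F70083 F65786
theorem F70795 : act 5 n31670 = n30303 := d22_2 F69653 D31670 F66137 (iv F69650)
def n31671 : Q := act 0 n29032
theorem D31671 : act 0 n29032 = n31671 := rfl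
theorem F70796 : act 2 n31671 = n29619 := d1_2 F66362 D31671 (iv F66358)
theorem F70797 : act 4 n31671 = n29033 := d3_2 (iv F62361) D31671 (iv D29033)
theorem F70798 : act 5 n31671 = n29618 := d4_2 F63884 D31671 (iv F63879)
def n31672 : Q := act 6 n29032
theorem D31672 : act 6 n29032 = n31672 := rfl
theorem F70799 : act 1 n31672 = n30361 := d10_1 D31672 F69658 (iv D31295) F60711 D29032
theorem F70800 : act 3 n31672 = n30114 := d17_1 D31672 F65508 F63892
theorem F70801 : act 4 n31672 = n29035 := d19_1 D31672 (iv D29035) (iv F62361)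
def n31673 : Q := act 1 n29033
theorem D31673 : act 1 n29033 = n31673 := rfl
theorem F70802 : act 0 n31673 = n31583 := d0_1 D31673 (iv D31583) (iv F70298) F70299 F65494 (iv D29028) F52053 D25372 D29033
theorem F70803 : act 3 n31673 = n29036 := d7_2 (iv F62362) D31673 (iv D29036)
theorem F70804 : act 6 n31584 = n31673 := d5_0 F70802 F70499 D31584
def n31674 : Q := act 6 n29034
theorem D31674 : act 6 n29034 = n31674 := rfl
theorem F70805 : act 2 n31674 = n29035 := d14_1 D31674 (iv D29035) D29034
theorem F70806 : act 3 n31674 = n30330 := d17_1 D31674 F66237 F66148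
theorem F70807 : act 5 n31674 = n30874 := d22_2 F67753 D31674 (iv D30874) (iv F67750)
theorem F70808 : act 1 n30329 = n31674 := d7_3 F70806 (iv D30330) (iv F66233)
def n31675 : Q := act 0 n29036
theorem D31675 : act 0 n29036 = n31675 := rfl
theorem F70809 : act 1 n31675 = n31577 := d0_2 D29036 D31675 F70481 F70475 (iv D29029) (iv D25369) F40882 D21164 D25374
theorem F70810 : act 3 n31675 = n31583 := d2_2 F70803 D31675 (iv F70802)
theorem F70811 : act 4 n31675 = n31665 := d3_2 F69307 D31675 F70773
theorem F70812 : act 5 n31675 = n31358 := d4_2 F67297 D31675 F69811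
theorem F70813 : act 6 n31578 = n31675 := d22_3 (iv F67297) (iv F69487) (iv F70486) (iv D31675)
theorem F70814 : act 2 n31193 = n31675 := d12_3 F70811 (iv D31665) (iv F69294)
def n31676 : Q := act 2 n29036
theorem D31676 : act 2 n29036 = n31676 := rfl
theorem F70815 : act 0 n31676 = n31193 := d1_1 D31676 F70814 (iv D31675)
theorem F70816 : act 4 n31676 = n31664 := d12_2 F69307 D31676 (iv F70772)
theorem F70817 : act 5 n31676 = n30589 := d13_2 F67297 D31676 (iv F67291)
def n31677 : Q := act 6 n29036
theorem D31677 : act 6 n29036 = n31677 := rfl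
theorem F70818 : act 0 n31677 = n31578 := d5_1 D31677 F70813 (iv D31675)
theorem F70819 : act 3 n31677 = n31584 := d17_1 D31677 F70804 F70803
def n31678 : Q := act 3 n29039
theorem D31678 : act 3 n29039 = n31678 := rfl
theorem F70820 : act 0 n31678 = n30821 := d2_1 D31678 F67902 (iv F62372)
theorem F70821 : act 4 n31678 = n31674 := d15_2 (iv F62373) D31678 F70806 F66235 (iv F55673)
theorem F70822 : act 5 n31678 = n29612 := d16_2 (iv F62374) D31678 (iv D29612)
theorem F70823 : act 6 n31678 = n30362 := d17_2 (iv F62375) D31678 (iv D30362)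
theorem F70824 : act 2 n31678 = n31672 := d21_2 D29039 D31678 F70800 F65507 F54360 F44104 (iv F53087) F53086
def n31679 : Q := act 2 n29040
theorem D31679 : act 2 n29040 = n31679 := rfl
theorem F70825 : act 0 n31679 = n30114 := d1_1 D31679 F65507 (iv F62376)
theorem F70826 : act 1 n31679 = n30735 := d6_1 D31679 (iv D30735) (iv D27381) (iv F52076) (iv F62377)
theorem F70827 : act 4 n31679 = n29729 := d12_2 (iv F62378) D31679 (iv D29729)
theorem F70828 : act 5 n31679 = n29615 := d13_2 (iv F62379) D31679 (iv D29615)
def n31680 : Q := act 0 n29041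
theorem D31680 : act 0 n29041 = n31680 := rfl
theorem F70829 : act 1 n31680 = n30863 := d0_2 D29041 D31680 F68029 (iv D30106) F54331 D30105 (iv F65478) (iv D29020) (iv F52079)
theorem F70830 : act 2 n31680 = n29826 := d1_2 F64871 D31680 (iv F64870)
theorem F70831 : act 3 n31680 = n29042 := d2_2 (iv F62380) D31680 (iv D29042)
theorem F70832 : act 4 n31680 = n29689 := d3_2 F63740 D31680 F64116
theorem F70833 : act 5 n31680 = n29825 := d4_2 F64115 D31680 F64540
theorem F70834 : act 6 n31680 = n29687 := d5_2 (iv F62381) D31680 F64107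
def n31681 : Q := act 3 n29043
theorem D31681 : act 3 n29043 = n31681 := rfl
theorem F70835 : act 0 n31681 = n30862 := d2_1 D31681 F68026 (iv F62387)
theorem F70836 : act 1 n31681 = n29044 := d7_1 D31681 (iv D29044) (iv F62388)
theorem F70837 : act 4 n31681 = n29672 := d15_2 (iv F62389) D31681 F66303 (iv D30346) (iv F58587)
theorem F70838 : act 6 n31681 = n30897 := d17_2 (iv F62390) D31681 (iv D30897)
theorem F70839 : act 2 n31681 = n29673 := d21_2 D29043 D31681 F64054 F55079 (iv F64546) (iv F70830) F70831 (iv D29042)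
def n31682 : Q := act 4 n29044
theorem D31682 : act 4 n29044 = n31682 := rfl
theorem F70840 : act 0 n31682 = n29183 := d3_1 D31682 (iv D29183) (iv F62391)
theorem F70841 : act 1 n31682 = n29672 := d8_1 D31682 (iv F70837) F70836
theorem F70842 : act 2 n31682 = n29678 := d12_1 D31682 F64070 F62702
theorem F70843 : act 3 n31682 = n30830 := d15_1 D31682 F67919 F58526 F55896 D29044
theorem F70844 : act 6 n31682 = n31682 := d19_2 F62392 D31682 (iv D31682)
def n31683 : Q := act 3 n29046
theorem D31683 : act 3 n29046 = n31683 := rfl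
theorem F70845 : act 0 n31683 = n30878 := d2_1 D31683 F68086 (iv F62397)
theorem F70846 : act 4 n31683 = n31663 := d15_2 (iv F62398) D31683 F70765 F66375 F55692
theorem F70847 : act 5 n31683 = n30315 := d16_2 (iv F62399) D31683 (iv D30315)
theorem F70848 : act 6 n31683 = n29849 := d17_2 (iv F62400) D31683 (iv D29849)
theorem F70849 : act 2 n31683 = n31661 := d21_2 D29046 D31683 F70759 F65227 F54184 F43954 (iv F53691) F53690
def n31684 : Q := act 2 n29047
theorem D31684 : act 2 n29047 = n31684 := rfl
theorem F70850 : act 0 n31684 = n30020 := d1_1 D31684 F65227 (iv F62401)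
theorem F70851 : act 1 n31684 = n30742 := d6_1 D31684 F67617 F57536 (iv F52115) (iv F62402)
theorem F70852 : act 4 n31684 = n29947 := d12_2 (iv F62403) D31684 (iv D29947)
theorem F70853 : act 6 n31684 = n29851 := d14_2 (iv F62404) D31684 (iv D29851)
def n31685 : Q := act 0 n29048
theorem D31685 : act 0 n29048 = n31685 := rfl
theorem F70854 : act 1 n31685 = n30805 := d0_2 D29048 D31685 F67843 (iv D30199) (iv F54509) D30200 (iv F65773) (iv D29031) (iv F52118)
theorem F70855 : act 2 n31685 = n29588 := d1_2 F64117 D31685 (iv F64116)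
theorem F70856 : act 3 n31685 = n29049 := d2_2 (iv F62405) D31685 (iv D29049)
theorem F70857 : act 4 n31685 = n29913 := d3_2 F64547 D31685 F64870
theorem F70858 : act 5 n31685 = n29686 := d4_2 (iv F62406) D31685 F64103
theorem F70859 : act 6 n31685 = n29587 := d5_2 F64102 D31685 (iv F64097)
def n31686 : Q := act 3 n29050
theorem D31686 : act 3 n29050 = n31686 := rfl
theorem F70860 : act 0 n31686 = n30804 := d2_1 D31686 F67840 (iv F62412)
theorem F70861 : act 1 n31686 = n29051 := d7_1 D31686 (iv D29051) (iv F62413)
theorem F70862 : act 4 n31686 = n29902 := d15_2 (iv F62414) D31686 F66080 (iv D30287) (iv F58491)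
theorem F70863 : act 5 n31686 = n30923 := d16_2 (iv F62415) D31686 (iv D30923)
theorem F70864 : act 2 n31686 = n29903 := d21_2 D29050 D31686 F64832 F55555 (iv F63739) (iv F70855) F70856 (iv D29049)
def n31687 : Q := act 4 n29051
theorem D31687 : act 4 n29051 = n31687 := rfl
theorem F70865 : act 0 n31687 = n29238 := d3_1 D31687 (iv D29238) (iv F62416)
theorem F70866 : act 1 n31687 = n29902 := d8_1 D31687 (iv F70862) F70861
theorem F70867 : act 2 n31687 = n29908 := d12_1 D31687 F64851 F62849
theorem F70868 : act 3 n31687 = n30888 := d15_1 D31687 F68107 F58624 F55788 D29051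
theorem F70869 : act 5 n31687 = n31687 := d18_2 F62417 D31687 (iv D31687)
def n31688 : Q := act 2 n29052
theorem D31688 : act 2 n29052 = n31688 := rfl
theorem F70870 : act 0 n31688 = n29053 := d1_1 D31688 (iv D29053) D29052
theorem F70871 : act 4 n31688 = n31688 := d12_2 F62419 D31688 (iv D31688)
theorem F70872 : act 5 n31688 = n29053 := d13_2 (iv F62421) D31688 (iv D29053)
theorem F70873 : act 6 n31688 = n31648 := d14_2 (iv F62420) D31688 (iv D31648)
def n31689 : Q := act 3 n29053
theorem D31689 : act 3 n29053 = n31689 := rfl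
theorem F70874 : act 6 n31689 = n31649 := d17_2 (iv F62423) D31689 (iv D31649)
theorem F70875 : act 2 n31689 = n29806 := d21_2 D29053 D31689 F64482 (iv F61476) F62452 (iv D29057) (iv F62418) (iv D29052)
def n31690 : Q := act 2 n29054
theorem D31690 : act 2 n29054 = n31690 := rfl
theorem F70876 : act 0 n31690 = n29055 := d1_1 D31690 (iv D29055) D29054
theorem F70877 : act 4 n31690 = n31690 := d12_2 F62426 D31690 (iv D31690)
theorem F70878 : act 5 n31690 = n31650 := d13_2 (iv F62427) D31690 (iv D31650)
theorem F70879 : act 6 n31690 = n29055 := d14_2 (iv F62428) D31690 (iv D29055)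
def n31691 : Q := act 3 n29055
theorem D31691 : act 3 n29055 = n31691 := rfl
theorem F70880 : act 5 n31691 = n31651 := d16_2 (iv F62430) D31691 (iv D31651)
theorem F70881 : act 2 n31691 = n30006 := d21_2 D29055 D31691 F65180 (iv F61630) F62478 (iv D29068) (iv F62425) (iv D29054)
def n31692 : Q := act 0 n29058
theorem D31692 : act 0 n29058 = n31692 := rfl
theorem F70882 : act 1 n31692 = n29148 := d0_2 D29058 D31692 (iv D29148) (iv D25466) (iv F48426) D27941 (iv F61474) (iv F62451) F62437
theorem F70883 : act 2 n31692 = n29060 := d1_2 (iv F62440) D31692 (iv D29060)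
theorem F70884 : act 3 n31692 = n30061 := d2_2 (iv F62445) D31692 F65334
theorem F70885 : act 4 n31692 = n31624 := d3_2 F69320 D31692 F70638
theorem F70886 : act 5 n31692 = n30060 := d4_2 F62447 D31692 F65333
theorem F70887 : act 6 n29374 = n31692 := d22_3 (iv F62447) D30079 (iv F65406) (iv D31692)
def n31693 : Q := act 6 n29058
theorem D31693 : act 6 n29058 = n31693 := rfl
theorem F70888 : act 0 n31693 = n29374 := d5_1 D31693 F70887 (iv D31692)
theorem F70889 : act 1 n31693 = n30568 := d10_1 D31693 F67063 F56903 (iv F52157) D29058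
theorem F70890 : act 2 n31693 = n29063 := d14_1 D31693 (iv D29063) (iv F62440)
theorem F70891 : act 3 n31693 = n30080 := d17_1 D31693 (iv D30080) (iv F62445)
def n31694 : Q := act 4 n29061
theorem D31694 : act 4 n29061 = n31694 := rfl
theorem F70892 : act 0 n31694 = n30742 := d3_1 D31694 (iv D30742) (iv F62450)
theorem F70893 : act 1 n31694 = n29064 := d8_1 D31694 (iv D29064) (iv F62444)
theorem F70894 : act 2 n31694 = n30741 := d12_1 D31694 (iv D30741) F62449
theorem F70895 : act 6 n31263 = n31694 := d10_0 F70893 F62461 (iv D28419) D28421 D31263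
def n31695 : Q := act 6 n29061
theorem D31695 : act 6 n29061 = n31695 := rfl
theorem F70896 : act 0 n31695 = n30743 := d5_1 D31695 (iv D30743) (iv F62450)
theorem F70897 : act 1 n31695 = n30567 := d10_1 D31695 (iv D30567) F56893 (iv F52159) (iv F62444)
theorem F70898 : act 2 n31695 = n30389 := d14_1 D31695 F66437 F62449
theorem F70899 : act 3 n31695 = n29063 := d17_1 D31695 (iv D29063) D29061
theorem F70900 : act 4 n31695 = n31263 := d19_1 D31695 F70895 (iv D31694)
theorem F70901 : act 5 n31695 = n30387 := d22_2 F66418 D31695 (iv D30387) (iv F66417)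
def n31696 : Q := act 5 n29063
theorem D31696 : act 5 n29063 = n31696 := rfl
theorem F70902 : act 0 n31696 = n31237 := d4_1 D31696 (iv D31237) (iv F62457)
theorem F70903 : act 3 n31696 = n30387 := d16_1 D31696 (iv F70901) F70899
theorem F70904 : act 6 n31696 = n30386 := d20_2 D29063 D31696 F66432 (iv F62443) D31237 F69465 (iv D29062)
def n31697 : Q := act 4 n29065
theorem D31697 : act 4 n29065 = n31697 := rfl
theorem F70905 : act 1 n31697 = n29066 := d8_1 D31697 (iv D29066) D29065
theorem F70906 : act 2 n31697 = n29112 := d12_1 D31697 (iv D29112) (iv F62462)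
def n31698 : Q := act 5 n29065
theorem D31698 : act 5 n29065 = n31698 := rfl
theorem F70907 : act 1 n31698 = n30380 := d9_1 D31698 F66418 F62444 (iv F52163) D29065
theorem F70908 : act 2 n31698 = n29113 := d13_1 D31698 (iv D29113) (iv F62462)
theorem F70909 : act 3 n31698 = n31654 := d16_1 D31698 (iv D31654) (iv F62463)
theorem F70910 : act 6 n29868 = n31698 := d24_0 (iv D31698) (iv D29065) F52164 (iv F52151) F52149 (iv F52201) (iv F61012) D31382 F69895 (iv F69632) (iv D31288) (iv F64576) F64575 D29868
def n31699 : Q := act 3 n29066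
theorem D31699 : act 3 n29066 = n31699 := rfl
theorem F70911 : act 0 n31699 = n29863 := d2_1 D31699 (iv F64683) (iv F62464)
theorem F70912 : act 2 n31699 = n29870 := d11_1 D31699 (iv F68421) F68420 (iv F69309) (iv F69338) F69339 F62460 F64683 F64681 D29871 F64711 (iv F64408) F64407 F60348 (iv F62465)
theorem F70913 : act 4 n31699 = n31184 := d15_2 D29066 D31699 F69263 F60253 (iv F52162)
theorem F70914 : act 5 n31699 = n31206 := d16_2 (iv F62466) D31699 F69339
theorem F70915 : act 6 n31699 = n30974 := d17_2 (iv F62467) D31699 F68432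
def n31700 : Q := act 0 n29069
theorem D31700 : act 0 n29069 = n31700 := rfl
theorem F70916 : act 1 n31700 = n29097 := d0_2 D29069 D31700 (iv D29097) (iv D25432) (iv F48455) D27945 (iv F61626) (iv F62475) F62474
theorem F70917 : act 2 n31700 = n29071 := d1_2 (iv F62479) D31700 (iv D29071)
theorem F70918 : act 3 n31700 = n30156 := d2_2 F62481 D31700 F65620
theorem F70919 : act 4 n31700 = n31633 := d3_2 F69347 D31700 F70663
theorem F70920 : act 6 n31700 = n30154 := d5_2 (iv F62480) D31700 F65616
theorem F70921 : act 5 n31700 = n29514 := d22_0 F65685 (iv D30173) (iv F62480) D31700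
def n31701 : Q := act 5 n29069
theorem D31701 : act 5 n29069 = n31701 := rfl
theorem F70922 : act 0 n31701 = n29514 := d4_1 D31701 (iv F70921) (iv D31700)
theorem F70923 : act 1 n31701 = n30571 := d9_1 D31701 F67072 F56923 (iv F52174) D29069
theorem F70924 : act 2 n31701 = n29073 := d13_1 D31701 (iv D29073) (iv F62479)
theorem F70925 : act 3 n31701 = n30176 := d16_1 D31701 (iv D30176) F62481
def n31702 : Q := act 4 n29072
theorem D31702 : act 4 n29072 = n31702 := rfl
theorem F70926 : act 0 n31702 = n30735 := d3_1 D31702 F67592 (iv F62492)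
theorem F70927 : act 1 n31702 = n29075 := d8_1 D31702 (iv D29075) (iv F62493)
theorem F70928 : act 2 n31702 = n30734 := d12_1 D31702 F67590 (iv F62494)
theorem F70929 : act 5 n31292 = n31702 := d9_0 F70927 F62500 (iv D28473) D28475 D31292
def n31703 : Q := act 5 n29072
theorem D31703 : act 5 n29072 = n31703 := rfl
theorem F70930 : act 0 n31703 = n30780 := d4_1 D31703 (iv D30780) (iv F62492)
theorem F70931 : act 1 n31703 = n30570 := d9_1 D31703 (iv D30570) F56913 (iv F52176) (iv F62493)
theorem F70932 : act 2 n31703 = n30409 := d13_1 D31703 F66487 (iv F62494)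
theorem F70933 : act 3 n31703 = n29073 := d16_1 D31703 (iv D29073) D29072
theorem F70934 : act 4 n31703 = n31292 := d18_1 D31703 F70929 (iv D31702)
theorem F70935 : act 6 n31703 = n30407 := d22_1 D31703 (iv D30407) (iv F57743) (iv F62492)
def n31704 : Q := act 6 n29073
theorem D31704 : act 6 n29073 = n31704 := rfl
theorem F70936 : act 0 n31704 = n31261 := d5_1 D31704 (iv D31261) (iv F62495)
theorem F70937 : act 3 n31704 = n30407 := d17_1 D31704 (iv F70935) F70933
theorem F70938 : act 5 n31704 = n30406 := d20_1 D31704 F66482 (iv F62491) D31261 F69563 (iv D29074) D29073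
def n31705 : Q := act 4 n29076
theorem D31705 : act 4 n29076 = n31705 := rfl
theorem F70939 : act 1 n31705 = n29077 := d8_1 D31705 (iv D29077) D29076
theorem F70940 : act 2 n31705 = n29163 := d12_1 D31705 (iv D29163) (iv F62501)
def n31706 : Q := act 6 n29076
theorem D31706 : act 6 n29076 = n31706 := rfl
theorem F70941 : act 1 n31706 = n30400 := d10_1 D31706 F66468 F62493 (iv F52181) D29076
theorem F70942 : act 2 n31706 = n29165 := d14_1 D31706 (iv D29165) (iv F62501)
theorem F70943 : act 3 n31706 = n31655 := d17_1 D31706 (iv D31655) (iv F62502)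
theorem F70944 : act 5 n31706 = n29632 := d24_1 D31706 (iv D29632) (iv F63763) F63762 D31316 F69707 (iv F70007) (iv D31419) F61173 F52257 (iv F52167) F52170 (iv F52180) D29076
def n31707 : Q := act 3 n29077
theorem D31707 : act 3 n29077 = n31707 := rfl
theorem F70945 : act 0 n31707 = n29627 := d2_1 D31707 (iv F63876) (iv F62503)
theorem F70946 : act 2 n31707 = n29637 := d11_1 D31707 (iv F68427) F68426 (iv F69312) (iv F69365) F69366 F62499 F63876 F63874 D29638 (iv F63910) (iv F63926) F63925 F60360 (iv F62504)
theorem F70947 : act 4 n31707 = n31187 := d15_2 D29077 D31707 F69273 F60267 (iv F52179)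
theorem F70948 : act 5 n31707 = n31001 := d16_2 (iv F62505) D31707 F68522
theorem F70949 : act 6 n31707 = n31213 := d17_2 (iv F62506) D31707 F69366
def n31708 : Q := act 0 n29078
theorem D31708 : act 0 n29078 = n31708 := rfl
theorem F70950 : act 3 n31708 = n30981 := d2_2 (iv F62507) D31708 (iv D30981)
def n31709 : Q := act 5 n29078
theorem D31709 : act 5 n29078 = n31709 := rfl
theorem F70951 : act 1 n31709 = n30497 := d9_1 D31709 (iv D30497) F56427 (iv F52185) D29078
theorem F70952 : act 2 n31709 = n31578 := d13_1 D31709 F70486 F69485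
theorem F70953 : act 3 n31709 = n30983 := d16_1 D31709 (iv D30983) (iv F62507)
theorem F70954 : act 4 n31709 = n30673 := d18_1 D31709 (iv F69384) F69383
theorem F70955 : act 6 n31709 = n31193 := d22_3 F70817 F67114 D31709 (iv F70815)
def n31710 : Q := act 1 n29082
theorem D31710 : act 1 n29082 = n31710 := rfl
theorem F70956 : act 0 n31710 = n29157 := d0_1 D31710 (iv D29157) F60438 (iv D28337) F49664 D28301 (iv F65653) (iv F69757) F69756
theorem F70957 : act 2 n31710 = n29083 := d6_2 D29082 D31710 (iv D29083) (iv D25422) D25421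
theorem F70958 : act 4 n31710 = n31272 := d8_2 (iv F62513) D31710 F69591
theorem F70959 : act 6 n31710 = n29161 := d10_2 (iv F62514) D31710 (iv F62653) F60727 F53162
theorem F70960 : act 3 n31300 = n31710 := d17_3 F70959 (iv F62654) D31300
def n31711 : Q := act 3 n29082
theorem D31711 : act 3 n29082 = n31711 := rfl
theorem F70961 : act 1 n31711 = n31300 := d7_1 D31711 F70960 (iv D31710)
theorem F70962 : act 6 n31711 = n29302 := d17_2 (iv F62514) D31711 (iv D29302)
def n31712 : Q := act 5 n29083
theorem D31712 : act 5 n29083 = n31712 := rfl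
theorem F70963 : act 1 n31712 = n31331 := d9_1 D31712 (iv D31331) (iv D28532) (iv F52198) D29083
theorem F70964 : act 3 n31712 = n31644 := d16_1 D31712 F70697 F70391
theorem F70965 : act 4 n31712 = n31273 := d18_1 D31712 (iv D31273) (iv F62515)
theorem F70966 : act 6 n31712 = n31230 := d22_1 D31712 F69438 D31232 F69442
def n31713 : Q := act 1 n29084
theorem D31713 : act 1 n29084 = n31713 := rfl
theorem F70967 : act 0 n31713 = n31713 := d0_1 D31713 (iv D31713) F62516 (iv F57209) (iv F67074) F67075 F67074 F57209 (iv F62516)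
theorem F70968 : act 2 n31713 = n29100 := d6_2 (iv F62517) D31713 (iv D29100) F52216 (iv F52204)
theorem F70969 : act 3 n31713 = n31094 := d7_2 F68855 D31713 F68882
theorem F70970 : act 4 n31713 = n31637 := d8_2 (iv F62518) D31713 (iv D31637)
theorem F70971 : act 5 n31713 = n29100 := d9_2 (iv F62519) D31713 (iv D29100) (iv F52218) (iv F52832)
def n31714 : Q := act 5 n29090
theorem D31714 : act 5 n29090 = n31714 := rfl
theorem F70972 : act 2 n31714 = n30675 := d13_1 D31714 (iv D30675) (iv F62530)
theorem F70973 : act 6 n31714 = n29965 := d22_1 D31714 F65047 (iv F70194) F70192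
def n31715 : Q := act 6 n29090
theorem D31715 : act 6 n29090 = n31715 := rfl
theorem F70974 : act 0 n31715 = n29809 := d5_1 D31715 (iv F70194) F70192
theorem F70975 : act 1 n31715 = n29114 := d10_1 D31715 (iv D29114) (iv D25441) (iv F52210) D29090
theorem F70976 : act 2 n31715 = n29808 := d14_1 D31715 F64487 (iv F62530)
theorem F70977 : act 4 n31715 = n29811 := d19_1 D31715 (iv F70232) F70231
def n31716 : Q := act 5 n29091
theorem D31716 : act 5 n29091 = n31716 := rfl
theorem F70978 : act 2 n31716 = n29093 := d13_1 D31716 (iv D29093) (iv F62531)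
theorem F70979 : act 4 n31716 = n29092 := d18_1 D31716 (iv D29092) D29091
theorem F70980 : act 6 n31716 = n29220 := d22_1 D31716 (iv D29220) (iv F62731) F62729
def n31717 : Q := act 1 n29092
theorem D31717 : act 1 n29092 = n31717 := rfl
theorem F70981 : act 3 n31717 = n29228 := d7_2 (iv F62534) D31717 (iv D29228)
def n31718 : Q := act 0 n29094
theorem D31718 : act 0 n29094 = n31718 := rfl
theorem F70982 : act 3 n31718 = n29095 := d2_2 (iv F62537) D31718 (iv D29095)
theorem F70983 : act 5 n31718 = n31423 := d4_2 F69894 D31718 F70026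
theorem F70984 : act 6 n31718 = n31288 := d5_2 F69604 D31718 F69630
theorem F70985 : act 2 n31070 = n31718 := d13_3 F70983 (iv D31423) (iv F68781)
def n31719 : Q := act 2 n29094
theorem D31719 : act 2 n29094 = n31719 := rfl
theorem F70986 : act 0 n31719 = n31070 := d1_1 D31719 F70985 (iv D31718)
theorem F70987 : act 5 n31719 = n31422 := d13_2 F69894 D31719 (iv F70025)
theorem F70988 : act 3 n31072 = n31719 := d16_3 F70987 F70023 (iv F68789)
def n31720 : Q := act 1 n29095
theorem D31720 : act 1 n29095 = n31720 := rfl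
def n31721 : Q := act 6 n29097
theorem D31721 : act 6 n29097 = n31721 := rfl
theorem F70989 : act 0 n31721 = n29099 := d5_1 D31721 (iv D29099) D29097
theorem F70990 : act 2 n31721 = n29101 := d14_1 D31721 (iv D29101) (iv F62538)
theorem F70991 : act 3 n31721 = n31087 := d17_1 D31721 (iv D31087) (iv F62539)
theorem F70992 : act 4 n31721 = n29378 := d19_1 D31721 F63226 (iv F62540)
theorem F70993 : act 5 n31721 = n29405 := d20_1 D31721 F63282 (iv D29098) D29099 (iv F63543) (iv D29512) (iv F62541)
def n31722 : Q := act 1 n29099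
theorem D31722 : act 1 n29099 = n31722 := rfl
theorem F70994 : act 3 n31722 = n31089 := d7_2 (iv F62547) D31722 (iv D31089)
theorem F70995 : act 6 n31722 = n29100 := d10_2 D29099 D31722 (iv D29100) (iv D25433) D25432
theorem F70996 : act 0 n31722 = n31722 := d5_3 F70995 F63061 (iv F70995)
def n31723 : Q := act 6 n29102
theorem D31723 : act 6 n29102 = n31723 := rfl
theorem F70997 : act 4 n31723 = n29104 := d19_1 D31723 (iv D29104) D29102
def n31724 : Q := act 6 n29103
theorem D31724 : act 6 n29103 = n31724 := rfl
theorem F70998 : act 1 n31724 = n31378 := d10_1 D31724 (iv D31378) F60980 D31282 (iv F69612)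
theorem F70999 : act 2 n31724 = n30223 := d14_1 D31724 F65844 F65819
theorem F71000 : act 3 n31724 = n29106 := d17_1 D31724 (iv D29106) (iv F62551)
theorem F71001 : act 5 n31724 = n30219 := d22_2 D29103 D31724 (iv D30219) F54532
def n31725 : Q := act 5 n29104
theorem D31725 : act 5 n29104 = n31725 := rfl
theorem F71002 : act 0 n31725 = n31724 := d4_1 D31725 F71001 F65831
theorem F71003 : act 1 n31725 = n31198 := d9_1 D31725 F69310 (iv F68648) (iv F70262) (iv F70265)
theorem F71004 : act 2 n31725 = n30222 := d13_1 D31725 F65840 F65822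
theorem F71005 : act 3 n31725 = n29107 := d16_1 D31725 (iv D29107) (iv F62552)
theorem F71006 : act 6 n31725 = n30218 := d20_2 D29104 D31725 (iv D30218) D30219 (iv F71001) (iv D31724) (iv D29103)
def n31726 : Q := act 0 n29105
theorem D31726 : act 0 n29105 = n31726 := rfl
theorem F71007 : act 1 n31726 = n29133 := d0_2 D29105 D31726 (iv F69823) F69824 F65367 (iv D28296) (iv F49652) D28329 F60294
theorem F71008 : act 2 n31726 = n29134 := d1_2 F69542 D31726 (iv F69540)
theorem F71009 : act 3 n31726 = n31271 := d2_2 F69610 D31726 (iv F69609)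
theorem F71010 : act 4 n31726 = n31301 := d3_2 F69437 D31726 F69668
theorem F71011 : act 5 n31726 = n29110 := d4_2 (iv F62553) D31726 (iv D29110)
def n31727 : Q := act 1 n29108
theorem D31727 : act 1 n29108 = n31727 := rfl
theorem F71012 : act 3 n31727 = n31572 := d7_2 (iv F62560) D31727 F70460
theorem F71013 : act 4 n31727 = n29109 := d8_2 (iv F62561) D31727 (iv D29109)
theorem F71014 : act 0 n31268 = n31727 := d3_3 F71013 F63961 (iv F69582)
theorem F71015 : act 6 n31275 = n31727 := d19_0 F71013 (iv F63962) (iv F69598)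
def n31728 : Q := act 2 n29109
theorem D31728 : act 2 n29109 = n31728 := rfl
theorem F71016 : act 0 n31728 = n31270 := d1_1 D31728 (iv D31270) (iv F63961)
theorem F71017 : act 6 n31728 = n31279 := d14_2 F63962 D31728 (iv D31279)
def n31729 : Q := act 5 n29111
theorem D31729 : act 5 n29111 = n31729 := rfl
theorem F71018 : act 0 n31729 = n31273 := d4_1 D31729 (iv D31273) F63959
theorem F71019 : act 1 n31729 = n30577 := d9_1 D31729 (iv F70645) F70643 F69386 (iv F62564)
theorem F71020 : act 3 n31729 = n31280 := d16_1 D31729 (iv D31280) (iv F63963)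
theorem F71021 : act 6 n31729 = n31726 := d20_2 D29111 D31729 F71011 F63958 D31273 F69595 F62553
def n31730 : Q := act 5 n29112
theorem D31730 : act 5 n29112 = n31730 := rfl
theorem F71022 : act 3 n31730 = n30789 := d16_1 D31730 F67793 (iv F62566)
theorem F71023 : act 4 n31730 = n29113 := d18_1 D31730 (iv D29113) D29112
def n31731 : Q := act 6 n29112
theorem D31731 : act 6 n29112 = n31731 := rfl
theorem F71024 : act 1 n31731 = n29811 := d10_1 D31731 (iv F70232) F70230 F62532 (iv F62565)
theorem F71025 : act 3 n31731 = n29582 := d17_1 D31731 F63720 (iv F62566)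
theorem F71026 : act 4 n31731 = n29114 := d19_1 D31731 (iv D29114) D29112
def n31732 : Q := act 1 n29113
theorem D31732 : act 1 n29113 = n31732 := rfl
theorem F71027 : act 2 n31732 = n30377 := d6_2 F70908 D31732 F66408 D30380 (iv F70907)
theorem F71028 : act 3 n31732 = n29243 := d7_2 F62763 D31732 (iv F62858)
theorem F71029 : act 5 n31732 = n29116 := d9_2 D29113 D31732 (iv D29116) (iv D25443) D25441
theorem F71030 : act 6 n31732 = n29241 := d10_2 (iv F68132) D31732 F62848 F58100 D30895
theorem F71031 : act 0 n31732 = n29116 := d23_3 D31698 F70908 D31732 (iv F71029) F71027 F66408 F55796 (iv F46247) D27394 (iv F64978) F64977 (iv F60298) (iv F60299) F54186 (iv F54200) (iv D26301) D26299 D30023 (iv F65238)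
def n31733 : Q := act 5 n29114
theorem D31733 : act 5 n29114 = n31733 := rfl
theorem F71032 : act 0 n31733 = n30895 := d4_1 D31733 F68131 F67934
theorem F71033 : act 6 n31733 = n30834 := d20_2 D29114 D31733 (iv D30834) D30835 (iv F68131) (iv F68132) (iv D29113)
def n31734 : Q := act 1 n29115
theorem D31734 : act 1 n29115 = n31734 := rfl
theorem F71034 : act 4 n31734 = n29116 := d8_2 (iv F62568) D31734 (iv D29116)
def n31735 : Q := act 6 n29115
theorem D31735 : act 6 n29115 = n31735 := rfl
theorem F71035 : act 0 n31735 = n31716 := d5_1 D31735 F70980 F62791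
theorem F71036 : act 2 n31735 = n29119 := d14_1 D31735 (iv D29119) (iv F62567)
theorem F71037 : act 4 n31735 = n29117 := d19_1 D31735 (iv D29117) (iv F62568)
theorem F71038 : act 5 n31735 = n29198 := d20_1 D31735 F62731 D29220 (iv F70980) (iv D31716) F62532 D29115
def n31736 : Q := act 1 n29117
theorem D31736 : act 1 n29117 = n31736 := rfl
theorem F71039 : act 3 n31736 = n29201 := d7_2 (iv F62571) D31736 (iv D29201)
theorem F71040 : act 5 n31736 = n29967 := d9_2 (iv F62572) D31736 (iv D29967) (iv F62726) F62725
def n31737 : Q := act 0 n29118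
theorem D31737 : act 0 n29118 = n31737 := rfl
theorem F71041 : act 4 n31737 = n29120 := d3_2 (iv F62573) D31737 (iv D29120)
theorem F71042 : act 5 n31737 = n29855 := d4_2 F64689 D31737 (iv F64686)
theorem F71043 : act 2 n31737 = n29849 := d21_0 (iv D29849) (iv D26088) F41938 D21656 D26092 D29851 (iv F64648) D31737
theorem F71044 : act 6 n31661 = n31737 := d22_3 (iv F64689) F64691 D31661 (iv D31737)
def n31738 : Q := act 2 n29118
theorem D31738 : act 2 n29118 = n31738 := rfl
theorem F71045 : act 0 n31738 = n29849 := d1_1 D31738 (iv F71043) (iv D31737)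
theorem F71046 : act 4 n31738 = n29121 := d12_2 (iv F62573) D31738 (iv D29121)
theorem F71047 : act 5 n31738 = n29854 := d13_2 F64689 D31738 (iv F64688)
theorem F71048 : act 3 n31738 = n29848 := d21_3 D29851 (iv F64648) D31738 (iv D29848) F53658 D26091 D29850 F64641
theorem F71049 : act 6 n30878 = n31738 := d17_0 F71048 F64639 (iv F68086)
def n31739 : Q := act 6 n29118
theorem D31739 : act 6 n29118 = n31739 := rfl
theorem F71050 : act 0 n31739 = n31661 := d5_1 D31739 F71044 (iv D31737)
theorem F71051 : act 2 n31739 = n30878 := d14_1 D31739 F71049 (iv D31738)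
theorem F71052 : act 3 n31739 = n31684 := d17_1 D31739 F70853 (iv F64648)
theorem F71053 : act 4 n31739 = n29122 := d19_1 D31739 (iv D29122) (iv F62573)
theorem F71054 : act 5 n31739 = n31660 := d20_1 D31739 F70757 (iv F71042) (iv F71044) (iv D31661) (iv F64691) F64689
def n31740 : Q := act 1 n29119
theorem D31740 : act 1 n29119 = n31740 := rfl
theorem F71055 : act 4 n31740 = n29123 := d8_2 (iv F62575) D31740 (iv D29123)
def n31741 : Q := act 1 n29120
theorem D31741 : act 1 n29120 = n31741 := rfl
theorem F71056 : act 0 n31741 = n31267 := d0_1 D31741 (iv D31267) F60560 D28435 (iv F63961) (iv D29109) F52221 D25445 D29120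
theorem F71057 : act 3 n31741 = n29124 := d7_2 (iv F62577) D31741 (iv D29124)
theorem F71058 : act 6 n31741 = n31464 := d10_2 F62578 D31741 (iv F70145) F69429 F69425
def n31742 : Q := act 6 n29121
theorem D31742 : act 6 n29121 = n31742 := rfl
theorem F71059 : act 0 n31742 = n31663 := d5_1 D31742 F70766 F67882
theorem F71060 : act 1 n31742 = n30620 := d10_1 D31742 F67191 F62833 D29239 (iv F62841)
theorem F71061 : act 2 n31742 = n29122 := d14_1 D31742 (iv D29122) D29121
theorem F71062 : act 3 n31742 = n30619 := d17_1 D31742 F67187 F62843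
theorem F71063 : act 4 n31742 = n30878 := d19_1 D31742 F71049 F71046
theorem F71064 : act 5 n31742 = n30816 := d20_1 D31742 (iv D30816) D30815 (iv F70766) (iv D31663) (iv F67611) F67610
def n31743 : Q := act 1 n29122
theorem D31743 : act 1 n29122 = n31743 := rfl
theorem F71065 : act 0 n31743 = n31203 := d0_1 D31743 F69329 F60345 F49685 (iv F49737) (iv F60401) (iv F69424) F69425 (iv F62579)
theorem F71066 : act 3 n31743 = n29125 := d7_2 (iv F62580) D31743 (iv D29125)
theorem F71067 : act 6 n31743 = n29123 := d10_2 D29122 D31743 (iv D29123) (iv D25446) D25445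
def n31744 : Q := act 0 n29123
theorem D31744 : act 0 n29123 = n31744 := rfl
theorem F71068 : act 3 n31744 = n29126 := d2_2 (iv F62582) D31744 (iv D29126)
theorem F71069 : act 6 n31744 = n31203 := d5_2 F71067 D31744 (iv F71065)
theorem F71070 : act 1 n31152 = n31744 := d10_5 F71069 F69329 F60346 F60231 D31152
def n31745 : Q := act 2 n29123
theorem D31745 : act 2 n29123 = n31745 := rfl
def n31746 : Q := act 5 n29123
theorem D31746 : act 5 n29123 = n31746 := rfl
theorem F71071 : act 1 n31746 = n31038 := d9_1 D31746 F68647 F62524 (iv F52230) D29123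
theorem F71072 : act 3 n31746 = n29128 := d16_1 D31746 (iv D29128) (iv F62582)
def n31747 : Q := act 2 n29124
theorem D31747 : act 2 n29124 = n31747 := rfl
theorem F71073 : act 1 n31747 = n31676 := d6_1 D31747 (iv D31676) (iv D29036) (iv F52231) D29124
theorem F71074 : act 4 n31747 = n31557 := d12_2 F69461 D31747 F70420
theorem F71075 : act 5 n31555 = n31747 := d23_0 (iv D31747) (iv D29124) (iv D25447) (iv F52020) (iv F52031) (iv D25356) (iv F52024) (iv D25352) (iv D21142) F35340 (iv D15988) D15990 (iv F40849) D25356 D29015 F62334 (iv F52231) D29124 (iv F70409)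
def n31748 : Q := act 5 n29124
theorem D31748 : act 5 n29124 = n31748 := rfl
theorem F71076 : act 0 n31748 = n31747 := d4_1 D31748 (iv F71075) F70409
theorem F71077 : act 1 n31748 = n30667 := d9_1 D31748 (iv F67354) (iv F67355) F62324 D29124
theorem F71078 : act 2 n31748 = n31555 := d13_1 D31748 F71075 (iv D31747)
theorem F71079 : act 4 n31748 = n31556 := d18_1 D31748 (iv F70416) F69461
def n31749 : Q := act 6 n29124
theorem D31749 : act 6 n29124 = n31749 := rfl
theorem F71080 : act 0 n31749 = n31455 := d5_1 D31749 (iv F70412) F70409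
theorem F71081 : act 1 n31749 = n31229 := d10_1 D31749 (iv D31229) (iv F60400) F52232 D29124
theorem F71082 : act 3 n31749 = n31464 := d17_1 D31749 (iv F71058) F71057
theorem F71083 : act 4 n31749 = n31456 := d19_1 D31749 F70125 F69461
def n31750 : Q := act 5 n29125
theorem D31750 : act 5 n29125 = n31750 := rfl
theorem F71084 : act 0 n31750 = n31204 := d4_1 D31750 (iv D31204) (iv F62583)
theorem F71085 : act 1 n31750 = n31666 := d9_1 D31750 (iv D31666) (iv D29025) F52235 D29125
theorem F71086 : act 4 n31750 = n30386 := d18_1 D31750 F66432 (iv F62584)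
def n31751 : Q := act 2 n29126
theorem D31751 : act 2 n29126 = n31751 := rfl
theorem F71087 : act 0 n31751 = n29127 := d1_1 D31751 (iv D29127) D29126
theorem F71088 : act 1 n31751 = n31153 := d6_1 D31751 (iv D31153) (iv D28220) (iv F59911) F62588
theorem F71089 : act 4 n31751 = n31693 := d12_2 (iv F62586) D31751 F70890
theorem F71090 : act 6 n31751 = n31201 := d14_2 (iv F62587) D31751 F69319
theorem F71091 : act 3 n30610 = n31751 := d17_3 F71090 (iv F69321) (iv F67160)
def n31752 : Q := act 5 n29126
theorem D31752 : act 5 n29126 = n31752 := rfl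
theorem F71092 : act 0 n31752 = n29128 := d4_1 D31752 (iv D29128) D29126
theorem F71093 : act 4 n31752 = n31696 := d18_1 D31752 (iv D31696) (iv F62586)
theorem F71094 : act 6 n31752 = n31750 := d20_2 (iv F62587) D31752 (iv D31750) F62585 D29128 (iv F69332) (iv D31204)
def n31753 : Q := act 5 n29127
theorem D31753 : act 5 n29127 = n31753 := rfl
theorem F71095 : act 2 n31753 = n29128 := d13_1 D31753 (iv D29128) D29127
theorem F71096 : act 3 n31753 = n30075 := d16_1 D31753 F65380 F62590
theorem F71097 : act 4 n31753 = n30079 := d18_1 D31753 (iv F65406) F63218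
theorem F71098 : act 6 n31753 = n30073 := d22_1 D31753 F69322 (iv F71090) F71087
def n31754 : Q := act 0 n29132
theorem D31754 : act 0 n29132 = n31754 := rfl
theorem F71099 : act 3 n31754 = n31008 := d2_2 (iv F62597) D31754 (iv D31008)
def n31755 : Q := act 6 n29132
theorem D31755 : act 6 n29132 = n31755 := rfl
theorem F71100 : act 1 n31755 = n30493 := d10_1 D31755 (iv D30493) F56416 (iv F52247) D29132
theorem F71101 : act 2 n31755 = n31558 := d14_1 D31755 F70424 F69382
theorem F71102 : act 3 n31755 = n31010 := d17_1 D31755 (iv D31010) (iv F62597)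
theorem F71103 : act 4 n31755 = n30653 := d19_1 D31755 (iv F69487) F69486
theorem F71104 : act 5 n31755 = n31197 := d24_1 D31755 (iv D31197) (iv F60508) (iv D28414) (iv D24547) (iv D20194) (iv F38249) (iv F49770) F49774 (iv D20351) (iv F34692) D21227 D25453 D29132
def n31756 : Q := act 3 n29133
theorem D31756 : act 3 n29133 = n31756 := rfl
theorem F71105 : act 1 n31756 = n31271 := d7_1 D31756 (iv F71009) F71007
theorem F71106 : act 5 n31756 = n29445 := d16_2 (iv F62599) D31756 (iv D29445)
def n31757 : Q := act 6 n29134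
theorem D31757 : act 6 n29134 = n31757 := rfl
theorem F71107 : act 1 n31757 = n31357 := d10_1 D31757 (iv D31357) (iv D28557) (iv F52255) D29134
theorem F71108 : act 2 n31757 = n31729 := d14_1 D31757 F71021 F71008
theorem F71109 : act 3 n31757 = n31639 := d17_1 D31757 F70685 F70451
theorem F71110 : act 4 n31757 = n31302 := d19_1 D31757 (iv D31302) (iv F62600)
theorem F71111 : act 5 n31757 = n31254 := d22_2 F64750 D31757 F69536 F64751
def n31758 : Q := act 1 n29135
theorem D31758 : act 1 n29135 = n31758 := rfl
theorem F71112 : act 0 n31758 = n31758 := d0_1 D31758 (iv D31758) F62601 (iv F57287) (iv F67064) F67065 F67064 F57287 (iv F62601)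
theorem F71113 : act 2 n31758 = n29151 := d6_2 (iv F62602) D31758 (iv D29151) F52272 (iv F52260)
theorem F71114 : act 3 n31758 = n31061 := d7_2 F68722 D31758 F68749
theorem F71115 : act 4 n31758 = n31628 := d8_2 (iv F62603) D31758 (iv D31628)
theorem F71116 : act 6 n31758 = n29151 := d10_2 (iv F62604) D31758 (iv D29151) F52274 (iv F52648)
def n31759 : Q := act 5 n29141
theorem D31759 : act 5 n29141 = n31759 := rfl
theorem F71117 : act 0 n31759 = n30009 := d4_1 D31759 (iv F70354) F70352
theorem F71118 : act 1 n31759 = n29164 := d9_1 D31759 (iv D29164) (iv D25475) (iv F52266) D29141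
theorem F71119 : act 2 n31759 = n30008 := d13_1 D31759 F65188 (iv F62615)
theorem F71120 : act 4 n31759 = n30011 := d18_1 D31759 (iv F70382) F70381
def n31760 : Q := act 6 n29141
theorem D31760 : act 6 n29141 = n31760 := rfl
theorem F71121 : act 2 n31760 = n30745 := d14_1 D31760 (iv D30745) (iv F62615)
theorem F71122 : act 5 n31760 = n29758 := d22_2 (iv D31759) D31760 F65192 (iv F71117)
def n31761 : Q := act 6 n29142
theorem D31761 : act 6 n29142 = n31761 := rfl
theorem F71123 : act 2 n31761 = n29144 := d14_1 D31761 (iv D29144) (iv F62616)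
theorem F71124 : act 4 n31761 = n29143 := d19_1 D31761 (iv D29143) D29142
theorem F71125 : act 5 n31761 = n29275 := d22_2 (iv F62617) D31761 (iv D29275) F52524
def n31762 : Q := act 1 n29143
theorem D31762 : act 1 n29143 = n31762 := rfl
theorem F71126 : act 3 n31762 = n29283 := d7_2 (iv F62619) D31762 (iv D29283)
def n31763 : Q := act 0 n29145
theorem D31763 : act 0 n29145 = n31763 := rfl
theorem F71127 : act 3 n31763 = n29146 := d2_2 (iv F62622) D31763 (iv D29146)
theorem F71128 : act 5 n31763 = n31316 := d4_2 F69682 D31763 F69705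
theorem F71129 : act 6 n31763 = n31386 := d5_2 F70008 D31763 (iv F70010)
theorem F71130 : act 2 n31033 = n31763 := d14_3 F71129 (iv D31386) (iv F68632)
def n31764 : Q := act 2 n29145
theorem D31764 : act 2 n29145 = n31764 := rfl
theorem F71131 : act 0 n31764 = n31033 := d1_1 D31764 F71130 (iv D31763)
theorem F71132 : act 6 n31764 = n31385 := d14_2 F70008 D31764 F70009
theorem F71133 : act 3 n31035 = n31764 := d17_3 F71132 F69907 (iv F68640)
def n31765 : Q := act 1 n29146
theorem D31765 : act 1 n29146 = n31765 := rfl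
def n31766 : Q := act 5 n29148
theorem D31766 : act 5 n29148 = n31766 := rfl
theorem F71134 : act 0 n31766 = n29149 := d4_1 D31766 (iv D29149) D29148
theorem F71135 : act 2 n31766 = n29152 := d13_1 D31766 (iv D29152) (iv F62623)
theorem F71136 : act 3 n31766 = n31054 := d16_1 D31766 (iv D31054) (iv F62624)
theorem F71137 : act 4 n31766 = n29518 := d18_1 D31766 F63555 (iv F62625)
theorem F71138 : act 6 n31766 = n29545 := d20_2 F62626 D31766 F63631 (iv D29150) D29149 (iv F63213) (iv D29372)
def n31767 : Q := act 1 n29149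
theorem D31767 : act 1 n29149 = n31767 := rfl
theorem F71139 : act 3 n31767 = n31056 := d7_2 (iv F62628) D31767 (iv D31056)
theorem F71140 : act 5 n31767 = n29151 := d9_2 D29149 D31767 (iv D29151) (iv D25467) D25466
theorem F71141 : act 0 n31767 = n31767 := d23_3 D25470 (iv F62627) D31767 F71140 (iv F71113) (iv D31758) F62601 (iv F60216) (iv D28297) (iv D24465) (iv F38107) (iv D20140) (iv F38105) D24489 D28327 F60429 F60427 (iv F60431) (iv D25468)
def n31768 : Q := act 5 n29153
theorem D31768 : act 5 n29153 = n31768 := rfl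
theorem F71142 : act 4 n31768 = n29154 := d18_1 D31768 (iv D29154) D29153
def n31769 : Q := act 6 n29154
theorem D31769 : act 6 n29154 = n31769 := rfl
theorem F71143 : act 1 n31769 = n31199 := d10_1 D31769 F69313 (iv F68797) (iv F70109) F70111
theorem F71144 : act 2 n31769 = n30241 := d14_1 D31769 F65899 F65874
theorem F71145 : act 3 n31769 = n29156 := d17_1 D31769 (iv D29156) (iv F62636)
theorem F71146 : act 5 n31769 = n30237 := d22_2 D29154 D31769 (iv D30237) F54561
def n31770 : Q := act 5 n29155
theorem D31770 : act 5 n29155 = n31770 := rfl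
theorem F71147 : act 0 n31770 = n31769 := d4_1 D31770 F71146 F65886
theorem F71148 : act 1 n31770 = n31417 := d9_1 D31770 (iv D31417) F61149 D31311 (iv F69690)
theorem F71149 : act 2 n31770 = n30240 := d13_1 D31770 F65896 F65877
theorem F71150 : act 3 n31770 = n29158 := d16_1 D31770 (iv D29158) (iv F62637)
theorem F71151 : act 6 n31770 = n30236 := d20_2 D29155 D31770 (iv D30236) D30237 (iv F71146) (iv D31769) (iv D29154)
def n31771 : Q := act 1 n29159
theorem D31771 : act 1 n29159 = n31771 := rfl
theorem F71152 : act 3 n31771 = n31552 := d7_2 (iv F62645) D31771 F70398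
theorem F71153 : act 4 n31771 = n29160 := d8_2 (iv F62646) D31771 (iv D29160)
theorem F71154 : act 0 n31297 = n31771 := d3_3 F71153 F62655 (iv F69660)
theorem F71155 : act 5 n31304 = n31771 := d18_0 F71153 (iv F62656) (iv F69676)
def n31772 : Q := act 2 n29160
theorem D31772 : act 2 n29160 = n31772 := rfl
theorem F71156 : act 0 n31772 = n31299 := d1_1 D31772 (iv D31299) (iv F62655)
theorem F71157 : act 5 n31772 = n31308 := d13_2 F62656 D31772 (iv D31308)
def n31773 : Q := act 6 n29162
theorem D31773 : act 6 n29162 = n31773 := rfl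
theorem F71158 : act 0 n31773 = n31302 := d5_1 D31773 (iv D31302) F62650
theorem F71159 : act 1 n31773 = n30584 := d10_1 D31773 (iv F70670) F70668 (iv F69481) (iv F62649)
theorem F71160 : act 2 n31773 = n31712 := d14_1 D31773 F70966 F69435
theorem F71161 : act 3 n31773 = n31309 := d17_1 D31773 (iv D31309) (iv F62651)
theorem F71162 : act 5 n31773 = n31710 := d20_1 D31773 F70959 F62652 D31302 F69673 F62641 D29162
def n31774 : Q := act 5 n29163
theorem D31774 : act 5 n29163 = n31774 := rfl
theorem F71163 : act 1 n31774 = n30011 := d9_1 D31774 (iv F70382) F70380 F62617 (iv F62657)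
theorem F71164 : act 3 n31774 = n29828 := d16_1 D31774 F64554 (iv F62658)
theorem F71165 : act 4 n31774 = n29164 := d18_1 D31774 (iv D29164) D29163
def n31775 : Q := act 6 n29163
theorem D31775 : act 6 n29163 = n31775 := rfl
theorem F71166 : act 3 n31775 = n30847 := d17_1 D31775 F67976 (iv F62658)
theorem F71167 : act 4 n31775 = n29165 := d19_1 D31775 (iv D29165) D29163
def n31776 : Q := act 6 n29164
theorem D31776 : act 6 n29164 = n31776 := rfl
theorem F71168 : act 0 n31776 = n30838 := d5_1 D31776 F68122 F68121
theorem F71169 : act 5 n31776 = n30893 := d20_1 D31776 (iv D30893) D30892 (iv F68122) (iv F68124) (iv D29165) D29164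
def n31777 : Q := act 1 n29165
theorem D31777 : act 1 n29165 = n31777 := rfl
theorem F71170 : act 2 n31777 = n30397 := d6_2 F70942 D31777 F66458 D30400 (iv F70941)
theorem F71171 : act 3 n31777 = n29188 := d7_2 F62917 D31777 (iv F62925)
theorem F71172 : act 5 n31777 = n29186 := d9_2 (iv F68124) D31777 F62701 F57918 D30838
theorem F71173 : act 6 n31777 = n29167 := d10_2 D29165 D31777 (iv D29167) (iv D25477) D25475
theorem F71174 : act 0 n29167 = n31777 := d22_4 F71172 F62703 (iv F71172) F71173
def n31778 : Q := act 1 n29166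
theorem D31778 : act 1 n29166 = n31778 := rfl
theorem F71175 : act 4 n31778 = n29167 := d8_2 (iv F62660) D31778 (iv D29167)
def n31779 : Q := act 5 n29166
theorem D31779 : act 5 n29166 = n31779 := rfl
theorem F71176 : act 0 n31779 = n31761 := d4_1 D31779 F71125 F62951
theorem F71177 : act 2 n31779 = n29170 := d13_1 D31779 (iv D29170) (iv F62659)
theorem F71178 : act 4 n31779 = n29168 := d18_1 D31779 (iv D29168) (iv F62660)
theorem F71179 : act 6 n31779 = n29253 := d20_2 D29166 D31779 F62884 D29275 (iv F71125) (iv D31761) F62617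
def n31780 : Q := act 1 n29168
theorem D31780 : act 1 n29168 = n31780 := rfl
theorem F71180 : act 3 n31780 = n29256 := d7_2 (iv F62663) D31780 (iv D29256)
theorem F71181 : act 6 n31780 = n29757 := d10_2 (iv F62664) D31780 (iv D29757) (iv F62880) F62878
theorem F71182 : act 0 n31736 = n31780 := d2_3 F71180 F62970 (iv F71039)
def n31781 : Q := act 0 n29169
theorem D31781 : act 0 n29169 = n31781 := rfl
theorem F71183 : act 4 n31781 = n29171 := d3_2 (iv F62665) D31781 (iv D29171)
theorem F71184 : act 6 n31781 = n29618 := d5_2 F63882 D31781 (iv F63879)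
theorem F71185 : act 2 n31781 = n29612 := d21_0 (iv D29612) (iv D25848) F41598 D21497 D25852 D29615 (iv F63840) D31781
theorem F71186 : act 5 n31781 = n31672 := d22_0 (iv D31672) (iv F63884) F63882 D31781
def n31782 : Q := act 2 n29169
theorem D31782 : act 2 n29169 = n31782 := rfl
theorem F71187 : act 0 n31782 = n29612 := d1_1 D31782 (iv F71185) (iv D31781)
theorem F71188 : act 4 n31782 = n29172 := d12_2 (iv F62665) D31782 (iv D29172)
theorem F71189 : act 6 n31782 = n29617 := d14_2 F63882 D31782 (iv F63881)
theorem F71190 : act 3 n31782 = n29611 := d21_3 D29615 (iv F63840) D31782 (iv D29611) F53055 D25851 D29614 F63833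
theorem F71191 : act 5 n30821 = n31782 := d16_0 F71190 F63827 (iv F67902)
def n31783 : Q := act 5 n29169
theorem D31783 : act 5 n29169 = n31783 := rfl
theorem F71192 : act 0 n31783 = n31672 := d4_1 D31783 (iv F71186) (iv D31781)
theorem F71193 : act 2 n31783 = n30821 := d13_1 D31783 F71191 (iv D31782)
theorem F71194 : act 3 n31783 = n31679 := d16_1 D31783 F70828 (iv F63840)
theorem F71195 : act 4 n31783 = n29173 := d18_1 D31783 (iv D29173) (iv F62665)
theorem F71196 : act 6 n31783 = n31671 := d20_2 F63882 D31783 F70798 (iv F71184) F71186 (iv D31672) (iv F63884)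
def n31784 : Q := act 1 n29170
theorem D31784 : act 1 n29170 = n31784 := rfl
theorem F71197 : act 4 n31784 = n29174 := d8_2 (iv F62667) D31784 (iv D29174)
def n31785 : Q := act 1 n29171
theorem D31785 : act 1 n29171 = n31785 := rfl
theorem F71198 : act 0 n31785 = n31296 := d0_1 D31785 (iv D31296) F60722 D28489 (iv F62655) (iv D29160) F52277 D25479 D29171
theorem F71199 : act 3 n31785 = n29175 := d7_2 (iv F62669) D31785 (iv D29175)
theorem F71200 : act 5 n31785 = n31524 := d9_2 (iv F62670) D31785 (iv F70309) F69527 F69523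
def n31786 : Q := act 5 n29172
theorem D31786 : act 5 n29172 = n31786 := rfl
theorem F71201 : act 0 n31786 = n31674 := d4_1 D31786 F70807 F68074
theorem F71202 : act 1 n31786 = n30631 := d9_1 D31786 F67227 F62687 D29184 (iv F62930)
theorem F71203 : act 2 n31786 = n29173 := d13_1 D31786 (iv D29173) D29172
theorem F71204 : act 3 n31786 = n30630 := d16_1 D31786 F67223 F62932
theorem F71205 : act 4 n31786 = n30821 := d18_1 D31786 F71191 F71188
theorem F71206 : act 6 n31786 = n30873 := d20_2 F67754 D31786 (iv D30873) D30874 (iv F70807) (iv D31674) (iv F67753)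
def n31787 : Q := act 1 n29173
theorem D31787 : act 1 n29173 = n31787 := rfl
theorem F71207 : act 0 n31787 = n31210 := d0_1 D31787 F69356 F60357 F49697 (iv F49789) (iv F60480) (iv F69522) F69523 (iv F62671)
theorem F71208 : act 3 n31787 = n29176 := d7_2 (iv F62672) D31787 (iv D29176)
theorem F71209 : act 5 n31787 = n29174 := d9_2 D29173 D31787 (iv D29174) (iv D25480) D25479
def n31788 : Q := act 0 n29174
theorem D31788 : act 0 n29174 = n31788 := rfl
theorem F71210 : act 3 n31788 = n29177 := d2_2 (iv F62674) D31788 (iv D29177)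
theorem F71211 : act 5 n31788 = n31210 := d4_2 F71209 D31788 (iv F71207)
theorem F71212 : act 1 n31162 = n31788 := d9_5 F71211 F69356 F60358 F60240 D31162
def n31789 : Q := act 2 n29174
theorem D31789 : act 2 n29174 = n31789 := rfl
def n31790 : Q := act 6 n29174
theorem D31790 : act 6 n29174 = n31790 := rfl
theorem F71213 : act 1 n31790 = n31075 := d10_1 D31790 F68796 F62609 (iv F52286) D29174
theorem F71214 : act 3 n31790 = n29179 := d17_1 D31790 (iv D29179) (iv F62674)
def n31791 : Q := act 2 n29175
theorem D31791 : act 2 n29175 = n31791 := rfl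
theorem F71215 : act 1 n31791 = n31665 := d6_1 D31791 (iv D31665) (iv D29025) (iv F52287) D29175
theorem F71216 : act 4 n31791 = n31577 := d12_2 F69559 D31791 F70482
theorem F71217 : act 6 n31575 = n31791 := d19_0 F71216 (iv D31577) (iv F70473)
def n31792 : Q := act 5 n29175
theorem D31792 : act 5 n29175 = n31792 := rfl
theorem F71218 : act 0 n31792 = n31509 := d4_1 D31792 (iv F70474) F70471
theorem F71219 : act 1 n31792 = n31253 := d9_1 D31792 (iv D31253) (iv F60478) (iv F52288) D29175
theorem F71220 : act 3 n31792 = n31524 := d16_1 D31792 (iv F71200) F71199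
theorem F71221 : act 4 n31792 = n31510 := d18_1 D31792 F70274 F69559
def n31793 : Q := act 6 n29175
theorem D31793 : act 6 n29175 = n31793 := rfl
theorem F71222 : act 0 n31793 = n31791 := d5_1 D31793 (iv F71217) F70471
theorem F71223 : act 1 n31793 = n30647 := d10_1 D31793 (iv F67295) F67296 F62335 D29175
theorem F71224 : act 2 n31793 = n31575 := d14_1 D31793 F71217 (iv D31791)
theorem F71225 : act 4 n31793 = n31576 := d19_1 D31793 (iv F70480) F69559
def n31794 : Q := act 6 n29176
theorem D31794 : act 6 n29176 = n31794 := rfl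
theorem F71226 : act 0 n31794 = n31211 := d5_1 D31794 (iv D31211) (iv F62675)
theorem F71227 : act 1 n31794 = n31677 := d10_1 D31794 (iv D31677) (iv D29036) (iv F52291) D29176
theorem F71228 : act 4 n31794 = n30406 := d19_1 D31794 F66482 (iv F62676)
def n31795 : Q := act 2 n29177
theorem D31795 : act 2 n29177 = n31795 := rfl
theorem F71229 : act 0 n31795 = n29178 := d1_1 D31795 (iv D29178) D29177
theorem F71230 : act 1 n31795 = n31163 := d6_1 D31795 (iv D31163) (iv D28244) (iv F60003) F62680
theorem F71231 : act 4 n31795 = n31701 := d12_2 (iv F62678) D31795 F70924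
theorem F71232 : act 5 n31795 = n31208 := d13_2 (iv F62679) D31795 F69346
theorem F71233 : act 3 n30598 = n31795 := d16_3 F71232 (iv F69348) (iv F67132)
def n31796 : Q := act 6 n29177
theorem D31796 : act 6 n29177 = n31796 := rfl
theorem F71234 : act 0 n31796 = n29179 := d5_1 D31796 (iv D29179) D29177
theorem F71235 : act 4 n31796 = n31704 := d19_1 D31796 (iv D31704) (iv F62678)
theorem F71236 : act 5 n31796 = n31794 := d20_1 D31796 (iv D31794) F62677 D29179 (iv F69359) (iv D31211) (iv F62679)
def n31797 : Q := act 6 n29178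
theorem D31797 : act 6 n29178 = n31797 := rfl
theorem F71237 : act 2 n31797 = n29179 := d14_1 D31797 (iv D29179) D29178
theorem F71238 : act 3 n31797 = n30168 := d17_1 D31797 F65660 F62682
theorem F71239 : act 4 n31797 = n30173 := d19_1 D31797 (iv F65685) F63548
theorem F71240 : act 5 n31797 = n30167 := d22_2 F70665 D31797 F69349 (iv F70663)
def n31798 : Q := act 2 n29181
theorem D31798 : act 2 n29181 = n31798 := rfl
theorem F71241 : act 4 n31798 = n30827 := d12_2 (iv F62688) D31798 F67911
theorem F71242 : act 6 n31798 = n30501 := d14_2 (iv F62689) D31798 (iv D30501)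
def n31799 : Q := act 1 n29182
theorem D31799 : act 1 n29182 = n31799 := rfl
theorem F71243 : act 0 n31799 = n29967 := d0_1 D31799 (iv D29967) (iv F58231) F58232 (iv F61644) F62756 F57919 (iv F62701) F62700
theorem F71244 : act 3 n31799 = n29281 := d7_2 (iv F62691) D31799 F62965
theorem F71245 : act 5 n31799 = n31780 := d9_2 F62931 D31799 (iv D31780) (iv D29168) D29167
def n31800 : Q := act 4 n29182
theorem D31800 : act 4 n29182 = n31800 := rfl
theorem F71246 : act 0 n31800 = n29678 := d3_1 D31800 F64070 F62700
theorem F71247 : act 2 n31800 = n29183 := d12_1 D31800 (iv D29183) D29182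
theorem F71248 : act 5 n31800 = n31778 := d18_2 F62931 D31800 F71175
theorem F71249 : act 6 n31800 = n31800 := d19_2 F62690 D31800 (iv D31800)
def n31801 : Q := act 5 n29183
theorem D31801 : act 5 n29183 = n31801 := rfl
theorem F71250 : act 1 n31801 = n31782 := d9_1 D31801 (iv F71191) (iv D30821) (iv F57899) (iv F62692)
theorem F71251 : act 2 n31801 = n31778 := d13_1 D31801 (iv F71248) F71247
theorem F71252 : act 3 n31801 = n30832 := d16_1 D31801 (iv D30832) (iv F62693)
theorem F71253 : act 4 n31801 = n29184 := d18_1 D31801 (iv D29184) D29183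
def n31802 : Q := act 5 n29187
theorem D31802 : act 5 n29187 = n31802 := rfl
theorem F71254 : act 1 n31802 = n30854 := d9_1 D31802 F69013 (iv D31125) (iv F59627) (iv F62704)
theorem F71255 : act 2 n31802 = n29189 := d13_1 D31802 (iv D29189) (iv F62705)
theorem F71256 : act 3 n31802 = n30852 := d16_1 D31802 (iv F68948) F68946
theorem F71257 : act 4 n31802 = n29188 := d18_1 D31802 (iv D29188) D29187
def n31803 : Q := act 1 n29189
theorem D31803 : act 1 n29189 = n31803 := rfl
theorem F71258 : act 3 n31803 = n30248 := d7_2 (iv F62708) D31803 (iv D30248)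
theorem F71259 : act 4 n31803 = n29190 := d8_2 (iv F62709) D31803 (iv D29190)
theorem F71260 : act 5 n31803 = n29202 := d9_2 D29189 D31803 (iv D29202) (iv D25506) (iv F52314)
theorem F71261 : act 0 n30736 = n31803 := d3_3 F71259 (iv F62717) (iv F67595)
theorem F71262 : act 6 n30391 = n31803 := d19_0 F71259 (iv F62712) (iv F66443)
def n31804 : Q := act 2 n29190
theorem D31804 : act 2 n29190 = n31804 := rfl
theorem F71263 : act 0 n31804 = n30931 := d1_1 D31804 F68262 F62717
theorem F71264 : act 5 n31804 = n29204 := d13_2 (iv F62711) D31804 (iv D29204)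
theorem F71265 : act 6 n31804 = n30393 := d14_2 F62712 D31804 (iv D30393)
def n31805 : Q := act 1 n29191
theorem D31805 : act 1 n29191 = n31805 := rfl
theorem F71266 : act 2 n31805 = n29195 := d6_2 D29191 D31805 (iv D29195) (iv D25500) (iv F52322)
theorem F71267 : act 5 n31805 = n29195 := d9_2 (iv F62810) D31805 (iv D29195) (iv F52402) D29228
theorem F71268 : act 6 n31805 = n30927 := d10_2 F68264 D31805 (iv D30927) (iv F58241) D30931
theorem F71269 : act 3 n31714 = n31805 := d17_3 F71268 F68245 (iv F70973)
def n31806 : Q := act 3 n29191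
theorem D31806 : act 3 n29191 = n31806 := rfl
theorem F71270 : act 0 n31806 = n31486 := d2_1 D31806 F70200 F66448
theorem F71271 : act 1 n31806 = n31714 := d7_1 D31806 F71269 (iv D31805)
theorem F71272 : act 5 n31806 = n31717 := d16_2 (iv F62810) D31806 F70981
theorem F71273 : act 2 n31806 = n30126 := d21_2 D29191 D31806 (iv D30126) F54382 F42412 (iv F44111) D26856 F55853
def n31807 : Q := act 4 n29191
theorem D31807 : act 4 n29191 = n31807 := rfl
theorem F71274 : act 2 n31807 = n29192 := d12_1 D31807 (iv D29192) D29191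
theorem F71275 : act 6 n31807 = n30242 := d19_2 F68264 D31807 (iv F68263)
def n31808 : Q := act 5 n29192
theorem D31808 : act 5 n29192 = n31808 := rfl
theorem F71276 : act 3 n31808 = n30249 := d16_1 D31808 (iv D30249) (iv F62714)
theorem F71277 : act 4 n31808 = n29193 := d18_1 D31808 (iv D29193) D29192
theorem F71278 : act 6 n31808 = n29202 := d22_1 D31808 (iv F71260) (iv F71262) F66442
def n31809 : Q := act 0 n29195
theorem D31809 : act 0 n29195 = n31809 := rfl
theorem F71279 : act 3 n31809 = n31483 := d2_2 (iv F62720) D31809 F70192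
def n31810 : Q := act 4 n29195
theorem D31810 : act 4 n29195 = n31810 := rfl
theorem F71280 : act 1 n31810 = n29196 := d8_1 D31810 (iv D29196) D29195
theorem F71281 : act 3 n31810 = n30548 := d15_1 D31810 F66978 (iv F70233) F70231 (iv F62720)
def n31811 : Q := act 6 n29195
theorem D31811 : act 6 n29195 = n31811 := rfl
theorem F71282 : act 1 n31811 = n29212 := d10_1 D31811 (iv D29212) (iv D25517) (iv F52330) D29195
theorem F71283 : act 2 n31811 = n30927 := d14_1 D31811 (iv F71268) F71266
theorem F71284 : act 3 n31811 = n31715 := d17_1 D31811 (iv D31715) (iv F62720)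
def n31812 : Q := act 4 n29197
theorem D31812 : act 4 n29197 = n31812 := rfl
theorem F71285 : act 1 n31812 = n29198 := d8_1 D31812 (iv D29198) (iv F62725)
theorem F71286 : act 2 n31812 = n29969 := d12_1 D31812 F65058 (iv F62728)
theorem F71287 : act 5 n31812 = n29964 := d18_2 (iv F62726) D31812 F65044
theorem F71288 : act 6 n31812 = n30929 := d19_2 (iv F62727) D31812 F68256
def n31813 : Q := act 1 n29200
theorem D31813 : act 1 n29200 = n31813 := rfl
theorem F71289 : act 4 n31813 = n29201 := d8_2 (iv F62736) D31813 (iv D29201)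
theorem F71290 : act 5 n31813 = n30234 := d9_2 D29200 D31813 (iv D30234) (iv F54569) F61412
def n31814 : Q := act 0 n29202
theorem D31814 : act 0 n29202 = n31814 := rfl
theorem F71291 : act 3 n31814 = n30250 := d2_2 (iv F62737) D31814 (iv D30250)
theorem F71292 : act 4 n31814 = n29203 := d3_2 (iv F62738) D31814 (iv D29203)
theorem F71293 : act 5 n31814 = n30736 := d4_2 F71260 D31814 F71261
theorem F71294 : act 1 n30717 = n31814 := d9_5 F71293 F67594 F57512 (iv F57466) (iv F67536)
def n31815 : Q := act 2 n29202
theorem D31815 : act 2 n29202 = n31815 := rfl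
theorem F71295 : act 4 n31815 = n29204 := d12_2 (iv F62738) D31815 (iv D29204)
def n31816 : Q := act 2 n29203
theorem D31816 : act 2 n29203 = n31816 := rfl
theorem F71296 : act 0 n31816 = n29204 := d1_1 D31816 (iv D29204) D29203
theorem F71297 : act 1 n31816 = n30924 := d6_1 D31816 F68231 (iv F68694) F68697 F65434
theorem F71298 : act 5 n31816 = n30931 := d13_2 (iv F62740) D31816 F68262
def n31817 : Q := act 3 n29204
theorem D31817 : act 3 n29204 = n31817 := rfl
theorem F71299 : act 6 n31817 = n31717 := d17_2 F62809 D31817 F70981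
def n31818 : Q := act 5 n29206
theorem D31818 : act 5 n29206 = n31818 := rfl
theorem F71300 : act 2 n31818 = n29211 := d13_1 D31818 (iv D29211) (iv F62746)
theorem F71301 : act 3 n31818 = n31539 := d16_1 D31818 (iv D31539) (iv F62747)
def n31819 : Q := act 1 n29209
theorem D31819 : act 1 n29209 = n31819 := rfl
theorem F71302 : act 3 n31819 = n30252 := d7_2 (iv F62758) D31819 (iv D30252)
theorem F71303 : act 4 n31819 = n29210 := d8_2 (iv F62759) D31819 (iv D29210)
theorem F71304 : act 5 n31819 = n29215 := d9_2 D29209 D31819 (iv D29215) (iv D25520) (iv F52359)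
def n31820 : Q := act 5 n29212
theorem D31820 : act 5 n29212 = n31820 := rfl
theorem F71305 : act 0 n31820 = n30934 := d4_1 D31820 F68272 F68175
theorem F71306 : act 3 n31820 = n31733 := d16_1 D31820 (iv D31733) (iv F62764)
theorem F71307 : act 6 n31820 = n30907 := d20_2 D29212 D31820 (iv D30907) D30908 (iv F68272) F68273 (iv D29211)
def n31821 : Q := act 1 n29213
theorem D31821 : act 1 n29213 = n31821 := rfl
theorem F71308 : act 3 n31821 = n30541 := d7_2 (iv F62767) D31821 (iv D30541)
theorem F71309 : act 4 n31821 = n29214 := d8_2 (iv F62768) D31821 (iv D29214)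
theorem F71310 : act 2 n29230 = n31821 := d12_3 F71309 F62781 (iv F62814)
theorem F71311 : act 6 n29229 = n31821 := d19_0 F71309 (iv F62782) (iv F62811)
def n31822 : Q := act 0 n29215
theorem D31822 : act 0 n29215 = n31822 := rfl
theorem F71312 : act 1 n31822 = n30371 := d0_2 D29215 D31822 F66392 F62866 F52462 (iv F52442) F52441 (iv D25535) (iv F52374)
theorem F71313 : act 3 n31822 = n30253 := d2_2 (iv F62771) D31822 (iv D30253)
theorem F71314 : act 4 n31822 = n29216 := d3_2 (iv F62772) D31822 (iv D29216)
theorem F71315 : act 2 n31822 = n31819 := d21_0 F71302 F65945 (iv F60091) (iv F69205) F69206 (iv D30254) (iv F62771) D31822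
def n31823 : Q := act 2 n29215
theorem D31823 : act 2 n29215 = n31823 := rfl
theorem F71316 : act 0 n31823 = n31819 := d1_1 D31823 (iv F71315) (iv D31822)
theorem F71317 : act 1 n31823 = n29230 := d6_1 D31823 F71310 (iv D31821) F62766 D29215
theorem F71318 : act 3 n31823 = n30257 := d11_2 (iv F62771) D31823 (iv F68329) (iv F68575) (iv F68579) (iv F70621) F70620 (iv F71313) F71315 F71302 F65945 (iv F60091) (iv F69205) F69206 (iv D30254)
theorem F71319 : act 4 n31823 = n29217 := d12_2 (iv F62772) D31823 (iv D29217)
theorem F71320 : act 5 n31823 = n31822 := d13_2 F71304 D31823 F71315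
theorem F71321 : act 6 n29231 = n31823 := d19_0 F71319 (iv F62780) (iv F62816)
def n31824 : Q := act 6 n29215
theorem D31824 : act 6 n29215 = n31824 := rfl
theorem F71322 : act 1 n31824 = n31808 := d10_1 D31824 F71278 (iv D29202) (iv F52377) D29215
theorem F71323 : act 2 n31824 = n29231 := d14_1 D31824 F71321 (iv D31823)
theorem F71324 : act 3 n31824 = n30255 := d17_1 D31824 (iv D30255) (iv F62771)
theorem F71325 : act 4 n31824 = n29218 := d19_1 D31824 (iv D29218) (iv F62772)
theorem F71326 : act 5 n31824 = n29231 := d22_2 F71304 D31824 F71321 F71316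
def n31825 : Q := act 6 n29216
theorem D31825 : act 6 n29216 = n31825 := rfl
theorem F71327 : act 0 n31825 = n29218 := d5_1 D31825 (iv D29218) D29216
theorem F71328 : act 2 n31825 = n29233 := d14_1 D31825 F62821 F62775
theorem F71329 : act 3 n31825 = n29219 := d17_1 D31825 (iv D29219) (iv F62774)
theorem F71330 : act 5 n31825 = n29233 := d20_1 D31825 F62821 F62762 D29218 F62786 F62780 F62777
def n31826 : Q := act 1 n29220
theorem D31826 : act 1 n29220 = n31826 := rfl
theorem F71331 : act 4 n31826 = n29221 := d8_2 (iv F62793) D31826 (iv D29221)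
def n31827 : Q := act 0 n29221
theorem D31827 : act 0 n29221 = n31827 := rfl
theorem F71332 : act 3 n31827 = n29225 := d2_2 (iv F62794) D31827 (iv D29225)
def n31828 : Q := act 2 n29221
theorem D31828 : act 2 n29221 = n31828 := rfl
theorem F71333 : act 1 n31828 = n31728 := d6_1 D31828 (iv D31728) (iv D29109) (iv F52394) D29221
def n31829 : Q := act 6 n29221
theorem D31829 : act 6 n29221 = n31829 := rfl
theorem F71334 : act 1 n31829 = n31817 := d10_1 D31829 F71299 (iv D31717) F62535 D29221
theorem F71335 : act 3 n31829 = n29227 := d17_1 D31829 (iv D29227) (iv F62794)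
def n31830 : Q := act 1 n29222
theorem D31830 : act 1 n29222 = n31830 := rfl
theorem F71336 : act 3 n31830 = n29223 := d7_2 (iv F62797) D31830 (iv D29223)
theorem F71337 : act 5 n31830 = n31129 := d9_2 D29222 D31830 (iv D31129) (iv D28131) (iv F58173)
def n31831 : Q := act 0 n29223
theorem D31831 : act 0 n29223 = n31831 := rfl
theorem F71338 : act 4 n31831 = n29225 := d3_2 (iv F62798) D31831 (iv D29225)
theorem F71339 : act 5 n31831 = n31130 := d4_2 (iv F62799) D31831 (iv D31130)
theorem F71340 : act 2 n31831 = n30215 := d23_1 (iv F71339) (iv D30215) F54530 (iv D21900) (iv F37405) (iv D19820) F25417 (iv F21762) (iv D12334) (iv F20066) F20065 F17473 D11309 D14550 D19815 D24171 F48763 D28133 D31130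
def n31832 : Q := act 2 n29223
theorem D31832 : act 2 n29223 = n31832 := rfl
theorem F71341 : act 0 n31832 = n30215 := d1_1 D31832 (iv F71340) (iv D31831)
theorem F71342 : act 1 n31832 = n29229 := d6_1 D31832 (iv D29229) (iv D25535) (iv F52398) D29223
theorem F71343 : act 4 n31832 = n29226 := d12_2 (iv F62798) D31832 (iv D29226)
theorem F71344 : act 5 n31832 = n31131 := d13_2 (iv F62799) D31832 (iv D31131)
theorem F71345 : act 6 n31813 = n31832 := d19_0 F71343 (iv F62805) (iv F71289)
def n31833 : Q := act 6 n29223
theorem D31833 : act 6 n29223 = n31833 := rfl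
theorem F71346 : act 2 n31833 = n31813 := d14_1 D31833 F71345 (iv D31832)
theorem F71347 : act 4 n31833 = n29227 := d19_1 D31833 (iv D29227) (iv F62798)
theorem F71348 : act 1 n31815 = n31833 := d8_3 F71347 (iv F62807) (iv F71295)
def n31834 : Q := act 1 n29224
theorem D31834 : act 1 n29224 = n31834 := rfl
theorem F71349 : act 2 n31834 = n31808 := d6_2 (iv F62801) D31834 (iv F71322) F71323 (iv D29231)
theorem F71350 : act 4 n31834 = n29228 := d8_2 (iv F62802) D31834 (iv D29228)
theorem F71351 : act 6 n31834 = n31815 := d10_2 D29224 D31834 F71348 (iv D31833) (iv D29223)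
theorem F71352 : act 5 n31807 = n31834 := d24_1 (iv F71275) (iv D31834) (iv D29224) (iv D25532) (iv F58172) (iv F61378) (iv D19823) (iv D14555) F20075 (iv F21762) D16524 D21908 D26469 D30242
def n31835 : Q := act 1 n29225
theorem D31835 : act 1 n29225 = n31835 := rfl
theorem F71353 : act 2 n31835 = n30934 := d6_2 (iv F68157) D31835 (iv D30934) F58244 D30902
theorem F71354 : act 6 n31818 = n31835 := d14_0 F71353 F68273 (iv F71300)
def n31836 : Q := act 3 n29226
theorem D31836 : act 3 n29226 = n31836 := rfl
theorem F71355 : act 0 n31836 = n29757 := d2_1 D31836 (iv F68154) F68153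
theorem F71356 : act 1 n31836 = n29232 := d7_1 D31836 (iv D29232) (iv F62804)
theorem F71357 : act 6 n31836 = n31736 := d17_2 F62805 D31836 F71039
def n31837 : Q := act 0 n29228
theorem D31837 : act 0 n29228 = n31837 := rfl
theorem F71358 : act 2 n31837 = n30394 := d1_2 (iv F62808) D31837 F66450
theorem F71359 : act 5 n31837 = n30393 := d4_2 F62810 D31837 F66448
theorem F71360 : act 6 n31837 = n31816 := d5_2 (iv F62809) D31837 F71296
def n31838 : Q := act 3 n29229
theorem D31838 : act 3 n29229 = n31838 := rfl
theorem F71361 : act 0 n31838 = n31121 := d2_1 D31838 F68994 F62851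
theorem F71362 : act 5 n31838 = n31838 := d16_2 F62812 D31838 (iv D31838)
theorem F71363 : act 6 n31838 = n30541 := d17_2 (iv F71311) D31838 (iv F71308)
def n31839 : Q := act 0 n29231
theorem D31839 : act 0 n29231 = n31839 := rfl
theorem F71364 : act 3 n31839 = n30258 := d2_2 (iv F62815) D31839 (iv D30258)
theorem F71365 : act 4 n31839 = n29233 := d3_2 (iv F62816) D31839 (iv D29233)
theorem F71366 : act 6 n31839 = n31819 := d5_2 (iv F71321) D31839 (iv F71316)
def n31840 : Q := act 4 n29232
theorem D31840 : act 4 n29232 = n31840 := rfl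
theorem F71367 : act 0 n31840 = n29908 := d3_1 D31840 F64851 F62847
theorem F71368 : act 2 n31840 = n29238 := d12_1 D31840 (iv D29238) (iv F62819)
theorem F71369 : act 5 n31840 = n31840 := d18_2 F62817 D31840 (iv D31840)
theorem F71370 : act 6 n31840 = n31734 := d19_2 (iv F62818) D31840 F71034
def n31841 : Q := act 1 n29233
theorem D31841 : act 1 n29233 = n31841 := rfl
theorem F71371 : act 3 n31841 = n29234 := d7_2 (iv F62820) D31841 (iv D29234)
theorem F71372 : act 6 n31841 = n31050 := d10_2 (iv F62821) D31841 F68694 F59233 D29210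
def n31842 : Q := act 2 n29237
theorem D31842 : act 2 n29237 = n31842 := rfl
theorem F71373 : act 4 n31842 = n30887 := d12_2 (iv F62834) D31842 F68104
theorem F71374 : act 5 n31842 = n30504 := d13_2 (iv F62835) D31842 (iv D30504)
def n31843 : Q := act 6 n29238
theorem D31843 : act 6 n29238 = n31843 := rfl
theorem F71375 : act 1 n31843 = n31738 := d10_1 D31843 (iv F71049) (iv D30878) (iv F58082) (iv F62836)
theorem F71376 : act 2 n31843 = n31734 := d14_1 D31843 (iv F71370) F71368
theorem F71377 : act 3 n31843 = n30890 := d17_1 D31843 (iv D30890) (iv F62837)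
theorem F71378 : act 4 n31843 = n29239 := d19_1 D31843 (iv D29239) D29238
def n31844 : Q := act 6 n29242
theorem D31844 : act 6 n29242 = n31844 := rfl
theorem F71379 : act 0 n31844 = n31821 := d5_1 D31844 (iv F71311) (iv F62851)
theorem F71380 : act 1 n31844 = n30796 := d10_1 D31844 F69056 (iv D31139) (iv F59685) (iv F62852)
theorem F71381 : act 2 n31844 = n29244 := d14_1 D31844 (iv D29244) (iv F62853)
theorem F71382 : act 3 n31844 = n30794 := d17_1 D31844 (iv F68997) F68994
theorem F71383 : act 4 n31844 = n29243 := d19_1 D31844 (iv D29243) D29242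
theorem F71384 : act 5 n31844 = n31821 := d22_2 F62854 D31844 (iv F71311) (iv F62851)
def n31845 : Q := act 1 n29244
theorem D31845 : act 1 n29244 = n31845 := rfl
theorem F71385 : act 0 n31845 = n30778 := d0_1 D31845 F67746 (iv F65791) F65792 (iv F62757) D31819 (iv F71316) F71317 (iv F62859)
theorem F71386 : act 3 n31845 = n30261 := d7_2 (iv F62860) D31845 (iv D30261)
theorem F71387 : act 4 n31845 = n29245 := d8_2 (iv F62861) D31845 (iv D29245)
theorem F71388 : act 5 n31845 = n30371 := d9_2 (iv F62862) D31845 (iv F71312) (iv F71320) F71317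
theorem F71389 : act 6 n31845 = n29257 := d10_2 D29244 D31845 (iv D29257) (iv D25564) (iv F52442)
def n31846 : Q := act 2 n29245
theorem D31846 : act 2 n29245 = n31846 := rfl
theorem F71390 : act 0 n31846 = n30906 := d1_1 D31846 F68170 F62868
theorem F71391 : act 1 n31846 = n31818 := d6_1 D31846 F71300 F62858 F62856 D29245
theorem F71392 : act 5 n31846 = n30373 := d13_2 (iv F62864) D31846 (iv D30373)
theorem F71393 : act 6 n31846 = n29259 := d14_2 (iv F62865) D31846 (iv D29259)
def n31847 : Q := act 1 n29246
theorem D31847 : act 1 n29246 = n31847 := rfl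
theorem F71394 : act 2 n31847 = n29250 := d6_2 D29246 D31847 (iv D29250) (iv D25558) (iv F52452)
theorem F71395 : act 5 n31847 = n30903 := d9_2 (iv F68172) D31847 (iv D30903) (iv F58142) D30906
theorem F71396 : act 6 n31847 = n29250 := d10_2 (iv F62974) D31847 (iv D29250) (iv F52535) D29283
theorem F71397 : act 3 n31760 = n31847 := d17_3 F71396 F62873 D31760
def n31848 : Q := act 3 n29246
theorem D31848 : act 3 n29246 = n31848 := rfl
theorem F71398 : act 0 n31848 = n31540 := d2_1 D31848 F70360 F66398
theorem F71399 : act 1 n31848 = n31760 := d7_1 D31848 F71397 (iv D31847)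
theorem F71400 : act 6 n31848 = n31762 := d17_2 (iv F62974) D31848 F71126
theorem F71401 : act 2 n31848 = n30032 := d21_2 D29246 D31848 (iv D30032) F54206 F42291 (iv F43961) D26821 F55745
def n31849 : Q := act 4 n29246
theorem D31849 : act 4 n29246 = n31849 := rfl
theorem F71402 : act 2 n31849 = n29247 := d12_1 D31849 (iv D29247) D29246
theorem F71403 : act 5 n31849 = n30224 := d18_2 (iv F68172) D31849 (iv F68171)
def n31850 : Q := act 6 n29247
theorem D31850 : act 6 n29247 = n31850 := rfl
theorem F71404 : act 3 n31850 = n30262 := d17_1 D31850 (iv D30262) (iv F62867)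
theorem F71405 : act 4 n31850 = n29249 := d19_1 D31850 (iv D29249) D29247
theorem F71406 : act 5 n31850 = n29257 := d22_2 F67748 D31850 (iv F71389) F71385
def n31851 : Q := act 0 n29250
theorem D31851 : act 0 n29250 = n31851 := rfl
theorem F71407 : act 3 n31851 = n31537 := d2_2 (iv F62873) D31851 F70352
def n31852 : Q := act 4 n29250
theorem D31852 : act 4 n29250 = n31852 := rfl
theorem F71408 : act 1 n31852 = n29251 := d8_1 D31852 (iv D29251) D29250
theorem F71409 : act 3 n31852 = n30531 := d15_1 D31852 F66922 (iv F70383) F70381 (iv F62873)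
def n31853 : Q := act 5 n29250
theorem D31853 : act 5 n29250 = n31853 := rfl
theorem F71410 : act 1 n31853 = n29266 := d9_1 D31853 (iv D29266) (iv D25575) (iv F52460) D29250
theorem F71411 : act 2 n31853 = n30903 := d13_1 D31853 (iv F71395) F71394
theorem F71412 : act 3 n31853 = n31759 := d16_1 D31853 (iv D31759) (iv F62873)
def n31854 : Q := act 4 n29252
theorem D31854 : act 4 n29252 = n31854 := rfl
theorem F71413 : act 1 n31854 = n29253 := d8_1 D31854 (iv D29253) (iv F62878)
theorem F71414 : act 2 n31854 = n29760 := d12_1 D31854 F64312 (iv F62881)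
theorem F71415 : act 5 n31854 = n30905 := d18_2 (iv F62879) D31854 F68169
theorem F71416 : act 6 n31854 = n29755 := d19_2 (iv F62880) D31854 F64304
def n31855 : Q := act 1 n29255
theorem D31855 : act 1 n29255 = n31855 := rfl
theorem F71417 : act 4 n31855 = n29256 := d8_2 (iv F62889) D31855 (iv D29256)
theorem F71418 : act 6 n31855 = n30215 := d10_2 D29255 D31855 (iv D30215) (iv F54542) F61414
theorem F71419 : act 0 n31813 = n31855 := d5_3 F71418 (iv F71341) (iv F71345)
def n31856 : Q := act 0 n29257
theorem D31856 : act 0 n29257 = n31856 := rfl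
theorem F71420 : act 3 n31856 = n30263 := d2_2 (iv F62890) D31856 (iv D30263)
theorem F71421 : act 4 n31856 = n29258 := d3_2 (iv F62891) D31856 (iv D29258)
theorem F71422 : act 6 n31856 = n30778 := d5_2 F71389 D31856 (iv F71385)
theorem F71423 : act 1 n30767 = n31856 := d10_5 F71422 F67746 F57729 (iv F57696) (iv F67711)
def n31857 : Q := act 2 n29257
theorem D31857 : act 2 n29257 = n31857 := rfl
theorem F71424 : act 4 n31857 = n29259 := d12_2 (iv F62891) D31857 (iv D29259)
def n31858 : Q := act 2 n29258
theorem D31858 : act 2 n29258 = n31858 := rfl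
theorem F71425 : act 0 n31858 = n29259 := d1_1 D31858 (iv D29259) D29258
theorem F71426 : act 1 n31858 = n30898 := d6_1 D31858 F68140 (iv F68664) F68665 F65721
theorem F71427 : act 6 n31858 = n30906 := d14_2 (iv F62893) D31858 F68170
def n31859 : Q := act 3 n29259
theorem D31859 : act 3 n29259 = n31859 := rfl
theorem F71428 : act 5 n31859 = n31762 := d16_2 F62973 D31859 F71126
def n31860 : Q := act 6 n29261
theorem D31860 : act 6 n29261 = n31860 := rfl
theorem F71429 : act 1 n31860 = n31804 := d10_1 D31860 F71265 F66449 (iv D29263) D29261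
theorem F71430 : act 2 n31860 = n29267 := d14_1 D31860 (iv D29267) (iv F62899)
theorem F71431 : act 3 n31860 = n31485 := d17_1 D31860 (iv D31485) (iv F62900)
def n31861 : Q := act 1 n29264
theorem D31861 : act 1 n29264 = n31861 := rfl
theorem F71432 : act 3 n31861 = n30265 := d7_2 (iv F62911) D31861 (iv D30265)
theorem F71433 : act 4 n31861 = n29265 := d8_2 (iv F62912) D31861 (iv D29265)
theorem F71434 : act 6 n31861 = n29270 := d10_2 D29264 D31861 (iv D29270) (iv D25578) (iv F52492)
def n31862 : Q := act 6 n29266
theorem D31862 : act 6 n29266 = n31862 := rfl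
theorem F71435 : act 0 n31862 = n30910 := d5_1 D31862 (iv F68267) F68265
theorem F71436 : act 3 n31862 = n31776 := d17_1 D31862 (iv D31776) (iv F62916)
theorem F71437 : act 5 n31862 = n30933 := d20_1 D31862 (iv D30933) D30932 F68267 F68181 (iv D29267) D29266
def n31863 : Q := act 1 n29268
theorem D31863 : act 1 n29268 = n31863 := rfl
theorem F71438 : act 3 n31863 = n30524 := d7_2 (iv F62920) D31863 (iv D30524)
theorem F71439 : act 4 n31863 = n29269 := d8_2 (iv F62921) D31863 (iv D29269)
theorem F71440 : act 6 n31863 = n31802 := d10_2 D29268 D31863 F71254 F67998 F57989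
theorem F71441 : act 2 n29285 = n31863 := d14_3 F71440 F71255 (iv F62981)
theorem F71442 : act 5 n29284 = n31863 := d22_0 F71440 (iv D31802) F62706 (iv F62975)
theorem F71443 : act 0 n31802 = n31863 := d22_4 (iv F71442) F62977 F71442 F71440
def n31864 : Q := act 0 n29270
theorem D31864 : act 0 n29270 = n31864 := rfl
theorem F71444 : act 1 n31864 = n30391 := d0_2 D29270 D31864 F66442 F62713 F52332 (iv F52314) F52539 (iv D25593) (iv F52507)
theorem F71445 : act 3 n31864 = n30266 := d2_2 (iv F62933) D31864 (iv D30266)
theorem F71446 : act 4 n31864 = n29271 := d3_2 (iv F62934) D31864 (iv D29271)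
theorem F71447 : act 2 n31864 = n31861 := d21_0 F71432 F65992 (iv F60103) (iv F69211) F69212 (iv D30267) (iv F62933) D31864
def n31865 : Q := act 2 n29270
theorem D31865 : act 2 n29270 = n31865 := rfl
theorem F71448 : act 0 n31865 = n31861 := d1_1 D31865 (iv F71447) (iv D31864)
theorem F71449 : act 1 n31865 = n29285 := d6_1 D31865 F71441 (iv D31863) F62919 D29270
theorem F71450 : act 3 n31865 = n30270 := d11_2 (iv F62933) D31865 (iv F68338) (iv F68492) (iv F68496) (iv F70630) F70629 (iv F71445) F71447 F71432 F65992 (iv F60103) (iv F69211) F69212 (iv D30267)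
theorem F71451 : act 4 n31865 = n29272 := d12_2 (iv F62934) D31865 (iv D29272)
theorem F71452 : act 6 n31865 = n31864 := d14_2 F71434 D31865 F71447
theorem F71453 : act 5 n29286 = n31865 := d18_0 F71451 (iv F62942) (iv F62983)
def n31866 : Q := act 5 n29270
theorem D31866 : act 5 n29270 = n31866 := rfl
theorem F71454 : act 1 n31866 = n31850 := d9_1 D31866 F71406 (iv D29257) (iv F52510) D29270
theorem F71455 : act 2 n31866 = n29286 := d13_1 D31866 F71453 (iv D31865)
theorem F71456 : act 3 n31866 = n30268 := d16_1 D31866 (iv D30268) (iv F62933)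
theorem F71457 : act 4 n31866 = n29273 := d18_1 D31866 (iv D29273) (iv F62934)
theorem F71458 : act 6 n31866 = n29286 := d22_1 D31866 F71453 F71452 (iv D31864)
def n31867 : Q := act 5 n29271
theorem D31867 : act 5 n29271 = n31867 := rfl
theorem F71459 : act 0 n31867 = n29273 := d4_1 D31867 (iv D29273) D29271
theorem F71460 : act 2 n31867 = n29287 := d13_1 D31867 F62985 F62937
theorem F71461 : act 3 n31867 = n29274 := d16_1 D31867 (iv D29274) (iv F62936)
theorem F71462 : act 6 n31867 = n29287 := d20_2 F62940 D31867 F62985 F62915 D29273 F62946 F62942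
def n31868 : Q := act 1 n29275
theorem D31868 : act 1 n29275 = n31868 := rfl
theorem F71463 : act 4 n31868 = n29276 := d8_2 (iv F62953) D31868 (iv D29276)
def n31869 : Q := act 0 n29276
theorem D31869 : act 0 n29276 = n31869 := rfl
theorem F71464 : act 3 n31869 = n29280 := d2_2 (iv F62954) D31869 (iv D29280)
theorem F71465 : act 5 n31869 = n31829 := d22_0 (iv D31829) (iv F68194) F68195 D31869
def n31870 : Q := act 2 n29276
theorem D31870 : act 2 n29276 = n31870 := rfl
theorem F71466 : act 1 n31870 = n31772 := d6_1 D31870 (iv D31772) (iv D29160) (iv F52527) D29276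
def n31871 : Q := act 5 n29276
theorem D31871 : act 5 n29276 = n31871 := rfl
theorem F71467 : act 0 n31871 = n31829 := d4_1 D31871 (iv F71465) (iv D31869)
theorem F71468 : act 1 n31871 = n31859 := d9_1 D31871 F71428 (iv D31762) F62620 D29276
theorem F71469 : act 3 n31871 = n29282 := d16_1 D31871 (iv D29282) (iv F62954)
theorem F71470 : act 6 n31871 = n31827 := d22_3 (iv F68194) F68195 D31871 (iv D31827)
def n31872 : Q := act 1 n29277
theorem D31872 : act 1 n29277 = n31872 := rfl
theorem F71471 : act 3 n31872 = n29278 := d7_2 (iv F62957) D31872 (iv D29278)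
theorem F71472 : act 6 n31872 = n31129 := d10_2 D29277 D31872 (iv D31129) (iv F61390) (iv F58273)
def n31873 : Q := act 0 n29278
theorem D31873 : act 0 n29278 = n31873 := rfl
theorem F71473 : act 4 n31873 = n29280 := d3_2 (iv F62958) D31873 (iv D29280)
theorem F71474 : act 6 n31873 = n31130 := d5_2 (iv F62959) D31873 (iv D31130)
theorem F71475 : act 5 n31873 = n31833 := d22_0 (iv D31833) F62799 (iv F62959) D31873
theorem F71476 : act 2 n30234 = n31873 := d13_3 F71475 F71346 F71290
def n31874 : Q := act 2 n29278
theorem D31874 : act 2 n29278 = n31874 := rfl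
theorem F71477 : act 0 n31874 = n30234 := d1_1 D31874 F71476 (iv D31873)
theorem F71478 : act 1 n31874 = n29284 := d6_1 D31874 (iv D29284) (iv D25593) (iv F52531) D29278
theorem F71479 : act 4 n31874 = n29281 := d12_2 (iv F62958) D31874 (iv D29281)
theorem F71480 : act 6 n31874 = n31131 := d14_2 (iv F62959) D31874 (iv D31131)
theorem F71481 : act 5 n31855 = n31874 := d22_0 F71480 (iv F71344) (iv F71345) F71419
def n31875 : Q := act 5 n29278
theorem D31875 : act 5 n29278 = n31875 := rfl
theorem F71482 : act 0 n31875 = n31833 := d4_1 D31875 (iv F71475) (iv D31873)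
theorem F71483 : act 2 n31875 = n31855 := d13_1 D31875 F71481 (iv D31874)
theorem F71484 : act 4 n31875 = n29282 := d18_1 D31875 (iv D29282) (iv F62958)
theorem F71485 : act 6 n31875 = n31831 := d20_2 (iv F62959) D31875 F71339 (iv F71474) F71475 (iv D31833) F62799
theorem F71486 : act 1 n31857 = n31875 := d8_3 F71484 (iv F62971) (iv F71424)
def n31876 : Q := act 1 n29279
theorem D31876 : act 1 n29279 = n31876 := rfl
theorem F71487 : act 2 n31876 = n31850 := d6_2 (iv F62961) D31876 (iv F71454) F71455 (iv D29286)
theorem F71488 : act 4 n31876 = n29283 := d8_2 (iv F62962) D31876 (iv D29283)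
theorem F71489 : act 5 n31876 = n31857 := d9_2 D29279 D31876 F71486 (iv D31875) (iv D29278)
theorem F71490 : act 6 n31876 = n31849 := d24_3 D25590 D29279 D31876 F71403 (iv D30224) (iv D26453) (iv D21900) (iv D16518) F21751 F20068 D14550 D19818 (iv F61380) F58272
def n31877 : Q := act 1 n29280
theorem D31877 : act 1 n29280 = n31877 := rfl
theorem F71491 : act 2 n31877 = n30910 := d6_2 (iv F68251) D31877 (iv D30910) (iv F58220) D30928
theorem F71492 : act 5 n31877 = n31860 := d9_2 (iv F62964) D31877 F71429 F71264 F62807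
def n31878 : Q := act 0 n29283
theorem D31878 : act 0 n29283 = n31878 := rfl
theorem F71493 : act 1 n31878 = n31837 := d0_2 D29283 D31878 (iv D31837) (iv D29228) F52400 D29201 (iv F62970) (iv D29256) (iv F52533)
theorem F71494 : act 2 n31878 = n30374 := d1_2 (iv F62972) D31878 F66400
theorem F71495 : act 5 n31878 = n31858 := d4_2 (iv F62973) D31878 F71425
theorem F71496 : act 6 n31878 = n30373 := d5_2 F62974 D31878 F66398
def n31879 : Q := act 3 n29284
theorem D31879 : act 3 n29284 = n31879 := rfl
theorem F71497 : act 0 n31879 = n31110 := d2_1 D31879 F68946 (iv F62975)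
theorem F71498 : act 5 n31879 = n30524 := d16_2 (iv F71442) D31879 (iv F71438)
theorem F71499 : act 6 n31879 = n31879 := d17_2 F62977 D31879 (iv D31879)
def n31880 : Q := act 0 n29286
theorem D31880 : act 0 n29286 = n31880 := rfl
theorem F71500 : act 3 n31880 = n30271 := d2_2 (iv F62982) D31880 (iv D30271)
theorem F71501 : act 4 n31880 = n29287 := d3_2 (iv F62983) D31880 (iv D29287)
theorem F71502 : act 5 n31880 = n31861 := d4_2 (iv F71453) D31880 (iv F71448)
def n31881 : Q := act 1 n29287
theorem D31881 : act 1 n29287 = n31881 := rfl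
theorem F71503 : act 3 n31881 = n29288 := d7_2 (iv F62984) D31881 (iv D29288)
theorem F71504 : act 5 n31881 = n31043 := d9_2 (iv F62985) D31881 F68664 F59446 D29265
def n31882 : Q := act 3 n29291
theorem D31882 : act 3 n29291 = n31882 := rfl
theorem F71505 : act 0 n31882 = n31882 := d2_1 D31882 (iv D31882) F62997
theorem F71506 : act 1 n31882 = n29292 := d7_1 D31882 (iv D29292) D29291
theorem F71507 : act 5 n31628 = n31882 := d9_0 F71506 F63002 F60473 (iv F62227) D31628
def n31883 : Q := act 5 n29291
theorem D31883 : act 5 n29291 = n31883 := rfl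
theorem F71508 : act 0 n31883 = n31883 := d4_1 D31883 (iv D31883) F62997
theorem F71509 : act 1 n31883 = n31251 := d9_1 D31883 (iv D31251) (iv D28400) (iv F52564) D29291
theorem F71510 : act 2 n31883 = n31882 := d13_1 D31883 (iv F71507) F70655
theorem F71511 : act 3 n31883 = n31628 := d16_1 D31883 F71507 (iv D31882)
theorem F71512 : act 4 n31883 = n31767 := d18_1 D31883 F71140 (iv F62998)
theorem F71513 : act 6 n31883 = n31882 := d22_1 D31883 (iv F71507) F70656 F62997
def n31884 : Q := act 1 n29293
theorem D31884 : act 1 n29293 = n31884 := rfl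
theorem F71514 : act 0 n31884 = n31513 := d0_1 D31884 (iv D31513) F61560 D31509 (iv F71218) F71219 F69528 (iv F63774) F63773
theorem F71515 : act 3 n31884 = n31521 := d7_2 F63764 D31884 F70310
theorem F71516 : act 5 n31884 = n31765 := d9_2 F69492 D31884 (iv D31765) F69484 (iv F69488)
def n31885 : Q := act 2 n29298
theorem D31885 : act 2 n29298 = n31885 := rfl
theorem F71517 : act 0 n31885 = n29299 := d1_1 D31885 (iv D29299) D29298
theorem F71518 : act 4 n31885 = n29301 := d12_2 (iv F63014) D31885 (iv D29301)
theorem F71519 : act 5 n31885 = n29301 := d13_2 (iv F63015) D31885 (iv D29301)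
theorem F71520 : act 6 n31885 = n31338 := d14_2 (iv F63016) D31885 (iv D31338)
theorem F71521 : act 3 n31587 = n31885 := d2_0 F71517 (iv F63021) D31587
def n31886 : Q := act 1 n29301
theorem D31886 : act 1 n29301 = n31886 := rfl
theorem F71522 : act 2 n31886 = n31489 := d6_2 D29301 D31886 F70206 F63134 (iv F52642)
theorem F71523 : act 6 n31886 = n30163 := d10_2 F69759 D31886 (iv D30163) D30166 (iv F69757)
theorem F71524 : act 0 n31655 = n31886 := d5_3 F71523 (iv F65646) D31655
def n31887 : Q := act 3 n29301
theorem D31887 : act 3 n29301 = n31887 := rfl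
theorem F71525 : act 0 n31887 = n29302 := d2_1 D31887 (iv D29302) (iv F63023)
theorem F71526 : act 5 n31887 = n31587 := d16_2 F71519 D31887 F71521
def n31888 : Q := act 2 n29302
theorem D31888 : act 2 n29302 = n31888 := rfl
theorem F71527 : act 5 n31888 = n29338 := d13_2 (iv F63025) D31888 F63140
theorem F71528 : act 4 n29335 = n31888 := d18_3 F71527 (iv D29338) (iv F63132)
def n31889 : Q := act 4 n29302
theorem D31889 : act 4 n29302 = n31889 := rfl
theorem F71529 : act 1 n31889 = n31298 := d8_1 D31889 F69665 (iv F63024)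
theorem F71530 : act 2 n31889 = n29335 := d12_1 D31889 F71528 (iv D31888)
theorem F71531 : act 3 n31889 = n29337 := d15_1 D31889 (iv F63138) F63021 F63018 D29302
theorem F71532 : act 5 n31889 = n29337 := d18_2 (iv F63025) D31889 (iv F63138)
def n31890 : Q := act 0 n29303
theorem D31890 : act 0 n29303 = n31890 := rfl
theorem F71533 : act 1 n31890 = n29540 := d0_2 D29303 D31890 F63615 F52917 (iv F51935) (iv F51937) F41286 (iv F41279) (iv F52579)
theorem F71534 : act 6 n29303 = n31890 := d10_0 F71533 (iv F63680) F63677 F60879 D29303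
def n31891 : Q := act 3 n29303
theorem D31891 : act 3 n29303 = n31891 := rfl
theorem F71535 : act 1 n31891 = n29304 := d7_1 D31891 (iv D29304) D29303
def n31892 : Q := act 5 n29303
theorem D31892 : act 5 n29303 = n31892 := rfl
theorem F71536 : act 6 n31892 = n31892 := d22_1 D31892 (iv D31892) F71534 (iv D31890)
def n31893 : Q := act 2 n29304
theorem D31893 : act 2 n29304 = n31893 := rfl
theorem F71537 : act 0 n31893 = n29306 := d1_1 D31893 (iv D29306) (iv F63026)
theorem F71538 : act 3 n31893 = n31888 := d21_1 D31893 (iv D31888) (iv D29302) (iv D25609) F41278 D21338 D25612 (iv F63026)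
theorem F71539 : act 4 n30608 = n31893 := d15_0 F71538 (iv F71528) (iv D29335) (iv F60877) (iv F67155)
theorem F71540 : act 5 n30482 = n31893 := d16_0 F71538 F71527 (iv F66752)
def n31894 : Q := act 4 n29304
theorem D31894 : act 4 n29304 = n31894 := rfl
theorem F71541 : act 0 n31894 = n29307 := d3_1 D31894 (iv D29307) (iv F63026)
theorem F71542 : act 2 n31894 = n30608 := d12_1 D31894 F71539 (iv D31893)
theorem F71543 : act 6 n31894 = n31893 := d19_2 F67156 D31894 (iv F71539)
theorem F71544 : act 5 n30604 = n31894 := d13_0 F71542 (iv D30608) (iv F67142)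
def n31895 : Q := act 5 n29304
theorem D31895 : act 5 n29304 = n31895 := rfl
theorem F71545 : act 0 n31895 = n29308 := d4_1 D31895 (iv D29308) (iv F63026)
theorem F71546 : act 2 n31895 = n30482 := d13_1 D31895 F71540 (iv D31893)
theorem F71547 : act 3 n31895 = n29305 := d16_1 D31895 (iv D29305) D29304
theorem F71548 : act 4 n31895 = n30604 := d18_1 D31895 F71544 (iv D31894)
theorem F71549 : act 6 n31895 = n30607 := d20_2 F67156 D31895 F67150 F63022 D29308 (iv F63032) D30608
theorem F71550 : act 1 n30481 = n31895 := d24_14 F71549 F67150 (iv F67243) F67244 D30641 (iv F67256) F69768 (iv F70221) F70219 F67248 F63400 F57162 (iv F67242) F67241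
def n31896 : Q := act 1 n29305
theorem D31896 : act 1 n29305 = n31896 := rfl
theorem F71551 : act 3 n31896 = n30481 := d7_2 F71547 D31896 F71550
theorem F71552 : act 4 n31896 = n31489 := d8_2 F63135 D31896 F70206
theorem F71553 : act 6 n31896 = n30641 := d10_2 (iv F63029) D31896 (iv F67256) F69768 (iv D31340)
def n31897 : Q := act 1 n29306
theorem D31897 : act 1 n29306 = n31897 := rfl
theorem F71554 : act 2 n31897 = n29312 := d6_2 D29306 D31897 (iv D29312) (iv D25616) (iv F52582)
theorem F71555 : act 4 n31897 = n30636 := d8_2 (iv F67152) D31897 F67243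
theorem F71556 : act 6 n31897 = n30640 := d10_2 F67153 D31897 F67251 F63005 (iv F63030)
theorem F71557 : act 3 n31490 = n31897 := d17_3 F71556 F67252 D31490
theorem F71558 : act 5 n31533 = n31897 := d22_0 F71556 (iv F67253) D31489 (iv F70335)
def n31898 : Q := act 3 n29306
theorem D31898 : act 3 n29306 = n31898 := rfl
theorem F71559 : act 0 n31898 = n31888 := d2_1 D31898 (iv F71538) F71537
theorem F71560 : act 1 n31898 = n31490 := d7_1 D31898 F71557 (iv D31897)
theorem F71561 : act 2 n31898 = n31887 := d11_1 D31898 (iv D31887) (iv D29301) F52578 D25610 D29304 D31893 F71538 (iv D31888) (iv D29302) (iv D25609) F41278 D21338 D25612 D29306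
theorem F71562 : act 4 n31898 = n29327 := d15_2 (iv F67152) D31898 (iv D29327) F52627 D29300
theorem F71563 : act 6 n31898 = n31321 := d17_2 F67153 D31898 F69720
theorem F71564 : act 5 n31898 = n31398 := d24_1 (iv F71563) (iv D31398) F61057 (iv F57785) F57783 (iv F59214) (iv F59298) (iv F63144) (iv F68724) (iv D31055) F59285 (iv F59220) (iv F60834) (iv F69719)
def n31899 : Q := act 5 n29306
theorem D31899 : act 5 n29306 = n31899 := rfl
theorem F71565 : act 0 n31899 = n30482 := d4_1 D31899 F71540 F71537
theorem F71566 : act 1 n31899 = n31399 := d9_1 D31899 F69941 D31533 F71558 (iv D31897)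
theorem F71567 : act 2 n31899 = n29308 := d13_1 D31899 (iv D29308) D29306
theorem F71568 : act 3 n31899 = n31398 := d16_1 D31899 (iv F71564) (iv D31898)
theorem F71569 : act 4 n31899 = n30607 := d18_1 D31899 F67150 (iv F67152)
theorem F71570 : act 6 n31899 = n30604 := d22_1 D31899 F71544 F71543 F71537
def n31900 : Q := act 5 n29307
theorem D31900 : act 5 n29307 = n31900 := rfl
theorem F71571 : act 0 n31900 = n30604 := d4_1 D31900 F71544 F71541
theorem F71572 : act 2 n31900 = n30607 := d13_1 D31900 F67150 F67151
theorem F71573 : act 4 n31900 = n29308 := d18_1 D31900 (iv D29308) D29307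
theorem F71574 : act 6 n31900 = n30482 := d20_2 (iv F67153) D31900 F71540 (iv F71543) (iv F71544) (iv F71570) (iv D31899)
def n31901 : Q := act 1 n29308
theorem D31901 : act 1 n29308 = n31901 := rfl
theorem F71575 : act 0 n31901 = n29573 := d0_1 D31901 (iv D29573) (iv F60885) D31343 (iv F70218) F70219 F67245 F71550 F71545
theorem F71576 : act 2 n31901 = n31428 := d6_2 F71567 D31901 F70044 (iv F69943) (iv F71566)
theorem F71577 : act 3 n31901 = n29309 := d7_2 (iv F63031) D31901 (iv D29309)
theorem F71578 : act 5 n31901 = n29316 := d9_2 D29308 D31901 (iv D29316) (iv D25618) (iv F52582)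
theorem F71579 : act 6 n31901 = n30609 := d10_2 F63032 D31901 (iv D30609) (iv D27222) D27221
def n31902 : Q := act 0 n29312
theorem D31902 : act 0 n29312 = n31902 := rfl
theorem F71580 : act 5 n31902 = n31886 := d4_2 F70735 D31902 (iv F71524)
theorem F71581 : act 6 n31349 = n31902 := d22_3 (iv F70735) (iv D31655) (iv F69795) (iv D31902)
def n31903 : Q := act 4 n29312
theorem D31903 : act 4 n29312 = n31903 := rfl
theorem F71582 : act 1 n31903 = n29313 := d8_1 D31903 (iv D29313) D29312
theorem F71583 : act 2 n31903 = n30636 := d12_1 D31903 (iv F71555) F71554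
theorem F71584 : act 3 n31903 = n30519 := d25_1 D31903 (iv D30519) F56607 F46113 F46112 D27071 D30520 (iv F70585) (iv D31608) F62045 (iv D26924) (iv D22647) (iv D17439) (iv F30560) F30559 D22545 D26875 D30406 F66481 F69747 F69746 F66313 (iv D30349) (iv F66297) F66296 F59998 F49252 F37806 (iv F37652) F37651 (iv D15621) (iv F27079) (iv F40046) (iv F51487) F51486 (iv F42966) (iv F50805) F50804 F38916 (iv F38892) D24969 (iv F58383) F58382 F55303 F43364 (iv F34986) (iv F30537) (iv F44430) F51244 (iv D25097) (iv D20741) (iv F38759) (iv F42476) (iv F54123) (iv F65145) (iv F68974) F68971 F63656 F59702 F48801 (iv F58281) F58280 D30883 F68095 (iv D29322) (iv D25626) (iv D21349) (iv F28157) F28156 F21528 F17812 D10026 (iv F21442) D16165 D21343 D25616 D29312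
theorem F71585 : act 6 n30639 = n31903 := d17_0 F71584 (iv F67435) F67436
def n31904 : Q := act 6 n29312
theorem D31904 : act 6 n29312 = n31904 := rfl
theorem F71586 : act 0 n31904 = n31349 := d5_1 D31904 F71581 (iv D31902)
theorem F71587 : act 2 n31904 = n30640 := d14_1 D31904 (iv F71556) F71554
theorem F71588 : act 4 n31904 = n30639 := d19_1 D31904 F71585 (iv D31903)
theorem F71589 : act 5 n31904 = n30163 := d20_1 D31904 (iv F71523) (iv F71580) (iv F71581) F69795 D31655 F70735
def n31905 : Q := act 1 n29315
theorem D31905 : act 1 n29315 = n31905 := rfl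
theorem F71590 : act 3 n31905 = n31046 := d7_2 (iv F63048) D31905 F68679
theorem F71591 : act 4 n31905 = n29316 := d8_2 (iv F63049) D31905 (iv D29316)
theorem F71592 : act 6 n31905 = n29349 := d10_2 F63050 D31905 (iv D29349) (iv F52655) (iv F59290)
def n31906 : Q := act 0 n29316
theorem D31906 : act 0 n29316 = n31906 := rfl
theorem F71593 : act 3 n31906 = n29317 := d2_2 (iv F63051) D31906 (iv D29317)
theorem F71594 : act 5 n31906 = n29573 := d4_2 F71578 D31906 (iv F71575)
theorem F71595 : act 6 n31906 = n31626 := d5_2 (iv F63052) D31906 (iv D31626)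
theorem F71596 : act 1 n31753 = n31906 := d23_2 D29128 (iv F71095) (iv D31906) (iv F71578) F71576 F70044 (iv F69944) F69946 (iv F61972) (iv F66746) (iv F66759) (iv D30484) F56359 F44846 (iv F56275) F56278 (iv F59911) F62588 (iv D29126)
def n31907 : Q := act 2 n29316
theorem D31907 : act 2 n29316 = n31907 := rfl
theorem F71597 : act 1 n31907 = n30173 := d6_1 D31907 (iv F69561) F69560 F63043 D29316
theorem F71598 : act 5 n31907 = n31428 := d13_2 F71578 D31907 (iv F71576)
theorem F71599 : act 6 n31907 = n29510 := d14_2 (iv F63052) D31907 F63532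
theorem F71600 : act 3 n31907 = n30174 := d21_1 D31907 F65677 (iv F68780) F70985 F70982 (iv F63053) (iv F71593) (iv D31906)
def n31908 : Q := act 3 n29319
theorem D31908 : act 3 n29319 = n31908 := rfl
theorem F71601 : act 0 n31908 = n30495 := d2_1 D31908 (iv D30495) (iv F63057)
theorem F71602 : act 1 n31908 = n31908 := d7_1 D31908 (iv D31908) F63058
theorem F71603 : act 6 n31908 = n29322 := d17_2 (iv F63060) D31908 (iv D29322)
theorem F71604 : act 4 n31541 = n31908 := d19_3 F71603 (iv F63076) D31541
def n31909 : Q := act 3 n29320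
theorem D31909 : act 3 n29320 = n31909 := rfl
theorem F71605 : act 0 n31909 = n30661 := d2_1 D31909 F67313 (iv F63063)
theorem F71606 : act 1 n31909 = n29324 := d7_1 D31909 (iv D29324) (iv F63064)
theorem F71607 : act 4 n31909 = n31492 := d15_2 (iv F63065) D31909 F70213 F63076 (iv D29322)
theorem F71608 : act 6 n31909 = n30658 := d17_2 (iv F63066) D31909 (iv D30658)
theorem F71609 : act 2 n31909 = n31185 := d21_2 D29320 D31909 F69265 F67673 F57629 F46335 (iv F46047) F52612
def n31910 : Q := act 2 n29327
theorem D31910 : act 2 n29327 = n31910 := rfl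
theorem F71610 : act 0 n31910 = n31889 := d1_1 D31910 F71530 F63131
theorem F71611 : act 3 n31910 = n31403 := d11_2 D29327 D31910 F69952 (iv F61252) (iv D25638) (iv F41333) D25637 D29335 (iv F71530) F71531 (iv D29337) (iv D25640) (iv D21362) (iv F41309) D25632
theorem F71612 : act 4 n31910 = n31887 := d12_2 F71562 D31910 (iv F71561)
theorem F71613 : act 5 n31910 = n31403 := d13_2 (iv F63109) D31910 F69952
theorem F71614 : act 6 n31910 = n31320 := d14_2 (iv F63110) D31910 (iv D31320)
theorem F71615 : act 1 n31910 = n31404 := d25_5 F38438 (iv F41309) D25632 D29327 D31910 (iv D31404) (iv D28612) F50246 (iv F47349) (iv D23701) (iv F46597) (iv F57947) (iv F59204) F59203 (iv F67004) (iv D30555) (iv D27126) F45449 (iv F41706) F41705 (iv F42239) F42238 F32039 (iv F45073) F53084 F53082 (iv F54961) (iv F55456) (iv F64628) F64627 (iv F58631) F58632 F55776 F52435 (iv F54587) F54586 F42951 F40503 F29109 F29102 D18524 (iv F39664) F29581 F21964 F18020 F8400 (iv F14279) (iv F20602) F20603 (iv F21859) D16628 (iv F40921) (iv F52101) (iv F55877) (iv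 F65578) (iv F70554) F70551 (iv D28906) F51376 (iv F51355) (iv F53914) (iv F56047) D30428 F66546 F66372 F55688 (iv F44207) (iv F45159) (iv F51026) F51027 (iv D24738) (iv D20327) F26216 F20488 (iv F20450) (iv F26143) D20280
def n31911 : Q := act 4 n29328
theorem D31911 : act 4 n29328 = n31911 := rfl
theorem F71616 : act 1 n31911 = n29330 := d8_1 D31911 (iv D29330) D29328
theorem F71617 : act 2 n31911 = n29356 := d12_1 D31911 (iv D29356) (iv F63111)
theorem F71618 : act 5 n31911 = n29556 := d18_2 F63112 D31911 F63649
def n31912 : Q := act 6 n29328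
theorem D31912 : act 6 n29328 = n31912 := rfl
theorem F71619 : act 1 n31912 = n31912 := d10_1 D31912 (iv D31912) (iv D29328) F52629 D29328
theorem F71620 : act 2 n31912 = n29357 := d14_1 D31912 (iv D29357) (iv F63111)
theorem F71621 : act 3 n31912 = n30356 := d17_1 D31912 (iv D30356) F63113
theorem F71622 : act 5 n31912 = n30005 := d22_2 F63112 D31912 (iv D30005) (iv F55695)
def n31913 : Q := act 3 n29330
theorem D31913 : act 3 n29330 = n31913 := rfl
theorem F71623 : act 6 n31913 = n31913 := d17_2 F63120 D31913 (iv D31913)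
def n31914 : Q := act 5 n29330
theorem D31914 : act 5 n29330 = n31914 := rfl
theorem F71624 : act 0 n31914 = n30003 := d4_1 D31914 (iv F65172) F63665
theorem F71625 : act 2 n31914 = n29332 := d13_1 D31914 (iv D29332) (iv F63119)
theorem F71626 : act 4 n31914 = n29331 := d18_1 D31914 (iv D29331) D29330
theorem F71627 : act 6 n31914 = n30003 := d22_1 D31914 (iv F65172) F63667 F63665
theorem F71628 : act 1 n29994 = n31914 := d10_5 F71627 (iv D30003) (iv D26269) (iv F54111) D29994
def n31915 : Q := act 1 n29332
theorem D31915 : act 1 n29332 = n31915 := rfl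
theorem F71629 : act 4 n31915 = n29333 := d8_2 (iv F63126) D31915 (iv D29333)
theorem F71630 : act 5 n31915 = n29361 := d9_2 D29332 D31915 (iv D29361) (iv D25655) (iv F52630)
def n31916 : Q := act 2 n29333
theorem D31916 : act 2 n29333 = n31916 := rfl
theorem F71631 : act 0 n31916 = n29920 := d1_1 D31916 (iv F64890) F63172
theorem F71632 : act 1 n31916 = n29991 := d6_1 D31916 F65136 F63125 F63122 D29333
theorem F71633 : act 5 n31916 = n29363 := d13_2 (iv F63128) D31916 (iv D29363)
theorem F71634 : act 3 n29915 = n31916 := d25_11 (iv F63992) (iv F66063) F66062 F65761 (iv D30197) (iv D26435) F42466 (iv F48711) (iv F59544) (iv F68901) (iv F68905) (iv D31916) F63127 D29334 F63129 D29335 (iv F71530) F71531 (iv D29337) F52643 (iv D21379) (iv D16183) F21453 D12229 (iv F28217) F28218 D16866 D22151 F43138 F39114 (iv D16652) (iv F29401) (iv F35266) F29389 F21864 D12411 (iv F22270) F39605 (iv D12577) (iv D10208) (iv D5542) (iv F4191) D5566 D10264 (iv F22116) (iv F29834) (iv D16935) F22114 (iv F18215) (iv F22430) (iv D12812) F32557 (iv F21063)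 (iv F21147) F21148 F17614 (iv F32771) F8759 (iv F16499) (iv F7208) (iv F14590) D11859 (iv F27052) D20847 (iv F44476) F44475 F43212 F33318 (iv F39400) (iv F51034) F51033 (iv F45532) F40489 (iv F32891) (iv F34995) D22845 (iv F56481)
def n31917 : Q := act 3 n29334
theorem D31917 : act 3 n29334 = n31917 := rfl
theorem F71635 : act 1 n31917 = n29335 := d7_1 D31917 (iv D29335) (iv F63129)
theorem F71636 : act 5 n31917 = n29366 := d16_2 (iv F63130) D31917 (iv D29366)
theorem F71637 : act 2 n31917 = n31579 := d21_2 D29334 D31917 F70487 F61828 D29920 (iv F64890) F63174 F52730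
def n31918 : Q := act 6 n29337
theorem D31918 : act 6 n29337 = n31918 := rfl
theorem F71638 : act 2 n31918 = n29339 := d14_1 D31918 (iv D29339) D29337
theorem F71639 : act 4 n31918 = n31339 := d19_1 D31918 F69764 F63138
theorem F71640 : act 5 n31918 = n31320 := d22_2 F71532 D31918 (iv F71614) F71610
def n31919 : Q := act 6 n29338
theorem D31919 : act 6 n29338 = n31919 := rfl
theorem F71641 : act 2 n31919 = n31339 := d14_1 D31919 F69764 (iv F63140)
theorem F71642 : act 3 n31919 = n31900 := d17_1 D31919 F71574 F66752
theorem F71643 : act 4 n31919 = n29339 := d19_1 D31919 (iv D29339) D29338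
theorem F71644 : act 5 n31919 = n31321 := d22_2 F71527 D31919 (iv F71563) F71559
def n31920 : Q := act 1 n29341
theorem D31920 : act 1 n29341 = n31920 := rfl
theorem F71645 : act 0 n31920 = n31318 := d0_1 D31920 (iv D31318) F60828 F50081 (iv F50083) (iv F52648) F52647 D25643 D29341
theorem F71646 : act 2 n31920 = n31890 := d6_2 (iv F63146) D31920 F71533 (iv D29540) F52915
theorem F71647 : act 4 n31920 = n31890 := d8_2 F63616 D31920 F71533
theorem F71648 : act 6 n31920 = n31318 := d10_2 F63147 D31920 (iv D31318) F60830 (iv F63129)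
def n31921 : Q := act 3 n29341
theorem D31921 : act 3 n29341 = n31921 := rfl
theorem F71649 : act 0 n31921 = n29342 := d2_1 D31921 (iv D29342) D29341
theorem F71650 : act 6 n31921 = n31917 := d17_2 F63147 D31921 (iv D31917)
def n31922 : Q := act 5 n29341
theorem D31922 : act 5 n29341 = n31922 := rfl
theorem F71651 : act 0 n31922 = n29343 := d4_1 D31922 (iv D29343) D29341
theorem F71652 : act 2 n31922 = n29351 := d13_1 D31922 (iv D29351) (iv F63146)
theorem F71653 : act 6 n31922 = n29365 := d20_2 F63147 D31922 F63192 (iv D29344) D29343 F63150 (iv F63130)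
def n31923 : Q := act 2 n29342
theorem D31923 : act 2 n29342 = n31923 := rfl
def n31924 : Q := act 4 n29342
theorem D31924 : act 4 n29342 = n31924 := rfl
theorem F71654 : act 1 n31924 = n29346 := d8_1 D31924 (iv D29346) (iv F63148)
def n31925 : Q := act 5 n29342
theorem D31925 : act 5 n29342 = n31925 := rfl
theorem F71655 : act 3 n31925 = n29343 := d16_1 D31925 (iv D29343) D29342
theorem F71656 : act 6 n31925 = n29366 := d22_1 D31925 (iv F71636) (iv F71650) F71649
def n31926 : Q := act 6 n29342
theorem D31926 : act 6 n29342 = n31926 := rfl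
theorem F71657 : act 0 n31926 = n31917 := d5_1 D31926 (iv F71650) F71649
theorem F71658 : act 1 n31926 = n31609 := d10_1 D31926 F70588 (iv F65321) (iv D29348) (iv F63148)
theorem F71659 : act 3 n31926 = n29344 := d17_1 D31926 (iv D29344) D29342
def n31927 : Q := act 1 n29343
theorem D31927 : act 1 n29343 = n31927 := rfl
theorem F71660 : act 2 n31927 = n31636 := d6_2 (iv F63149) D31927 F70676 F63275 (iv F52724)
theorem F71661 : act 4 n31927 = n31627 := d8_2 F63622 D31927 F70651
theorem F71662 : act 5 n31927 = n29349 := d9_2 D29343 D31927 (iv D29349) (iv D25645) D25643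
theorem F71663 : act 6 n31927 = n29370 := d10_2 (iv F63150) D31927 (iv D29370) (iv D25662) (iv F52668)
def n31928 : Q := act 1 n29345
theorem D31928 : act 1 n29345 = n31928 := rfl
theorem F71664 : act 3 n31928 = n30850 := d7_2 F64044 D31928 F67986
theorem F71665 : act 4 n31928 = n30133 := d8_2 F63160 D31928 F65559
theorem F71666 : act 0 n30135 = n31928 := d3_3 F71665 F65552 (iv F65555)
theorem F71667 : act 6 n30131 = n31928 := d19_0 F71665 (iv D30133) D30131
def n31929 : Q := act 2 n29350
theorem D31929 : act 2 n29350 = n31929 := rfl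
theorem F71668 : act 0 n31929 = n29352 := d1_1 D31929 (iv D29352) (iv F63165)
theorem F71669 : act 1 n31929 = n29527 := d6_1 D31929 F63582 D29531 F63610 F63603
theorem F71670 : act 6 n31929 = n31916 := d14_2 (iv F63166) D31929 (iv D31916)
def n31930 : Q := act 4 n29350
theorem D31930 : act 4 n29350 = n31930 := rfl
theorem F71671 : act 0 n31930 = n29353 := d3_1 D31930 (iv D29353) (iv F63165)
theorem F71672 : act 6 n31930 = n31915 := d19_2 (iv F63166) D31930 F71629
def n31931 : Q := act 5 n29350
theorem D31931 : act 5 n29350 = n31931 := rfl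
theorem F71673 : act 0 n31931 = n29354 := d4_1 D31931 (iv D29354) (iv F63165)
theorem F71674 : act 3 n31931 = n29351 := d16_1 D31931 (iv D29351) D29350
theorem F71675 : act 6 n31931 = n29362 := d20_2 (iv F63166) D31931 F63190 (iv D29355) D29354 F63171 (iv F63128)
def n31932 : Q := act 1 n29351
theorem D31932 : act 1 n29351 = n31932 := rfl
def n31933 : Q := act 4 n29352
theorem D31933 : act 4 n29352 = n31933 := rfl
theorem F71676 : act 2 n31933 = n29353 := d12_1 D31933 (iv D29353) D29352
def n31934 : Q := act 5 n29353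
theorem D31934 : act 5 n29353 = n31934 := rfl
theorem F71677 : act 4 n31934 = n29354 := d18_1 D31934 (iv D29354) D29353
theorem F71678 : act 6 n31934 = n29361 := d22_1 D31934 (iv F71630) (iv F71672) F71671
def n31935 : Q := act 6 n29353
theorem D31935 : act 6 n29353 = n31935 := rfl
theorem F71679 : act 0 n31935 = n31915 := d5_1 D31935 (iv F71672) F71671
theorem F71680 : act 1 n31935 = n29389 := d10_1 D31935 (iv D29389) F52690 (iv F52660) (iv F63169)
theorem F71681 : act 4 n31935 = n29355 := d19_1 D31935 (iv D29355) D29353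
def n31936 : Q := act 6 n29356
theorem D31936 : act 6 n29356 = n31936 := rfl
theorem F71682 : act 1 n31936 = n29412 := d10_1 D31936 (iv D29412) F52704 (iv F52662) (iv F63175)
theorem F71683 : act 3 n31936 = n29499 := d17_1 D31936 (iv D29499) (iv F63176)
theorem F71684 : act 4 n31936 = n29357 := d19_1 D31936 (iv D29357) D29356
theorem F71685 : act 5 n31936 = n30002 := d22_2 (iv F63177) D31936 (iv D30002) F54125
def n31937 : Q := act 2 n29358
theorem D31937 : act 2 n29358 = n31937 := rfl
theorem F71686 : act 1 n31937 = n29472 := d6_1 D31937 F63439 F52810 (iv F52855) (iv F63181)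
theorem F71687 : act 4 n31937 = n29470 := d12_2 (iv F63182) D31937 F63430
theorem F71688 : act 6 n31937 = n29416 := d14_2 (iv F63183) D31937 (iv D29416)
def n31938 : Q := act 5 n29358
theorem D31938 : act 5 n29358 = n31938 := rfl
theorem F71689 : act 1 n31938 = n29551 := d9_1 D31938 (iv D29551) F52923 (iv F52856) (iv F63181)
theorem F71690 : act 3 n31938 = n29359 := d16_1 D31938 (iv D29359) D29358
theorem F71691 : act 4 n31938 = n29498 := d18_1 D31938 (iv D29498) (iv F63182)
theorem F71692 : act 6 n31938 = n29802 := d22_1 D31938 (iv D29802) (iv F64145) F64143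
def n31939 : Q := act 1 n29359
theorem D31939 : act 1 n29359 = n31939 := rfl
theorem F71693 : act 3 n31939 = n29551 := d7_2 F71690 D31939 (iv F71689)
theorem F71694 : act 4 n31939 = n29360 := d8_2 (iv F63185) D31939 (iv D29360)
theorem F71695 : act 5 n31939 = n29550 := d9_2 D29359 D31939 F63638 (iv F63177) F63175
def n31940 : Q := act 0 n29361
theorem D31940 : act 0 n29361 = n31940 := rfl
theorem F71696 : act 4 n31940 = n29362 := d3_2 (iv F63188) D31940 (iv D29362)
theorem F71697 : act 5 n31940 = n31935 := d4_2 F71630 D31940 F71679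
def n31941 : Q := act 2 n29361
theorem D31941 : act 2 n29361 = n31941 := rfl
theorem F71698 : act 4 n31941 = n29363 := d12_2 (iv F63188) D31941 (iv D29363)
def n31942 : Q := act 1 n29362
theorem D31942 : act 1 n29362 = n31942 := rfl
theorem F71699 : act 3 n31942 = n29364 := d7_2 (iv F63189) D31942 (iv D29364)
def n31943 : Q := act 2 n29362
theorem D31943 : act 2 n29362 = n31943 := rfl
theorem F71700 : act 0 n31943 = n29363 := d1_1 D31943 (iv D29363) D29362
theorem F71701 : act 5 n31943 = n29920 := d13_2 (iv F63190) D31943 (iv F64890)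
theorem F71702 : act 3 n31943 = n29921 := d21_1 D31943 F64893 (iv F70280) F70279 (iv D29366) (iv D25658) (iv F52667) D29362
theorem F71703 : act 1 n29997 = n31943 := d7_3 F71702 F64892 (iv F65148)
def n31944 : Q := act 0 n29364
theorem D31944 : act 0 n29364 = n31944 := rfl
theorem F71704 : act 6 n29569 = n31944 := d22_3 (iv F63258) (iv F63600) (iv F63682) (iv D31944)
def n31945 : Q := act 2 n29364
theorem D31945 : act 2 n29364 = n31945 := rfl
theorem F71705 : act 5 n31945 = n30574 := d13_2 F63258 D31945 F67082
theorem F71706 : act 1 n31696 = n31945 := d9_5 F71705 (iv D30574) F56944 (iv F62458) D31696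
def n31946 : Q := act 6 n29364
theorem D31946 : act 6 n29364 = n31946 := rfl
theorem F71707 : act 0 n31946 = n29569 := d5_1 D31946 F71704 (iv D31944)
theorem F71708 : act 4 n31946 = n31944 := d19_1 D31946 (iv F71704) F63681
def n31947 : Q := act 1 n29365
theorem D31947 : act 1 n29365 = n31947 := rfl
theorem F71709 : act 2 n31947 = n31696 := d6_2 D29365 D31947 F71706 (iv D31945) (iv D29364)
theorem F71710 : act 5 n31947 = n31693 := d9_2 (iv F63192) D31947 F70889 F67062 (iv F63152)
theorem F71711 : act 0 n31947 = n30079 := d23_3 (iv F52729) D29365 D31947 (iv F65406) F63217 (iv D28386) F49746 (iv D24519) (iv D20170) (iv D14960) (iv F20449) (iv D11542) (iv F20447) D15019 (iv F41326) D16175 (iv F41318) D25636 (iv F52730)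
theorem F71712 : act 6 n31947 = n30060 := d24_3 D29344 (iv F63192) D31947 (iv F70886) F70882 (iv F62626) D29372 F63210 (iv F68737) (iv D31058) F59290 F52655 (iv D25645) D25643
theorem F71713 : act 3 n30062 = n31947 := d17_3 F71712 (iv D30060) D30062
def n31948 : Q := act 3 n29365
theorem D31948 : act 3 n29365 = n31948 := rfl
theorem F71714 : act 0 n31948 = n29366 := d2_1 D31948 (iv D29366) (iv F63191)
theorem F71715 : act 1 n31948 = n30062 := d7_1 D31948 F71713 (iv D31947)
theorem F71716 : act 5 n31948 = n31926 := d16_2 (iv F63192) D31948 F71659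
theorem F71717 : act 4 n30064 = n31948 := d8_0 F71715 F65340 D30064
def n31949 : Q := act 1 n29369
theorem D31949 : act 1 n29369 = n31949 := rfl
theorem F71718 : act 2 n31949 = n31036 := d6_2 F69183 D31949 F69202 (iv D31171) (iv F69182)
theorem F71719 : act 3 n31949 = n29370 := d7_2 (iv F63203) D31949 (iv D29370)
theorem F71720 : act 4 n31949 = n30084 := d8_2 F69190 D31949 (iv F69188)
theorem F71721 : act 5 n31949 = n30081 := d9_2 F63216 D31949 (iv D30081) D30082 (iv F65404)
def n31950 : Q := act 0 n29370
theorem D31950 : act 0 n29370 = n31950 := rfl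
theorem F71722 : act 1 n31950 = n31900 := d0_2 D29370 D31950 F71571 (iv D30604) (iv F63411) F63412 F61502 F61073 F52681
theorem F71723 : act 2 n31950 = n31635 := d1_2 (iv F63204) D31950 (iv D31635)
theorem F71724 : act 4 n31950 = n31901 := d3_2 F63692 D31950 F71575
theorem F71725 : act 5 n31950 = n31905 := d22_0 F71592 (iv F71662) F71663 D31950
def n31951 : Q := act 5 n29370
theorem D31951 : act 5 n29370 = n31951 := rfl
theorem F71726 : act 0 n31951 = n31905 := d4_1 D31951 (iv F71725) (iv D31950)
theorem F71727 : act 1 n31951 = n30079 := d9_1 D31951 (iv F65406) (iv D29374) F52678 D29370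
theorem F71728 : act 2 n31951 = n29458 := d13_1 D31951 F63388 (iv F63204)
theorem F71729 : act 3 n31951 = n30081 := d16_1 D31951 (iv F71721) F71719
theorem F71730 : act 4 n31951 = n31906 := d18_1 D31951 F71594 F63692
theorem F71731 : act 6 n31951 = n31391 := d22_3 (iv F71662) F71663 D31951 F69922
def n31952 : Q := act 1 n29377
theorem D31952 : act 1 n29377 = n31952 := rfl
def n31953 : Q := act 2 n29379
theorem D31953 : act 2 n29379 = n31953 := rfl
theorem F71732 : act 0 n31953 = n31953 := d1_1 D31953 (iv D31953) F63227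
def n31954 : Q := act 4 n29379
theorem D31954 : act 4 n29379 = n31954 := rfl
theorem F71733 : act 0 n31954 = n31954 := d3_1 D31954 (iv D31954) F63227
theorem F71734 : act 1 n31954 = n29381 := d8_1 D31954 (iv D29381) (iv F63228)
def n31955 : Q := act 1 n29380
theorem D31955 : act 1 n29380 = n31955 := rfl
theorem F71735 : act 0 n31955 = n30006 := d0_1 D31955 (iv D30006) (iv F65081) (iv F69063) F69062 F59699 F59590 F53519 (iv F63229)
theorem F71736 : act 3 n31955 = n29999 := d7_2 (iv F63230) D31955 (iv D29999)
theorem F71737 : act 6 n31955 = n30006 := d10_2 F63231 D31955 (iv D30006) (iv D26272) (iv F54114)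
def n31956 : Q := act 4 n29380
theorem D31956 : act 4 n29380 = n31956 := rfl
theorem F71738 : act 0 n31956 = n29385 := d3_1 D31956 (iv D29385) (iv F63229)
theorem F71739 : act 2 n31956 = n29381 := d12_1 D31956 (iv D29381) D29380
theorem F71740 : act 3 n31956 = n29994 := d15_1 D31956 F65140 F54113 (iv F54118) (iv F63230)
theorem F71741 : act 6 n31956 = n29992 := d19_2 F63231 D31956 F65138
def n31957 : Q := act 5 n29381
theorem D31957 : act 5 n29381 = n31957 := rfl
theorem F71742 : act 0 n31957 = n29388 := d4_1 D31957 (iv D29388) (iv F63232)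
theorem F71743 : act 4 n31957 = n29382 := d18_1 D31957 (iv D29382) D29381
def n31958 : Q := act 6 n29381
theorem D31958 : act 6 n29381 = n31958 := rfl
theorem F71744 : act 0 n31958 = n29389 := d5_1 D31958 (iv D29389) (iv F63232)
theorem F71745 : act 2 n31958 = n29992 := d14_1 D31958 (iv F71741) F71739
theorem F71746 : act 4 n31958 = n29383 := d19_1 D31958 (iv D29383) D29381
def n31959 : Q := act 3 n29385
theorem D31959 : act 3 n29385 = n31959 := rfl
theorem F71747 : act 0 n31959 = n29994 := d2_1 D31959 (iv F71740) F71738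
theorem F71748 : act 4 n31959 = n29986 := d15_2 D29385 D31959 F65124 F63241 (iv D29384)
theorem F71749 : act 6 n29984 = n31959 := d19_0 F71748 (iv D29986) D29984
def n31960 : Q := act 5 n29385
theorem D31960 : act 5 n29385 = n31960 := rfl
theorem F71750 : act 2 n31960 = n29388 := d13_1 D31960 (iv D29388) (iv F63243)
theorem F71751 : act 4 n31960 = n29386 := d18_1 D31960 (iv D29386) D29385
def n31961 : Q := act 6 n29385
theorem D31961 : act 6 n29385 = n31961 := rfl
theorem F71752 : act 0 n31961 = n29992 := d5_1 D31961 (iv F71741) F71738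
theorem F71753 : act 2 n31961 = n29389 := d14_1 D31961 (iv D29389) (iv F63243)
theorem F71754 : act 3 n31961 = n29984 := d17_1 D31961 F71749 (iv D31959)
theorem F71755 : act 4 n31961 = n29387 := d19_1 D31961 (iv D29387) D29385
def n31962 : Q := act 1 n29386
theorem D31962 : act 1 n29386 = n31962 := rfl
theorem F71756 : act 2 n31962 = n29492 := d6_2 (iv F63244) D31962 F63494 F63266 (iv D29390)
theorem F71757 : act 0 n29494 = n31962 := d1_3 F71756 F63493 D29494
def n31963 : Q := act 5 n29387
theorem D31963 : act 5 n29387 = n31963 := rfl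
theorem F71758 : act 0 n31963 = n29997 := d4_1 D31963 (iv D29997) (iv F63245)
theorem F71759 : act 2 n31963 = n29392 := d13_1 D31963 (iv D29392) (iv F63246)
theorem F71760 : act 3 n31963 = n29987 := d16_1 D31963 (iv D29987) (iv F63247)
theorem F71761 : act 6 n31963 = n29804 := d20_2 D29387 D31963 (iv F64480) (iv F63231) D29997 F65149 (iv D29386)
def n31964 : Q := act 1 n29388
theorem D31964 : act 1 n29388 = n31964 := rfl
theorem F71762 : act 4 n31964 = n29390 := d8_2 (iv F63248) D31964 (iv D29390)
theorem F71763 : act 5 n31964 = n29396 := d9_2 D29388 D31964 (iv D29396) (iv D25683) (iv F52690)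
def n31965 : Q := act 6 n29388
theorem D31965 : act 6 n29388 = n31965 := rfl
theorem F71764 : act 4 n31965 = n29391 := d19_1 D31965 (iv D29391) (iv F63248)
theorem F71765 : act 5 n31965 = n31958 := d22_2 D29388 D31965 (iv D31958) F63232
def n31966 : Q := act 5 n29389
theorem D31966 : act 5 n29389 = n31966 := rfl
theorem F71766 : act 0 n31966 = n31965 := d4_1 D31966 F71765 F71744
theorem F71767 : act 4 n31966 = n29392 := d18_1 D31966 (iv D29392) (iv F63249)
theorem F71768 : act 6 n31966 = n31957 := d20_2 D29389 D31966 (iv D31957) D31958 (iv F71765) (iv D31965) (iv D29388)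
def n31967 : Q := act 1 n29391
theorem D31967 : act 1 n29391 = n31967 := rfl
theorem F71769 : act 2 n31967 = n31942 := d6_2 F65147 D31967 (iv D31942) D31943 (iv F71703)
theorem F71770 : act 3 n31967 = n29394 := d7_2 (iv F63252) D31967 (iv D29394)
def n31968 : Q := act 1 n29392
theorem D31968 : act 1 n29392 = n31968 := rfl
theorem F71771 : act 3 n31968 = n29395 := d7_2 (iv F63255) D31968 (iv D29395)
theorem F71772 : act 5 n31968 = n31942 := d9_2 D29392 D31968 (iv D31942) F63190 F63173
def n31969 : Q := act 3 n29393
theorem D31969 : act 3 n29393 = n31969 := rfl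
theorem F71773 : act 5 n31969 = n29402 := d16_2 (iv F63257) D31969 (iv D29402)
theorem F71774 : act 2 n31969 = n29402 := d21_2 D29393 D31969 (iv D29402) (iv D25686) (iv F52700) D29398 (iv F63262) F52727
def n31970 : Q := act 0 n29394
theorem D31970 : act 0 n29394 = n31970 := rfl
def n31971 : Q := act 2 n29394
theorem D31971 : act 2 n29394 = n31971 := rfl
theorem F71775 : act 1 n31971 = n30465 := d6_1 D31971 F66684 F57286 F57282 D29394
theorem F71776 : act 4 n31971 = n30581 := d12_2 F63594 D31971 F67096
theorem F71777 : act 5 n31971 = n30581 := d13_2 F63595 D31971 F67096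
theorem F71778 : act 0 n31932 = n29533 := d23_19 F63595 D31971 F71775 F66683 (iv D26981) (iv D22748) (iv D18184) F23379 D13314 (iv F25943) D20114 (iv F41337) (iv D21366) D21365 D25643 D29341 D31922 F71652 D31932
theorem F71779 : act 4 n31970 = n31932 := d3_0 F71778 F63594 D31970
theorem F71780 : act 5 n31970 = n31932 := d4_0 F71778 F63595 D31970
theorem F71781 : act 1 n29541 = n31970 := d9_5 F71780 (iv D31932) (iv D29351) (iv F52915) D29541
def n31972 : Q := act 0 n29395
theorem D31972 : act 0 n29395 = n31972 := rfl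
theorem F71782 : act 1 n31972 = n29493 := d0_2 D29395 D31972 F63496 (iv F52919) (iv F63617) F71781 (iv D31970) (iv D29394) (iv F52695)
theorem F71783 : act 5 n31972 = n31944 := d4_2 (iv F63258) D31972 (iv D31944)
def n31973 : Q := act 0 n29396
theorem D31973 : act 0 n29396 = n31973 := rfl
theorem F71784 : act 4 n31973 = n29397 := d3_2 (iv F63259) D31973 (iv D29397)
theorem F71785 : act 2 n31964 = n31973 := d12_3 F71784 F63266 (iv F71762)
def n31974 : Q := act 2 n29396
theorem D31974 : act 2 n29396 = n31974 := rfl
theorem F71786 : act 0 n31974 = n31964 := d1_1 D31974 F71785 (iv D31973)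
theorem F71787 : act 1 n31974 = n29425 := d6_1 D31974 F64476 (iv D29803) F53537 D29396
theorem F71788 : act 4 n31974 = n29398 := d12_2 (iv F63259) D31974 (iv D29398)
theorem F71789 : act 5 n31974 = n31973 := d13_2 F71763 D31974 (iv F71785)
theorem F71790 : act 6 n29426 = n31974 := d19_0 F71788 (iv F63263) (iv F63321)
def n31975 : Q := act 6 n29396
theorem D31975 : act 6 n29396 = n31975 := rfl
theorem F71791 : act 1 n31975 = n31934 := d10_1 D31975 F71678 (iv D29361) (iv F52699) D29396
theorem F71792 : act 2 n31975 = n29426 := d14_1 D31975 F71790 (iv D31974)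
theorem F71793 : act 4 n31975 = n29399 := d19_1 D31975 (iv D29399) (iv F63259)
theorem F71794 : act 5 n31975 = n29426 := d22_2 F71763 D31975 F71790 F71786
def n31976 : Q := act 6 n29397
theorem D31976 : act 6 n29397 = n31976 := rfl
theorem F71795 : act 0 n31976 = n29399 := d5_1 D31976 (iv D29399) D29397
theorem F71796 : act 2 n31976 = n29427 := d14_1 D31976 F63323 (iv F63266)
theorem F71797 : act 3 n31976 = n29401 := d17_1 D31976 (iv D29401) (iv F63260)
theorem F71798 : act 5 n31976 = n29427 := d20_1 D31976 F63323 F63251 D29399 F63270 F63263 F63265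
def n31977 : Q := act 1 n29400
theorem D31977 : act 1 n29400 = n31977 := rfl
theorem F71799 : act 0 n31977 = n29446 := d0_1 D31977 (iv D29446) F52760 F41416 (iv F41423) F51964 F51962 (iv F52701) (iv F63271)
theorem F71800 : act 5 n31977 = n29446 := d9_2 F63326 D31977 (iv D29446) (iv F60940) (iv F63325)
def n31978 : Q := act 3 n29400
theorem D31978 : act 3 n29400 = n31978 := rfl
theorem F71801 : act 0 n31978 = n29402 := d2_1 D31978 (iv D29402) (iv F63271)
def n31979 : Q := act 6 n29400
theorem D31979 : act 6 n29400 = n31979 := rfl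
theorem F71802 : act 0 n31979 = n29403 := d5_1 D31979 (iv D29403) (iv F63271)
theorem F71803 : act 2 n31979 = n29401 := d14_1 D31979 (iv D29401) D29400
theorem F71804 : act 5 n31979 = n29430 := d20_1 D31979 F63330 F63257 D29403 (iv F63276) (iv F63327) F63326
def n31980 : Q := act 1 n29401
theorem D31980 : act 1 n29401 = n31980 := rfl
theorem F71805 : act 0 n31980 = n29535 := d0_1 D31980 (iv D29535) F52907 D29533 (iv F71778) (iv D31932) F63167 F52724 (iv F63272)
theorem F71806 : act 4 n31980 = n31972 := d8_2 F63497 D31980 F71782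
theorem F71807 : act 6 n31980 = n31972 := d10_2 D29401 D31980 F71782 (iv D29493) F52843
theorem F71808 : act 5 n31946 = n31980 := d24_1 D31946 (iv D31980) (iv D29401) F52726 (iv D25702) (iv D21398) F28014 (iv D16196) D16197 F28017 D21368 D25650 (iv F52729) D29364
def n31981 : Q := act 4 n29402
theorem D31981 : act 4 n29402 = n31981 := rfl
theorem F71809 : act 1 n31981 = n29405 := d8_1 D31981 (iv D29405) (iv F63274)
def n31982 : Q := act 6 n29402
theorem D31982 : act 6 n29402 = n31982 := rfl
theorem F71810 : act 1 n31982 = n31367 := d10_1 D31982 (iv F69839) F63390 F62259 (iv F63274)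
theorem F71811 : act 3 n31982 = n29403 := d17_1 D31982 (iv D29403) D29402
theorem F71812 : act 5 n29431 = n31982 := d16_0 F71811 (iv F63276) D29431
def n31983 : Q := act 1 n29404
theorem D31983 : act 1 n29404 = n31983 := rfl
theorem F71813 : act 3 n31983 = n31647 := d7_2 (iv F63278) D31983 (iv D31647)
theorem F71814 : act 4 n31983 = n31336 := d8_2 F63280 D31983 F69754
theorem F71815 : act 6 n31983 = n31331 := d10_2 (iv F63279) D31983 (iv F70963) F70966 (iv D31230)
def n31984 : Q := act 0 n29406
theorem D31984 : act 0 n29406 = n31984 := rfl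
theorem F71816 : act 1 n31984 = n30005 := d0_2 D29406 D31984 F65177 F64417 F53512 F41854 F28290 D21392 D25689
theorem F71817 : act 3 n31984 = n31652 := d2_2 F64326 D31984 F70720
theorem F71818 : act 5 n31984 = n31984 := d4_2 F63288 D31984 (iv D31984)
def n31985 : Q := act 4 n29406
theorem D31985 : act 4 n29406 = n31985 := rfl
theorem F71819 : act 1 n31985 = n29407 := d8_1 D31985 (iv D29407) D29406
theorem F71820 : act 3 n31985 = n29424 := d15_1 D31985 F63318 (iv F63092) (iv F64383) F64326
theorem F71821 : act 5 n31985 = n31985 := d18_2 F63288 D31985 (iv D31985)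
def n31986 : Q := act 3 n29407
theorem D31986 : act 3 n29407 = n31986 := rfl
theorem F71822 : act 0 n31986 = n29410 := d2_1 D31986 (iv D29410) (iv F63283)
theorem F71823 : act 1 n31986 = n29424 := d7_1 D31986 (iv F71820) F71819
theorem F71824 : act 4 n31986 = n29421 := d15_2 D29407 D31986 (iv F64382) (iv D29765) F53485
theorem F71825 : act 6 n31986 = n31939 := d17_2 (iv F64367) D31986 F71693
theorem F71826 : act 2 n29418 = n31986 := d12_3 F71824 (iv D29421) (iv F63304)
def n31987 : Q := act 5 n29407
theorem D31987 : act 5 n29407 = n31987 := rfl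
theorem F71827 : act 0 n31987 = n29411 := d4_1 D31987 (iv D29411) (iv F63283)
theorem F71828 : act 1 n31987 = n31987 := d9_1 D31987 (iv D31987) (iv F71819) F71821 F71819
theorem F71829 : act 2 n31987 = n31987 := d13_1 D31987 (iv D31987) F63284
theorem F71830 : act 4 n31987 = n29408 := d18_1 D31987 (iv D29408) D29407
theorem F71831 : act 6 n31987 = n29547 := d20_2 (iv F64367) D31987 (iv F64369) (iv D29412) D29411 F64357 D29551
def n31988 : Q := act 2 n29410
theorem D31988 : act 2 n29410 = n31988 := rfl
theorem F71832 : act 0 n31988 = n29418 := d1_1 D31988 F71826 F71822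
theorem F71833 : act 4 n31988 = n29420 := d12_2 F64335 D31988 (iv F64387)
theorem F71834 : act 3 n31132 = n31988 := d15_5 F71833 F63309 (iv D28136) D28135 D31132
def n31989 : Q := act 5 n29410
theorem D31989 : act 5 n29410 = n31989 := rfl
theorem F71835 : act 3 n31989 = n29411 := d16_1 D31989 (iv D29411) D29410
theorem F71836 : act 6 n31989 = n29550 := d22_1 D31989 (iv F71695) (iv F71825) F71822
def n31990 : Q := act 6 n29410
theorem D31990 : act 6 n29410 = n31990 := rfl
theorem F71837 : act 0 n31990 = n31939 := d5_1 D31990 (iv F71825) F71822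
theorem F71838 : act 1 n31990 = n29499 := d10_1 D31990 (iv D29499) (iv F63181) F63183 (iv F63291)
theorem F71839 : act 3 n31990 = n29412 := d17_1 D31990 (iv D29412) D29410
theorem F71840 : act 4 n31990 = n29500 := d19_1 D31990 (iv F64336) F64335
def n31991 : Q := act 1 n29411
theorem D31991 : act 1 n29411 = n31991 := rfl
theorem F71841 : act 4 n31991 = n29413 := d8_2 (iv F63293) D31991 (iv D29413)
theorem F71842 : act 5 n31991 = n29418 := d9_2 D29411 D31991 (iv D29418) (iv D25694) (iv F52704)
theorem F71843 : act 6 n31991 = n29558 := d10_2 (iv F64357) D31991 (iv D29558) (iv D25798) (iv F52923)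
def n31992 : Q := act 0 n29413
theorem D31992 : act 0 n29413 = n31992 := rfl
theorem F71844 : act 3 n31992 = n31135 := d2_2 F64338 D31992 F69035
theorem F71845 : act 5 n31992 = n29420 := d4_2 (iv F63296) D31992 (iv D29420)
theorem F71846 : act 6 n31992 = n29560 := d5_2 (iv F64356) D31992 (iv D29560)
def n31993 : Q := act 2 n29413
theorem D31993 : act 2 n29413 = n31993 := rfl
theorem F71847 : act 1 n31993 = n31993 := d6_1 D31993 (iv D31993) (iv D29413) F52706 D29413
theorem F71848 : act 5 n31993 = n29421 := d13_2 (iv F63296) D31993 (iv D29421)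
theorem F71849 : act 6 n31993 = n29561 := d14_2 (iv F64356) D31993 (iv D29561)
def n31994 : Q := act 1 n29416
theorem D31994 : act 1 n29416 = n31994 := rfl
theorem F71850 : act 4 n31994 = n29794 := d8_2 (iv F63302) D31994 F64445
theorem F71851 : act 6 n29792 = n31994 := d19_0 F71850 (iv D29794) (iv F64443)
def n31995 : Q := act 5 n29416
theorem D31995 : act 5 n29416 = n31995 := rfl
theorem F71852 : act 2 n31995 = n29417 := d13_1 D31995 (iv D29417) D29416
theorem F71853 : act 4 n31995 = n29981 := d18_1 D31995 F65109 (iv F63302)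
theorem F71854 : act 1 n29984 = n31995 := d8_3 F71853 F65107 D29984
def n31996 : Q := act 1 n29417
theorem D31996 : act 1 n29417 = n31996 := rfl
theorem F71855 : act 2 n31996 = n31132 := d6_2 F71852 D31996 F69031 F68911 F71854
theorem F71856 : act 3 n31996 = n29418 := d7_2 (iv F63303) D31996 (iv D29418)
theorem F71857 : act 4 n31996 = n31126 := d8_2 F64347 D31996 F69015
theorem F71858 : act 0 n31132 = n31996 := d3_3 F71857 F69014 D31132
def n31997 : Q := act 6 n29417
theorem D31997 : act 6 n29417 = n31997 := rfl
theorem F71859 : act 0 n31997 = n31938 := d5_1 D31997 F71692 F64472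
theorem F71860 : act 3 n31997 = n29419 := d17_1 D31997 (iv D29419) (iv F63303)
theorem F71861 : act 4 n31997 = n29706 := d19_1 D31997 (iv F64348) F64347
theorem F71862 : act 5 n31997 = n29704 := d20_1 D31997 F64145 D29802 (iv F71692) (iv D31938) F63183 D29417
def n31998 : Q := act 6 n29418
theorem D31998 : act 6 n29418 = n31998 := rfl
theorem F71863 : act 2 n31998 = n31939 := d14_1 D31998 (iv F71825) (iv F71826)
theorem F71864 : act 4 n31998 = n29422 := d19_1 D31998 (iv D29422) (iv F63304)
theorem F71865 : act 1 n31941 = n31998 := d8_3 F71864 (iv F63313) (iv F71698)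
def n31999 : Q := act 1 n29419
theorem D31999 : act 1 n29419 = n31999 := rfl
theorem F71866 : act 2 n31999 = n31934 := d6_2 (iv F63306) D31999 (iv F71791) F71792 (iv D29426)
theorem F71867 : act 4 n31999 = n29423 := d8_2 (iv F63307) D31999 (iv D29423)
theorem F71868 : act 6 n31999 = n31941 := d10_2 D29419 D31999 F71865 (iv D31998) (iv D29418)
theorem F71869 : act 5 n31933 = n31999 := d18_0 F71867 (iv F63317) D31933
def n32000 : Q := act 0 n29423
theorem D32000 : act 0 n29423 = n32000 := rfl
theorem F71870 : act 2 n32000 = n31931 := d1_2 (iv F63314) D32000 F71673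
theorem F71871 : act 3 n32000 = n29708 := d2_2 (iv F63315) D32000 (iv D29708)
theorem F71872 : act 5 n32000 = n31929 := d4_2 F63317 D32000 F71668
theorem F71873 : act 6 n32000 = n31943 := d5_2 (iv F63316) D32000 F71700
def n32001 : Q := act 0 n29426
theorem D32001 : act 0 n29426 = n32001 := rfl
theorem F71874 : act 4 n32001 = n29427 := d3_2 (iv F63321) D32001 (iv D29427)
theorem F71875 : act 6 n32001 = n31964 := d5_2 (iv F71790) D32001 (iv F71786)
def n32002 : Q := act 1 n29427
theorem D32002 : act 1 n29427 = n32002 := rfl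
theorem F71876 : act 3 n32002 = n29429 := d7_2 (iv F63322) D32002 (iv D29429)
theorem F71877 : act 6 n32002 = n31967 := d10_2 (iv F63323) D32002 (iv D31967) (iv D29391) D29390
def n32003 : Q := act 3 n29428
theorem D32003 : act 3 n29428 = n32003 := rfl
theorem F71878 : act 0 n32003 = n31969 := d2_1 D32003 (iv D31969) (iv F63324)
theorem F71879 : act 1 n32003 = n30596 := d7_1 D32003 F67127 (iv F63325)
theorem F71880 : act 2 n32003 = n31978 := d11_1 D32003 (iv D31978) (iv D29400) (iv F63260) F63266 F63250 D29393 D31969 F71774 (iv D29402) (iv D25686) (iv F52700) D29398 (iv F63262) D29428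
theorem F71881 : act 5 n32003 = n31978 := d16_2 (iv F63326) D32003 (iv D31978)
theorem F71882 : act 6 n32003 = n29431 := d17_2 (iv F63327) D32003 (iv D29431)
def n32004 : Q := act 0 n29429
theorem D32004 : act 0 n29429 = n32004 := rfl
theorem F71883 : act 1 n32004 = n31944 := d0_2 D29429 D32004 (iv D31944) (iv D29364) (iv D25657) (iv D21373) (iv F28015) D21399 D25703
theorem F71884 : act 6 n32004 = n31970 := d5_2 (iv F63328) D32004 (iv D31970)
theorem F71885 : act 5 n32004 = n29504 := d22_0 (iv F63596) F63595 (iv F63328) D32004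
def n32005 : Q := act 2 n29429
theorem D32005 : act 2 n29429 = n32005 := rfl
theorem F71886 : act 6 n32005 = n31971 := d14_2 (iv F63328) D32005 (iv D31971)
theorem F71887 : act 1 n31796 = n32005 := d10_5 F71886 F71775 F66686 F62680 D31796
def n32006 : Q := act 5 n29429
theorem D32006 : act 5 n29429 = n32006 := rfl
theorem F71888 : act 0 n32006 = n29504 := d4_1 D32006 (iv F71885) (iv D32004)
theorem F71889 : act 1 n32006 = n31946 := d9_1 D32006 F71808 (iv D31980) F63273 D29429
theorem F71890 : act 4 n32006 = n32004 := d18_1 D32006 F71885 F63517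
theorem F71891 : act 6 n32006 = n31932 := d20_2 (iv F63328) D32006 (iv F71780) (iv F71884) F71885 (iv F63596) F63595
def n32007 : Q := act 1 n29430
theorem D32007 : act 1 n29430 = n32007 := rfl
theorem F71892 : act 2 n32007 = n31796 := d6_2 D29430 D32007 F71887 (iv D32005) (iv D29429)
theorem F71893 : act 6 n32007 = n31795 := d10_2 (iv F63330) D32007 F71230 F69156 F67326
theorem F71894 : act 0 n31797 = n32007 := d5_3 F71893 F71229 D31797
def n32008 : Q := act 3 n29430
theorem D32008 : act 3 n29430 = n32008 := rfl
theorem F71895 : act 0 n32008 = n29431 := d2_1 D32008 (iv D29431) (iv F63329)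
theorem F71896 : act 6 n32008 = n31969 := d17_2 (iv F63330) D32008 (iv D31969)
theorem F71897 : act 2 n32008 = n31982 := d21_2 D29430 D32008 F71811 F63275 (iv F63269) F63268 F52721 D25703
def n32009 : Q := act 2 n29431
theorem D32009 : act 2 n29431 = n32009 := rfl
theorem F71898 : act 0 n32009 = n31982 := d1_1 D32009 (iv F71897) F71895
theorem F71899 : act 1 n32009 = n30590 := d6_1 D32009 (iv D30590) (iv D27205) (iv F52737) (iv F63331)
theorem F71900 : act 3 n32009 = n31979 := d11_2 D29431 D32009 F71803 (iv F71797) F71796 F63322 D29430 D32008 F71897 F71811 F63275 (iv F63269) F63268 F52721 D25704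
theorem F71901 : act 5 n32009 = n32008 := d13_2 (iv F71812) D32009 F71897
theorem F71902 : act 6 n32009 = n31978 := d14_2 F71882 D32009 (iv F71880)
def n32010 : Q := act 4 n29431
theorem D32010 : act 4 n29431 = n32010 := rfl
theorem F71903 : act 1 n32010 = n29432 := d8_1 D32010 (iv D29432) (iv F63331)
theorem F71904 : act 3 n32010 = n31465 := d15_1 D32010 F70142 (iv D29506) F52866 D29431
def n32011 : Q := act 0 n29433
theorem D32011 : act 0 n29433 = n32011 := rfl
theorem F71905 : act 2 n32011 = n31391 := d1_2 (iv F63336) D32011 F69922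
theorem F71906 : act 3 n32011 = n29452 := d2_2 F67133 D32011 (iv F67135)
theorem F71907 : act 5 n32011 = n30597 := d4_2 (iv F70678) D32011 (iv F70675)
theorem F71908 : act 6 n29458 = n32011 := d22_3 F70678 (iv D31636) (iv F63388) (iv D32011)
theorem F71909 : act 1 n32011 = n29451 := d10_1 F71908 (iv D29451) F52763 D25723 D29458
def n32012 : Q := act 6 n29433
theorem D32012 : act 6 n29433 = n32012 := rfl
theorem F71910 : act 0 n32012 = n29458 := d5_1 D32012 F71908 (iv D32011)
theorem F71911 : act 1 n32012 = n31797 := d10_1 D32012 (iv D31797) F62681 (iv F52740) D29433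
theorem F71912 : act 2 n32012 = n31905 := d14_1 D32012 F71592 (iv F63336)
theorem F71913 : act 3 n32012 = n29459 := d17_1 D32012 (iv F67134) F67133
theorem F71914 : act 4 n32012 = n31907 := d19_1 D32012 F71599 F63533
theorem F71915 : act 5 n32012 = n31635 := d20_1 D32012 F70674 (iv F71907) (iv F71908) F63388 D31636 (iv F70678)
def n32013 : Q := act 3 n29434
theorem D32013 : act 3 n29434 = n32013 := rfl
theorem F71916 : act 0 n32013 = n32013 := d2_1 D32013 (iv D32013) F63337
theorem F71917 : act 1 n32013 = n29435 := d7_1 D32013 (iv D29435) D29434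
theorem F71918 : act 6 n31637 = n32013 := d10_0 F71917 F63341 F60394 (iv F62266) D31637
def n32014 : Q := act 6 n29434
theorem D32014 : act 6 n29434 = n32014 := rfl
theorem F71919 : act 0 n32014 = n32014 := d5_1 D32014 (iv D32014) F63337
theorem F71920 : act 1 n32014 = n31227 := d10_1 D32014 (iv D31227) (iv D28371) (iv F52744) D29434
theorem F71921 : act 2 n32014 = n32013 := d14_1 D32014 (iv F71918) F70680
theorem F71922 : act 3 n32014 = n31637 := d17_1 D32014 F71918 (iv D32013)
theorem F71923 : act 4 n32014 = n31722 := d19_1 D32014 F70995 (iv F63338)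
theorem F71924 : act 5 n32014 = n32013 := d22_2 F70681 D32014 (iv F71918) F70679
def n32015 : Q := act 1 n29436
theorem D32015 : act 1 n29436 = n32015 := rfl
theorem F71925 : act 0 n32015 = n31459 := d0_1 D32015 (iv D31459) F61342 D31455 (iv F71080) F71081 F69430 (iv F64584) F64583
theorem F71926 : act 3 n32015 = n31470 := d7_2 F64577 D32015 F70157
theorem F71927 : act 6 n32015 = n31720 := d10_2 F69395 D32015 (iv D31720) (iv F69389) (iv F69390)
def n32016 : Q := act 2 n29441
theorem D32016 : act 2 n29441 = n32016 := rfl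
theorem F71928 : act 5 n32016 = n29449 := d13_2 (iv F63352) D32016 (iv D29449)
def n32017 : Q := act 4 n29441
theorem D32017 : act 4 n29441 = n32017 := rfl
theorem F71929 : act 5 n32017 = n29450 := d18_2 (iv F63352) D32017 (iv D29450)
def n32018 : Q := act 2 n29442
theorem D32018 : act 2 n29442 = n32018 := rfl
theorem F71930 : act 0 n32018 = n29443 := d1_1 D32018 (iv D29443) D29442
theorem F71931 : act 4 n32018 = n29444 := d12_2 (iv F63355) D32018 (iv D29444)
theorem F71932 : act 5 n32018 = n31364 := d13_2 (iv F63356) D32018 (iv D31364)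
theorem F71933 : act 6 n32018 = n29444 := d14_2 (iv F63357) D32018 (iv D29444)
theorem F71934 : act 3 n31563 = n32018 := d2_0 F71930 (iv F63362) D31563
def n32019 : Q := act 1 n29444
theorem D32019 : act 1 n29444 = n32019 := rfl
theorem F71935 : act 2 n32019 = n31493 := d6_2 D29444 D32019 F70216 F63458 (iv F52826)
theorem F71936 : act 5 n32019 = n30069 := d9_2 F69825 D32019 (iv D30069) D30071 (iv F69824)
theorem F71937 : act 0 n32019 = n31654 := d23_3 F60932 D29444 D32019 (iv D31654) (iv F70212) F70211 F62314 (iv F52174) (iv D25412) (iv D21199) (iv D16046) (iv F27747) D21198 (iv F49765) F49764 (iv F52254) (iv D25456) D25455 (iv F60930)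
def n32020 : Q := act 3 n29444
theorem D32020 : act 3 n29444 = n32020 := rfl
theorem F71938 : act 0 n32020 = n29445 := d2_1 D32020 (iv D29445) (iv F63363)
theorem F71939 : act 6 n32020 = n31563 := d17_2 F71933 D32020 F71934
def n32021 : Q := act 2 n29445
theorem D32021 : act 2 n29445 = n32021 := rfl
theorem F71940 : act 6 n32021 = n29480 := d14_2 (iv F63365) D32021 F63464
theorem F71941 : act 4 n29477 = n32021 := d19_3 F71940 (iv D29480) (iv F63456)
def n32022 : Q := act 4 n29445
theorem D32022 : act 4 n29445 = n32022 := rfl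
theorem F71942 : act 1 n32022 = n31269 := d8_1 D32022 F69587 (iv F63364)
theorem F71943 : act 2 n32022 = n29477 := d12_1 D32022 F71941 (iv D32021)
theorem F71944 : act 3 n32022 = n29479 := d15_1 D32022 (iv F63462) F63362 F63359 D29445
theorem F71945 : act 6 n32022 = n29479 := d19_2 (iv F63365) D32022 (iv F63462)
def n32023 : Q := act 3 n29446
theorem D32023 : act 3 n29446 = n32023 := rfl
theorem F71946 : act 1 n32023 = n29447 := d7_1 D32023 (iv D29447) D29446
def n32024 : Q := act 6 n29446
theorem D32024 : act 6 n29446 = n32024 := rfl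
theorem F71947 : act 5 n32024 = n32024 := d22_2 F71800 D32024 (iv D32024) (iv F71799)
def n32025 : Q := act 2 n29447
theorem D32025 : act 2 n29447 = n32025 := rfl
theorem F71948 : act 0 n32025 = n29449 := d1_1 D32025 (iv D29449) (iv F63366)
theorem F71949 : act 3 n32025 = n32021 := d21_1 D32025 (iv D32021) (iv D29445) (iv D25715) F41415 D21412 D25718 (iv F63366)
theorem F71950 : act 4 n30596 = n32025 := d15_0 F71949 (iv F71941) (iv D29477) (iv F60939) (iv F67127)
theorem F71951 : act 6 n30475 = n32025 := d17_0 F71949 F71940 (iv F66724)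
theorem E10460 : n32017 = n29449 := ((c3_2 F71950 F71948 (iv D32017) (iv F67126))).symm
theorem F71952 : act 4 n29449 = n29441 := (sb E10460 (iv D32017))
theorem E10461 : n32016 = n29450 := (((iv F71928)).symm.trans (sb E10460 F71929))
theorem F71953 : act 2 n29450 = n29441 := (sb E10461 (iv D32016))
theorem F71954 : act 5 n29450 = n29449 := (sb E10461 F71928)
def n32026 : Q := act 4 n29447
theorem D32026 : act 4 n29447 = n32026 := rfl
theorem F71955 : act 0 n32026 = n29450 := d3_1 D32026 (iv D29450) (iv F63366)
theorem F71956 : act 2 n32026 = n30596 := d12_1 D32026 F71950 (iv D32025)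
theorem F71957 : act 5 n32026 = n32025 := d18_2 (iv F67128) D32026 (iv F71950)
theorem F71958 : act 6 n30592 = n32026 := d14_0 F71956 (iv D30596) (iv F67117)
def n32027 : Q := act 6 n29447
theorem D32027 : act 6 n29447 = n32027 := rfl
theorem F71959 : act 0 n32027 = n29451 := d5_1 D32027 (iv D29451) (iv F63366)
theorem F71960 : act 2 n32027 = n30475 := d14_1 D32027 F71951 (iv D32025)
theorem F71961 : act 3 n32027 = n29448 := d17_1 D32027 (iv D29448) D29447
theorem F71962 : act 4 n32027 = n30592 := d19_1 D32027 F71958 (iv D32026)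
theorem F71963 : act 5 n32027 = n30595 := d20_1 D32027 (iv F67125) F63352 D29451 (iv F63372) D30596 (iv F67128)
theorem F71964 : act 1 n30474 = n32027 := d24_14 (iv D32027) F67128 (iv F71879) F71882 F71812 F71810 (iv F69839) (iv D29460) (iv D25724) (iv D21417) (iv F41398) (iv F46045) D27287 (iv F66723)
def n32028 : Q := act 1 n29448
theorem D32028 : act 1 n29448 = n32028 := rfl
theorem F71965 : act 3 n32028 = n30474 := d7_2 F71961 D32028 F71964
theorem F71966 : act 4 n32028 = n31493 := d8_2 F63459 D32028 F70216
theorem F71967 : act 5 n32028 = n30661 := d9_2 (iv F63369) D32028 (iv F67315) F69835 (iv D31366)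
def n32029 : Q := act 1 n29449
theorem D32029 : act 1 n29449 = n32029 := rfl
theorem F71968 : act 2 n32029 = n29454 := d6_2 D29449 D32029 (iv D29454) (iv D25721) (iv F52763)
theorem F71969 : act 4 n32029 = n30656 := d8_2 (iv F71952) D32029 F67302
theorem F71970 : act 5 n32029 = n30660 := d9_2 F71954 D32029 F67310 F63343 (iv F63370)
theorem F71971 : act 3 n31543 = n32029 := d16_3 F71970 F67311 D31543
theorem F71972 : act 6 n31479 = n32029 := d22_1 (iv F70214) F71970 (iv F67312) D31492
def n32030 : Q := act 3 n29449
theorem D32030 : act 3 n29449 = n32030 := rfl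
theorem F71973 : act 0 n32030 = n32021 := d2_1 D32030 (iv F71949) F71948
theorem F71974 : act 1 n32030 = n31543 := d7_1 D32030 F71971 (iv D32029)
theorem F71975 : act 2 n32030 = n32020 := d11_1 D32030 (iv D32020) (iv D29444) F52759 D25716 D29447 D32025 F71949 (iv D32021) (iv D29445) (iv D25715) F41415 D21412 D25718 D29449
theorem F71976 : act 4 n32030 = n29469 := d15_2 (iv F71952) D32030 (iv D29469) F52805 D29441
theorem F71977 : act 5 n32030 = n31347 := d16_2 F71954 D32030 F69787
theorem F71978 : act 6 n31435 = n32030 := d24_0 F71977 F69786 F60896 F59436 (iv F59495) D31088 F68857 F63468 F59508 F59427 (iv F57959) F57962 (iv F61215) D31435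
def n32031 : Q := act 6 n29449
theorem D32031 : act 6 n29449 = n32031 := rfl
theorem F71979 : act 0 n32031 = n30475 := d5_1 D32031 F71951 F71948
theorem F71980 : act 1 n32031 = n31400 := d10_1 D32031 F69947 D31479 F71972 (iv D32029)
theorem F71981 : act 2 n32031 = n29451 := d14_1 D32031 (iv D29451) D29449
theorem F71982 : act 3 n32031 = n31435 := d17_1 D32031 F71978 (iv D32030)
theorem F71983 : act 4 n32031 = n30595 := d19_1 D32031 (iv F67125) (iv F71952)
theorem F71984 : act 5 n32031 = n30592 := d22_2 F71954 D32031 F71958 F71955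
def n32032 : Q := act 6 n29450
theorem D32032 : act 6 n29450 = n32032 := rfl
theorem F71985 : act 0 n32032 = n30592 := d5_1 D32032 F71958 F71955
theorem F71986 : act 2 n32032 = n30595 := d14_1 D32032 (iv F67125) (iv F71953)
theorem F71987 : act 4 n32032 = n29451 := d19_1 D32032 (iv D29451) D29450
theorem F71988 : act 5 n32032 = n30475 := d20_1 D32032 F71951 (iv F71957) (iv F71958) (iv F71984) (iv D32031) (iv F71954)
def n32033 : Q := act 0 n29454
theorem D32033 : act 0 n29454 = n32033 := rfl
theorem F71989 : act 6 n32033 = n32019 := d5_2 (iv F70732) D32033 F71937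
theorem F71990 : act 5 n32033 = n31323 := d22_0 F69728 D31654 (iv F70732) D32033
def n32034 : Q := act 4 n29454
theorem D32034 : act 4 n29454 = n32034 := rfl
theorem F71991 : act 1 n32034 = n29455 := d8_1 D32034 (iv D29455) D29454
theorem F71992 : act 2 n32034 = n30656 := d12_1 D32034 (iv F71969) F71968
theorem F71993 : act 3 n32034 = n30536 := d25_1 D32034 (iv D30536) F56682 (iv F46298) (iv F46297) D27097 D30537 (iv F70542) (iv D31597) F61998 (iv D26907) (iv D22607) (iv D17362) (iv F30437) F30436 D22486 D26840 D30386 F66431 (iv F69814) F69813 F66090 (iv D30290) (iv F66074) F66073 F59906 F49092 F37710 (iv F37606) F37605 (iv D15747) (iv F27236) (iv F40266) (iv F51645) F51644 (iv F43509) (iv F50868) F50867 F38995 (iv F38971) D24988 (iv F58443) F58442 F55232 F43893 F34986 (iv F30417) (iv F44269) F51133 (iv D25065) (iv D20687) (iv F38696) (iv F42352) (iv F53529) (iv F64446) (iv F68920) F68919 F63309 F59649 F48770 (iv F58181) F58180 D30825 F67908 (iv D29464) (iv D25731) (iv D21422) (iv F28369) F28368 F21617 F17850 D10049 (iv F21471)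 D16210 D21416 D25721 D29454
theorem F71994 : act 5 n30659 = n32034 := d16_0 F71993 (iv F67667) F67668
def n32035 : Q := act 5 n29454
theorem D32035 : act 5 n29454 = n32035 := rfl
theorem F71995 : act 0 n32035 = n31323 := d4_1 D32035 (iv F71990) (iv D32033)
theorem F71996 : act 2 n32035 = n30660 := d13_1 D32035 (iv F71970) F71968
theorem F71997 : act 4 n32035 = n30659 := d18_1 D32035 F71994 (iv D32034)
theorem F71998 : act 6 n32035 = n30069 := d20_2 (iv F70732) D32035 (iv F71936) (iv F71989) F71990 F69728 D31654
def n32036 : Q := act 1 n29457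
theorem D32036 : act 1 n29457 = n32036 := rfl
theorem F71999 : act 2 n32036 = n31906 := d6_2 (iv F63383) D32036 (iv F71596) F71095 F62591
theorem F72000 : act 3 n32036 = n31081 := d7_2 (iv F63384) D32036 F68821
theorem F72001 : act 4 n32036 = n29458 := d8_2 (iv F63385) D32036 (iv D29458)
theorem F72002 : act 5 n32036 = n29491 := d9_2 F63386 D32036 (iv D29491) (iv F52842) (iv F59500)
theorem F72003 : act 0 n31907 = n32036 := d4_3 F72002 (iv F70043) (iv F71598)
def n32037 : Q := act 3 n29461
theorem D32037 : act 3 n29461 = n32037 := rfl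
theorem F72004 : act 0 n32037 = n30491 := d2_1 D32037 (iv D30491) (iv F63393)
theorem F72005 : act 1 n32037 = n32037 := d7_1 D32037 (iv D32037) F63394
theorem F72006 : act 5 n32037 = n29464 := d16_2 (iv F63396) D32037 (iv D29464)
theorem F72007 : act 4 n31488 = n32037 := d18_3 F72006 (iv F63410) D31488
def n32038 : Q := act 3 n29462
theorem D32038 : act 3 n29462 = n32038 := rfl
theorem F72008 : act 0 n32038 = n30641 := d2_1 D32038 F67254 (iv F63397)
theorem F72009 : act 1 n32038 = n29466 := d7_1 D32038 (iv D29466) (iv F63398)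
theorem F72010 : act 4 n32038 = n31487 := d15_2 (iv F63399) D32038 (iv D31487) F63410 (iv D29464)
theorem F72011 : act 5 n32038 = n30638 := d16_2 (iv F63400) D32038 (iv D30638)
theorem F72012 : act 2 n32038 = n31188 := d21_2 D29462 D32038 F69275 F67446 F57396 F46155 (iv F46015) (iv F52789)
def n32039 : Q := act 2 n29469
theorem D32039 : act 2 n29469 = n32039 := rfl
theorem F72013 : act 0 n32039 = n32022 := d1_1 D32039 F71943 F63455
theorem F72014 : act 3 n32039 = n31438 := d11_2 D29469 D32039 F70065 F63085 (iv D25743) F41459 D25742 D29477 (iv F71943) F71944 (iv D29479) (iv D25745) (iv D21431) (iv F41440) D25737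
theorem F72015 : act 4 n32039 = n32020 := d12_2 F71976 D32039 (iv F71975)
theorem F72016 : act 5 n32039 = n31346 := d13_2 (iv F63428) D32039 (iv D31346)
theorem F72017 : act 6 n32039 = n31438 := d14_2 (iv F63429) D32039 F70065
theorem F72018 : act 1 n32039 = n31439 := d25_5 F38485 (iv F41440) D25737 D29469 D32039 (iv D31439) (iv D28669) F50354 (iv F47212) (iv D23649) (iv F46474) (iv F57771) (iv F59422) F59421 (iv F66987) (iv D30551) (iv D27119) F45431 (iv F42049) F42048 (iv F42358) F42357 F32052 (iv F45082) F53685 F53686 (iv F55467) F55466 (iv F63817) F63816 (iv F58533) F58534 F55884 F52309 (iv F54578) F54577 F43490 F40567 (iv F34432) F34431 D18530 (iv F39535) F29484 F21914 F18003 F8392 (iv F14281) (iv F20610) (iv F34747) (iv F21870) D16652 (iv F40951) (iv F52140) (iv F55769) (iv F65295) (iv F70570) F70567 (iv D28919) F51476 (iv F51464) (iv F53322) (iv F55970) D30411 F66494 F66229 F55314 (iv F44065) (iv F45153) (iv F50949) F50950 (iv D24787) (iv D20361) F26273 F20510 (iv F20465) (iv F26166) D20299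
def n32040 : Q := act 5 n29470
theorem D32040 : act 5 n29470 = n32040 := rfl
theorem F72019 : act 1 n32040 = n32040 := d9_1 D32040 (iv D32040) (iv D29470) F52808 D29470
theorem F72020 : act 2 n32040 = n29498 := d13_1 D32040 (iv D29498) (iv F63430)
theorem F72021 : act 3 n32040 = n30297 := d16_1 D32040 (iv D30297) F63432
theorem F72022 : act 6 n32040 = n29805 := d22_1 D32040 (iv D29805) (iv F64147) F64146
def n32041 : Q := act 3 n29472
theorem D32041 : act 3 n29472 = n32041 := rfl
theorem F72023 : act 0 n32041 = n31985 := d2_1 D32041 F71820 (iv F63438)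
theorem F72024 : act 4 n32041 = n31984 := d15_2 D29472 D32041 F71817 F70722 (iv D29471)
theorem F72025 : act 5 n32041 = n32041 := d16_2 F63440 D32041 (iv D32041)
def n32042 : Q := act 6 n29472
theorem D32042 : act 6 n29472 = n32042 := rfl
theorem F72026 : act 0 n32042 = n29803 := d5_1 D32042 (iv F64477) (iv F63438)
theorem F72027 : act 1 n32042 = n29792 := d10_1 D32042 F71851 (iv D31994) (iv F71688) F71686
theorem F72028 : act 2 n32042 = n29474 := d14_1 D32042 (iv D29474) (iv F63439)
theorem F72029 : act 4 n32042 = n29473 := d19_1 D32042 (iv D29473) D29472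
theorem F72030 : act 5 n32042 = n29803 := d22_2 F63440 D32042 (iv F64477) (iv F63438)
def n32043 : Q := act 1 n29474
theorem D32043 : act 1 n29474 = n32043 := rfl
theorem F72031 : act 3 n32043 = n31974 := d7_2 (iv F63447) D32043 F71787
theorem F72032 : act 4 n32043 = n29475 := d8_2 (iv F63448) D32043 (iv D29475)
theorem F72033 : act 6 n32043 = n29501 := d10_2 D29474 D32043 (iv D29501) (iv D25760) (iv F52810)
def n32044 : Q := act 2 n29475
theorem D32044 : act 2 n29475 = n32044 := rfl
theorem F72034 : act 0 n32044 = n29698 := d1_1 D32044 F64393 F63501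
theorem F72035 : act 1 n32044 = n29789 := d6_1 D32044 F64439 F63445 F63442 D29475
theorem F72036 : act 5 n32044 = n31962 := d13_2 F63495 D32044 F71756
theorem F72037 : act 6 n32044 = n29503 := d14_2 (iv F63451) D32044 (iv D29503)
theorem F72038 : act 3 n29692 = n32044 := d25_11 (iv F64775) (iv F66292) F66291 F65461 (iv D30101) (iv D26358) F42343 (iv F48729) (iv F59557) (iv F68924) F68923 (iv D32044) F63450 D29476 F63452 D29477 (iv F71943) F71944 (iv D29479) F52827 (iv D21448) (iv D16228) F21485 D12281 (iv F28419) F28420 D17064 D22359 F43695 F39191 (iv D16628) (iv F29367) F29366 F29355 F21853 D12398 F22105 F39593 (iv D12687) (iv D10260) (iv D5565) F4191 D5543 D10212 D12586 D16927 F29821 F22281 (iv F18251) (iv F22504) (iv D12852) (iv F32709) (iv F21148) F21147 F21063 F17567 F32503 F8642 F17019 (iv F7150) (iv F14478) D11816 (iv F26911) D20796 (iv F44314) F44313 F43764 (iv F35223) F39106 (iv F50957) F50956 (iv F45522) F40253 (iv F32509) (iv F32411) D22851 (iv F56489)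
def n32045 : Q := act 3 n29476
theorem D32045 : act 3 n29476 = n32045 := rfl
theorem F72039 : act 1 n32045 = n29477 := d7_1 D32045 (iv D29477) (iv F63452)
theorem F72040 : act 6 n32045 = n29506 := d17_2 (iv F63454) D32045 (iv D29506)
theorem F72041 : act 2 n32045 = n31559 := d21_2 D29476 D32045 F70425 F61722 D29698 F64393 F63503 F52847
def n32046 : Q := act 5 n29479
theorem D32046 : act 5 n29479 = n32046 := rfl
theorem F72042 : act 2 n32046 = n29481 := d13_1 D32046 (iv D29481) D29479
theorem F72043 : act 4 n32046 = n31365 := d18_1 D32046 F69831 F63462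
theorem F72044 : act 6 n32046 = n31346 := d22_1 D32046 (iv F72016) F72017 (iv F70066)
def n32047 : Q := act 5 n29480
theorem D32047 : act 5 n29480 = n32047 := rfl
theorem F72045 : act 2 n32047 = n31365 := d13_1 D32047 F69831 (iv F63464)
theorem F72046 : act 3 n32047 = n32032 := d16_1 D32047 F71988 F66724
theorem F72047 : act 4 n32047 = n29481 := d18_1 D32047 (iv D29481) D29480
theorem F72048 : act 6 n32047 = n31347 := d22_1 D32047 (iv F71977) (iv F71978) F70059
def n32048 : Q := act 1 n29483
theorem D32048 : act 1 n29483 = n32048 := rfl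
theorem F72049 : act 0 n32048 = n31344 := d0_1 D32048 (iv D31344) F60890 F50135 (iv F50137) (iv F52832) F52831 D25748 D29483
theorem F72050 : act 2 n32048 = n31977 := d6_2 (iv F63470) D32048 (iv D31977) (iv D29400) (iv F52843)
theorem F72051 : act 4 n32048 = n31977 := d8_2 (iv F63471) D32048 (iv D31977)
theorem F72052 : act 5 n32048 = n31344 := d9_2 (iv F63472) D32048 (iv D31344) F60892 (iv F63452)
def n32049 : Q := act 3 n29483
theorem D32049 : act 3 n29483 = n32049 := rfl
theorem F72053 : act 0 n32049 = n29484 := d2_1 D32049 (iv D29484) D29483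
theorem F72054 : act 5 n32049 = n32045 := d16_2 (iv F63472) D32049 (iv D32045)
def n32050 : Q := act 6 n29483
theorem D32050 : act 6 n29483 = n32050 := rfl
theorem F72055 : act 0 n32050 = n29486 := d5_1 D32050 (iv D29486) D29483
theorem F72056 : act 2 n32050 = n29493 := d14_1 D32050 (iv D29493) (iv F63470)
theorem F72057 : act 4 n32050 = n31979 := d19_1 D32050 (iv D31979) (iv F63471)
theorem F72058 : act 5 n32050 = n29505 := d20_1 D32050 F63520 (iv D29485) D29486 F63480 (iv F63454) (iv F63472)
def n32051 : Q := act 2 n29484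
theorem D32051 : act 2 n29484 = n32051 := rfl
def n32052 : Q := act 4 n29484
theorem D32052 : act 4 n29484 = n32052 := rfl
theorem F72059 : act 1 n32052 = n29488 := d8_1 D32052 (iv D29488) (iv F63473)
theorem F72060 : act 3 n32052 = n31981 := d15_1 D32052 (iv D31981) (iv D29402) (iv F52836) D29484
def n32053 : Q := act 5 n29484
theorem D32053 : act 5 n29484 = n32053 := rfl
theorem F72061 : act 0 n32053 = n32045 := d4_1 D32053 (iv F72054) F72053
theorem F72062 : act 1 n32053 = n31598 := d9_1 D32053 F70545 (iv F65604) (iv D29489) (iv F63473)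
theorem F72063 : act 3 n32053 = n29485 := d16_1 D32053 (iv D29485) D29484
def n32054 : Q := act 6 n29484
theorem D32054 : act 6 n29484 = n32054 := rfl
theorem F72064 : act 3 n32054 = n29486 := d17_1 D32054 (iv D29486) D29484
theorem F72065 : act 5 n32054 = n29506 := d22_2 (iv D32053) D32054 (iv F72040) (iv F72061)
def n32055 : Q := act 1 n29486
theorem D32055 : act 1 n29486 = n32055 := rfl
theorem F72066 : act 2 n32055 = n31627 := d6_2 (iv F63478) D32055 F70651 F63621 F52919
theorem F72067 : act 4 n32055 = n31636 := d8_2 (iv F63479) D32055 F70676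
theorem F72068 : act 5 n32055 = n29510 := d9_2 (iv F63480) D32055 (iv D29510) (iv D25766) (iv F52865)
theorem F72069 : act 6 n32055 = n29491 := d10_2 D29486 D32055 (iv D29491) (iv D25751) D25748
def n32056 : Q := act 1 n29487
theorem D32056 : act 1 n29487 = n32056 := rfl
theorem F72070 : act 3 n32056 = n30792 := d7_2 F64828 D32056 F67803
theorem F72071 : act 4 n32056 = n30038 := d8_2 F63484 D32056 (iv F65560)
theorem F72072 : act 0 n32056 = n30040 := d23_3 (iv D29489) D29487 D32056 (iv D30040) (iv F65251) F65250 (iv F65239) (iv F68830) (iv D31083) (iv D28059) (iv F48694) (iv D24136) (iv F48690) D28079 F63062 D31094 F68883 F68882 F68853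
theorem F72073 : act 5 n30037 = n32056 := d4_0 F72072 (iv D30040) (iv F65269)
def n32057 : Q := act 4 n29492
theorem D32057 : act 4 n29492 = n32057 := rfl
theorem F72074 : act 0 n32057 = n29495 := d3_1 D32057 (iv D29495) (iv F63493)
theorem F72075 : act 1 n32057 = n31973 := d8_1 D32057 F71784 (iv F63494)
theorem F72076 : act 3 n32057 = n31973 := d15_1 D32057 F71784 F63260 (iv F52844) D29492
theorem F72077 : act 5 n32057 = n32043 := d18_2 (iv F63495) D32057 F72032
def n32058 : Q := act 6 n29492
theorem D32058 : act 6 n29492 = n32058 := rfl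
theorem F72078 : act 0 n32058 = n29497 := d5_1 D32058 (iv D29497) (iv F63493)
theorem F72079 : act 3 n32058 = n29493 := d17_1 D32058 (iv D29493) D29492
theorem F72080 : act 5 n32058 = n29502 := d20_1 D32058 F63516 (iv D29496) D29497 F63505 (iv F63451) (iv F63495)
def n32059 : Q := act 4 n29494
theorem D32059 : act 4 n29494 = n32059 := rfl
theorem F72081 : act 2 n32059 = n29495 := d12_1 D32059 (iv D29495) D29494
def n32060 : Q := act 5 n29495
theorem D32060 : act 5 n29495 = n32060 := rfl
theorem F72082 : act 0 n32060 = n32043 := d4_1 D32060 (iv F72077) F72074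
theorem F72083 : act 1 n32060 = n29528 := d9_1 D32060 (iv D29528) F52899 (iv F52854) (iv F63499)
theorem F72084 : act 3 n32060 = n31964 := d16_1 D32060 F71763 (iv F63500)
theorem F72085 : act 4 n32060 = n29496 := d18_1 D32060 (iv D29496) D29495
def n32061 : Q := act 6 n29495
theorem D32061 : act 6 n29495 = n32061 := rfl
theorem F72086 : act 3 n32061 = n31975 := d17_1 D32061 (iv D31975) (iv F63500)
theorem F72087 : act 4 n32061 = n29497 := d19_1 D32061 (iv D29497) D29495
theorem F72088 : act 5 n32061 = n29501 := d22_2 (iv D32060) D32061 (iv F72033) (iv F72082)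
def n32062 : Q := act 0 n29501
theorem D32062 : act 0 n29501 = n32062 := rfl
theorem F72089 : act 3 n32062 = n32001 := d2_2 (iv F63513) D32062 (iv D32001)
theorem F72090 : act 4 n32062 = n29502 := d3_2 (iv F63514) D32062 (iv D29502)
theorem F72091 : act 6 n32062 = n32060 := d5_2 F72033 D32062 F72082
def n32063 : Q := act 2 n29501
theorem D32063 : act 2 n29501 = n32063 := rfl
theorem F72092 : act 4 n32063 = n29503 := d12_2 (iv F63514) D32063 (iv D29503)
def n32064 : Q := act 1 n29502
theorem D32064 : act 1 n29502 = n32064 := rfl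
theorem F72093 : act 3 n32064 = n29504 := d7_2 (iv F63515) D32064 (iv D29504)
def n32065 : Q := act 2 n29502
theorem D32065 : act 2 n29502 = n32065 := rfl
theorem F72094 : act 0 n32065 = n29503 := d1_1 D32065 (iv D29503) D29502
theorem F72095 : act 6 n32065 = n29698 := d14_2 (iv F63516) D32065 F64393
theorem F72096 : act 3 n32065 = n29700 := d21_1 D32065 F64134 (iv F70131) F70130 (iv D29506) (iv D25763) (iv F52862) D29502
theorem F72097 : act 1 n29796 = n32065 := d7_3 F72096 F64133 (iv F64452)
def n32066 : Q := act 2 n29504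
theorem D32066 : act 2 n29504 = n32066 := rfl
theorem F72098 : act 4 n32066 = n32005 := d12_2 (iv F63517) D32066 (iv D32005)
theorem F72099 : act 6 n32066 = n30581 := d14_2 F63596 D32066 F67096
theorem F72100 : act 1 n32066 = n31704 := d23_2 F71885 D32066 F70936 F69563 F62497 F54452 (iv F61621) (iv F69946) (iv D31400) (iv F69923) F69922 (iv F71662) F71660 F70676 (iv F71802) F71804 (iv D29430) D29429 D32004
def n32067 : Q := act 1 n29505
theorem D32067 : act 1 n29505 = n32067 := rfl
theorem F72101 : act 0 n32067 = n30173 := d0_1 D32067 (iv F71597) F72003 (iv D32036) (iv F63524) (iv D29507) F52867 (iv F52865) (iv F63518)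
theorem F72102 : act 2 n32067 = n31704 := d6_2 D29505 D32067 (iv F72100) (iv D32066) (iv D29504)
theorem F72103 : act 4 n32067 = n32007 := d8_2 (iv F63519) D32067 (iv D32007)
theorem F72104 : act 6 n32067 = n31701 := d10_2 (iv F63520) D32067 F70923 F67073 (iv F63475)
theorem F72105 : act 5 n30154 = n32067 := d24_1 F70920 (iv D32067) F63520 (iv D29485) (iv D25748) D25751 (iv F52842) (iv F59500) D31091 F68870 (iv F63540) (iv D29512) (iv F62541) (iv F70916)
theorem F72106 : act 3 n32067 = n30155 := d16_1 F72105 (iv D30155) D30154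
def n32068 : Q := act 3 n29505
theorem D32068 : act 3 n29505 = n32068 := rfl
theorem F72107 : act 0 n32068 = n29506 := d2_1 D32068 (iv D29506) (iv F63518)
theorem F72108 : act 1 n32068 = n30155 := d7_1 D32068 (iv F72106) (iv D32067)
theorem F72109 : act 6 n32068 = n32053 := d17_2 (iv F63520) D32068 F72063
theorem F72110 : act 4 n30157 = n32068 := d8_0 F72108 F65619 D30157
def n32069 : Q := act 1 n29509
theorem D32069 : act 1 n29509 = n32069 := rfl
theorem F72111 : act 2 n32069 = n31073 := d6_2 F69130 D32069 F69149 (iv D31161) (iv F69129)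
theorem F72112 : act 3 n32069 = n29510 := d7_2 (iv F63531) D32069 (iv D29510)
theorem F72113 : act 4 n32069 = n30177 := d8_2 F69137 D32069 (iv F69135)
theorem F72114 : act 6 n32069 = n30174 := d10_2 F63546 D32069 (iv D30174) D30175 (iv F65683)
def n32070 : Q := act 0 n29510
theorem D32070 : act 0 n29510 = n32070 := rfl
theorem F72115 : act 1 n32070 = n32032 := d0_2 D29510 D32070 F71985 (iv D30592) (iv F63077) F63078 F61650 F61234 F52881
theorem F72116 : act 2 n32070 = n31626 := d1_2 (iv F63532) D32070 (iv D31626)
theorem F72117 : act 4 n32070 = n32011 := d3_2 (iv F63533) D32070 (iv D32011)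
theorem F72118 : act 6 n32070 = n32036 := d5_2 F71599 D32070 (iv F72003)
def n32071 : Q := act 1 n29517
theorem D32071 : act 1 n29517 = n32071 := rfl
theorem F72119 : act 4 n32071 = n31982 := d8_2 F69837 D32071 F71810
theorem F72120 : act 5 n32071 = n32010 := d9_2 F70021 D32071 F71903 (iv F66734) (iv F70018)
theorem F72121 : act 6 n32071 = n31981 := d10_2 F69793 D32071 F71809 F63282 (iv F69789)
def n32072 : Q := act 2 n29519
theorem D32072 : act 2 n29519 = n32072 := rfl
theorem F72122 : act 0 n32072 = n32072 := d1_1 D32072 (iv D32072) F63557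
theorem F72123 : act 5 n32072 = n31953 := d13_2 (iv F63559) D32072 (iv D31953)
theorem F72124 : act 6 n32072 = n31953 := d14_2 (iv F63560) D32072 (iv D31953)
def n32073 : Q := act 4 n29519
theorem D32073 : act 4 n29519 = n32073 := rfl
theorem F72125 : act 0 n32073 = n32073 := d3_1 D32073 (iv D32073) F63557
theorem F72126 : act 1 n32073 = n29521 := d8_1 D32073 (iv D29521) (iv F63558)
theorem F72127 : act 3 n32073 = n31954 := d15_1 D32073 (iv D31954) (iv D29379) (iv F52889) D29519
theorem F72128 : act 5 n32073 = n31954 := d18_2 (iv F63559) D32073 (iv D31954)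
theorem F72129 : act 6 n32073 = n31954 := d19_2 (iv F63560) D32073 (iv D31954)
def n32074 : Q := act 1 n29520
theorem D32074 : act 1 n29520 = n32074 := rfl
theorem F72130 : act 0 n32074 = n29806 := d0_1 D32074 (iv D29806) (iv F64345) (iv F69015) F69014 F59646 F59551 F54110 (iv F63561)
theorem F72131 : act 3 n32074 = n29797 := d7_2 (iv F63562) D32074 (iv D29797)
theorem F72132 : act 5 n32074 = n29806 := d9_2 F63563 D32074 (iv D29806) (iv D26041) (iv F53523)
theorem F72133 : act 6 n32074 = n31984 := d10_2 (iv F65176) D32074 F71816 (iv D30005) D30004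
def n32075 : Q := act 4 n29520
theorem D32075 : act 4 n29520 = n32075 := rfl
theorem F72134 : act 0 n32075 = n29525 := d3_1 D32075 (iv D29525) (iv F63561)
theorem F72135 : act 2 n32075 = n29521 := d12_1 D32075 (iv D29521) D29520
theorem F72136 : act 3 n32075 = n29792 := d15_1 D32075 F64443 F53521 (iv F53525) (iv F63562)
theorem F72137 : act 5 n32075 = n29791 := d18_2 F63563 D32075 F64442
def n32076 : Q := act 5 n29521
theorem D32076 : act 5 n29521 = n32076 := rfl
theorem F72138 : act 0 n32076 = n29528 := d4_1 D32076 (iv D29528) (iv F63564)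
theorem F72139 : act 1 n32076 = n31957 := d9_1 D32076 (iv D31957) (iv F71734) (iv F72128) F72126
theorem F72140 : act 2 n32076 = n29791 := d13_1 D32076 (iv F72137) F72135
theorem F72141 : act 3 n32076 = n31957 := d16_1 D32076 (iv D31957) (iv F63565)
theorem F72142 : act 4 n32076 = n29522 := d18_1 D32076 (iv D29522) D29521
def n32077 : Q := act 6 n29521
theorem D32077 : act 6 n29521 = n32077 := rfl
theorem F72143 : act 0 n32077 = n29529 := d5_1 D32077 (iv D29529) (iv F63564)
theorem F72144 : act 1 n32077 = n31958 := d10_1 D32077 (iv D31958) (iv F71734) (iv F72129) F72126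
theorem F72145 : act 3 n32077 = n31958 := d17_1 D32077 (iv D31958) (iv F63565)
theorem F72146 : act 4 n32077 = n29523 := d19_1 D32077 (iv D29523) D29521
def n32078 : Q := act 3 n29525
theorem D32078 : act 3 n29525 = n32078 := rfl
theorem F72147 : act 0 n32078 = n29792 := d2_1 D32078 (iv F72136) F72134
theorem F72148 : act 4 n32078 = n29784 := d15_2 D29525 D32078 F64427 F63576 (iv D29524)
theorem F72149 : act 5 n29783 = n32078 := d18_0 F72148 (iv D29784) D29783
def n32079 : Q := act 5 n29525
theorem D32079 : act 5 n29525 = n32079 := rfl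
theorem F72150 : act 0 n32079 = n29791 := d4_1 D32079 (iv F72137) F72134
theorem F72151 : act 2 n32079 = n29528 := d13_1 D32079 (iv D29528) (iv F63578)
theorem F72152 : act 3 n32079 = n29783 := d16_1 D32079 F72149 (iv D32078)
theorem F72153 : act 4 n32079 = n29526 := d18_1 D32079 (iv D29526) D29525
def n32080 : Q := act 6 n29525
theorem D32080 : act 6 n29525 = n32080 := rfl
theorem F72154 : act 2 n32080 = n29529 := d14_1 D32080 (iv D29529) (iv F63578)
theorem F72155 : act 4 n32080 = n29527 := d19_1 D32080 (iv D29527) D29525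
def n32081 : Q := act 6 n29526
theorem D32081 : act 6 n29526 = n32081 := rfl
theorem F72156 : act 0 n32081 = n29796 := d5_1 D32081 (iv D29796) (iv F63579)
theorem F72157 : act 1 n32081 = n31963 := d10_1 D32081 F71761 (iv D29804) (iv F64147) (iv F64386)
theorem F72158 : act 2 n32081 = n29530 := d14_1 D32081 (iv D29530) (iv F63580)
theorem F72159 : act 3 n32081 = n29786 := d17_1 D32081 (iv D29786) (iv F63581)
theorem F72160 : act 5 n32081 = n30004 := d20_1 D32081 (iv F65176) (iv F63563) D29796 F64453 (iv D29527) D29526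
def n32082 : Q := act 6 n29528
theorem D32082 : act 6 n29528 = n32082 := rfl
theorem F72161 : act 3 n32082 = n31965 := d17_1 D32082 (iv D31965) (iv F63583)
theorem F72162 : act 4 n32082 = n29530 := d19_1 D32082 (iv D29530) (iv F63584)
theorem F72163 : act 5 n32082 = n32077 := d22_2 D29528 D32082 (iv D32077) F63564
def n32083 : Q := act 1 n29529
theorem D32083 : act 1 n29529 = n32083 := rfl
theorem F72164 : act 3 n32083 = n31935 := d7_2 (iv F63585) D32083 F71680
theorem F72165 : act 4 n32083 = n29531 := d8_2 (iv F63586) D32083 (iv D29531)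
theorem F72166 : act 6 n32083 = n29536 := d10_2 D29529 D32083 (iv D29536) (iv D25787) (iv F52899)
def n32084 : Q := act 5 n29529
theorem D32084 : act 5 n29529 = n32084 := rfl
theorem F72167 : act 0 n32084 = n32082 := d4_1 D32084 F72163 F72143
theorem F72168 : act 3 n32084 = n31966 := d16_1 D32084 (iv D31966) (iv F63585)
theorem F72169 : act 4 n32084 = n29532 := d18_1 D32084 (iv D29532) (iv F63586)
theorem F72170 : act 6 n32084 = n32076 := d20_2 D29529 D32084 (iv D32076) D32077 (iv F72163) (iv D32082) (iv D29528)
def n32085 : Q := act 1 n29530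
theorem D32085 : act 1 n29530 = n32085 := rfl
theorem F72171 : act 2 n32085 = n31968 := d6_2 F72158 D32085 (iv D31968) (iv F71759) (iv F72157)
theorem F72172 : act 3 n32085 = n29533 := d7_2 (iv F63587) D32085 (iv D29533)
theorem F72173 : act 5 n32085 = n31967 := d9_2 (iv F63588) D32085 (iv D31967) F63253 (iv F63571)
theorem F72174 : act 6 n32085 = n32064 := d10_2 D29530 D32085 (iv D32064) F63516 F63502
def n32086 : Q := act 1 n29532
theorem D32086 : act 1 n29532 = n32086 := rfl
theorem F72175 : act 2 n32086 = n32064 := d6_2 F64451 D32086 (iv D32064) D32065 (iv F72097)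
theorem F72176 : act 3 n32086 = n29535 := d7_2 (iv F63592) D32086 (iv D29535)
theorem F72177 : act 6 n32086 = n31968 := d10_2 (iv F63593) D32086 (iv D31968) F63256 (iv F63567)
def n32087 : Q := act 3 n29534
theorem D32087 : act 3 n29534 = n32087 := rfl
theorem F72178 : act 6 n32087 = n29542 := d17_2 (iv F63598) D32087 (iv D29542)
theorem F72179 : act 2 n32087 = n29542 := d21_2 D29534 D32087 (iv D29542) (iv D25790) (iv F52914) D29538 (iv F63607) F52947
def n32088 : Q := act 2 n29535
theorem D32088 : act 2 n29535 = n32088 := rfl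
theorem F72180 : act 1 n32088 = n30457 := d6_1 D32088 F66650 (iv F57208) F57204 D29535
theorem F72181 : act 4 n32088 = n30574 := d12_2 (iv F63599) D32088 F67082
theorem F72182 : act 6 n32088 = n30574 := d14_2 (iv F63600) D32088 F67082
def n32089 : Q := act 0 n29536
theorem D32089 : act 0 n29536 = n32089 := rfl
theorem F72183 : act 1 n32089 = n31930 := d0_2 D29536 D32089 F71671 F63169 F52659 (iv F52630) F52936 (iv D25801) (iv F52910)
theorem F72184 : act 3 n32089 = n31930 := d2_2 (iv F63601) D32089 F71671
theorem F72185 : act 4 n32089 = n29537 := d3_2 (iv F63602) D32089 (iv D29537)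
theorem F72186 : act 2 n32083 = n32089 := d12_3 F72185 (iv F63610) (iv F72165)
def n32090 : Q := act 2 n29536
theorem D32090 : act 2 n29536 = n32090 := rfl
theorem F72187 : act 0 n32090 = n32083 := d1_1 D32090 F72186 (iv D32089)
theorem F72188 : act 1 n32090 = n29565 := d6_1 D32090 F65171 (iv D30003) F54128 D29536
theorem F72189 : act 4 n32090 = n29538 := d12_2 (iv F63602) D32090 (iv D29538)
theorem F72190 : act 6 n32090 = n32089 := d14_2 F72166 D32090 (iv F72186)
theorem F72191 : act 3 n31915 = n32090 := d17_3 F72190 F72184 F71672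
theorem F72192 : act 5 n32090 = n29566 := d16_2 (iv F71630) F72191 F63672
def n32091 : Q := act 5 n29536
theorem D32091 : act 5 n29536 = n32091 := rfl
theorem F72193 : act 1 n32091 = n32061 := d9_1 D32091 F72088 (iv D29501) (iv F52913) D29536
theorem F72194 : act 2 n32091 = n29566 := d13_1 D32091 (iv F72192) (iv D32090)
theorem F72195 : act 3 n32091 = n31934 := d16_1 D32091 (iv D31934) (iv F63601)
theorem F72196 : act 4 n32091 = n29539 := d18_1 D32091 (iv D29539) (iv F63602)
theorem F72197 : act 6 n32091 = n29566 := d22_1 D32091 (iv F72192) F72190 (iv D32089)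
def n32092 : Q := act 5 n29537
theorem D32092 : act 5 n29537 = n32092 := rfl
theorem F72198 : act 0 n32092 = n29539 := d4_1 D32092 (iv D29539) D29537
theorem F72199 : act 2 n32092 = n29567 := d13_1 D32092 F63675 F63610
theorem F72200 : act 3 n32092 = n29541 := d16_1 D32092 (iv D29541) (iv F63604)
theorem F72201 : act 6 n32092 = n29567 := d20_2 (iv F63609) D32092 F63675 F63590 D29539 F63614 F63608
def n32093 : Q := act 3 n29540
theorem D32093 : act 3 n29540 = n32093 := rfl
theorem F72202 : act 0 n32093 = n29542 := d2_1 D32093 (iv D29542) (iv F63615)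
def n32094 : Q := act 5 n29540
theorem D32094 : act 5 n29540 = n32094 := rfl
theorem F72203 : act 0 n32094 = n29543 := d4_1 D32094 (iv D29543) (iv F63615)
theorem F72204 : act 2 n32094 = n29541 := d13_1 D32094 (iv D29541) D29540
theorem F72205 : act 4 n32094 = n31922 := d18_1 D32094 (iv D31922) (iv F63616)
theorem F72206 : act 6 n32094 = n29570 := d20_2 F63680 D32094 F63685 F63598 D29543 (iv F63623) (iv F63679)
def n32095 : Q := act 4 n29542
theorem D32095 : act 4 n29542 = n32095 := rfl
theorem F72207 : act 1 n32095 = n29545 := d8_1 D32095 (iv D29545) (iv F63620)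
theorem F72208 : act 3 n32095 = n31924 := d15_1 D32095 (iv D31924) (iv D29342) (iv F52918) D29542
theorem F72209 : act 5 n31952 = n32095 := d9_0 F72207 F63631 (iv F69722) (iv F69726) D31952
def n32096 : Q := act 5 n29542
theorem D32096 : act 5 n29542 = n32096 := rfl
theorem F72210 : act 1 n32096 = n31341 := d9_1 D32096 F69772 F63054 F62219 (iv F63620)
theorem F72211 : act 3 n32096 = n29543 := d16_1 D32096 (iv D29543) D29542
theorem F72212 : act 4 n32096 = n31952 := d18_1 D32096 F72209 (iv D32095)
theorem F72213 : act 6 n29571 = n32096 := d24_0 (iv D32096) F63620 (iv F63556) F63555 (iv F70639) F70640 D31753 F71596 F71595 F70649 (iv D30609) (iv D27222) (iv F52961) (iv F63686)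
def n32097 : Q := act 1 n29544
theorem D32097 : act 1 n29544 = n32097 := rfl
theorem F72214 : act 3 n32097 = n31642 := d7_2 (iv F63625) D32097 (iv D31642)
theorem F72215 : act 4 n32097 = n31362 := d8_2 F63627 D32097 F69821
theorem F72216 : act 5 n32097 = n31357 := d9_2 (iv F63626) D32097 (iv F71107) F71111 (iv D31254)
def n32098 : Q := act 0 n29546
theorem D32098 : act 0 n29546 = n32098 := rfl
theorem F72217 : act 1 n32098 = n29805 := d0_2 D29546 D32098 (iv F65106) F65107 F54103 F42203 F28494 D21461 D25793
theorem F72218 : act 3 n32098 = n31653 := d2_2 F65067 D32098 F70725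
theorem F72219 : act 5 n32098 = n31955 := d4_2 F65181 D32098 F71735
theorem F72220 : act 6 n32098 = n32098 := d5_2 F64370 D32098 (iv D32098)
theorem F72221 : act 4 n31913 = n32098 := d15_0 F72218 F70727 (iv D29329) D29330 D31913
def n32099 : Q := act 4 n29546
theorem D32099 : act 4 n29546 = n32099 := rfl
theorem F72222 : act 0 n32099 = n31913 := d3_1 D32099 F72221 (iv D32098)
theorem F72223 : act 1 n32099 = n29547 := d8_1 D32099 (iv D29547) D29546
theorem F72224 : act 3 n32099 = n29564 := d15_1 D32099 F63666 (iv F61249) F65071 F65067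
theorem F72225 : act 6 n32099 = n32099 := d19_2 F64370 D32099 (iv D32099)
def n32100 : Q := act 3 n29547
theorem D32100 : act 3 n29547 = n32100 := rfl
theorem F72226 : act 0 n32100 = n29550 := d2_1 D32100 (iv D29550) (iv F63632)
theorem F72227 : act 1 n32100 = n29564 := d7_1 D32100 (iv F72224) F72223
theorem F72228 : act 4 n32100 = n29561 := d15_2 D29547 D32100 F65075 (iv D29973) F54076
theorem F72229 : act 5 n32100 = n31990 := d16_2 F64369 D32100 F71839
theorem F72230 : act 2 n29558 = n32100 := d12_3 F72228 (iv D29561) (iv F63651)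
def n32101 : Q := act 2 n29550
theorem D32101 : act 2 n29550 = n32101 := rfl
theorem F72231 : act 0 n32101 = n29558 := d1_1 D32101 F72230 F72226
theorem F72232 : act 4 n32101 = n29560 := d12_2 F65078 D32101 F65080
theorem F72233 : act 5 n32101 = n31998 := d13_2 F71695 D32101 F71863
theorem F72234 : act 3 n31142 = n32101 := d15_5 F72232 F63656 (iv D28157) D28156 D31142
def n32102 : Q := act 1 n29556
theorem D32102 : act 1 n29556 = n32102 := rfl
theorem F72235 : act 4 n32102 = n29996 := d8_2 (iv F63649) D32102 F65144
theorem F72236 : act 5 n32102 = n29994 := d9_2 F71618 D32102 F71628 (iv D31914) (iv F71616)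
def n32103 : Q := act 6 n29556
theorem D32103 : act 6 n29556 = n32103 := rfl
theorem F72237 : act 2 n32103 = n29557 := d14_1 D32103 (iv D29557) D29556
theorem F72238 : act 4 n32103 = n29780 := d19_1 D32103 F64418 (iv F63649)
theorem F72239 : act 1 n29783 = n32103 := d8_3 F72238 F64417 D29783
def n32104 : Q := act 1 n29557
theorem D32104 : act 1 n29557 = n32104 := rfl
theorem F72240 : act 2 n32104 = n31142 := d6_2 F72237 D32104 F69066 F68962 F72239
theorem F72241 : act 3 n32104 = n29558 := d7_2 (iv F63650) D32104 (iv D29558)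
theorem F72242 : act 4 n32104 = n31141 := d8_2 F65084 D32104 F69063
theorem F72243 : act 0 n31142 = n32104 := d3_3 F72242 F69062 D31142
def n32105 : Q := act 5 n29557
theorem D32105 : act 5 n29557 = n32105 := rfl
theorem F72244 : act 0 n32105 = n31936 := d4_1 D32105 F71685 F65167
theorem F72245 : act 3 n32105 = n29559 := d16_1 D32105 (iv D29559) (iv F63650)
theorem F72246 : act 4 n32105 = n29925 := d18_1 D32105 (iv F65085) F65084
theorem F72247 : act 6 n32105 = n29923 := d20_2 D29557 D32105 F64903 D30002 (iv F71685) (iv D31936) F63177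
def n32106 : Q := act 5 n29558
theorem D32106 : act 5 n29558 = n32106 := rfl
theorem F72248 : act 0 n32106 = n31998 := d4_1 D32106 (iv F72233) F72231
theorem F72249 : act 2 n32106 = n31990 := d13_1 D32106 (iv F72229) (iv F72230)
theorem F72250 : act 4 n32106 = n29562 := d18_1 D32106 (iv D29562) (iv F63651)
theorem F72251 : act 6 n32106 = n31988 := d22_3 (iv F71842) F71843 D32106 F71832
theorem F72252 : act 1 n32063 = n32106 := d8_3 F72250 (iv F63660) (iv F72092)
def n32107 : Q := act 1 n29559
theorem D32107 : act 1 n29559 = n32107 := rfl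
theorem F72253 : act 2 n32107 = n32061 := d6_2 (iv F63653) D32107 (iv F72193) F72194 (iv D29566)
theorem F72254 : act 4 n32107 = n29563 := d8_2 (iv F63654) D32107 (iv D29563)
theorem F72255 : act 5 n32107 = n32063 := d9_2 D29559 D32107 F72252 (iv D32106) (iv D29558)
theorem F72256 : act 6 n32059 = n32107 := d19_0 F72254 (iv F63664) D32059
def n32108 : Q := act 0 n29563
theorem D32108 : act 0 n29563 = n32108 := rfl
theorem F72257 : act 1 n32108 = n32000 := d0_2 D29563 D32108 (iv D32000) (iv D29423) F52710 D29360 (iv F64388) (iv D29500) (iv F52929)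
theorem F72258 : act 2 n32108 = n32058 := d1_2 (iv F63661) D32108 F72078
theorem F72259 : act 3 n32108 = n29926 := d2_2 (iv F63662) D32108 (iv D29926)
theorem F72260 : act 5 n32108 = n32065 := d4_2 (iv F63663) D32108 F72094
theorem F72261 : act 6 n32108 = n31962 := d5_2 F63664 D32108 (iv F71757)
def n32109 : Q := act 0 n29566
theorem D32109 : act 0 n29566 = n32109 := rfl
theorem F72262 : act 3 n32109 = n31940 := d2_2 (iv F63672) D32109 (iv D31940)
theorem F72263 : act 4 n32109 = n29567 := d3_2 (iv F63673) D32109 (iv D29567)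
theorem F72264 : act 5 n32109 = n32083 := d4_2 F72192 D32109 (iv F72187)
def n32110 : Q := act 1 n29567
theorem D32110 : act 1 n29567 = n32110 := rfl
theorem F72265 : act 3 n32110 = n29569 := d7_2 (iv F63674) D32110 (iv D29569)
theorem F72266 : act 5 n32110 = n32086 := d9_2 (iv F63675) D32110 (iv D32086) (iv D29532) D29531
def n32111 : Q := act 3 n29568
theorem D32111 : act 3 n29568 = n32111 := rfl
theorem F72267 : act 0 n32111 = n32087 := d2_1 D32111 (iv D32087) (iv F63676)
theorem F72268 : act 1 n32111 = n30608 := d7_1 D32111 F67155 (iv F63677)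
theorem F72269 : act 2 n32111 = n32093 := d11_1 D32111 (iv D32093) (iv D29540) (iv F63604) (iv F63610) F63589 D29534 D32087 F72179 (iv D29542) (iv D25790) (iv F52914) D29538 (iv F63607) D29568
theorem F72270 : act 5 n32111 = n29571 := d16_2 (iv F63679) D32111 (iv D29571)
theorem F72271 : act 6 n32111 = n32093 := d17_2 (iv F63680) D32111 (iv D32093)
def n32112 : Q := act 2 n29569
theorem D32112 : act 2 n29569 = n32112 := rfl
theorem F72272 : act 4 n32112 = n31945 := d12_2 (iv F63681) D32112 (iv D31945)
theorem F72273 : act 5 n32112 = n32088 := d13_2 (iv F63682) D32112 (iv D32088)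
theorem F72274 : act 1 n32112 = n31752 := d23_2 (iv F63682) D32112 F71092 (iv D29128) D29127 F62589 F52236 D28546 F60886 (iv F50180) F50179 (iv D21402) D21401 (iv F52732) (iv F63329) (iv F71804) F71803 D31980 F71805
def n32113 : Q := act 1 n29570
theorem D32113 : act 1 n29570 = n32113 := rfl
theorem F72275 : act 0 n32113 = n31753 := d0_1 D32113 F71596 (iv D31906) (iv D29316) (iv F63038) F63039 F52955 (iv F52953) (iv F63683)
theorem F72276 : act 2 n32113 = n31752 := d6_2 D29570 D32113 (iv F72274) (iv D32112) (iv D29569)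
theorem F72277 : act 4 n32113 = n31947 := d8_2 (iv F63684) D32113 (iv D31947)
theorem F72278 : act 5 n32113 = n31751 := d9_2 (iv F63685) D32113 F71088 F69102 F67272
def n32114 : Q := act 3 n29570
theorem D32114 : act 3 n29570 = n32114 := rfl
theorem F72279 : act 0 n32114 = n29571 := d2_1 D32114 (iv D29571) (iv F63683)
theorem F72280 : act 5 n32114 = n32087 := d16_2 (iv F63685) D32114 (iv D32087)
theorem F72281 : act 2 n32114 = n32096 := d21_2 D29570 D32114 F72211 F63621 (iv F63613) F63612 F52946 D25807
def n32115 : Q := act 2 n29571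
theorem D32115 : act 2 n29571 = n32115 := rfl
theorem F72282 : act 0 n32115 = n32096 := d1_1 D32115 (iv F72281) F72279
theorem F72283 : act 1 n32115 = n30602 := d6_1 D32115 (iv D30602) (iv D27217) (iv F52960) (iv F63686)
theorem F72284 : act 3 n32115 = n32094 := d11_2 D29571 D32115 F72204 (iv F72200) F72199 F63674 D29570 D32114 F72281 F72211 F63621 (iv F63613) F63612 F52946 D25808
theorem F72285 : act 5 n32115 = n32093 := d13_2 F72270 D32115 (iv F72269)
theorem F72286 : act 6 n32115 = n32114 := d14_2 (iv F72213) D32115 F72281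
def n32116 : Q := act 4 n29571
theorem D32116 : act 4 n29571 = n32116 := rfl
theorem F72287 : act 1 n32116 = n29572 := d8_1 D32116 (iv D29572) (iv F63686)
theorem F72288 : act 3 n32116 = n31525 := d15_1 D32116 F70306 (iv D29366) (iv F52954) D29571
theorem F72289 : act 6 n32116 = n31952 := d19_2 (iv F72213) D32116 (iv F72212)
def n32117 : Q := act 4 n29578
theorem D32117 : act 4 n29578 = n32117 := rfl
theorem F72290 : act 0 n32117 = n31079 := d3_1 D32117 F68813 F63729
theorem F72291 : act 1 n32117 = n29616 := d8_1 D32117 (iv D29616) (iv F63708)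
theorem F72292 : act 2 n32117 = n31257 := d12_1 D32117 F69546 F63725
theorem F72293 : act 3 n32117 = n29731 := d15_1 D32117 F64221 (iv D26554) (iv F52981) D29578
theorem F72294 : act 5 n32117 = n29732 := d18_2 (iv F63709) D32117 F64226
theorem F72295 : act 6 n32117 = n29591 := d19_2 (iv F63710) D32117 (iv D29591)
def n32118 : Q := act 6 n29580
theorem D32118 : act 6 n29580 = n32118 := rfl
theorem F72296 : act 0 n32118 = n30786 := d5_1 D32118 (iv F69547) F69544
theorem F72297 : act 1 n32118 = n30709 := d10_1 D32118 (iv D30709) (iv F64541) F64543 F64090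
theorem F72298 : act 2 n32118 = n30763 := d14_1 D32118 (iv F68814) F68811
theorem F72299 : act 3 n32118 = n30276 := d17_1 D32118 (iv D30276) (iv F63713)
theorem F72300 : act 4 n32118 = n29586 := d19_1 D32118 (iv D29586) (iv F63714)
theorem F72301 : act 5 n32118 = n30784 := d20_1 D32118 F67775 F69548 F69547 (iv D30786) F57758 D29580
def n32119 : Q := act 2 n29581
theorem D32119 : act 2 n29581 = n32119 := rfl
theorem F72302 : act 0 n32119 = n29582 := d1_1 D32119 (iv D29582) D29581
theorem F72303 : act 4 n32119 = n30799 := d12_2 (iv F63716) D32119 F67823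
theorem F72304 : act 6 n32119 = n30066 := d14_2 (iv F63717) D32119 (iv D30066)
def n32120 : Q := act 5 n29582
theorem D32120 : act 5 n29582 = n32120 := rfl
theorem F72305 : act 2 n32120 = n29583 := d13_1 D32120 (iv D29583) D29582
theorem F72306 : act 4 n32120 = n30802 := d18_1 D32120 (iv D30802) (iv F63719)
def n32121 : Q := act 2 n29589
theorem D32121 : act 2 n29589 = n32121 := rfl
theorem F72307 : act 0 n32121 = n30757 := d1_1 D32121 F67672 (iv F63742)
theorem F72308 : act 4 n32121 = n30755 := d12_2 (iv F63744) D32121 (iv D30755)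
theorem F72309 : act 6 n32121 = n30940 := d14_2 (iv F63745) D32121 (iv D30940)
def n32122 : Q := act 2 n29593
theorem D32122 : act 2 n29593 = n32122 := rfl
theorem F72310 : act 5 n32122 = n30347 := d13_2 F64052 D32122 F66305
theorem F72311 : act 6 n32122 = n31686 := d14_2 (iv F64834) D32122 F70864
theorem F72312 : act 3 n32122 = n30348 := d21_1 D32122 F66307 (iv F64100) F64099 F53290 (iv F53266) (iv F64058) F64056
theorem F72313 : act 1 n32122 = n30381 := d23_2 F64052 D32122 F66420 D30389 (iv F70898) F70897 F67058 F61309 (iv F66875) (iv F68610) F68609 (iv F68703) F68700 F67867 (iv F64076) (iv D29680) (iv D25924) (iv F53264) (iv F64051)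
def n32123 : Q := act 1 n29594
theorem D32123 : act 1 n29594 = n32123 := rfl
theorem F72314 : act 4 n32123 = n31501 := d8_2 (iv F63759) D32123 (iv D31501)
theorem F72315 : act 5 n32123 = n31503 := d9_2 (iv F63760) D32123 (iv D31503) (iv D28757) (iv F60673)
def n32124 : Q := act 4 n29595
theorem D32124 : act 4 n29595 = n32124 := rfl
theorem F72316 : act 0 n32124 = n29599 := d3_1 D32124 (iv D29599) (iv F63761)
theorem F72317 : act 2 n32124 = n29596 := d12_1 D32124 (iv D29596) D29595
theorem F72318 : act 3 n32124 = n31451 := d15_1 D32124 F70099 D31454 (iv F70121) (iv F63764)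
theorem F72319 : act 5 n32124 = n31287 := d18_2 (iv F63762) D32124 F69627
theorem F72320 : act 6 n32124 = n29633 := d19_2 (iv F63763) D32124 (iv D29633)
def n32125 : Q := act 4 n29597
theorem D32125 : act 4 n29597 = n32125 := rfl
theorem F72321 : act 1 n32125 = n29599 := d8_1 D32125 (iv D29599) D29597
theorem F72322 : act 2 n32125 = n29954 := d12_1 D32125 (iv D29954) (iv F63769)
theorem F72323 : act 3 n32125 = n31768 := d15_1 D32125 F71142 F62636 (iv F60483) (iv F63772)
theorem F72324 : act 5 n32125 = n30781 := d18_2 F63770 D32125 F67762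
theorem F72325 : act 6 n32125 = n29979 := d19_2 F63771 D32125 (iv D29979)
def n32126 : Q := act 3 n29599
theorem D32126 : act 3 n29599 = n32126 := rfl
theorem F72326 : act 0 n32126 = n31451 := d2_1 D32126 (iv F72318) F72316
theorem F72327 : act 1 n32126 = n31768 := d7_1 D32126 (iv F72323) F72321
theorem F72328 : act 2 n32126 = n31147 := d11_1 D32126 F69081 F59852 (iv F49907) (iv F54906) (iv F63766) (iv F72317) F72318 (iv D31451) F61326 (iv F59845) F59846 F54911 (iv F53033) (iv F63779)
theorem F72329 : act 4 n32126 = n31453 := d15_2 D29599 D32126 F70110 (iv F63778) (iv D29598)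
theorem F72330 : act 6 n32126 = n29644 := d17_2 (iv F63780) D32126 (iv D29644)
theorem F72331 : act 5 n31146 = n32126 := d22_0 F72330 F68794 (iv F69148) F69146
def n32127 : Q := act 5 n29599
theorem D32127 : act 5 n29599 = n32127 := rfl
theorem F72332 : act 0 n32127 = n31287 := d4_1 D32127 (iv F72319) F72316
theorem F72333 : act 1 n32127 = n31246 := d9_1 D32127 F69497 (iv F67760) (iv F72324) F72321
theorem F72334 : act 2 n32127 = n29601 := d13_1 D32127 (iv D29601) (iv F63779)
theorem F72335 : act 3 n32127 = n31146 := d16_1 D32127 F72331 (iv D32126)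
theorem F72336 : act 4 n32127 = n29600 := d18_1 D32127 (iv D29600) D29599
def n32128 : Q := act 1 n29601
theorem D32128 : act 1 n29601 = n32128 := rfl
theorem F72337 : act 0 n32128 = n31015 := d0_1 D32128 F68556 (iv F68479) F68480 F67011 (iv D29840) F53637 (iv F60627) (iv F63785)
theorem F72338 : act 2 n32128 = n29853 := d6_2 F72334 D32128 (iv F67051) (iv F69495) (iv F72333)
theorem F72339 : act 3 n32128 = n30279 := d7_2 (iv F63786) D32128 (iv D30279)
theorem F72340 : act 4 n32128 = n29602 := d8_2 (iv F63787) D32128 (iv D29602)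
theorem F72341 : act 5 n32128 = n30522 := d9_2 D29601 D32128 (iv F67778) F67782 F63749
def n32129 : Q := act 1 n29604
theorem D32129 : act 1 n29604 = n32129 := rfl
theorem F72342 : act 2 n32129 = n30381 := d6_2 D29604 D32129 (iv F72313) (iv D32122) F63757
theorem F72343 : act 3 n32129 = n31237 := d7_2 (iv F63796) D32129 F69462
theorem F72344 : act 5 n32129 = n30743 := d9_2 F64595 D32129 F67619 F60422 (iv F64592)
theorem F72345 : act 6 n32129 = n30380 := d10_2 (iv F63795) D32129 (iv F70907) (iv F70910) (iv D29868)
theorem F72346 : act 0 n30387 = n32129 := d5_3 F72345 F66417 D30387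
def n32130 : Q := act 4 n29604
theorem D32130 : act 4 n29604 = n32130 := rfl
theorem F72347 : act 0 n32130 = n29877 := d3_1 D32130 F64733 (iv F63794)
theorem F72348 : act 2 n32130 = n29605 := d12_1 D32130 (iv D29605) D29604
theorem F72349 : act 6 n32130 = n29869 := d19_2 (iv F63795) D32130 (iv D29869)
def n32131 : Q := act 3 n29606
theorem D32131 : act 3 n29606 = n32131 := rfl
theorem F72350 : act 0 n32131 = n29607 := d2_1 D32131 (iv D29607) (iv F63800)
theorem F72351 : act 1 n32131 = n30966 := d7_1 D32131 (iv D30966) (iv F63801)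
theorem F72352 : act 2 n32131 = n31879 := d11_1 D32131 (iv D31879) (iv D29284) F52536 (iv F45225) F45226 D25843 D29607 (iv F68945) F68946 F62705 F52315 (iv F54673) (iv F54676) D29606
theorem F72353 : act 4 n32131 = n31062 := d15_2 (iv F63802) D32131 F68753 F59305 (iv F54941)
theorem F72354 : act 5 n32131 = n29621 := d16_2 (iv F63803) D32131 (iv D29621)
theorem F72355 : act 6 n32131 = n32131 := d17_2 F63804 D32131 (iv D32131)
def n32132 : Q := act 2 n29613
theorem D32132 : act 2 n29613 = n32132 := rfl
theorem F72356 : act 0 n32132 = n30989 := d1_1 D32132 F68471 (iv F63830)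
theorem F72357 : act 3 n32132 = n30340 := d11_2 D29613 D32132 (iv F66276) (iv F63987) F63986 F53189 F50002 (iv F60744) (iv F68471) (iv D30989) F58992 D27904 (iv F59001) F53054 D25849
theorem F72358 : act 4 n32132 = n29840 := d12_2 (iv F63831) D32132 F64600
theorem F72359 : act 6 n32132 = n30539 := d14_2 (iv F63832) D32132 (iv D30539)
theorem F72360 : act 1 n32132 = n29839 := d25_5 F58473 F53054 D25849 D29613 D32132 F64597 F55424 F50041 (iv F49369) (iv F60060) D31168 F69183 F63203 F52672 F41352 F40734 D21117 D25330 D28992 F62283 F52046 F40870 F27655 (iv F27685) D21177 F40921 (iv F42608) (iv F42611) F29994 D17062 F39673 (iv D12807) (iv D10319) (iv D5691) (iv D2741) (iv D1326) (iv F2191) D2699 D5605 (iv F8652) (iv F18220) (iv D10330) F8650 (iv F9095) F32506 F18221 D10335 (iv F20879) F20880 F14478 D9701 F14484 F7152 F16695 (iv F7210) D9764 (iv F20970) D15585 D20853 D25163 F51473 F45551 (iv F35614) (iv F35618) (iv F45546) F45545 F43440 (iv F47397) (iv F51771) F51772 F40466 (iv D20863) F27079 (iv F27112) (iv F40072) (iv F51500) (iv F58470)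
def n32133 : Q := act 2 n29614
theorem D32133 : act 2 n29614 = n32133 := rfl
theorem F72361 : act 0 n32133 = n29615 := d1_1 D32133 (iv D29615) (iv F63833)
theorem F72362 : act 1 n32133 = n31580 := d6_1 D32133 F70490 F68905 F68901 (iv F63834)
theorem F72363 : act 3 n32133 = n31781 := d11_2 D29614 D32133 F71185 (iv D29612) (iv D25848) F41598 D21497 D25852 D29615 (iv F63840) D31782 F71190 (iv D29611) F53055 D25851
theorem F72364 : act 4 n32133 = n30115 := d12_2 (iv F63835) D32133 F65510
theorem F72365 : act 5 n32133 = n30114 := d13_2 (iv F63836) D32133 F65507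
theorem F72366 : act 6 n32133 = n29623 := d14_2 (iv F63837) D32133 (iv D29623)
def n32134 : Q := act 1 n29618
theorem D32134 : act 1 n29618 = n32134 := rfl
theorem F72367 : act 2 n32134 = n30131 := d6_2 D29618 D32134 (iv F68079) F68080 F58062
theorem F72368 : act 4 n32134 = n30121 := d8_2 F68066 D32134 (iv F68064)
theorem F72369 : act 0 n32134 = n30123 := d23_3 (iv D29619) D29618 D32134 (iv F70033) (iv F70034) F65553 (iv F68983) (iv D31119) F65629 (iv D30158) F54428 D26419 F54464 D26423 F60696 (iv F65787) F65784 (iv F66359) F66358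
def n32135 : Q := act 4 n29621
theorem D32135 : act 4 n29621 = n32135 := rfl
theorem F72370 : act 0 n32135 = n30846 := d3_1 D32135 F67973 (iv F63854)
theorem F72371 : act 1 n32135 = n29666 := d8_1 D32135 F64033 (iv F63855)
theorem F72372 : act 3 n32135 = n30281 := d15_1 D32135 (iv D30281) (iv D26586) (iv F53090) D29621
theorem F72373 : act 5 n32135 = n31062 := d18_2 F72354 D32135 (iv F72353)
theorem F72374 : act 6 n32135 = n30846 := d19_2 (iv F63856) D32135 F67973
def n32136 : Q := act 4 n29622
theorem D32136 : act 4 n29622 = n32136 := rfl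
theorem F72375 : act 0 n32136 = n30522 := d3_1 D32136 F66890 (iv F63857)
theorem F72376 : act 1 n32136 = n29624 := d8_1 D32136 (iv D29624) (iv F63858)
theorem F72377 : act 2 n32136 = n30102 := d12_1 D32136 F65464 (iv F63860)
theorem F72378 : act 3 n32136 = n30116 := d15_1 D32136 F65514 (iv D26587) (iv F53091) D29622
theorem F72379 : act 5 n32136 = n31015 := d18_2 F66997 D32136 F68557
theorem F72380 : act 6 n32136 = n30101 := d19_2 (iv F63859) D32136 F65460
def n32137 : Q := act 1 n29623
theorem D32137 : act 1 n29623 = n32137 := rfl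
theorem F72381 : act 2 n32137 = n30523 := d6_2 D29623 D32137 (iv D30523) (iv F63860) F63858
theorem F72382 : act 3 n32137 = n32134 := d7_2 (iv F63862) D32137 (iv D32134)
theorem F72383 : act 0 n31593 = n32137 := d2_3 F72382 F72369 (iv F70526)
def n32138 : Q := act 4 n29623
theorem D32138 : act 4 n29623 = n32138 := rfl
theorem F72384 : act 0 n32138 = n29629 := d3_1 D32138 (iv D29629) (iv F63861)
theorem F72385 : act 2 n32138 = n29624 := d12_1 D32138 (iv D29624) D29623
theorem F72386 : act 3 n32138 = n31189 := d15_1 D32138 F69279 (iv F68065) F68066 (iv F63862)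
theorem F72387 : act 6 n32138 = n30115 := d19_2 F72366 D32138 (iv F72364)
theorem F72388 : act 5 n31196 = n32138 := d20_7 F72387 (iv D30115) F60432 F63889 F63888 (iv F64214) (iv F69306)
def n32139 : Q := act 5 n29623
theorem D32139 : act 5 n29623 = n32139 := rfl
theorem F72389 : act 0 n32139 = n29630 := d4_1 D32139 (iv D29630) (iv F63861)
theorem F72390 : act 2 n32139 = n29625 := d13_1 D32139 (iv D29625) D29623
theorem F72391 : act 3 n32139 = n31671 := d16_1 D32139 F70798 (iv F63862)
theorem F72392 : act 4 n32139 = n31196 := d18_1 D32139 F72388 (iv D32138)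
theorem F72393 : act 6 n32139 = n31679 := d20_2 F72366 D32139 F70828 F63839 D29630 (iv F65508) (iv F72365)
def n32140 : Q := act 1 n29625
theorem D32140 : act 1 n29625 = n32140 := rfl
theorem F72394 : act 0 n32140 = n30971 := d0_1 D32140 F68755 (iv D31062) (iv D28012) F48573 D27988 (iv F59226) F54388 (iv F63866)
theorem F72395 : act 3 n32140 = n29626 := d7_2 (iv F63867) D32140 (iv D29626)
theorem F72396 : act 4 n32140 = n31018 := d8_2 F64218 D32140 (iv F68569)
theorem F72397 : act 5 n32140 = n30988 := d9_2 D29625 D32140 F68466 F66997 F63858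
theorem F72398 : act 6 n32140 = n29950 := d10_2 (iv F63868) D32140 (iv D29950) F53991 (iv F62377)
def n32141 : Q := act 0 n29632
theorem D32141 : act 0 n29632 = n32141 := rfl
theorem F72399 : act 1 n32141 = n30678 := d0_2 D29632 D32141 F67369 (iv F70086) F70085 F68797 (iv D29637) (iv D25874) (iv F53103)
theorem F72400 : act 2 n32141 = n31776 := d1_2 F67941 D32141 F71168
theorem F72401 : act 3 n32141 = n31902 := d2_2 (iv F63897) D32141 (iv D31902)
theorem F72402 : act 6 n31409 = n32141 := d22_3 (iv F70944) (iv D31706) (iv F69973) (iv D32141)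
def n32142 : Q := act 4 n29632
theorem D32142 : act 4 n29632 = n32142 := rfl
theorem F72403 : act 1 n32142 = n29633 := d8_1 D32142 (iv D29633) D29632
def n32143 : Q := act 6 n29632
theorem D32143 : act 6 n29632 = n32143 := rfl
theorem F72404 : act 0 n32143 = n31409 := d5_1 D32143 F72402 (iv D32141)
theorem F72405 : act 2 n32143 = n30892 := d14_1 D32143 (iv F68122) F67941
theorem F72406 : act 3 n32143 = n31904 := d17_1 D32143 (iv D31904) (iv F63897)
theorem F72407 : act 5 n30117 = n32143 := d22_0 (iv D32143) (iv F70944) (iv D31706) F65518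
def n32144 : Q := act 5 n29633
theorem D32144 : act 5 n29633 = n32144 := rfl
theorem F72408 : act 0 n32144 = n29645 := d4_1 D32144 (iv D29645) (iv F63898)
theorem F72409 : act 2 n32144 = n29635 := d13_1 D32144 (iv D29635) (iv F63899)
theorem F72410 : act 4 n32144 = n29634 := d18_1 D32144 (iv D29634) D29633
theorem F72411 : act 6 n32144 = n32127 := d20_2 F72320 D32144 (iv D32127) F63780 D29645 (iv F69628) (iv F72319)
def n32145 : Q := act 1 n29634
theorem D32145 : act 1 n29634 = n32145 := rfl
theorem F72412 : act 3 n32145 = n31261 := d7_2 (iv F63902) D32145 F69560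
theorem F72413 : act 5 n32145 = n30400 := d9_2 D29634 D32145 (iv F70941) F70944 (iv D29632)
theorem F72414 : act 6 n32145 = n30780 := d10_2 (iv F63903) D32145 F67756 F60501 (iv F63782)
theorem F72415 : act 0 n30407 = n32145 := d5_3 F72414 (iv F70930) F70935
theorem F72416 : act 2 n30401 = n32145 := d14_3 F72414 F67757 (iv F66472)
def n32146 : Q := act 2 n29636
theorem D32146 : act 2 n29636 = n32146 := rfl
theorem F72417 : act 1 n32146 = n30401 := d6_1 D32146 F72416 (iv D32145) F63901 D29636
theorem F72418 : act 5 n32146 = n31681 := d13_2 (iv F64055) D32146 F70839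
theorem F72419 : act 6 n32146 = n30288 := d14_2 F64830 D32146 F66082
theorem F72420 : act 3 n32146 = n30289 := d21_1 D32146 F66084 (iv F64113) F64112 F53884 (iv F53857) (iv F64840) F64838
def n32147 : Q := act 4 n29637
theorem D32147 : act 4 n29637 = n32147 := rfl
theorem F72421 : act 0 n32147 = n29639 := d3_1 D32147 (iv D29639) D29637
theorem F72422 : act 1 n32147 = n29644 := d8_1 D32147 (iv F68799) F68797
theorem F72423 : act 2 n32147 = n31187 := d12_1 D32147 (iv F70947) F70946
theorem F72424 : act 3 n32147 = n29639 := d15_1 D32147 (iv D29639) D29638 (iv F68428) F68427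
theorem F72425 : act 5 n32147 = n31003 := d18_2 F63923 D32147 (iv D31003)
theorem F72426 : act 6 n32147 = n31212 := d19_2 F69313 D32147 (iv F69363)
def n32148 : Q := act 2 n29646
theorem D32148 : act 2 n29646 = n32148 := rfl
theorem F72427 : act 1 n32148 = n29648 := d6_1 D32148 (iv D29648) (iv D25879) (iv F53115) D29646
theorem F72428 : act 4 n32148 = n30468 := d12_2 F68785 D32148 (iv F68783)
theorem F72429 : act 5 n32148 = n30467 := d13_2 (iv F63941) D32148 F66693
theorem F72430 : act 6 n32148 = n31238 := d14_2 F63942 D32148 F69466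
theorem F72431 : act 3 n32148 = n30582 := d21_1 D32148 F67097 F60701 F49959 (iv F49761) (iv F60451) (iv F69477) F69476
def n32149 : Q := act 2 n29647
theorem D32149 : act 2 n29647 = n32149 := rfl
theorem F72432 : act 0 n32149 = n29648 := d1_1 D32149 (iv D29648) D29647
theorem F72433 : act 4 n32149 = n30129 := d12_2 (iv F63944) D32149 F65543
theorem F72434 : act 5 n32149 = n31048 := d13_2 (iv F63945) D32149 (iv D31048)
theorem F72435 : act 6 n32149 = n30127 := d14_2 F63946 D32149 F65538
def n32150 : Q := act 3 n29648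
theorem D32150 : act 3 n29648 = n32150 := rfl
theorem F72436 : act 1 n32150 = n30582 := d7_1 D32150 (iv F72431) F72427
theorem F72437 : act 4 n32150 = n30583 := d15_2 F65547 D32150 F67100 (iv F66700) F66699
theorem F72438 : act 5 n32150 = n31629 := d16_2 (iv F65542) D32150 F70657
def n32151 : Q := act 6 n29648
theorem D32151 : act 6 n29648 = n32151 := rfl
theorem F72439 : act 0 n32151 = n30127 := d5_1 D32151 (iv F72435) F72432
theorem F72440 : act 2 n32151 = n29649 := d14_1 D32151 (iv D29649) D29648
theorem F72441 : act 4 n32151 = n30119 := d19_1 D32151 (iv F65548) F65547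
theorem F72442 : act 5 n32151 = n30118 := d20_1 D32151 (iv F68688) (iv F72434) F72435 (iv D30127) D30128 (iv F65542)
def n32152 : Q := act 3 n29658
theorem D32152 : act 3 n29658 = n32152 := rfl
theorem F72443 : act 0 n32152 = n29659 := d2_1 D32152 (iv D29659) (iv F63999)
theorem F72444 : act 1 n32152 = n31381 := d7_1 D32152 F69889 (iv F64000)
theorem F72445 : act 4 n32152 = n30145 := d15_2 (iv F64001) D32152 F65593 F54420 (iv F55882)
theorem F72446 : act 5 n32152 = n29660 := d16_2 (iv F64002) D32152 (iv D29660)
def n32153 : Q := act 2 n29659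
theorem D32153 : act 2 n29659 = n32153 := rfl
theorem F72447 : act 1 n32153 = n30728 := d6_1 D32153 F69805 (iv D31354) F60914 (iv F64003)
theorem F72448 : act 4 n32153 = n30865 := d12_2 F65584 D32153 F68037
theorem F72449 : act 5 n32153 = n29661 := d13_2 (iv F64004) D32153 (iv D29661)
theorem F72450 : act 6 n32153 = n31600 := d14_2 F65580 D32153 F70554
theorem F72451 : act 3 n32153 = n30730 := d21_1 D32153 F67568 F58606 (iv D25911) (iv F53193) D29658 D32152 F72443
def n32154 : Q := act 5 n29662
theorem D32154 : act 5 n29662 = n32154 := rfl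
theorem F72452 : act 0 n32154 = n30142 := d4_1 D32154 (iv D30142) (iv F64013)
theorem F72453 : act 1 n32154 = n30510 := d9_1 D32154 F66855 F65019 (iv D29956) F64017
theorem F72454 : act 2 n32154 = n30621 := d13_1 D32154 F67194 (iv F64014)
theorem F72455 : act 3 n32154 = n29663 := d16_1 D32154 (iv D29663) (iv F64015)
theorem F72456 : act 4 n32154 = n29955 := d18_1 D32154 (iv D29955) (iv F64016)
theorem F72457 : act 6 n32154 = n32152 := d20_2 D29662 D32154 F72446 F64008 D30142 F65580 F64004
def n32155 : Q := act 2 n29665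
theorem D32155 : act 2 n29665 = n32155 := rfl
theorem F72458 : act 0 n32155 = n29666 := d1_1 D32155 (iv D29666) (iv F64028)
theorem F72459 : act 3 n32155 = n31107 := d11_2 D29665 D32155 F68932 F60161 (iv D25898) F41695 D21542 D25909 D29666 (iv F68475) F68474 F63984 (iv D29654) F53184 D25908
theorem F72460 : act 4 n32155 = n30556 := d12_2 (iv F64030) D32155 F67007
theorem F72461 : act 5 n32155 = n32132 := d13_2 (iv F64031) D32155 (iv D32132)
theorem F72462 : act 6 n32155 = n30197 := d14_2 (iv F64032) D32155 (iv D30197)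
def n32156 : Q := act 3 n29667
theorem D32156 : act 3 n29667 = n32156 := rfl
theorem F72463 : act 0 n32156 = n32153 := d2_1 D32156 F72451 F67572
theorem F72464 : act 1 n32156 = n30809 := d7_1 D32156 F67861 (iv F64038)
theorem F72465 : act 2 n32156 = n32152 := d11_1 D32156 (iv D32152) (iv D29658) F53193 D25911 (iv F58606) (iv F67568) (iv F72451) (iv D32153) (iv D29659) (iv D25902) F41696 D21546 D25912 D29667
theorem F72466 : act 4 n32156 = n30867 := d15_2 (iv F64035) D32156 F68047 F58050 (iv F58305)
theorem F72467 : act 5 n32156 = n29668 := d16_2 (iv F64036) D32156 (iv D29668)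
theorem F72468 : act 6 n32156 = n30621 := d17_2 (iv F64037) D32156 (iv D30621)
def n32157 : Q := act 4 n29671
theorem D32157 : act 4 n29671 = n32157 := rfl
theorem F72469 : act 0 n32157 = n29673 := d3_1 D32157 (iv D29673) (iv F64051)
theorem F72470 : act 1 n32157 = n32155 := d8_1 D32157 F72460 (iv F67010)
theorem F72471 : act 2 n32157 = n30862 := d12_1 D32157 F68027 F66305
theorem F72472 : act 3 n32157 = n29907 := d15_1 D32157 F64849 (iv D26614) (iv F53262) D29671
theorem F72473 : act 5 n32157 = n29905 := d18_2 (iv F64052) D32157 F64841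
theorem F72474 : act 6 n32157 = n31100 := d19_2 F68959 D32157 (iv F68958)
theorem F72475 : act 0 n30405 = n31005 := d23_11 (iv F64031) D32155 (iv F72470) F72469 (iv F64055) D32146 F72417 F66470 (iv D26876) D26875 D30405 F68540 D31009 F68543 (iv F68552) F68553 (iv D28500) D28499 (iv F63830)
theorem F72476 : act 5 n31008 = n30405 := d4_0 F72475 F68540 D31008
def n32158 : Q := act 5 n29672
theorem D32158 : act 5 n29672 = n32158 := rfl
theorem F72477 : act 0 n32158 = n32122 := d4_1 D32158 F72310 F66304
theorem F72478 : act 2 n32158 = n29674 := d13_1 D32158 (iv D29674) D29672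
theorem F72479 : act 3 n32158 = n30769 := d16_1 D32158 F67721 (iv F66303)
theorem F72480 : act 4 n32158 = n32146 := d18_1 D32158 F72418 F70837
theorem F72481 : act 6 n32158 = n30804 := d20_2 F68228 D32158 F67842 (iv F66380) (iv F72310) F72311 F70863
def n32159 : Q := act 6 n29674
theorem D32159 : act 6 n29674 = n32159 := rfl
theorem F72482 : act 0 n32159 = n29903 := d5_1 D32159 (iv F64834) (iv F64056)
theorem F72483 : act 2 n32159 = n30804 := d14_1 D32159 (iv F72481) F72478
theorem F72484 : act 3 n32159 = n29676 := d17_1 D32159 (iv D29676) (iv F64058)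
theorem F72485 : act 4 n32159 = n29901 := d19_1 D32159 F64830 (iv F64059)
theorem F72486 : act 5 n32159 = n31112 := d20_1 D32159 F68959 F64052 F64834 (iv F64833) (iv D29675) D29674
def n32160 : Q := act 1 n29675
theorem D32160 : act 1 n29675 = n32160 := rfl
theorem F72487 : act 0 n32160 = n32160 := d0_1 D32160 (iv D32160) F68960 (iv D31112) F59582 F48739 (iv F59582) D31112 (iv F68960)
theorem F72488 : act 2 n32160 = n32160 := d6_2 F68229 D32160 (iv D32160) (iv F68229) F68226
theorem F72489 : act 3 n32160 = n29677 := d7_2 (iv F64060) D32160 (iv D29677)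
theorem F72490 : act 5 n32160 = n29738 := d9_2 (iv F64833) D32160 (iv D29738) F53860 (iv F64831)
theorem F72491 : act 6 n32160 = n29681 := d10_2 D29675 D32160 (iv D29681) (iv D25927) (iv F53264)
def n32161 : Q := act 5 n29678
theorem D32161 : act 5 n29678 = n32161 := rfl
theorem F72492 : act 0 n32161 = n31778 := d4_1 D32161 (iv F71248) F71246
theorem F72493 : act 4 n32161 = n31777 := d18_1 D32161 F71172 (iv F64070)
theorem F72494 : act 6 n32161 = n31778 := d22_1 D32161 (iv F71248) F71249 F71246
theorem F72495 : act 1 n31775 = n32161 := d10_5 F72494 (iv D31778) (iv D29166) (iv F62657) D31775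
def n32162 : Q := act 1 n29680
theorem D32162 : act 1 n29680 = n32162 := rfl
theorem F72496 : act 2 n32162 = n32142 := d6_2 (iv F64077) D32162 F72403 F63899 F53275
theorem F72497 : act 4 n32162 = n30838 := d8_2 (iv F64078) D32162 (iv D30838)
theorem F72498 : act 5 n32162 = n31775 := d9_2 D29680 D32162 F72495 (iv D32161) (iv D29678)
def n32163 : Q := act 2 n29691
theorem D32163 : act 2 n29691 = n32163 := rfl
theorem F72499 : act 0 n32163 = n29695 := d1_1 D32163 (iv D29695) (iv F64120)
theorem F72500 : act 3 n32163 = n29693 := d11_2 D29691 D32163 (iv F70154) (iv F70415) (iv D31556) F61704 F50655 D25939 D29695 F64127 (iv F61731) (iv F70421) F70420 F69460 F61729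
theorem F72501 : act 1 n32163 = n29995 := d25_15 (iv F68416) F68415 F58905 (iv F48377) (iv F59066) (iv F59069) (iv F64217) (iv F69304) F69305 (iv F60423) D31236 F69460 F61729 D29691 D32163 F65141 F54119 F42473 F38750 F37918 (iv F37385) (iv F37417) F37418 F34078 (iv F46676) (iv D23443) (iv D18977) F24222 (iv F33884) D23358 F46494 F52369 F52368 F41143 (iv F39844) D22893 F45277 D22944 D27109 (iv F65596) F65595 (iv D29005) (iv D25342) (iv F51990) D29001 F62308 D31651 F70719 (iv F65067) (iv F65070) F63105 F63076 (iv D29322) (iv D25626) (iv F41616) (iv F47429) F47428 D25858 D29618 (iv F63862) (iv D29623) (iv F63858) (iv D29622) (iv F63850) (iv F63853) F56776 F45453 (iv D22910) (iv D18409) (iv F32258) F39679 D22037 (iv F52536) D29284 D31879 (iv F72352) F72351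
theorem F72502 : act 5 n29691 = n32163 := d23_0 (iv D32163) F68918 F68915 (iv F68972) F68974 F65144 F55695 (iv F64906) (iv D29924) (iv F64888) (iv F71631) F71633 (iv D29363) (iv D25656) (iv F41384) F41386 (iv F41751) (iv F53300) (iv F64120)
def n32164 : Q := act 4 n29691
theorem D32164 : act 4 n29691 = n32164 := rfl
theorem F72503 : act 0 n32164 = n29696 := d3_1 D32164 (iv D29696) (iv F64120)
def n32165 : Q := act 6 n29691
theorem D32165 : act 6 n29691 = n32165 := rfl
theorem F72504 : act 0 n32165 = n29697 := d5_1 D32165 (iv D29697) (iv F64120)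
theorem F72505 : act 1 n32165 = n31134 := d10_1 D32165 (iv D31134) F59646 D31103 (iv F68918)
theorem F72506 : act 3 n32165 = n29694 := d17_1 D32165 (iv D29694) D29691
def n32166 : Q := act 5 n29692
theorem D32166 : act 5 n29692 = n32166 := rfl
theorem F72507 : act 0 n32166 = n29699 := d4_1 D32166 (iv D29699) (iv F64121)
theorem F72508 : act 1 n32166 = n29998 := d9_1 D32166 F65153 F63239 F68927 F68923
theorem F72509 : act 3 n32166 = n31962 := d16_1 D32166 (iv F72036) (iv F72038)
theorem F72510 : act 4 n32166 = n29693 := d18_1 D32166 (iv D29693) D29692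
theorem F72511 : act 6 n32166 = n29926 := d20_2 F64916 D32166 F64911 (iv D29700) D29699 (iv F64374) D29928
def n32167 : Q := act 4 n29695
theorem D32167 : act 4 n29695 = n32167 := rfl
theorem F72512 : act 1 n32167 = n31933 := d8_1 D32167 (iv D31933) (iv F64125)
theorem F72513 : act 2 n32167 = n29696 := d12_1 D32167 (iv D29696) D29695
theorem F72514 : act 3 n32167 = n32059 := d15_1 D32167 (iv D32059) (iv F64376) F64132 (iv F64127)
theorem F72515 : act 5 n32167 = n29696 := d18_2 F64126 D32167 (iv D29696)
def n32168 : Q := act 6 n29695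
theorem D32168 : act 6 n29695 = n32168 := rfl
theorem F72516 : act 1 n32168 = n29925 := d10_1 D32168 (iv D29925) (iv F64888) F64889 (iv F64125)
theorem F72517 : act 2 n32168 = n29697 := d14_1 D32168 (iv D29697) D29695
theorem F72518 : act 3 n32168 = n29702 := d17_1 D32168 (iv D29702) (iv F64127)
theorem F72519 : act 5 n32168 = n32165 := d22_2 F64126 D32168 (iv D32165) F64120
def n32169 : Q := act 3 n29696
theorem D32169 : act 3 n29696 = n32169 := rfl
theorem F72520 : act 1 n32169 = n29704 := d7_1 D32169 (iv D29704) (iv F64128)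
theorem F72521 : act 4 n32169 = n29698 := d15_2 D29696 D32169 (iv D29698) (iv D25940) D25939
theorem F72522 : act 5 n32169 = n32059 := d16_2 F72515 D32169 (iv F72514)
theorem F72523 : act 2 n32169 = n32060 := d21_4 (iv F72081) (iv F72514) F72513 D32169 F72084 F71785 (iv F72076) F72074
def n32170 : Q := act 6 n29696
theorem D32170 : act 6 n29696 = n32170 := rfl
theorem F72524 : act 1 n32170 = n29793 := d10_1 D32170 (iv D29793) F53520 (iv F53306) (iv F64128)
theorem F72525 : act 4 n32170 = n29697 := d19_1 D32170 (iv D29697) D29696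
def n32171 : Q := act 5 n29697
theorem D32171 : act 5 n29697 = n32171 := rfl
theorem F72526 : act 0 n32171 = n32168 := d4_1 D32171 F72519 F72504
theorem F72527 : act 2 n32171 = n32165 := d13_1 D32171 (iv F72519) F72517
theorem F72528 : act 3 n32171 = n29703 := d16_1 D32171 (iv D29703) (iv F64130)
theorem F72529 : act 6 n32171 = n32163 := d20_2 D29697 D32171 (iv F72502) D32165 (iv F72519) (iv D32168) (iv F64126)
def n32172 : Q := act 0 n29701
theorem D32172 : act 0 n29701 = n32172 := rfl
theorem F72530 : act 1 n32172 = n29799 := d0_2 D29701 D32172 F64462 (iv F64461) F55323 (iv F55312) F54122 F64142 F64122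
theorem F72531 : act 3 n32172 = n31929 := d2_2 (iv F64136) D32172 F71668
theorem F72532 : act 4 n32172 = n29800 := d3_2 F64395 D32172 (iv F64468)
theorem F72533 : act 5 n32172 = n29708 := d4_2 (iv F64137) D32172 (iv D29708)
theorem F72534 : act 6 n32172 = n29915 := d5_2 (iv F64380) D32172 F64875
def n32173 : Q := act 2 n29704
theorem D32173 : act 2 n29704 = n32173 := rfl
theorem F72535 : act 0 n32173 = n31937 := d1_1 D32173 (iv D31937) (iv F64143)
theorem F72536 : act 1 n32173 = n32079 := d6_1 D32173 F72151 (iv F72083) (iv F72523) F72520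
theorem F72537 : act 4 n32173 = n29705 := d12_2 (iv F64144) D32173 (iv D29705)
theorem F72538 : act 6 n32173 = n29801 := d14_2 (iv F64145) D32173 (iv D29801)
theorem F72539 : act 3 n32173 = n32103 := d21_1 D32173 F72237 F63650 F52927 F41523 (iv F52661) D29358 (iv F64143)
def n32174 : Q := act 5 n29705
theorem D32174 : act 5 n29705 = n32174 := rfl
theorem F72540 : act 0 n32174 = n32040 := d4_1 D32174 (iv D32040) (iv F64146)
theorem F72541 : act 1 n32174 = n29990 := d9_1 D32174 (iv D29990) F54110 D29526 F64386
theorem F72542 : act 2 n32174 = n29706 := d13_1 D32174 (iv D29706) D29705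
theorem F72543 : act 3 n32174 = n29983 := d16_1 D32174 F65118 (iv F64423)
theorem F72544 : act 6 n32174 = n29981 := d20_2 (iv F64147) D32174 F65109 F63431 D32040 F72022 (iv D29805)
def n32175 : Q := act 1 n29706
theorem D32175 : act 1 n29706 = n32175 := rfl
theorem F72545 : act 2 n32175 = n29919 := d6_2 F72542 D32175 F64886 (iv F65135) (iv F72541)
theorem F72546 : act 3 n32175 = n29707 := d7_2 (iv F64149) D32175 (iv D29707)
theorem F72547 : act 5 n32175 = n29917 := d9_2 D29706 D32175 F64882 F64394 F64131
def n32176 : Q := act 3 n29709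
theorem D32176 : act 3 n29709 = n32176 := rfl
theorem F72548 : act 1 n32176 = n29717 := d7_1 D32176 (iv D29717) (iv F64151)
def n32177 : Q := act 6 n29711
theorem D32177 : act 6 n29711 = n32177 := rfl
theorem F72549 : act 0 n32177 = n29713 := d5_1 D32177 (iv D29713) D29711
theorem F72550 : act 2 n32177 = n31411 := d14_1 D32177 (iv D31411) F64156
theorem F72551 : act 3 n32177 = n30300 := d17_1 D32177 (iv D30300) (iv F64153)
theorem F72552 : act 4 n32177 = n29716 := d19_1 D32177 (iv D29716) (iv F64154)
theorem F72553 : act 5 n32177 = n31174 := d20_1 D32177 F69217 F61735 D29713 (iv F69997) (iv D31416) (iv F64155)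
def n32178 : Q := act 3 n29715
theorem D32178 : act 3 n29715 = n32178 := rfl
theorem F72554 : act 0 n32178 = n29717 := d2_1 D32178 (iv D29717) (iv F64165)
theorem F72555 : act 1 n32178 = n31410 := d7_1 D32178 F69977 F64168
theorem F72556 : act 2 n32178 = n30727 := d11_1 D32178 F67562 F58029 (iv D25954) (iv D21570) (iv F41758) D25949 D29717 (iv F70601) F70602 F62057 F53319 (iv D25952) (iv F53312) D29715
theorem F72557 : act 4 n32178 = n30726 := d15_2 (iv F64166) D32178 (iv F69796) F69797 (iv F61133)
theorem F72558 : act 5 n32178 = n31412 := d16_2 (iv F64167) D32178 F69981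
def n32179 : Q := act 6 n29715
theorem D32179 : act 6 n29715 = n32179 := rfl
theorem F72559 : act 0 n32179 = n29718 := d5_1 D32179 (iv D29718) (iv F64165)
theorem F72560 : act 2 n32179 = n29716 := d14_1 D32179 (iv D29716) D29715
theorem F72561 : act 4 n32179 = n31411 := d19_1 D32179 (iv D31411) (iv F64166)
theorem F72562 : act 5 n32179 = n31569 := d20_1 D32179 (iv D31569) F61771 D29718 (iv F69986) (iv D31413) (iv F64167)
def n32180 : Q := act 4 n29717
theorem D32180 : act 4 n29717 = n32180 := rfl
theorem F72563 : act 0 n32180 = n30726 := d3_1 D32180 (iv F72557) F72554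
theorem F72564 : act 2 n32180 = n30724 := d12_1 D32180 (iv F70603) F70601
theorem F72565 : act 6 n32180 = n31642 := d19_2 (iv F70599) D32180 F70693
def n32181 : Q := act 1 n29718
theorem D32181 : act 1 n29718 = n32181 := rfl
theorem F72566 : act 3 n32181 = n31641 := d7_2 F70598 D32181 (iv F70691)
theorem F72567 : act 4 n32181 = n31770 := d8_2 F70001 D32181 F71148
theorem F72568 : act 5 n31640 = n32181 := d18_0 F72567 (iv D31770) (iv F70686)
def n32182 : Q := act 1 n29724
theorem D32182 : act 1 n29724 = n32182 := rfl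
theorem F72569 : act 2 n32182 = n30087 := d6_2 (iv F64198) D32182 (iv D30087) (iv F65401) (iv F65404)
theorem F72570 : act 3 n32182 = n29725 := d7_2 (iv F64199) D32182 (iv D29725)
theorem F72571 : act 4 n32182 = n30090 := d8_2 F69197 D32182 (iv F69194)
theorem F72572 : act 5 n32182 = n30754 := d9_2 F69185 D32182 (iv F69164) F69166 (iv F69182)
theorem F72573 : act 6 n32182 = n30858 := d10_2 D29724 D32182 (iv D30858) F57988 (iv F57982)
theorem F72574 : act 0 n30690 = n32182 := d5_3 F72573 (iv F68014) F67656
def n32183 : Q := act 0 n29726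
theorem D32183 : act 0 n29726 = n32183 := rfl
theorem F72575 : act 1 n32183 = n30113 := d0_2 D29726 D32183 (iv F68358) F68359 F66843 F56496 (iv F56504) (iv F56507) (iv F53379)
theorem F72576 : act 2 n32183 = n31148 := d1_2 (iv F64205) D32183 F69084
theorem F72577 : act 3 n32183 = n29728 := d2_2 (iv F64206) D32183 (iv D29728)
theorem F72578 : act 4 n32183 = n30947 := d3_2 (iv F64207) D32183 F68317
theorem F72579 : act 5 n32183 = n31145 := d4_2 F70522 D32183 (iv F70518)
theorem F72580 : act 6 n32183 = n30946 := d5_2 F68514 D32183 (iv F68510)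
def n32184 : Q := act 2 n29733
theorem D32184 : act 2 n29733 = n32184 := rfl
theorem F72581 : act 0 n32184 = n30967 := d1_1 D32184 (iv D30967) F64231
theorem F72582 : act 1 n32184 = n30434 := d6_1 D32184 F66559 F56069 (iv F53398) D29733
def n32185 : Q := act 5 n29733
theorem D32185 : act 5 n29733 = n32185 := rfl
theorem F72583 : act 0 n32185 = n30968 := d4_1 D32185 (iv D30968) F64231
theorem F72584 : act 1 n32185 = n29862 := d9_1 D32185 F64680 F62402 (iv F53400) D29733
theorem F72585 : act 3 n32185 = n29734 := d16_1 D32185 (iv D29734) (iv F64230)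
theorem F72586 : act 4 n32185 = n30993 := d18_1 D32185 F68485 F64991
theorem F72587 : act 6 n32185 = n30992 := d20_2 F68568 D32185 F68482 F68408 D30968 (iv F68410) D31018
def n32186 : Q := act 6 n29739
theorem D32186 : act 6 n29739 = n32186 := rfl
theorem F72588 : act 0 n32186 = n31044 := d5_1 D32186 (iv D31044) F64258
theorem F72589 : act 1 n32186 = n29852 := d10_1 D32186 F64654 F53979 (iv F53439) D29739
theorem F72590 : act 2 n32186 = n31233 := d14_1 D32186 F69450 F64522
theorem F72591 : act 3 n32186 = n29949 := d17_1 D32186 F64989 (iv F64255)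
theorem F72592 : act 4 n32186 = n29740 := d19_1 D32186 (iv D29740) (iv F64256)
theorem F72593 : act 5 n32186 = n29831 := d20_1 D32186 F67967 F67966 D31044 F68672 F67493 (iv F64257)
def n32187 : Q := act 4 n29743
theorem D32187 : act 4 n29743 = n32187 := rfl
theorem F72594 : act 1 n32187 = n29837 := d8_1 D32187 (iv D29837) (iv F64270)
theorem F72595 : act 2 n32187 = n29744 := d12_1 D32187 (iv D29744) D29743
theorem F72596 : act 3 n32187 = n31723 := d15_1 D32187 F70997 F62552 (iv F60407) F64273
theorem F72597 : act 5 n32187 = n29778 := d18_2 (iv F64271) D32187 (iv D29778)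
theorem F72598 : act 6 n32187 = n30839 := d19_2 (iv F64272) D32187 F67945
def n32188 : Q := act 6 n29745
theorem D32188 : act 6 n29745 = n32188 := rfl
theorem F72599 : act 0 n32188 = n30048 := d5_1 D32188 (iv D30048) (iv F64277)
theorem F72600 : act 1 n32188 = n30505 := d10_1 D32188 F66839 F64291 (iv D29748) (iv F64278)
theorem F72601 : act 2 n32188 = n30632 := d14_1 D32188 F67231 (iv F64279)
theorem F72602 : act 3 n32188 = n29894 := d17_1 D32188 (iv D29894) (iv F64280)
theorem F72603 : act 4 n32188 = n29746 := d19_1 D32188 (iv D29746) D29745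
def n32189 : Q := act 5 n29750
theorem D32189 : act 5 n29750 = n32189 := rfl
theorem F72604 : act 0 n32189 = n29752 := d4_1 D32189 (iv D29752) D29750
theorem F72605 : act 2 n32189 = n29766 := d13_1 D32189 (iv D29766) (iv F64295)
theorem F72606 : act 6 n32189 = n29959 := d20_2 F65035 D32189 F65028 (iv D29753) D29752 F64398 D29961
def n32190 : Q := act 5 n29751
theorem D32190 : act 5 n29751 = n32190 := rfl
theorem F72607 : act 2 n32190 = n29769 := d13_1 D32190 (iv D29769) (iv F64297)
theorem F72608 : act 4 n32190 = n29752 := d18_1 D32190 (iv D29752) D29751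
theorem F72609 : act 6 n32190 = n29960 := d22_1 D32190 (iv F65031) F68209 F68205
def n32191 : Q := act 1 n29752
theorem D32191 : act 1 n29752 = n32191 := rfl
theorem F72610 : act 5 n32191 = n29757 := d9_2 D29752 D32191 (iv D29757) (iv D26001) D25999
theorem F72611 : act 6 n32191 = n29967 := d10_2 (iv F64398) D32191 (iv D29967) (iv D26233) D26230
def n32192 : Q := act 5 n29754
theorem D32192 : act 5 n29754 = n32192 := rfl
theorem F72612 : act 0 n32192 = n30220 := d4_1 D32192 (iv D30220) (iv F64300)
theorem F72613 : act 2 n32192 = n31645 := d13_1 D32192 F70699 (iv F64302)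
theorem F72614 : act 3 n32192 = n29755 := d16_1 D32192 (iv D29755) D29754
theorem F72615 : act 4 n32192 = n30213 := d18_1 D32192 (iv D30213) (iv F64301)
def n32193 : Q := act 6 n29754
theorem D32193 : act 6 n29754 = n32193 := rfl
theorem F72616 : act 0 n32193 = n30221 := d5_1 D32193 (iv D30221) (iv F64300)
theorem F72617 : act 2 n32193 = n31723 := d14_1 D32193 (iv D31723) (iv F64302)
theorem F72618 : act 3 n32193 = n29756 := d17_1 D32193 (iv D29756) D29754
theorem F72619 : act 4 n32193 = n30214 := d19_1 D32193 (iv D30214) (iv F64301)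
def n32194 : Q := act 1 n29755
theorem D32194 : act 1 n29755 = n32194 := rfl
theorem F72620 : act 2 n32194 = n31830 := d6_2 (iv F64303) D32194 (iv D31830) F62796 F56695
theorem F72621 : act 4 n32194 = n29757 := d8_2 (iv F64304) D32194 (iv D29757)
def n32195 : Q := act 5 n29756
theorem D32195 : act 5 n29756 = n32195 := rfl
theorem F72622 : act 0 n32195 = n31854 := d4_1 D32195 F71415 F68165
theorem F72623 : act 2 n32195 = n29761 := d13_1 D32195 (iv D29761) (iv F64305)
theorem F72624 : act 4 n32195 = n29759 := d18_1 D32195 (iv D29759) (iv F64306)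
theorem F72625 : act 6 n32195 = n30904 := d20_2 D29756 D32195 (iv D30904) D30905 (iv F71415) F71416 (iv D29755)
theorem F72626 : act 1 n31622 = n32195 := d25_77 F72624 F64309 (iv F58249) F58250 (iv F64246) (iv F64250) (iv F59964) F59963 F57768 (iv D27485) F46470 F38707 F26317 (iv F38635) D24782 D28671 F63085 (iv D25743) F41459 D25742 (iv F63452) D32045 F72041 F70425 F61722 F53301 (iv D21565) D21564 F41751 (iv D21369) (iv D16178) D16177 F27993 D16303 D21554 D25924 D29678 F68758 (iv D31063) F59303 D28014 F59308 D28016 (iv F59316) (iv F60992) (iv D28587) D28586 F60990 F50211 (iv F57753) (iv F66977) (iv D30548) (iv F66976) F66975 F62531 (iv F60384) (iv F61270) (iv D28680) F50361 D24795 F50384 (iv D22863) F44065 (iv F55839) F55838 F51626 (iv F54303) F54302 D28506 (iv F69524) (iv D31252) F62217 (iv F70639) (iv D31624) (iv D28964) (iv F62211) D31622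
def n32196 : Q := act 2 n29757
theorem D32196 : act 2 n29757 = n32196 := rfl
theorem F72627 : act 1 n32196 = n29762 := d6_1 D32196 (iv D29762) (iv D26005) (iv F53470) D29757
theorem F72628 : act 4 n32196 = n31830 := d12_2 F72621 D32196 (iv F72620)
theorem F72629 : act 3 n31826 = n32196 := d15_5 F72628 F71336 F62798 (iv F62794) (iv F71331)
def n32197 : Q := act 0 n29758
theorem D32197 : act 0 n29758 = n32197 := rfl
theorem F72630 : act 6 n32197 = n31759 := d5_2 (iv F65192) D32197 F71117
def n32198 : Q := act 1 n29759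
theorem D32198 : act 1 n29759 = n32198 := rfl
theorem F72631 : act 2 n32198 = n31620 := d6_2 (iv F64308) D32198 (iv D31620) F62209 F60543
theorem F72632 : act 3 n32198 = n30906 := d7_2 (iv F64309) D32198 (iv D30906)
theorem F72633 : act 4 n32198 = n31622 := d8_2 F72624 D32198 F72626
theorem F72634 : act 5 n32198 = n31848 := d9_2 D29759 D32198 F71399 F71122 (iv D29758)
def n32199 : Q := act 6 n29762
theorem D32199 : act 6 n29762 = n32199 := rfl
theorem F72635 : act 2 n32199 = n29763 := d14_1 D32199 (iv D29763) D29762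
theorem F72636 : act 3 n32199 = n31716 := d17_1 D32199 F70980 (iv F64322)
theorem F72637 : act 4 n32199 = n30549 := d19_1 D32199 F66982 (iv F64320)
theorem F72638 : act 5 n32199 = n30547 := d22_2 (iv F64321) D32199 (iv D30547) F56725
def n32200 : Q := act 5 n29765
theorem D32200 : act 5 n29765 = n32200 := rfl
theorem F72639 : act 0 n32200 = n29769 := d4_1 D32200 (iv D29769) (iv F64328)
theorem F72640 : act 1 n32200 = n32200 := d9_1 D32200 (iv D32200) (iv F64381) F59256 F64381
theorem F72641 : act 3 n32200 = n31993 := d16_1 D32200 F71848 (iv F64382)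
theorem F72642 : act 4 n32200 = n29766 := d18_1 D32200 (iv D29766) D29765
theorem F72643 : act 6 n32200 = n29973 := d20_2 (iv F64372) D32200 F65074 F61755 D29769 (iv F64373) F61763
def n32201 : Q := act 5 n29768
theorem D32201 : act 5 n29768 = n32201 := rfl
theorem F72644 : act 0 n32201 = n31993 := d4_1 D32201 F71848 F64385
theorem F72645 : act 2 n32201 = n31992 := d13_1 D32201 F71845 (iv F64387)
theorem F72646 : act 3 n32201 = n29769 := d16_1 D32201 (iv D29769) D29768
theorem F72647 : act 4 n32201 = n31989 := d18_1 D32201 (iv D31989) (iv F64335)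
theorem F72648 : act 6 n32201 = n29974 := d20_2 (iv F64336) D32201 F65079 F63311 (iv F71848) F71849 (iv F63658)
def n32202 : Q := act 1 n29775
theorem D32202 : act 1 n29775 = n32202 := rfl
theorem F72649 : act 2 n32202 = n32181 := d6_2 (iv F64399) D32202 (iv D32181) F64172 (iv F53498)
theorem F72650 : act 3 n32202 = n31812 := d7_2 (iv F64400) D32202 F71285
theorem F72651 : act 4 n32202 = n30240 := d8_2 (iv F64401) D32202 F65894
theorem F72652 : act 6 n32202 = n30238 := d10_2 D29775 D32202 F65890 F61421 F59637
def n32203 : Q := act 5 n29775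
theorem D32203 : act 5 n29775 = n32203 := rfl
theorem F72653 : act 0 n32203 = n32199 := d4_1 D32203 F72638 F66972
theorem F72654 : act 2 n32203 = n29776 := d13_1 D32203 (iv D29776) (iv F64399)
theorem F72655 : act 3 n32203 = n31735 := d16_1 D32203 F71038 (iv F64400)
theorem F72656 : act 4 n32203 = n30543 := d18_1 D32203 F66959 (iv F64401)
theorem F72657 : act 6 n32203 = n30542 := d20_2 D29775 D32203 F66956 D30547 (iv F72638) (iv D32199) F64321
def n32204 : Q := act 3 n29778
theorem D32204 : act 3 n29778 = n32204 := rfl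
theorem F72658 : act 1 n32204 = n31205 := d7_1 D32204 F69335 (iv F64412)
theorem F72659 : act 4 n32204 = n31725 := d15_2 D29778 D32204 F71005 F62556 F62350
theorem F72660 : act 5 n32204 = n31723 := d16_2 F72597 D32204 (iv F72596)
def n32205 : Q := act 5 n29780
theorem D32205 : act 5 n29780 = n32205 := rfl
theorem F72661 : act 0 n32205 = n31912 := d4_1 D32205 F71622 F65177
theorem F72662 : act 2 n32205 = n29925 := d13_1 D32205 (iv F65085) F65082
theorem F72663 : act 3 n32205 = n29782 := d16_1 D32205 (iv D29782) D29780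
theorem F72664 : act 6 n32205 = n29924 := d20_2 (iv F64418) D32205 F64906 D30005 (iv F71622) (iv D31912) (iv F63112)
theorem F72665 : act 1 n32205 = n29790 := d24_2 (iv F64418) D32205 (iv D29790) D29789 (iv F72035) F72037 (iv F63663) (iv D29563) F52932 F42093 (iv F42203) D26261 D29996 F65144
def n32206 : Q := act 6 n29783
theorem D32206 : act 6 n29783 = n32206 := rfl
theorem F72666 : act 0 n32206 = n29793 := d5_1 D32206 (iv D29793) (iv F64425)
theorem F72667 : act 4 n32206 = n29785 := d19_1 D32206 (iv D29785) D29783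
theorem F72668 : act 5 n32206 = n31994 := d22_2 (iv F72149) D32206 (iv F71851) (iv F72147)
def n32207 : Q := act 1 n29784
theorem D32207 : act 1 n29784 = n32207 := rfl
theorem F72669 : act 0 n32207 = n31104 := d0_1 D32207 F68919 (iv D29420) (iv D25695) (iv F41861) D26039 (iv F63441) (iv F63445) (iv F64426)
theorem F72670 : act 3 n32207 = n29787 := d7_2 (iv F64427) D32207 (iv D29787)
theorem F72671 : act 5 n32207 = n29790 := d9_2 D29784 D32207 (iv F72665) (iv D32205) F64417
theorem F72672 : act 2 n29795 = n32207 := d23_1 D29795 (iv D32207) F64426 (iv D26029) D26027 F53519 (iv F63229) F64480 F64478 (iv F63567) F63566 (iv D25782) D25780 (iv F54110) (iv F59551) D31102 F68913 F65121 F64428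
theorem F72673 : act 6 n32207 = n31114 := d14_2 (iv F64450) F72672 F68964
def n32208 : Q := act 3 n29788
theorem D32208 : act 3 n29788 = n32208 := rfl
theorem F72674 : act 1 n32208 = n31959 := d7_1 D32208 (iv D31959) (iv F64437)
def n32209 : Q := act 5 n29788
theorem D32209 : act 5 n29788 = n32209 := rfl
theorem F72675 : act 2 n32209 = n29792 := d13_1 D32209 (iv D29792) (iv F64438)
theorem F72676 : act 4 n32209 = n29789 := d18_1 D32209 (iv D29789) D29788
def n32210 : Q := act 6 n29788
theorem D32210 : act 6 n29788 = n32210 := rfl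
theorem F72677 : act 2 n32210 = n29793 := d14_1 D32210 (iv D29793) (iv F64438)
theorem F72678 : act 4 n32210 = n29790 := d19_1 D32210 (iv D29790) D29788
def n32211 : Q := act 6 n29791
theorem D32211 : act 6 n29791 = n32211 := rfl
theorem F72679 : act 2 n32211 = n32084 := d14_1 D32211 F72170 F72140
theorem F72680 : act 3 n32211 = n29793 := d17_1 D32211 (iv D29793) D29791
theorem F72681 : act 4 n32211 = n29796 := d19_1 D32211 (iv D29796) (iv F64442)
theorem F72682 : act 5 n32211 = n32080 := d22_2 F72137 D32211 (iv D32080) (iv F72134)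
def n32212 : Q := act 5 n29793
theorem D32212 : act 5 n29793 = n32212 := rfl
theorem F72683 : act 0 n32212 = n31994 := d4_1 D32212 (iv F72668) F72666
theorem F72684 : act 3 n32212 = n32080 := d16_1 D32212 (iv F72682) F72680
theorem F72685 : act 4 n32212 = n29795 := d18_1 D32212 (iv D29795) (iv F64444)
theorem F72686 : act 6 n32212 = n32078 := d20_2 D29793 D32212 (iv F72149) D32206 F72668 (iv F71851) (iv D29792)
def n32213 : Q := act 1 n29795
theorem D32213 : act 1 n29795 = n32213 := rfl
theorem F72687 : act 0 n32213 = n29917 := d0_1 D32213 F64882 F71757 (iv D31962) F64479 (iv D29804) (iv F55329) (iv F64445) (iv F64448)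
theorem F72688 : act 2 n32213 = n29914 := d6_2 (iv F72672) D32213 F68966 F68964 D32207
theorem F72689 : act 3 n32213 = n29800 := d7_2 (iv F64449) D32213 (iv D29800)
theorem F72690 : act 6 n32213 = n29914 := d10_2 (iv F64450) D32213 F68966 (iv F72673) (iv D32207)
def n32214 : Q := act 1 n29801
theorem D32214 : act 1 n29801 = n32214 := rfl
theorem F72691 : act 2 n32214 = n31957 := d6_2 D29801 D32214 (iv F72139) F72140 F64441
theorem F72692 : act 3 n32214 = n32102 := d7_2 (iv F64471) D32214 (iv D32102)
theorem F72693 : act 4 n32214 = n29804 := d8_2 (iv F64470) D32214 (iv D29804)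
theorem F72694 : act 0 n31960 = n32214 := d3_3 F72693 (iv F64479) (iv F71751)
theorem F72695 : act 5 n31956 = n32214 := d18_0 F72693 (iv F64480) D31956
def n32215 : Q := act 5 n29801
theorem D32215 : act 5 n29801 = n32215 := rfl
theorem F72696 : act 0 n32215 = n31995 := d4_1 D32215 (iv D31995) (iv F64469)
theorem F72697 : act 2 n32215 = n29802 := d13_1 D32215 (iv D29802) D29801
theorem F72698 : act 3 n32215 = n31911 := d16_1 D32215 F71618 (iv F64471)
theorem F72699 : act 4 n32215 = n29805 := d18_1 D32215 (iv D29805) (iv F64470)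
theorem F72700 : act 1 n31913 = n32215 := d8_3 F72699 (iv F72217) (iv F72221)
def n32216 : Q := act 1 n29802
theorem D32216 : act 1 n29802 = n32216 := rfl
theorem F72701 : act 3 n32216 = n29803 := d7_2 (iv F64473) D32216 (iv D29803)
theorem F72702 : act 4 n32216 = n29806 := d8_2 (iv F64474) D32216 (iv D29806)
theorem F72703 : act 6 n32216 = n31985 := d10_2 F71692 D32216 F71819 F64367 (iv F71689)
def n32217 : Q := act 5 n29808
theorem D32217 : act 5 n29808 = n32217 := rfl
theorem F72704 : act 0 n32217 = n29810 := d4_1 D32217 (iv D29810) D29808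
theorem F72705 : act 1 n32217 = n30687 := d9_1 D32217 F67413 (iv D30682) F57351 F64488
theorem F72706 : act 3 n32217 = n30332 := d16_1 D32217 (iv F66244) (iv F64485)
theorem F72707 : act 4 n32217 = n29812 := d18_1 D32217 (iv D29812) (iv F64486)
theorem F72708 : act 6 n32217 = n30677 := d20_2 (iv F64487) D32217 F67368 F61484 D29810 (iv F67359) (iv D30675)
def n32218 : Q := act 3 n29809
theorem D32218 : act 3 n29809 = n32218 := rfl
theorem F72709 : act 0 n32218 = n31811 := d2_1 D32218 F71284 F70974
theorem F72710 : act 1 n32218 = n30926 := d7_1 D32218 F68242 (iv F65036)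
theorem F72711 : act 5 n32218 = n30927 := d16_2 F65047 D32218 F68245
theorem F72712 : act 6 n32218 = n31809 := d17_2 F70194 D32218 F71279
def n32219 : Q := act 5 n29811
theorem D32219 : act 5 n29811 = n32219 := rfl
theorem F72713 : act 0 n32219 = n29814 := d4_1 D32219 (iv D29814) (iv F64493)
theorem F72714 : act 2 n32219 = n29812 := d13_1 D32219 (iv D29812) D29811
theorem F72715 : act 3 n32219 = n30616 := d16_1 D32219 (iv D30616) (iv F64494)
theorem F72716 : act 6 n32219 = n31499 := d22_1 D32219 (iv D31499) F61511 (iv F64493)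
def n32220 : Q := act 5 n29813
theorem D32220 : act 5 n29813 = n32220 := rfl
theorem F72717 : act 0 n32220 = n30616 := d4_1 D32220 (iv D30616) (iv F64498)
theorem F72718 : act 2 n32220 = n30615 := d13_1 D32220 (iv D30615) (iv F64499)
theorem F72719 : act 3 n32220 = n29814 := d16_1 D32220 (iv D29814) D29813
def n32221 : Q := act 6 n29814
theorem D32221 : act 6 n29814 = n32221 := rfl
theorem F72720 : act 0 n32221 = n31499 := d5_1 D32221 (iv F72716) F72713
theorem F72721 : act 2 n32221 = n29815 := d14_1 D32221 (iv D29815) (iv F64500)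
theorem F72722 : act 4 n32221 = n31714 := d19_1 D32221 F70973 F65046
theorem F72723 : act 5 n32221 = n31497 := d20_1 D32221 F70232 D32219 F72716 (iv D31499) F61511 D29814
def n32222 : Q := act 5 n29821
theorem D32222 : act 5 n29821 = n32222 := rfl
theorem F72724 : act 0 n32222 = n30845 := d4_1 D32222 (iv F69449) F69446
theorem F72725 : act 1 n32222 = n30707 := d9_1 D32222 F67500 (iv F63736) (iv F64085) (iv F64525)
theorem F72726 : act 2 n32222 = n30705 := d13_1 D32222 (iv F68672) F68669
theorem F72727 : act 3 n32222 = n30337 := d16_1 D32222 (iv D30337) (iv F64526)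
theorem F72728 : act 4 n32222 = n29824 := d18_1 D32222 (iv D29824) (iv F64527)
theorem F72729 : act 6 n32222 = n30843 := d20_2 D29821 D32222 F67960 (iv F69450) F69449 (iv D30845) F57935
def n32223 : Q := act 2 n29827
theorem D32223 : act 2 n29827 = n32223 := rfl
theorem F72730 : act 0 n32223 = n29828 := d1_1 D32223 (iv D29828) D29827
theorem F72731 : act 1 n32223 = n32119 := d6_1 D32223 (iv D32119) (iv F65428) (iv F65711) F65710
theorem F72732 : act 4 n32223 = n30857 := d12_2 (iv F64550) D32223 F68008
theorem F72733 : act 5 n32223 = n30161 := d13_2 (iv F64551) D32223 (iv D30161)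
def n32224 : Q := act 6 n29828
theorem D32224 : act 6 n29828 = n32224 := rfl
theorem F72734 : act 2 n32224 = n29829 := d14_1 D32224 (iv D29829) D29828
theorem F72735 : act 4 n32224 = n30860 := d19_1 D32224 (iv D30860) (iv F64553)
def n32225 : Q := act 2 n29833
theorem D32225 : act 2 n29833 = n32225 := rfl
theorem F72736 : act 0 n32225 = n30695 := d1_1 D32225 F67445 (iv F64570)
theorem F72737 : act 4 n32225 = n30692 := d12_2 (iv F64572) D32225 (iv D30692)
theorem F72738 : act 5 n32225 = n30944 := d13_2 (iv F64573) D32225 (iv D30944)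
def n32226 : Q := act 4 n29834
theorem D32226 : act 4 n29834 = n32226 := rfl
theorem F72739 : act 0 n32226 = n29837 := d3_1 D32226 (iv D29837) (iv F64574)
theorem F72740 : act 2 n32226 = n29835 := d12_1 D32226 (iv D29835) D29834
theorem F72741 : act 3 n32226 = n31505 := d15_1 D32226 F70253 D31508 (iv F70270) (iv F64577)
theorem F72742 : act 5 n32226 = n29869 := d18_2 (iv F64575) D32226 (iv D29869)
theorem F72743 : act 6 n32226 = n31289 := d19_2 (iv F64576) D32226 (iv D31289)
def n32227 : Q := act 3 n29837
theorem D32227 : act 3 n29837 = n32227 := rfl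
theorem F72744 : act 0 n32227 = n31505 := d2_1 D32227 (iv F72741) F72739
theorem F72745 : act 1 n32227 = n31723 := d7_1 D32227 (iv F72596) F72594
theorem F72746 : act 2 n32227 = n31151 := d11_1 D32227 F69094 F59892 (iv F50047) (iv F55415) (iv F64580) (iv F72740) F72741 (iv D31505) F61544 (iv F59885) F59886 F55420 (iv F53635) (iv F64589)
theorem F72747 : act 4 n32227 = n31507 := d15_2 D29837 D32227 F70264 F64588 (iv D29836)
theorem F72748 : act 5 n32227 = n29876 := d16_2 (iv F64590) D32227 (iv D29876)
theorem F72749 : act 6 n32227 = n31150 := d22_3 F69201 (iv F68645) (iv F72748) (iv F69199)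
def n32228 : Q := act 6 n29837
theorem D32228 : act 6 n29837 = n32228 := rfl
theorem F72750 : act 0 n32228 = n31289 := d5_1 D32228 (iv F72743) F72739
theorem F72751 : act 1 n32228 = n31222 := d10_1 D32228 F69399 (iv F67943) (iv F72598) F72594
theorem F72752 : act 2 n32228 = n29839 := d14_1 D32228 (iv D29839) (iv F64589)
theorem F72753 : act 3 n32228 = n31150 := d17_1 D32228 (iv F72749) (iv D32227)
theorem F72754 : act 4 n32228 = n29838 := d19_1 D32228 (iv D29838) D29837
theorem F72755 : act 5 n32228 = n32130 := d20_1 D32228 F72349 (iv F72742) F72743 F69635 (iv D29877) (iv F64590)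
def n32229 : Q := act 1 n29842
theorem D32229 : act 1 n29842 = n32229 := rfl
theorem F72756 : act 4 n32229 = n31445 := d8_2 (iv F64609) D32229 (iv D31445)
theorem F72757 : act 6 n32229 = n31447 := d10_2 (iv F64610) D32229 (iv D31447) (iv D28693) (iv F60511)
def n32230 : Q := act 3 n29843
theorem D32230 : act 3 n29843 = n32230 := rfl
theorem F72758 : act 0 n32230 = n29844 := d2_1 D32230 (iv D29844) (iv F64611)
theorem F72759 : act 1 n32230 = n30969 := d7_1 D32230 (iv D30969) (iv F64612)
theorem F72760 : act 2 n32230 = n31838 := d11_1 D32230 (iv D31838) (iv D29229) F52403 (iv F45262) F45263 D26084 D29844 (iv F68993) F68994 F62853 F52443 (iv F54762) F54765 D29843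
theorem F72761 : act 4 n32230 = n31095 := d15_2 (iv F64613) D32230 F68886 F59515 (iv F55450)
theorem F72762 : act 5 n32230 = n32230 := d16_2 F64614 D32230 (iv D32230)
theorem F72763 : act 6 n32230 = n29858 := d17_2 (iv F64615) D32230 (iv D29858)
def n32231 : Q := act 2 n29850
theorem D32231 : act 2 n29850 = n32231 := rfl
theorem F72764 : act 0 n32231 = n29851 := d1_1 D32231 (iv D29851) (iv F64641)
theorem F72765 : act 1 n32231 = n31560 := d6_1 D32231 F70428 (iv F68923) F68924 (iv F64642)
theorem F72766 : act 3 n32231 = n31737 := d11_2 D29850 D32231 F71043 (iv D29849) (iv D26088) F41938 D21656 D26092 D29851 (iv F64648) D31738 F71048 (iv D29848) F53658 D26091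
theorem F72767 : act 4 n32231 = n30021 := d12_2 (iv F64643) D32231 F65230
theorem F72768 : act 5 n32231 = n29860 := d13_2 (iv F64644) D32231 (iv D29860)
theorem F72769 : act 6 n32231 = n30020 := d14_2 (iv F64645) D32231 F65227
def n32232 : Q := act 1 n29855
theorem D32232 : act 1 n29855 = n32232 := rfl
theorem F72770 : act 2 n32232 = n30037 := d6_2 D29855 D32232 (iv F67892) F67893 F57882
theorem F72771 : act 4 n32232 = n30027 := d8_2 F67878 D32232 (iv F67877)
theorem F72772 : act 0 n30029 = n32232 := d3_3 F72771 (iv D30027) D30029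
def n32233 : Q := act 4 n29858
theorem D32233 : act 4 n29858 = n32233 := rfl
theorem F72773 : act 0 n32233 = n30788 := d3_1 D32233 F67790 (iv F64666)
theorem F72774 : act 1 n32233 = n29897 := d8_1 D32233 F64816 (iv F64667)
theorem F72775 : act 3 n32233 = n30341 := d15_1 D32233 (iv D30341) (iv D26740) (iv F53694) D29858
theorem F72776 : act 5 n32233 = n30788 := d18_2 (iv F64668) D32233 F67790
theorem F72777 : act 6 n32233 = n31095 := d19_2 F72763 D32233 (iv F72761)
def n32234 : Q := act 4 n29859
theorem D32234 : act 4 n29859 = n32234 := rfl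
theorem F72778 : act 0 n32234 = n30539 := d3_1 D32234 F66946 (iv F64669)
theorem F72779 : act 1 n32234 = n29861 := d8_1 D32234 (iv D29861) (iv F64670)
theorem F72780 : act 2 n32234 = n30198 := d12_1 D32234 F65764 (iv F64672)
theorem F72781 : act 3 n32234 = n30022 := d15_1 D32234 F65234 F54989 (iv F53695) D29859
theorem F72782 : act 5 n32234 = n30197 := d18_2 (iv F64671) D32234 F65760
theorem F72783 : act 6 n32234 = n30989 := d19_2 F67014 D32234 F68470
def n32235 : Q := act 1 n29860
theorem D32235 : act 1 n29860 = n32235 := rfl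
theorem F72784 : act 2 n32235 = n30540 := d6_2 D29860 D32235 (iv D30540) (iv F64672) F64670
theorem F72785 : act 3 n32235 = n32232 := d7_2 (iv F64674) D32235 (iv D32232)
theorem F72786 : act 0 n32235 = n31592 := d23_3 F64644 D29860 D32235 (iv F70737) (iv F70739) (iv F70854) (iv D31685) F62406 (iv F64095) (iv F67467) (iv D30701) (iv F67466) F67463 F64539 F64536 (iv F64531) F64529 F64259 (iv F64641)
def n32236 : Q := act 4 n29860
theorem D32236 : act 4 n29860 = n32236 := rfl
theorem F72787 : act 0 n32236 = n29865 := d3_1 D32236 (iv D29865) (iv F64673)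
theorem F72788 : act 2 n32236 = n29861 := d12_1 D32236 (iv D29861) D29860
theorem F72789 : act 3 n32236 = n31186 := d15_1 D32236 F69268 (iv F67879) F67878 (iv F64674)
theorem F72790 : act 5 n32236 = n30021 := d18_2 F72768 D32236 (iv F72767)
theorem F72791 : act 6 n31192 = n32236 := d20_0 F72790 (iv D30021) (iv F60298) F64696 F64695 (iv F64980) (iv F69293)
def n32237 : Q := act 6 n29860
theorem D32237 : act 6 n29860 = n32237 := rfl
theorem F72792 : act 0 n32237 = n29866 := d5_1 D32237 (iv D29866) (iv F64673)
theorem F72793 : act 2 n32237 = n29862 := d14_1 D32237 (iv D29862) D29860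
theorem F72794 : act 3 n32237 = n31660 := d17_1 D32237 F70757 (iv F64674)
theorem F72795 : act 4 n32237 = n31192 := d19_1 D32237 F72791 (iv D32236)
theorem F72796 : act 5 n32237 = n31684 := d20_1 D32237 F70853 F64647 D29866 (iv F65228) (iv F72769) F72768
def n32238 : Q := act 0 n29868
theorem D32238 : act 0 n29868 = n32238 := rfl
theorem F72797 : act 1 n32238 = n30748 := d0_2 D29868 D32238 F67637 (iv F70241) F70240 F68648 (iv D29870) (iv D26113) (iv F53711)
theorem F72798 : act 2 n32238 = n31733 := d1_2 F68130 D32238 F71032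
theorem F72799 : act 3 n32238 = n32033 := d2_2 (iv F64705) D32238 (iv D32033)
theorem F72800 : act 5 n32238 = n31370 := d22_0 F69850 D31698 (iv F70910) D32238
def n32239 : Q := act 4 n29868
theorem D32239 : act 4 n29868 = n32239 := rfl
theorem F72801 : act 1 n32239 = n29869 := d8_1 D32239 (iv D29869) D29868
def n32240 : Q := act 5 n29868
theorem D32240 : act 5 n29868 = n32240 := rfl
theorem F72802 : act 0 n32240 = n31370 := d4_1 D32240 (iv F72800) (iv D32238)
theorem F72803 : act 2 n32240 = n30835 := d13_1 D32240 (iv F68131) F68130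
theorem F72804 : act 3 n32240 = n32035 := d16_1 D32240 (iv D32035) (iv F64705)
theorem F72805 : act 6 n32240 = n30023 := d22_3 D31698 (iv F70910) D32240 (iv F65238)
def n32241 : Q := act 4 n29870
theorem D32241 : act 4 n29870 = n32241 := rfl
theorem F72806 : act 0 n32241 = n29872 := d3_1 D32241 (iv D29872) D29870
theorem F72807 : act 1 n32241 = n29876 := d8_1 D32241 (iv F68650) F68648
theorem F72808 : act 2 n32241 = n31184 := d12_1 D32241 (iv F70913) F70912
theorem F72809 : act 3 n32241 = n29872 := d15_1 D32241 (iv D29872) D29871 (iv F68422) F68421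
theorem F72810 : act 5 n32241 = n31205 := d18_2 F69310 D32241 (iv F69336)
theorem F72811 : act 6 n32241 = n30976 := d19_2 F64708 D32241 (iv D30976)
def n32242 : Q := act 2 n29878
theorem D32242 : act 2 n29878 = n32242 := rfl
theorem F72812 : act 1 n32242 = n29880 := d6_1 D32242 (iv D29880) (iv D26118) (iv F53718) D29878
theorem F72813 : act 4 n32242 = n30460 := d12_2 F68636 D32242 (iv F68634)
theorem F72814 : act 5 n32242 = n31215 := d13_2 F64736 D32242 F69373
theorem F72815 : act 6 n32242 = n30459 := d14_2 (iv F64735) D32242 F66659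
theorem F72816 : act 3 n32242 = n30575 := d21_1 D32242 F67083 F60533 F49816 (iv F49704) (iv F60367) (iv F69377) F69376
def n32243 : Q := act 2 n29879
theorem D32243 : act 2 n29879 = n32243 := rfl
theorem F72817 : act 0 n32243 = n29880 := d1_1 D32243 (iv D29880) D29879
theorem F72818 : act 4 n32243 = n30036 := d12_2 (iv F64739) D32243 F65267
theorem F72819 : act 5 n32243 = n30034 := d13_2 (iv F64741) D32243 F65261
theorem F72820 : act 6 n32243 = n31083 := d14_2 (iv F64740) D32243 (iv D31083)
def n32244 : Q := act 3 n29880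
theorem D32244 : act 3 n29880 = n32244 := rfl
theorem F72821 : act 1 n32244 = n30575 := d7_1 D32244 (iv F72816) F72812
theorem F72822 : act 4 n32244 = n30576 := d15_2 F65264 D32244 F67086 (iv F66666) F66665
theorem F72823 : act 6 n32244 = n31620 := d17_2 (iv F65260) D32244 F70632
def n32245 : Q := act 5 n29880
theorem D32245 : act 5 n29880 = n32245 := rfl
theorem F72824 : act 0 n32245 = n30034 := d4_1 D32245 (iv F72819) F72817
theorem F72825 : act 2 n32245 = n29881 := d13_1 D32245 (iv D29881) D29880
theorem F72826 : act 4 n32245 = n30026 := d18_1 D32245 (iv F65265) F65264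
theorem F72827 : act 6 n32245 = n30024 := d20_2 (iv F65260) D32245 (iv F68830) (iv F72820) F72819 (iv D30034) D30033
def n32246 : Q := act 3 n29890
theorem D32246 : act 3 n29890 = n32246 := rfl
theorem F72828 : act 0 n32246 = n29891 := d2_1 D32246 (iv D29891) (iv F64787)
theorem F72829 : act 1 n32246 = n31379 := d7_1 D32246 F69882 (iv F64788)
theorem F72830 : act 4 n32246 = n30050 := d15_2 (iv F64789) D32246 F65305 F54238 (iv F55774)
theorem F72831 : act 5 n32246 = n32188 := d16_2 F64805 D32246 F72602
theorem F72832 : act 6 n32246 = n29892 := d17_2 (iv F64790) D32246 (iv D29892)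
def n32247 : Q := act 2 n29891
theorem D32247 : act 2 n29891 = n32247 := rfl
theorem F72833 : act 1 n32247 = n30776 := d6_1 D32247 F69738 (iv D31328) F60852 (iv F64791)
theorem F72834 : act 4 n32247 = n30807 := d12_2 F65310 D32247 F67851
theorem F72835 : act 5 n32247 = n31604 := d13_2 F65297 D32247 F70570
theorem F72836 : act 6 n32247 = n29893 := d14_2 (iv F64792) D32247 (iv D29893)
theorem F72837 : act 3 n32247 = n30777 := d21_1 D32247 F67741 F58510 (iv D26146) (iv F53782) D29890 D32246 F72828
def n32248 : Q := act 2 n29896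
theorem D32248 : act 2 n29896 = n32248 := rfl
theorem F72838 : act 0 n32248 = n29897 := d1_1 D32248 (iv D29897) (iv F64811)
theorem F72839 : act 1 n32248 = n32159 := d6_1 D32248 F72483 (iv D30804) F57824 (iv F64812)
theorem F72840 : act 3 n32248 = n31118 := d11_2 D29896 D32248 F68980 F60119 (iv D26133) F42039 D21701 D26144 D29897 (iv F68562) F68561 F64772 (iv D29886) F53773 D26143
theorem F72841 : act 4 n32248 = n30552 := d12_2 (iv F64813) D32248 F66990
theorem F72842 : act 5 n32248 = n30101 := d13_2 (iv F64814) D32248 (iv D30101)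
theorem F72843 : act 6 n32248 = n32128 := d14_2 (iv F64815) D32248 F72338
def n32249 : Q := act 3 n29898
theorem D32249 : act 3 n29898 = n32249 := rfl
theorem F72844 : act 0 n32249 = n32247 := d2_1 D32249 F72837 F67745
theorem F72845 : act 1 n32249 = n30867 := d7_1 D32249 F68047 (iv F64821)
theorem F72846 : act 2 n32249 = n32246 := d11_1 D32249 (iv D32246) (iv D29890) F53782 D26146 (iv F58510) (iv F67741) (iv F72837) (iv D32247) (iv D29891) (iv D26137) F42040 D21705 D26147 D29898
theorem F72847 : act 4 n32249 = n30809 := d15_2 (iv F64818) D32249 F67861 F57870 (iv F58320)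
theorem F72848 : act 5 n32249 = n30632 := d16_2 (iv F64819) D32249 (iv D30632)
theorem F72849 : act 6 n32249 = n29899 := d17_2 (iv F64820) D32249 (iv D29899)
def n32250 : Q := act 6 n29902
theorem D32250 : act 6 n29902 = n32250 := rfl
theorem F72850 : act 0 n32250 = n32146 := d5_1 D32250 F72419 F66081
theorem F72851 : act 2 n32250 = n29905 := d14_1 D32250 (iv D29905) D29902
theorem F72852 : act 3 n32250 = n30719 := d17_1 D32250 F67543 (iv F66080)
theorem F72853 : act 4 n32250 = n32122 := d19_1 D32250 F72311 F70862
theorem F72854 : act 5 n32250 = n30862 := d20_1 D32250 F68028 (iv F66239) (iv F72419) F72418 F70838 F68137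
def n32251 : Q := act 1 n29904
theorem D32251 : act 1 n29904 = n32251 := rfl
theorem F72855 : act 0 n32251 = n32251 := d0_1 D32251 (iv D32251) F68909 (iv D31100) F59541 F48716 (iv F59541) D31100 (iv F68909)
theorem F72856 : act 2 n32251 = n32251 := d6_2 F68138 D32251 (iv D32251) (iv F68138) F68136
theorem F72857 : act 3 n32251 = n29906 := d7_2 (iv F64835) D32251 (iv D29906)
theorem F72858 : act 4 n32251 = n32160 := d8_2 (iv F64836) D32251 (iv D32160)
theorem F72859 : act 5 n32251 = n29911 := d9_2 D29904 D32251 (iv D29911) (iv D26161) (iv F53853)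
theorem F72860 : act 6 n32251 = n29952 := d10_2 (iv F64837) D32251 (iv D29952) F54017 (iv F64053)
def n32252 : Q := act 6 n29908
theorem D32252 : act 6 n29908 = n32252 := rfl
theorem F72861 : act 0 n32252 = n31734 := d5_1 D32252 (iv F71370) F71367
theorem F72862 : act 4 n32252 = n31732 := d19_1 D32252 F71030 (iv F64851)
theorem F72863 : act 5 n32252 = n31734 := d22_2 F64852 D32252 (iv F71370) F71367
theorem F72864 : act 1 n31730 = n32252 := d9_5 F72863 (iv D31734) (iv D29115) (iv F62565) D31730
def n32253 : Q := act 1 n29910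
theorem D32253 : act 1 n29910 = n32253 := rfl
theorem F72865 : act 2 n32253 = n32239 := d6_2 (iv F64858) D32253 F72801 F64707 F53869
theorem F72866 : act 4 n32253 = n30895 := d8_2 (iv F64859) D32253 (iv D30895)
theorem F72867 : act 6 n32253 = n31730 := d10_2 D29910 D32253 F72864 (iv D32252) (iv D29908)
def n32254 : Q := act 4 n29914
theorem D32254 : act 4 n29914 = n32254 := rfl
theorem F72868 : act 0 n32254 = n29918 := d3_1 D32254 (iv D29918) (iv F64874)
def n32255 : Q := act 5 n29914
theorem D32255 : act 5 n29914 = n32255 := rfl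
theorem F72869 : act 0 n32255 = n29919 := d4_1 D32255 (iv D29919) (iv F64874)
theorem F72870 : act 1 n32255 = n31143 := d9_1 D32255 (iv D31143) F59699 D31114 (iv F68966)
theorem F72871 : act 3 n32255 = n29916 := d16_1 D32255 (iv D29916) D29914
theorem F72872 : act 6 n32255 = n32175 := d22_1 D32255 F72547 (iv F64884) (iv F64874)
def n32256 : Q := act 4 n29917
theorem D32256 : act 4 n29917 = n32256 := rfl
theorem F72873 : act 1 n32256 = n32059 := d8_1 D32256 (iv D32059) (iv F64882)
theorem F72874 : act 2 n32256 = n29918 := d12_1 D32256 (iv D29918) D29917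
theorem F72875 : act 3 n32256 = n31933 := d15_1 D32256 (iv D31933) (iv F64136) (iv F64395) F64883
theorem F72876 : act 6 n32256 = n29918 := d19_2 F64884 D32256 (iv D29918)
def n32257 : Q := act 3 n29918
theorem D32257 : act 3 n29918 = n32257 := rfl
theorem F72877 : act 1 n32257 = n29923 := d7_1 D32257 (iv D29923) (iv F64885)
theorem F72878 : act 4 n32257 = n29920 := d15_2 D29918 D32257 (iv D29920) (iv D26175) D26174
theorem F72879 : act 6 n32257 = n31933 := d17_2 F72876 D32257 (iv F72875)
theorem F72880 : act 2 n32257 = n31935 := d21_4 (iv F71676) (iv F72875) F72874 D32257 (iv F72164) F72186 F72184 F71671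
def n32258 : Q := act 5 n29918
theorem D32258 : act 5 n29918 = n32258 := rfl
theorem F72881 : act 1 n32258 = n29993 := d9_1 D32258 (iv D29993) F54111 (iv F53898) (iv F64885)
theorem F72882 : act 4 n32258 = n29919 := d18_1 D32258 (iv D29919) D29918
def n32259 : Q := act 6 n29919
theorem D32259 : act 6 n29919 = n32259 := rfl
theorem F72883 : act 0 n32259 = n32175 := d5_1 D32259 (iv F72872) F72869
theorem F72884 : act 1 n32259 = n32171 := d10_1 D32259 F72529 F72501 (iv D29995) (iv F64886)
theorem F72885 : act 2 n32259 = n32255 := d14_1 D32259 F72872 F72545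
theorem F72886 : act 3 n32259 = n29922 := d17_1 D32259 (iv D29922) (iv F64887)
theorem F72887 : act 5 n32259 = n32213 := d20_1 D32259 F72690 D32255 F72872 F72547 (iv F64884) D29919
def n32260 : Q := act 2 n29923
theorem D32260 : act 2 n29923 = n32260 := rfl
theorem F72888 : act 0 n32260 = n31911 := d1_1 D32260 F71617 (iv F64901)
theorem F72889 : act 1 n32260 = n31961 := d6_1 D32260 F71753 (iv F71680) (iv F72880) F72877
theorem F72890 : act 3 n32260 = n31995 := d11_2 D29923 D32260 F71852 F63303 F52708 (iv F41475) (iv F52855) (iv F63176) (iv F71617) (iv F72698) F72697 F64473 F53537 (iv F52853) (iv F53897)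
theorem F72891 : act 4 n32260 = n29924 := d12_2 (iv F64902) D32260 (iv D29924)
theorem F72892 : act 5 n32260 = n30001 := d13_2 (iv F64903) D32260 (iv D30001)
def n32261 : Q := act 3 n29927
theorem D32261 : act 3 n29927 = n32261 := rfl
theorem F72893 : act 1 n32261 = n29935 := d7_1 D32261 (iv D29935) (iv F64912)
def n32262 : Q := act 5 n29929
theorem D32262 : act 5 n29929 = n32262 := rfl
theorem F72894 : act 0 n32262 = n29931 := d4_1 D32262 (iv D29931) D29929
theorem F72895 : act 2 n32262 = n31372 := d13_1 D32262 (iv D31372) F64920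
theorem F72896 : act 3 n32262 = n30359 := d16_1 D32262 (iv D30359) (iv F64917)
theorem F72897 : act 4 n32262 = n29934 := d18_1 D32262 (iv D29934) (iv F64918)
theorem F72898 : act 6 n32262 = n31175 := d20_2 (iv F64919) D32262 F69220 F61844 D29931 (iv F69874) (iv D31377)
def n32263 : Q := act 3 n29933
theorem D32263 : act 3 n29933 = n32263 := rfl
theorem F72899 : act 0 n32263 = n29935 := d2_1 D32263 (iv D29935) (iv F64929)
theorem F72900 : act 1 n32263 = n31371 := d7_1 D32263 F69854 F64932
theorem F72901 : act 2 n32263 = n30774 := d11_1 D32263 F67735 F57851 (iv D26189) (iv D21729) (iv F42099) D26184 D29935 (iv F70563) F70564 F62014 F53911 (iv D26187) (iv F53904) D29933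
theorem F72902 : act 4 n32263 = n30773 := d15_2 (iv F64930) D32263 (iv F69729) F69730 (iv F60967)
theorem F72903 : act 6 n32263 = n31373 := d17_2 (iv F64931) D32263 F69858
def n32264 : Q := act 5 n29933
theorem D32264 : act 5 n29933 = n32264 := rfl
theorem F72904 : act 0 n32264 = n29936 := d4_1 D32264 (iv D29936) (iv F64929)
theorem F72905 : act 2 n32264 = n29934 := d13_1 D32264 (iv D29934) D29933
theorem F72906 : act 4 n32264 = n31372 := d18_1 D32264 (iv D31372) (iv F64930)
theorem F72907 : act 6 n32264 = n31589 := d20_2 (iv F64931) D32264 (iv D31589) F61853 D29936 (iv F69863) (iv D31374)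
def n32265 : Q := act 4 n29935
theorem D32265 : act 4 n29935 = n32265 := rfl
theorem F72908 : act 0 n32265 = n30773 := d3_1 D32265 (iv F72902) F72899
theorem F72909 : act 2 n32265 = n30771 := d12_1 D32265 (iv F70565) F70563
theorem F72910 : act 5 n32265 = n31647 := d18_2 (iv F70561) D32265 F70705
def n32266 : Q := act 1 n29936
theorem D32266 : act 1 n29936 = n32266 := rfl
theorem F72911 : act 3 n32266 = n31646 := d7_2 F70560 D32266 (iv F70703)
theorem F72912 : act 4 n32266 = n31724 := d8_2 F69878 D32266 F70998
theorem F72913 : act 0 n32204 = n32266 := d3_3 F72912 (iv F71002) (iv F72659)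
theorem F72914 : act 6 n31645 = n32266 := d19_0 F72912 (iv D31724) (iv F70698)
def n32267 : Q := act 1 n29942
theorem D32267 : act 1 n29942 = n32267 := rfl
theorem F72915 : act 2 n32267 = n30180 := d6_2 (iv F64962) D32267 (iv D30180) (iv F65680) (iv F65683)
theorem F72916 : act 3 n32267 = n29943 := d7_2 (iv F64963) D32267 (iv D29943)
theorem F72917 : act 4 n32267 = n30183 := d8_2 F69144 D32267 (iv F69141)
theorem F72918 : act 5 n32267 = n30800 := d9_2 D29942 D32267 (iv D30800) F57812 (iv F57806)
theorem F72919 : act 6 n32267 = n30691 := d10_2 F69133 D32267 (iv F69111) F69114 (iv F69129)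
theorem F72920 : act 0 n30682 = n32267 := d5_3 F72919 F67430 (iv F67389)
def n32268 : Q := act 0 n29944
theorem D32268 : act 0 n29944 = n32268 := rfl
theorem F72921 : act 1 n32268 = n30019 := d0_2 D29944 D32268 (iv F68346) F68347 F66859 F56524 (iv F56532) F56535 (iv F53971)
theorem F72922 : act 2 n32268 = n31144 := d1_2 (iv F64969) D32268 F69071
theorem F72923 : act 3 n32268 = n29946 := d2_2 (iv F64970) D32268 (iv D29946)
theorem F72924 : act 4 n32268 = n30943 := d3_2 (iv F64971) D32268 F68304
theorem F72925 : act 5 n32268 = n30942 := d4_2 F68597 D32268 (iv F68593)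
theorem F72926 : act 6 n32268 = n31149 := d5_2 F70517 D32268 (iv F70512)
def n32269 : Q := act 2 n29950
theorem D32269 : act 2 n29950 = n32269 := rfl
theorem F72927 : act 0 n32269 = n30970 := d1_1 D32269 (iv D30970) F64992
theorem F72928 : act 1 n32269 = n30422 := d6_1 D32269 F66528 F56012 (iv F53988) D29950
theorem F72929 : act 3 n32269 = n32184 := d11_2 (iv F64990) D32269 (iv D32184) F64230 F53405 F47999 D23906 D27870 D30970 F68414 (iv D30967) (iv D27865) (iv D23900) (iv F47992) (iv F53992)
theorem F72930 : act 4 n32269 = n32184 := d12_2 (iv F64991) D32269 (iv D32184)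
def n32270 : Q := act 5 n29962
theorem D32270 : act 5 n29962 = n32270 := rfl
theorem F72931 : act 0 n32270 = n30238 := d4_1 D32270 (iv D30238) (iv F65037)
theorem F72932 : act 1 n32270 = n32220 := d9_1 D32270 (iv D32220) F68216 (iv F68281) F68278
theorem F72933 : act 2 n32270 = n31768 := d13_1 D32270 (iv D31768) (iv F65039)
theorem F72934 : act 3 n32270 = n29963 := d16_1 D32270 (iv D29963) D29962
theorem F72935 : act 4 n32270 = n30231 := d18_1 D32270 (iv D30231) (iv F65038)
def n32271 : Q := act 6 n29962
theorem D32271 : act 6 n29962 = n32271 := rfl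
theorem F72936 : act 0 n32271 = n30239 := d5_1 D32271 (iv D30239) (iv F65037)
theorem F72937 : act 2 n32271 = n31640 := d14_1 D32271 F70687 (iv F65039)
theorem F72938 : act 3 n32271 = n29964 := d17_1 D32271 (iv D29964) D29962
theorem F72939 : act 4 n32271 = n30232 := d19_1 D32271 (iv D30232) (iv F65038)
theorem F72940 : act 5 n32271 = n32202 := d22_2 (iv D32270) D32271 F72652 (iv F72931)
def n32272 : Q := act 6 n29963
theorem D32272 : act 6 n29963 = n32272 := rfl
theorem F72941 : act 0 n32272 = n31812 := d5_1 D32272 F71288 F68252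
theorem F72942 : act 2 n32272 = n29968 := d14_1 D32272 (iv D29968) (iv F65041)
theorem F72943 : act 4 n32272 = n29966 := d19_1 D32272 (iv D29966) (iv F65042)
theorem F72944 : act 5 n32272 = n30930 := d20_1 D32272 (iv D30930) D30929 (iv F71288) F71287 (iv D29964) D29963
theorem F72945 : act 1 n31631 = n32272 := d25_77 F72943 F65050 F58239 F58154 (iv F64048) F64047 (iv F60048) F60047 F57944 (iv D27561) F46593 F38770 F26357 (iv F38554) D24733 D28614 (iv F61252) (iv D25638) (iv F41333) D25637 (iv F63129) D31917 F71637 F70487 F61828 F53893 (iv D21724) D21723 F42092 (iv D21438) (iv D16223) D16222 F28050 D16406 D21713 D26159 D29908 F68891 (iv D31096) F59513 D28084 F59518 D28086 (iv F59526) (iv F61157) (iv D28645) D28644 F61155 F50317 (iv F57929) (iv F66921) (iv D30531) (iv F66920) F66919 F62616 (iv F60463) (iv F61087) (iv D28623) F50253 D24746 (iv F50272) (iv D22874) F44207 (iv F55949) F55948 F51791 (iv F54489) F54488 D28452 (iv F69426) (iv D31228) F62256 (iv F70664) (iv D31633) (iv D28979) (iv F62250) D31631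
def n32273 : Q := act 1 n29964
theorem D32273 : act 1 n29964 = n32273 := rfl
theorem F72946 : act 2 n32273 = n31872 := d6_2 (iv F65043) D32273 (iv D31872) F62956 F56620
theorem F72947 : act 4 n32273 = n29967 := d8_2 (iv F65044) D32273 (iv D29967)
def n32274 : Q := act 0 n29965
theorem D32274 : act 0 n29965 = n32274 := rfl
theorem F72948 : act 1 n32274 = n32197 := d0_2 D29965 D32274 (iv D32197) (iv D29758) (iv F58137) F58138 (iv F61394) (iv F58228) F58227
theorem F72949 : act 2 n32274 = n32217 := d1_2 (iv F65045) D32274 F72704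
theorem F72950 : act 4 n32274 = n32219 := d3_2 (iv F65046) D32274 F72713
theorem F72951 : act 5 n32274 = n31715 := d4_2 (iv F65047) D32274 F70974
def n32275 : Q := act 1 n29966
theorem D32275 : act 1 n29966 = n32275 := rfl
theorem F72952 : act 2 n32275 = n31629 := d6_2 (iv F65049) D32275 (iv D31629) F62248 F60705
theorem F72953 : act 3 n32275 = n30931 := d7_2 (iv F65050) D32275 (iv D30931)
theorem F72954 : act 4 n32275 = n31631 := d8_2 F72943 D32275 F72945
theorem F72955 : act 6 n32275 = n31806 := d10_2 D29966 D32275 F71271 F70973 (iv D29965)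
def n32276 : Q := act 2 n29967
theorem D32276 : act 2 n29967 = n32276 := rfl
theorem F72956 : act 1 n32276 = n29970 := d6_1 D32276 (iv D29970) (iv D26237) (iv F54062) D29967
theorem F72957 : act 4 n32276 = n31872 := d12_2 F72947 D32276 (iv F72946)
theorem F72958 : act 3 n31868 = n32276 := d15_5 F72957 F71471 F62958 (iv F62954) (iv F71463)
def n32277 : Q := act 5 n29970
theorem D32277 : act 5 n29970 = n32277 := rfl
theorem F72959 : act 2 n32277 = n29971 := d13_1 D32277 (iv D29971) D29970
theorem F72960 : act 3 n32277 = n31761 := d16_1 D32277 F71125 (iv F65063)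
theorem F72961 : act 4 n32277 = n30532 := d18_1 D32277 F66926 (iv F65061)
theorem F72962 : act 6 n32277 = n30530 := d22_1 D32277 (iv D30530) (iv F66900) F66897
def n32278 : Q := act 1 n29977
theorem D32278 : act 1 n29977 = n32278 := rfl
theorem F72963 : act 2 n32278 = n32266 := d6_2 (iv F65092) D32278 (iv D32266) F64936 (iv F54089)
theorem F72964 : act 3 n32278 = n31854 := d7_2 (iv F65093) D32278 F71413
theorem F72965 : act 4 n32278 = n30223 := d8_2 (iv F65094) D32278 F65842
theorem F72966 : act 5 n32278 = n30221 := d9_2 D29977 D32278 F65837 (iv F61419) F59690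
theorem F72967 : act 6 n32192 = n32278 := d22_1 D32192 F72966 (iv D30221) (iv F64300)
def n32279 : Q := act 6 n29977
theorem D32279 : act 6 n29977 = n32279 := rfl
theorem F72968 : act 0 n32279 = n32277 := d5_1 D32279 F72962 F66916
theorem F72969 : act 2 n32279 = n29978 := d14_1 D32279 (iv D29978) (iv F65092)
theorem F72970 : act 3 n32279 = n31779 := d17_1 D32279 F71179 (iv F65093)
theorem F72971 : act 4 n32279 = n30526 := d19_1 D32279 F66903 (iv F65094)
theorem F72972 : act 5 n32279 = n30525 := d20_1 D32279 F66900 D30530 (iv F72962) (iv D32277) F65062 D29977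
def n32280 : Q := act 3 n29979
theorem D32280 : act 3 n29979 = n32280 := rfl
theorem F72973 : act 0 n32280 = n32181 := d2_1 D32280 F72566 F70688
theorem F72974 : act 1 n32280 = n31212 := d7_1 D32280 F69362 (iv F65100)
theorem F72975 : act 4 n32280 = n31769 := d15_2 D29979 D32280 F71145 F62638 F62366
theorem F72976 : act 6 n32280 = n31768 := d17_2 F72325 D32280 (iv F72323)
def n32281 : Q := act 5 n29984
theorem D32281 : act 5 n29984 = n32281 := rfl
theorem F72977 : act 0 n32281 = n29993 := d4_1 D32281 (iv D29993) (iv F65119)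
theorem F72978 : act 1 n32281 = n32206 := d9_1 D32281 F72668 (iv D31994) D31995 (iv F71854)
theorem F72979 : act 4 n32281 = n29985 := d18_1 D32281 (iv D29985) D29984
theorem F72980 : act 6 n32281 = n32102 := d22_1 D32281 F72236 (iv D29994) (iv F65119)
def n32282 : Q := act 1 n29986
theorem D32282 : act 1 n29986 = n32282 := rfl
theorem F72981 : act 0 n32282 = n31116 := d0_1 D32282 F68971 (iv D29560) (iv D25799) (iv F42210) D26270 (iv F63121) (iv F63125) (iv F65123)
theorem F72982 : act 2 n32282 = n29995 := d6_2 F68916 D32282 (iv F72501) (iv D32163) F68918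
theorem F72983 : act 3 n32282 = n29988 := d7_2 (iv F65124) D32282 (iv D29988)
theorem F72984 : act 4 n32282 = n32208 := d8_2 F71748 D32282 F72674
theorem F72985 : act 5 n32282 = n31103 := d9_2 F65142 D32282 (iv F68918) F72502 F72501
theorem F72986 : act 6 n32282 = n29990 := d10_2 D29986 D32282 (iv F72541) F72544 F65107
def n32283 : Q := act 3 n29989
theorem D32283 : act 3 n29989 = n32283 := rfl
theorem F72987 : act 1 n32283 = n32078 := d7_1 D32283 (iv D32078) (iv F65133)
theorem F72988 : act 4 n32283 = n32207 := d15_2 D29989 D32283 F72670 F64434 F59537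
theorem F72989 : act 2 n32283 = n32212 := d21_2 (iv F65134) D32283 F72684 F72154 F63585 (iv F71753) F71754 F65119
theorem F72990 : act 5 n32210 = n32283 := d13_0 F72989 (iv D32212) (iv F72677)
def n32284 : Q := act 5 n29989
theorem D32284 : act 5 n29989 = n32284 := rfl
theorem F72991 : act 2 n32284 = n29993 := d13_1 D32284 (iv D29993) (iv F65134)
theorem F72992 : act 3 n32284 = n32210 := d16_1 D32284 F72990 (iv D32283)
theorem F72993 : act 4 n32284 = n29990 := d18_1 D32284 (iv D29990) D29989
theorem F72994 : act 6 n32208 = n32284 := d19_0 F72993 (iv F72986) F72984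
def n32285 : Q := act 6 n29989
theorem D32285 : act 6 n29989 = n32285 := rfl
theorem F72995 : act 2 n32285 = n29994 := d14_1 D32285 (iv D29994) (iv F65134)
theorem F72996 : act 4 n32285 = n29991 := d19_1 D32285 (iv D29991) D29989
def n32286 : Q := act 5 n29992
theorem D32286 : act 5 n29992 = n32286 := rfl
theorem F72997 : act 2 n32286 = n31965 := d13_1 D32286 F71765 F71745
theorem F72998 : act 3 n32286 = n29993 := d16_1 D32286 (iv D29993) D29992
theorem F72999 : act 4 n32286 = n29997 := d18_1 D32286 (iv D29997) (iv F65138)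
theorem F73000 : act 6 n32286 = n31960 := d22_1 D32286 (iv D31960) D31961 F71752
def n32287 : Q := act 6 n29993
theorem D32287 : act 6 n29993 = n32287 := rfl
theorem F73001 : act 0 n32287 = n32102 := d5_1 D32287 (iv F72980) F72977
theorem F73002 : act 2 n32287 = n32208 := d14_1 D32287 F72994 F72991
theorem F73003 : act 3 n32287 = n31960 := d17_1 D32287 (iv F73000) F72998
theorem F73004 : act 4 n32287 = n29995 := d19_1 D32287 (iv D29995) (iv F65139)
theorem F73005 : act 5 n32287 = n31959 := d20_1 D32287 (iv F71749) D32281 F72980 F72236 (iv D29994) D29993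
def n32288 : Q := act 1 n30001
theorem D32288 : act 1 n30001 = n32288 := rfl
theorem F73006 : act 2 n32288 = n32077 := d6_2 D30001 D32288 F72144 F71745 F65137
theorem F73007 : act 3 n32288 = n31994 := d7_2 (iv F65165) D32288 (iv D31994)
theorem F73008 : act 4 n32288 = n30004 := d8_2 (iv F65166) D32288 (iv D30004)
theorem F73009 : act 0 n32080 = n32288 := d3_3 F73008 (iv F65175) (iv F72155)
theorem F73010 : act 6 n32075 = n32288 := d19_0 F73008 (iv F65176) D32075
def n32289 : Q := act 6 n30001
theorem D32289 : act 6 n30001 = n32289 := rfl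
theorem F73011 : act 0 n32289 = n32103 := d5_1 D32289 (iv D32103) (iv F65164)
theorem F73012 : act 2 n32289 = n30002 := d14_1 D32289 (iv D30002) D30001
theorem F73013 : act 3 n32289 = n31937 := d17_1 D32289 F71688 (iv F65165)
theorem F73014 : act 4 n32289 = n30005 := d19_1 D32289 (iv D30005) (iv F65166)
theorem F73015 : act 1 n32041 = n32289 := d8_3 F73014 (iv F71816) (iv F72024)
def n32290 : Q := act 1 n30002
theorem D32290 : act 1 n30002 = n32290 := rfl
theorem F73016 : act 3 n32290 = n30003 := d7_2 (iv F65168) D32290 (iv D30003)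
theorem F73017 : act 4 n32290 = n30006 := d8_2 (iv F65169) D32290 (iv D30006)
theorem F73018 : act 5 n32290 = n32099 := d9_2 F71685 D32290 F72223 (iv F64369) (iv F71682)
def n32291 : Q := act 6 n30008
theorem D32291 : act 6 n30008 = n32291 := rfl
theorem F73019 : act 0 n32291 = n30010 := d5_1 D32291 (iv D30010) D30008
theorem F73020 : act 1 n32291 = n30752 := d10_1 D32291 F67656 (iv F67427) F57594 F65189
theorem F73021 : act 2 n32291 = n32197 := d14_1 D32291 F72630 F71119
theorem F73022 : act 3 n32291 = n30369 := d17_1 D32291 (iv F66385) (iv F65186)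
theorem F73023 : act 4 n32291 = n30012 := d19_1 D32291 (iv D30012) (iv F65187)
theorem F73024 : act 5 n32291 = n30747 := d20_1 D32291 F67636 F61639 D30010 (iv F67627) (iv D30745) (iv F65188)
def n32292 : Q := act 3 n30009
theorem D32292 : act 3 n30009 = n32292 := rfl
theorem F73025 : act 0 n32292 = n31853 := d2_1 D32292 F71412 F71117
theorem F73026 : act 1 n32292 = n30901 := d7_1 D32292 F68151 (iv F65190)
theorem F73027 : act 5 n32292 = n31851 := d16_2 F70354 D32292 F71407
theorem F73028 : act 6 n32292 = n30903 := d17_2 F65192 D32292 F68158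
def n32293 : Q := act 6 n30011
theorem D32293 : act 6 n30011 = n32293 := rfl
theorem F73029 : act 0 n32293 = n30014 := d5_1 D32293 (iv D30014) (iv F65197)
theorem F73030 : act 2 n32293 = n30012 := d14_1 D32293 (iv D30012) D30011
theorem F73031 : act 3 n32293 = n30627 := d17_1 D32293 (iv D30627) (iv F65198)
theorem F73032 : act 4 n32293 = n32197 := d19_1 D32293 F72630 F71120
theorem F73033 : act 5 n32293 = n31549 := d22_2 F70382 D32293 (iv D31549) (iv F70379)
theorem F73034 : act 1 n32219 = n32293 := d8_3 F73032 (iv F72948) F72950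
def n32294 : Q := act 6 n30013
theorem D32294 : act 6 n30013 = n32294 := rfl
theorem F73035 : act 0 n32294 = n30627 := d5_1 D32294 (iv D30627) (iv F65202)
theorem F73036 : act 1 n32294 = n32193 := d10_1 D32294 (iv D32193) (iv F68183) (iv F68291) (iv F68292)
theorem F73037 : act 2 n32294 = n30626 := d14_1 D32294 (iv D30626) (iv F65203)
theorem F73038 : act 3 n32294 = n30014 := d17_1 D32294 (iv D30014) D30013
def n32295 : Q := act 5 n30014
theorem D32295 : act 5 n30014 = n32295 := rfl
theorem F73039 : act 0 n32295 = n31549 := d4_1 D32295 (iv F73033) F73029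
theorem F73040 : act 2 n32295 = n30015 := d13_1 D32295 (iv D30015) (iv F65205)
theorem F73041 : act 4 n32295 = n31760 := d18_1 D32295 F71122 (iv F65206)
theorem F73042 : act 6 n32295 = n31547 := d20_2 D30014 D32295 F70382 D32293 F73033 (iv D31549) F61658
def n32296 : Q := act 4 n30023
theorem D32296 : act 4 n30023 = n32296 := rfl
theorem F73043 : act 0 n32296 = n31697 := d3_1 D32296 (iv D31697) F65238
theorem F73044 : act 1 n32296 = n30024 := d8_1 D32296 (iv D30024) D30023
theorem F73045 : act 2 n32296 = n30833 := d12_1 D32296 (iv D30833) (iv F65237)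
theorem F73046 : act 3 n30940 = n32296 := d21_1 D30940 F73045 F67932 (iv D30066) F54259 D26332 D30068 F65357
theorem F73047 : act 5 n32296 = n31439 := d16_2 (iv F68297) F73046 (iv D31439)
def n32297 : Q := act 5 n30023
theorem D32297 : act 5 n30023 = n32297 := rfl
theorem F73048 : act 0 n32297 = n31698 := d4_1 D32297 (iv D31698) F65238
theorem F73049 : act 2 n32297 = n30834 := d13_1 D32297 (iv D30834) (iv F65237)
theorem F73050 : act 3 n32297 = n32019 := d16_1 D32297 F71936 F65362
theorem F73051 : act 4 n32297 = n31439 := d18_1 D32297 (iv F73047) (iv D32296)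
theorem F73052 : act 6 n32297 = n32238 := d20_2 F72805 D32297 F72800 F69850 D31698 (iv F70910) D32240
theorem F73053 : act 1 n32020 = n32297 := d10_5 F73052 F72797 (iv F70058) F70438 (iv F71939)
theorem F73054 : act 0 n30385 = n30978 := d0_5 F73053 F73048 F70907 F66417 D30385 (iv D30978) (iv F60568) (iv F63364) (iv F71938)
theorem F73055 : act 6 n30981 = n30385 := d5_0 F73054 F68450 D30981
def n32298 : Q := act 3 n30024
theorem D32298 : act 3 n30024 = n32298 := rfl
theorem F73056 : act 0 n32298 = n30032 := d2_1 D32298 (iv D30032) (iv F65239)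
theorem F73057 : act 1 n32298 = n30940 := d7_1 D32298 F73046 F73044
theorem F73058 : act 2 n32298 = n31540 := d11_1 D32298 F70360 (iv D30373) (iv D26821) F43961 (iv F42291) (iv F54206) D30032 (iv F71401) (iv D31848) (iv D29246) (iv D25555) (iv F43958) (iv F54199) (iv F65240)
def n32299 : Q := act 1 n30025
theorem D32299 : act 1 n30025 = n32299 := rfl
theorem F73059 : act 0 n32299 = n31756 := d0_1 D32299 F71105 (iv F69609) (iv F69612) (iv F65827) F65828 F60286 F60300 (iv F65241)
theorem F73060 : act 2 n32299 = n31347 := d6_2 (iv F65242) D32299 F69786 F60894 (iv F59439)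
theorem F73061 : act 3 n32299 = n31363 := d7_2 F65369 D32299 F69824
theorem F73062 : act 4 n32299 = n31346 := d8_2 F68829 D32299 F69785
theorem F73063 : act 5 n32299 = n32020 := d9_2 D30025 D32299 F73053 (iv D32297) (iv D30023)
theorem F73064 : act 6 n31365 = n32299 := d22_1 (iv F69831) F73063 F71939 (iv D31563)
def n32300 : Q := act 1 n30026
theorem D32300 : act 1 n30026 = n32300 := rfl
theorem F73065 : act 0 n32300 = n31522 := d0_1 D32300 F70302 F61585 (iv D27950) F48466 D24051 D27964 (iv F61043) (iv F65243)
theorem F73066 : act 2 n32300 = n31521 := d6_2 (iv F65244) D32300 F70310 (iv D29595) (iv F54203)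
theorem F73067 : act 5 n32300 = n31472 := d9_2 F65265 D32300 F70159 F68630 F66662
def n32301 : Q := act 5 n30027
theorem D32301 : act 5 n30027 = n32301 := rfl
theorem F73068 : act 0 n32301 = n30030 := d4_1 D32301 (iv D30030) D30027
theorem F73069 : act 2 n32301 = n30038 := d13_1 D32301 (iv D30038) (iv F65245)
theorem F73070 : act 3 n32301 = n30667 := d16_1 D32301 (iv F67354) F67353
theorem F73071 : act 6 n32301 = n30669 := d20_2 F67349 D32301 (iv F67339) F61047 D30030 (iv F65255) D30672
def n32302 : Q := act 5 n30029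
theorem D32302 : act 5 n30029 = n32302 := rfl
theorem F73072 : act 1 n32302 = n31190 := d9_1 D32302 F69285 (iv F69236) (iv D30033) (iv F65250)
theorem F73073 : act 2 n32302 = n30040 := d13_1 D32302 (iv D30040) (iv F65251)
theorem F73074 : act 3 n32302 = n31656 := d16_1 D32302 F70737 F70524
theorem F73075 : act 4 n32302 = n30030 := d18_1 D32302 (iv D30030) D30029
theorem F73076 : act 6 n30671 = n32302 := d19_0 F73075 (iv F65255) D30671
def n32303 : Q := act 5 n30031
theorem D32303 : act 5 n30031 = n32303 := rfl
theorem F73077 : act 0 n32303 = n30461 := d4_1 D32303 (iv F66668) F65371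
theorem F73078 : act 2 n32303 = n30076 := d13_1 D32303 F65382 F65331
theorem F73079 : act 3 n32303 = n30036 := d16_1 D32303 (iv D30036) (iv F65256)
theorem F73080 : act 4 n32303 = n30577 := d18_1 D32303 (iv F70645) F70644
theorem F73081 : act 6 n32303 = n30071 := d20_2 D30031 D32303 (iv D30071) D30072 F66668 F66667 F60302
def n32304 : Q := act 6 n30032
theorem D32304 : act 6 n30032 = n32304 := rfl
theorem F73082 : act 2 n32304 = n31762 := d14_1 D32304 (iv F71400) F71401
theorem F73083 : act 3 n32304 = n30034 := d17_1 D32304 (iv D30034) D30032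
theorem F73084 : act 1 n31764 = n32304 := d7_3 F73083 F68641 F71133
def n32305 : Q := act 1 n30036
theorem D32305 : act 1 n30036 = n32305 := rfl
theorem F73085 : act 5 n32305 = n31396 := d9_2 D30036 D32305 (iv D31396) F61051 (iv F61043)
theorem F73086 : act 6 n32305 = n31553 := d10_2 (iv F65268) D32305 F70401 F73064 (iv D32299)
theorem F73087 : act 0 n32305 = n31644 := d23_3 D26311 (iv F65267) D32305 F70697 (iv F70683) F70682 F69657 F69656 F65101 F54099 (iv F50060) (iv F60781) F60780 (iv F63782) F63781 (iv F63762) (iv D29595) (iv F54203) F54202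
def n32306 : Q := act 6 n30037
theorem D32306 : act 6 n30037 = n32306 := rfl
theorem F73088 : act 0 n32306 = n30041 := d5_1 D32306 (iv D30041) (iv F65269)
theorem F73089 : act 3 n32306 = n31478 := d17_1 D32306 (iv D31478) (iv F65270)
theorem F73090 : act 4 n32306 = n30039 := d19_1 D32306 (iv D30039) D30037
def n32307 : Q := act 1 n30039
theorem D32307 : act 1 n30039 = n32307 := rfl
def n32308 : Q := act 6 n30040
theorem D32308 : act 6 n30040 = n32308 := rfl
theorem F73091 : act 2 n32308 = n30671 := d14_1 D32308 F73076 F73073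
theorem F73092 : act 4 n32308 = n30042 := d19_1 D32308 (iv D30042) (iv F65273)
theorem F73093 : act 5 n32308 = n32306 := d22_2 D30040 D32308 (iv D32306) F65269
def n32309 : Q := act 5 n30041
theorem D32309 : act 5 n30041 = n32309 := rfl
theorem F73094 : act 0 n32309 = n32308 := d4_1 D32309 F73093 F73088
theorem F73095 : act 4 n32309 = n30043 := d18_1 D32309 (iv D30043) (iv F65275)
theorem F73096 : act 6 n32309 = n32056 := d20_2 D30041 D32309 (iv F72073) D32306 (iv F73093) (iv D32308) (iv D30040)
def n32310 : Q := act 1 n30042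
theorem D32310 : act 1 n30042 = n32310 := rfl
def n32311 : Q := act 5 n30044
theorem D32311 : act 5 n30044 = n32311 := rfl
theorem F73097 : act 0 n32311 = n30528 := d4_1 D32311 (iv D30528) (iv F65281)
theorem F73098 : act 1 n32311 = n30503 := d9_1 D32311 (iv F67200) (iv F67201) (iv D30046) D30044
theorem F73099 : act 2 n32311 = n30055 := d13_1 D32311 (iv D30055) (iv F65282)
theorem F73100 : act 3 n32311 = n30502 := d16_1 D32311 F66830 (iv F65283)
theorem F73101 : act 4 n32311 = n30879 := d18_1 D32311 F68089 F66089
theorem F73102 : act 6 n32311 = n30515 := d20_2 F70574 D32311 F66915 (iv D30529) D30528 (iv F66911) (iv F70573)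
def n32312 : Q := act 2 n30049
theorem D32312 : act 2 n30049 = n32312 := rfl
theorem F73103 : act 0 n32312 = n30789 := d1_1 D32312 (iv D30789) (iv F65299)
theorem F73104 : act 4 n32312 = n30795 := d12_2 (iv F65301) D32312 (iv D30795)
theorem F73105 : act 5 n32312 = n30066 := d13_2 (iv F65302) D32312 (iv D30066)
theorem F73106 : act 6 n32312 = n32120 := d14_2 (iv F65303) D32312 F72305
def n32313 : Q := act 5 n30052
theorem D32313 : act 5 n30052 = n32313 := rfl
theorem F73107 : act 0 n32313 = n30055 := d4_1 D32313 (iv D30055) D30052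
theorem F73108 : act 1 n32313 = n32313 := d9_1 D32313 (iv D32313) F65312 F62313 (iv F65312)
theorem F73109 : act 2 n32313 = n30528 := d13_1 D32313 (iv D30528) (iv F65313)
theorem F73110 : act 3 n32313 = n30569 := d16_1 D32313 (iv D30569) F65314
theorem F73111 : act 6 n32313 = n31608 := d22_1 D32313 F70584 (iv D30056) D30052
def n32314 : Q := act 6 n30052
theorem D32314 : act 6 n30052 = n32314 := rfl
theorem F73112 : act 0 n32314 = n30056 := d5_1 D32314 (iv D30056) D30052
theorem F73113 : act 1 n32314 = n30080 := d10_1 D32314 (iv D30080) F62446 F62441 (iv F65312)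
theorem F73114 : act 2 n32314 = n30529 := d14_1 D32314 (iv D30529) (iv F65313)
theorem F73115 : act 3 n32314 = n30568 := d17_1 D32314 F67063 F65314
theorem F73116 : act 4 n32314 = n30083 := d19_1 D32314 F66099 F66097
theorem F73117 : act 5 n32314 = n31609 := d20_1 D32314 F70588 (iv D30055) D30056 (iv F70584) (iv F73111) (iv D32313)
def n32315 : Q := act 6 n30053
theorem D32315 : act 6 n30053 = n32315 := rfl
theorem F73118 : act 0 n32315 = n30568 := d5_1 D32315 F67063 (iv F65315)
theorem F73119 : act 2 n32315 = n30478 := d14_1 D32315 F66739 (iv F65317)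
theorem F73120 : act 3 n32315 = n30056 := d17_1 D32315 (iv D30056) D30053
theorem F73121 : act 4 n32315 = n30602 := d19_1 D32315 F67271 F67270
theorem F73122 : act 5 n32315 = n30520 := d20_1 D32315 (iv F67067) (iv D30569) (iv F67063) F67062 F62046 F65318
def n32316 : Q := act 5 n30054
theorem D32316 : act 5 n30054 = n32316 := rfl
theorem F73123 : act 1 n32316 = n31054 := d9_1 D32316 (iv D31054) F65337 (iv D30061) (iv F65319)
theorem F73124 : act 2 n32316 = n30879 := d13_1 D32316 F68089 (iv F66090)
theorem F73125 : act 4 n32316 = n30055 := d18_1 D32316 (iv D30055) D30054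
def n32317 : Q := act 6 n30054
theorem D32317 : act 6 n30054 = n32317 := rfl
theorem F73126 : act 0 n32317 = n30083 := d5_1 D32317 F66099 F66095
theorem F73127 : act 4 n32317 = n30056 := d19_1 D32317 (iv D30056) D30054
def n32318 : Q := act 1 n30056
theorem D32318 : act 1 n30056 = n32318 := rfl
theorem F73128 : act 6 n32318 = n30064 := d10_2 D30056 D32318 (iv D30064) (iv D26327) D26323
def n32319 : Q := act 3 n30057
theorem D32319 : act 3 n30057 = n32319 := rfl
theorem F73129 : act 0 n32319 = n30073 := d2_1 D32319 (iv D30073) (iv F65322)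
theorem F73130 : act 4 n32319 = n30060 := d15_2 D30057 D32319 (iv D30060) (iv D26325) D26324
theorem F73131 : act 5 n32319 = n31624 := d16_2 F65324 D32319 (iv D31624)
theorem F73132 : act 2 n31750 = n32319 := d13_3 F73131 F70641 D31750
theorem F73133 : act 6 n32113 = n32319 := d20_0 F73131 F70640 D31753 F71098 F69322 (iv F71090) (iv F72278)
def n32320 : Q := act 6 n30057
theorem D32320 : act 6 n30057 = n32320 := rfl
theorem F73134 : act 0 n32320 = n30075 := d5_1 D32320 (iv D30075) (iv F65322)
theorem F73135 : act 1 n32320 = n32114 := d10_1 D32320 (iv F72286) F72283 F67271 F67268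
theorem F73136 : act 2 n32320 = n31625 := d14_1 D32320 (iv D31625) (iv F65323)
theorem F73137 : act 3 n32320 = n32113 := d17_1 D32320 F73133 (iv D32319)
theorem F73138 : act 4 n32320 = n30059 := d19_1 D32320 (iv D30059) D30057
theorem F73139 : act 5 n32320 = n30610 := d20_1 D32320 F67160 (iv D30074) D30075 F65380 (iv F62213) F65324
def n32321 : Q := act 1 n30059
theorem D32321 : act 1 n30059 = n32321 := rfl
theorem F73140 : act 0 n32321 = n32116 := d0_1 D32321 F72287 F63687 (iv F59091) F59090 D28525 (iv F65385) (iv D30077) (iv F65330)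
theorem F73141 : act 2 n32321 = n31952 := d6_2 (iv F65331) D32321 (iv D31952) F63224 F65257
theorem F73142 : act 3 n32321 = n30064 := d7_2 (iv F65332) D32321 (iv D30064)
theorem F73143 : act 4 n32321 = n32114 := d8_2 F73138 D32321 (iv F73135)
def n32322 : Q := act 5 n30064
theorem D32322 : act 5 n30064 = n32322 := rfl
theorem F73144 : act 2 n32322 = n31785 := d13_1 D32322 F71200 F70308
theorem F73145 : act 4 n32322 = n31926 := d18_1 D32322 (iv F71716) (iv F71717)
theorem F73146 : act 6 n31924 = n32322 := d24_0 (iv D32322) (iv D30064) (iv D26327) D26326 D30063 (iv F65345) (iv F63145) F63144 (iv D28010) (iv D24083) D24081 D28006 F63162 (iv F71654)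
def n32323 : Q := act 2 n30065
theorem D32323 : act 2 n30065 = n32323 := rfl
theorem F73147 : act 0 n32323 = n32125 := d1_1 D32323 F72322 F65350
theorem F73148 : act 4 n32323 = n30067 := d12_2 (iv F65348) D32323 (iv D30067)
theorem F73149 : act 5 n32323 = n30361 := d13_2 F65351 D32323 (iv D30361)
theorem F73150 : act 6 n32323 = n31641 := d14_2 (iv F65349) D32323 F70689
def n32324 : Q := act 2 n30068
theorem D32324 : act 2 n30068 = n32324 := rfl
theorem F73151 : act 0 n32324 = n30940 := d1_1 D32324 (iv D30940) (iv F65357)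
theorem F73152 : act 1 n32324 = n31699 := d6_1 D32324 F70912 (iv F68648) (iv F69171) F69170
theorem F73153 : act 3 n32324 = n31697 := d11_2 D30068 D32324 F70906 F62566 (iv D27490) F46476 D23651 D27758 D30940 F73046 F73045 F67932 (iv D30066) F54259 D26332
theorem F73154 : act 4 n32324 = n30758 := d12_2 (iv F65358) D32324 F67673
theorem F73155 : act 5 n32324 = n31437 := d13_2 (iv F65359) D32324 (iv D31437)
theorem F73156 : act 6 n32324 = n30757 := d14_2 (iv F65360) D32324 F67672
def n32325 : Q := act 4 n30069
theorem D32325 : act 4 n30069 = n32325 := rfl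
theorem F73157 : act 0 n32325 = n31185 := d3_1 D32325 F69266 F65363
theorem F73158 : act 1 n32325 = n30070 := d8_1 D32325 (iv D30070) D30069
theorem F73159 : act 2 n32325 = n30661 := d12_1 D32325 F67314 (iv F65361)
theorem F73160 : act 6 n32325 = n30659 := d19_2 F71998 D32325 (iv F71997)
def n32326 : Q := act 3 n30070
theorem D32326 : act 3 n30070 = n32326 := rfl
theorem F73161 : act 0 n32326 = n31623 := d2_1 D32326 F70636 (iv F65364)
theorem F73162 : act 4 n32326 = n32298 := d15_2 D30070 D32326 (iv D32298) (iv D30024) (iv F54270)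
theorem F73163 : act 5 n32326 = n31621 := d16_2 F65366 D32326 F70635
def n32327 : Q := act 1 n30072
theorem D32327 : act 1 n30072 = n32327 := rfl
theorem F73164 : act 3 n32327 = n32300 := d7_2 (iv F65373) D32327 (iv D32300)
def n32328 : Q := act 5 n30083
theorem D32328 : act 5 n30083 = n32328 := rfl
theorem F73165 : act 1 n32328 = n32322 := d9_1 D32328 (iv D32322) (iv D30064) (iv F54282) D30083
theorem F73166 : act 4 n32328 = n31609 := d18_1 D32328 (iv F73117) F73116
theorem F73167 : act 6 n32328 = n32316 := d22_1 D32328 (iv D32316) D32317 F73126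
def n32329 : Q := act 3 n30092
theorem D32329 : act 3 n30092 = n32329 := rfl
theorem F73168 : act 0 n32329 = n30093 := d2_1 D32329 (iv D30093) (iv F65430)
theorem F73169 : act 5 n32329 = n31041 := d16_2 (iv F65432) D32329 (iv D31041)
theorem F73170 : act 6 n32329 = n31881 := d17_2 (iv F65433) D32329 F71503
def n32330 : Q := act 6 n30093
theorem D32330 : act 6 n30093 = n32330 := rfl
theorem F73171 : act 0 n32330 = n31881 := d5_1 D32330 (iv F73170) F73168
theorem F73172 : act 2 n32330 = n31841 := d14_1 D32330 F71372 F68697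
theorem F73173 : act 3 n32330 = n30094 := d17_1 D32330 (iv D30094) D30093
def n32331 : Q := act 6 n30095
theorem D32331 : act 6 n30095 = n32331 := rfl
theorem F73174 : act 0 n32331 = n30686 := d5_1 D32331 (iv F67850) F67846
theorem F73175 : act 1 n32331 = n31258 := d10_1 D32331 F69552 F60779 (iv F56753) (iv F65439)
theorem F73176 : act 2 n32331 = n30714 := d14_1 D32331 (iv F67839) F67836
theorem F73177 : act 3 n32331 = n30554 := d17_1 D32331 (iv D30554) (iv F65440)
theorem F73178 : act 4 n32331 = n30097 := d19_1 D32331 (iv D30097) (iv F65441)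
theorem F73179 : act 5 n32331 = n30713 := d20_1 D32331 F67525 D30806 F67850 F67412 (iv D30096) D30095
def n32332 : Q := act 2 n30106
theorem D32332 : act 2 n30106 = n32332 := rfl
theorem F73180 : act 0 n32332 = n31667 := d1_1 D32332 (iv F70780) F68029
theorem F73181 : act 4 n32332 = n30110 := d12_2 (iv F65480) D32332 (iv D30110)
theorem F73182 : act 5 n32332 = n31474 := d13_2 (iv F65481) D32332 (iv D31474)
theorem F73183 : act 6 n32332 = n32137 := d14_2 F66894 D32332 F72381
def n32333 : Q := act 6 n30110
theorem D32333 : act 6 n30110 = n32333 := rfl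
theorem F73184 : act 0 n32333 = n31668 := d5_1 D32333 (iv D31668) (iv F65494)
theorem F73185 : act 1 n32333 = n32138 := d10_1 D32333 F72387 (iv F65512) (iv F70301) F70299
theorem F73186 : act 2 n32333 = n30111 := d14_1 D32333 (iv D30111) D30110
theorem F73187 : act 3 n32333 = n31669 := d17_1 D32333 (iv D31669) (iv F65495)
theorem F73188 : act 4 n32333 = n32137 := d19_1 D32333 (iv F73183) F73181
theorem F73189 : act 5 n32333 = n31067 := d20_1 D32333 (iv D31067) (iv F62357) D31668 F70785 (iv D31475) (iv F65496)
def n32334 : Q := act 4 n30117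
theorem D32334 : act 4 n30117 = n32334 := rfl
theorem F73190 : act 0 n32334 = n31705 := d3_1 D32334 (iv D31705) F65518
theorem F73191 : act 1 n32334 = n30118 := d8_1 D32334 (iv D30118) D30117
theorem F73192 : act 2 n32334 = n30891 := d12_1 D32334 (iv D30891) (iv F65517)
theorem F73193 : act 3 n30944 = n32334 := d21_1 D30944 F73192 F68120 (iv D30161) F54440 D26408 D30162 F65640
theorem F73194 : act 6 n32334 = n31404 := d17_2 (iv F68309) F73193 (iv D31404)
def n32335 : Q := act 6 n30117
theorem D32335 : act 6 n30117 = n32335 := rfl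
theorem F73195 : act 0 n32335 = n31706 := d5_1 D32335 (iv D31706) F65518
theorem F73196 : act 2 n32335 = n30893 := d14_1 D32335 (iv D30893) (iv F65517)
theorem F73197 : act 3 n32335 = n31886 := d17_1 D32335 F71523 F65645
theorem F73198 : act 4 n32335 = n31404 := d19_1 D32335 (iv F73194) (iv D32334)
theorem F73199 : act 5 n32335 = n32141 := d20_1 D32335 (iv F72402) F69973 D31706 F70944 D32143 (iv F72407)
theorem F73200 : act 1 n31887 = n32335 := d9_5 F73199 F72399 (iv F69937) F70506 (iv F71526)
def n32336 : Q := act 3 n30118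
theorem D32336 : act 3 n30118 = n32336 := rfl
theorem F73201 : act 0 n32336 = n30126 := d2_1 D32336 (iv D30126) (iv F65519)
theorem F73202 : act 1 n32336 = n30944 := d7_1 D32336 F73193 F73191
theorem F73203 : act 2 n32336 = n31486 := d11_1 D32336 F70200 (iv D30393) (iv D26856) F44111 (iv F42412) (iv F54382) D30126 (iv F71273) (iv D31806) (iv D29191) (iv D25497) (iv F44108) (iv F54375) (iv F65520)
def n32337 : Q := act 1 n30119
theorem D32337 : act 1 n30119 = n32337 := rfl
theorem F73204 : act 0 n32337 = n31471 := d0_1 D32337 F70158 F61440 (iv D28022) F48592 D24102 D28036 (iv F59434) (iv F65521)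
theorem F73205 : act 2 n32337 = n31470 := d6_2 (iv F65522) D32337 F70157 (iv D29834) (iv F54377)
theorem F73206 : act 6 n32337 = n31523 := d10_2 F65548 D32337 F70304 F68779 F66696
def n32338 : Q := act 1 n30120
theorem D32338 : act 1 n30120 = n32338 := rfl
theorem F73207 : act 0 n32338 = n31711 := d0_1 D32338 F70961 (iv F69687) (iv F69690) (iv F65886) F65887 F60312 (iv F60434) (iv F65523)
theorem F73208 : act 2 n32338 = n31321 := d6_2 (iv F65524) D32338 F69719 F60832 F59223
theorem F73209 : act 3 n32338 = n31337 := d7_2 F65655 D32338 F69757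
theorem F73210 : act 4 n32338 = n31320 := d8_2 F68687 D32338 F69718
theorem F73211 : act 6 n32338 = n31887 := d10_2 D30120 D32338 F73200 (iv D32335) (iv D30117)
theorem F73212 : act 5 n31339 = n32338 := d24_1 (iv F69764) (iv D32338) (iv D30120) D30119 D32337 F73206 (iv D31523) (iv D28771) (iv D24871) (iv D20416) (iv F26394) D20470 D24952 D28858
def n32339 : Q := act 6 n30121
theorem D32339 : act 6 n30121 = n32339 := rfl
theorem F73213 : act 0 n32339 = n30124 := d5_1 D32339 (iv D30124) D30121
theorem F73214 : act 2 n32339 = n30133 := d14_1 D32339 (iv D30133) (iv F65525)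
theorem F73215 : act 3 n32339 = n30647 := d17_1 D32339 (iv F67295) F67294
theorem F73216 : act 5 n32339 = n30649 := d20_1 D32339 (iv F67280) F61196 D30124 (iv F65535) D30652 (iv F67290)
def n32340 : Q := act 6 n30123
theorem D32340 : act 6 n30123 = n32340 := rfl
theorem F73217 : act 1 n32340 = n31194 := d10_1 D32340 F69298 (iv F69240) (iv D30128) (iv F65530)
theorem F73218 : act 2 n32340 = n30135 := d14_1 D32340 (iv D30135) (iv F65531)
theorem F73219 : act 3 n32340 = n31667 := d17_1 D32340 F70779 F70526
theorem F73220 : act 4 n32340 = n30124 := d19_1 D32340 (iv D30124) D30123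
theorem F73221 : act 5 n30651 = n32340 := d18_0 F73220 (iv F65535) D30651
def n32341 : Q := act 6 n30125
theorem D32341 : act 6 n30125 = n32341 := rfl
theorem F73222 : act 0 n32341 = n30469 := d5_1 D32341 (iv F66702) F65650
theorem F73223 : act 2 n32341 = n30172 := d14_1 D32341 F65675 F65609
theorem F73224 : act 3 n32341 = n30129 := d17_1 D32341 (iv D30129) (iv F65536)
theorem F73225 : act 4 n32341 = n30584 := d19_1 D32341 (iv F70670) F70669
theorem F73226 : act 5 n32341 = n30166 := d20_1 D32341 (iv D30166) D30165 F66702 F66701 (iv F60436) D30125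
def n32342 : Q := act 5 n30126
theorem D32342 : act 5 n30126 = n32342 := rfl
theorem F73227 : act 2 n32342 = n31717 := d13_1 D32342 (iv F71272) F71273
theorem F73228 : act 3 n32342 = n30127 := d16_1 D32342 (iv D30127) D30126
theorem F73229 : act 1 n31719 = n32342 := d7_3 F73228 F68790 F70988
def n32343 : Q := act 1 n30129
theorem D32343 : act 1 n30129 = n32343 := rfl
theorem F73230 : act 5 n32343 = n31573 := d9_2 (iv F65544) D32343 F70463 F73212 (iv D32338)
theorem F73231 : act 6 n32343 = n31433 := d10_2 D30129 D32343 (iv D31433) F61209 (iv F59434)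
theorem F73232 : act 0 n32343 = n31639 := d23_3 (iv F54393) (iv F65543) D32343 (iv D31639) (iv F69596) (iv D31274) (iv F61025) (iv D28597) (iv F61020) (iv F61441) (iv F69619) F69621 (iv F73186) F73185 F72384 (iv F63889) F60433 F54364 (iv F54379)
def n32344 : Q := act 5 n30131
theorem D32344 : act 5 n30131 = n32344 := rfl
theorem F73233 : act 0 n32344 = n30134 := d4_1 D32344 (iv D30134) (iv F65549)
theorem F73234 : act 3 n32344 = n31532 := d16_1 D32344 (iv D31532) (iv F65550)
theorem F73235 : act 4 n32344 = n30132 := d18_1 D32344 (iv D30132) D30131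
def n32345 : Q := act 1 n30132
theorem D32345 : act 1 n30132 = n32345 := rfl
def n32346 : Q := act 6 n30134
theorem D32346 : act 6 n30134 = n32346 := rfl
theorem F73236 : act 1 n32346 = n32309 := d10_1 D32346 F73096 (iv D32056) F63485 (iv F65553)
theorem F73237 : act 4 n32346 = n30136 := d19_1 D32346 (iv D30136) (iv F65554)
theorem F73238 : act 5 n32346 = n31928 := d22_2 D30134 D32346 (iv F71667) F65549
def n32347 : Q := act 5 n30135
theorem D32347 : act 5 n30135 = n32347 := rfl
theorem F73239 : act 0 n32347 = n32346 := d4_1 D32347 F73238 (iv F71666)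
theorem F73240 : act 2 n32347 = n30651 := d13_1 D32347 F73221 F73218
theorem F73241 : act 4 n32347 = n30137 := d18_1 D32347 (iv D30137) (iv F65555)
theorem F73242 : act 6 n32347 = n32344 := d20_2 D30135 D32347 (iv D32344) F71667 (iv F73238) (iv D32346) (iv D30134)
def n32348 : Q := act 1 n30137
theorem D32348 : act 1 n30137 = n32348 := rfl
def n32349 : Q := act 6 n30138
theorem D32349 : act 6 n30138 = n32349 := rfl
theorem F73243 : act 0 n32349 = n30546 := d5_1 D32349 (iv D30546) (iv F65564)
theorem F73244 : act 1 n32349 = n30500 := d10_1 D32349 (iv F67237) (iv F67238) (iv D30141) D30138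
theorem F73245 : act 2 n32349 = n30150 := d14_1 D32349 (iv D30150) (iv F65565)
theorem F73246 : act 3 n32349 = n30499 := d17_1 D32349 F66821 (iv F65566)
theorem F73247 : act 4 n32349 = n30820 := d19_1 D32349 F67900 F66312
theorem F73248 : act 5 n32349 = n30516 := d20_1 D32349 F66968 (iv D30545) D30546 (iv F66971) (iv F70531) F70530
def n32350 : Q := act 2 n30144
theorem D32350 : act 2 n30144 = n32350 := rfl
theorem F73249 : act 0 n32350 = n30847 := d1_1 D32350 (iv D30847) (iv F65586)
theorem F73250 : act 4 n32350 = n30853 := d12_2 (iv F65588) D32350 (iv D30853)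
theorem F73251 : act 5 n32350 = n32224 := d13_2 F65590 D32350 F72734
theorem F73252 : act 6 n32350 = n30161 := d14_2 (iv F65589) D32350 (iv D30161)
def n32351 : Q := act 5 n30146
theorem D32351 : act 5 n30146 = n32351 := rfl
theorem F73253 : act 0 n32351 = n30149 := d4_1 D32351 (iv D30149) D30146
theorem F73254 : act 1 n32351 = n30176 := d9_1 D32351 (iv D30176) (iv F62483) F62484 (iv F65595)
theorem F73255 : act 2 n32351 = n30545 := d13_1 D32351 (iv D30545) (iv F65596)
theorem F73256 : act 3 n32351 = n30571 := d16_1 D32351 F67072 F65597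
theorem F73257 : act 4 n32351 = n30179 := d18_1 D32351 F66322 F66320
theorem F73258 : act 6 n32351 = n31598 := d22_1 D32351 F70545 (iv D30150) D30146
def n32352 : Q := act 6 n30146
theorem D32352 : act 6 n30146 = n32352 := rfl
theorem F73259 : act 0 n32352 = n30150 := d5_1 D32352 (iv D30150) D30146
theorem F73260 : act 1 n32352 = n32352 := d10_1 D32352 (iv D32352) F65595 F62316 (iv F65595)
theorem F73261 : act 2 n32352 = n30546 := d14_1 D32352 (iv D30546) (iv F65596)
theorem F73262 : act 3 n32352 = n30572 := d17_1 D32352 (iv D30572) F65597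
theorem F73263 : act 5 n32352 = n31597 := d20_1 D32352 F70541 (iv D30149) D30150 (iv F70545) (iv F73258) (iv D32351)
def n32353 : Q := act 5 n30147
theorem D32353 : act 5 n30147 = n32353 := rfl
theorem F73264 : act 0 n32353 = n30571 := d4_1 D32353 F67072 (iv F65598)
theorem F73265 : act 2 n32353 = n30471 := d13_1 D32353 F66710 (iv F65600)
theorem F73266 : act 3 n32353 = n30149 := d16_1 D32353 (iv D30149) D30147
theorem F73267 : act 4 n32353 = n30590 := d18_1 D32353 F67333 F67332
theorem F73268 : act 6 n32353 = n30537 := d20_2 F65601 D32353 F67077 (iv D30572) (iv F67072) F67073 F61999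
def n32354 : Q := act 5 n30148
theorem D32354 : act 5 n30148 = n32354 := rfl
theorem F73269 : act 0 n32354 = n30179 := d4_1 D32354 F66322 F66318
theorem F73270 : act 4 n32354 = n30149 := d18_1 D32354 (iv D30149) D30148
def n32355 : Q := act 6 n30148
theorem D32355 : act 6 n30148 = n32355 := rfl
theorem F73271 : act 1 n32355 = n31087 := d10_1 D32355 (iv D31087) F65623 (iv D30156) (iv F65602)
theorem F73272 : act 2 n32355 = n30820 := d14_1 D32355 F67900 (iv F66313)
theorem F73273 : act 4 n32355 = n30150 := d19_1 D32355 (iv D30150) D30148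
def n32356 : Q := act 1 n30149
theorem D32356 : act 1 n30149 = n32356 := rfl
theorem F73274 : act 5 n32356 = n30157 := d9_2 D30149 D32356 (iv D30157) (iv D26402) D26399
def n32357 : Q := act 3 n30151
theorem D32357 : act 3 n30151 = n32357 := rfl
theorem F73275 : act 0 n32357 = n30167 := d2_1 D32357 (iv D30167) (iv F65605)
theorem F73276 : act 4 n32357 = n30154 := d15_2 D30151 D32357 (iv D30154) (iv D26401) D26400
theorem F73277 : act 6 n32357 = n31633 := d17_2 F65607 D32357 (iv D31633)
theorem F73278 : act 2 n31794 = n32357 := d14_3 F73277 F70666 D31794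
theorem F73279 : act 5 n32007 = n32357 := d20_7 F73277 F70665 D31797 F71240 F69349 (iv F71232) (iv F71893)
def n32358 : Q := act 5 n30151
theorem D32358 : act 5 n30151 = n32358 := rfl
theorem F73280 : act 0 n32358 = n30168 := d4_1 D32358 (iv D30168) (iv F65605)
theorem F73281 : act 1 n32358 = n32008 := d9_1 D32358 (iv F71901) F71899 F67333 F67330
theorem F73282 : act 2 n32358 = n31634 := d13_1 D32358 (iv D31634) (iv F65606)
theorem F73283 : act 3 n32358 = n32007 := d16_1 D32358 F73279 (iv D32357)
theorem F73284 : act 4 n32358 = n30152 := d18_1 D32358 (iv D30152) D30151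
theorem F73285 : act 6 n32358 = n30598 := d20_2 F65607 D32358 F67132 (iv D30169) D30168 F65660 (iv F62252)
def n32359 : Q := act 1 n30152
theorem D32359 : act 1 n30152 = n32359 := rfl
theorem F73286 : act 0 n32359 = n32010 := d0_1 D32359 F71903 F63332 (iv F59100) F59099 D28550 F65666 (iv D30170) (iv F65608)
theorem F73287 : act 2 n32359 = n32071 := d6_2 (iv F65609) D32359 (iv D32071) F63554 F65537
theorem F73288 : act 3 n32359 = n30157 := d7_2 (iv F65610) D32359 (iv D30157)
theorem F73289 : act 4 n32359 = n32008 := d8_2 F73284 D32359 (iv F73281)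
def n32360 : Q := act 6 n30157
theorem D32360 : act 6 n30157 = n32360 := rfl
theorem F73290 : act 2 n32360 = n31741 := d14_1 D32360 F71058 F70144
theorem F73291 : act 4 n32360 = n32053 := d19_1 D32360 (iv F72109) (iv F72110)
theorem F73292 : act 5 n32360 = n32052 := d24_1 D32360 F72059 (iv F63482) (iv D28075) (iv D24132) D24134 D28080 (iv F63468) F63469 F65628 (iv D30158) (iv D26403) D26402 D30157
def n32361 : Q := act 2 n30159
theorem D32361 : act 2 n30159 = n32361 := rfl
theorem F73293 : act 0 n32361 = n32187 := d1_1 D32361 F72595 F65633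
theorem F73294 : act 4 n32361 = n30160 := d12_2 (iv F65631) D32361 (iv D30160)
theorem F73295 : act 5 n32361 = n31646 := d13_2 (iv F65632) D32361 F70701
theorem F73296 : act 6 n32361 = n30305 := d14_2 F65634 D32361 (iv D30305)
def n32362 : Q := act 2 n30162
theorem D32362 : act 2 n30162 = n32362 := rfl
theorem F73297 : act 0 n32362 = n30944 := d1_1 D32362 (iv D30944) (iv F65640)
theorem F73298 : act 1 n32362 = n31707 := d6_1 D32362 F70946 (iv F68797) (iv F69118) F69117
theorem F73299 : act 3 n32362 = n31705 := d11_2 D30162 D32362 F70940 F62658 (iv D27566) F46599 D23703 D27783 D30944 F73193 F73192 F68120 (iv D30161) F54440 D26408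
theorem F73300 : act 4 n32362 = n30696 := d12_2 (iv F65641) D32362 F67446
theorem F73301 : act 5 n32362 = n30695 := d13_2 (iv F65642) D32362 F67445
theorem F73302 : act 6 n32362 = n31402 := d14_2 (iv F65643) D32362 (iv D31402)
def n32363 : Q := act 4 n30163
theorem D32363 : act 4 n30163 = n32363 := rfl
theorem F73303 : act 0 n32363 = n31188 := d3_1 D32363 F69276 F65646
theorem F73304 : act 1 n32363 = n30164 := d8_1 D32363 (iv D30164) D30163
theorem F73305 : act 2 n32363 = n30641 := d12_1 D32363 F67255 (iv F65644)
theorem F73306 : act 5 n32363 = n30639 := d18_2 F71589 D32363 (iv F71588)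
def n32364 : Q := act 3 n30164
theorem D32364 : act 3 n30164 = n32364 := rfl
theorem F73307 : act 0 n32364 = n31632 := d2_1 D32364 F70661 (iv F65647)
theorem F73308 : act 4 n32364 = n32336 := d15_2 D30164 D32364 (iv D32336) (iv D30118) (iv F54448)
theorem F73309 : act 6 n32364 = n31630 := d17_2 F65649 D32364 F70660
def n32365 : Q := act 1 n30165
theorem D32365 : act 1 n30165 = n32365 := rfl
theorem F73310 : act 3 n32365 = n32337 := d7_2 (iv F65652) D32365 (iv D32337)
def n32366 : Q := act 6 n30179
theorem D32366 : act 6 n30179 = n32366 := rfl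
theorem F73311 : act 1 n32366 = n32360 := d10_1 D32366 (iv D32360) (iv D30157) (iv F54465) D30179
theorem F73312 : act 4 n32366 = n31598 := d19_1 D32366 (iv F73258) F73257
theorem F73313 : act 5 n32366 = n32355 := d22_2 (iv F66322) D32366 (iv D32355) (iv F66318)
def n32367 : Q := act 3 n30186
theorem D32367 : act 3 n30186 = n32367 := rfl
theorem F73314 : act 0 n32367 = n30187 := d2_1 D32367 (iv D30187) (iv F65716)
theorem F73315 : act 1 n32367 = n32330 := d7_1 D32367 F73173 (iv F65717)
theorem F73316 : act 5 n32367 = n31841 := d16_2 (iv F65719) D32367 F71371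
theorem F73317 : act 6 n32367 = n31078 := d17_2 (iv F65720) D32367 (iv D31078)
def n32368 : Q := act 5 n30187
theorem D32368 : act 5 n30187 = n32368 := rfl
theorem F73318 : act 0 n32368 = n31841 := d4_1 D32368 (iv F73316) F73314
theorem F73319 : act 1 n32368 = n32329 := d9_1 D32368 F73169 F68657 F66402 (iv F65721)
theorem F73320 : act 2 n32368 = n31881 := d13_1 D32368 F71504 F68665
theorem F73321 : act 3 n32368 = n30188 := d16_1 D32368 (iv D30188) D30187
def n32369 : Q := act 5 n30190
theorem D32369 : act 5 n30190 = n32369 := rfl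
theorem F73322 : act 0 n32369 = n30751 := d4_1 D32369 (iv F68036) F68032
theorem F73323 : act 1 n32369 = n31234 := d9_1 D32369 F69454 F60617 (iv F56771) (iv F65729)
theorem F73324 : act 2 n32369 = n30733 := d13_1 D32369 (iv F68025) F68022
theorem F73325 : act 3 n32369 = n30558 := d16_1 D32369 (iv D30558) (iv F65730)
theorem F73326 : act 4 n32369 = n30193 := d18_1 D32369 (iv D30193) (iv F65731)
theorem F73327 : act 6 n32369 = n30732 := d20_2 D30190 D32369 F67582 D30864 F68036 F67652 (iv D30189)
def n32370 : Q := act 2 n30199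
theorem D32370 : act 2 n30199 = n32370 := rfl
theorem F73328 : act 0 n32370 = n31656 := d1_1 D32370 (iv F70739) F67843
theorem F73329 : act 4 n32370 = n30202 := d12_2 (iv F65767) D32370 (iv D30202)
theorem F73330 : act 5 n32370 = n32235 := d13_2 F66950 D32370 F72784
theorem F73331 : act 6 n32370 = n31528 := d14_2 (iv F65768) D32370 (iv D31528)
def n32371 : Q := act 5 n30202
theorem D32371 : act 5 n30202 = n32371 := rfl
theorem F73332 : act 0 n32371 = n31657 := d4_1 D32371 (iv D31657) (iv F65778)
theorem F73333 : act 1 n32371 = n32236 := d9_1 D32371 F72790 (iv F65232) (iv F70155) (iv F70156)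
theorem F73334 : act 2 n32371 = n30203 := d13_1 D32371 (iv D30203) D30202
theorem F73335 : act 3 n32371 = n31658 := d16_1 D32371 (iv D31658) (iv F65779)
theorem F73336 : act 4 n32371 = n32235 := d18_1 D32371 (iv F73330) F73329
theorem F73337 : act 6 n32371 = n31030 := d20_2 (iv F65780) D32371 (iv D31030) (iv F62341) D31657 F70744 (iv D31529)
def n32372 : Q := act 6 n30207
theorem D32372 : act 6 n30207 = n32372 := rfl
theorem F73338 : act 0 n32372 = n30824 := d5_1 D32372 (iv D30824) (iv F65797)
theorem F73339 : act 2 n32372 = n30854 := d14_1 D32372 F67998 (iv F65798)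
theorem F73340 : act 3 n32372 = n30819 := d17_1 D32372 (iv D30819) (iv F65799)
theorem F73341 : act 4 n32372 = n31860 := d19_1 D32372 (iv D31860) (iv F65800)
def n32373 : Q := act 1 n30209
theorem D32373 : act 1 n30209 = n32373 := rfl
theorem F73342 : act 2 n32373 = n30391 := d6_2 (iv F65808) D32373 (iv F71444) F71447 (iv D31861)
theorem F73343 : act 3 n32373 = n32307 := d7_2 (iv F65809) D32373 (iv D32307)
theorem F73344 : act 4 n32373 = n30393 := d8_2 (iv F65810) D32373 F66449
theorem F73345 : act 0 n31807 = n32373 := d3_3 F73344 F66448 D31807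
def n32374 : Q := act 1 n30210
theorem D32374 : act 1 n30210 = n32374 := rfl
theorem F73346 : act 2 n32374 = n31856 := d6_2 (iv F65812) D32374 (iv F71423) F67712 F67549
theorem F73347 : act 3 n32374 = n32310 := d7_2 (iv F65813) D32374 (iv D32310)
theorem F73348 : act 4 n32374 = n31858 := d8_2 F68142 D32374 F71426
theorem F73349 : act 6 n32374 = n30224 := d10_2 D30210 D32374 (iv D30224) (iv D26453) (iv F54524)
theorem F73350 : act 0 n32374 = n31857 := d22_4 (iv F71489) F71490 F71403 (iv F73349)
def n32375 : Q := act 1 n30211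
theorem D32375 : act 1 n30211 = n32375 := rfl
theorem F73351 : act 5 n32375 = n30215 := d9_2 D30211 D32375 (iv D30215) (iv D26447) D26445
theorem F73352 : act 6 n32375 = n30234 := d10_2 (iv F65817) D32375 (iv D30234) (iv D26463) D26460
theorem F73353 : act 0 n32375 = n31131 := d23_3 D30917 F68202 D32375 (iv F71344) (iv D31832) (iv D29223) (iv F62765) (iv D29213) F52368 (iv F52359) F54545 F57519 F57520 F54553 (iv F59669) (iv D28146) F48781 D26445 (iv F58166)
theorem F73354 : act 2 n31130 = n32375 := d23_1 F71339 (iv D32375) (iv F68201) (iv D30917) F58165 (iv D26445) (iv D21898) D21900 (iv F48784) (iv F54553) (iv F65855) (iv D30227) F54550 F52359 F41142 D21283 (iv F52398) D29223 D31831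
def n32376 : Q := act 1 n30212
theorem D32376 : act 1 n30212 = n32376 := rfl
theorem F73355 : act 3 n32376 = n30939 := d7_2 (iv F65815) D32376 (iv D30939)
theorem F73356 : act 4 n32376 = n32292 := d8_2 F68152 D32376 F73026
theorem F73357 : act 6 n32376 = n30216 := d10_2 D30212 D32376 (iv D30216) (iv D26448) D26445
def n32377 : Q := act 1 n30213
theorem D32377 : act 1 n30213 = n32377 := rfl
theorem F73358 : act 3 n32377 = n30215 := d7_2 (iv F65820) D32377 (iv D30215)
def n32378 : Q := act 1 n30214
theorem D32378 : act 1 n30214 = n32378 := rfl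
theorem F73359 : act 2 n32378 = n31506 := d6_2 (iv F65822) D32378 (iv D31506) D31507 (iv F70265)
theorem F73360 : act 3 n32378 = n30216 := d7_2 (iv F65823) D32378 (iv D30216)
theorem F73361 : act 4 n32378 = n32294 := d8_2 F72619 D32378 F73036
theorem F73362 : act 6 n32378 = n30939 := d10_2 D30214 D32378 (iv D30939) (iv F61424) (iv F58168)
def n32379 : Q := act 0 n30216
theorem D32379 : act 0 n30216 = n32379 := rfl
theorem F73363 : act 2 n32379 = n32376 := d21_0 F73355 F68294 F65024 (iv F61552) (iv F70257) (iv F73359) F73360 D32379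
def n32380 : Q := act 2 n30216
theorem D32380 : act 2 n30216 = n32380 := rfl
theorem F73364 : act 0 n32380 = n32376 := d1_1 D32380 (iv F73363) (iv D32379)
theorem F73365 : act 1 n32380 = n30859 := d6_1 D32380 F69061 (iv D31140) F59674 D30216
theorem F73366 : act 4 n32380 = n31853 := d12_2 F68159 D32380 F71411
theorem F73367 : act 6 n32380 = n32379 := d14_2 F73357 D32380 F73363
theorem F73368 : act 3 n32380 = n30624 := d21_3 (iv F73359) F73360 D32380 (iv D30624) F57106 D27714 (iv F67206) (iv F70256)
theorem F73369 : act 5 n31852 = n32380 := d16_0 F73368 F67204 (iv F71409)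
def n32381 : Q := act 5 n30216
theorem D32381 : act 5 n30216 = n32381 := rfl
theorem F73370 : act 1 n32381 = n31849 := d9_1 D32381 F71403 (iv D30224) F54540 D30216
theorem F73371 : act 2 n32381 = n31852 := d13_1 D32381 F73369 (iv D32380)
theorem F73372 : act 4 n32381 = n31847 := d18_1 D32381 F71395 F68159
theorem F73373 : act 6 n32381 = n31852 := d22_1 D32381 F73369 F73367 (iv D32379)
def n32382 : Q := act 5 n30217
theorem D32382 : act 5 n30217 = n32382 := rfl
theorem F73374 : act 0 n32382 = n31645 := d4_1 D32382 F70699 (iv F65824)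
theorem F73375 : act 1 n32382 = n31191 := d9_1 D32382 (iv D31191) (iv F64697) (iv F65228) (iv F65825)
theorem F73376 : act 2 n32382 = n30220 := d13_1 D32382 (iv D30220) (iv F65826)
theorem F73377 : act 3 n32382 = n31266 := d16_1 D32382 (iv F69580) F66143
theorem F73378 : act 4 n32382 = n30218 := d18_1 D32382 (iv D30218) D30217
theorem F73379 : act 6 n32382 = n32204 := d22_1 D32382 F72660 (iv D31723) (iv F65824)
def n32383 : Q := act 6 n30217
theorem D32383 : act 6 n30217 = n32383 := rfl
theorem F73380 : act 0 n32383 = n31723 := d5_1 D32383 (iv D31723) (iv F65824)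
theorem F73381 : act 1 n32383 = n31461 := d10_1 D32383 (iv F70430) (iv F72765) F72769 (iv F65825)
theorem F73382 : act 2 n32383 = n30221 := d14_1 D32383 (iv D30221) (iv F65826)
theorem F73383 : act 3 n32383 = n32361 := d17_1 D32383 F73296 F66143
theorem F73384 : act 4 n32383 = n30219 := d19_1 D32383 (iv D30219) D30217
theorem F73385 : act 5 n32383 = n32266 := d20_1 D32383 (iv F72914) F70699 D31723 (iv F72660) (iv F73379) (iv D32382)
def n32384 : Q := act 6 n30220
theorem D32384 : act 6 n30220 = n32384 := rfl
theorem F73386 : act 0 n32384 = n32278 := d5_1 D32384 (iv F72967) F72612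
theorem F73387 : act 2 n32384 = n32204 := d14_1 D32384 (iv F73379) F73376
theorem F73388 : act 3 n32384 = n32195 := d17_1 D32384 F72625 F68163
theorem F73389 : act 4 n32384 = n30222 := d19_1 D32384 (iv D30222) (iv F65836)
theorem F73390 : act 5 n32384 = n32193 := d20_1 D32384 (iv D32193) D32192 F72967 F72966 (iv D30221) D30220
def n32385 : Q := act 1 n30222
theorem D32385 : act 1 n30222 = n32385 := rfl
theorem F73391 : act 3 n32385 = n30224 := d7_2 (iv F65839) D32385 (iv D30224)
theorem F73392 : act 6 n32385 = n32310 := d10_2 D30222 D32385 (iv D32310) (iv D30042) (iv F54536)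
def n32386 : Q := act 0 n30224
theorem D32386 : act 0 n30224 = n32386 := rfl
theorem F73393 : act 2 n32386 = n31845 := d1_2 (iv F67749) D32386 F71385
theorem F73394 : act 4 n32386 = n31846 := d3_2 F68171 D32386 F71390
theorem F73395 : act 6 n32386 = n31857 := d5_2 F73349 D32386 (iv F73350)
def n32387 : Q := act 5 n30226
theorem D32387 : act 5 n30226 = n32387 := rfl
theorem F73396 : act 0 n32387 = n30881 := d4_1 D32387 (iv D30881) (iv F65851)
theorem F73397 : act 2 n32387 = n30796 := d13_1 D32387 F67814 (iv F65852)
theorem F73398 : act 3 n32387 = n30876 := d16_1 D32387 (iv D30876) (iv F65853)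
theorem F73399 : act 4 n32387 = n31818 := d18_1 D32387 (iv D31818) (iv F65854)
theorem F73400 : act 1 n32387 = n32386 := d24_2 F69008 D32387 F73395 (iv F71489) (iv D31876) F62963 F62876 (iv F57989) (iv F67998) F69013 (iv D31125) (iv D28126) D28125 D31124
def n32388 : Q := act 1 n30227
theorem D32388 : act 1 n30227 = n32388 := rfl
theorem F73401 : act 2 n32388 = n30371 := d6_2 (iv F65856) D32388 (iv F71312) F71315 (iv D31819)
theorem F73402 : act 3 n32388 = n32345 := d7_2 (iv F65857) D32388 (iv D32345)
theorem F73403 : act 4 n32388 = n30373 := d8_2 (iv F65858) D32388 F66399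
theorem F73404 : act 5 n32388 = n32386 := d9_2 D30227 D32388 (iv F73400) (iv D32387) (iv D30226)
theorem F73405 : act 0 n32388 = n31849 := d23_3 D29209 (iv F65856) D32388 F71403 F67749 F67746 (iv F65791) (iv D30206) F54517 (iv D21897) F28649 (iv F28650) (iv D16516) (iv F28648) F28647 (iv F28665) D21903 D26455 (iv F54545)
def n32389 : Q := act 1 n30229
theorem D32389 : act 1 n30229 = n32389 := rfl
theorem F73406 : act 0 n32389 = n31815 := d0_1 D32389 F71348 (iv F71482) (iv F71486) (iv F73350) (iv D32374) F65811 (iv F61373) (iv F65865)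
theorem F73407 : act 2 n32389 = n31814 := d6_2 (iv F65866) D32389 (iv F71294) (iv F67603) F67601
theorem F73408 : act 3 n32389 = n32348 := d7_2 (iv F65867) D32389 (iv D32348)
theorem F73409 : act 4 n32389 = n31816 := d8_2 F68233 D32389 F71297
theorem F73410 : act 5 n32389 = n30242 := d9_2 D30229 D32389 (iv D30242) (iv D26469) (iv F54555)
def n32390 : Q := act 1 n30230
theorem D32390 : act 1 n30230 = n32390 := rfl
theorem F73411 : act 3 n32390 = n30922 := d7_2 (iv F65871) D32390 (iv D30922)
theorem F73412 : act 4 n32390 = n32218 := d8_2 F68243 D32390 F72710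
theorem F73413 : act 5 n32390 = n30233 := d9_2 D30230 D32390 (iv D30233) (iv D26462) D26460
def n32391 : Q := act 1 n30231
theorem D32391 : act 1 n30231 = n32391 := rfl
theorem F73414 : act 2 n32391 = n31452 := d6_2 (iv F65874) D32391 (iv D31452) D31453 F70111
theorem F73415 : act 3 n32391 = n30233 := d7_2 (iv F65875) D32391 (iv D30233)
theorem F73416 : act 4 n32391 = n32220 := d8_2 F72935 D32391 (iv F72932)
theorem F73417 : act 5 n32391 = n30922 := d9_2 D30231 D32391 (iv D30922) F61416 (iv F58268)
def n32392 : Q := act 1 n30232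
theorem D32392 : act 1 n30232 = n32392 := rfl
theorem F73418 : act 3 n32392 = n30234 := d7_2 (iv F65878) D32392 (iv D30234)
def n32393 : Q := act 0 n30233
theorem D32393 : act 0 n30233 = n32393 := rfl
theorem F73419 : act 1 n32393 = n32379 := d0_2 D30233 D32393 (iv D32379) (iv D30216) F54531 F42481 (iv F61377) (iv F42491) (iv F54559)
theorem F73420 : act 2 n32393 = n32390 := d21_0 F73411 F68221 F64292 (iv F61334) (iv F70103) (iv F73414) F73415 D32393
def n32394 : Q := act 2 n30233
theorem D32394 : act 2 n30233 = n32394 := rfl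
theorem F73421 : act 0 n32394 = n32390 := d1_1 D32394 (iv F73420) (iv D32393)
theorem F73422 : act 1 n32394 = n30801 := d6_1 D32394 F69010 (iv D31124) F59617 D30233
theorem F73423 : act 4 n32394 = n31811 := d12_2 F68246 D32394 F71283
theorem F73424 : act 5 n32394 = n32393 := d13_2 F73413 D32394 F73420
theorem F73425 : act 3 n32394 = n30613 := d21_3 (iv F73414) F73415 D32394 (iv D30613) F57067 D27710 (iv F67171) (iv F70102)
theorem F73426 : act 6 n31810 = n32394 := d17_0 F73425 F67169 (iv F71281)
def n32395 : Q := act 6 n30233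
theorem D32395 : act 6 n30233 = n32395 := rfl
theorem F73427 : act 1 n32395 = n31807 := d10_1 D32395 F71275 (iv D30242) F54571 D30233
theorem F73428 : act 2 n32395 = n31810 := d14_1 D32395 F73426 (iv D32394)
theorem F73429 : act 4 n32395 = n31805 := d19_1 D32395 F71268 F68246
theorem F73430 : act 5 n32395 = n31810 := d22_2 F73413 D32395 F73426 F73421
def n32396 : Q := act 5 n30235
theorem D32396 : act 5 n30235 = n32396 := rfl
theorem F73431 : act 0 n32396 = n31768 := d4_1 D32396 (iv D31768) (iv F65879)
theorem F73432 : act 1 n32396 = n31515 := d9_1 D32396 (iv F70492) (iv F72362) F72365 (iv F65880)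
theorem F73433 : act 2 n32396 = n30238 := d13_1 D32396 (iv D30238) (iv F65881)
theorem F73434 : act 3 n32396 = n32323 := d16_1 D32396 F73149 F66357
theorem F73435 : act 4 n32396 = n30236 := d18_1 D32396 (iv D30236) D30235
theorem F73436 : act 6 n32396 = n32181 := d22_1 D32396 (iv F72568) F70687 (iv F65879)
def n32397 : Q := act 6 n30235
theorem D32397 : act 6 n30235 = n32397 := rfl
theorem F73437 : act 0 n32397 = n31640 := d5_1 D32397 F70687 (iv F65879)
theorem F73438 : act 1 n32397 = n31195 := d10_1 D32397 (iv D31195) (iv F63890) (iv F65508) (iv F65880)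
theorem F73439 : act 2 n32397 = n30239 := d14_1 D32397 (iv D30239) (iv F65881)
theorem F73440 : act 3 n32397 = n31295 := d17_1 D32397 (iv F69658) F66357
theorem F73441 : act 4 n32397 = n30237 := d19_1 D32397 (iv D30237) D30235
theorem F73442 : act 5 n32397 = n32280 := d20_1 D32397 F72976 (iv D31768) (iv F70687) F72568 (iv F73436) (iv D32396)
def n32398 : Q := act 5 n30239
theorem D32398 : act 5 n30239 = n32398 := rfl
theorem F73443 : act 0 n32398 = n32202 := d4_1 D32398 (iv F72940) F72936
theorem F73444 : act 2 n32398 = n32280 := d13_1 D32398 (iv F73442) F73439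
theorem F73445 : act 3 n32398 = n32272 := d16_1 D32398 F72944 F68260
theorem F73446 : act 4 n32398 = n30241 := d18_1 D32398 (iv D30241) (iv F65893)
theorem F73447 : act 6 n32398 = n32270 := d20_2 D30239 D32398 (iv D32270) D32271 F72940 F72652 (iv D30238)
def n32399 : Q := act 1 n30241
theorem D32399 : act 1 n30241 = n32399 := rfl
theorem F73448 : act 3 n32399 = n30242 := d7_2 (iv F65898) D32399 (iv D30242)
theorem F73449 : act 5 n32399 = n32348 := d9_2 D30241 D32399 (iv D32348) (iv D30137) (iv F54567)
def n32400 : Q := act 0 n30242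
theorem D32400 : act 0 n30242 = n32400 := rfl
theorem F73450 : act 2 n32400 = n31803 := d1_2 (iv F67597) D32400 (iv F71261)
theorem F73451 : act 4 n32400 = n31804 := d3_2 F68263 D32400 F71263
theorem F73452 : act 5 n32400 = n31815 := d4_2 F73410 D32400 (iv F73406)
theorem F73453 : act 6 n32400 = n32373 := d5_2 F71275 D32400 (iv F73345)
theorem F73454 : act 1 n32372 = n32400 := d10_5 F73453 (iv D32373) (iv D30209) D30207 D32372
def n32401 : Q := act 3 n30251
theorem D32401 : act 3 n30251 = n32401 := rfl
theorem F73455 : act 0 n32401 = n30715 := d2_1 D32401 F67529 (iv F65940)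
theorem F73456 : act 1 n32401 = n30363 := d7_1 D32401 F66365 (iv F65941)
theorem F73457 : act 4 n32401 = n30409 := d15_2 (iv F65942) D32401 F66486 F55920 (iv F54699)
theorem F73458 : act 5 n32401 = n30734 := d16_2 (iv F65943) D32401 F67589
theorem F73459 : act 6 n32401 = n30403 := d17_2 (iv F65944) D32401 F66474
theorem F73460 : act 2 n32401 = n31292 := d25_9 (iv F45395) (iv F56703) (iv F66957) F66958 F62735 D29202 F62737 D30251 D32401 (iv D31292) (iv F69644) F69643 (iv D29290) (iv D25601) (iv D21328) F27962 (iv F28114) (iv F41562) F41561 D23129 F45936 D23131 (iv F45940) (iv D21629) (iv D16344) F21584 (iv F22121) (iv F29847) (iv F30094) F30093 D17137 F30099 D17139 D22444 D26814 F55722 F54747 (iv D26522) (iv F54740) (iv F56141) F56140 (iv D22676) (iv D17602) (iv F30764) D22650 D26926 (iv F59791) (iv F59796) (iv F61985) F61984 F51540 F40164 F27196 F34942 (iv F36536) (iv F47775) D27823 F58736 (iv F62101) F62102 (iv F56796) (iv D27138) (iv F56792) F56791 F55065 (iv F43879) F43878 (iv F45566) (iv F45570) F44550 F30793 D17574 F35389 (iv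 F31029) (iv F44676) (iv F45653) (iv D23028)
def n32402 : Q := act 6 n30253
theorem D32402 : act 6 n30253 = n32402 := rfl
theorem F73461 : act 0 n32402 = n30255 := d5_1 D32402 (iv D30255) D30253
theorem F73462 : act 1 n32402 = n30721 := d10_1 D32402 (iv D30721) F66397 (iv D30372) (iv F65948)
theorem F73463 : act 4 n32402 = n30256 := d19_1 D32402 (iv D30256) (iv F65949)
theorem F73464 : act 5 n32402 = n30258 := d20_1 D32402 F65965 F65947 D30255 F65955 (iv F65961) (iv F65962)
def n32403 : Q := act 3 n30264
theorem D32403 : act 3 n30264 = n32403 := rfl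
theorem F73465 : act 0 n32403 = n30744 := d2_1 D32403 F67623 (iv F65987)
theorem F73466 : act 1 n32403 = n30321 := d7_1 D32403 F66206 (iv F65988)
theorem F73467 : act 4 n32403 = n30389 := d15_2 (iv F65989) D32403 F66436 F55812 (iv F54792)
theorem F73468 : act 5 n32403 = n30383 := d16_2 (iv F65990) D32403 F66424
theorem F73469 : act 6 n32403 = n30741 := d17_2 (iv F65991) D32403 F67615
theorem F73470 : act 2 n32403 = n31263 := d25_9 (iv F45326) (iv F56628) (iv F66901) F66902 F62888 D29257 F62890 D30264 D32403 (iv D31263) (iv F69566) F69565 (iv D29440) (iv D25711) (iv D21406) F28027 (iv F28334) (iv F41912) F41911 D23144 F45975 D23146 (iv F45979) (iv D21788) (iv D16447) F21674 (iv F22286) (iv F30093) F30094 F29847 D16946 F29852 D16948 D22260 D26707 F55355 F54843 (iv D26551) (iv F54836) (iv F56210) F56209 (iv D22712) (iv D17781) (iv F34416) D22664 D26931 (iv F59750) (iv F59755) (iv F62032) F62031 F51695 F40388 F27351 (iv F34959) (iv F36405) (iv F47667) D27818 F58716 (iv F62132) F62133 (iv F56805) (iv D27140) (iv F56801) F56800 F55545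 F43667 F43342 (iv F45650) F45653 F44676 F31029 F35385 F30741 (iv F30793) (iv F44550) F45570 (iv D23003)
def n32404 : Q := act 5 n30266
theorem D32404 : act 5 n30266 = n32404 := rfl
theorem F73471 : act 0 n32404 = n30268 := d4_1 D32404 (iv D30268) D30266
theorem F73472 : act 1 n32404 = n30737 := d9_1 D32404 F67600 F66447 (iv D30392) (iv F65995)
theorem F73473 : act 4 n32404 = n30269 := d18_1 D32404 (iv D30269) (iv F65996)
theorem F73474 : act 6 n32404 = n30271 := d20_2 F66010 D32404 F66012 F65994 D30268 (iv F66002) (iv F66009)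
def n32405 : Q := act 1 n30275
theorem D32405 : act 1 n30275 = n32405 := rfl
theorem F73475 : act 0 n32405 = n30889 := d0_1 D32405 F68110 F59523 F53831 (iv F57138) (iv F58652) (iv F68322) (iv F68390) F68389
theorem F73476 : act 2 n32405 = n30888 := d6_2 (iv F66023) D32405 F68106 F66078 F55093
theorem F73477 : act 3 n32405 = n30960 := d7_2 (iv F66024) D32405 (iv D30960)
theorem F73478 : act 4 n32405 = n30278 := d8_2 (iv F66025) D32405 (iv D30278)
theorem F73479 : act 5 n32405 = n32405 := d9_2 D30275 D32405 (iv D32405) (iv D30275) F54864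
def n32406 : Q := act 6 n30290
theorem D32406 : act 6 n30290 = n32406 := rfl
theorem F73480 : act 0 n32406 = n30294 := d5_1 D32406 (iv D30294) (iv F66087)
theorem F73481 : act 1 n32406 = n31613 := d10_1 D32406 (iv D31613) (iv F70567) F70569 (iv F66088)
theorem F73482 : act 2 n32406 = n32317 := d14_1 D32406 (iv D32317) F66090
theorem F73483 : act 3 n32406 = n30291 := d17_1 D32406 (iv D30291) D30290
theorem F73484 : act 4 n32406 = n31605 := d19_1 D32406 F70574 (iv F66089)
theorem F73485 : act 5 n32406 = n30429 := d22_2 F68089 D32406 F66551 F68090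
def n32407 : Q := act 5 n30292
theorem D32407 : act 5 n30292 = n32407 := rfl
theorem F73486 : act 0 n32407 = n32316 := d4_1 D32407 (iv D32316) (iv F66095)
theorem F73487 : act 1 n32407 = n32407 := d9_1 D32407 (iv D32407) F66096 F60926 (iv F66096)
theorem F73488 : act 2 n32407 = n30293 := d13_1 D32407 (iv D30293) D30292
theorem F73489 : act 3 n32407 = n31352 := d16_1 D32407 F69802 (iv F66098)
theorem F73490 : act 4 n32407 = n32313 := d18_1 D32407 (iv D32313) (iv F66097)
def n32408 : Q := act 1 n30293
theorem D32408 : act 1 n30293 = n32408 := rfl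
theorem F73491 : act 0 n32408 = n32408 := d0_1 D32408 (iv D32408) F68090 (iv D30879) F58066 F46679 (iv F58066) D30879 (iv F68090)
theorem F73492 : act 2 n32408 = n32408 := d6_2 F73488 D32408 (iv D32408) (iv F73488) F73487
theorem F73493 : act 3 n32408 = n30295 := d7_2 (iv F66100) D32408 (iv D30295)
theorem F73494 : act 5 n32408 = n30298 := d9_2 D30293 D32408 (iv D30298) (iv D26635) (iv F55116)
def n32409 : Q := act 5 n30294
theorem D32409 : act 5 n30294 = n32409 := rfl
theorem F73495 : act 0 n32409 = n30429 := d4_1 D32409 (iv F73485) F73480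
theorem F73496 : act 1 n32409 = n30874 := d9_1 D32409 (iv F70807) (iv F70808) (iv D30329) (iv F66101)
theorem F73497 : act 2 n32409 = n32328 := d13_1 D32409 (iv D32328) (iv F66102)
theorem F73498 : act 3 n32409 = n30296 := d16_1 D32409 (iv D30296) (iv F66103)
theorem F73499 : act 4 n32409 = n30515 := d18_1 D32409 F66915 F66914
theorem F73500 : act 6 n32409 = n30879 := d20_2 D30294 D32409 F68089 D32406 F73485 F66551 (iv D30293)
def n32410 : Q := act 6 n30298
theorem D32410 : act 6 n30298 = n32410 := rfl
theorem F73501 : act 0 n32410 = n32410 := d5_1 D32410 (iv D32410) F66118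
theorem F73502 : act 1 n32410 = n30546 := d10_1 D32410 (iv D30546) F56712 F55245 D30298
theorem F73503 : act 2 n32410 = n32410 := d14_1 D32410 (iv D32410) F66116
theorem F73504 : act 3 n32410 = n30299 := d17_1 D32410 (iv D30299) (iv F66117)
def n32411 : Q := act 3 n30302
theorem D32411 : act 3 n30302 = n32411 := rfl
theorem F73505 : act 0 n32411 = n30303 := d2_1 D32411 (iv D30303) (iv F66131)
theorem F73506 : act 1 n32411 = n32262 := d7_1 D32411 F72896 F66348
theorem F73507 : act 4 n32411 = n30428 := d15_2 D30302 D32411 (iv D30428) (iv D26913) (iv F55185)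
theorem F73508 : act 5 n32411 = n30753 := d16_2 (iv F66133) D32411 F67659
theorem F73509 : act 6 n32411 = n31294 := d17_2 (iv F66134) D32411 F69651
def n32412 : Q := act 2 n30303
theorem D32412 : act 2 n30303 = n32412 := rfl
theorem F73510 : act 1 n32412 = n31683 := d6_1 D32412 F70849 F70758 (iv D30305) (iv F66135)
theorem F73511 : act 4 n32412 = n30365 := d12_2 (iv F66136) D32412 F66368
theorem F73512 : act 6 n32412 = n30310 := d14_2 (iv F66137) D32412 F66161
theorem F73513 : act 3 n32412 = n30312 := d21_1 D32412 F66167 F62393 F66152 (iv D30307) (iv F66132) D32411 F73505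
def n32413 : Q := act 5 n30307
theorem D32413 : act 5 n30307 = n32413 := rfl
theorem F73514 : act 0 n32413 = n30310 := d4_1 D32413 (iv D30310) (iv F66149)
theorem F73515 : act 1 n32413 = n30409 := d9_1 D32413 F66487 (iv F67751) F67753 (iv F66150)
theorem F73516 : act 2 n32413 = n31294 := d13_1 D32413 F69653 F66152
theorem F73517 : act 3 n32413 = n30308 := d16_1 D32413 (iv D30308) D30307
theorem F73518 : act 4 n32413 = n30363 := d18_1 D32413 (iv D30363) (iv F66151)
def n32414 : Q := act 6 n30307
theorem D32414 : act 6 n30307 = n32414 := rfl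
theorem F73519 : act 0 n32414 = n30311 := d5_1 D32414 (iv D30311) (iv F66149)
theorem F73520 : act 1 n32414 = n30320 := d10_1 D32414 (iv F66234) F70808 (iv D31674) (iv F66150)
theorem F73521 : act 2 n32414 = n31670 := d14_1 D32414 (iv D31670) F66152
theorem F73522 : act 3 n32414 = n30309 := d17_1 D32414 (iv D30309) D30307
theorem F73523 : act 4 n32414 = n30364 := d19_1 D32414 (iv D30364) (iv F66151)
theorem F73524 : act 5 n32414 = n32412 := d22_2 (iv D32413) D32414 F73512 (iv F73514)
def n32415 : Q := act 5 n30311
theorem D32415 : act 5 n30311 = n32415 := rfl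
theorem F73525 : act 0 n32415 = n32412 := d4_1 D32415 (iv F73524) F73519
theorem F73526 : act 1 n32415 = n30775 := d9_1 D32415 (iv D30775) (iv F67728) F67730 F67517
theorem F73527 : act 2 n32415 = n32411 := d13_1 D32415 F73508 F67658
theorem F73528 : act 3 n32415 = n30313 := d16_1 D32415 (iv D30313) (iv F66164)
theorem F73529 : act 4 n32415 = n30366 := d18_1 D32415 (iv D30366) (iv F66165)
theorem F73530 : act 6 n32415 = n32413 := d20_2 D30311 D32415 (iv D32413) D32414 F73524 F73512 (iv D30310)
def n32416 : Q := act 3 n30316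
theorem D32416 : act 3 n30316 = n32416 := rfl
theorem F73531 : act 0 n32416 = n30322 := d2_1 D32416 (iv D30322) (iv F66185)
theorem F73532 : act 1 n32416 = n32177 := d7_1 D32416 F72551 (iv F66186)
theorem F73533 : act 4 n32416 = n30411 := d15_2 D30316 D32416 (iv D30411) (iv D26890) (iv F55269)
theorem F73534 : act 5 n32416 = n31265 := d16_2 (iv F66188) D32416 F69573
theorem F73535 : act 6 n32416 = n30688 := d17_2 (iv F66189) D32416 F67415
def n32417 : Q := act 5 n30317
theorem D32417 : act 5 n30317 = n32417 := rfl
theorem F73536 : act 0 n32417 = n30324 := d4_1 D32417 (iv D30324) (iv F66190)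
theorem F73537 : act 1 n32417 = n30364 := d9_1 D32417 (iv F66370) F70767 (iv D31663) (iv F66191)
theorem F73538 : act 2 n32417 = n31659 := d13_1 D32417 (iv D31659) F66193
theorem F73539 : act 3 n32417 = n30318 := d16_1 D32417 (iv D30318) D30317
theorem F73540 : act 4 n32417 = n30320 := d18_1 D32417 (iv D30320) (iv F66192)
def n32418 : Q := act 6 n30317
theorem D32418 : act 6 n30317 = n32418 := rfl
theorem F73541 : act 0 n32418 = n30325 := d5_1 D32418 (iv D30325) (iv F66190)
theorem F73542 : act 1 n32418 = n30389 := d10_1 D32418 F66437 (iv F67608) F67611 (iv F66191)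
theorem F73543 : act 2 n32418 = n31265 := d14_1 D32418 F69575 F66193
theorem F73544 : act 3 n32418 = n30319 := d17_1 D32418 (iv D30319) D30317
theorem F73545 : act 4 n32418 = n30321 := d19_1 D32418 (iv D30321) (iv F66192)
def n32419 : Q := act 2 n30322
theorem D32419 : act 2 n30322 = n32419 := rfl
theorem F73546 : act 1 n32419 = n31678 := d6_1 D32419 F70824 F70799 (iv D30361) (iv F66207)
theorem F73547 : act 4 n32419 = n30329 := d12_2 (iv F66208) D32419 F66232
theorem F73548 : act 5 n32419 = n30325 := d13_2 (iv F66209) D32419 F66217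
theorem F73549 : act 6 n32419 = n32417 := d14_2 F70754 D32419 F73538
theorem F73550 : act 3 n32419 = n30327 := d21_1 D32419 F66226 F62368 F66193 (iv D30317) (iv F66187) D32416 F73531
def n32420 : Q := act 6 n30324
theorem D32420 : act 6 n30324 = n32420 := rfl
theorem F73551 : act 0 n32420 = n32419 := d5_1 D32420 F73549 F73536
theorem F73552 : act 1 n32420 = n30729 := d10_1 D32420 (iv D30729) (iv F67558) (iv F67577) F67574
theorem F73553 : act 2 n32420 = n32416 := d14_1 D32420 F73535 (iv F67418)
theorem F73554 : act 3 n32420 = n30326 := d17_1 D32420 (iv D30326) (iv F66215)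
theorem F73555 : act 4 n32420 = n30328 := d19_1 D32420 (iv D30328) (iv F66216)
theorem F73556 : act 5 n32420 = n32418 := d20_1 D32420 (iv D32418) D32417 (iv F73549) F73548 (iv D30325) D30324
def n32421 : Q := act 1 n30336
theorem D32421 : act 1 n30336 = n32421 := rfl
theorem F73557 : act 0 n32421 = n30831 := d0_1 D32421 F67922 F59313 (iv F53242) (iv F57099) (iv F58687) (iv F68331) (iv F68403) F68402
theorem F73558 : act 2 n32421 = n30830 := d6_2 (iv F66258) D32421 F67918 F66301 F55566
theorem F73559 : act 3 n32421 = n30963 := d7_2 (iv F66259) D32421 (iv D30963)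
theorem F73560 : act 4 n32421 = n30339 := d8_2 (iv F66260) D32421 (iv D30339)
theorem F73561 : act 6 n32421 = n32421 := d10_2 D30336 D32421 (iv D32421) (iv D30336) F55373
def n32422 : Q := act 5 n30349
theorem D32422 : act 5 n30349 = n32422 := rfl
theorem F73562 : act 0 n32422 = n30352 := d4_1 D32422 (iv D30352) (iv F66310)
theorem F73563 : act 1 n32422 = n31603 := d9_1 D32422 (iv D31603) (iv F70551) F70553 (iv F66311)
theorem F73564 : act 2 n32422 = n32354 := d13_1 D32422 (iv D32354) F66313
theorem F73565 : act 3 n32422 = n30350 := d16_1 D32422 (iv D30350) D30349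
theorem F73566 : act 4 n32422 = n31594 := d18_1 D32422 F70530 (iv F66312)
theorem F73567 : act 6 n32422 = n30412 := d22_1 D32422 F66499 (iv D30353) (iv F66310)
def n32423 : Q := act 6 n30351
theorem D32423 : act 6 n30351 = n32423 := rfl
theorem F73568 : act 0 n32423 = n32355 := d5_1 D32423 (iv D32355) (iv F66318)
theorem F73569 : act 1 n32423 = n32423 := d10_1 D32423 (iv D32423) F66319 F60864 (iv F66319)
theorem F73570 : act 2 n32423 = n30353 := d14_1 D32423 (iv D30353) D30351
theorem F73571 : act 3 n32423 = n31326 := d17_1 D32423 F69735 (iv F66321)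
theorem F73572 : act 4 n32423 = n32352 := d19_1 D32423 (iv D32352) (iv F66320)
def n32424 : Q := act 6 n30352
theorem D32424 : act 6 n30352 = n32424 := rfl
theorem F73573 : act 0 n32424 = n30412 := d5_1 D32424 (iv F73567) F73562
theorem F73574 : act 1 n32424 = n30815 := d10_1 D32424 (iv F70766) (iv F70767) (iv D30365) (iv F66323)
theorem F73575 : act 2 n32424 = n32366 := d14_1 D32424 (iv D32366) (iv F66324)
theorem F73576 : act 3 n32424 = n30354 := d17_1 D32424 (iv D30354) (iv F66325)
theorem F73577 : act 4 n32424 = n30516 := d19_1 D32424 F66968 F66967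
theorem F73578 : act 5 n32424 = n30820 := d20_1 D32424 F67900 D32422 F73567 F66499 (iv D30353) D30352
def n32425 : Q := act 1 n30353
theorem D32425 : act 1 n30353 = n32425 := rfl
theorem F73579 : act 0 n32425 = n32425 := d0_1 D32425 (iv D32425) F67901 (iv D30820) F57884 F46543 (iv F57884) D30820 (iv F67901)
theorem F73580 : act 2 n32425 = n32425 := d6_2 F73570 D32425 (iv D32425) (iv F73570) F73569
theorem F73581 : act 3 n32425 = n30355 := d7_2 (iv F66326) D32425 (iv D30355)
theorem F73582 : act 4 n32425 = n32410 := d8_2 F66970 D32425 F73502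
theorem F73583 : act 6 n32425 = n30357 := d10_2 D30353 D32425 (iv D30357) (iv D26776) (iv F55586)
def n32426 : Q := act 5 n30357
theorem D32426 : act 5 n30357 = n32426 := rfl
theorem F73584 : act 0 n32426 = n32426 := d4_1 D32426 (iv D32426) F66343
theorem F73585 : act 1 n32426 = n30528 := d9_1 D32426 (iv D30528) F56637 (iv F55602) D30357
theorem F73586 : act 2 n32426 = n32426 := d13_1 D32426 (iv D32426) F66340
theorem F73587 : act 3 n32426 = n30358 := d16_1 D32426 (iv D30358) (iv F66341)
theorem F73588 : act 4 n32426 = n32408 := d18_1 D32426 F73494 (iv F66342)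
def n32427 : Q := act 6 n30371
theorem D32427 : act 6 n30371 = n32427 := rfl
theorem F73589 : act 0 n32427 = n31850 := d5_1 D32427 (iv D31850) (iv F66392)
theorem F73590 : act 3 n32427 = n30372 := d17_1 D32427 (iv D30372) D30371
theorem F73591 : act 4 n32427 = n30374 := d19_1 D32427 (iv D30374) (iv F66393)
theorem F73592 : act 5 n32427 = n31856 := d20_1 D32427 F71422 F67748 D31850 F71406 (iv F71389) F71388
theorem F73593 : act 1 n30720 = n32427 := d8_3 F73591 (iv F68657) F68658
def n32428 : Q := act 4 n30375
theorem D32428 : act 4 n30375 = n32428 := rfl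
theorem F73594 : act 1 n32428 = n31617 := d8_1 D32428 (iv D31617) (iv F66403)
theorem F73595 : act 2 n32428 = n30376 := d12_1 D32428 (iv D30376) D30375
theorem F73596 : act 3 n32428 = n31616 := d15_1 D32428 (iv D31616) (iv D28944) (iv F62137) (iv F66405)
theorem F73597 : act 6 n32428 = n32405 := d19_2 (iv F66404) D32428 F73478
def n32429 : Q := act 3 n30376
theorem D32429 : act 3 n30376 = n32429 := rfl
theorem F73598 : act 0 n32429 = n31843 := d2_1 D32429 F71377 F68114
theorem F73599 : act 1 n32429 = n30378 := d7_1 D32429 (iv D30378) (iv F66406)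
theorem F73600 : act 4 n32429 = n30377 := d15_2 D30376 D32429 (iv D30377) (iv D26831) D26830
theorem F73601 : act 5 n32429 = n31843 := d16_2 F68117 D32429 F71377
theorem F73602 : act 6 n32429 = n31687 := d17_2 (iv F68109) D32429 F70868
theorem F73603 : act 2 n32429 = n32252 := d25_19 (iv F45386) (iv F56687) (iv F64672) (iv D29859) (iv F64661) (iv D29857) D29858 (iv F66952) (iv F71308) (iv F71310) (iv F71317) F71318 (iv F68329) (iv F68575) (iv F68579) (iv F70615) (iv F73596) F73595 D32429 (iv F72864) F71022 (iv D30789) F57773 F47212 (iv D20362) F26275 (iv F26657) (iv F35164) F26583 (iv F20805) (iv F35244) F24564 D14067 D19317 D23705 F47365 (iv F47371) (iv F55105) F55106 (iv F55083) (iv F60076) F60078 (iv F55410) (iv F59925) F59924 F54999 F49218 (iv F40563) F40564 (iv F47663) F47662 (iv D23749) (iv D19369) (iv D14121) F19580 (iv F32727) (iv D4138) (iv F6232) (iv F12756) (iv F19799) F19798 (iv F24929) (iv D14272) (iv F24693) F32937 (iv F37775) (iv D19992) D19993 F37777 (iv D19920) (iv D14690) D14689 F25633 D14755 D19981 F47069 (iv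 D23025)
def n32430 : Q := act 2 n30378
theorem D32430 : act 2 n30378 = n32430 := rfl
theorem F73604 : act 0 n32430 = n30382 := d1_1 D32430 (iv D30382) (iv F66411)
theorem F73605 : act 4 n32430 = n30380 := d12_2 (iv F66412) D32430 (iv D30380)
theorem F73606 : act 5 n32430 = n31694 := d13_2 F67616 D32430 F70894
def n32431 : Q := act 6 n30378
theorem D32431 : act 6 n30378 = n32431 := rfl
theorem F73607 : act 0 n32431 = n30383 := d5_1 D32431 (iv D30383) (iv F66411)
theorem F73608 : act 1 n32431 = n32250 := d10_1 D32431 (iv D32250) (iv F70866) (iv F73602) F73599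
theorem F73609 : act 3 n32431 = n30379 := d17_1 D32431 (iv D30379) D30378
theorem F73610 : act 4 n32431 = n30381 := d19_1 D32431 (iv D30381) (iv F66412)
theorem F73611 : act 5 n32431 = n30744 := d20_1 D32431 (iv D30744) F57538 D30383 (iv F73468) F73469 F67616
def n32432 : Q := act 1 n30382
theorem D32432 : act 1 n30382 = n32432 := rfl
theorem F73612 : act 4 n32432 = n30385 := d8_2 (iv F66423) D32432 (iv D30385)
def n32433 : Q := act 3 n30382
theorem D32433 : act 3 n30382 = n32433 := rfl
theorem F73613 : act 2 n32433 = n32345 := d21_2 D30382 D32433 (iv F73402) F73401 (iv D30371) (iv F55791) D30378 F66411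
def n32434 : Q := act 6 n30382
theorem D32434 : act 6 n30382 = n32434 := rfl
theorem F73614 : act 2 n32434 = n30383 := d14_1 D32434 (iv D30383) D30382
theorem F73615 : act 4 n32434 = n30387 := d19_1 D32434 (iv D30387) (iv F66423)
theorem F73616 : act 5 n32434 = n31263 := d22_2 F67618 D32434 F70895 F70892
def n32435 : Q := act 1 n30383
theorem D32435 : act 1 n30383 = n32435 := rfl
theorem F73617 : act 0 n32435 = n31607 := d0_1 D32435 F70581 F67183 (iv D30408) (iv F66470) (iv F72417) (iv F72850) (iv F73608) F73607
theorem F73618 : act 3 n32435 = n30384 := d7_2 (iv F66424) D32435 (iv D30384)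
theorem F73619 : act 4 n32435 = n30388 := d8_2 (iv F66425) D32435 (iv D30388)
theorem F73620 : act 5 n32435 = n31610 := d9_2 F73468 D32435 F70590 F66230 (iv F73466)
def n32436 : Q := act 3 n30385
theorem D32436 : act 3 n30385 = n32436 := rfl
theorem F73621 : act 0 n32436 = n30589 := d2_1 D32436 (iv F68449) (iv F73054)
theorem F73622 : act 1 n32436 = n30386 := d7_1 D32436 (iv D30386) D30385
theorem F73623 : act 6 n32436 = n31708 := d17_2 F73055 D32436 F70950
theorem F73624 : act 2 n32436 = n31358 := d25_2 F73612 D32436 (iv F69987) (iv F70434) (iv D31562) (iv F68446) F68445 (iv F61676) F61675 (iv F60815) F60817 F50064 F38395 F26120 F20436 (iv F25976) (iv F38105) (iv F49650) (iv F60211) F60300 F60301 (iv F65327) F65328 F54249 D26330 F54260 F46493 (iv F33987) D23439 D27609 F58269 (iv F54551) F54550 F52360 (iv F46217) F46216 (iv F56921) (iv F65600) (iv D30147) (iv F65565) (iv D30138) F54402 F46655 (iv F54226) (iv D26316) F42304 (iv D16469) (iv F28549) D21806 D26299 D30023 D32296 (iv F73046) (iv D30940) (iv D27758) (iv D23651) (iv D19256)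 (iv F33879) F33878 F32393 (iv F24630) D19363 (iv F47485) (iv F47488) F41167 F33925 (iv F32325) (iv F45352) (iv F56653) F62877 F62875 (iv F62866) F62867 F54781 D26837 D30382 D32432
theorem F73625 : act 5 n31193 = n32436 := d13_0 F73624 (iv F70812) (iv F70814)
theorem F73626 : act 4 n32436 = n31666 := d18_1 F73625 (iv D31666) (iv F69294)
def n32437 : Q := act 5 n30385
theorem D32437 : act 5 n30385 = n32437 := rfl
theorem F73627 : act 1 n32437 = n31192 := d9_1 D32437 F69293 F64978 F57535 D30385
theorem F73628 : act 3 n32437 = n31193 := d16_1 D32437 F73625 (iv D32436)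
theorem F73629 : act 6 n32437 = n30983 := d22_1 D32437 (iv D30983) (iv F68450) (iv F73054)
def n32438 : Q := act 1 n30387
theorem D32438 : act 1 n30387 = n32438 := rfl
theorem F73630 : act 3 n32438 = n31945 := d7_2 F70903 D32438 (iv F71706)
def n32439 : Q := act 2 n30388
theorem D32439 : act 2 n30388 = n32439 := rfl
def n32440 : Q := act 5 n30391
theorem D32440 : act 5 n30391 = n32440 := rfl
theorem F73631 : act 0 n32440 = n31808 := d4_1 D32440 (iv D31808) (iv F66442)
theorem F73632 : act 3 n32440 = n30392 := d16_1 D32440 (iv D30392) D30391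
theorem F73633 : act 4 n32440 = n30394 := d18_1 D32440 (iv D30394) (iv F66443)
theorem F73634 : act 6 n32440 = n31814 := d20_2 (iv F71262) D32440 F71293 F67596 D31808 F71278 (iv F71260)
theorem F73635 : act 1 n30770 = n32440 := d8_3 F73633 (iv F68807) F68809
def n32441 : Q := act 4 n30395
theorem D32441 : act 4 n30395 = n32441 := rfl
theorem F73636 : act 1 n32441 = n31619 := d8_1 D32441 (iv D31619) (iv F66453)
theorem F73637 : act 2 n32441 = n30396 := d12_1 D32441 (iv D30396) D30395
theorem F73638 : act 3 n32441 = n31618 := d15_1 D32441 (iv D31618) (iv D28949) (iv F62162) (iv F66455)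
theorem F73639 : act 5 n32441 = n32421 := d18_2 (iv F66454) D32441 F73560
def n32442 : Q := act 3 n30396
theorem D32442 : act 3 n30396 = n32442 := rfl
theorem F73640 : act 0 n32442 = n31801 := d2_1 D32442 F71252 F67926
theorem F73641 : act 1 n32442 = n30398 := d7_1 D32442 (iv D30398) (iv F66456)
theorem F73642 : act 4 n32442 = n30397 := d15_2 D30396 D32442 (iv D30397) (iv D26866) D26865
theorem F73643 : act 5 n32442 = n31682 := d16_2 F67921 D32442 F70843
theorem F73644 : act 6 n32442 = n31801 := d17_2 F67929 D32442 F71252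
theorem F73645 : act 2 n32442 = n32161 := d25_19 (iv F45317) (iv F56612) (iv F63860) (iv D29622) (iv F63850) (iv D29620) D29621 (iv F66896) (iv F71438) (iv F71441) (iv F71449) F71450 (iv F68338) (iv F68492) (iv F68496) (iv F70624) (iv F73638) F73637 D32442 (iv F72495) F71166 (iv D30847) F57949 F47349 (iv D20328) F26218 (iv F26583) F35164 F26657 (iv F20772) (iv F29209) F24514 D14020 D19260 D23653 F47228 (iv F47234) (iv F55578) F55579 (iv F55077) (iv F60081) F60083 (iv F54901) (iv F60012) F60011 F55491 F49380 (iv F40635) F40636 (iv F47770) F47769 (iv D23773) (iv D19405) (iv D14178) F19641 F32656 (iv D4115) (iv F6201) (iv F12713) (iv F19765) (iv F19825) (iv F24991) (iv D14321) (iv F24802) F32647 (iv F37872) (iv D20046) D20047 F37874 (iv D19940) (iv D14713) D14712 F25659 D14804 D20035 F46892 (iv D23000)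
def n32443 : Q := act 2 n30398
theorem D32443 : act 2 n30398 = n32443 := rfl
theorem F73646 : act 0 n32443 = n30402 := d1_1 D32443 (iv D30402) (iv F66461)
theorem F73647 : act 4 n32443 = n30400 := d12_2 (iv F66462) D32443 (iv D30400)
theorem F73648 : act 6 n32443 = n31702 := d14_2 F67591 D32443 F70928
def n32444 : Q := act 5 n30398
theorem D32444 : act 5 n30398 = n32444 := rfl
theorem F73649 : act 0 n32444 = n30403 := d4_1 D32444 (iv D30403) (iv F66461)
theorem F73650 : act 1 n32444 = n32158 := d9_1 D32444 (iv D32158) (iv F70841) (iv F73643) F73641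
theorem F73651 : act 3 n32444 = n30399 := d16_1 D32444 (iv D30399) D30398
theorem F73652 : act 4 n32444 = n30401 := d18_1 D32444 (iv D30401) (iv F66462)
theorem F73653 : act 6 n32444 = n30715 := d20_2 F67591 D32444 F67531 F57499 D30403 (iv F73459) F73458
def n32445 : Q := act 1 n30402
theorem D32445 : act 1 n30402 = n32445 := rfl
theorem F73654 : act 4 n32445 = n30405 := d8_2 (iv F66473) D32445 (iv D30405)
def n32446 : Q := act 3 n30402
theorem D32446 : act 3 n30402 = n32446 := rfl
theorem F73655 : act 2 n32446 = n32307 := d21_2 D30402 D32446 (iv F73343) F73342 (iv D30391) (iv F55899) D30398 F66461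
def n32447 : Q := act 5 n30402
theorem D32447 : act 5 n30402 = n32447 := rfl
theorem F73656 : act 2 n32447 = n30403 := d13_1 D32447 (iv D30403) D30402
theorem F73657 : act 4 n32447 = n30407 := d18_1 D32447 (iv D30407) (iv F66473)
theorem F73658 : act 6 n32447 = n31292 := d22_1 D32447 F70929 (iv F73648) F73646
def n32448 : Q := act 1 n30403
theorem D32448 : act 1 n30403 = n32448 := rfl
theorem F73659 : act 0 n32448 = n31596 := d0_1 D32448 F70538 F67219 (iv D30388) (iv F66420) (iv F72313) (iv F72477) (iv F73650) F73649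
theorem F73660 : act 3 n32448 = n30404 := d7_2 (iv F66474) D32448 (iv D30404)
theorem F73661 : act 4 n32448 = n30408 := d8_2 (iv F66475) D32448 (iv D30408)
theorem F73662 : act 6 n32448 = n31599 := d10_2 F73459 D32448 F70547 F66373 (iv F73456)
def n32449 : Q := act 3 n30405
theorem D32449 : act 3 n30405 = n32449 := rfl
theorem F73663 : act 0 n32449 = n30601 := d2_1 D32449 (iv F68539) (iv F72475)
theorem F73664 : act 1 n32449 = n30406 := d7_1 D32449 (iv D30406) D30405
theorem F73665 : act 5 n32449 = n31754 := d16_2 F72476 D32449 F71099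
theorem F73666 : act 2 n32449 = n31332 := d25_2 F73654 D32449 (iv F69864) (iv F70496) (iv D31582) (iv F68536) F68535 (iv F61785) F61784 (iv F60659) F60661 F49928 F38329 F26089 F20423 (iv F25981) (iv F38121) (iv F49662) (iv F60222) (iv F60434) (iv F60435) (iv F65613) F65614 F54429 D26407 F54441 F46616 F33974 D23380 D27533 F58169 (iv F54522) F54521 F52493 (iv F46386) F46385 (iv F56901) (iv F65317) (iv D30053) (iv F65282) (iv D30044) F54226 (iv F46655) (iv F54402) (iv D26392) F42425 (iv D16502) (iv F28612) D21858 D26375 D30117 D32334 (iv F73193) (iv D30944) (iv D27783) (iv D23703) (iv D19313) (iv F33953) F33952 F32380 (iv F24737) D19400 (iv F47473) F47472 F41088 F33849 (iv F32365) (iv F45422) (iv F56728) F62724 F62722 (iv F62713) F62714 F54688 D26872 D30402 D32445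
theorem F73667 : act 6 n31197 = n32449 := d14_0 F73666 (iv F70770) (iv F70772)
theorem F73668 : act 4 n32449 = n31677 := d19_1 F73667 (iv D31677) (iv F69307)
def n32450 : Q := act 6 n30405
theorem D32450 : act 6 n30405 = n32450 := rfl
theorem F73669 : act 1 n32450 = n31196 := d10_1 D32450 F69306 F64213 F57743 D30405
theorem F73670 : act 3 n32450 = n31197 := d17_1 D32450 F73667 (iv D32449)
theorem F73671 : act 5 n32450 = n31010 := d22_2 F72476 D32450 (iv D31010) D31008
def n32451 : Q := act 1 n30407
theorem D32451 : act 1 n30407 = n32451 := rfl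
theorem F73672 : act 3 n32451 = n32066 := d7_2 F70937 D32451 F72100
def n32452 : Q := act 2 n30408
theorem D32452 : act 2 n30408 = n32452 := rfl
def n32453 : Q := act 2 n30412
theorem D32453 : act 2 n30412 = n32453 := rfl
theorem F73673 : act 0 n32453 = n32366 := d1_1 D32453 (iv F73575) F73573
theorem F73674 : act 4 n32453 = n31597 := d12_2 (iv F66498) D32453 (iv D31597)
theorem F73675 : act 5 n32453 = n32423 := d13_2 (iv F66499) D32453 F73570
theorem F73676 : act 6 n32453 = n32354 := d14_2 F73567 D32453 (iv F73564)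
def n32454 : Q := act 1 n30413
theorem D32454 : act 1 n30413 = n32454 := rfl
def n32455 : Q := act 5 n30413
theorem D32455 : act 5 n30413 = n32455 := rfl
theorem F73677 : act 0 n32455 = n30422 := d4_1 D32455 (iv D30422) (iv F66500)
theorem F73678 : act 2 n32455 = n30414 := d13_1 D32455 (iv D30414) D30413
theorem F73679 : act 6 n32455 = n30436 := d22_1 D32455 F66568 (iv D30423) (iv F66500)
theorem F73680 : act 1 n32455 = n32455 := d23_2 D30414 (iv F73678) F73677 (iv D30422) (iv D26903) F44346 (iv F55796) (iv F57534) F62449 F62444 F52158 F52019 (iv F52160) (iv F62444) F62450 F57535 (iv D26840) (iv F44346) (iv F55982)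
theorem F73681 : act 5 n32454 = n32454 := d9_4 D32455 F73680 (iv D32455) D32454 (iv D32454)
def n32456 : Q := act 6 n30413
theorem D32456 : act 6 n30413 = n32456 := rfl
theorem F73682 : act 0 n32456 = n30423 := d5_1 D32456 (iv D30423) (iv F66500)
theorem F73683 : act 2 n32456 = n30415 := d14_1 D32456 (iv D30415) D30413
theorem F73684 : act 3 n32456 = n30433 := d17_1 D32456 (iv F66558) F66533
theorem F73685 : act 4 n32456 = n30433 := d19_1 D32456 (iv F66558) F66534
theorem F73686 : act 5 n32456 = n30431 := d20_1 D32456 F66554 (iv D30422) D30423 (iv F66568) (iv F73679) (iv D32455)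
def n32457 : Q := act 1 n30414
theorem D32457 : act 1 n30414 = n32457 := rfl
theorem F73687 : act 0 n32457 = n32457 := d0_1 D32457 (iv D32457) F66501 F56012 F46253 F33754 (iv F46253) (iv F56012) (iv F66501)
theorem F73688 : act 2 n32457 = n32457 := d6_2 F73678 D32457 (iv D32457) (iv F73678) F73680
theorem F73689 : act 3 n32457 = n30416 := d7_2 (iv F66502) D32457 (iv D30416)
theorem F73690 : act 5 n32457 = n32425 := d9_2 D30414 D32457 (iv D32425) (iv F66499) F66497
theorem F73691 : act 6 n32457 = n32426 := d10_2 (iv F66503) D32457 F73585 (iv F66911) F62045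
def n32458 : Q := act 1 n30415
theorem D32458 : act 1 n30415 = n32458 := rfl
theorem F73692 : act 3 n32458 = n30417 := d7_2 (iv F66505) D32458 (iv D30417)
theorem F73693 : act 4 n32458 = n30435 := d8_2 (iv F66506) D32458 (iv D30435)
theorem F73694 : act 5 n32458 = n32448 := d9_2 (iv F66507) D32458 (iv D32448) (iv D30403) (iv F56064)
theorem F73695 : act 6 n32458 = n31603 := d10_2 D30415 D32458 (iv F73563) F73567 F66497
theorem F73696 : act 2 n31588 = n32458 := d25_19 (iv F63492) (iv F70039) (iv D31426) (iv F70023) (iv F70025) (iv D31382) F61010 F50226 (iv F41274) (iv F41683) D25890 F53159 F42019 F28413 (iv F26401) D20475 (iv F50745) D28861 D31588 (iv D32458) F66505 F55988 (iv F44481) (iv F56005) D30420 F66524 F56009 F44352 F31893 D19027 (iv F34119) (iv F34122) (iv F39511) (iv F51338) (iv F58433) F58432 (iv F58438) F58437 F47277 (iv F40041) F40040 (iv F36106) F36105 (iv F35830) F36887 F29570 (iv D12486) (iv D10163) (iv F14299) D11660 D15235 (iv F38388) F39796 (iv F49049) D28213 D31150 (iv F69091) (iv F69398) F69397 F67056 F56876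 F45690 (iv F46458) F46457 F45168 F32223 D18371 (iv F45150) (iv F50953) (iv F61060) (iv F61259) (iv F61260) (iv D25330) (iv D21117) (iv F40734) D25320 D28982
def n32459 : Q := act 1 n30418
theorem D32459 : act 1 n30418 = n32459 := rfl
theorem F73697 : act 2 n32459 = n32432 := d6_2 D30418 D32459 (iv D32432) (iv D30382) (iv F56002)
theorem F73698 : act 3 n32459 = n30421 := d7_2 (iv F66518) D32459 (iv D30421)
theorem F73699 : act 4 n32459 = n30421 := d8_2 (iv F66517) D32459 (iv D30421)
def n32460 : Q := act 6 n30418
theorem D32460 : act 6 n30418 = n32460 := rfl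
theorem F73700 : act 0 n32460 = n30433 := d5_1 D32460 (iv F66558) F66532
theorem F73701 : act 2 n32460 = n30419 := d14_1 D32460 (iv D30419) D30418
theorem F73702 : act 3 n32460 = n30423 := d17_1 D32460 (iv D30423) (iv F66518)
theorem F73703 : act 4 n32460 = n30423 := d19_1 D32460 (iv D30423) (iv F66517)
theorem F73704 : act 5 n30430 = n32460 := d22_0 (iv D32460) F66562 (iv D30434) (iv F66552)
def n32461 : Q := act 1 n30419
theorem D32461 : act 1 n30419 = n32461 := rfl
theorem F73705 : act 3 n32461 = n30420 := d7_2 (iv F66520) D32461 (iv D30420)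
theorem F73706 : act 4 n32461 = n30424 := d8_2 (iv F66521) D32461 (iv D30424)
theorem F73707 : act 5 n32461 = n31613 := d9_2 F66522 D32461 (iv F73481) F73485 F66549
theorem F73708 : act 6 n32461 = n32435 := d10_2 D30419 D32461 (iv D32435) (iv D30383) (iv F56002)
theorem F73709 : act 2 n31568 = n32461 := d25_4 (iv F38819) (iv F50669) D28835 D31568 (iv D32461) F66520 F56005 F44481 (iv F55988) D30417 (iv F73692) (iv F73696) (iv D31588) (iv D28861) (iv D24955) F38851 F26401 (iv F28413) (iv F42019) F42018 (iv F41684) F41683 F41274 (iv F50226) D28592 F61013 F50229 D24727 D28604 (iv F62510) (iv F62521) (iv F62520) (iv D28260) (iv D24391) F37875 F25752 (iv F25402) (iv F37387) F37388 F33998 (iv F33835) F33836 F35469 (iv F33641) F40866 (iv D21150) F27651 (iv F27674) (iv F40899) (iv F52065) D29038 F62369 F58383 (iv F50980) F50981 F44265 (iv F33223) F33075 D18499 F40021 F40018 (iv D19433) F24882 (iv F24619) (iv F29108) (iv F28907) D18570 F33225 (iv F23878) (iv F34915) (iv D16854) (iv D12546) (iv F22040) F28531 F22043 (iv F22049) D16861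
def n32462 : Q := act 0 n30421
theorem D32462 : act 0 n30421 = n32462 := rfl
theorem F73710 : act 2 n32462 = n30978 := d1_2 (iv F66527) D32462 (iv F73054)
theorem F73711 : act 1 n31270 = n32462 := d6_5 F73710 (iv D30978) F58960 D28435 D31270
theorem F73712 : act 6 n30982 = n32462 := d14_0 F73710 F68450 D30982
def n32463 : Q := act 5 n30421
theorem D32463 : act 5 n30421 = n32463 := rfl
theorem F73713 : act 2 n32463 = n32437 := d13_1 D32463 (iv D32437) (iv F66527)
def n32464 : Q := act 6 n30421
theorem D32464 : act 6 n30421 = n32464 := rfl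
theorem F73714 : act 0 n32464 = n30982 := d5_1 D32464 F73712 (iv D32462)
theorem F73715 : act 2 n32464 = n30981 := d14_1 D32464 F73055 (iv F66527)
def n32465 : Q := act 1 n30423
theorem D32465 : act 1 n30423 = n32465 := rfl
def n32466 : Q := act 2 n30424
theorem D32466 : act 2 n30424 = n32466 := rfl
theorem F73716 : act 0 n32466 = n31354 := d1_1 D32466 (iv F69805) F67563
theorem F73717 : act 4 n32466 = n31568 := d12_2 F73706 D32466 F73709
theorem F73718 : act 5 n32466 = n32180 := d13_2 F67557 D32466 F72564
theorem F73719 : act 6 n32466 = n32439 := d14_2 (iv F66531) D32466 (iv D32439)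
theorem F73720 : act 3 n32466 = n31355 := d21_7 D31356 F69809 (iv D30453) F56264 (iv F56015) (iv F66530) D32466 (iv D31355)
def n32467 : Q := act 1 n30425
theorem D32467 : act 1 n30425 = n32467 := rfl
theorem F73721 : act 3 n32467 = n32454 := d7_2 (iv F66533) D32467 (iv D32454)
theorem F73722 : act 4 n32467 = n32454 := d8_2 (iv F66534) D32467 (iv D32454)
theorem F73723 : act 5 n32467 = n32467 := d18_0 F73722 F73681 (iv F73722)
def n32468 : Q := act 5 n30425
theorem D32468 : act 5 n30425 = n32468 := rfl
theorem F73724 : act 0 n32468 = n30434 := d4_1 D32468 (iv F66562) (iv F66532)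
theorem F73725 : act 1 n32468 = n32468 := d9_1 D32468 (iv D32468) D32467 F73723 (iv D32467)
theorem F73726 : act 2 n32468 = n30426 := d13_1 D32468 (iv D30426) D30425
theorem F73727 : act 3 n32468 = n32455 := d16_1 D32468 (iv D32455) (iv F66533)
theorem F73728 : act 4 n32468 = n32455 := d18_1 D32468 (iv D32455) (iv F66534)
theorem F73729 : act 6 n32468 = n30430 := d20_2 (iv F66558) D32468 F73704 (iv D32460) F66562 (iv D30434) D30433
def n32469 : Q := act 1 n30426
theorem D32469 : act 1 n30426 = n32469 := rfl
theorem F73730 : act 0 n32469 = n32469 := d0_1 D32469 (iv D32469) F66535 F56069 F46420 F33837 (iv F46420) (iv F56069) (iv F66535)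
theorem F73731 : act 2 n32469 = n32469 := d6_2 F73726 D32469 (iv D32469) (iv F73726) F73725
theorem F73732 : act 3 n32469 = n30427 := d7_2 (iv F66536) D32469 (iv D30427)
theorem F73733 : act 4 n32469 = n32457 := d8_2 (iv F66537) D32469 (iv D32457)
theorem F73734 : act 5 n32469 = n32410 := d9_2 D30426 D32469 F73502 (iv F66971) F61998
theorem F73735 : act 6 n32469 = n32408 := d10_2 (iv F66538) D32469 (iv D32408) (iv F66551) F66549
def n32470 : Q := act 2 n30429
theorem D32470 : act 2 n30429 = n32470 := rfl
theorem F73736 : act 0 n32470 = n32328 := d1_1 D32470 (iv F73497) F73495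
theorem F73737 : act 4 n32470 = n31608 := d12_2 (iv F66550) D32470 (iv D31608)
theorem F73738 : act 5 n32470 = n32317 := d13_2 F73485 D32470 (iv F73482)
theorem F73739 : act 6 n32470 = n32407 := d14_2 (iv F66551) D32470 F73488
def n32471 : Q := act 1 n30430
theorem D32471 : act 1 n30430 = n32471 := rfl
theorem F73740 : act 6 n32471 = n32471 := d10_2 F73729 D32471 (iv D32471) (iv F73729) F73725
def n32472 : Q := act 1 n30431
theorem D32472 : act 1 n30431 = n32472 := rfl
theorem F73741 : act 2 n32472 = n32445 := d6_2 D30431 D32472 (iv D32445) (iv D30402) (iv F56064)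
theorem F73742 : act 3 n32472 = n30432 := d7_2 (iv F66555) D32472 (iv D30432)
theorem F73743 : act 4 n32472 = n30432 := d8_2 (iv F66553) D32472 (iv D30432)
def n32473 : Q := act 0 n30432
theorem D32473 : act 0 n30432 = n32473 := rfl
theorem F73744 : act 2 n32473 = n31005 := d1_2 (iv F66556) D32473 (iv F72475)
theorem F73745 : act 5 n32473 = n31009 := d23_4 (iv D26921) D26920 D30432 D32473 (iv D31009) (iv D27918) (iv F48613) F48615 (iv D23997) (iv F48330) (iv F58804) (iv F67649) (iv F69976) (iv F72555) F72554 (iv F70446) F73709 (iv D32461) F66519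
theorem F73746 : act 1 n31299 = n32473 := d9_5 F73745 F68543 F59042 (iv F60738) (iv F69667)
def n32474 : Q := act 5 n30432
theorem D32474 : act 5 n30432 = n32474 := rfl
theorem F73747 : act 0 n32474 = n31009 := d4_1 D32474 (iv F73745) (iv D32473)
theorem F73748 : act 2 n32474 = n31008 := d13_1 D32474 F72476 (iv F66556)
def n32475 : Q := act 6 n30432
theorem D32475 : act 6 n30432 = n32475 := rfl
theorem F73749 : act 2 n32475 = n32450 := d14_1 D32475 (iv D32450) (iv F66556)
def n32476 : Q := act 1 n30433
theorem D32476 : act 1 n30433 = n32476 := rfl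
def n32477 : Q := act 2 n30435
theorem D32477 : act 2 n30435 = n32477 := rfl
theorem F73750 : act 0 n32477 = n31328 := d1_1 D32477 (iv F69738) F67738
theorem F73751 : act 4 n32477 = n31588 := d12_2 F73693 D32477 F73696
theorem F73752 : act 5 n32477 = n32452 := d13_2 (iv F66564) D32477 (iv D32452)
theorem F73753 : act 6 n32477 = n32265 := d14_2 F67726 D32477 F72909
theorem F73754 : act 3 n32477 = n31329 := d21_7 D31330 F69742 (iv D30454) F56266 (iv F56073) (iv F66563) D32477 (iv D31329)
def n32478 : Q := act 1 n30436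
theorem D32478 : act 1 n30436 = n32478 := rfl
theorem F73755 : act 3 n32478 = n32471 := d7_2 (iv F66566) D32478 (iv D32471)
theorem F73756 : act 4 n32478 = n32471 := d8_2 (iv F66567) D32478 (iv D32471)
theorem F73757 : act 6 n32478 = n32478 := d10_2 F73679 D32478 (iv D32478) (iv F73679) F73680
def n32479 : Q := act 5 n30437
theorem D32479 : act 5 n30437 = n32479 := rfl
theorem F73758 : act 0 n32479 = n31595 := d4_1 D32479 F70536 (iv F66569)
theorem F73759 : act 1 n32479 = n30441 := d9_1 D32479 (iv D30441) F56157 (iv F56149) (iv F66570)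
theorem F73760 : act 2 n32479 = n32402 := d13_1 D32479 F73464 (iv F66571)
theorem F73761 : act 3 n32479 = n30961 := d16_1 D32479 (iv F68588) F68585
theorem F73762 : act 4 n32479 = n30438 := d18_1 D32479 (iv D30438) D30437
theorem F73763 : act 6 n32479 = n31617 := d20_2 (iv F66572) D32479 F70622 F68330 (iv F70536) F70537 F65952
def n32480 : Q := act 2 n30439
theorem D32480 : act 2 n30439 = n32480 := rfl
theorem F73764 : act 1 n32480 = n31281 := d6_1 D32480 F69608 (iv F60980) (iv F69871) F69870
theorem F73765 : act 4 n32480 = n31315 := d12_2 (iv F66578) D32480 F69703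
theorem F73766 : act 5 n32480 = n30444 := d13_2 (iv F66579) D32480 (iv D30444)
theorem F73767 : act 3 n32480 = n31315 := d21_1 D32480 F69703 F60753 (iv F60761) F60762 (iv F59768) (iv F68549) F68547
def n32481 : Q := act 3 n30442
theorem D32481 : act 3 n30442 = n32481 := rfl
theorem F73768 : act 0 n32481 = n30746 := d2_1 D32481 F67629 (iv F66590)
theorem F73769 : act 1 n32481 = n30443 := d7_1 D32481 (iv D30443) (iv F66591)
theorem F73770 : act 4 n32481 = n31314 := d15_2 D30442 D32481 F69698 F60757 (iv F56169)
theorem F73771 : act 5 n32481 = n31527 := d16_2 (iv F66593) D32481 F70313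
theorem F73772 : act 6 n32481 = n30540 := d17_2 (iv F66594) D32481 F66948
def n32482 : Q := act 2 n30443
theorem D32482 : act 2 n30443 = n32482 := rfl
theorem F73773 : act 0 n32482 = n30444 := d1_1 D32482 (iv D30444) (iv F66595)
theorem F73774 : act 3 n32482 = n31313 := d11_2 D30443 D32482 F69695 F60749 F50009 F44540 (iv F44619) D26946 D30444 F66601 F60751 F50000 (iv F50013) F50014 (iv F56173)
theorem F73775 : act 4 n32482 = n31313 := d12_2 (iv F66596) D32482 F69695
theorem F73776 : act 6 n32482 = n31312 := d14_2 (iv F66597) D32482 (iv D31312)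
def n32483 : Q := act 6 n30445
theorem D32483 : act 6 n30445 = n32483 := rfl
theorem F73777 : act 0 n32483 = n31606 := d5_1 D32483 F70580 (iv F66602)
theorem F73778 : act 1 n32483 = n30449 := d10_1 D32483 (iv D30449) F56226 (iv F56218) (iv F66603)
theorem F73779 : act 2 n32483 = n32404 := d14_1 D32483 F73474 (iv F66604)
theorem F73780 : act 3 n32483 = n30964 := d17_1 D32483 F68505 F68502
theorem F73781 : act 4 n32483 = n30446 := d19_1 D32483 (iv D30446) D30445
theorem F73782 : act 5 n32483 = n31619 := d20_1 D32483 F70631 F68339 (iv F70580) F70579 F65999 (iv F66605)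
def n32484 : Q := act 2 n30447
theorem D32484 : act 2 n30447 = n32484 := rfl
theorem F73783 : act 1 n32484 = n31310 := d6_1 D32484 F69686 (iv F61149) (iv F69994) F69993
theorem F73784 : act 4 n32484 = n31286 := d12_2 (iv F66611) D32484 F69625
theorem F73785 : act 6 n32484 = n30452 := d14_2 (iv F66612) D32484 (iv D30452)
theorem F73786 : act 3 n32484 = n31286 := d21_1 D32484 F69625 F60591 (iv F60599) F60600 (iv F59727) (iv F68459) F68457
def n32485 : Q := act 3 n30450
theorem D32485 : act 3 n30450 = n32485 := rfl
theorem F73787 : act 0 n32485 = n30676 := d2_1 D32485 F67361 (iv F66623)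
theorem F73788 : act 1 n32485 = n30451 := d7_1 D32485 (iv D30451) (iv F66624)
theorem F73789 : act 4 n32485 = n31285 := d15_2 D30450 D32485 F69620 F60595 (iv F56238)
theorem F73790 : act 5 n32485 = n30523 := d16_2 (iv F66626) D32485 F66892
theorem F73791 : act 6 n32485 = n31473 := d17_2 (iv F66627) D32485 F70161
def n32486 : Q := act 2 n30451
theorem D32486 : act 2 n30451 = n32486 := rfl
theorem F73792 : act 0 n32486 = n30452 := d1_1 D32486 (iv D30452) (iv F66628)
theorem F73793 : act 3 n32486 = n31284 := d11_2 D30451 D32486 F69617 F60587 F49873 F44665 (iv F44722) D26964 D30452 F66634 F60589 F49864 (iv F49877) F49878 (iv F56242)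
theorem F73794 : act 4 n32486 = n31284 := d12_2 (iv F66629) D32486 F69617
theorem F73795 : act 5 n32486 = n31283 := d13_2 (iv F66630) D32486 (iv D31283)
def n32487 : Q := act 6 n30456
theorem D32487 : act 6 n30456 = n32487 := rfl
theorem F73796 : act 0 n32487 = n30460 := d5_1 D32487 (iv D30460) (iv F66645)
theorem F73797 : act 2 n32487 = n30979 := d14_1 D32487 (iv D30979) (iv F66648)
theorem F73798 : act 3 n32487 = n30457 := d17_1 D32487 (iv D30457) D30456
theorem F73799 : act 5 n32487 = n31152 := d20_1 D32487 (iv D31152) F59910 D30460 (iv F68630) (iv D31032) (iv F66647)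
def n32488 : Q := act 1 n30462
theorem D32488 : act 1 n30462 = n32488 := rfl
theorem F73800 : act 0 n32488 = n31720 := d0_1 D32488 (iv D31720) (iv D29095) (iv D25431) (iv F41031) D25449 D29126 (iv F62588) (iv F66669)
theorem F73801 : act 2 n32488 = n30668 := d6_2 (iv F66670) D32488 (iv D30668) (iv D27295) F56286
theorem F73802 : act 3 n32488 = n31472 := d7_2 F68629 D32488 F70159
theorem F73803 : act 4 n32488 = n30579 := d8_2 (iv F66671) D32488 (iv D30579)
theorem F73804 : act 5 n32488 = n32327 := d9_2 D30462 D32488 (iv D32327) F66668 (iv D30461)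
theorem F73805 : act 6 n32488 = n31459 := d10_2 (iv F66672) D32488 (iv D31459) F61346 F61311
def n32489 : Q := act 5 n30464
theorem D32489 : act 5 n30464 = n32489 := rfl
theorem F73806 : act 0 n32489 = n30468 := d4_1 D32489 (iv D30468) (iv F66679)
theorem F73807 : act 2 n32489 = n31006 := d13_1 D32489 (iv D31006) (iv F66682)
theorem F73808 : act 3 n32489 = n30465 := d16_1 D32489 (iv D30465) D30464
theorem F73809 : act 6 n32489 = n31162 := d20_2 (iv F66681) D32489 (iv D31162) F60002 D30468 (iv F68779) (iv D31069)
def n32490 : Q := act 1 n30470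
theorem D32490 : act 1 n30470 = n32490 := rfl
theorem F73810 : act 0 n32490 = n31765 := d0_1 D32490 (iv D31765) (iv D29146) (iv D25465) (iv F41076) D25483 D29177 (iv F62680) (iv F66703)
theorem F73811 : act 2 n32490 = n30648 := d6_2 (iv F66704) D32490 (iv D30648) (iv D27270) F56302
theorem F73812 : act 3 n32490 = n31523 := d7_2 F68778 D32490 F70304
theorem F73813 : act 4 n32490 = n30586 := d8_2 (iv F66705) D32490 (iv D30586)
theorem F73814 : act 5 n32490 = n31513 := d9_2 (iv F66706) D32490 (iv D31513) F61564 F61529
theorem F73815 : act 6 n32490 = n32365 := d10_2 D30470 D32490 (iv D32365) F66702 (iv D30469)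
def n32491 : Q := act 1 n30476
theorem D32491 : act 1 n30476 = n32491 := rfl
theorem F73816 : act 2 n32491 = n30609 := d6_2 (iv F66727) D32491 (iv D30609) F57056 (iv F56326)
theorem F73817 : act 3 n32491 = n31429 := d7_2 (iv F66728) D32491 F70045
theorem F73818 : act 4 n32491 = n30597 := d8_2 (iv F66729) D32491 (iv D30597)
theorem F73819 : act 5 n32491 = n32070 := d9_2 D30476 D32491 F72115 F71988 (iv D30475)
theorem F73820 : act 6 n32491 = n31428 := d10_2 (iv F66730) D32491 F70044 (iv F61953) (iv F66718)
theorem F73821 : act 0 n32491 = n32055 := d23_3 D26990 (iv F66727) D32491 F72068 F63532 (iv D28967) F51932 D25310 F51936 F40721 (iv F45876) (iv D23101) F33542 (iv D18191) F23389 D14921 F25951 D18195 D22759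
def n32492 : Q := act 1 n30483
theorem D32492 : act 1 n30483 = n32492 := rfl
theorem F73822 : act 2 n32492 = n30597 := d6_2 (iv F66755) D32492 (iv D30597) F57026 (iv F56353)
theorem F73823 : act 3 n32492 = n31392 := d7_2 (iv F66756) D32492 F69924
theorem F73824 : act 4 n32492 = n30609 := d8_2 (iv F66757) D32492 (iv D30609)
theorem F73825 : act 5 n32492 = n31391 := d9_2 (iv F66758) D32492 F69923 (iv F61973) (iv F66746)
theorem F73826 : act 6 n32492 = n31950 := d10_2 D30483 D32492 F71722 F71574 (iv D30482)
theorem F73827 : act 0 n32492 = n31927 := d23_3 (iv F56356) (iv F66755) D32492 F71662 (iv F63336) (iv D29433) (iv F60947) F60951 (iv D25705) (iv F49711) F49707 F49706 D25711 F52751 (iv F57260) D30670 F67341 F57262 F56361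
def n32493 : Q := act 2 n30485
theorem D32493 : act 2 n30485 = n32493 := rfl
theorem F73828 : act 0 n32493 = n31434 := d1_1 D32493 (iv D31434) (iv F66763)
theorem F73829 : act 4 n32493 = n31437 := d12_2 (iv F66764) D32493 (iv D31437)
theorem F73830 : act 5 n32493 = n30758 := d13_2 (iv F66765) D32493 F67673
theorem F73831 : act 6 n32493 = n30536 := d14_2 (iv F66766) D32493 (iv D30536)
def n32494 : Q := act 2 n30488
theorem D32494 : act 2 n30488 = n32494 := rfl
theorem F73832 : act 0 n32494 = n31397 := d1_1 D32494 (iv D31397) (iv F66777)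
theorem F73833 : act 4 n32494 = n31402 := d12_2 (iv F66778) D32494 (iv D31402)
theorem F73834 : act 5 n32494 = n30519 := d13_2 (iv F66779) D32494 (iv D30519)
theorem F73835 : act 6 n32494 = n30696 := d14_2 (iv F66780) D32494 F67446
def n32495 : Q := act 2 n30491
theorem D32495 : act 2 n30491 = n32495 := rfl
theorem F73836 : act 1 n32495 = n30894 := d6_1 D32495 F68127 (iv D28002) (iv F59273) (iv F66791)
theorem F73837 : act 4 n32495 = n30896 := d12_2 F66793 D32495 (iv F68134)
theorem F73838 : act 5 n32495 = n31477 := d13_2 (iv F66792) D32495 F70177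
def n32496 : Q := act 1 n30492
theorem D32496 : act 1 n30492 = n32496 := rfl
theorem F73839 : act 0 n32496 = n32365 := d0_1 D32496 (iv D32365) F65650 (iv F65537) (iv D29129) (iv D25451) (iv F48434) (iv F56416) (iv F66794)
theorem F73840 : act 2 n32496 = n30586 := d6_2 D30492 D32496 (iv D30586) F56993 F56415
theorem F73841 : act 3 n32496 = n31471 := d7_2 (iv F66795) D32496 F70158
theorem F73842 : act 4 n32496 = n30648 := d8_2 (iv F66796) D32496 (iv D30648)
theorem F73843 : act 6 n32496 = n31765 := d10_2 F67138 D32496 (iv D31765) (iv F70015) (iv F70016)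
def n32497 : Q := act 2 n30495
theorem D32497 : act 2 n30495 = n32497 := rfl
theorem F73844 : act 1 n32497 = n30836 := d6_1 D32497 F67936 (iv D28072) (iv F59483) (iv F66804)
theorem F73845 : act 4 n32497 = n30837 := d12_2 F66806 D32497 (iv F67940)
theorem F73846 : act 6 n32497 = n31531 := d14_2 (iv F66805) D32497 F70329
def n32498 : Q := act 1 n30496
theorem D32498 : act 1 n30496 = n32498 := rfl
theorem F73847 : act 0 n32498 = n32327 := d0_1 D32498 (iv D32327) F65371 (iv F65257) (iv D29079) (iv D25418) (iv F48406) (iv F56427) (iv F66807)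
theorem F73848 : act 2 n32498 = n30579 := d6_2 D30496 D32498 (iv D30579) F56958 F56426
theorem F73849 : act 3 n32498 = n31522 := d7_2 (iv F66808) D32498 F70302
theorem F73850 : act 4 n32498 = n30668 := d8_2 (iv F66809) D32498 (iv D30668)
theorem F73851 : act 5 n32498 = n31720 := d9_2 F67165 D32498 (iv D31720) (iv F69898) (iv F69900)
def n32499 : Q := act 2 n30500
theorem D32499 : act 2 n30500 = n32499 := rfl
theorem F73852 : act 0 n32499 = n30501 := d1_1 D32499 (iv D30501) (iv F66823)
theorem F73853 : act 1 n32499 = n31120 := d6_1 D32499 F68989 F65604 (iv F73245) F73244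
theorem F73854 : act 4 n32499 = n30818 := d12_2 (iv F66824) D32499 F67896
theorem F73855 : act 5 n32499 = n30817 := d13_2 (iv F66825) D32499 F67893
theorem F73856 : act 3 n32499 = n32495 := d21_1 D32499 (iv D32495) (iv D30491) (iv D27015) F44897 D22791 D27024 (iv F66823)
def n32500 : Q := act 1 n30501
theorem D32500 : act 1 n30501 = n32500 := rfl
theorem F73857 : act 0 n32500 = n32500 := d0_1 D32500 (iv D32500) (iv F73852) F73853 F68988 F59606 (iv F68988) (iv F73853) F73852
theorem F73858 : act 2 n32500 = n32500 := d6_2 D30501 D32500 (iv D32500) (iv D30501) F56436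
theorem F73859 : act 4 n32500 = n30826 := d8_2 (iv F66826) D32500 (iv D30826)
def n32501 : Q := act 3 n30501
theorem D32501 : act 3 n30501 = n32501 := rfl
theorem F73860 : act 0 n32501 = n32495 := d2_1 D32501 (iv F73856) F73852
theorem F73861 : act 2 n32501 = n32037 := d11_1 D32501 (iv D32037) (iv D29461) F52777 D27023 D30500 D32499 F73856 (iv D32495) (iv D30491) (iv D27015) F44897 D22791 D27024 D30501
theorem F73862 : act 5 n32501 = n30825 := d16_2 (iv F66827) D32501 (iv D30825)
def n32502 : Q := act 2 n30503
theorem D32502 : act 2 n30503 = n32502 := rfl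
theorem F73863 : act 0 n32502 = n30504 := d1_1 D32502 (iv D30504) (iv F66833)
theorem F73864 : act 1 n32502 = n31108 := d6_1 D32502 F68936 F65321 (iv F73099) F73098
theorem F73865 : act 4 n32502 = n30877 := d12_2 (iv F66834) D32502 F68085
theorem F73866 : act 6 n32502 = n30875 := d14_2 (iv F66835) D32502 F68080
theorem F73867 : act 3 n32502 = n32497 := d21_1 D32502 (iv D32497) (iv D30495) (iv D27019) F44907 D22797 D27027 (iv F66833)
def n32503 : Q := act 1 n30504
theorem D32503 : act 1 n30504 = n32503 := rfl
theorem F73868 : act 0 n32503 = n32503 := d0_1 D32503 (iv D32503) (iv F73863) F73864 F68935 F59569 (iv F68935) (iv F73864) F73863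
theorem F73869 : act 2 n32503 = n32503 := d6_2 D30504 D32503 (iv D32503) (iv D30504) F56445
theorem F73870 : act 4 n32503 = n30886 := d8_2 (iv F66836) D32503 (iv D30886)
def n32504 : Q := act 3 n30504
theorem D32504 : act 3 n30504 = n32504 := rfl
theorem F73871 : act 0 n32504 = n32497 := d2_1 D32504 (iv F73867) F73863
theorem F73872 : act 2 n32504 = n31908 := d11_1 D32504 (iv D31908) (iv D29319) F52600 D27026 D30503 D32502 F73867 (iv D32497) (iv D30495) (iv D27019) F44907 D22797 D27027 D30504
theorem F73873 : act 6 n32504 = n30883 := d17_2 (iv F66837) D32504 (iv D30883)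
def n32505 : Q := act 5 n30506
theorem D32505 : act 5 n30506 = n32505 := rfl
theorem F73874 : act 2 n32505 = n30507 := d13_1 D32505 (iv D30507) D30506
theorem F73875 : act 3 n32505 = n32221 := d16_1 D32505 F72723 F70233
theorem F73876 : act 6 n32505 = n32220 := d22_1 D32505 (iv D32220) (iv F70237) F70234
def n32506 : Q := act 6 n30511
theorem D32506 : act 6 n30511 = n32506 := rfl
theorem F73877 : act 2 n32506 = n30512 := d14_1 D32506 (iv D30512) D30511
theorem F73878 : act 3 n32506 = n32295 := d17_1 D32506 F73042 F70383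
theorem F73879 : act 5 n32506 = n32294 := d22_2 (iv F66856) D32506 (iv D32294) F65202
def n32507 : Q := act 2 n30518
theorem D32507 : act 2 n30518 = n32507 := rfl
theorem F73880 : act 0 n32507 = n31405 := d1_1 D32507 F69954 F66882
theorem F73881 : act 1 n32507 = n30787 := d6_1 D32507 (iv D30787) (iv D27482) (iv F56603) D30518
theorem F73882 : act 4 n32507 = n30519 := d12_2 (iv F66880) D32507 (iv D30519)
theorem F73883 : act 5 n32507 = n31402 := d13_2 F66883 D32507 (iv D31402)
theorem F73884 : act 6 n32507 = n32225 := d14_2 (iv F66881) D32507 (iv D32225)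
theorem F73885 : act 3 n32507 = n32142 := d25_8 (iv F46432) F46431 (iv F47452) F47453 (iv F45542) D27141 (iv F66879) D32507 (iv F72496) (iv D32162) (iv F68942) F68941 (iv D28298) (iv D24466) (iv D20114) F25944 (iv F25058) F25059 (iv F25014) D19523 F36613 D22734 (iv F44763) (iv D21800) (iv D16459) F21688 (iv F28529) (iv D12543) F18049 D10196 F18055 D10201 D12560 D16881 F29772 F35226 F35225 D17125 D22422 F43876 F33170 (iv D14715) (iv D11386) F13613 D9111 F13632 D9144 D11442 F32648 F19677 F12432 (iv D4114) (iv D1970) (iv D967) F935 D967 (iv F3078) D3988 D8351 D11106 F19675 (iv F24586) (iv D14080) F19548 (iv F24516) D19259 F35917 (iv F39386) F46896 F46893 (iv F49494) (iv F49497) (iv F49499) (iv F56153) (iv F58458) (iv D27751) (iv D23638)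
def n32508 : Q := act 1 n30520
theorem D32508 : act 1 n30520 = n32508 := rfl
theorem F73886 : act 6 n32508 = n32508 := d10_2 F67067 D32508 (iv D32508) (iv F67067) F67065
def n32509 : Q := act 4 n30520
theorem D32509 : act 4 n30520 = n32509 := rfl
theorem F73887 : act 0 n32509 = n30646 := d3_1 D32509 F67274 (iv F66884)
theorem F73888 : act 2 n32509 = n30521 := d12_1 D32509 (iv D30521) D30520
theorem F73889 : act 5 n32509 = n30602 := d18_2 F73122 D32509 (iv F73121)
theorem F73890 : act 6 n32509 = n30643 := d19_2 F67067 D32509 F67264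
def n32510 : Q := act 4 n30524
theorem D32510 : act 4 n30524 = n32510 := rfl
theorem F73891 : act 1 n32510 = n30525 := d8_1 D32510 (iv D30525) D30524
theorem F73892 : act 2 n32510 = n32135 := d12_1 D32510 (iv D32135) (iv F66896)
theorem F73893 : act 3 n32510 = n31778 := d15_1 D32510 F71175 (iv F62923) (iv F71439) F71438
def n32511 : Q := act 1 n30526
theorem D32511 : act 1 n30526 = n32511 := rfl
theorem F73894 : act 3 n32511 = n31855 := d7_2 (iv F66902) D32511 (iv D31855)
theorem F73895 : act 6 n32511 = n32377 := d10_2 (iv F66903) D32511 (iv D32377) (iv F65844) F65842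
def n32512 : Q := act 2 n30527
theorem D32512 : act 2 n30527 = n32512 := rfl
theorem F73896 : act 0 n32512 = n31011 := d1_1 D32512 (iv D31011) (iv F66908)
theorem F73897 : act 3 n32512 = n31013 := d11_2 (iv F66904) D32512 (iv D31013) F59040 D27923 (iv F59048) F56185 (iv F59037) D31011 F68546 (iv D27921) F48351 D24005 (iv F56108) (iv F56629)
theorem F73898 : act 4 n32512 = n31013 := d12_2 (iv F66905) D32512 (iv D31013)
theorem F73899 : act 5 n32512 = n31312 := d13_2 (iv F66906) D32512 (iv D31312)
theorem F73900 : act 6 n32512 = n32480 := d14_2 (iv F66907) D32512 (iv D32480)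
def n32513 : Q := act 6 n30531
theorem D32513 : act 6 n30531 = n32513 := rfl
theorem F73901 : act 0 n32513 = n31418 := d5_1 D32513 F70004 F68097
theorem F73902 : act 2 n32513 = n30841 := d14_1 D32513 (iv D30841) (iv F66921)
theorem F73903 : act 3 n32513 = n32381 := d17_1 D32513 F73373 F71409
theorem F73904 : act 4 n32513 = n32506 := d19_1 D32513 (iv D32506) (iv F66922)
theorem F73905 : act 5 n32513 = n32378 := d22_2 F67204 D32513 F73362 F68293
def n32514 : Q := act 1 n30532
theorem D32514 : act 1 n30532 = n32514 := rfl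
theorem F73906 : act 3 n32514 = n31876 := d7_2 (iv F66925) D32514 (iv D31876)
def n32515 : Q := act 2 n30533
theorem D32515 : act 2 n30533 = n32515 := rfl
theorem F73907 : act 0 n32515 = n31037 := d1_1 D32515 (iv F69168) F69163
theorem F73908 : act 3 n32515 = n32130 := d11_2 (iv F66927) D32515 F72348 F63798 (iv F60794) F60795 (iv F60022) D31165 F69168 F68643 F64732 F53719 (iv F50043) F50044 F56664
theorem F73909 : act 4 n32515 = n31038 := d12_2 F69160 D32515 (iv F69159)
theorem F73910 : act 5 n32515 = n31150 := d13_2 (iv F66928) D32515 (iv D31150)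
theorem F73911 : act 6 n32515 = n30842 := d14_2 (iv F66929) D32515 (iv D30842)
def n32516 : Q := act 2 n30535
theorem D32516 : act 2 n30535 = n32516 := rfl
theorem F73912 : act 0 n32516 = n31440 := d1_1 D32516 F70067 F66938
theorem F73913 : act 1 n32516 = n30842 := d6_1 D32516 (iv D30842) (iv D27557) (iv F56678) D30535
theorem F73914 : act 4 n32516 = n30536 := d12_2 (iv F66936) D32516 (iv D30536)
theorem F73915 : act 5 n32516 = n32121 := d13_2 (iv F66937) D32516 (iv D32121)
theorem F73916 : act 6 n32516 = n31437 := d14_2 F66939 D32516 (iv D31437)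
theorem F73917 : act 3 n32516 = n32239 := d25_8 (iv F46560) F46559 (iv F47557) F47558 (iv F45626) D27150 (iv F66935) D32516 (iv F72865) (iv D32253) (iv F68985) F68984 (iv D28303) (iv D24470) (iv D20117) F25952 (iv F25066) F25067 (iv F25019) D19524 F36616 D22736 (iv F44769) (iv D21852) (iv D16492) F21722 (iv F34616) (iv D12654) F18099 D10248 F18105 D10253 D12671 (iv F29826) F29825 F29219 F29220 D16931 D22231 F43338 F33207 (iv D14692) (iv D11376) F13610 D9101 F13622 D9127 D11436 F32938 F19612 F12350 (iv D4099) (iv D1963) (iv D963) F921 D963 (iv F3059) D3965 D8308 D11076 F19610 (iv F24531) (iv D14033) (iv F19543) (iv F24566) D19316 F36051 (iv F39286) (iv F47070) F47071 (iv F49572) (iv F49575) (iv F49577) (iv F56222) (iv F58566) (iv D27779) (iv D23691)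
def n32517 : Q := act 1 n30537
theorem D32517 : act 1 n30537 = n32517 := rfl
theorem F73918 : act 5 n32517 = n32517 := d9_2 (iv F67077) D32517 (iv D32517) F67077 F67075
def n32518 : Q := act 4 n30537
theorem D32518 : act 4 n30537 = n32518 := rfl
theorem F73919 : act 0 n32518 = n30665 := d3_1 D32518 F67328 (iv F66940)
theorem F73920 : act 2 n32518 = n30538 := d12_1 D32518 (iv D30538) D30537
theorem F73921 : act 5 n32518 = n30663 := d18_2 (iv F67077) D32518 F67323
theorem F73922 : act 6 n32518 = n30590 := d19_2 F73268 D32518 (iv F73267)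
def n32519 : Q := act 4 n30541
theorem D32519 : act 4 n30541 = n32519 := rfl
theorem F73923 : act 1 n32519 = n30542 := d8_1 D32519 (iv D30542) D30541
theorem F73924 : act 2 n32519 = n32233 := d12_1 D32519 (iv D32233) (iv F66952)
theorem F73925 : act 3 n32519 = n31734 := d15_1 D32519 F71034 (iv F62770) (iv F71309) F71308
def n32520 : Q := act 1 n30543
theorem D32520 : act 1 n30543 = n32520 := rfl
theorem F73926 : act 3 n32520 = n31813 := d7_2 (iv F66958) D32520 (iv D31813)
theorem F73927 : act 5 n32520 = n32392 := d9_2 (iv F66959) D32520 (iv D32392) (iv F65896) F65894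
theorem F73928 : act 0 n32511 = n32520 := d2_3 F73926 F71419 (iv F73894)
def n32521 : Q := act 2 n30544
theorem D32521 : act 2 n30544 = n32521 := rfl
theorem F73929 : act 0 n32521 = n30984 := d1_1 D32521 (iv D30984) F66964
theorem F73930 : act 3 n32521 = n30986 := d11_2 (iv F66960) D32521 (iv D30986) F58969 D27895 (iv F58977) F56254 (iv F58966) D30984 F68456 (iv D27893) F48284 D23980 (iv F56193) (iv F56704)
theorem F73931 : act 4 n32521 = n30986 := d12_2 (iv F66961) D32521 (iv D30986)
theorem F73932 : act 5 n32521 = n32484 := d13_2 F66963 D32521 (iv D32484)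
theorem F73933 : act 6 n32521 = n31283 := d14_2 (iv F66962) D32521 (iv D31283)
def n32522 : Q := act 5 n30548
theorem D32522 : act 5 n30548 = n32522 := rfl
theorem F73934 : act 0 n32522 = n31380 := d4_1 D32522 F69886 (iv F67914)
theorem F73935 : act 2 n32522 = n30783 := d13_1 D32522 (iv D30783) (iv F66977)
theorem F73936 : act 3 n32522 = n32395 := d16_1 D32522 F73430 F71281
theorem F73937 : act 4 n32522 = n32505 := d18_1 D32522 (iv D32505) (iv F66978)
theorem F73938 : act 6 n32522 = n32391 := d22_1 D32522 F73417 F68223 (iv F67914)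
def n32523 : Q := act 1 n30549
theorem D32523 : act 1 n30549 = n32523 := rfl
theorem F73939 : act 3 n32523 = n31834 := d7_2 (iv F66981) D32523 (iv D31834)
def n32524 : Q := act 2 n30550
theorem D32524 : act 2 n30550 = n32524 := rfl
theorem F73940 : act 0 n32524 = n31074 := d1_1 D32524 (iv F69115) F69110
theorem F73941 : act 3 n32524 = n32144 := d11_2 (iv F66983) D32524 F72409 F63905 (iv F60638) F60639 (iv F59934) D31155 F69115 F68792 F63938 F53116 (iv F49909) F49910 F56739
theorem F73942 : act 4 n32524 = n31075 := d12_2 F69107 D32524 (iv F69106)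
theorem F73943 : act 5 n32524 = n30787 := d13_2 (iv F66984) D32524 (iv D30787)
theorem F73944 : act 6 n32524 = n31146 := d14_2 (iv F66985) D32524 (iv D31146)
def n32525 : Q := act 1 n30573
theorem D32525 : act 1 n30573 = n32525 := rfl
theorem F73945 : act 3 n32525 = n30574 := d7_2 (iv F67080) D32525 (iv D30574)
theorem F73946 : act 5 n32525 = n32438 := d9_2 (iv F67081) D32525 (iv D32438) (iv F70901) F70897
def n32526 : Q := act 0 n30574
theorem D32526 : act 0 n30574 = n32526 := rfl
theorem F73947 : act 1 n32526 = n31334 := d0_2 D30574 D32526 F69748 (iv F69593) (iv F71018) F71019 (iv D30577) (iv D27184) (iv F56942)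
theorem F73948 : act 2 n32526 = n31972 := d1_2 (iv F67082) D32526 (iv D31972)
def n32527 : Q := act 0 n30576
theorem D32527 : act 0 n30576 = n32527 := rfl
theorem F73949 : act 3 n32527 = n30577 := d2_2 (iv F67086) D32527 (iv D30577)
theorem F73950 : act 6 n32527 = n31621 := d5_2 (iv F67087) D32527 (iv D31621)
theorem F73951 : act 1 n31280 = n32527 := d7_3 F73949 (iv F71019) F71020
def n32528 : Q := act 2 n30576
theorem D32528 : act 2 n30576 = n32528 := rfl
theorem F73952 : act 6 n32528 = n31622 := d14_2 (iv F67087) D32528 (iv D31622)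
def n32529 : Q := act 5 n30576
theorem D32529 : act 5 n30576 = n32529 := rfl
theorem F73953 : act 3 n32529 = n30578 := d16_1 D32529 (iv D30578) (iv F67086)
theorem F73954 : act 6 n32529 = n32326 := d22_1 D32529 F73163 (iv F73950) (iv D32527)
def n32530 : Q := act 1 n30578
theorem D32530 : act 1 n30578 = n32530 := rfl
theorem F73955 : act 0 n32530 = n30668 := d0_1 D32530 (iv D30668) F57260 (iv F52751) F52750 D28362 D31219 (iv F70643) F70642
theorem F73956 : act 2 n32530 = n31720 := d6_2 (iv F67089) D32530 (iv D31720) (iv F63053) (iv F65387)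
theorem F73957 : act 4 n32530 = n32327 := d8_2 (iv F67090) D32530 (iv D32327)
theorem F73958 : act 5 n32530 = n30579 := d9_2 D30578 D32530 (iv D30579) (iv D27185) D27184
def n32531 : Q := act 0 n30579
theorem D32531 : act 0 n30579 = n32531 := rfl
theorem F73959 : act 1 n32531 = n31225 := d0_2 D30579 D32531 (iv D31225) (iv D28370) (iv F49746) D28386 (iv F62457) F62458 (iv F56957)
theorem F73960 : act 2 n32531 = n32327 := d1_2 F73848 D32531 (iv F73847)
theorem F73961 : act 3 n32531 = n31395 := d2_2 F70091 D32531 F70116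
theorem F73962 : act 4 n32531 = n31720 := d3_2 F73803 D32531 (iv F73800)
theorem F73963 : act 5 n32531 = n30668 := d4_2 F73958 D32531 (iv F73955)
def n32532 : Q := act 1 n30580
theorem D32532 : act 1 n30580 = n32532 := rfl
theorem F73964 : act 3 n32532 = n30581 := d7_2 (iv F67094) D32532 (iv D30581)
theorem F73965 : act 6 n32532 = n32451 := d10_2 (iv F67095) D32532 (iv D32451) (iv F70935) F70931
def n32533 : Q := act 0 n30581
theorem D32533 : act 0 n30581 = n32533 := rfl
theorem F73966 : act 1 n32533 = n31360 := d0_2 D30581 D32533 F69815 (iv F69671) (iv F71158) F71159 (iv D30584) (iv D27196) (iv F56977)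
theorem F73967 : act 2 n32533 = n31932 := d1_2 (iv F67096) D32533 F71778
def n32534 : Q := act 0 n30583
theorem D32534 : act 0 n30583 = n32534 := rfl
theorem F73968 : act 3 n32534 = n30584 := d2_2 (iv F67100) D32534 (iv D30584)
theorem F73969 : act 5 n32534 = n31630 := d4_2 (iv F67101) D32534 (iv D31630)
theorem F73970 : act 1 n31309 = n32534 := d7_3 F73968 (iv F71159) F71161
def n32535 : Q := act 2 n30583
theorem D32535 : act 2 n30583 = n32535 := rfl
theorem F73971 : act 5 n32535 = n31631 := d13_2 (iv F67101) D32535 (iv D31631)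
def n32536 : Q := act 6 n30583
theorem D32536 : act 6 n30583 = n32536 := rfl
theorem F73972 : act 3 n32536 = n30585 := d17_1 D32536 (iv D30585) (iv F67100)
theorem F73973 : act 5 n32536 = n32364 := d22_2 (iv F67101) D32536 F73309 (iv D31630)
def n32537 : Q := act 1 n30585
theorem D32537 : act 1 n30585 = n32537 := rfl
theorem F73974 : act 0 n32537 = n30648 := d0_1 D32537 (iv D30648) F57185 (iv F52559) F52558 D28390 D31242 (iv F70668) F70667
theorem F73975 : act 2 n32537 = n31765 := d6_2 (iv F67103) D32537 (iv D31765) (iv F63389) F65668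
theorem F73976 : act 4 n32537 = n32365 := d8_2 (iv F67104) D32537 (iv D32365)
theorem F73977 : act 6 n32537 = n30586 := d10_2 D30585 D32537 (iv D30586) (iv D27197) D27196
def n32538 : Q := act 0 n30586
theorem D32538 : act 0 n30586 = n32538 := rfl
theorem F73978 : act 1 n32538 = n31249 := d0_2 D30586 D32538 (iv D31249) (iv D28399) (iv F49798) D28415 (iv F62495) F62496 (iv F56992)
theorem F73979 : act 2 n32538 = n32365 := d1_2 F73840 D32538 (iv F73839)
theorem F73980 : act 3 n32538 = n31432 := d2_2 F70246 D32538 (iv F70248)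
theorem F73981 : act 4 n32538 = n31765 := d3_2 F73813 D32538 (iv F73810)
theorem F73982 : act 6 n32538 = n30648 := d5_2 F73977 D32538 (iv F73974)
def n32539 : Q := act 3 n30590
theorem D32539 : act 3 n30590 = n32539 := rfl
theorem F73983 : act 1 n32539 = n31979 := d7_1 D32539 (iv F71900) F71899
def n32540 : Q := act 3 n30592
theorem D32540 : act 3 n30592 = n32540 := rfl
theorem F73984 : act 0 n32540 = n32047 := d2_1 D32540 F72046 F71985
theorem F73985 : act 1 n32540 = n30593 := d7_1 D32540 (iv D30593) D30592
theorem F73986 : act 4 n32540 = n31441 := d15_2 F71962 D32540 F70072 F63459 (iv F71961)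
theorem F73987 : act 5 n32540 = n31435 := d16_2 F71984 D32540 (iv F71982)
def n32541 : Q := act 2 n30593
theorem D32541 : act 2 n30593 = n32541 := rfl
theorem F73988 : act 0 n32541 = n31545 := d1_1 D32541 (iv D31545) (iv F67118)
theorem F73989 : act 4 n32541 = n31539 := d12_2 F67120 D32541 F70359
theorem F73990 : act 5 n32541 = n31531 := d13_2 (iv F67119) D32541 F70329
def n32542 : Q := act 6 n30593
theorem D32542 : act 6 n30593 = n32542 := rfl
theorem F73991 : act 0 n32542 = n31546 := d5_1 D32542 (iv D31546) (iv F67118)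
theorem F73992 : act 3 n32542 = n30594 := d17_1 D32542 (iv D30594) D30593
theorem F73993 : act 4 n32542 = n31542 := d19_1 D32542 (iv D31542) F67120
theorem F73994 : act 5 n32542 = n31908 := d20_1 D32542 F71603 (iv F63075) D31546 F70378 F66805 (iv F67119)
def n32543 : Q := act 1 n30594
theorem D32543 : act 1 n30594 = n32543 := rfl
theorem F73995 : act 0 n32543 = n32517 := d0_1 D32543 (iv D32517) F66940 (iv F63475) F63474 F63452 F52818 (iv F62830) (iv F67121)
theorem F73996 : act 5 n32543 = n32543 := d9_2 (iv F67123) D32543 (iv D32543) F67123 F63058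
def n32544 : Q := act 1 n30595
theorem D32544 : act 1 n30595 = n32544 := rfl
theorem F73997 : act 0 n32544 = n31436 := d0_1 D32544 F70673 (iv D31635) (iv D28982) F51959 F40736 (iv F45892) D27209 D30595
theorem F73998 : act 2 n32544 = n31401 := d6_2 F71986 D32544 F70648 (iv F72116) F72115
theorem F73999 : act 3 n32544 = n31366 := d7_2 (iv F67124) D32544 (iv D31366)
theorem F74000 : act 4 n32544 = n31400 := d8_2 F71983 D32544 (iv F71980)
theorem F74001 : act 5 n32544 = n30662 := d9_2 F71963 D32544 (iv D30662) (iv F66723) F71964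
theorem F74002 : act 6 n31480 = n32544 := d20_0 F74001 F67319 (iv F67116) (iv F70063) F70062 D31535 (iv F70347)
def n32545 : Q := act 1 n30598
theorem D32545 : act 1 n30598 = n32545 := rfl
theorem F74003 : act 0 n32545 = n32539 := d0_1 D32545 F73983 F71802 (iv F70676) F70675 (iv D30597) F57025 D27211 D30598
theorem F74004 : act 2 n32545 = n31331 := d6_2 (iv F67130) D32545 (iv F70963) (iv F71160) F71159
theorem F74005 : act 3 n32545 = n31163 := d7_2 (iv F71233) D32545 (iv F71230)
theorem F74006 : act 4 n32545 = n31335 := d8_2 (iv F67131) D32545 F69750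
theorem F74007 : act 5 n32545 = n31330 := d9_2 (iv F67132) D32545 F69740 (iv F69353) F69351
def n32546 : Q := act 3 n30602
theorem D32546 : act 3 n30602 = n32546 := rfl
theorem F74008 : act 1 n32546 = n32094 := d7_1 D32546 (iv F72284) F72283
def n32547 : Q := act 3 n30604
theorem D32547 : act 3 n30604 = n32547 := rfl
theorem F74009 : act 0 n32547 = n31919 := d2_1 D32547 F71642 F71571
theorem F74010 : act 1 n32547 = n30605 := d7_1 D32547 (iv D30605) D30604
theorem F74011 : act 4 n32547 = n31406 := d15_2 F71548 D32547 F69959 F63135 (iv F71547)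
theorem F74012 : act 6 n32547 = n31398 := d17_2 F71570 D32547 (iv F71568)
def n32548 : Q := act 2 n30605
theorem D32548 : act 2 n30605 = n32548 := rfl
theorem F74013 : act 0 n32548 = n31495 := d1_1 D32548 (iv D31495) (iv F67143)
theorem F74014 : act 4 n32548 = n31485 := d12_2 F67145 D32548 F70199
theorem F74015 : act 6 n32548 = n31477 := d14_2 (iv F67144) D32548 F70177
def n32549 : Q := act 5 n30605
theorem D32549 : act 5 n30605 = n32549 := rfl
theorem F74016 : act 0 n32549 = n31496 := d4_1 D32549 (iv D31496) (iv F67143)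
theorem F74017 : act 3 n32549 = n30606 := d16_1 D32549 (iv D30606) D30605
theorem F74018 : act 4 n32549 = n31491 := d18_1 D32549 (iv D31491) F67145
theorem F74019 : act 6 n32549 = n32037 := d20_2 (iv F67144) D32549 F72006 (iv F63409) D31496 F70228 F66792
def n32550 : Q := act 1 n30606
theorem D32550 : act 1 n30606 = n32550 := rfl
theorem F74020 : act 0 n32550 = n32508 := d0_1 D32550 (iv D32508) F66884 (iv F63152) F63151 F63129 F52634 (iv F62684) (iv F67146)
theorem F74021 : act 6 n32550 = n32550 := d10_2 (iv F67148) D32550 (iv D32550) F67148 F63394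
def n32551 : Q := act 1 n30607
theorem D32551 : act 1 n30607 = n32551 := rfl
theorem F74022 : act 0 n32551 = n31401 := d0_1 D32551 F70648 (iv D31626) (iv D28967) F51932 F40719 (iv F45914) D27221 D30607
theorem F74023 : act 2 n32551 = n31436 := d6_2 F71572 D32551 F70673 (iv F71723) F71722
theorem F74024 : act 3 n32551 = n31340 := d7_2 (iv F67149) D32551 (iv D31340)
theorem F74025 : act 4 n32551 = n31399 := d8_2 F71569 D32551 (iv F71566)
theorem F74026 : act 6 n32551 = n30642 := d10_2 F71549 D32551 (iv D30642) (iv F66751) F71550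
theorem F74027 : act 5 n31534 = n32551 := d20_7 F74026 F67260 (iv F67141) (iv F69949) F69950 D31481 (iv F70341)
def n32552 : Q := act 1 n30610
theorem D32552 : act 1 n30610 = n32552 := rfl
theorem F74028 : act 0 n32552 = n32546 := d0_1 D32552 F74008 F72203 (iv F70651) F70650 (iv D30609) F57055 D27223 D30610
theorem F74029 : act 2 n32552 = n31357 := d6_2 (iv F67158) D32552 (iv F71107) F71108 F71019
theorem F74030 : act 3 n32552 = n31153 := d7_2 (iv F71091) D32552 (iv F71088)
theorem F74031 : act 4 n32552 = n31361 := d8_2 (iv F67159) D32552 F69817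
theorem F74032 : act 6 n32552 = n31356 := d10_2 (iv F67160) D32552 F69807 (iv F69327) F69324
def n32553 : Q := act 5 n30613
theorem D32553 : act 5 n30613 = n32553 := rfl
theorem F74033 : act 0 n32553 = n32391 := d4_1 D32553 F73417 (iv F68224)
theorem F74034 : act 2 n32553 = n30614 := d13_1 D32553 (iv D30614) D30613
theorem F74035 : act 3 n32553 = n32393 := d16_1 D32553 (iv F73424) F73425
theorem F74036 : act 4 n32553 = n30616 := d18_1 D32553 (iv D30616) (iv F67168)
theorem F74037 : act 6 n32553 = n31380 := d20_2 (iv F67169) D32553 F69886 (iv F68223) (iv F73417) (iv F73938) (iv D32522)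
def n32554 : Q := act 6 n30616
theorem D32554 : act 6 n30616 = n32554 := rfl
theorem F74038 : act 0 n32554 = n32505 := d5_1 D32554 F73876 F72717
theorem F74039 : act 1 n32554 = n32224 := d10_1 D32554 (iv D32224) F64552 D30627 (iv F67213)
theorem F74040 : act 2 n32554 = n30617 := d14_1 D32554 (iv D30617) (iv F67177)
theorem F74041 : act 3 n32554 = n31499 := d17_1 D32554 (iv F72716) F72715
theorem F74042 : act 4 n32554 = n31380 := d19_1 D32554 (iv F74037) F74036
theorem F74043 : act 5 n32554 = n31498 := d20_1 D32554 F70237 D32220 (iv F73876) (iv D32505) F66840 D30616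
def n32555 : Q := act 2 n30618
theorem D32555 : act 2 n30618 = n32555 := rfl
theorem F74044 : act 0 n32555 = n32452 := d1_1 D32555 (iv D32452) (iv F67183)
theorem F74045 : act 5 n32555 = n31328 := d13_2 (iv F67740) D32555 (iv F69738)
theorem F74046 : act 6 n32555 = n31647 := d14_2 F70559 D32555 F70704
theorem F74047 : act 3 n32555 = n31331 := d21_1 D32555 (iv F74004) F74005 (iv D31163) F60006 (iv F55916) (iv F66484) (iv F67183)
theorem F74048 : act 1 n31644 = n32555 := d7_3 F74047 (iv F70963) F70964
def n32556 : Q := act 2 n30620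
theorem D32556 : act 2 n30620 = n32556 := rfl
theorem F74049 : act 0 n32556 = n30622 := d1_1 D32556 (iv D30622) (iv F67188)
theorem F74050 : act 3 n32556 = n32541 := d11_2 D30620 D32556 (iv D32541) (iv D30593) (iv D27207) F45891 D23135 D27237 D30622 (iv F70374) (iv D31545) (iv F63080) F63079 F52619 D27235
theorem F74051 : act 4 n32556 = n30876 := d12_2 (iv F67189) D32556 F68082
theorem F74052 : act 5 n32556 = n30875 := d13_2 (iv F67190) D32556 F68080
theorem F74053 : act 6 n32556 = n31842 := d14_2 (iv F67191) D32556 (iv D31842)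
def n32557 : Q := act 6 n30622
theorem D32557 : act 6 n30622 = n32557 := rfl
theorem F74054 : act 0 n32557 = n31842 := d5_1 D32557 (iv F74053) F74049
theorem F74055 : act 2 n32557 = n30623 := d14_1 D32557 (iv D30623) D30622
theorem F74056 : act 4 n32557 = n30885 := d19_1 D32557 (iv D30885) (iv F67195)
theorem F74057 : act 5 n32557 = n32502 := d20_1 D32557 F73866 (iv F74052) F74053 F71374 F66837 (iv F67196)
theorem F74058 : act 1 n32312 = n32557 := d9_5 F74057 F73864 (iv D31108) (iv F65353) (iv F73105)
def n32558 : Q := act 6 n30624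
theorem D32558 : act 6 n30624 = n32558 := rfl
theorem F74059 : act 0 n32558 = n32378 := d5_1 D32558 F73362 F68293
theorem F74060 : act 1 n32558 = n32553 := d10_1 D32558 F74037 F69885 (iv D30860) (iv F67202)
theorem F74061 : act 2 n32558 = n30625 := d14_1 D32558 (iv D30625) D30624
theorem F74062 : act 3 n32558 = n32379 := d17_1 D32558 (iv F73367) F73368
theorem F74063 : act 4 n32558 = n30627 := d19_1 D32558 (iv D30627) (iv F67203)
theorem F74064 : act 5 n32558 = n31418 := d20_1 D32558 F70004 (iv F68296) (iv F73362) (iv F73905) (iv D32513) (iv F67204)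
def n32559 : Q := act 5 n30627
theorem D32559 : act 5 n30627 = n32559 := rfl
theorem F74065 : act 0 n32559 = n32506 := d4_1 D32559 F73879 F73035
theorem F74066 : act 1 n32559 = n32120 := d9_1 D32559 (iv D32120) F63718 D30616 F67213
theorem F74067 : act 2 n32559 = n30628 := d13_1 D32559 (iv D30628) (iv F67212)
theorem F74068 : act 3 n32559 = n31549 := d16_1 D32559 (iv F73033) F73031
theorem F74069 : act 4 n32559 = n31418 := d18_1 D32559 (iv F74064) F74063
theorem F74070 : act 6 n32559 = n31548 := d20_2 D30627 D32559 F70387 D32294 (iv F73879) (iv D32506) F66856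
def n32560 : Q := act 2 n30629
theorem D32560 : act 2 n30629 = n32560 := rfl
theorem F74071 : act 0 n32560 = n32439 := d1_1 D32560 (iv D32439) (iv F67219)
theorem F74072 : act 5 n32560 = n31642 := d13_2 F70596 D32560 F70692
theorem F74073 : act 6 n32560 = n31354 := d14_2 (iv F67565) D32560 (iv F69805)
theorem F74074 : act 3 n32560 = n31357 := d21_1 D32560 (iv F74029) F74030 (iv D31153) F59914 (iv F55808) (iv F66434) (iv F67219)
theorem F74075 : act 1 n31639 = n32560 := d7_3 F74074 (iv F71107) F71109
def n32561 : Q := act 2 n30631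
theorem D32561 : act 2 n30631 = n32561 := rfl
theorem F74076 : act 0 n32561 = n30633 := d1_1 D32561 (iv D30633) (iv F67225)
theorem F74077 : act 3 n32561 = n32548 := d11_2 D30631 D32561 (iv D32548) (iv D30605) (iv D27219) F45913 D23150 D27252 D30633 (iv F70224) (iv D31495) (iv F63414) F63413 F52797 D27250
theorem F74078 : act 4 n32561 = n30819 := d12_2 (iv F67226) D32561 F67898
theorem F74079 : act 5 n32561 = n31798 := d13_2 (iv F67227) D32561 (iv D31798)
theorem F74080 : act 6 n32561 = n30817 := d14_2 (iv F67228) D32561 F67893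
def n32562 : Q := act 5 n30633
theorem D32562 : act 5 n30633 = n32562 := rfl
theorem F74081 : act 0 n32562 = n31798 := d4_1 D32562 (iv F74079) F74076
theorem F74082 : act 1 n32562 = n32350 := d9_1 D32562 F73251 (iv F74039) F74043 F70235
theorem F74083 : act 2 n32562 = n30634 := d13_1 D32562 (iv D30634) D30633
theorem F74084 : act 4 n32562 = n30829 := d18_1 D32562 (iv D30829) (iv F67232)
theorem F74085 : act 6 n32562 = n32499 := d20_2 (iv F67233) D32562 F73855 (iv F74080) F74079 F71242 F66827
def n32563 : Q := act 1 n30635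
theorem D32563 : act 1 n30635 = n32563 := rfl
theorem F74086 : act 2 n32563 = n32508 := d6_2 D30635 D32563 (iv D32508) (iv D30520) (iv F57154)
theorem F74087 : act 4 n32563 = n32550 := d8_2 (iv F67240) D32563 (iv D32550)
theorem F74088 : act 5 n32563 = n31891 := d9_2 (iv F67241) D32563 F71535 D31895 (iv F71550)
theorem F74089 : act 6 n32563 = n32563 := d10_2 (iv F67242) D32563 (iv D32563) F67242 F57162
theorem F74090 : act 3 n31892 = n32563 := d16_3 F74088 (iv D31891) D31892
def n32564 : Q := act 3 n30635
theorem D32564 : act 3 n30635 = n32564 := rfl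
theorem F74091 : act 0 n32564 = n30636 := d2_1 D32564 (iv D30636) (iv F67239)
theorem F74092 : act 1 n32564 = n31892 := d7_1 D32564 F74090 (iv D32563)
theorem F74093 : act 5 n32564 = n31896 := d16_2 (iv F67241) D32564 F71551
theorem F74094 : act 6 n32564 = n30638 := d17_2 (iv F67242) D32564 (iv D30638)
def n32565 : Q := act 5 n30636
theorem D32565 : act 5 n30636 = n32565 := rfl
theorem F74095 : act 0 n32565 = n31896 := d4_1 D32565 (iv F74093) F74091
theorem F74096 : act 1 n32565 = n31534 := d9_1 D32565 F74027 (iv D32551) F67150 (iv F67243)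
theorem F74097 : act 3 n32565 = n30637 := d16_1 D32565 (iv D30637) D30636
theorem F74098 : act 4 n32565 = n31533 := d18_1 D32565 F71558 F71555
theorem F74099 : act 6 n32565 = n32038 := d20_2 (iv F67244) D32565 F72011 (iv F74094) F74093 F71553 (iv D30641)
def n32566 : Q := act 4 n30638
theorem D32566 : act 4 n30638 = n32566 := rfl
theorem F74100 : act 0 n32566 = n30640 := d3_1 D32566 (iv D30640) (iv F67249)
theorem F74101 : act 1 n32566 = n32566 := d8_1 D32566 (iv D32566) F67250
theorem F74102 : act 2 n32566 = n31349 := d12_1 D32566 F69794 F67444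
theorem F74103 : act 3 n32566 = n31488 := d15_1 D32566 F72007 (iv D32037) F63395 D30638
theorem F74104 : act 5 n32566 = n31487 := d18_2 F72011 D32566 (iv F72010)
def n32567 : Q := act 1 n30639
theorem D32567 : act 1 n30639 = n32567 := rfl
theorem F74105 : act 2 n32567 = n31884 := d6_2 D30639 D32567 (iv D31884) (iv D29293) (iv F57163)
theorem F74106 : act 5 n32567 = n32537 := d9_2 F73306 D32567 (iv D32537) F67105 (iv F73304)
def n32568 : Q := act 3 n30643
theorem D32568 : act 3 n30643 = n32568 := rfl
theorem F74107 : act 0 n32568 = n30644 := d2_1 D32568 (iv D30644) (iv F67262)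
theorem F74108 : act 1 n32568 = n32568 := d7_1 D32568 (iv D32568) F67263
theorem F74109 : act 4 n32568 = n31352 := d15_2 (iv F67264) D32568 (iv F73489) F73490 F73110
theorem F74110 : act 5 n32568 = n31356 := d16_2 (iv F67265) D32568 F69809
theorem F74111 : act 2 n32568 = n31350 := d21_2 D30643 D32568 F69796 (iv D30726) (iv D27375) (iv D23237) (iv F46022) D27263
def n32569 : Q := act 2 n30644
theorem D32569 : act 2 n30644 = n32569 := rfl
theorem F74112 : act 0 n32569 = n31350 := d1_1 D32569 (iv F74111) F74107
theorem F74113 : act 3 n32569 = n32180 := d11_2 D30644 D32569 F72564 (iv D30724) (iv D27373) (iv F57166) D30643 D32568 F74111 F69796 (iv D30726) (iv D27375) (iv D23237) (iv F46022) D27264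
theorem F74114 : act 5 n31355 = n32569 := d23_0 (iv D32569) F67266 (iv F69517) (iv D31251) F60470 (iv D24541) F38255 (iv F38249) (iv D20188) (iv D14968) (iv F20464) F20467 D14965 D20181 F38234 D20295 (iv F50157) D28557 D31355
theorem F74115 : act 4 n32569 = n31351 := d18_1 F74114 F69800 (iv F69806)
theorem F74116 : act 6 n32569 = n32097 := d22_1 F74114 F72216 (iv D31357) D31355
def n32570 : Q := act 4 n30644
theorem D32570 : act 4 n30644 = n32570 := rfl
theorem F74117 : act 0 n32570 = n31352 := d3_1 D32570 (iv F74109) F74107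
theorem F74118 : act 1 n32570 = n31766 := d8_1 D32570 F71137 (iv F67266)
theorem F74119 : act 2 n32570 = n31351 := d12_1 D32570 (iv F74115) (iv D32569)
theorem F74120 : act 3 n32570 = n32316 := d15_1 D32570 F73125 F65320 F57288 D30644
theorem F74121 : act 5 n31359 = n32570 := d16_0 F74120 (iv D32316) (iv F69813)
def n32571 : Q := act 5 n30644
theorem D32571 : act 5 n30644 = n32571 := rfl
theorem F74122 : act 0 n32571 = n31356 := d4_1 D32571 (iv F74110) F74107
theorem F74123 : act 1 n32571 = n32319 := d9_1 D32571 F73131 F70639 (iv F63555) (iv F67266)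
theorem F74124 : act 2 n32571 = n31355 := d13_1 D32571 F74114 (iv D32569)
theorem F74125 : act 3 n32571 = n30645 := d16_1 D32571 (iv D30645) D30644
theorem F74126 : act 4 n32571 = n31359 := d18_1 D32571 F74121 (iv D32570)
theorem F74127 : act 6 n32546 = n32571 := d24_0 (iv D32571) F67266 F63556 (iv F62219) (iv F63054) (iv D29318) (iv F63035) (iv D29309) (iv F52584) (iv F60878) (iv F63677) F63680 D32094 (iv F74008)
def n32572 : Q := act 6 n30644
theorem D32572 : act 6 n30644 = n32572 := rfl
theorem F74128 : act 1 n32572 = n32087 := d10_1 D32572 F72178 F63620 (iv F63556) (iv F67266)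
theorem F74129 : act 2 n32572 = n32097 := d14_1 D32572 (iv F74116) (iv D32569)
theorem F74130 : act 3 n32572 = n30646 := d17_1 D32572 (iv D30646) D30644
theorem F74131 : act 5 n32572 = n32552 := d22_2 (iv D32571) D32572 F74032 (iv F74122)
def n32573 : Q := act 3 n30648
theorem D32573 : act 3 n30648 = n32573 := rfl
theorem F74132 : act 1 n32573 = n30649 := d7_1 D32573 (iv D30649) D30648
theorem F74133 : act 6 n32573 = n31432 := d17_2 F73982 D32573 (iv F73980)
theorem F74134 : act 5 n31504 = n32573 := d22_2 F70247 D31504 F74133 (iv F70248)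
def n32574 : Q := act 5 n30648
theorem D32574 : act 5 n30648 = n32574 := rfl
theorem F74135 : act 0 n32574 = n32567 := d4_1 D32574 F74106 F73974
theorem F74136 : act 2 n32574 = n31513 := d13_1 D32574 (iv F73814) F73811
theorem F74137 : act 3 n32574 = n31504 := d16_1 D32574 F74134 (iv D32573)
theorem F74138 : act 6 n32574 = n31502 := d22_1 D32574 F70250 (iv F73977) F73974
def n32575 : Q := act 4 n30649
theorem D32575 : act 4 n30649 = n32575 := rfl
theorem F74139 : act 0 n32575 = n30651 := d3_1 D32575 (iv D30651) (iv F67278)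
theorem F74140 : act 2 n32575 = n32346 := d12_1 D32575 F73237 (iv F67279)
theorem F74141 : act 3 n32575 = n31474 := d15_1 D32575 F70166 (iv F66795) F66796 D30649
theorem F74142 : act 6 n32575 = n31425 := d19_2 F67280 D32575 F70032
def n32576 : Q := act 6 n30651
theorem D32576 : act 6 n30651 = n32576 := rfl
theorem F74143 : act 0 n32576 = n31425 := d5_1 D32576 (iv F74142) F74139
theorem F74144 : act 2 n32576 = n32344 := d14_1 D32576 (iv F73242) F73240
theorem F74145 : act 4 n32576 = n30652 := d19_1 D32576 (iv D30652) D30651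
theorem F74146 : act 5 n32576 = n32134 := d24_1 D32576 (iv D32134) (iv F71184) F71186 F70799 F69658 F69656 F65100 F63916 (iv F63915) (iv F66688) F66690 D31065 (iv F68766)
def n32577 : Q := act 1 n30652
theorem D32577 : act 1 n30652 = n32577 := rfl
theorem F74147 : act 0 n32577 = n31414 := d0_1 D32577 (iv D31414) (iv D28640) (iv D24760) F38594 D20354 D24775 D28658 (iv F67287)
theorem F74148 : act 3 n32577 = n30653 := d7_2 (iv F67289) D32577 (iv D30653)
theorem F74149 : act 5 n32577 = n31673 := d9_2 F67290 D32577 (iv D31673) F68067 F68064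
theorem F74150 : act 6 n32577 = n31586 := d10_2 D30652 D32577 F70502 F69479 F62995
def n32578 : Q := act 1 n30655
theorem D32578 : act 1 n30655 = n32578 := rfl
theorem F74151 : act 2 n32578 = n32517 := d6_2 D30655 D32578 (iv D32517) (iv D30537) F57225
theorem F74152 : act 4 n32578 = n32543 := d8_2 (iv F67299) D32578 (iv D32543)
theorem F74153 : act 5 n32578 = n32578 := d9_2 (iv F67300) D32578 (iv D32578) F67300 F57234
theorem F74154 : act 6 n32578 = n32023 := d10_2 (iv F67301) D32578 F71946 D32027 (iv F71964)
theorem F74155 : act 3 n32024 = n32578 := d17_3 F74154 (iv D32023) D32024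
def n32579 : Q := act 3 n30655
theorem D32579 : act 3 n30655 = n32579 := rfl
theorem F74156 : act 0 n32579 = n30656 := d2_1 D32579 (iv D30656) (iv F67298)
theorem F74157 : act 1 n32579 = n32024 := d7_1 D32579 F74155 (iv D32578)
theorem F74158 : act 5 n32579 = n30658 := d16_2 (iv F67300) D32579 (iv D30658)
theorem F74159 : act 6 n32579 = n32028 := d17_2 (iv F67301) D32579 F71965
def n32580 : Q := act 6 n30656
theorem D32580 : act 6 n30656 = n32580 := rfl
theorem F74160 : act 0 n32580 = n32028 := d5_1 D32580 (iv F74159) F74156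
theorem F74161 : act 1 n32580 = n31480 := d10_1 D32580 F74002 (iv D32544) (iv F67125) (iv F67302)
theorem F74162 : act 3 n32580 = n30657 := d17_1 D32580 (iv D30657) D30656
theorem F74163 : act 4 n32580 = n31479 := d19_1 D32580 F71972 F71969
theorem F74164 : act 5 n32580 = n31909 := d20_1 D32580 F71608 (iv F74158) F74159 F71967 (iv D30661) (iv F67303)
def n32581 : Q := act 4 n30658
theorem D32581 : act 4 n30658 = n32581 := rfl
theorem F74165 : act 0 n32581 = n30660 := d3_1 D32581 (iv D30660) (iv F67308)
theorem F74166 : act 1 n32581 = n32581 := d8_1 D32581 (iv D32581) F67309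
theorem F74167 : act 2 n32581 = n31323 := d12_1 D32581 F69727 F67671
theorem F74168 : act 3 n32581 = n31541 := d15_1 D32581 F71604 (iv D31908) F63059 D30658
theorem F74169 : act 6 n32581 = n31492 := d19_2 F71608 D32581 (iv F71607)
def n32582 : Q := act 1 n30659
theorem D32582 : act 1 n30659 = n32582 := rfl
theorem F74170 : act 2 n32582 = n32015 := d6_2 D30659 D32582 (iv D32015) (iv D29436) (iv F57235)
theorem F74171 : act 6 n32582 = n32530 := d10_2 F73160 D32582 (iv D32530) F67091 (iv F73158)
def n32583 : Q := act 3 n30663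
theorem D32583 : act 3 n30663 = n32583 := rfl
theorem F74172 : act 0 n32583 = n30664 := d2_1 D32583 (iv D30664) (iv F67321)
theorem F74173 : act 1 n32583 = n32583 := d7_1 D32583 (iv D32583) F67322
theorem F74174 : act 4 n32583 = n31326 := d15_2 (iv F67323) D32583 (iv F73571) F73572 F73262
theorem F74175 : act 6 n32583 = n31330 := d17_2 (iv F67324) D32583 F69742
theorem F74176 : act 2 n32583 = n31324 := d21_2 D30663 D32583 F69729 (iv D30773) (iv D27462) (iv D23311) (iv F46054) D27288
def n32584 : Q := act 2 n30664
theorem D32584 : act 2 n30664 = n32584 := rfl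
theorem F74177 : act 0 n32584 = n31324 := d1_1 D32584 (iv F74176) F74172
theorem F74178 : act 3 n32584 = n32265 := d11_2 D30664 D32584 F72909 (iv D30771) (iv D27460) (iv F57238) D30663 D32583 F74176 F69729 (iv D30773) (iv D27462) (iv D23311) (iv F46054) D27289
theorem F74179 : act 4 n31325 = n32584 := d15_0 F74178 (iv D32265) (iv D29935) (iv F64922) (iv F69732)
theorem F74180 : act 5 n31983 = n32584 := d16_0 F74178 F72910 (iv F71813)
theorem F74181 : act 6 n31329 = n32584 := d17_0 F74178 (iv F73753) F73754
def n32585 : Q := act 4 n30664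
theorem D32585 : act 4 n30664 = n32585 := rfl
theorem F74182 : act 0 n32585 = n31326 := d3_1 D32585 (iv F74174) F74172
theorem F74183 : act 1 n32585 = n31721 := d8_1 D32585 F70992 (iv F67325)
theorem F74184 : act 2 n32585 = n31325 := d12_1 D32585 F74179 (iv D32584)
theorem F74185 : act 3 n32585 = n32355 := d15_1 D32585 F73273 F65603 (iv F57242) D30664
theorem F74186 : act 6 n31333 = n32585 := d17_0 F74185 (iv D32355) (iv F69746)
def n32586 : Q := act 5 n30664
theorem D32586 : act 5 n30664 = n32586 := rfl
theorem F74187 : act 1 n32586 = n31969 := d9_1 D32586 F71773 F63274 (iv F63225) (iv F67325)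
theorem F74188 : act 2 n32586 = n31983 := d13_1 D32586 F74180 (iv D32584)
theorem F74189 : act 3 n32586 = n30665 := d16_1 D32586 (iv D30665) D30664
theorem F74190 : act 6 n32586 = n32545 := d22_1 D32586 F74007 (iv F74175) F74172
def n32587 : Q := act 6 n30664
theorem D32587 : act 6 n30664 = n32587 := rfl
theorem F74191 : act 0 n32587 = n31330 := d5_1 D32587 (iv F74175) F74172
theorem F74192 : act 1 n32587 = n32357 := d10_1 D32587 F73277 F70664 (iv F63226) (iv F67325)
theorem F74193 : act 2 n32587 = n31329 := d14_1 D32587 F74181 (iv D32584)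
theorem F74194 : act 3 n32587 = n30666 := d17_1 D32587 (iv D30666) D30664
theorem F74195 : act 4 n32587 = n31333 := d19_1 D32587 F74186 (iv D32585)
theorem F74196 : act 5 n32587 = n32539 := d24_1 D32587 F73983 (iv D31979) (iv F63326) F63325 F60941 F52765 D29452 F63376 D29460 F63390 F62259 (iv F63225) (iv F67325)
def n32588 : Q := act 3 n30668
theorem D32588 : act 3 n30668 = n32588 := rfl
theorem F74197 : act 1 n32588 = n30669 := d7_1 D32588 (iv D30669) D30668
theorem F74198 : act 5 n32588 = n31395 := d16_2 F73963 D32588 (iv F73961)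
theorem F74199 : act 2 n32588 = n32573 := d25_2 F73850 D32588 (iv D32573) (iv F73811) (iv D32490) (iv F68778) F68777 F59374 F48610 (iv F42447) F42448 (iv F44159) (iv F55915) (iv F66483) D32451 F73672 (iv D32066) (iv F72093) (iv F72175) (iv D32086) F63592 (iv F57204) F57205 (iv F51088) F57378 F57376 F46940 (iv F46965) F46966 D23570 F55744 F55742 F43963 F30158 F22329 F18153 (iv F20194) (iv F25690) F29235 (iv F34090) (iv F34265) F27004 F20938 (iv F21071) F21070 D15728 F27246 (iv F35001) F25623 D14737 (iv F37705) (iv F48477) D27956 F59136 F57606 D27740 F58404 (iv F57638) (iv F67678) F67679 (iv F59209) F59208 F57415 (iv D27350) F46164 D23229 F46173 (iv F55683) (iv F65789) F65790 F61613 F60172 F60169 F51623 (iv F56424) D30496 D32498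
theorem F74200 : act 6 n31450 = n32588 := d14_0 F74199 F74133 (iv F70098)
def n32589 : Q := act 6 n30668
theorem D32589 : act 6 n30668 = n32589 := rfl
theorem F74201 : act 0 n32589 = n32582 := d5_1 D32589 F74171 F73955
theorem F74202 : act 2 n32589 = n31459 := d14_1 D32589 (iv F73805) F73801
theorem F74203 : act 3 n32589 = n31450 := d17_1 D32589 F74200 (iv D32588)
theorem F74204 : act 5 n32589 = n31446 := d22_2 F73963 D32589 F70094 D32531
def n32590 : Q := act 4 n30669
theorem D32590 : act 4 n30669 = n32590 := rfl
theorem F74205 : act 0 n32590 = n30671 := d3_1 D32590 (iv D30671) (iv F67337)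
theorem F74206 : act 2 n32590 = n32309 := d12_1 D32590 F73095 (iv F67338)
theorem F74207 : act 3 n32590 = n31528 := d15_1 D32590 F70318 (iv F66808) F66809 D30669
theorem F74208 : act 5 n32590 = n31388 := d18_2 F67339 D32590 F69911
def n32591 : Q := act 5 n30671
theorem D32591 : act 5 n30671 = n32591 := rfl
theorem F74209 : act 0 n32591 = n31388 := d4_1 D32591 (iv F74208) F74205
theorem F74210 : act 2 n32591 = n32306 := d13_1 D32591 (iv F73093) F73091
theorem F74211 : act 4 n32591 = n30672 := d18_1 D32591 (iv D30672) D30671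
theorem F74212 : act 6 n32591 = n32232 := d22_3 D32302 (iv F73076) D32591 (iv F72772)
def n32592 : Q := act 1 n30672
theorem D32592 : act 1 n30672 = n32592 := rfl
theorem F74213 : act 0 n32592 = n31375 := d0_1 D32592 (iv D31375) (iv D28581) (iv D24711) F38513 D20320 D24726 D28601 (iv F67346)
theorem F74214 : act 3 n32592 = n30673 := d7_2 (iv F67348) D32592 (iv D30673)
theorem F74215 : act 5 n32592 = n31567 := d9_2 D30672 D32592 F70443 F69379 F63350
theorem F74216 : act 6 n32592 = n31662 := d10_2 (iv F67349) D32592 (iv D31662) F67881 F67877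
def n32593 : Q := act 2 n30676
theorem D32593 : act 2 n30676 = n32593 := rfl
theorem F74217 : act 1 n32593 = n31422 := d6_1 D32593 (iv F70025) (iv D31382) F61009 D30676
theorem F74218 : act 4 n32593 = n31475 := d12_2 (iv F67362) D32593 F70168
theorem F74219 : act 5 n32593 = n31593 := d13_2 (iv F67363) D32593 (iv D31593)
theorem F74220 : act 6 n32593 = n31474 := d14_2 (iv F67364) D32593 (iv D31474)
theorem F74221 : act 3 n32593 = n31425 := d21_1 D32593 (iv F70034) (iv F68050) (iv F68833) F68834 (iv F66625) D32485 F73787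
def n32594 : Q := act 2 n30677
theorem D32594 : act 2 n30677 = n32594 := rfl
theorem F74222 : act 0 n32594 = n31714 := d1_1 D32594 F70972 (iv F67365)
theorem F74223 : act 1 n32594 = n31776 := d6_1 D32594 (iv F72400) F72399 (iv D30678) (iv F67366)
theorem F74224 : act 4 n32594 = n31499 := d12_2 (iv F67367) D32594 F70239
theorem F74225 : act 5 n32594 = n31483 := d13_2 (iv F67368) D32594 (iv D31483)
theorem F74226 : act 6 n32594 = n32274 := d14_2 F72708 D32594 F72949
def n32595 : Q := act 3 n30678
theorem D32595 : act 3 n30678 = n32595 := rfl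
theorem F74227 : act 0 n32595 = n31903 := d2_1 D32595 F71584 (iv F67369)
theorem F74228 : act 1 n32595 = n31902 := d7_1 D32595 (iv F72401) F72399
theorem F74229 : act 2 n32595 = n32564 := d11_1 D32595 (iv D32564) (iv D30635) F57150 (iv F46113) (iv F56607) D30519 (iv F71584) F71583 (iv D30636) (iv D27258) F46010 D23203 D27319 D30678
theorem F74230 : act 6 n32595 = n30694 := d17_2 (iv F67370) D32595 (iv D30694)
theorem F74231 : act 4 n31902 = n32595 := d19_3 F74230 (iv F69794) F71581
def n32596 : Q := act 2 n30679
theorem D32596 : act 2 n30679 = n32596 := rfl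
theorem F74232 : act 0 n32596 = n30758 := d1_1 D32596 F67673 (iv F67371)
theorem F74233 : act 3 n32596 = n32325 := d11_2 D30679 D32596 F73159 F67313 F57236 F46047 (iv F46335) (iv F57629) (iv F67673) (iv F69265) (iv F71609) (iv D31909) (iv D29320) F52609 D27320
theorem F74234 : act 4 n32596 = n30940 := d12_2 (iv F67373) D32596 (iv D30940)
theorem F74235 : act 5 n32596 = n31434 := d13_2 (iv F67374) D32596 (iv D31434)
theorem F74236 : act 6 n32596 = n30755 := d14_2 (iv F67375) D32596 (iv D30755)
theorem F74237 : act 1 n32596 = n32326 := d23_2 (iv F67374) D32596 F73161 (iv D31623) D31622 F72626 F72622 F71415 F68167 (iv F64291) (iv D27227) D27229 (iv F67177) F67213 (iv F73035) (iv F73879) F73877 F66857 F66763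
def n32597 : Q := act 1 n30692
theorem D32597 : act 1 n30692 = n32597 := rfl
theorem F74238 : act 2 n32597 = n31445 := d6_2 D30692 D32597 (iv D31445) F61307 (iv F57388)
theorem F74239 : act 3 n32597 = n32567 := d7_2 (iv F67436) D32597 (iv D32567)
theorem F74240 : act 6 n32597 = n31449 := d10_2 (iv F67435) D32597 F70096 (iv F70090) F70086
theorem F74241 : act 0 n31504 = n32597 := d5_3 F74240 (iv F70112) D31504
def n32598 : Q := act 5 n30692
theorem D32598 : act 5 n30692 = n32598 := rfl
theorem F74242 : act 0 n32598 = n30696 := d4_1 D32598 (iv D30696) (iv F67434)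
theorem F74243 : act 2 n32598 = n30693 := d13_1 D32598 (iv D30693) D30692
theorem F74244 : act 3 n32598 = n32363 := d16_1 D32598 F73306 (iv F67436)
theorem F74245 : act 4 n32598 = n30944 := d18_1 D32598 (iv F72738) F72737
theorem F74246 : act 6 n32598 = n31397 := d20_2 (iv F67435) D32598 F69937 F67370 D30696 (iv F73835) F73834
theorem F74247 : act 1 n32598 = n32364 := d24_2 (iv F67435) D32598 F73309 (iv F73969) (iv F73970) (iv D31309) F62656 (iv D29160) (iv D25473) (iv F52265) (iv F62609) (iv F68796) (iv F70089) F70086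
def n32599 : Q := act 3 n30695
theorem D32599 : act 3 n30695 = n32599 := rfl
theorem F74248 : act 1 n32599 = n30957 := d7_1 D32599 (iv F68526) (iv F68529)
theorem F74249 : act 4 n32599 = n31409 := d15_2 D30695 D32599 F69972 F69794 (iv D30694)
theorem F74250 : act 5 n32599 = n31705 := d16_2 F73301 D32599 (iv F73299)
theorem F74251 : act 2 n32599 = n31774 := d21_2 (iv F67445) D32599 F71164 (iv D29828) F53594 D26075 D29833 F64570
def n32600 : Q := act 2 n30715
theorem D32600 : act 2 n30715 = n32600 := rfl
theorem F74252 : act 0 n32600 = n31292 := d1_1 D32600 (iv F73460) F73455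
theorem F74253 : act 1 n32600 = n31259 := d6_1 D32600 (iv F70405) F70404 F65444 D30715
theorem F74254 : act 4 n32600 = n30780 := d12_2 (iv F67530) D32600 F67757
theorem F74255 : act 5 n32600 = n30735 := d13_2 (iv F67531) D32600 (iv D30735)
theorem F74256 : act 3 n31784 = n32600 := d25_16 (iv F66685) (iv F73808) F73807 F68541 F59035 D27919 F59037 (iv F56185) F59048 (iv D27923) (iv F54095) (iv F65097) (iv F72969) F72970 F71177 D31784 (iv D32600) F67529 F65939 (iv F65938) D30717 (iv F67603) (iv D30738) F57514 F46365 F37802 F25729 F20210 (iv F20178) (iv F25647) F34469 (iv F26866) F26865 F20856 F14472 D9864 (iv F19820) (iv F24805) (iv F36124) (iv D18256) (iv D13354) F18947 (iv F19453) (iv F24374) (iv F24456) D19206 F35807 D19212 F37822 (iv D20017) (iv D14794) (iv F25369) (iv F37292) (iv F48614) (iv F52242) F52241 F41350 F41348 D21572 D25957 (iv F53342) (iv D25089) (iv F50555) (iv F61565) F61566 F50544 (iv F42467) F42468 (iv F45847) (iv F56945) (iv F56947) D29395 (iv F71771) (iv F72171) F72172 (iv F67096) (iv D30581)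
def n32601 : Q := act 3 n30716
theorem D32601 : act 3 n30716 = n32601 := rfl
theorem F74257 : act 0 n32601 = n30717 := d2_1 D32601 (iv D30717) (iv F67532)
theorem F74258 : act 4 n32601 = n32329 := d15_2 (iv F67533) D32601 (iv D32329) F65431 (iv F58349)
theorem F74259 : act 5 n32601 = n30720 := d16_2 (iv F67534) D32601 (iv D30720)
def n32602 : Q := act 6 n30717
theorem D32602 : act 6 n30717 = n32602 := rfl
theorem F74260 : act 3 n32602 = n30718 := d17_1 D32602 (iv D30718) D30717
theorem F74261 : act 4 n32602 = n32330 := d19_1 D32602 (iv D32330) (iv F67535)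
def n32603 : Q := act 6 n30720
theorem D32603 : act 6 n30720 = n32603 := rfl
theorem F74262 : act 0 n32603 = n30722 := d5_1 D32603 (iv D30722) (iv F67544)
theorem F74263 : act 3 n32603 = n30721 := d17_1 D32603 (iv D30721) D30720
theorem F74264 : act 5 n32603 = n32602 := d22_2 F74259 D32603 (iv D32602) (iv F74257)
def n32604 : Q := act 5 n30722
theorem D32604 : act 5 n30722 = n32604 := rfl
theorem F74265 : act 0 n32604 = n32602 := d4_1 D32604 (iv F74264) F74262
theorem F74266 : act 1 n32604 = n31880 := d9_1 D32604 F71502 (iv D31861) (iv F62913) (iv F67549)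
theorem F74267 : act 3 n32604 = n30723 := d16_1 D32604 (iv D30723) (iv F67550)
theorem F74268 : act 4 n32604 = n31881 := d18_1 D32604 F71504 F68667
theorem F74269 : act 6 n32604 = n32601 := d20_2 D30722 D32604 F74259 D32603 F74264 (iv D32602) F67536
def n32605 : Q := act 6 n30726
theorem D32605 : act 6 n30726 = n32605 := rfl
theorem F74270 : act 0 n32605 = n31642 := d5_1 D32605 (iv F72565) F72563
theorem F74271 : act 1 n32605 = n31411 := d10_1 D32605 (iv D31411) (iv D28635) D28636 F67654
theorem F74272 : act 2 n32605 = n30729 := d14_1 D32605 (iv D30729) D30726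
theorem F74273 : act 5 n32605 = n32439 := d20_1 D32605 (iv F73719) F73718 F72565 (iv F74072) F74073 F69804
def n32606 : Q := act 5 n30727
theorem D32606 : act 5 n30727 = n32606 := rfl
theorem F74274 : act 0 n32606 = n32461 := d4_1 D32606 F73707 F70600
theorem F74275 : act 1 n32606 = n30865 := d9_1 D32606 (iv D30865) (iv D27591) D27592 (iv F67561)
theorem F74276 : act 2 n32606 = n31412 := d13_1 D32606 (iv F72558) F72556
theorem F74277 : act 3 n32606 = n30866 := d16_1 D32606 F68043 (iv F67562)
theorem F74278 : act 4 n32606 = n30728 := d18_1 D32606 (iv D30728) D30727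
theorem F74279 : act 6 n32606 = n31607 := d20_2 F70592 D32606 F70583 D31613 (iv F73707) F73708 F73620
def n32607 : Q := act 3 n30735
theorem D32607 : act 3 n30735 = n32607 := rfl
theorem F74280 : act 1 n32607 = n31783 := d7_1 D32607 F71194 F70826
theorem F74281 : act 4 n32607 = n31787 := d15_2 (iv F67592) D32607 F71208 F62676 (iv F62490)
theorem F74282 : act 5 n32607 = n31784 := d16_2 F74255 D32607 F74256
theorem F74283 : act 6 n32607 = n32446 := d17_2 (iv F67593) D32607 (iv D32446)
def n32608 : Q := act 3 n30737
theorem D32608 : act 3 n30737 = n32608 := rfl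
theorem F74284 : act 0 n32608 = n30738 := d2_1 D32608 (iv D30738) D30737
theorem F74285 : act 2 n32608 = n32601 := d11_1 D32608 (iv D32601) (iv D30716) (iv F67494) (iv F67497) F57662 (iv F57514) D30738 F67603 (iv D30717) (iv D27365) (iv F57425) D30707 (iv F67501) (iv F67598)
theorem F74286 : act 5 n32608 = n30770 := d16_2 (iv F67600) D32608 (iv D30770)
def n32609 : Q := act 6 n30738
theorem D32609 : act 6 n30738 = n32609 := rfl
theorem F74287 : act 1 n32609 = n31839 := d10_1 D32609 F71366 (iv D31819) F62760 (iv F67601)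
theorem F74288 : act 2 n32609 = n32602 := d14_1 D32609 (iv D32602) (iv F67603)
theorem F74289 : act 3 n32609 = n30739 := d17_1 D32609 (iv D30739) D30738
theorem F74290 : act 4 n32609 = n31841 := d19_1 D32609 F71372 F68695
def n32610 : Q := act 3 n30742
theorem D32610 : act 3 n30742 = n32610 := rfl
theorem F74291 : act 1 n32610 = n31739 := d7_1 D32610 F71052 F70851
theorem F74292 : act 4 n32610 = n31743 := d15_2 D30742 D32610 F71066 F62584 (iv F62448)
theorem F74293 : act 5 n32610 = n32433 := d16_2 (iv F67618) D32610 (iv D32433)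
theorem F74294 : act 6 n31740 = n32610 := d19_0 F74292 F71067 (iv F71055)
def n32611 : Q := act 6 n30742
theorem D32611 : act 6 n30742 = n32611 := rfl
theorem F74295 : act 0 n32611 = n31263 := d5_1 D32611 F70895 F70892
theorem F74296 : act 1 n32611 = n31235 := d10_1 D32611 (iv D31235) (iv F64646) (iv F70853) F70851
theorem F74297 : act 2 n32611 = n30744 := d14_1 D32611 (iv D30744) (iv F67617)
theorem F74298 : act 3 n32611 = n31740 := d17_1 D32611 F74294 (iv D32610)
theorem F74299 : act 4 n32611 = n30743 := d19_1 D32611 (iv D30743) D30742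
def n32612 : Q := act 2 n30746
theorem D32612 : act 2 n30746 = n32612 := rfl
theorem F74300 : act 1 n32612 = n31385 := d6_1 D32612 F70009 (iv D31419) F61170 D30746
theorem F74301 : act 4 n32612 = n31529 := d12_2 (iv F67630) D32612 F70320
theorem F74302 : act 5 n32612 = n31528 := d13_2 (iv F67631) D32612 (iv D31528)
theorem F74303 : act 6 n32612 = n31592 := d14_2 (iv F67632) D32612 (iv D31592)
theorem F74304 : act 3 n32612 = n31388 := d21_1 D32612 (iv F69913) (iv F67868) (iv F68700) F68701 (iv F66592) D32481 F73768
def n32613 : Q := act 2 n30747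
theorem D32613 : act 2 n30747 = n32613 := rfl
theorem F74305 : act 0 n32613 = n31760 := d1_1 D32613 F71121 (iv F67633)
theorem F74306 : act 1 n32613 = n31733 := d6_1 D32613 (iv F72798) F72797 (iv D30748) (iv F67634)
theorem F74307 : act 4 n32613 = n31549 := d12_2 (iv F67635) D32613 F70389
theorem F74308 : act 5 n32613 = n32197 := d13_2 F73024 D32613 (iv F73021)
theorem F74309 : act 6 n32613 = n31537 := d14_2 (iv F67636) D32613 (iv D31537)
def n32614 : Q := act 3 n30748
theorem D32614 : act 3 n30748 = n32614 := rfl
theorem F74310 : act 0 n32614 = n32034 := d2_1 D32614 F71993 (iv F67637)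
theorem F74311 : act 1 n32614 = n32033 := d7_1 D32614 (iv F72799) F72797
theorem F74312 : act 2 n32614 = n32579 := d11_1 D32614 (iv D32579) (iv D30655) F57221 F46298 (iv F56682) D30536 (iv F71993) F71992 (iv D30656) (iv D27283) F46042 D23279 D27410 D30748
theorem F74313 : act 5 n32614 = n30756 := d16_2 (iv F67638) D32614 (iv D30756)
theorem F74314 : act 4 n32033 = n32614 := d18_3 F74313 (iv F69727) (iv F71990)
def n32615 : Q := act 1 n30755
theorem D32615 : act 1 n30755 = n32615 := rfl
theorem F74315 : act 2 n32615 = n31501 := d6_2 D30755 D32615 (iv D31501) F61525 (iv F57626)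
theorem F74316 : act 3 n32615 = n32582 := d7_2 (iv F67668) D32615 (iv D32582)
theorem F74317 : act 5 n32615 = n31448 := d9_2 (iv F67667) D32615 (iv F70114) (iv F70244) F70241
theorem F74318 : act 0 n32615 = n31450 := d23_3 (iv F57627) D30755 D32615 (iv D31450) D31449 F70096 (iv F70107) F70108 F62610 F59968 (iv F53480) (iv D26007) (iv F53471) D29758 D32197 (iv F74308) (iv D32613) F67634 F57584
def n32616 : Q := act 3 n30757
theorem D32616 : act 3 n30757 = n32616 := rfl
theorem F74319 : act 1 n32616 = n30956 := d7_1 D32616 (iv F68436) (iv F68439)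
theorem F74320 : act 4 n32616 = n31370 := d15_2 D30757 D32616 F69849 F69727 (iv D30756)
theorem F74321 : act 6 n32616 = n31697 := d17_2 F73156 D32616 (iv F73153)
theorem F74322 : act 2 n32616 = n31731 := d21_2 (iv F67672) D32616 F71025 (iv D29582) F52989 D25825 D29589 F63742
def n32617 : Q := act 3 n30766
theorem D32617 : act 3 n30766 = n32617 := rfl
theorem F74323 : act 0 n32617 = n30767 := d2_1 D32617 (iv D30767) (iv F67705)
theorem F74324 : act 1 n32617 = n32602 := d7_1 D32617 F74260 (iv F67706)
theorem F74325 : act 2 n32617 = n32603 := d11_1 D32617 F74263 F67546 (iv F67505) F67504 F57658 D27453 D30767 F67712 F67550 F57467 (iv F57429) (iv F67509) F67510 D30766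
theorem F74326 : act 4 n32617 = n32367 := d15_2 (iv F67707) D32617 (iv D32367) F65718 (iv F58418)
theorem F74327 : act 5 n32617 = n32609 := d16_2 (iv F67708) D32617 F74289
theorem F74328 : act 6 n32617 = n30770 := d17_2 (iv F67709) D32617 (iv D30770)
def n32618 : Q := act 5 n30767
theorem D32618 : act 5 n30767 = n32618 := rfl
theorem F74329 : act 0 n32618 = n32609 := d4_1 D32618 (iv F74327) F74323
theorem F74330 : act 1 n32618 = n32601 := d9_1 D32618 F74259 F73593 F73592 (iv F71423)
theorem F74331 : act 2 n32618 = n32604 := d13_1 D32618 (iv D32604) (iv F67712)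
theorem F74332 : act 3 n32618 = n30768 := d16_1 D32618 (iv D30768) D30767
theorem F74333 : act 4 n32618 = n32368 := d18_1 D32618 (iv D32368) (iv F67710)
theorem F74334 : act 6 n32618 = n32608 := d20_2 (iv F67711) D32618 F74286 (iv F74328) F74327 (iv D32609) F67602
def n32619 : Q := act 5 n30773
theorem D32619 : act 5 n30773 = n32619 := rfl
theorem F74335 : act 0 n32619 = n31647 := d4_1 D32619 (iv F72910) F72908
theorem F74336 : act 1 n32619 = n31372 := d9_1 D32619 (iv D31372) (iv D28577) D28578 (iv F67733)
theorem F74337 : act 2 n32619 = n30775 := d13_1 D32619 (iv D30775) D30773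
theorem F74338 : act 6 n32619 = n32452 := d20_2 F69737 D32619 (iv F73752) F73753 F72910 (iv F74046) F74045
def n32620 : Q := act 6 n30774
theorem D32620 : act 6 n30774 = n32620 := rfl
theorem F74339 : act 0 n32620 = n32458 := d5_1 D32620 F73695 F70562
theorem F74340 : act 1 n32620 = n30807 := d10_1 D32620 (iv D30807) (iv D27515) D27516 (iv F67734)
theorem F74341 : act 2 n32620 = n31373 := d14_1 D32620 (iv F72903) F72901
theorem F74342 : act 3 n32620 = n30808 := d17_1 D32620 F67858 (iv F67735)
theorem F74343 : act 4 n32620 = n30776 := d19_1 D32620 (iv D30776) D30774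
theorem F74344 : act 5 n32620 = n31596 := d20_1 D32620 F70540 D31603 (iv F73695) F73694 F73662 F70549
def n32621 : Q := act 2 n30788
theorem D32621 : act 2 n30788 = n32621 := rfl
theorem F74345 : act 0 n32621 = n32519 := d1_1 D32621 F73924 F72773
theorem F74346 : act 1 n32621 = n30789 := d6_1 D32621 (iv D30789) (iv D27488) (iv F57771) D30788
theorem F74347 : act 4 n32621 = n30794 := d12_2 (iv F67790) D32621 (iv D30794)
theorem F74348 : act 5 n32621 = n32519 := d13_2 F72776 D32621 F73924
theorem F74349 : act 6 n32621 = n31096 := d14_2 (iv F67791) D32621 (iv D31096)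
theorem F74350 : act 3 n32621 = n32252 := d21_1 D32621 (iv F73603) (iv D32429) (iv F73595) F73596 F70616 (iv F72775) F72773
def n32622 : Q := act 6 n30789
theorem D32622 : act 6 n30789 = n32622 := rfl
theorem F74351 : act 0 n32622 = n32120 := d5_1 D32622 (iv F73106) F73103
theorem F74352 : act 1 n32622 = n31119 := d10_1 D32622 F68987 (iv F68889) (iv F74349) F74346
theorem F74353 : act 2 n32622 = n30790 := d14_1 D32622 (iv D30790) D30789
theorem F74354 : act 3 n32622 = n32253 := d17_1 D32622 F72867 F71022
theorem F74355 : act 4 n32622 = n30797 := d19_1 D32622 (iv D30797) (iv F67792)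
theorem F74356 : act 5 n32622 = n32119 := d20_1 D32622 F72304 (iv F73105) F73106 (iv D32120) F63720 (iv F67793)
def n32623 : Q := act 6 n30792
theorem D32623 : act 6 n30792 = n32623 := rfl
theorem F74357 : act 2 n32623 = n30793 := d14_1 D32623 (iv D30793) D30792
theorem F74358 : act 3 n32623 = n32309 := d17_1 D32623 F73096 F72070
theorem F74359 : act 4 n32623 = n30813 := d19_1 D32623 F67875 (iv F67804)
theorem F74360 : act 5 n32623 = n30811 := d22_2 (iv F67805) D32623 (iv D30811) (iv F61466)
def n32624 : Q := act 5 n30801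
theorem D32624 : act 5 n30801 = n32624 := rfl
theorem F74361 : act 0 n32624 = n31139 := d4_1 D32624 F69055 F69002
theorem F74362 : act 3 n32624 = n30802 := d16_1 D32624 (iv D30802) (iv F67829)
theorem F74363 : act 4 n32624 = n31820 := d18_1 D32624 (iv D31820) (iv F67830)
theorem F74364 : act 6 n32624 = n31122 := d20_2 D30801 D32624 (iv D31122) D31123 (iv F69055) (iv F69056) F67814
def n32625 : Q := act 6 n30810
theorem D32625 : act 6 n30810 = n32625 := rfl
theorem F74365 : act 0 n32625 = n32623 := d5_1 D32625 (iv D32623) (iv F67863)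
theorem F74366 : act 1 n32625 = n32528 := d10_1 D32625 F73952 F72626 F72625 F68161
theorem F74367 : act 2 n32625 = n31027 := d14_1 D32625 F68613 (iv F67864)
theorem F74368 : act 3 n32625 = n32308 := d17_1 D32625 (iv D32308) (iv F67865)
theorem F74369 : act 4 n32625 = n30812 := d19_1 D32625 (iv D30812) (iv F67866)
theorem F74370 : act 5 n32625 = n31478 := d20_1 D32625 (iv D31478) (iv F67805) D32623 F74360 (iv D30811) D30810
def n32626 : Q := act 1 n30812
theorem D32626 : act 1 n30812 = n32626 := rfl
theorem F74371 : act 2 n32626 = n32244 := d6_2 (iv F67870) D32626 F72821 F67083 (iv F60535)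
theorem F74372 : act 3 n32626 = n31858 := d7_2 F68141 D32626 F71426
theorem F74373 : act 4 n32626 = n32528 := d8_2 F74369 D32626 (iv F74366)
theorem F74374 : act 6 n32626 = n32198 := d10_2 D30812 D32626 (iv D32198) F64310 F58134
theorem F74375 : act 0 n32626 = n31859 := d22_4 F71428 (iv F71400) (iv F72634) (iv F74374)
def n32627 : Q := act 1 n30819
theorem D32627 : act 1 n30819 = n32627 := rfl
theorem F74376 : act 0 n32627 = n32399 := d0_1 D32627 (iv D32399) F65897 F65894 F62732 D30548 F67914 (iv D30828) (iv F67897)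
theorem F74377 : act 2 n32627 = n32607 := d6_2 (iv F67898) D32627 F74280 F71193 (iv D30821)
theorem F74378 : act 3 n32627 = n32400 := d7_2 F73340 D32627 (iv F73454)
theorem F74379 : act 6 n32627 = n32307 := d10_2 D30819 D32627 (iv D32307) (iv D30039) (iv F58169)
def n32628 : Q := act 5 n30822
theorem D32628 : act 5 n30822 = n32628 := rfl
theorem F74380 : act 0 n32628 = n30935 := d4_1 D32628 F68275 (iv F67904)
theorem F74381 : act 2 n32628 = n30932 := d13_1 D32628 (iv D30932) (iv F67905)
theorem F74382 : act 4 n32628 = n30823 := d18_1 D32628 (iv D30823) D30822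
theorem F74383 : act 6 n32628 = n31877 := d22_1 D32628 F71492 (iv D31860) (iv F67904)
def n32629 : Q := act 6 n30822
theorem D32629 : act 6 n30822 = n32629 := rfl
theorem F74384 : act 0 n32629 = n31860 := d5_1 D32629 (iv D31860) (iv F67904)
theorem F74385 : act 1 n32629 = n31809 := d10_1 D32629 (iv F72712) F72710 F68244 F68144
theorem F74386 : act 2 n32629 = n30933 := d14_1 D32629 (iv D30933) (iv F67905)
theorem F74387 : act 4 n32629 = n30824 := d19_1 D32629 (iv D30824) D30822
def n32630 : Q := act 1 n30823
theorem D32630 : act 1 n30823 = n32630 := rfl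
theorem F74388 : act 0 n32630 = n32630 := d0_1 D32630 (iv D32630) (iv F69060) (iv D31140) F59673 F48787 (iv F59673) D31140 F69060
theorem F74389 : act 3 n32630 = n30826 := d7_2 (iv F67906) D32630 (iv D30826)
def n32631 : Q := act 6 n30823
theorem D32631 : act 6 n30823 = n32631 := rfl
theorem F74390 : act 2 n32631 = n31125 := d14_1 D32631 (iv F69047) F69044
theorem F74391 : act 3 n32631 = n30827 := d17_1 D32631 (iv D30827) (iv F67906)
theorem F74392 : act 4 n32631 = n31877 := d19_1 D32631 (iv F74383) F74382
theorem F74393 : act 5 n32631 = n32372 := d22_2 D30823 D32631 (iv D32372) F65797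
theorem F74394 : act 1 n31873 = n32631 := d24_14 (iv D32631) (iv D30823) (iv F58164) (iv F65872) (iv D30230) (iv D26460) D26463 (iv F54569) F61412 F52339 D25532 D29223 D31833 (iv F71475)
def n32632 : Q := act 1 n30824
theorem D32632 : act 1 n30824 = n32632 := rfl
theorem F74395 : act 0 n32632 = n31810 := d0_1 D32632 F71280 F62721 (iv F61412) (iv F54570) D30242 D32400 (iv F73454) F73338
theorem F74396 : act 3 n32632 = n30828 := d7_2 (iv F67907) D32632 (iv D30828)
theorem F74397 : act 4 n32632 = n31809 := d8_2 F74387 D32632 (iv F74385)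
theorem F74398 : act 6 n32632 = n32390 := d10_2 D30824 D32632 (iv D32390) F65872 F58164
def n32633 : Q := act 5 n30824
theorem D32633 : act 5 n30824 = n32633 := rfl
theorem F74399 : act 0 n32633 = n32631 := d4_1 D32633 F74393 F73338
theorem F74400 : act 3 n32633 = n30829 := d16_1 D32633 (iv D30829) (iv F67907)
theorem F74401 : act 6 n32633 = n31140 := d20_2 D30824 D32633 F69059 D32372 (iv F74393) (iv D32631) (iv D30823)
theorem F74402 : act 1 n31138 = n32633 := d23_2 (iv D32633) (iv F69050) F74399 F74393 F73339 (iv F71254) F71443 (iv F71442) (iv D29284) (iv D25593) (iv F52507) F52510 (iv F62888) D31855 (iv F71419) F71290 F71476 F74394 (iv F74399)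
def n32634 : Q := act 6 n30826
theorem D32634 : act 6 n30826 = n32634 := rfl
theorem F74403 : act 0 n32634 = n32634 := d5_1 D32634 (iv D32634) F67909
theorem F74404 : act 2 n32634 = n32634 := d14_1 D32634 (iv D32634) F67910
theorem F74405 : act 5 n32634 = n30886 := d22_2 F68218 D32634 (iv F68219) F68220
def n32635 : Q := act 1 n30827
theorem D32635 : act 1 n30827 = n32635 := rfl
theorem F74406 : act 0 n32635 = n31872 := d0_1 D32635 (iv D31872) F62955 D30524 (iv F67992) F67993 (iv F67995) F67996 F67915
theorem F74407 : act 3 n32635 = n31873 := d7_2 F74391 D32635 F74394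
def n32636 : Q := act 5 n30831
theorem D32636 : act 5 n30831 = n32636 := rfl
theorem F74408 : act 0 n32636 = n32441 := d4_1 D32636 F73639 F73557
theorem F74409 : act 1 n32636 = n31615 := d9_1 D32636 (iv D31615) F62123 F59317 (iv F67922)
theorem F74410 : act 2 n32636 = n30832 := d13_1 D32636 (iv D30832) D30831
theorem F74411 : act 3 n32636 = n31064 := d16_1 D32636 (iv D31064) F67925
theorem F74412 : act 4 n32636 = n30941 := d18_1 D32636 (iv D30941) (iv F67923)
theorem F74413 : act 6 n32636 = n32441 := d22_1 D32636 F73639 F73561 F73557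
def n32637 : Q := act 5 n30833
theorem D32637 : act 5 n30833 = n32637 := rfl
theorem F74414 : act 0 n32637 = n31730 := d4_1 D32637 (iv D31730) (iv F67930)
theorem F74415 : act 2 n32637 = n31439 := d13_1 D32637 (iv F73047) F73045
theorem F74416 : act 3 n32637 = n32312 := d16_1 D32637 F73105 (iv F67932)
theorem F74417 : act 4 n32637 = n30834 := d18_1 D32637 (iv D30834) D30833
def n32638 : Q := act 6 n30833
theorem D32638 : act 6 n30833 = n32638 := rfl
theorem F74418 : act 0 n32638 = n31731 := d5_1 D32638 (iv D31731) (iv F67930)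
theorem F74419 : act 3 n32638 = n32119 := d17_1 D32638 F72304 (iv F67932)
theorem F74420 : act 4 n32638 = n30835 := d19_1 D32638 (iv D30835) D30833
theorem F74421 : act 5 n32638 = n32253 := d22_2 (iv D32637) D32638 F72867 (iv F74414)
def n32639 : Q := act 1 n30834
theorem D32639 : act 1 n30834 = n32639 := rfl
theorem F74422 : act 2 n32639 = n31543 := d6_2 F73049 D32639 (iv F71974) F71975 F73053
theorem F74423 : act 5 n32639 = n30837 := d9_2 D30834 D32639 (iv D30837) (iv D27548) D27546
def n32640 : Q := act 0 n30837
theorem D32640 : act 0 n30837 = n32640 := rfl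
theorem F74424 : act 2 n32640 = n31541 := d1_2 F67940 D32640 F70361
theorem F74425 : act 4 n32640 = n32504 := d3_2 F73845 D32640 F73871
theorem F74426 : act 6 n32640 = n31538 := d5_2 (iv F67939) D32640 (iv D31538)
def n32641 : Q := act 2 n30846
theorem D32641 : act 2 n30846 = n32641 := rfl
theorem F74427 : act 0 n32641 = n32510 := d1_1 D32641 F73892 F72370
theorem F74428 : act 1 n32641 = n30847 := d6_1 D32641 (iv D30847) (iv D27564) (iv F57947) D30846
theorem F74429 : act 3 n32641 = n32161 := d11_2 (iv F67972) D32641 (iv F73645) (iv D32442) (iv F73637) F73638 F70625 (iv F72372) (iv F73892) F73893 (iv F71251) F71252 (iv F74410) F74411 F68760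
theorem F74430 : act 4 n32641 = n30852 := d12_2 (iv F67973) D32641 (iv D30852)
theorem F74431 : act 5 n32641 = n31063 := d13_2 (iv F67974) D32641 (iv D31063)
theorem F74432 : act 6 n32641 = n32510 := d14_2 F72374 D32641 F73892
def n32642 : Q := act 5 n30847
theorem D32642 : act 5 n30847 = n32642 := rfl
theorem F74433 : act 0 n32642 = n32224 := d4_1 D32642 (iv F73251) F73249
theorem F74434 : act 1 n32642 = n31109 := d9_1 D32642 F68944 (iv F68756) (iv F74431) F74428
theorem F74435 : act 2 n32642 = n30848 := d13_1 D32642 (iv D30848) D30847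
theorem F74436 : act 3 n32642 = n32162 := d16_1 D32642 F72498 F71166
theorem F74437 : act 4 n32642 = n30855 := d18_1 D32642 (iv D30855) (iv F67975)
theorem F74438 : act 6 n32642 = n32223 := d20_2 (iv F67976) D32642 F72733 (iv F73252) F73251 (iv D32224) F64554
def n32643 : Q := act 5 n30850
theorem D32643 : act 5 n30850 = n32643 := rfl
theorem F74439 : act 1 n32643 = n32623 := d9_1 D32643 F74360 F67867 (iv F64043) (iv F67986)
theorem F74440 : act 2 n32643 = n30851 := d13_1 D32643 (iv D30851) D30850
theorem F74441 : act 3 n32643 = n32346 := d16_1 D32643 F73238 F71664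
theorem F74442 : act 4 n32643 = n30870 := d18_1 D32643 F68059 (iv F67987)
theorem F74443 : act 6 n32643 = n30868 := d22_1 D32643 (iv D30868) D30869 F68052
def n32644 : Q := act 6 n30859
theorem D32644 : act 6 n30859 = n32644 := rfl
theorem F74444 : act 0 n32644 = n31125 := d5_1 D32644 (iv F69047) F69043
theorem F74445 : act 2 n32644 = n32633 := d14_1 D32644 F74401 (iv F69061)
theorem F74446 : act 3 n32644 = n30860 := d17_1 D32644 (iv D30860) (iv F68015)
theorem F74447 : act 4 n32644 = n31862 := d19_1 D32644 (iv D31862) (iv F68016)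
theorem F74448 : act 5 n32644 = n31138 := d20_1 D32644 (iv D31138) D31137 F69047 (iv F69013) F67998 D30859
def n32645 : Q := act 5 n30869
theorem D32645 : act 5 n30869 = n32645 := rfl
theorem F74449 : act 0 n32645 = n32643 := d4_1 D32645 (iv D32643) (iv F68052)
theorem F74450 : act 1 n32645 = n32535 := d9_1 D32645 F73971 F72945 F72944 F68258
theorem F74451 : act 2 n32645 = n31026 := d13_1 D32645 F68607 (iv F68053)
theorem F74452 : act 3 n32645 = n32347 := d16_1 D32645 (iv D32347) (iv F68054)
theorem F74453 : act 4 n32645 = n30871 := d18_1 D32645 (iv D30871) (iv F68055)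
theorem F74454 : act 6 n32645 = n31532 := d20_2 D30869 D32645 (iv D31532) (iv F67988) D32643 F74443 (iv D30868)
def n32646 : Q := act 1 n30871
theorem D32646 : act 1 n30871 = n32646 := rfl
theorem F74455 : act 0 n32646 = n31817 := d0_1 D32646 (iv F71334) (iv F71467) F71468 (iv F74375) (iv D32626) (iv F67872) (iv F68056) (iv F68060)
theorem F74456 : act 2 n32646 = n32150 := d6_2 (iv F68061) D32646 F72436 F67097 F60703
theorem F74457 : act 3 n32646 = n31816 := d7_2 F68232 D32646 F71297
theorem F74458 : act 4 n32646 = n32535 := d8_2 F74453 D32646 (iv F74450)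
theorem F74459 : act 5 n32646 = n32275 := d9_2 D30871 D32646 (iv D32275) F65051 F58232
def n32647 : Q := act 1 n30876
theorem D32647 : act 1 n30876 = n32647 := rfl
theorem F74460 : act 0 n32647 = n32385 := d0_1 D32647 (iv D32385) (iv F65841) F65842 F62885 D30531 (iv F68097) (iv D30884) (iv F68081)
theorem F74461 : act 2 n32647 = n32610 := d6_2 (iv F68082) D32647 F74291 F71051 (iv D30878)
theorem F74462 : act 3 n32647 = n32386 := d7_2 F73398 D32647 (iv F73400)
theorem F74463 : act 5 n32647 = n32345 := d9_2 D30876 D32647 (iv D32345) (iv D30132) (iv F58269)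
def n32648 : Q := act 5 n30880
theorem D32648 : act 5 n30880 = n32648 := rfl
theorem F74464 : act 0 n32648 = n31818 := d4_1 D32648 (iv D31818) (iv F68091)
theorem F74465 : act 1 n32648 = n31851 := d9_1 D32648 (iv F73027) F73026 (iv F68239) F68235
theorem F74466 : act 2 n32648 = n30907 := d13_1 D32648 (iv D30907) (iv F68092)
theorem F74467 : act 4 n32648 = n30881 := d18_1 D32648 (iv D30881) D30880
def n32649 : Q := act 6 n30880
theorem D32649 : act 6 n30880 = n32649 := rfl
theorem F74468 : act 0 n32649 = n30909 := d5_1 D32649 F68178 (iv F68091)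
theorem F74469 : act 2 n32649 = n30908 := d14_1 D32649 (iv D30908) (iv F68092)
theorem F74470 : act 3 n32649 = n32640 := d17_1 D32649 F74426 F70357
theorem F74471 : act 4 n32649 = n30882 := d19_1 D32649 (iv D30882) D30880
theorem F74472 : act 5 n32649 = n31835 := d22_2 (iv D32648) D32649 (iv F71354) (iv F74464)
def n32650 : Q := act 1 n30881
theorem D32650 : act 1 n30881 = n32650 := rfl
theorem F74473 : act 0 n32650 = n31852 := d0_1 D32650 F71408 F62874 (iv F61414) F54541 D30224 D32386 (iv F73400) F73396
theorem F74474 : act 3 n32650 = n30884 := d7_2 (iv F68093) D32650 (iv D30884)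
theorem F74475 : act 4 n32650 = n31851 := d8_2 F74467 D32650 (iv F74465)
theorem F74476 : act 5 n32650 = n32376 := d9_2 D30881 D32650 (iv D32376) (iv F65816) F58264
def n32651 : Q := act 6 n30881
theorem D32651 : act 6 n30881 = n32651 := rfl
theorem F74477 : act 2 n32651 = n32624 := d14_1 D32651 F74364 F68999
theorem F74478 : act 3 n32651 = n30885 := d17_1 D32651 (iv D30885) (iv F68093)
theorem F74479 : act 5 n32651 = n31124 := d22_2 D30881 D32651 F69008 F65851
theorem F74480 : act 1 n31122 = n32651 := d24_14 (iv D32651) (iv D30881) (iv F58264) (iv F68204) (iv D30917) F58164 D30824 D32633 (iv F74402) (iv D31138) D31137 (iv F69048) (iv D31123) D31122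
def n32652 : Q := act 1 n30882
theorem D32652 : act 1 n30882 = n32652 := rfl
theorem F74481 : act 0 n32652 = n32652 := d0_1 D32652 (iv D32652) F69009 (iv D31124) F59616 F48753 (iv F59616) D31124 (iv F69009)
theorem F74482 : act 2 n32652 = n32630 := d6_2 F69003 D32652 (iv D32630) (iv F69044) (iv F69048)
theorem F74483 : act 3 n32652 = n30886 := d7_2 (iv F68094) D32652 (iv D30886)
def n32653 : Q := act 5 n30882
theorem D32653 : act 5 n30882 = n32653 := rfl
theorem F74484 : act 0 n32653 = n32651 := d4_1 D32653 F74479 (iv F69009)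
theorem F74485 : act 2 n32653 = n31139 := d13_1 D32653 F69055 F69003
theorem F74486 : act 3 n32653 = n30887 := d16_1 D32653 (iv D30887) (iv F68094)
theorem F74487 : act 4 n32653 = n31835 := d18_1 D32653 (iv F74472) F74471
theorem F74488 : act 6 n32653 = n32387 := d20_2 D30882 D32653 (iv D32387) (iv F69008) (iv F74479) (iv D32651) (iv D30881)
theorem F74489 : act 1 n32653 = n31831 := d24_2 D30882 D32653 (iv F71485) (iv D31875) (iv D29278) (iv D25590) (iv F52469) (iv F61414) F54542 (iv D26447) D26445 D30212 (iv F65816) F58264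
def n32654 : Q := act 1 n30887
theorem D32654 : act 1 n30887 = n32654 := rfl
theorem F74490 : act 0 n32654 = n31830 := d0_1 D32654 (iv D31830) F62795 D30541 (iv F67809) F67810 (iv F67812) F68100 (iv F68103)
theorem F74491 : act 3 n32654 = n31831 := d7_2 F74486 D32654 (iv F74489)
def n32655 : Q := act 6 n30889
theorem D32655 : act 6 n30889 = n32655 := rfl
theorem F74492 : act 0 n32655 = n32428 := d5_1 D32655 F73597 F73475
theorem F74493 : act 1 n32655 = n31614 := d10_1 D32655 (iv D31614) F62093 (iv F59527) (iv F68110)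
theorem F74494 : act 2 n32655 = n30890 := d14_1 D32655 (iv D30890) D30889
theorem F74495 : act 3 n32655 = n31097 := d17_1 D32655 (iv D31097) F68113
theorem F74496 : act 4 n32655 = n30945 := d19_1 D32655 (iv D30945) (iv F68111)
theorem F74497 : act 5 n32655 = n32428 := d22_2 F68112 D32655 F73597 F73475
def n32656 : Q := act 5 n30891
theorem D32656 : act 5 n30891 = n32656 := rfl
theorem F74498 : act 0 n32656 = n31774 := d4_1 D32656 (iv D31774) (iv F68118)
theorem F74499 : act 1 n32656 = n32638 := d9_1 D32656 F74421 (iv D32253) (iv F64860) (iv F68119)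
theorem F74500 : act 3 n32656 = n32223 := d16_1 D32656 F72733 (iv F68120)
theorem F74501 : act 4 n32656 = n30892 := d18_1 D32656 (iv D30892) D30891
theorem F74502 : act 6 n32656 = n32162 := d22_1 D32656 F72498 (iv D31775) (iv F68118)
def n32657 : Q := act 6 n30891
theorem D32657 : act 6 n30891 = n32657 := rfl
theorem F74503 : act 0 n32657 = n31775 := d5_1 D32657 (iv D31775) (iv F68118)
theorem F74504 : act 2 n32657 = n31404 := d14_1 D32657 (iv F73194) F73192
theorem F74505 : act 3 n32657 = n32350 := d17_1 D32657 F73252 (iv F68120)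
theorem F74506 : act 4 n32657 = n30893 := d19_1 D32657 (iv D30893) D30891
def n32658 : Q := act 1 n30893
theorem D32658 : act 1 n30893 = n32658 := rfl
theorem F74507 : act 2 n32658 = n31490 := d6_2 F73196 D32658 (iv F71560) F71561 F73200
theorem F74508 : act 6 n32658 = n30896 := d10_2 D30893 D32658 (iv D30896) (iv D27625) D27622
def n32659 : Q := act 0 n30896
theorem D32659 : act 0 n30896 = n32659 := rfl
theorem F74509 : act 2 n32659 = n31488 := d1_2 F68134 D32659 F70204
theorem F74510 : act 3 n32659 = n32628 := d2_2 F68274 D32659 F74380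
theorem F74511 : act 4 n32659 = n32501 := d3_2 F73837 D32659 F73860
theorem F74512 : act 5 n32659 = n31484 := d4_2 (iv F68133) D32659 (iv D31484)
def n32660 : Q := act 5 n30899
theorem D32660 : act 5 n30899 = n32660 := rfl
theorem F74513 : act 0 n32660 = n30900 := d4_1 D32660 (iv D30900) D30899
theorem F74514 : act 2 n32660 = n30900 := d13_1 D32660 (iv D30900) (iv F68147)
theorem F74515 : act 3 n32660 = n32189 := d16_1 D32660 (iv D32189) (iv F68145)
theorem F74516 : act 4 n32660 = n30917 := d18_1 D32660 (iv D30917) (iv F68146)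
theorem F74517 : act 6 n32660 = n30925 := d20_2 F68244 D32660 F68239 (iv D30901) D30900 (iv F68150) D30926
def n32661 : Q := act 1 n30900
theorem D32661 : act 1 n30900 = n32661 := rfl
theorem F74518 : act 3 n32661 = n32191 := d7_2 (iv F68148) D32661 (iv D32191)
theorem F74519 : act 4 n32661 = n32375 := d8_2 (iv F68149) D32661 (iv D32375)
theorem F74520 : act 5 n32661 = n30902 := d9_2 D30900 D32661 (iv D30902) (iv D27637) D27636
theorem F74521 : act 6 n32661 = n30928 := d10_2 F68150 D32661 (iv D30928) (iv D27678) D27676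
theorem F74522 : act 0 n32661 = n30916 := d23_3 D32660 F74514 D32661 F68199 (iv D29226) (iv D25533) (iv F52370) (iv D25519) (iv D21275) (iv F41135) (iv F52349) F59240 F59237 F58207 (iv F58243) (iv D27685) F46774 D27636 D30899
theorem F74523 : act 2 n30915 = n32661 := d23_1 (iv F68196) (iv D32661) (iv F74513) (iv D32660) F68147 (iv D27636) (iv D23458) D23460 (iv F46776) (iv F58207) (iv F62748) (iv D29207) (iv D25512) F41135 F27863 D16112 (iv F41152) D25533 D29225
def n32662 : Q := act 0 n30903
theorem D32662 : act 0 n30903 = n32662 := rfl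
theorem F74524 : act 2 n32662 = n32292 := d1_2 F71411 D32662 F73025
theorem F74525 : act 3 n32662 = n32197 := d2_2 (iv F68158) D32662 (iv D32197)
theorem F74526 : act 4 n32662 = n32379 := d3_2 (iv F68159) D32662 (iv D32379)
theorem F74527 : act 6 n32662 = n31853 := d5_2 F73028 D32662 (iv F73025)
def n32663 : Q := act 1 n30907
theorem D32663 : act 1 n30907 = n32663 := rfl
theorem F74528 : act 0 n32663 = n31835 := d0_1 D32663 (iv D31835) (iv D29225) (iv D25533) (iv F52370) D29214 (iv F62855) (iv F62858) (iv F68173)
theorem F74529 : act 3 n32663 = n32639 := d7_2 (iv F68174) D32663 (iv D32639)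
theorem F74530 : act 4 n32663 = n32651 := d8_2 F69001 D32663 (iv F74480)
theorem F74531 : act 5 n32663 = n30909 := d9_2 D30907 D32663 (iv D30909) (iv D27645) D27644
theorem F74532 : act 2 n31820 = n32663 := d23_1 D31820 (iv D32663) F68173 (iv D29211) (iv F62746) (iv D29206) F52357 D27674 (iv F59237) (iv F62895) F62894 (iv D25572) D25570 D29261 (iv F67904) D32628 F74381 (iv F68268) F68175
theorem F74533 : act 6 n32663 = n32648 := d14_2 (iv F71307) F74532 F74466
def n32664 : Q := act 5 n30911
theorem D32664 : act 5 n30911 = n32664 := rfl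
theorem F74534 : act 0 n32664 = n30919 := d4_1 D32664 (iv D30919) (iv F68182)
theorem F74535 : act 2 n32664 = n30913 := d13_1 D32664 (iv D30913) (iv F68184)
theorem F74536 : act 3 n32664 = n32190 := d16_1 D32664 (iv D32190) (iv F68185)
theorem F74537 : act 4 n32664 = n30912 := d18_1 D32664 (iv D30912) D30911
theorem F74538 : act 6 n32664 = n30936 := d20_2 F68291 D32664 F68281 (iv D30920) D30919 (iv F68212) D30938
def n32665 : Q := act 1 n30912
theorem D32665 : act 1 n30912 = n32665 := rfl
theorem F74539 : act 3 n32665 = n32375 := d7_2 (iv F68188) D32665 (iv D32375)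
theorem F74540 : act 5 n32665 = n32377 := d9_2 D30912 D32665 (iv D32377) (iv D30213) F58168
theorem F74541 : act 6 n32665 = n32392 := d10_2 (iv F68189) D32665 (iv D32392) (iv D30232) F58268
def n32666 : Q := act 1 n30913
theorem D32666 : act 1 n30913 = n32666 := rfl
theorem F74542 : act 4 n32666 = n30914 := d8_2 (iv F68191) D32666 (iv D30914)
theorem F74543 : act 5 n32666 = n31826 := d9_2 D30913 D32666 (iv D31826) (iv D29220) F58179
theorem F74544 : act 6 n32666 = n31868 := d10_2 (iv F68192) D32666 (iv D31868) (iv D29275) F58279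
def n32667 : Q := act 0 n30914
theorem D32667 : act 0 n30914 = n32667 := rfl
theorem F74545 : act 3 n32667 = n30915 := d2_2 (iv F68193) D32667 (iv D30915)
theorem F74546 : act 5 n32667 = n31827 := d4_2 (iv F68194) D32667 (iv D31827)
theorem F74547 : act 6 n32667 = n31869 := d5_2 (iv F68195) D32667 (iv D31869)
def n32668 : Q := act 2 n30914
theorem D32668 : act 2 n30914 = n32668 := rfl
theorem F74548 : act 5 n32668 = n31828 := d13_2 (iv F68194) D32668 (iv D31828)
theorem F74549 : act 6 n32668 = n31870 := d14_2 (iv F68195) D32668 (iv D31870)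
def n32669 : Q := act 1 n30915
theorem D32669 : act 1 n30915 = n32669 := rfl
theorem F74550 : act 0 n32669 = n32669 := d0_1 D32669 (iv D32669) (iv D30915) (iv D27658) F46725 F34027 (iv F46725) D27658 D30915
def n32670 : Q := act 3 n30916
theorem D32670 : act 3 n30916 = n32670 := rfl
theorem F74551 : act 0 n32670 = n32191 := d2_1 D32670 (iv F74518) F74522
theorem F74552 : act 1 n32670 = n32670 := d7_1 D32670 (iv D32670) F68198
theorem F74553 : act 5 n32670 = n31836 := d16_2 (iv F68199) D32670 (iv D31836)
theorem F74554 : act 6 n32670 = n31799 := d17_2 (iv F68200) D32670 F71244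
def n32671 : Q := act 1 n30917
theorem D32671 : act 1 n30917 = n32671 := rfl
theorem F74555 : act 0 n32671 = n32671 := d0_1 D32671 (iv D32671) F68201 D32375 F73353 F69029 (iv F73353) (iv D32375) (iv F68201)
theorem F74556 : act 3 n32671 = n30921 := d7_2 (iv F68203) D32671 (iv D30921)
theorem F74557 : act 5 n32671 = n32630 := d9_2 D30917 D32671 (iv D32630) (iv D30823) (iv F58164)
theorem F74558 : act 6 n32671 = n32652 := d10_2 (iv F68204) D32671 (iv D32652) (iv D30882) (iv F58264)
def n32672 : Q := act 5 n30918
theorem D32672 : act 5 n30918 = n32672 := rfl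
theorem F74559 : act 0 n32672 = n32190 := d4_1 D32672 (iv D32190) (iv F68205)
theorem F74560 : act 2 n32672 = n32200 := d13_1 D32672 (iv D32200) (iv F68207)
theorem F74561 : act 3 n32672 = n30919 := d16_1 D32672 (iv D30919) D30918
theorem F74562 : act 4 n32672 = n32189 := d18_1 D32672 (iv D32189) (iv F68208)
theorem F74563 : act 6 n32672 = n30937 := d20_2 F68209 D32672 (iv F68286) F65185 D32190 F72609 (iv F65031)
def n32673 : Q := act 1 n30919
theorem D32673 : act 1 n30919 = n32673 := rfl
theorem F74564 : act 2 n32673 = n32673 := d6_2 (iv F68210) D32673 (iv D32673) F68210 F58184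
theorem F74565 : act 4 n32673 = n30921 := d8_2 (iv F68211) D32673 (iv D30921)
theorem F74566 : act 5 n32673 = n32500 := d9_2 D30919 D32673 (iv D32500) F66827 (iv F58180)
theorem F74567 : act 6 n32673 = n32503 := d10_2 F68212 D32673 (iv D32503) F66837 (iv F58280)
theorem F74568 : act 0 n32673 = n32673 := d23_3 D27664 (iv F68210) D32673 F74566 F73858 (iv D32500) (iv F73852) F73855 F67893 F57882 (iv F64658) (iv F71047) (iv D31738) (iv D29118) (iv F62559) (iv D29108) (iv F52392) F58179 F58159
def n32674 : Q := act 0 n30927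
theorem D32674 : act 0 n30927 = n32674 := rfl
theorem F74569 : act 1 n32674 = n32662 := d0_2 D30927 D32674 (iv D32662) (iv D30903) F58126 F46713 (iv F61384) (iv F46764) (iv F58215)
theorem F74570 : act 2 n32674 = n32218 := d1_2 F71283 D32674 F72709
theorem F74571 : act 3 n32674 = n32274 := d2_2 (iv F68245) D32674 (iv D32274)
theorem F74572 : act 4 n32674 = n32393 := d3_2 (iv F68246) D32674 (iv D32393)
theorem F74573 : act 5 n32674 = n31811 := d4_2 F72711 D32674 (iv F72709)
def n32675 : Q := act 1 n30933
theorem D32675 : act 1 n30933 = n32675 := rfl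
theorem F74574 : act 0 n32675 = n31877 := d0_1 D32675 (iv D31877) (iv D29280) (iv D25591) (iv F52503) D29269 (iv F62928) (iv F62925) (iv F68269)
theorem F74575 : act 3 n32675 = n32658 := d7_2 (iv F68270) D32675 (iv D32658)
theorem F74576 : act 4 n32675 = n32633 := d8_2 F69052 D32675 (iv F74402)
theorem F74577 : act 6 n32675 = n30935 := d10_2 D30933 D32675 (iv D30935) (iv D27686) D27684
theorem F74578 : act 5 n32675 = n32629 := d23_0 F74386 D32675 F74574 F71492 F71430 F62925 F62928 (iv F62927) (iv D25595) (iv D21323) (iv F41231) F41233 (iv F52470) D29256 F62970 (iv F68250) (iv F68251) D31877 (iv F74574)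
theorem F74579 : act 2 n31862 = n32675 := d23_1 (iv F71437) (iv D32675) F68269 (iv F68181) (iv F71491) (iv D31877) (iv D29280) D29282 F62968 (iv D29256) (iv F52533) (iv D25592) F41239 D21323 (iv F41244) D25494 (iv F62707) (iv F62925) (iv F68269)
def n32676 : Q := act 2 n30966
theorem D32676 : act 2 n30966 = n32676 := rfl
theorem F74580 : act 6 n32676 = n30967 := d14_2 (iv F68408) D32676 (iv D30967)
def n32677 : Q := act 1 n30967
theorem D32677 : act 1 n30967 = n32677 := rfl
theorem F74581 : act 0 n32677 = n32677 := d0_1 D32677 (iv D32677) (iv F72581) F72582 (iv F73724) F73725 F73724 (iv F72582) F72581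
theorem F74582 : act 2 n32677 = n32677 := d6_2 D30967 D32677 (iv D32677) (iv D30967) F58886
def n32678 : Q := act 5 n30967
theorem D32678 : act 5 n30967 = n32678 := rfl
theorem F74583 : act 2 n32678 = n30968 := d13_1 D32678 (iv D30968) D30967
theorem F74584 : act 6 n31017 = n32678 := d14_0 F74583 (iv F68410) D31017
def n32679 : Q := act 2 n30969
theorem D32679 : act 2 n30969 = n32679 := rfl
theorem F74585 : act 4 n32679 = n32678 := d12_2 (iv F68411) D32679 F74583
theorem F74586 : act 5 n32679 = n30970 := d13_2 (iv F68412) D32679 (iv D30970)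
theorem F74587 : act 3 n32679 = n32678 := d21_1 D32679 F74583 F68409 F58887 (iv F48308) (iv F58995) (iv F68484) F68483
def n32680 : Q := act 1 n30970
theorem D32680 : act 1 n30970 = n32680 := rfl
theorem F74588 : act 0 n32680 = n32680 := d0_1 D32680 (iv D32680) (iv F72927) F72928 (iv F73677) F73680 F73677 (iv F72928) F72927
theorem F74589 : act 2 n32680 = n32680 := d6_2 D30970 D32680 (iv D32680) (iv D30970) F58903
theorem F74590 : act 3 n32680 = n32677 := d7_2 (iv F68414) D32680 (iv D32677)
theorem F74591 : act 4 n32680 = n32677 := d8_2 (iv F68413) D32680 (iv D32677)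
def n32681 : Q := act 6 n30970
theorem D32681 : act 6 n30970 = n32681 := rfl
theorem F74592 : act 2 n32681 = n30971 := d14_1 D32681 (iv D30971) D30970
theorem F74593 : act 3 n32681 = n32676 := d17_1 D32681 F74580 (iv F68414)
theorem F74594 : act 4 n32681 = n32676 := d19_1 D32681 F74580 (iv F68413)
theorem F74595 : act 5 n30991 = n32681 := d13_0 F74592 (iv F68417) D30991
def n32682 : Q := act 1 n30977
theorem D32682 : act 1 n30977 = n32682 := rfl
theorem F74596 : act 3 n32682 = n31562 := d7_2 (iv F68446) D32682 (iv D31562)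
theorem F74597 : act 4 n32682 = n30978 := d8_2 (iv F68447) D32682 (iv D30978)
theorem F74598 : act 6 n32682 = n30980 := d10_2 D30977 D32682 (iv D30980) (iv D27889) (iv F58956)
theorem F74599 : act 0 n32432 = n32682 := d3_3 F74597 (iv F73054) (iv F73612)
def n32683 : Q := act 5 n30978
theorem D32683 : act 5 n30978 = n32683 := rfl
theorem F74600 : act 0 n32683 = n32437 := d4_1 D32683 (iv D32437) F73054
theorem F74601 : act 3 n32683 = n31676 := d16_1 D32683 F70817 (iv F68449)
def n32684 : Q := act 1 n30979
theorem D32684 : act 1 n30979 = n32684 := rfl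
theorem F74602 : act 3 n32684 = n30980 := d7_2 (iv F68451) D32684 (iv D30980)
theorem F74603 : act 4 n32684 = n31567 := d8_2 F69378 D32684 F70443
theorem F74604 : act 6 n32684 = n31562 := d10_2 D30979 D32684 (iv D31562) F61728 (iv F58962)
def n32685 : Q := act 0 n30980
theorem D32685 : act 0 n30980 = n32685 := rfl
theorem F74605 : act 4 n32685 = n30981 := d3_2 (iv F68452) D32685 (iv D30981)
theorem F74606 : act 6 n32685 = n32432 := d5_2 F74598 D32685 F74599
def n32686 : Q := act 2 n30980
theorem D32686 : act 2 n30980 = n32686 := rfl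
theorem F74607 : act 1 n32686 = n30984 := d6_1 D32686 (iv D30984) (iv D27891) (iv F58964) D30980
theorem F74608 : act 4 n32686 = n30982 := d12_2 (iv F68452) D32686 (iv D30982)
theorem F74609 : act 3 n32686 = n30982 := d25_8 (iv F44806) (iv F56276) (iv F66650) (iv F73798) F73797 D32684 F74602 D32686 (iv D30982) (iv D27890) (iv F52184) F52183 F40996 F27798 D19707 F37109 D19748 D24067 D27991 (iv F61361) (iv F67874) F67873 F61492 F50495 (iv D23645) F35892 (iv F24601) F24600 F24601 (iv F35625) D23538 F46905 D23542 (iv F49113) F54839 (iv D26550) (iv F54836) (iv F56210) (iv D26954) (iv F56197) (iv D26952) (iv F51730) (iv D25237) (iv F51712) F51711 (iv D25219) F40277 (iv F36575) F36576 F37573 (iv D19638) (iv F36909) F36908 (iv D16953) (iv F26596) (iv F36700) F36699 F35297 (iv F37598) (iv F39803) (iv F43446) F43443 F43037 F30282 (iv F30307) (iv F44147) (iv F55096) (iv F58428) (iv D27745) F47142 (iv F49385) (iv D24399) (iv F37916) F37915 (iv F39238) F39237 F35713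
def n32687 : Q := act 5 n30980
theorem D32687 : act 5 n30980 = n32687 := rfl
theorem F74610 : act 4 n32687 = n30983 := d18_1 D32687 (iv D30983) (iv F68452)
def n32688 : Q := act 1 n30981
theorem D32688 : act 1 n30981 = n32688 := rfl
theorem F74611 : act 6 n32688 = n32438 := d10_2 (iv F73055) D32688 (iv D32438) (iv D30387) D30385
def n32689 : Q := act 5 n30981
theorem D32689 : act 5 n30981 = n32689 := rfl
theorem F74612 : act 0 n32689 = n30983 := d4_1 D32689 (iv D30983) D30981
theorem F74613 : act 6 n32689 = n32683 := d20_2 (iv F73055) D32689 (iv D32683) F68450 D30983 (iv F73629) (iv D32437)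
theorem F74614 : act 2 n32689 = n32476 := d23_1 D32689 (iv D32476) (iv F73700) (iv F73704) (iv D30430) (iv F66549) (iv F73495) (iv D32409) F66102 (iv D30083) (iv F54285) (iv D26343) F42325 F28570 (iv F37190) F37192 (iv F48281) D27890 D30981
theorem F74615 : act 1 n32689 = n32477 := d24_2 (iv F73055) D32689 F73753 F72910 (iv D31647) (iv D28996) F60403 F60401 (iv F60380) (iv F60422) (iv F67619) (iv D30743) F57535 D30385
theorem F74616 : act 5 n32464 = n32476 := d13_2 (iv D32689) (iv F73715) (iv F74614)
theorem F74617 : act 1 n32464 = n32474 := d23_2 (iv D32689) (iv F73715) F73747 (iv F73745) F73744 (iv D31005) (iv F60730) F60733 F50732 F50718 (iv F50521) (iv F50547) F50546 D24876 D28775 (iv F69699) (iv F69701) F68621 (iv F74612)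
theorem F74618 : act 6 n32474 = n32465 := d10_2 D32464 F74617 (iv D32465) (iv D30423) D30421
def n32690 : Q := act 5 n30982
theorem D32690 : act 5 n30982 = n32690 := rfl
theorem F74619 : act 0 n32690 = n32476 := d4_1 D32690 (iv F74616) F73714
theorem F74620 : act 1 n32690 = n31313 := d9_1 D32690 F69696 (iv F68555) (iv D30987) (iv F68453)
theorem F74621 : act 2 n32690 = n30983 := d13_1 D32690 (iv D30983) D30982
theorem F74622 : act 6 n32690 = n32463 := d22_1 D32690 (iv D32463) D32464 F73714
def n32691 : Q := act 5 n30984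
theorem D32691 : act 5 n30984 = n32691 := rfl
theorem F74623 : act 0 n32691 = n32484 := d4_1 D32691 (iv F73932) F73929
theorem F74624 : act 2 n32691 = n30985 := d13_1 D32691 (iv D30985) D30984
theorem F74625 : act 3 n32691 = n30987 := d16_1 D32691 (iv D30987) (iv F68456)
theorem F74626 : act 4 n32691 = n30987 := d18_1 D32691 (iv D30987) (iv F68454)
theorem F74627 : act 6 n32691 = n32486 := d20_2 (iv F68455) D32691 F73795 (iv F73933) F73932 F73785 F66633
def n32692 : Q := act 1 n30986
theorem D32692 : act 1 n30986 = n32692 := rfl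
def n32693 : Q := act 2 n30988
theorem D32693 : act 2 n30988 = n32693 := rfl
theorem F74628 : act 0 n32693 = n30991 := d1_1 D32693 (iv D30991) (iv F68465)
theorem F74629 : act 1 n32693 = n31283 := d6_1 D32693 (iv D31283) (iv F60579) (iv F66995) (iv F68466)
theorem F74630 : act 4 n32693 = n31017 := d12_2 (iv F68467) D32693 (iv D31017)
theorem F74631 : act 6 n32693 = n32679 := d14_2 (iv F68468) D32693 (iv D32679)
theorem F74632 : act 3 n32693 = n31017 := d21_1 D32693 (iv D31017) (iv D27929) (iv D24012) F37047 D23987 D27901 (iv F68465)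
def n32694 : Q := act 3 n30991
theorem D32694 : act 3 n30991 = n32694 := rfl
theorem F74633 : act 0 n32694 = n31017 := d2_1 D32694 (iv F74632) F74628
theorem F74634 : act 1 n32694 = n31312 := d7_1 D32694 F69692 (iv F68478)
theorem F74635 : act 2 n32694 = n30992 := d11_1 D32694 F68481 (iv D27927) F48372 D27899 D30988 D32693 F74632 (iv D31017) (iv D27929) (iv D24012) F37047 D23987 D27901 D30991
theorem F74636 : act 5 n32694 = n32676 := d16_2 (iv F74595) D32694 (iv F74593)
theorem F74637 : act 4 n30991 = n32694 := d18_3 F74636 (iv F74594) (iv F74595)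
def n32695 : Q := act 6 n30991
theorem D32695 : act 6 n30991 = n32695 := rfl
theorem F74638 : act 0 n32695 = n32679 := d5_1 D32695 (iv F74631) F74628
theorem F74639 : act 1 n32695 = n32463 := d10_1 D32695 (iv F74622) F74620 (iv D31313) (iv F68478)
theorem F74640 : act 2 n32695 = n30993 := d14_1 D32695 (iv D30993) D30991
theorem F74641 : act 5 n32269 = n32695 := d22_0 (iv D32695) F74595 (iv D32681) (iv F72927)
def n32696 : Q := act 1 n31004
theorem D32696 : act 1 n31004 = n32696 := rfl
theorem F74642 : act 3 n32696 = n31582 := d7_2 (iv F68536) D32696 (iv D31582)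
theorem F74643 : act 4 n32696 = n31005 := d8_2 (iv F68537) D32696 (iv D31005)
theorem F74644 : act 5 n32696 = n31007 := d9_2 D31004 D32696 (iv D31007) (iv D27917) (iv F59027)
theorem F74645 : act 0 n32445 = n32696 := d3_3 F74643 (iv F72475) (iv F73654)
def n32697 : Q := act 6 n31005
theorem D32697 : act 6 n31005 = n32697 := rfl
theorem F74646 : act 0 n32697 = n32450 := d5_1 D32697 (iv D32450) F72475
theorem F74647 : act 3 n32697 = n31665 := d17_1 D32697 F70774 (iv F68539)
def n32698 : Q := act 1 n31006
theorem D32698 : act 1 n31006 = n32698 := rfl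
theorem F74648 : act 3 n32698 = n31007 := d7_2 (iv F68541) D32698 (iv D31007)
theorem F74649 : act 4 n32698 = n31586 := d8_2 F69478 D32698 F70502
theorem F74650 : act 5 n32698 = n31582 := d9_2 D31006 D32698 (iv D31582) F61833 (iv F59033)
def n32699 : Q := act 0 n31007
theorem D32699 : act 0 n31007 = n32699 := rfl
theorem F74651 : act 4 n32699 = n31008 := d3_2 (iv F68542) D32699 (iv D31008)
theorem F74652 : act 5 n32699 = n32445 := d4_2 F74644 D32699 F74645
def n32700 : Q := act 2 n31007
theorem D32700 : act 2 n31007 = n32700 := rfl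
theorem F74653 : act 1 n32700 = n31011 := d6_1 D32700 (iv D31011) (iv D27919) (iv F59035) D31007
theorem F74654 : act 4 n32700 = n31009 := d12_2 (iv F68542) D32700 (iv D31009)
theorem F74655 : act 3 n32700 = n31009 := d25_8 (iv F44816) (iv F56292) (iv F66684) (iv F73808) F73807 D32698 F74648 D32700 (iv D31009) (iv D27918) (iv F52246) F52245 F41044 F35291 D19720 F37151 D19786 D24118 D28061 F61361 (iv F68058) F68057 F61647 F50595 (iv D23697) F36026 (iv F24706) F24705 F24706 (iv F35776) D23598 F47079 D23601 (iv F49271) F54743 (iv D26521) (iv F54740) (iv F56141) (iv D26936) (iv F56128) (iv D26934) (iv F51569) (iv D25189) (iv F51551) F51550 (iv D25171) F40057 (iv F36512) F36443 F37541 (iv D19643) (iv F36927) F36926 (iv D16780) (iv F26531) (iv F36706) F36705 (iv F35316) (iv F37566) F39813 (iv F42904) (iv F43579) F43581 F30154 (iv F30172) (iv F44008) (iv F55569) (iv F58357) (iv D27727) F46993 (iv F49413) (iv D24409) F37916 F37893 (iv F39343) F39342 (iv F35852)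
def n32701 : Q := act 6 n31007
theorem D32701 : act 6 n31007 = n32701 := rfl
theorem F74656 : act 4 n32701 = n31010 := d19_1 D32701 (iv D31010) (iv F68542)
def n32702 : Q := act 1 n31008
theorem D32702 : act 1 n31008 = n32702 := rfl
theorem F74657 : act 2 n32702 = n32688 := d6_2 F73748 D32702 (iv D32688) (iv F73715) F74617
theorem F74658 : act 5 n32702 = n32451 := d9_2 (iv F72476) D32702 (iv D32451) (iv D30407) D30405
def n32703 : Q := act 6 n31008
theorem D32703 : act 6 n31008 = n32703 := rfl
theorem F74659 : act 0 n32703 = n31010 := d5_1 D32703 (iv D31010) D31008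
theorem F74660 : act 2 n32703 = n32465 := d14_1 D32703 (iv F74618) F73748
theorem F74661 : act 5 n32703 = n32697 := d20_1 D32703 (iv D32697) F68540 D31010 (iv F73671) (iv D32450) (iv F72476)
theorem F74662 : act 1 n32466 = n32703 := d24_14 (iv D32703) F72476 (iv D30405) (iv F57743) D30780 F67756 F60501 F60459 (iv F60480) (iv F60482) D28990 D31642 (iv F72565) (iv F73718)
def n32704 : Q := act 6 n31009
theorem D32704 : act 6 n31009 = n32704 := rfl
theorem F74663 : act 0 n32704 = n32465 := d5_1 D32704 (iv F74618) F73747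
theorem F74664 : act 1 n32704 = n31284 := d10_1 D32704 F69618 F68555 (iv D31014) (iv F68543)
theorem F74665 : act 2 n32704 = n31010 := d14_1 D32704 (iv D31010) D31009
theorem F74666 : act 5 n32704 = n32475 := d22_2 F73745 D32704 (iv D32475) D32473
def n32705 : Q := act 6 n31011
theorem D32705 : act 6 n31011 = n32705 := rfl
theorem F74667 : act 0 n32705 = n32480 := d5_1 D32705 (iv F73900) F73896
theorem F74668 : act 2 n32705 = n31012 := d14_1 D32705 (iv D31012) D31011
theorem F74669 : act 3 n32705 = n31014 := d17_1 D32705 (iv D31014) (iv F68546)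
theorem F74670 : act 4 n32705 = n31014 := d19_1 D32705 (iv D31014) (iv F68544)
theorem F74671 : act 5 n32705 = n32482 := d20_1 D32705 F73776 (iv F73899) F73900 F73766 F66600 (iv F68545)
theorem F74672 : act 1 n32691 = n32705 := d8_3 F74670 (iv F68555) (iv F74626)
def n32706 : Q := act 1 n31013
theorem D32706 : act 1 n31013 = n32706 := rfl
theorem F74673 : act 0 n32706 = n32692 := d0_1 D32706 (iv D32692) F68462 (iv F68453) (iv F73714) F74617 F73747 F68543 (iv F68552)
def n32707 : Q := act 5 n31017
theorem D32707 : act 5 n31017 = n32707 := rfl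
theorem F74674 : act 0 n32707 = n32676 := d4_1 D32707 (iv F74636) F74633
theorem F74675 : act 1 n32707 = n32475 := d9_1 D32707 (iv F74666) F74664 (iv D31284) (iv F68565)
theorem F74676 : act 2 n32707 = n31018 := d13_1 D32707 (iv D31018) D31017
theorem F74677 : act 6 n32707 = n32184 := d22_3 D32678 (iv F74584) D32707 F72581
def n32708 : Q := act 5 n31029
theorem D32708 : act 5 n31029 = n32708 := rfl
theorem F74678 : act 0 n32708 = n32612 := d4_1 D32708 F74302 F70317
theorem F74679 : act 1 n32708 = n32687 := d9_1 D32708 (iv D32687) (iv D30980) (iv F59120) D31029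
theorem F74680 : act 2 n32708 = n32481 := d13_1 D32708 F73771 (iv F70316)
theorem F74681 : act 3 n32708 = n32591 := d16_1 D32708 (iv D32591) (iv F68619)
theorem F74682 : act 4 n32708 = n31030 := d18_1 D32708 (iv D31030) (iv F68620)
theorem F74683 : act 6 n32708 = n32235 := d20_2 F70738 D32708 (iv F73330) F73331 (iv F74302) F74303 (iv F70737)
def n32709 : Q := act 5 n31033
theorem D32709 : act 5 n31033 = n32709 := rfl
theorem F74684 : act 1 n32709 = n31289 := d9_1 D32709 F69635 F68638 (iv D31034) D31033
theorem F74685 : act 2 n32709 = n31316 := d13_1 D32709 (iv F71128) (iv F71130)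
theorem F74686 : act 3 n32709 = n31036 := d16_1 D32709 (iv D31036) (iv F68631)
theorem F74687 : act 4 n32709 = n31288 := d18_1 D32709 F69632 F69381
def n32710 : Q := act 6 n31041
theorem D32710 : act 6 n31041 = n32710 := rfl
theorem F74688 : act 0 n32710 = n31043 := d5_1 D32710 (iv D31043) (iv F68656)
theorem F74689 : act 1 n32710 = n31825 := d10_1 D32710 (iv D31825) F62773 D30374 (iv F68657)
theorem F74690 : act 2 n32710 = n32367 := d14_1 D32710 F73317 F68808
theorem F74691 : act 3 n32710 = n31042 := d17_1 D32710 (iv D31042) D31041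
theorem F74692 : act 4 n32710 = n32603 := d19_1 D32710 (iv D32603) (iv F68658)
theorem F74693 : act 5 n32710 = n32330 := d20_1 D32710 (iv D32330) F65435 D31043 (iv F71504) (iv F73170) F73169
def n32711 : Q := act 5 n31046
theorem D32711 : act 5 n31046 = n32711 := rfl
theorem F74694 : act 0 n32711 = n31949 := d4_1 D32711 F71721 (iv F68678)
theorem F74695 : act 1 n32711 = n31919 := d9_1 D32711 F71644 F69719 F60834 (iv F68679)
theorem F74696 : act 2 n32711 = n31393 := d13_1 D32711 F69929 (iv F68680)
theorem F74697 : act 3 n32711 = n31950 := d16_1 D32711 F71725 F71590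
theorem F74698 : act 4 n32711 = n31047 := d18_1 D32711 (iv D31047) D31046
theorem F74699 : act 6 n32711 = n31392 := d22_1 D32711 (iv D31392) (iv F65399) (iv F68678)
def n32712 : Q := act 3 n31048
theorem D32712 : act 3 n31048 = n32712 := rfl
theorem F74700 : act 0 n32712 = n31629 := d2_1 D32712 F70657 (iv F68686)
theorem F74701 : act 4 n32712 = n31630 := d15_2 (iv F68687) D32712 F70660 (iv F65656) F65655
theorem F74702 : act 6 n32712 = n32336 := d17_2 (iv F68688) D32712 (iv D32336)
def n32713 : Q := act 3 n31049
theorem D32713 : act 3 n31049 = n32713 := rfl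
theorem F74703 : act 0 n32713 = n31050 := d2_1 D32713 (iv D31050) D31049
theorem F74704 : act 1 n32713 = n31867 := d7_1 D32713 F71461 (iv F68689)
theorem F74705 : act 2 n32713 = n32329 := d11_1 D32713 (iv D32329) (iv D30092) (iv F65421) (iv F65424) F59386 (iv F59228) D31050 F68697 (iv D30093) (iv D26351) (iv F54296) D30090 (iv F65427) (iv F68690)
theorem F74706 : act 4 n32713 = n32608 := d15_2 (iv F68691) D32713 (iv D32608) F67599 (iv F59946)
theorem F74707 : act 5 n32713 = n31078 := d16_2 (iv F68692) D32713 (iv D31078)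
theorem F74708 : act 6 n32713 = n32368 := d17_2 (iv F68693) D32713 F73321
def n32714 : Q := act 1 n31058
theorem D32714 : act 1 n31058 = n32714 := rfl
theorem F74709 : act 0 n32714 = n32714 := d0_1 D32714 (iv D32714) F68733 (iv F67251) (iv F74100) F74101 F74100 F67251 (iv F68733)
theorem F74710 : act 2 n32714 = n31767 := d6_2 (iv F68734) D32714 (iv D31767) F62627 (iv F62611)
theorem F74711 : act 3 n32714 = n31059 := d7_2 (iv F68735) D32714 (iv D31059)
theorem F74712 : act 4 n32714 = n31882 := d8_2 (iv F68736) D32714 F71506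
theorem F74713 : act 5 n32714 = n31758 := d9_2 D31058 D32714 (iv D31758) (iv D29135) (iv F59290)
theorem F74714 : act 6 n32714 = n31767 := d10_2 (iv F68737) D32714 (iv D31767) (iv F63213) F63210
def n32715 : Q := act 2 n31062
theorem D32715 : act 2 n31062 = n32715 := rfl
theorem F74715 : act 0 n32715 = n31063 := d1_1 D32715 (iv D31063) D31062
theorem F74716 : act 3 n32715 = n31800 := d11_2 (iv F68753) D32715 F71247 F62693 D30831 (iv F67925) (iv D28014) (iv F59303) D31063 (iv F68758) (iv F70842) F70843 (iv F73558) F73559 F68396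
theorem F74717 : act 4 n32715 = n31879 := d12_2 F72353 D32715 (iv F72352)
theorem F74718 : act 5 n32715 = n32510 := d13_2 F72373 D32715 F73892
theorem F74719 : act 6 n32715 = n32715 := d14_2 F68754 D32715 (iv D32715)
def n32716 : Q := act 6 n31066
theorem D32716 : act 6 n31066 = n32716 := rfl
theorem F74720 : act 0 n32716 = n32593 := d5_1 D32716 F74220 F70165
theorem F74721 : act 1 n32716 = n32701 := d10_1 D32716 (iv D32701) (iv D31007) (iv F59336) D31066
theorem F74722 : act 2 n32716 = n32485 := d14_1 D32716 F73791 F70164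
theorem F74723 : act 3 n32716 = n32576 := d17_1 D32716 (iv D32576) (iv F68767)
theorem F74724 : act 4 n32716 = n31067 := d19_1 D32716 (iv D31067) (iv F68768)
theorem F74725 : act 5 n32716 = n32137 := d20_1 D32716 (iv F73183) F73182 (iv F74220) F74219 (iv F70779) F70778
def n32717 : Q := act 6 n31070
theorem D32717 : act 6 n31070 = n32717 := rfl
theorem F74726 : act 1 n32717 = n31287 := d10_1 D32717 F69628 F68787 (iv D31071) D31070
theorem F74727 : act 2 n32717 = n31288 := d14_1 D32717 (iv F70984) (iv F70985)
theorem F74728 : act 3 n32717 = n31073 := d17_1 D32717 (iv D31073) (iv F68780)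
theorem F74729 : act 4 n32717 = n31316 := d19_1 D32717 F69707 F69475
def n32718 : Q := act 6 n31081
theorem D32718 : act 6 n31081 = n32718 := rfl
theorem F74730 : act 0 n32718 = n32069 := d5_1 D32718 F72114 (iv F68820)
theorem F74731 : act 1 n32718 = n32047 := d10_1 D32718 F72048 F69786 F60896 (iv F68821)
theorem F74732 : act 2 n32718 = n31430 := d14_1 D32718 F70050 (iv F68822)
theorem F74733 : act 3 n32718 = n32070 := d17_1 D32718 F72118 F72000
theorem F74734 : act 4 n32718 = n31082 := d19_1 D32718 (iv D31082) D31081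
theorem F74735 : act 5 n32718 = n31429 := d22_2 F70038 D32718 (iv D31429) (iv F70035)
def n32719 : Q := act 3 n31083
theorem D32719 : act 3 n31083 = n32719 := rfl
theorem F74736 : act 0 n32719 = n31620 := d2_1 D32719 F70632 (iv F68828)
theorem F74737 : act 4 n32719 = n31621 := d15_2 (iv F68829) D32719 F70635 (iv F65370) F65369
theorem F74738 : act 5 n32719 = n32298 := d16_2 (iv F68830) D32719 (iv D32298)
def n32720 : Q := act 1 n31091
theorem D32720 : act 1 n31091 = n32720 := rfl
theorem F74739 : act 0 n32720 = n32720 := d0_1 D32720 (iv D32720) F68866 (iv F67310) (iv F74165) F74166 F74165 F67310 (iv F68866)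
theorem F74740 : act 2 n32720 = n31722 := d6_2 (iv F68867) D32720 (iv D31722) F62546 (iv F62527)
theorem F74741 : act 3 n32720 = n31092 := d7_2 (iv F68868) D32720 (iv D31092)
theorem F74742 : act 4 n32720 = n32013 := d8_2 (iv F68869) D32720 F71917
theorem F74743 : act 5 n32720 = n31722 := d9_2 (iv F68870) D32720 (iv D31722) (iv F63543) F63540
theorem F74744 : act 6 n32720 = n31713 := d10_2 D31091 D32720 (iv D31713) (iv D29084) (iv F59500)
def n32721 : Q := act 2 n31095
theorem D32721 : act 2 n31095 = n32721 := rfl
theorem F74745 : act 0 n32721 = n31096 := d1_1 D32721 (iv D31096) D31095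
theorem F74746 : act 3 n32721 = n31840 := d11_2 (iv F68886) D32721 F71368 F62837 D30889 (iv F68113) (iv D28084) (iv F59513) D31096 (iv F68891) (iv F70867) F70868 (iv F73476) F73477 F68383
theorem F74747 : act 4 n32721 = n31838 := d12_2 F72761 D32721 (iv F72760)
theorem F74748 : act 5 n32721 = n32721 := d13_2 F68887 D32721 (iv D32721)
theorem F74749 : act 6 n32721 = n32519 := d14_2 F72777 D32721 F73924
def n32722 : Q := act 3 n31101
theorem D32722 : act 3 n31101 = n32722 := rfl
theorem F74750 : act 0 n32722 = n32283 := d2_1 D32722 (iv D32283) (iv F68910)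
theorem F74751 : act 1 n32722 = n31988 := d7_1 D32722 (iv F71834) F69031
theorem F74752 : act 2 n32722 = n31994 := d11_1 D32722 (iv F73007) F73006 F72145 F71745 (iv D29992) (iv F65134) D32283 F72989 F72684 F72154 F63585 (iv F71753) F71754 (iv F68911)
theorem F74753 : act 4 n32722 = n31104 := d15_2 D31101 D32722 (iv D31104) (iv D28095) D28094
theorem F74754 : act 6 n32209 = n32722 := d19_0 F74753 (iv F68921) (iv F72676)
def n32723 : Q := act 5 n31101
theorem D32723 : act 5 n31101 = n32723 := rfl
theorem F74755 : act 0 n32723 = n32284 := d4_1 D32723 (iv D32284) (iv F68910)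
theorem F74756 : act 2 n32723 = n32281 := d13_1 D32723 (iv D32281) (iv F68911)
theorem F74757 : act 4 n32723 = n31102 := d18_1 D32723 (iv D31102) D31101
def n32724 : Q := act 6 n31101
theorem D32724 : act 6 n31101 = n32724 := rfl
theorem F74758 : act 0 n32724 = n32285 := d5_1 D32724 (iv D32285) (iv F68910)
theorem F74759 : act 2 n32724 = n31959 := d14_1 D32724 (iv F71749) (iv F68911)
theorem F74760 : act 3 n32724 = n32209 := d17_1 D32724 F74754 (iv D32722)
theorem F74761 : act 4 n32724 = n31103 := d19_1 D32724 (iv D31103) D31101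
theorem F74762 : act 5 n32724 = n32208 := d22_2 (iv D32723) D32724 F72994 (iv F74755)
theorem F74763 : act 1 n32164 = n32724 := d8_3 F74761 (iv F68918) D32164
def n32725 : Q := act 1 n31102
theorem D32725 : act 1 n31102 = n32725 := rfl
theorem F74764 : act 0 n32725 = n32725 := d0_1 D32725 (iv D32725) F68912 (iv F72541) F72540 F72019 (iv F72540) F72541 (iv F68912)
theorem F74765 : act 3 n32725 = n31106 := d7_2 (iv F68914) D32725 (iv D31106)
def n32726 : Q := act 6 n31106
theorem D32726 : act 6 n31106 = n32726 := rfl
theorem F74766 : act 0 n32726 = n32726 := d5_1 D32726 (iv D32726) F68928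
theorem F74767 : act 1 n32726 = n31135 := d10_1 D32726 F69038 F59701 (iv F59593) D31106
theorem F74768 : act 2 n32726 = n32726 := d14_1 D32726 (iv D32726) F68929
theorem F74769 : act 4 n32726 = n31136 := d19_1 D32726 F69041 F68977
theorem F74770 : act 5 n32726 = n31117 := d22_2 F69040 D32726 (iv F69041) F69042
def n32727 : Q := act 3 n31113
theorem D32727 : act 3 n31113 = n32727 := rfl
theorem F74771 : act 0 n32727 = n32208 := d2_1 D32727 (iv D32208) (iv F68961)
theorem F74772 : act 1 n32727 = n32101 := d7_1 D32727 (iv F72234) F69066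
theorem F74773 : act 2 n32727 = n32102 := d11_1 D32727 (iv F72692) F72691 (iv F72141) F72140 (iv D29791) (iv F64438) D32208 (iv F73002) F73003 F71750 (iv F63583) (iv F72151) F72152 (iv F68962)
theorem F74774 : act 4 n32727 = n31116 := d15_2 D31113 D32727 (iv D31116) (iv D28113) D28112
theorem F74775 : act 5 n32285 = n32727 := d18_0 F74774 F68972 (iv F72996)
theorem F74776 : act 6 n32723 = n32727 := d19_0 F74774 F68973 (iv F74757)
def n32728 : Q := act 5 n31113
theorem D32728 : act 5 n31113 = n32728 := rfl
theorem F74777 : act 0 n32728 = n32209 := d4_1 D32728 (iv D32209) (iv F68961)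
theorem F74778 : act 2 n32728 = n32078 := d13_1 D32728 (iv F72149) (iv F68962)
theorem F74779 : act 3 n32728 = n32285 := d16_1 D32728 F74775 (iv D32727)
theorem F74780 : act 4 n32728 = n31114 := d18_1 D32728 (iv D31114) D31113
theorem F74781 : act 6 n32728 = n32283 := d22_1 D32728 (iv F72990) (iv D32210) (iv F68961)
theorem F74782 : act 1 n32254 = n32728 := d8_3 F74780 (iv F68966) D32254
def n32729 : Q := act 6 n31113
theorem D32729 : act 6 n31113 = n32729 := rfl
theorem F74783 : act 0 n32729 = n32210 := d5_1 D32729 (iv D32210) (iv F68961)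
theorem F74784 : act 2 n32729 = n32206 := d14_1 D32729 (iv D32206) (iv F68962)
theorem F74785 : act 3 n32729 = n32723 := d17_1 D32729 F74776 (iv D32727)
theorem F74786 : act 4 n32729 = n31115 := d19_1 D32729 (iv D31115) D31113
theorem F74787 : act 5 n32729 = n32722 := d20_1 D32729 (iv F74754) (iv D32209) D32210 F72990 (iv F74781) (iv D32728)
def n32730 : Q := act 1 n31115
theorem D32730 : act 1 n31115 = n32730 := rfl
theorem F74788 : act 0 n32730 = n32730 := d0_1 D32730 (iv D32730) F68967 (iv F72665) F72661 F71619 (iv F72661) F72665 (iv F68967)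
theorem F74789 : act 2 n32730 = n32725 := d6_2 (iv F68968) D32730 (iv D32725) F68913 F65121
theorem F74790 : act 3 n32730 = n31117 := d7_2 (iv F68969) D32730 (iv D31117)
def n32731 : Q := act 5 n31126
theorem D32731 : act 5 n31126 = n32731 := rfl
theorem F74791 : act 0 n32731 = n31133 := d4_1 D32731 (iv D31133) (iv F69014)
theorem F74792 : act 1 n32731 = n32201 := d9_1 D32731 (iv D32201) F64334 D29773 (iv F69015)
theorem F74793 : act 2 n32731 = n31133 := d13_1 D32731 (iv D31133) (iv F69016)
theorem F74794 : act 3 n32731 = n31127 := d16_1 D32731 (iv D31127) D31126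
theorem F74795 : act 6 n32731 = n31141 := d20_2 F69070 D32731 F69064 (iv D31134) D31133 (iv F69033) D31143
def n32732 : Q := act 1 n31128
theorem D32732 : act 1 n31128 = n32732 := rfl
theorem F74796 : act 2 n32732 = n32191 := d6_2 (iv F69023) D32732 (iv D32191) F64298 D29770
theorem F74797 : act 3 n32732 = n32666 := d7_2 (iv F69024) D32732 (iv D32666)
theorem F74798 : act 4 n32732 = n31129 := d8_2 (iv F69025) D32732 (iv D31129)
theorem F74799 : act 5 n32732 = n32196 := d9_2 D31128 D32732 F72627 F64321 (iv F59637)
theorem F74800 : act 6 n32732 = n32276 := d10_2 (iv F69026) D32732 F72956 F65062 (iv F59690)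
def n32733 : Q := act 0 n31129
theorem D32733 : act 0 n31129 = n32733 := rfl
theorem F74801 : act 3 n32733 = n31130 := d2_2 (iv F69027) D32733 (iv D31130)
theorem F74802 : act 5 n32733 = n32654 := d4_2 F71337 D32733 F74490
theorem F74803 : act 6 n32733 = n32635 := d5_2 F71472 D32733 F74406
theorem F74804 : act 1 n32634 = n32733 := d23_2 (iv F74405) F74404 (iv D32733) (iv F71337) (iv F72620) (iv D32194) (iv F68160) (iv D30904) F58131 (iv F64278) F64277 (iv F64796) (iv F64824) F64823 (iv F58080) (iv D27620) (iv F58077) D30886 F68101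
def n32734 : Q := act 2 n31129
theorem D32734 : act 2 n31129 = n32734 := rfl
theorem F74805 : act 1 n32734 = n32190 := d6_1 D32734 F72607 (iv F69018) F69019 D31129
theorem F74806 : act 4 n32734 = n32191 := d12_2 F74798 D32734 (iv F74796)
theorem F74807 : act 5 n32734 = n32194 := d13_2 F71337 D32734 F72620
theorem F74808 : act 6 n32734 = n32273 := d14_2 F71472 D32734 F72946
def n32735 : Q := act 1 n31130
theorem D32735 : act 1 n31130 = n32735 := rfl
theorem F74809 : act 0 n32735 = n32735 := d0_1 D32735 (iv D32735) (iv D31130) (iv D28133) F48762 F37396 (iv F48762) D28133 D31130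
theorem F74810 : act 2 n32735 = n32671 := d6_2 (iv F73354) D32735 (iv D32671) F68202 D32375
theorem F74811 : act 3 n32735 = n32634 := d7_2 F74801 D32735 F74804
theorem F74812 : act 4 n32735 = n32669 := d8_2 (iv F69028) D32735 (iv D32669)
theorem F74813 : act 5 n32735 = n32652 := d9_2 F71339 D32735 (iv D32652) D32653 F74489
theorem F74814 : act 6 n32735 = n32630 := d10_2 F71474 D32735 (iv D32630) D32631 (iv F74394)
def n32736 : Q := act 3 n31131
theorem D32736 : act 3 n31131 = n32736 := rfl
theorem F74815 : act 0 n32736 = n32665 := d2_1 D32736 F74539 F73353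
theorem F74816 : act 1 n32736 = n32736 := d7_1 D32736 (iv D32736) F69029
def n32737 : Q := act 5 n31132
theorem D32737 : act 5 n31132 = n32737 := rfl
theorem F74817 : act 4 n32737 = n31133 := d18_1 D32737 (iv D31133) D31132
theorem F74818 : act 6 n31142 = n32737 := d24_0 (iv D32737) F69031 D32724 F74762 F72674 (iv F71749) D32281 F72978 (iv D32206) F72149 (iv F72987) (iv F74781) (iv D32728) (iv F69066)
def n32738 : Q := act 6 n31132
theorem D32738 : act 6 n31132 = n32738 := rfl
theorem F74819 : act 3 n32738 = n32106 := d17_1 D32738 F72251 (iv F71834)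
theorem F74820 : act 4 n32738 = n31134 := d19_1 D32738 (iv D31134) D31132
theorem F74821 : act 5 n32738 = n32104 := d24_1 D32738 (iv D32104) (iv D29557) (iv F63177) F63175 F52662 D25694 D29418 D31998 (iv F72233) (iv F74772) (iv F74776) (iv D32723) (iv F69031)
def n32739 : Q := act 1 n31133
theorem D32739 : act 1 n31133 = n32739 := rfl
theorem F74822 : act 0 n32739 = n32739 := d0_1 D32739 (iv D32739) (iv F74791) F74792 F72644 F71847 (iv F72644) (iv F74792) F74791
theorem F74823 : act 3 n32739 = n31136 := d7_2 (iv F69032) D32739 (iv D31136)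
theorem F74824 : act 5 n32739 = n32725 := d9_2 D31133 D32739 (iv D32725) (iv D31102) (iv F59646)
theorem F74825 : act 6 n32739 = n32730 := d10_2 F69033 D32739 (iv D32730) (iv D31115) (iv F59699)
def n32740 : Q := act 5 n31142
theorem D32740 : act 5 n31142 = n32740 := rfl
theorem F74826 : act 0 n32740 = n32738 := d4_1 D32740 F74821 (iv F72243)
theorem F74827 : act 2 n32740 = n32738 := d13_1 D32740 F74821 F72240
theorem F74828 : act 3 n32740 = n31998 := d16_1 D32740 (iv F72233) (iv F72234)
theorem F74829 : act 4 n32740 = n31143 := d18_1 D32740 (iv D31143) D31142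
theorem F74830 : act 6 n32740 = n31996 := d22_3 D32737 (iv F74818) D32740 (iv F71858)
def n32741 : Q := act 5 n31185
theorem D32741 : act 5 n31185 = n32741 := rfl
theorem F74831 : act 1 n32741 = n31204 := d9_1 D32741 (iv D31204) (iv D28348) (iv F60254) D31185
theorem F74832 : act 2 n32741 = n32580 := d13_1 D32741 F74164 F71609
theorem F74833 : act 3 n32741 = n32493 := d16_1 D32741 F73830 (iv F69265)
theorem F74834 : act 4 n32741 = n31654 := d18_1 D32741 (iv D31654) (iv F69266)
theorem F74835 : act 6 n32741 = n32034 := d22_1 D32741 (iv F71994) (iv F73160) F73157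
def n32742 : Q := act 6 n31188
theorem D32742 : act 6 n31188 = n32742 := rfl
theorem F74836 : act 1 n32742 = n31211 := d10_1 D32742 (iv D31211) (iv D28354) (iv F60268) D31188
theorem F74837 : act 2 n32742 = n32565 := d14_1 D32742 F74099 F72012
theorem F74838 : act 3 n32742 = n32494 := d17_1 D32742 F73835 (iv F69275)
theorem F74839 : act 4 n32742 = n31655 := d19_1 D32742 (iv D31655) (iv F69276)
theorem F74840 : act 5 n32742 = n31903 := d22_2 (iv F69277) D32742 (iv F71585) (iv F67442)
def n32743 : Q := act 2 n31203
theorem D32743 : act 2 n31203 = n32743 := rfl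
theorem F74841 : act 1 n32743 = n32384 := d6_1 D32743 F73387 F72658 (iv D31205) (iv F69329)
theorem F74842 : act 3 n32743 = n31622 := d21_1 D32743 (iv D31622) F62211 D28964 D31624 F70641 (iv F71066) F71065
theorem F74843 : act 4 n32743 = n32385 := d25_52 F72633 (iv F74842) (iv D32743) (iv D31203) (iv F69319) (iv D31201) D31202 F69328 F60922 (iv F63420) (iv F63422) (iv F70187) (iv F70344) F70345 (iv F69765) (iv D31340) (iv F67149) (iv F71572) (iv F71642) F71641 (iv F70463) F70464 (iv D31272) F60572 D28441 F60576 (iv F60580) F60581 (iv D24578) F38306 D20216 F38308 D20220 D24588 D28455 F60618 (iv F64592) F64594 F60397 (iv D28372) (iv D24520) (iv D20172) F26040 D14986 D20224 D24596 (iv F49916) (iv F53509) (iv F64413) D32204 (iv F73387) (iv F74841) F73391 F67749 (iv D30778) (iv D27468) (iv D23315) (iv F46251) (iv F52115) (iv D25392) (iv D21182) (iv D16021) (iv F27660) (iv F40883) (iv F52054) (iv F52119) D29048 F62405 D29050 D31686 F70864 F64831 F53859 F43736 (iv F53481) (iv F64308) D32198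
def n32744 : Q := act 4 n31203
theorem D32744 : act 4 n31203 = n32744 := rfl
theorem F74844 : act 0 n32744 = n32610 := d3_1 D32744 F74292 F71065
theorem F74845 : act 1 n32744 = n31206 := d8_1 D32744 (iv D31206) (iv F69329)
theorem F74846 : act 2 n32744 = n32385 := d12_1 D32744 (iv F74843) (iv D32743)
theorem F74847 : act 3 n32744 = n31694 := d15_1 D32744 (iv D31694) (iv D29061) (iv F60344) D31203
def n32745 : Q := act 5 n31203
theorem D32745 : act 5 n31203 = n32745 := rfl
theorem F74848 : act 1 n32745 = n32493 := d9_1 D32745 F73830 (iv F69262) F69264 (iv F69329)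
theorem F74849 : act 3 n32745 = n31204 := d16_1 D32745 (iv D31204) D31203
theorem F74850 : act 6 n32745 = n31746 := d22_1 D32745 (iv D31746) (iv F71067) F71065
def n32746 : Q := act 2 n31210
theorem D32746 : act 2 n31210 = n32746 := rfl
theorem F74851 : act 1 n32746 = n32398 := d6_1 D32746 F73444 F72974 (iv D31212) (iv F69356)
theorem F74852 : act 3 n32746 = n31631 := d21_1 D32746 (iv D31631) F62250 D28979 D31633 F70666 (iv F71208) F71207
theorem F74853 : act 4 n32746 = n32399 := d25_52 F72954 (iv F74852) (iv D32746) (iv D31210) (iv F69346) (iv D31208) D31209 F69355 F60860 (iv F63101) (iv F63103) (iv F70345) F70344 F70187 (iv F69832) (iv D31366) (iv F67124) (iv F71986) (iv F72046) F72045 (iv F70401) F70402 (iv D31301) F60734 D28495 F60738 (iv F60742) F60743 (iv D24633) F38372 D20250 F38374 D20254 D24643 D28509 F60780 (iv F63782) F63784 F60476 (iv D28401) (iv D24540) (iv D20190) F26057 D15005 D20258 D24651 (iv F50052) (iv F54100) (iv F65101) D32280 (iv F73444) (iv F74851) F73448 F67597 (iv D30736) (iv D27383) (iv D23244) (iv F46206)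 (iv F52076) (iv D25380) (iv D21170) (iv D16008) (iv F27651) (iv F40862) (iv F52039) (iv F52080) D29041 F62380 D29043 D31681 F70839 F64053 F53270 F43177 (iv F54067) (iv F65049) D32275
def n32747 : Q := act 4 n31210
theorem D32747 : act 4 n31210 = n32747 := rfl
theorem F74854 : act 0 n32747 = n32607 := d3_1 D32747 F74281 F71207
theorem F74855 : act 1 n32747 = n31213 := d8_1 D32747 (iv D31213) (iv F69356)
theorem F74856 : act 2 n32747 = n32399 := d12_1 D32747 (iv F74853) (iv D32746)
theorem F74857 : act 3 n32747 = n31702 := d15_1 D32747 (iv D31702) (iv D29072) (iv F60356) D31210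
def n32748 : Q := act 6 n31210
theorem D32748 : act 6 n31210 = n32748 := rfl
theorem F74858 : act 1 n32748 = n32494 := d10_1 D32748 F73835 (iv F69272) F69274 (iv F69356)
theorem F74859 : act 3 n32748 = n31211 := d17_1 D32748 (iv D31211) D31210
theorem F74860 : act 5 n32748 = n31790 := d22_2 F71211 D32748 (iv D31790) D31788
def n32749 : Q := act 6 n31214
theorem D32749 : act 6 n31214 = n32749 := rfl
theorem F74861 : act 0 n32749 = n32242 := d5_1 D32749 F72815 (iv F69368)
theorem F74862 : act 2 n32749 = n31216 := d14_1 D32749 (iv D31216) (iv F69370)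
theorem F74863 : act 3 n32749 = n31264 := d17_1 D32749 F69571 (iv F69371)
theorem F74864 : act 4 n32749 = n32487 := d19_1 D32749 (iv D32487) (iv F69372)
theorem F74865 : act 5 n32749 = n31262 := d20_1 D32749 (iv D31262) (iv F66661) (iv F72815) F72814 (iv D31215) D31214
def n32750 : Q := act 1 n31215
theorem D32750 : act 1 n31215 = n32750 := rfl
theorem F74866 : act 3 n32750 = n32229 := d7_2 (iv F69374) D32750 (iv D32229)
theorem F74867 : act 4 n32750 = n31472 := d8_2 (iv F69375) D32750 F70159
theorem F74868 : act 6 n32750 = n31463 := d10_2 D31215 D32750 (iv D31463) F61356 F61319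
def n32751 : Q := act 0 n31217
theorem D32751 : act 0 n31217 = n32751 := rfl
theorem F74869 : act 3 n32751 = n31219 := d2_2 (iv F69380) D32751 (iv D31219)
theorem F74870 : act 4 n32751 = n31764 := d3_2 (iv F69381) D32751 F71131
theorem F74871 : act 5 n32751 = n31278 := d4_2 F69632 D32751 (iv F69630)
theorem F74872 : act 6 n32751 = n31423 := d5_2 F69895 D32751 F70026
theorem F74873 : act 2 n32751 = n31424 := d21_0 F70030 (iv F70046) (iv F73817) F73816 F67157 F60883 (iv F69380) D32751
def n32752 : Q := act 2 n31217
theorem D32752 : act 2 n31217 = n32752 := rfl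
theorem F74874 : act 0 n32752 = n31424 := d1_1 D32752 (iv F74873) (iv D32751)
theorem F74875 : act 4 n32752 = n31763 := d12_2 (iv F69381) D32752 (iv F71130)
theorem F74876 : act 5 n32752 = n32717 := d13_2 F69632 D32752 F74727
theorem F74877 : act 6 n32752 = n31422 := d14_2 F69895 D32752 (iv F70025)
theorem F74878 : act 3 n32752 = n31427 := d21_7 (iv F70046) (iv F73817) F73816 F67157 F60883 (iv F69380) D32752 F70040
def n32753 : Q := act 0 n31218
theorem D32753 : act 0 n31218 = n32753 := rfl
theorem F74879 : act 2 n32753 = n31754 := d1_2 (iv F69382) D32753 (iv D31754)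
theorem F74880 : act 4 n32753 = n31708 := d3_2 (iv F69383) D32753 (iv D31708)
theorem F74881 : act 5 n32753 = n31332 := d4_2 (iv F69384) D32753 F69744
theorem F74882 : act 6 n32753 = n31666 := d5_2 F70424 D32753 F70775
def n32754 : Q := act 5 n31232
theorem D32754 : act 5 n31232 = n32754 := rfl
theorem F74883 : act 0 n32754 = n31712 := d4_1 D32754 (iv D31712) (iv F69442)
theorem F74884 : act 1 n32754 = n32303 := d9_1 D32754 (iv D32303) (iv F65257) (iv F69418) (iv F69443)
theorem F74885 : act 2 n32754 = n31302 := d13_1 D32754 F69673 (iv F69444)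
theorem F74886 : act 3 n32754 = n32305 := d16_1 D32754 F73085 F69934
theorem F74887 : act 4 n32754 = n31729 := d18_1 D32754 (iv D31729) (iv F69445)
theorem F74888 : act 6 n32754 = n31301 := d20_2 D31232 D32754 F69670 F63954 D31712 F70966 F69438
def n32755 : Q := act 1 n31238
theorem D32755 : act 1 n31238 = n32755 := rfl
theorem F74889 : act 3 n32755 = n32123 := d7_2 (iv F69467) D32755 (iv D32123)
theorem F74890 : act 4 n32755 = n31523 := d8_2 (iv F69468) D32755 F70304
theorem F74891 : act 5 n32755 = n31517 := d9_2 D31238 D32755 (iv D31517) F61574 F61537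
def n32756 : Q := act 5 n31239
theorem D32756 : act 5 n31239 = n32756 := rfl
theorem F74892 : act 0 n32756 = n32148 := d4_1 D32756 F72429 (iv F69469)
theorem F74893 : act 2 n32756 = n31241 := d13_1 D32756 (iv D31241) (iv F69471)
theorem F74894 : act 3 n32756 = n31293 := d16_1 D32756 F69649 (iv F69472)
theorem F74895 : act 4 n32756 = n32489 := d18_1 D32756 (iv D32489) (iv F69473)
theorem F74896 : act 6 n32756 = n31291 := d20_2 D31239 D32756 (iv D31291) (iv F66695) (iv F72429) F72430 (iv D31238)
def n32757 : Q := act 0 n31240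
theorem D32757 : act 0 n31240 = n32757 := rfl
theorem F74897 : act 3 n32757 = n31242 := d2_2 (iv F69474) D32757 (iv D31242)
theorem F74898 : act 4 n32757 = n31719 := d3_2 (iv F69475) D32757 F70986
theorem F74899 : act 5 n32757 = n31386 := d4_2 F70007 D32757 (iv F70010)
theorem F74900 : act 6 n32757 = n31307 := d5_2 F69707 D32757 (iv F69705)
theorem F74901 : act 2 n32757 = n31387 := d21_0 F69909 (iv F69925) (iv F73823) F73822 F67129 F60945 (iv F69474) D32757
def n32758 : Q := act 2 n31240
theorem D32758 : act 2 n31240 = n32758 := rfl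
theorem F74902 : act 0 n32758 = n31387 := d1_1 D32758 (iv F74901) (iv D32757)
theorem F74903 : act 4 n32758 = n31718 := d12_2 (iv F69475) D32758 (iv F70985)
theorem F74904 : act 5 n32758 = n31385 := d13_2 F70007 D32758 F70009
theorem F74905 : act 6 n32758 = n32709 := d14_2 F69707 D32758 F74685
theorem F74906 : act 3 n32758 = n31390 := d21_7 (iv F69925) (iv F73823) F73822 F67129 F60945 (iv F69474) D32758 F69919
def n32759 : Q := act 0 n31244
theorem D32759 : act 0 n31244 = n32759 := rfl
theorem F74907 : act 2 n32759 = n31708 := d1_2 (iv F69485) D32759 (iv D31708)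
theorem F74908 : act 4 n32759 = n31754 := d3_2 (iv F69486) D32759 (iv D31754)
theorem F74909 : act 5 n32759 = n31677 := d4_2 F70486 D32759 F70818
theorem F74910 : act 6 n32759 = n31358 := d5_2 (iv F69487) D32759 F69811
def n32760 : Q := act 6 n31256
theorem D32760 : act 6 n31256 = n32760 := rfl
theorem F74911 : act 0 n32760 = n31757 := d5_1 D32760 (iv D31757) (iv F69540)
theorem F74912 : act 1 n32760 = n32341 := d10_1 D32760 (iv D32341) (iv F65537) (iv F69516) (iv F69541)
theorem F74913 : act 2 n32760 = n31273 := d14_1 D32760 F69595 (iv F69542)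
theorem F74914 : act 3 n32760 = n32343 := d17_1 D32760 F73231 F70055
theorem F74915 : act 4 n32760 = n31773 := d19_1 D32760 (iv D31773) (iv F69543)
theorem F74916 : act 5 n32760 = n31272 := d20_1 D32760 F69592 F64750 D31757 F71111 F69536 D31256
def n32761 : Q := act 1 n31262
theorem D32761 : act 1 n31262 = n32761 := rfl
theorem F74917 : act 2 n32761 = n32310 := d6_2 (iv F69565) D32761 (iv D32310) F65276 (iv F63350)
theorem F74918 : act 3 n32761 = n31263 := d7_2 (iv F69566) D32761 (iv D31263)
theorem F74919 : act 4 n32761 = n31744 := d8_2 (iv F69567) D32761 (iv F71070)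
theorem F74920 : act 6 n32761 = n32744 := d10_2 D31262 D32761 F74845 F69340 F69247
theorem F74921 : act 0 n31740 = n32761 := d5_3 F74920 F74844 (iv F74294)
def n32762 : Q := act 1 n31264
theorem D32762 : act 1 n31264 = n32762 := rfl
theorem F74922 : act 4 n32762 = n32525 := d8_2 (iv F69570) D32762 (iv D32525)
def n32763 : Q := act 2 n31267
theorem D32763 : act 2 n31267 = n32763 := rfl
theorem F74923 : act 0 n32763 = n32360 := d1_1 D32763 F73290 F71056
theorem F74924 : act 1 n32763 = n32021 := d6_1 D32763 (iv D32021) F63364 F60569 D31267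
theorem F74925 : act 4 n32763 = n32045 := d12_2 F70426 D32763 F72041
theorem F74926 : act 6 n32763 = n31465 := d14_2 (iv F69581) D32763 (iv D31465)
def n32764 : Q := act 5 n31267
theorem D32764 : act 5 n31267 = n32764 := rfl
theorem F74927 : act 1 n32764 = n32683 := d9_1 D32764 (iv D32683) (iv D30978) (iv F60561) D31267
theorem F74928 : act 3 n32764 = n31747 := d16_1 D32764 (iv F71075) F70410
def n32765 : Q := act 2 n31268
theorem D32765 : act 2 n31268 = n32765 := rfl
theorem F74929 : act 4 n32765 = n31270 := d12_2 (iv F69582) D32765 (iv D31270)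
theorem F74930 : act 6 n32765 = n31276 := d14_2 (iv F69583) D32765 (iv D31276)
theorem F74931 : act 3 n32765 = n31270 := d21_1 D32765 (iv D31270) F63960 (iv F64747) F64748 D31572 (iv F71012) (iv F71014)
def n32766 : Q := act 5 n31268
theorem D32766 : act 5 n31268 = n32766 := rfl
theorem F74932 : act 4 n32766 = n31271 := d18_1 D32766 (iv D31271) (iv F69582)
def n32767 : Q := act 5 n31270
theorem D32767 : act 5 n31270 = n32767 := rfl
theorem F74933 : act 2 n32767 = n31271 := d13_1 D32767 (iv D31271) D31270
def n32768 : Q := act 0 n31274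
theorem D32768 : act 0 n31274 = n32768 := rfl
theorem F74934 : act 1 n32768 = n31393 := d0_2 D31274 D32768 F69927 F69202 F69199 (iv F69091) F62528 F61030 F61025
theorem F74935 : act 2 n32768 = n31573 := d1_2 (iv F69596) D32768 F70462
theorem F74936 : act 3 n32768 = n31275 := d2_2 (iv F69597) D32768 (iv D31275)
theorem F74937 : act 4 n32768 = n31396 := d3_2 F70392 D32768 (iv F70390)
theorem F74938 : act 6 n32768 = n31572 := d5_2 F70397 D32768 F70459
def n32769 : Q := act 5 n31274
theorem D32769 : act 5 n31274 = n32769 := rfl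
theorem F74939 : act 2 n32769 = n31639 := d13_1 D32769 (iv D31639) (iv F69596)
theorem F74940 : act 3 n32769 = n31277 := d16_1 D32769 (iv D31277) (iv F69597)
theorem F74941 : act 4 n32769 = n31644 := d18_1 D32769 F70697 F70392
theorem F74942 : act 6 n32769 = n31643 := d22_1 D32769 F70696 (iv F74938) (iv D32768)
def n32770 : Q := act 1 n31275
theorem D32770 : act 1 n31275 = n32770 := rfl
theorem F74943 : act 0 n32770 = n32709 := d0_1 D32770 F74684 (iv F72750) F72751 F69396 F60383 F50234 D28439 D31275
theorem F74944 : act 3 n32770 = n31393 := d7_2 F74936 D32770 (iv F74934)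
theorem F74945 : act 4 n32770 = n31278 := d8_2 (iv F69598) D32770 (iv D31278)
theorem F74946 : act 6 n32770 = n31387 := d10_2 (iv F71015) D32770 F69908 (iv F62562) D31727
theorem F74947 : act 2 n31307 = n32770 := d25_4 F63492 (iv F63392) F63391 (iv F69681) (iv D32770) (iv F74936) F74935 F70464 (iv D31272) (iv D28437) F49856 F38303 F26074 F20417 D11525 (iv F26037) D20170 D24518 D28367 F60381 (iv F51027) F51026 F45159 D22874 (iv F51361) (iv D25131) (iv D20802) (iv D15504) F33251 D18606 F35763 F35760 (iv F46827) F46828 F36097 D23663 F47249 (iv F49408) F49409 F47548 (iv F40350) F40351 (iv F33006) F26983 D20749 (iv F42560) (iv D21929) (iv D16598) (iv F22253) (iv F29761) (iv F39614) D22106 (iv F53106) (iv F63899) (iv F67788) (iv D30787) (iv D27482) F46465 (iv F46435) F46436 F41099 (iv F37265) F37262 (iv F41186) (iv F46554) F46553 D23403 (iv F57932) D30842 F67957 F64707 F53869 F53866 F42077 (iv F41468) (iv F52840) D29491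
theorem F74948 : act 5 n32770 = n31764 := d13_2 (iv F69682) F74947 (iv D31764)
def n32771 : Q := act 2 n31275
theorem D32771 : act 2 n31275 = n32771 := rfl
theorem F74949 : act 0 n32771 = n31276 := d1_1 D32771 (iv D31276) D31275
theorem F74950 : act 1 n32771 = n31308 := d6_1 D32771 (iv D31308) D31307 F74947 (iv D32770)
theorem F74951 : act 3 n32771 = n31279 := d11_2 F74936 D32771 (iv D31279) (iv F63963) (iv F69533) F69534 (iv F69596) F69597 D31276 F69601 (iv D28441) (iv F60572) D31272 (iv F70464) (iv F74935)
theorem F74952 : act 4 n32771 = n31279 := d12_2 (iv F69598) D32771 (iv D31279)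
def n32772 : Q := act 5 n31275
theorem D32772 : act 5 n31275 = n32772 := rfl
theorem F74953 : act 0 n32772 = n31277 := d4_1 D32772 (iv D31277) D31275
theorem F74954 : act 4 n32772 = n31280 := d18_1 D32772 (iv D31280) (iv F69598)
theorem F74955 : act 6 n32772 = n32766 := d22_1 D32772 (iv D32766) F69583 D31275
def n32773 : Q := act 5 n31276
theorem D32773 : act 5 n31276 = n32773 := rfl
theorem F74956 : act 1 n32773 = n31315 := d9_1 D32773 (iv D31315) (iv F66631) F66633 (iv F69599)
theorem F74957 : act 2 n32773 = n31277 := d13_1 D32773 (iv D31277) D31276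
theorem F74958 : act 3 n32773 = n31281 := d16_1 D32773 (iv D31281) (iv F69601)
theorem F74959 : act 4 n32773 = n31281 := d18_1 D32773 (iv D31281) (iv F69600)
def n32774 : Q := act 6 n31277
theorem D32774 : act 6 n31277 = n32774 := rfl
theorem F74960 : act 0 n32774 = n32766 := d5_1 D32774 (iv F74955) F74953
theorem F74961 : act 1 n32774 = n31645 := d10_1 D32774 F72914 (iv D32266) (iv F69863) F69860
theorem F74962 : act 3 n32774 = n31643 := d17_1 D32774 (iv F74942) F74940
theorem F74963 : act 4 n32774 = n31282 := d19_1 D32774 (iv D31282) (iv F69602)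
theorem F74964 : act 5 n32774 = n31727 := d20_1 D32774 (iv F71015) D32772 F74955 (iv D32766) F69583 D31277
def n32775 : Q := act 2 n31278
theorem D32775 : act 2 n31278 = n32775 := rfl
theorem F74965 : act 0 n32775 = n32717 := d1_1 D32775 F74727 F69630
theorem F74966 : act 3 n32775 = n31430 := d11_2 (iv F69603) D32775 (iv F74732) F74733 F72116 F70646 F69774 (iv F69631) (iv F74727) F74728 (iv F72111) F72112 F63532 (iv F63056) F63055
theorem F74967 : act 4 n32775 = n31307 := d12_2 F74945 D32775 F74947
theorem F74968 : act 5 n32775 = n31424 := d13_2 F74871 D32775 (iv F74873)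
theorem F74969 : act 6 n32775 = n31719 := d14_2 (iv F69604) D32775 (iv D31719)
theorem F74970 : act 1 n31304 = n32775 := d9_5 F74968 F70029 (iv F62647) D31771 (iv F71155)
def n32776 : Q := act 1 n31279
theorem D32776 : act 1 n31279 = n32776 := rfl
theorem F74971 : act 0 n32776 = n31305 := d0_1 D32776 F69677 (iv F69691) (iv F74634) F74633 F68565 F60585 (iv F60576) (iv F69605)
theorem F74972 : act 2 n32776 = n31304 := d6_2 D31279 D32776 F74970 (iv D32775) (iv D31278)
theorem F74973 : act 3 n32776 = n31308 := d7_2 F74951 D32776 (iv F74950)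
theorem F74974 : act 4 n32776 = n31308 := d8_2 F74952 D32776 (iv F74950)
def n32777 : Q := act 5 n31279
theorem D32777 : act 5 n31279 = n32777 := rfl
theorem F74975 : act 0 n32777 = n31281 := d4_1 D32777 (iv D31281) (iv F69605)
theorem F74976 : act 2 n32777 = n31280 := d13_1 D32777 (iv D31280) D31279
theorem F74977 : act 6 n32777 = n32767 := d22_1 D32777 (iv D32767) F69589 (iv F69605)
def n32778 : Q := act 6 n31281
theorem D32778 : act 6 n31281 = n32778 := rfl
theorem F74978 : act 0 n32778 = n32767 := d5_1 D32778 (iv F74977) F74975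
theorem F74979 : act 2 n32778 = n31282 := d14_1 D32778 (iv D31282) (iv F69608)
theorem F74980 : act 5 n32778 = n31728 := d20_1 D32778 F71017 D32777 F74977 (iv D32767) F69589 D31281
def n32779 : Q := act 1 n31286
theorem D32779 : act 1 n31286 = n32779 := rfl
theorem F74981 : act 2 n32779 = n31306 := d6_2 (iv F69625) D32779 (iv F69983) F69984 F64176
theorem F74982 : act 3 n32779 = n31310 := d7_2 F73786 D32779 (iv F73783)
theorem F74983 : act 4 n32779 = n31310 := d8_2 F73784 D32779 (iv F73783)
theorem F74984 : act 6 n32779 = n31305 := d10_2 D31286 D32779 F69677 (iv F66600) F66598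
def n32780 : Q := act 1 n31291
theorem D32780 : act 1 n31291 = n32780 := rfl
theorem F74985 : act 2 n32780 = n32348 := d6_2 (iv F69643) D32780 (iv D32348) F65562 (iv F62995)
theorem F74986 : act 3 n32780 = n31292 := d7_2 (iv F69644) D32780 (iv D31292)
theorem F74987 : act 4 n32780 = n31788 := d8_2 (iv F69645) D32780 (iv F71212)
theorem F74988 : act 5 n32780 = n32747 := d9_2 D31291 D32780 F74855 F69367 F69257
theorem F74989 : act 0 n32780 = n31784 := d23_3 (iv F62996) (iv F69643) D32780 (iv F74282) (iv F74377) (iv D32627) F67897 D30829 F67916 (iv F64040) F64039 (iv F72449) (iv D32153) F64003 F57569 F57568 F57552 F50329 (iv F59097)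
def n32781 : Q := act 1 n31293
theorem D32781 : act 1 n31293 = n32781 := rfl
theorem F74990 : act 4 n32781 = n32532 := d8_2 (iv F69648) D32781 (iv D32532)
def n32782 : Q := act 2 n31296
theorem D32782 : act 2 n31296 = n32782 := rfl
theorem F74991 : act 0 n32782 = n32322 := d1_1 D32782 F73144 F71198
theorem F74992 : act 1 n32782 = n31888 := d6_1 D32782 (iv D31888) F63024 F60731 D31296
theorem F74993 : act 4 n32782 = n31917 := d12_2 F70488 D32782 F71637
theorem F74994 : act 5 n32782 = n31525 := d13_2 (iv F69659) D32782 (iv D31525)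
def n32783 : Q := act 6 n31296
theorem D32783 : act 6 n31296 = n32783 := rfl
theorem F74995 : act 1 n32783 = n32697 := d10_1 D32783 (iv D32697) (iv D31005) (iv F60723) D31296
theorem F74996 : act 3 n32783 = n31791 := d17_1 D32783 (iv F71217) F70472
def n32784 : Q := act 2 n31297
theorem D32784 : act 2 n31297 = n32784 := rfl
theorem F74997 : act 4 n32784 = n31299 := d12_2 (iv F69660) D32784 (iv D31299)
theorem F74998 : act 5 n32784 = n31305 := d13_2 (iv F69661) D32784 (iv D31305)
theorem F74999 : act 3 n32784 = n31299 := d21_1 D32784 (iv D31299) F62654 (iv F63952) F63953 D31552 (iv F71152) (iv F71154)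
def n32785 : Q := act 6 n31297
theorem D32785 : act 6 n31297 = n32785 := rfl
theorem F75000 : act 4 n32785 = n31300 := d19_1 D32785 (iv D31300) (iv F69660)
def n32786 : Q := act 6 n31299
theorem D32786 : act 6 n31299 = n32786 := rfl
theorem F75001 : act 2 n32786 = n31300 := d14_1 D32786 (iv D31300) D31299
def n32787 : Q := act 0 n31303
theorem D32787 : act 0 n31303 = n32787 := rfl
theorem F75002 : act 1 n32787 = n31430 := d0_2 D31303 D32787 F70048 F69149 F69146 (iv F69078) F62613 F61191 F61186
theorem F75003 : act 2 n32787 = n31553 := d1_2 (iv F69674) D32787 F70400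
theorem F75004 : act 3 n32787 = n31304 := d2_2 (iv F69675) D32787 (iv D31304)
theorem F75005 : act 4 n32787 = n31433 := d3_2 F70452 D32787 (iv F70450)
theorem F75006 : act 5 n32787 = n31552 := d4_2 F70457 D32787 F70458
def n32788 : Q := act 6 n31303
theorem D32788 : act 6 n31303 = n32788 := rfl
theorem F75007 : act 2 n32788 = n31644 := d14_1 D32788 (iv D31644) (iv F69674)
theorem F75008 : act 3 n32788 = n31306 := d17_1 D32788 (iv D31306) (iv F69675)
theorem F75009 : act 4 n32788 = n31639 := d19_1 D32788 F70685 F70452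
theorem F75010 : act 5 n32788 = n31638 := d22_2 F70457 D32788 F70684 F70458
def n32789 : Q := act 6 n31304
theorem D32789 : act 6 n31304 = n32789 := rfl
theorem F75011 : act 0 n32789 = n31306 := d5_1 D32789 (iv D31306) D31304
theorem F75012 : act 4 n32789 = n31309 := d19_1 D32789 (iv D31309) (iv F69676)
theorem F75013 : act 5 n32789 = n32785 := d22_2 (iv F71155) D32789 (iv D32785) F71154
def n32790 : Q := act 5 n31306
theorem D32790 : act 5 n31306 = n32790 := rfl
theorem F75014 : act 0 n32790 = n32785 := d4_1 D32790 (iv F75013) F75011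
theorem F75015 : act 1 n32790 = n31640 := d9_1 D32790 F72568 (iv D32181) (iv F69986) F69983
theorem F75016 : act 3 n32790 = n31638 := d16_1 D32790 (iv F75010) F75008
theorem F75017 : act 4 n32790 = n31311 := d18_1 D32790 (iv D31311) (iv F69680)
theorem F75018 : act 6 n32790 = n31771 := d20_2 D31306 D32790 (iv F71155) D32789 F75013 (iv D32785) F69661
def n32791 : Q := act 6 n31308
theorem D32791 : act 6 n31308 = n32791 := rfl
theorem F75019 : act 0 n32791 = n31310 := d5_1 D32791 (iv D31310) (iv F69683)
theorem F75020 : act 2 n32791 = n31309 := d14_1 D32791 (iv D31309) D31308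
theorem F75021 : act 5 n32791 = n32786 := d22_2 F71157 D32791 (iv D32786) (iv F71156)
def n32792 : Q := act 5 n31310
theorem D32792 : act 5 n31310 = n32792 := rfl
theorem F75022 : act 0 n32792 = n32786 := d4_1 D32792 (iv F75021) F75019
theorem F75023 : act 2 n32792 = n31311 := d13_1 D32792 (iv D31311) (iv F69686)
theorem F75024 : act 6 n32792 = n31772 := d20_2 D31310 D32792 F71157 D32791 F75021 (iv D32786) F69667
def n32793 : Q := act 3 n31318
theorem D32793 : act 3 n31318 = n32793 := rfl
theorem F75025 : act 1 n32793 = n31319 := d7_1 D32793 (iv D31319) D31318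
def n32794 : Q := act 5 n31318
theorem D32794 : act 5 n31318 = n32794 := rfl
theorem F75026 : act 2 n32794 = n31892 := d13_1 D32794 (iv D31892) (iv F69714)
theorem F75027 : act 4 n32794 = n31892 := d18_1 D32794 (iv D31892) (iv F69715)
theorem F75028 : act 6 n32794 = n32794 := d22_1 D32794 (iv D32794) (iv F71648) F71645
def n32795 : Q := act 2 n31319
theorem D32795 : act 2 n31319 = n32795 := rfl
theorem F75029 : act 0 n32795 = n31320 := d1_1 D32795 (iv D31320) (iv F69716)
theorem F75030 : act 6 n32795 = n31889 := d14_2 (iv F69717) D32795 F71530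
theorem F75031 : act 3 n32795 = n31918 := d21_1 D32795 F71638 F63141 F52644 F41322 D24661 D28523 (iv F69716)
theorem F75032 : act 1 n32795 = n32785 := d23_2 F69960 D32795 (iv F75014) (iv D32790) (iv F74981) (iv D32779) F69624 (iv D30987) (iv D27893) (iv D23978) (iv F37205) (iv D19740) (iv F37202) D24051 D27964 (iv F61051) (iv F68683) F68682 (iv F69957)
theorem F75033 : act 4 n31711 = n32795 := d8_0 F75032 F75000 (iv F70961)
def n32796 : Q := act 4 n31319
theorem D32796 : act 4 n31319 = n32796 := rfl
theorem F75034 : act 0 n32796 = n31321 := d3_1 D32796 (iv D31321) (iv F69716)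
theorem F75035 : act 2 n32796 = n31711 := d12_1 D32796 F75033 (iv D32795)
theorem F75036 : act 3 n32796 = n31894 := d15_1 D32796 (iv D31894) (iv D29304) (iv F60829) D31319
theorem F75037 : act 5 n32796 = n32547 := d18_2 F69960 D32796 F74011
theorem F75038 : act 6 n32796 = n31888 := d19_2 (iv F69717) D32796 (iv F71528)
def n32797 : Q := act 3 n31320
theorem D32797 : act 3 n31320 = n32797 := rfl
theorem F75039 : act 0 n32797 = n31918 := d2_1 D32797 (iv F75031) F75029
theorem F75040 : act 1 n32797 = n32712 := d7_1 D32797 (iv D32712) (iv F69718)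
theorem F75041 : act 2 n32797 = n31406 := d11_1 D32797 F69959 F63134 F52639 D28522 D31319 D32795 F75031 F71638 F63141 F52644 F41322 D24661 D28523 D31320
theorem F75042 : act 5 n32797 = n32795 := d16_2 F71640 D32797 F75031
theorem F75043 : act 6 n32797 = n31403 := d17_2 F71614 D32797 (iv F71611)
def n32798 : Q := act 5 n31324
theorem D32798 : act 5 n31324 = n32798 := rfl
theorem F75044 : act 0 n32798 = n31983 := d4_1 D32798 F74180 F74177
theorem F75045 : act 1 n32798 = n31327 := d9_1 D32798 (iv D31327) (iv D28530) (iv F60846) D31324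
theorem F75046 : act 3 n32798 = n32619 := d16_1 D32798 (iv D32619) (iv F69729)
theorem F75047 : act 4 n32798 = n31327 := d18_1 D32798 (iv D31327) (iv F69730)
def n32799 : Q := act 1 n31325
theorem D32799 : act 1 n31325 = n32799 := rfl
theorem F75048 : act 2 n32799 = n31456 := d6_2 F74184 D32799 (iv F70126) (iv F70990) (iv F74183)
theorem F75049 : act 3 n32799 = n31467 := d7_2 (iv F69732) D32799 (iv F70151)
theorem F75050 : act 5 n32799 = n31456 := d9_2 F69755 D32799 (iv F70126) (iv F62554) (iv F69754)
theorem F75051 : act 6 n32799 = n31557 := d10_2 (iv F69733) D32799 (iv F70768) F70770 (iv D31332)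
theorem F75052 : act 0 n31457 = n32799 := d5_3 F75051 F70419 F70414
def n32800 : Q := act 5 n31326
theorem D32800 : act 5 n31326 = n32800 := rfl
theorem F75053 : act 2 n32800 = n31327 := d13_1 D32800 (iv D31327) D31326
theorem F75054 : act 3 n32800 = n32453 := d16_1 D32800 F73675 F73571
def n32801 : Q := act 1 n31329
theorem D32801 : act 1 n31329 = n32801 := rfl
theorem F75055 : act 0 n32801 = n31709 := d0_1 D32801 F70951 (iv F67164) F69900 (iv D31383) (iv D28592) F50225 D28532 D31329
theorem F75056 : act 2 n32801 = n31677 := d6_2 F74193 D32801 (iv F71227) F73278 (iv F74192)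
theorem F75057 : act 3 n32801 = n32689 := d7_2 F73754 D32801 F74615
theorem F75058 : act 4 n32801 = n31332 := d8_2 (iv F69739) D32801 (iv D31332)
theorem F75059 : act 5 n31708 = n32801 := d24_1 F73623 (iv D32801) F74181 (iv F74180) (iv D31983) F63279 (iv D28375) (iv D24521) (iv F49729) (iv F49749) D28386 F62443 (iv F66432) (iv F73622)
theorem F75060 : act 6 n32801 = n31676 := d20_2 F73623 F75059 F70817 F67114 D31709 F70955 F73625
def n32802 : Q := act 5 n31329
theorem D32802 : act 5 n31329 = n32802 := rfl
theorem F75061 : act 0 n32802 = n31331 := d4_1 D32802 (iv D31331) D31329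
theorem F75062 : act 2 n32802 = n32539 := d13_1 D32802 (iv F74196) F74193
theorem F75063 : act 3 n32802 = n32452 := d16_1 D32802 (iv F73752) F73754
theorem F75064 : act 4 n32802 = n31334 := d18_1 D32802 (iv D31334) (iv F69739)
theorem F75065 : act 6 n32802 = n32798 := d20_2 (iv F74181) D32802 (iv D32798) F69731 D31331 (iv F71815) F74180
def n32803 : Q := act 5 n31333
theorem D32803 : act 5 n31333 = n32803 := rfl
theorem F75066 : act 0 n32803 = n31335 := d4_1 D32803 (iv D31335) (iv F69745)
theorem F75067 : act 1 n32803 = n32050 := d9_1 D32803 F72058 D32067 (iv F72105) F69747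
theorem F75068 : act 2 n32803 = n31334 := d13_1 D32803 (iv D31334) D31333
theorem F75069 : act 3 n32803 = n32354 := d16_1 D32803 (iv D32354) (iv F69746)
theorem F75070 : act 4 n32803 = n32539 := d18_1 D32803 (iv F74196) F74195
theorem F75071 : act 6 n32803 = n32800 := d22_1 D32803 (iv D32800) F69735 (iv F69745)
def n32804 : Q := act 6 n31335
theorem D32804 : act 6 n31335 = n32804 := rfl
theorem F75072 : act 0 n32804 = n32800 := d5_1 D32804 (iv F75071) F75066
theorem F75073 : act 2 n32804 = n31336 := d14_1 D32804 (iv D31336) (iv F69751)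
theorem F75074 : act 3 n32804 = n32366 := d17_1 D32804 (iv D32366) (iv F69752)
theorem F75075 : act 4 n32804 = n32586 := d19_1 D32804 F74190 F74006
theorem F75076 : act 5 n32804 = n32585 := d20_1 D32804 (iv F74186) D32803 F75071 (iv D32800) F69735 D31335
def n32805 : Q := act 3 n31338
theorem D32805 : act 3 n31338 = n32805 := rfl
theorem F75077 : act 0 n32805 = n31339 := d2_1 D32805 (iv D31339) (iv F69760)
theorem F75078 : act 1 n32805 = n31630 := d7_1 D32805 F70660 (iv F69761)
theorem F75079 : act 2 n32805 = n32547 := d11_1 D32805 (iv D32547) F67142 F57054 (iv D24678) (iv F50114) D28542 D31339 (iv F71641) F71642 F71572 F67149 (iv D28544) (iv F60873) D31338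
theorem F75080 : act 4 n32805 = n32797 := d15_2 (iv F69762) D32805 (iv D32797) (iv F73210) F73209
theorem F75081 : act 5 n32805 = n31711 := d16_2 (iv F69763) D32805 (iv D31711)
theorem F75082 : act 6 n32805 = n31587 := d17_2 F71520 D32805 F71521
def n32806 : Q := act 3 n31344
theorem D32806 : act 3 n31344 = n32806 := rfl
theorem F75083 : act 1 n32806 = n31345 := d7_1 D32806 (iv D31345) D31344
def n32807 : Q := act 6 n31344
theorem D32807 : act 6 n31344 = n32807 := rfl
theorem F75084 : act 2 n32807 = n32024 := d14_1 D32807 (iv D32024) (iv F69781)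
theorem F75085 : act 4 n32807 = n32024 := d19_1 D32807 (iv D32024) (iv F69782)
theorem F75086 : act 5 n32807 = n32807 := d22_2 F72052 D32807 (iv D32807) (iv F72049)
def n32808 : Q := act 2 n31345
theorem D32808 : act 2 n31345 = n32808 := rfl
theorem F75087 : act 0 n32808 = n31346 := d1_1 D32808 (iv D31346) (iv F69783)
theorem F75088 : act 5 n32808 = n32022 := d13_2 (iv F69784) D32808 F71943
theorem F75089 : act 3 n32808 = n32046 := d21_1 D32808 F72042 F63465 F52828 F41453 D24683 D28548 (iv F69783)
theorem F75090 : act 1 n32808 = n32766 := d25_25 (iv F52226) (iv F60417) F61790 F61787 F50709 (iv D21604) (iv F41828) (iv F53470) (iv F58124) (iv F58244) D30934 F68271 F68130 F64705 (iv F71968) (iv D32029) D32030 F71975 (iv D32020) (iv D29444) F52826 F52823 D28547 D31345 D32808 F74932 (iv F71009) F71008 (iv F70451) (iv F70695) F70694 D31645 (iv F72613) F72614 F64303 (iv F56695) (iv D27103) (iv D22938) (iv F45268) F45267 D26509 (iv F62771) D31823 F71318 (iv F68329) F68328 (iv F64772) (iv F68561) F68562 (iv D29897) (iv F56700) (iv D27105)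 (iv D22939) (iv D18430) (iv F32281) F39845 D21993 (iv F52403) D29229 D31838 (iv F72760) F72759 (iv D30969) (iv D27869) (iv F58880) (iv F64234) F64233 (iv F64679) (iv F72793) F72794 F70755 F68073 F68071 (iv F62842) F62843 (iv D29121) (iv D25445)
theorem F75091 : act 4 n31756 = n32808 := d8_0 F75090 F74932 (iv F71105)
def n32809 : Q := act 4 n31345
theorem D32809 : act 4 n31345 = n32809 := rfl
theorem F75092 : act 0 n32809 = n31347 := d3_1 D32809 (iv D31347) (iv F69783)
theorem F75093 : act 2 n32809 = n31756 := d12_1 D32809 F75091 (iv D32808)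
theorem F75094 : act 3 n32809 = n32026 := d15_1 D32809 (iv D32026) (iv D29447) (iv F60891) D31345
theorem F75095 : act 5 n32809 = n32021 := d18_2 (iv F69784) D32809 (iv F71941)
theorem F75096 : act 6 n32809 = n32540 := d19_2 F70073 D32809 F73986
def n32810 : Q := act 3 n31346
theorem D32810 : act 3 n31346 = n32810 := rfl
theorem F75097 : act 0 n32810 = n32046 := d2_1 D32810 (iv F75089) F75087
theorem F75098 : act 1 n32810 = n32719 := d7_1 D32810 (iv D32719) (iv F69785)
theorem F75099 : act 2 n32810 = n31441 := d11_1 D32810 F70072 F63458 F52823 D28547 D31345 D32808 F75089 F72042 F63465 F52828 F41453 D24683 D28548 D31346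
theorem F75100 : act 5 n32810 = n31438 := d16_2 F72016 D32810 (iv F72014)
theorem F75101 : act 6 n32810 = n32808 := d17_2 F72044 D32810 F75089
def n32811 : Q := act 6 n31350
theorem D32811 : act 6 n31350 = n32811 := rfl
theorem F75102 : act 0 n32811 = n32097 := d5_1 D32811 (iv F74116) F74112
theorem F75103 : act 1 n32811 = n31353 := d10_1 D32811 (iv D31353) (iv D28554) (iv F60908) D31350
theorem F75104 : act 3 n32811 = n32605 := d17_1 D32811 (iv D32605) (iv F69796)
theorem F75105 : act 4 n32811 = n31353 := d19_1 D32811 (iv D31353) (iv F69797)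
def n32812 : Q := act 1 n31351
theorem D32812 : act 1 n31351 = n32812 := rfl
theorem F75106 : act 2 n32812 = n31510 := d6_2 F74119 D32812 (iv F70275) (iv F71135) (iv F74118)
theorem F75107 : act 3 n32812 = n31518 := d7_2 (iv F69799) D32812 F70294
theorem F75108 : act 5 n32812 = n31577 := d9_2 (iv F69800) D32812 (iv F70809) F70812 (iv D31358)
theorem F75109 : act 6 n32812 = n31510 := d10_2 F69822 D32812 (iv F70275) (iv F62643) (iv F69821)
theorem F75110 : act 0 n32812 = n31511 := d23_3 F74121 F74119 D32812 (iv F70476) (iv D31576) (iv D28847) (iv F53739) (iv D26123) (iv D21681) F28389 F21625 D16214 F28039 D16216 F38478 F38477 D24695 (iv F60917) (iv F69812)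
def n32813 : Q := act 6 n31352
theorem D32813 : act 6 n31352 = n32813 := rfl
theorem F75111 : act 2 n32813 = n31353 := d14_1 D32813 (iv D31353) D31352
theorem F75112 : act 3 n32813 = n32470 := d17_1 D32813 F73739 F73489
def n32814 : Q := act 1 n31355
theorem D32814 : act 1 n31355 = n32814 := rfl
theorem F75113 : act 0 n32814 = n31755 := d0_1 D32814 F71100 (iv F67136) F70016 (iv D31420) (iv D28649) F50331 D28557 D31355
theorem F75114 : act 2 n32814 = n31666 := d6_2 F74124 D32814 (iv F71085) F73132 (iv F74123)
theorem F75115 : act 3 n32814 = n32703 := d7_2 F73720 D32814 (iv F74662)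
theorem F75116 : act 4 n32814 = n31358 := d8_2 (iv F69806) D32814 (iv D31358)
theorem F75117 : act 6 n32814 = n31754 := d24_3 (iv F74116) (iv F74114) D32814 (iv F73665) F73664 F66482 (iv F62491) (iv D28415) F49801 F49781 D24541 D28405 (iv F63626) D32097
theorem F75118 : act 5 n31665 = n32814 := d20_7 F75117 (iv F73665) (iv F73667) (iv F71104) (iv D31755) (iv F67139) (iv F70774)
def n32815 : Q := act 6 n31355
theorem D32815 : act 6 n31355 = n32815 := rfl
theorem F75119 : act 0 n32815 = n31357 := d5_1 D32815 (iv D31357) D31355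
theorem F75120 : act 2 n32815 = n32546 := d14_1 D32815 F74127 F74124
theorem F75121 : act 3 n32815 = n32439 := d17_1 D32815 (iv F73719) F73720
theorem F75122 : act 4 n32815 = n31360 := d19_1 D32815 (iv D31360) (iv F69806)
theorem F75123 : act 5 n32815 = n32811 := d20_1 D32815 (iv D32811) F69798 D31357 (iv F72216) (iv F74116) (iv F74114)
def n32816 : Q := act 6 n31359
theorem D32816 : act 6 n31359 = n32816 := rfl
theorem F75124 : act 0 n32816 = n31361 := d5_1 D32816 (iv D31361) (iv F69812)
theorem F75125 : act 1 n32816 = n31922 := d10_1 D32816 F71653 D31947 F71712 (iv F69814)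
theorem F75126 : act 2 n32816 = n31360 := d14_1 D32816 (iv D31360) D31359
theorem F75127 : act 3 n32816 = n32317 := d17_1 D32816 (iv D32317) (iv F69813)
theorem F75128 : act 4 n32816 = n32546 := d19_1 D32816 F74127 F74126
theorem F75129 : act 5 n32816 = n32813 := d22_2 (iv F74121) D32816 (iv D32813) (iv F74117)
def n32817 : Q := act 5 n31361
theorem D32817 : act 5 n31361 = n32817 := rfl
theorem F75130 : act 0 n32817 = n32813 := d4_1 D32817 (iv F75129) F75124
theorem F75131 : act 2 n32817 = n31362 := d13_1 D32817 (iv D31362) (iv F69818)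
theorem F75132 : act 3 n32817 = n32328 := d16_1 D32817 (iv D32328) (iv F69819)
theorem F75133 : act 4 n32817 = n32572 := d18_1 D32817 F74131 F74031
theorem F75134 : act 6 n32817 = n32570 := d20_2 D31361 D32817 (iv F74121) D32816 F75129 (iv D32813) F69802
def n32818 : Q := act 3 n31364
theorem D32818 : act 3 n31364 = n32818 := rfl
theorem F75135 : act 0 n32818 = n31365 := d2_1 D32818 (iv D31365) (iv F69827)
theorem F75136 : act 1 n32818 = n31621 := d7_1 D32818 F70635 (iv F69828)
theorem F75137 : act 2 n32818 = n32540 := d11_1 D32818 (iv D32540) F67117 F57024 (iv D24700) (iv F50168) D28567 D31365 (iv F72045) F72046 F71986 F67124 (iv D28569) (iv F60935) D31364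
theorem F75138 : act 4 n32818 = n32810 := d15_2 (iv F69829) D32818 (iv D32810) (iv F73062) F73061
theorem F75139 : act 5 n32818 = n31563 := d16_2 F71932 D32818 F71934
theorem F75140 : act 6 n32818 = n31756 := d17_2 (iv F69830) D32818 (iv D31756)
def n32819 : Q := act 5 n31373
theorem D32819 : act 5 n31373 = n32819 := rfl
theorem F75141 : act 1 n32819 = n32769 := d9_1 D32819 (iv D32769) (iv D31274) (iv F60976) D31373
theorem F75142 : act 2 n32819 = n31596 := d13_1 D32819 (iv F74344) F74341
theorem F75143 : act 3 n32819 = n31374 := d16_1 D32819 (iv D31374) (iv F69858)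
theorem F75144 : act 4 n32819 = n32555 := d18_1 D32819 F74045 (iv F69859)
theorem F75145 : act 6 n32819 = n31602 := d22_1 D32819 (iv F70561) (iv F70508) F70507
def n32820 : Q := act 5 n31375
theorem D32820 : act 5 n31375 = n32820 := rfl
theorem F75146 : act 0 n32820 = n31567 := d4_1 D32820 (iv F74215) F74213
theorem F75147 : act 2 n32820 = n32698 := d13_1 D32820 F74650 F70496
theorem F75148 : act 3 n32820 = n32753 := d16_1 D32820 F74881 (iv F69864)
theorem F75149 : act 6 n32820 = n31565 := d20_2 F70440 D32820 F70763 (iv F74216) F74215 (iv D31567) (iv F70439)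
def n32821 : Q := act 1 n31376
theorem D32821 : act 1 n31376 = n32821 := rfl
theorem F75150 : act 0 n32821 = n32525 := d0_1 D32821 (iv D32525) F67078 D30576 D32527 (iv F73951) F69606 (iv F60980) (iv F69865)
theorem F75151 : act 2 n32821 = n32532 := d6_2 (iv F69866) D32821 (iv D32532) F67093 D31175
theorem F75152 : act 3 n32821 = n32526 := d7_2 (iv F69867) D32821 F73947
def n32822 : Q := act 3 n31380
theorem D32822 : act 3 n31380 = n32822 := rfl
theorem F75153 : act 0 n32822 = n32395 := d2_1 D32822 (iv F73936) F73934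
theorem F75154 : act 1 n32822 = n32644 := d7_1 D32822 F74446 (iv F69885)
theorem F75155 : act 2 n32822 = n32632 := d11_1 D32822 F74396 F67913 F67765 (iv F59113) (iv F67771) (iv F73935) F73936 F73428 F71281 F66977 F57753 (iv F50211) (iv F60990) D31380
theorem F75156 : act 5 n32822 = n32632 := d16_2 (iv F69886) D32822 F74396
theorem F75157 : act 6 n32822 = n32393 := d17_2 F74037 D32822 (iv F74035)
def n32823 : Q := act 5 n31389
theorem D32823 : act 5 n31389 = n32823 := rfl
theorem F75158 : act 0 n32823 = n31392 := d4_1 D32823 (iv D31392) (iv F69914)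
theorem F75159 : act 1 n32823 = n31925 := d9_1 D32823 (iv D31925) F63148 D29347 (iv F69915)
theorem F75160 : act 2 n32823 = n31390 := d13_1 D32823 (iv D31390) D31389
theorem F75161 : act 3 n32823 = n31927 := d16_1 D32823 F71662 F69918
theorem F75162 : act 4 n32823 = n31394 := d18_1 D32823 (iv D31394) (iv F69916)
theorem F75163 : act 6 n32823 = n31949 := d20_2 (iv F69917) D32823 F71721 F65399 D31392 (iv F74699) (iv D32711)
def n32824 : Q := act 1 n31390
theorem D32824 : act 1 n31390 = n32824 := rfl
theorem F75164 : act 0 n32824 = n32229 := d0_1 D32824 (iv D32229) F64608 D31263 (iv F74295) F74296 F69455 F69405 (iv F69919)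
theorem F75165 : act 4 n32824 = n31395 := d8_2 (iv F69920) D32824 (iv D31395)
def n32825 : Q := act 1 n31394
theorem D32825 : act 1 n31394 = n32825 := rfl
theorem F75166 : act 0 n32825 = n32318 := d0_1 D32825 (iv D32318) (iv F73112) F73113 (iv F65400) (iv F65404) F63214 (iv F61048) (iv F69930)
theorem F75167 : act 2 n32825 = n31526 := d6_2 (iv F69931) D32825 F70311 F70252 (iv D31395)
theorem F75168 : act 3 n32825 = n31952 := d7_2 (iv F69932) D32825 (iv D31952)
theorem F75169 : act 4 n32825 = n31925 := d8_2 F75162 D32825 (iv F75159)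
theorem F75170 : act 5 n32825 = n31924 := d9_2 D31394 D32825 F71654 (iv F63162) (iv F61045)
theorem F75171 : act 6 n32825 = n31525 := d10_2 (iv F69933) D32825 F70305 (iv F69191) F69188
def n32826 : Q := act 2 n31396
theorem D32826 : act 2 n31396 = n32826 := rfl
theorem F75172 : act 0 n32826 = n31638 := d1_1 D32826 F70683 F70390
theorem F75173 : act 1 n32826 = n31918 := d6_1 D32826 F71638 (iv F68682) F68683 D31396
theorem F75174 : act 4 n32826 = n31573 := d12_2 F74937 D32826 (iv F74935)
theorem F75175 : act 6 n32826 = n31571 := d14_2 (iv F69935) D32826 F70454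
theorem F75176 : act 3 n32785 = n32826 := d25_1 (iv F75000) (iv D32826) F69934 F69444 (iv D29157) (iv F62637) (iv F65877) F65878 (iv F59621) D31125 F69011 F68000 F57981 F46641 (iv F53237) D29668 F64041 (iv D29660) (iv D25903) F53089 F53087 (iv F44104) (iv F54360) (iv F65507) (iv F65880) (iv D30235) F54563 (iv F62623) F62624 F59284 F58174 (iv F59614) F59613 (iv D27615) (iv D23442) F33989 (iv D13793) (iv D10900) F12008 D8079 F17219 D10905 D13803 D18991 F34021 (iv F46525) (iv D23374) (iv F33979) D23433 (iv F54046) F54045 D26226 F54051 F46453 (iv F57749) D30781 F67760 F60489 (iv F52525) F54088 (iv D26247) (iv D21770) F28489 F21665 (iv F21491) (iv F28075) D21459 (iv F52914) D29538 (iv F63607) D29568 F63677 (iv F67155) (iv F71542) (iv F75036) F75035 F70961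
def n32827 : Q := act 3 n31397
theorem D32827 : act 3 n31397 = n32827 := rfl
theorem F75177 : act 0 n32827 = n32742 := d2_1 D32827 F74838 F73832
theorem F75178 : act 1 n32827 = n31885 := d7_1 D32827 (iv F71521) (iv F70506)
theorem F75179 : act 2 n32827 = n31896 := d11_1 D32827 F71551 (iv D30481) F56346 D27011 D30488 D32494 (iv F74838) F74837 F74097 F67246 F57158 F50947 (iv F61052) D31397
theorem F75180 : act 4 n32827 = n31886 := d15_2 (iv F69936) D32827 (iv F73197) F73198 (iv D31404)
theorem F75181 : act 5 n32827 = n32595 := d16_2 (iv F69937) D32827 (iv D32595)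
theorem F75182 : act 6 n32827 = n32363 := d17_2 F74246 D32827 (iv F74244)
def n32828 : Q := act 1 n31402
theorem D32828 : act 1 n31402 = n32828 := rfl
theorem F75183 : act 4 n32828 = n32748 := d8_2 F73833 D32828 F74858
theorem F75184 : act 6 n32828 = n32747 := d10_2 F73302 D32828 F74855 (iv F70949) (iv F73298)
theorem F75185 : act 3 n32828 = n32443 := d25_6 (iv F65588) F65587 (iv F54416) (iv F61062) D31402 D32828 (iv D32443) (iv D30398) F55899 (iv F65995) (iv F71445) F71447 F71432 F65992 F58700 (iv F49419) (iv F60056) D31167 F69180 (iv D28893) D28894 F61972 (iv D28788) (iv D24886) D24885 F50571 F38767 F37312 (iv F48445) F48444 D25509 F52348 (iv D23480) (iv D19008) F24274 (iv D13801) D13802 D18989 F34018 (iv D18934) (iv F33893) (iv D18926) (iv D13767) (iv F24171) D18920 (iv F45434) D27122 (iv F56756) (iv F56767) (iv D27127) F54501 F54500 F42466 (iv F48711) (iv F59544) (iv F68901) (iv F68905) F71634 (iv D31916) F63127 D29334 F63129 D29335 (iv F71530) F71531 (iv D29337) F52643 (iv D21379) (iv D16183) F21453 D12229 (iv F28217) D21549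 D25914 D29668 F64041 F64006
theorem F75186 : act 0 n32446 = n32828 := d2_3 F75185 F73646 D32446
def n32829 : Q := act 3 n31402
theorem D32829 : act 3 n31402 = n32829 := rfl
theorem F75187 : act 0 n32829 = n31404 := d2_1 D32829 (iv D31404) (iv F69951)
theorem F75188 : act 1 n32829 = n32443 := d7_1 D32829 (iv F75185) (iv D32828)
theorem F75189 : act 2 n32829 = n31775 := d11_1 D32829 F71166 (iv D30847) F57949 F47349 (iv F50246) D28612 D31404 (iv F74504) F74505 (iv D32350) F65587 (iv F54416) (iv F61062) D31402
theorem F75190 : act 4 n32829 = n31706 := d15_2 F73833 D32829 F70943 (iv F74839) F74838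
theorem F75191 : act 5 n32829 = n32142 := d16_2 F73883 D32829 (iv F73885)
theorem F75192 : act 6 n32829 = n31705 := d17_2 F73302 D32829 (iv F73299)
def n32830 : Q := act 5 n31404
theorem D32830 : act 5 n31404 = n32830 := rfl
theorem F75193 : act 0 n32830 = n32142 := d4_1 D32830 (iv F75191) F75187
theorem F75194 : act 1 n32830 = n31405 := d9_1 D32830 (iv D31405) D31403 (iv F71613) F71615
theorem F75195 : act 3 n32830 = n31405 := d16_1 D32830 (iv D31405) D31404
theorem F75196 : act 4 n32830 = n32141 := d18_1 D32830 (iv F73199) F73198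
theorem F75197 : act 6 n32830 = n32599 := d22_1 D32830 F74250 (iv F75192) F75187
def n32831 : Q := act 6 n31412
theorem D32831 : act 6 n31412 = n32831 := rfl
theorem F75198 : act 1 n32831 = n32788 := d10_1 D32831 (iv D32788) (iv D31303) (iv F61145) D31412
theorem F75199 : act 2 n32831 = n31607 := d14_1 D32831 (iv F74279) F74276
theorem F75200 : act 3 n32831 = n31413 := d17_1 D32831 (iv D31413) (iv F69981)
theorem F75201 : act 4 n32831 = n32560 := d19_1 D32831 F74073 (iv F69982)
theorem F75202 : act 5 n32831 = n31612 := d22_2 F72558 D32831 (iv F70599) (iv F72554)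
def n32832 : Q := act 6 n31414
theorem D32832 : act 6 n31414 = n32832 := rfl
theorem F75203 : act 0 n32832 = n31586 := d5_1 D32832 (iv F74150) F74147
theorem F75204 : act 2 n32832 = n32684 := d14_1 D32832 F74604 F70434
theorem F75205 : act 3 n32832 = n32759 := d17_1 D32832 F74910 (iv F69987)
theorem F75206 : act 5 n32832 = n31584 := d20_1 D32832 F70804 (iv F74149) F74150 (iv D31586) (iv F70499) F70498
def n32833 : Q := act 1 n31415
theorem D32833 : act 1 n31415 = n32833 := rfl
theorem F75207 : act 0 n32833 = n32532 := d0_1 D32833 (iv D32532) F67092 D30583 D32534 (iv F73970) F69684 (iv F61149) (iv F69988)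
theorem F75208 : act 2 n32833 = n32525 := d6_2 (iv F69989) D32833 (iv D32525) F67079 D31174
theorem F75209 : act 3 n32833 = n32533 := d7_2 (iv F69990) D32833 F73966
def n32834 : Q := act 3 n31418
theorem D32834 : act 3 n31418 = n32834 := rfl
theorem F75210 : act 0 n32834 = n32381 := d2_1 D32834 (iv F73903) F73901
theorem F75211 : act 1 n32834 = n32624 := d7_1 D32834 F74362 (iv F70003)
theorem F75212 : act 2 n32834 = n32650 := d11_1 D32834 F74474 F68096 F67948 (iv F59329) (iv F67954) (iv F73902) F73903 F73371 F71409 F66921 F57929 (iv F50317) (iv F61155) D31418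
theorem F75213 : act 5 n32834 = n32379 := d16_2 F74064 D32834 (iv F74062)
theorem F75214 : act 6 n32834 = n32650 := d17_2 (iv F70004) D32834 F74474
def n32835 : Q := act 6 n31426
theorem D32835 : act 6 n31426 = n32835 := rfl
theorem F75215 : act 0 n32835 = n31429 := d5_1 D32835 (iv D31429) (iv F70035)
theorem F75216 : act 1 n32835 = n32054 := d10_1 D32835 (iv D32054) F63473 D29490 (iv F70036)
theorem F75217 : act 2 n32835 = n31427 := d14_1 D32835 (iv D31427) D31426
theorem F75218 : act 3 n32835 = n32055 := d17_1 D32835 F72069 (iv F70039)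
theorem F75219 : act 4 n32835 = n31431 := d19_1 D32835 (iv D31431) (iv F70037)
theorem F75220 : act 5 n32835 = n32069 := d20_1 D32835 F72114 F65679 D31429 (iv F74735) (iv D32718) (iv F70038)
def n32836 : Q := act 1 n31427
theorem D32836 : act 1 n31427 = n32836 := rfl
theorem F75221 : act 0 n32836 = n32123 := d0_1 D32836 (iv D32123) F63758 D31292 (iv F74252) F74253 F69553 F69503 (iv F70040)
theorem F75222 : act 4 n32836 = n31432 := d8_2 (iv F70041) D32836 (iv D31432)
def n32837 : Q := act 1 n31431
theorem D32837 : act 1 n31431 = n32837 := rfl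
theorem F75223 : act 0 n32837 = n32356 := d0_1 D32837 (iv D32356) (iv F73253) F73254 F65686 (iv F65683) F63544 (iv F61206) (iv F70051)
theorem F75224 : act 2 n32837 = n31466 := d6_2 (iv F70052) D32837 F70146 F70098 (iv D31432)
theorem F75225 : act 3 n32837 = n32071 := d7_2 (iv F70053) D32837 (iv D32071)
theorem F75226 : act 4 n32837 = n32054 := d8_2 F75219 D32837 (iv F75216)
theorem F75227 : act 5 n32837 = n31465 := d9_2 (iv F70054) D32837 F70141 (iv F69138) F69135
theorem F75228 : act 6 n32837 = n32052 := d10_2 D31431 D32837 F72059 (iv F63482) (iv F61199)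
def n32838 : Q := act 2 n31433
theorem D32838 : act 2 n31433 = n32838 := rfl
theorem F75229 : act 0 n32838 = n31643 := d1_1 D32838 F70695 F70450
theorem F75230 : act 1 n32838 = n32046 := d6_1 D32838 F72042 (iv F68824) F68825 D31433
theorem F75231 : act 4 n32838 = n31553 := d12_2 F75005 D32838 (iv F75003)
theorem F75232 : act 5 n32838 = n31551 := d13_2 (iv F70056) D32838 F70394
theorem F75233 : act 3 n32766 = n32838 := d25_1 (iv F74932) (iv D32838) F70055 F69542 (iv D29105) (iv F62551) (iv F65819) F65820 (iv F59670) D31139 F69053 F67816 F57805 (iv F46681) (iv F53826) D29899 F64824 (iv D29892) (iv D26138) F53693 F53691 (iv F43954) (iv F54184) (iv F65227) (iv F65825) (iv D30217) F54534 (iv F62538) F62539 F59494 F58274 (iv F59667) F59666 (iv D27539) (iv D23383) F33912 (iv D13773) (iv D10889) F11985 D8056 (iv F17226) D10912 D13817 D19011 F34067 (iv F46657) (iv D23433) F33979 D23374 F53456 F53455 D25995 F53461 F46576 (iv F57925) D30839 F67943 F60410 (iv F52392) F53497 (iv D26016) (iv D21611) F28285 F21575 (iv F21457) (iv F28008) D21390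 (iv F52700) D29398 (iv F63262) D29428 F63325 (iv F67127) (iv F71956) (iv F75094) F75093 F71105
def n32839 : Q := act 3 n31434
theorem D32839 : act 3 n31434 = n32839 := rfl
theorem F75234 : act 0 n32839 = n32741 := d2_1 D32839 F74833 F73828
theorem F75235 : act 1 n32839 = n32018 := d7_1 D32839 (iv F71934) (iv F70438)
theorem F75236 : act 2 n32839 = n32028 := d11_1 D32839 F71965 (iv D30474) F56319 D27005 D30485 D32493 (iv F74833) F74832 F74162 F67305 F57230 (iv F51023) (iv F61210) D31434
theorem F75237 : act 4 n32839 = n32019 := d15_2 (iv F70057) D32839 (iv F73050) F73051 (iv D31439)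
theorem F75238 : act 5 n32839 = n32325 := d16_2 F74235 D32839 (iv F74233)
theorem F75239 : act 6 n32839 = n32614 := d17_2 (iv F70058) D32839 (iv D32614)
def n32840 : Q := act 1 n31437
theorem D32840 : act 1 n31437 = n32840 := rfl
theorem F75240 : act 4 n32840 = n32745 := d8_2 F73829 D32840 F74848
theorem F75241 : act 5 n32840 = n32744 := d9_2 F73155 D32840 F74845 (iv F70914) (iv F73152)
theorem F75242 : act 0 n32840 = n32433 := d23_3 F65359 D31437 D32840 (iv F74293) (iv F74461) (iv D32647) F68081 (iv D27617) (iv D23442) F33989 F24224 (iv F24221) D18974 D23436 (iv F50580) D28796 F61643 (iv F58482) (iv F65357)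
theorem F75243 : act 3 n32840 = n32430 := d25_6 (iv F65301) F65300 (iv F54236) (iv F61222) D31437 D32840 (iv D32430) (iv D30378) F55791 (iv F65948) (iv F71313) F71315 F71302 F65945 F58665 (iv F49391) (iv F59972) D31157 F69127 (iv D28886) D28887 F61951 (iv D28724) (iv D24833) D24832 F50467 F38704 F37224 (iv F48416) F48415 D25567 F52481 (iv D23456) (iv D18988) (iv F24274) (iv D13815) D13816 D19009 F34063 (iv D18974) (iv F33965) (iv D18966) (iv D13787) (iv F24206) D18960 (iv F45452) D27129 F56774 (iv F56750) (iv D27120) F54320 F54319 F42343 (iv F48729) (iv F59557) (iv F68924) F68923 F72038 (iv D32044) F63450 D29476 F63452 D29477 (iv F71943) F71944 (iv D29479) F52827 (iv D21448) (iv D16228) F21485 D12281 (iv F28419) D21708 D26149 D29899 F64824 F64794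
def n32841 : Q := act 3 n31437
theorem D32841 : act 3 n31437 = n32841 := rfl
theorem F75244 : act 0 n32841 = n31439 := d2_1 D32841 (iv D31439) (iv F70064)
theorem F75245 : act 1 n32841 = n32430 := d7_1 D32841 (iv F75243) (iv D32840)
theorem F75246 : act 2 n32841 = n31730 := d11_1 D32841 F71022 (iv D30789) F57773 F47212 (iv F50354) D28669 D31439 (iv F74415) F74416 (iv D32312) F65300 (iv F54236) (iv F61222) D31437
theorem F75247 : act 4 n32841 = n31698 := d15_2 F73829 D32841 F70909 (iv F74834) F74833
theorem F75248 : act 5 n32841 = n31697 := d16_2 F73155 D32841 (iv F73153)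
theorem F75249 : act 6 n32841 = n32239 := d17_2 F73916 D32841 (iv F73917)
def n32842 : Q := act 6 n31439
theorem D32842 : act 6 n31439 = n32842 := rfl
theorem F75250 : act 0 n32842 = n32239 := d5_1 D32842 (iv F75249) F75244
theorem F75251 : act 1 n32842 = n31440 := d10_1 D32842 (iv D31440) D31438 (iv F72017) F72018
theorem F75252 : act 3 n32842 = n31440 := d17_1 D32842 (iv D31440) D31439
theorem F75253 : act 4 n32842 = n32238 := d19_1 D32842 (iv F73052) F73051
theorem F75254 : act 5 n32842 = n32616 := d22_2 F73047 D32842 F74321 (iv F73043)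
def n32843 : Q := act 5 n31445
theorem D32843 : act 5 n31445 = n32843 := rfl
theorem F75255 : act 0 n32843 = n32588 := d4_1 D32843 F74198 F70116
theorem F75256 : act 1 n32843 = n32529 := d9_1 D32843 (iv D32529) (iv D30576) (iv F61309) D31445
theorem F75257 : act 3 n32843 = n32530 := d16_1 D32843 F73958 (iv F70091)
theorem F75258 : act 6 n32843 = n32615 := d20_2 (iv F70092) D32843 F74317 F70115 (iv F74198) (iv F74200) (iv D31450)
def n32844 : Q := act 0 n31446
theorem D32844 : act 0 n31446 = n32844 := rfl
theorem F75259 : act 1 n32844 = n31508 := d0_2 D31446 D32844 F70266 F62527 (iv F62549) F70126 (iv D31456) (iv D28700) (iv F61315)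
theorem F75260 : act 3 n32844 = n31448 := d2_2 (iv F70093) D32844 (iv D31448)
theorem F75261 : act 4 n32844 = n32015 := d3_2 F70129 D32844 F71925
theorem F75262 : act 5 n32844 = n32582 := d4_2 F74204 D32844 (iv F74201)
theorem F75263 : act 6 n32844 = n32531 := d5_2 (iv F70094) D32844 (iv D32531)
def n32845 : Q := act 2 n31446
theorem D32845 : act 2 n31446 = n32845 := rfl
theorem F75264 : act 1 n32845 = n31457 := d6_1 D32845 (iv D31457) (iv D28700) (iv F61316) D31446
theorem F75265 : act 4 n32845 = n32589 := d12_2 F70129 D32845 F74202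
theorem F75266 : act 5 n32845 = n31459 := d13_2 F74204 D32845 (iv F74202)
theorem F75267 : act 6 n32845 = n32498 := d14_2 (iv F70094) D32845 F73848
theorem F75268 : act 3 n32845 = n31468 := d25_13 (iv F68714) F68713 (iv F70118) (iv D31454) (iv D28697) (iv D24810) F38669 F26292 (iv F38669) (iv F50418) D28694 (iv F70093) D32845 (iv F70295) (iv D31519) (iv F70478) (iv D31511) F61559 (iv F53895) F53894 (iv F54112) (iv F65135) (iv F68898) F68897 D31100 (iv F68958) F68957 F59586 (iv F64096) F64095 (iv D27670) F46741 F34036 (iv F46741) F46740 D27437 F57641 (iv F58409) (iv F65749) F65748 (iv F67170) F67171 (iv D27710) (iv F57067) D30613 F67167 (iv F67829) F69010 F69006 F68085 D30879 (iv F73101) F73100 F66828 F56549 (iv F45785) F45784 (iv F52771) F52770 F52771 (iv F51309) (iv D25115) (iv F51301) F51300 (iv F52594) F52593 (iv F56925) F56926 F45807 (iv F56573) (iv F66818) (iv D30499) D30500 D32499 F73856 (iv D32495) F66791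
def n32846 : Q := act 0 n31447
theorem D32846 : act 0 n31447 = n32846 := rfl
theorem F75269 : act 1 n32846 = n31505 := d0_2 D31447 D32846 (iv F72744) F72745 (iv F73380) F73381 (iv D31461) (iv D28703) (iv F61323)
theorem F75270 : act 4 n32846 = n31448 := d3_2 (iv F70095) D32846 (iv D31448)
theorem F75271 : act 6 n32846 = n32824 := d5_2 F72757 D32846 F75164
theorem F75272 : act 2 n31503 = n32846 := d12_3 F75270 F70113 (iv F70251)
def n32847 : Q := act 2 n31447
theorem D32847 : act 2 n31447 = n32847 := rfl
theorem F75273 : act 0 n32847 = n31503 := d1_1 D32847 F75272 (iv D32846)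
theorem F75274 : act 1 n32847 = n31451 := d6_1 D32847 (iv D31451) (iv D28695) (iv F61324) D31447
theorem F75275 : act 4 n32847 = n31449 := d12_2 (iv F70095) D32847 (iv D31449)
theorem F75276 : act 5 n32836 = n32847 := d23_0 (iv D32847) (iv D31447) F61323 D28704 F61353 D28710 D31473 F70163 F70780 (iv D31667) F62352 (iv D25371) F49944 F49942 (iv F49939) (iv F53028) D29594 D32123 (iv F75221)
def n32848 : Q := act 5 n31447
theorem D32848 : act 5 n31447 = n32848 := rfl
theorem F75277 : act 2 n32848 = n32836 := d13_1 D32848 F75276 (iv D32847)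
theorem F75278 : act 4 n32848 = n31450 := d18_1 D32848 (iv D31450) (iv F70095)
def n32849 : Q := act 3 n31449
theorem D32849 : act 3 n31449 = n32849 := rfl
theorem F75279 : act 0 n32849 = n31502 := d2_1 D32849 F70249 F70112
theorem F75280 : act 1 n32849 = n31454 := d7_1 D32849 (iv D31454) (iv F70096)
theorem F75281 : act 5 n32849 = n32538 := d16_2 F70097 D32849 F73980
theorem F75282 : act 6 n32849 = n32567 := d17_2 F74240 D32849 (iv F74239)
theorem F75283 : act 4 n31884 = n32849 := d25_0 (iv D32849) (iv D31449) (iv F70093) D32845 F75264 F70417 (iv F64140) (iv F72528) F72527 F72505 F69034 F59651 F48773 F37399 (iv F42481) (iv F54539) (iv F65833) F65834 (iv F70990) (iv F74183) F74185 F73272 F67899 (iv F57890) (iv F57595) F57596 F47086 F43786 (iv F47149) (iv F58379) F58378 F54740 D26522 (iv F54747) (iv D25175) (iv D20880) (iv F40097) (iv F43236) (iv D22189) (iv D16889) F22067 (iv F26496) (iv F38979) F38980 F37989 F25844 (iv F22520) (iv F30505) (iv F44429) (iv F51248) F51247 (iv F58401) (iv F65755) F65754 F65448 (iv D27954) F53021 (iv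 F63733) (iv F63747) (iv D29590) (iv D25828) D25827 (iv F57445) (iv D27360) (iv D23230) (iv D18835) (iv D13722) (iv F24092) (iv F28111) F28112 F21509 D12200 (iv F27964) D21330 D25603 D29293 D31884
def n32850 : Q := act 2 n31455
theorem D32850 : act 2 n31455 = n32850 := rfl
theorem F75284 : act 1 n32850 = n32589 := d6_1 D32850 F74202 (iv D31459) F61343 D31455
theorem F75285 : act 4 n32850 = n31457 := d12_2 (iv F70123) D32850 (iv D31457)
theorem F75286 : act 6 n32850 = n31748 := d14_2 F70412 D32850 F71078
theorem F75287 : act 3 n32850 = n31466 := d21_1 D32850 (iv F75224) F75225 (iv F73287) F73288 (iv F70144) (iv F71082) F71080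
theorem F75288 : act 5 n31455 = n32850 := d23_0 (iv D32850) (iv D31455) (iv F61342) (iv D28701) (iv F61316) D31446 D32844 F75262 F74170 (iv D32015) (iv F64583) F64586 F53716 F62263 F62261 (iv F63225) (iv F69431) (iv F71081) F71080
def n32851 : Q := act 0 n31460
theorem D32851 : act 0 n31460 = n32851 := rfl
theorem F75289 : act 2 n32851 = n32068 := d1_2 (iv F70130) D32851 F72107
theorem F75290 : act 3 n32851 = n31461 := d2_2 (iv F70131) D32851 (iv D31461)
theorem F75291 : act 4 n32851 = n31464 := d3_2 (iv F70132) D32851 (iv D31464)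
theorem F75292 : act 1 n32361 = n32851 := d8_3 F75291 (iv F70145) (iv F73294)
theorem F75293 : act 5 n32851 = n32261 := d9_2 (iv F73295) F75292 F72893 F70561 F70703
def n32852 : Q := act 5 n31460
theorem D32852 : act 5 n31460 = n32852 := rfl
theorem F75294 : act 0 n32852 = n32261 := d4_1 D32852 (iv F75293) (iv D32851)
theorem F75295 : act 1 n32852 = n32848 := d9_1 D32852 (iv D32848) (iv D31447) (iv F61350) D31460
theorem F75296 : act 2 n32852 = n32054 := d13_1 D32852 F72065 (iv F70130)
theorem F75297 : act 3 n32852 = n31462 := d16_1 D32852 (iv D31462) (iv F70131)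
theorem F75298 : act 4 n32852 = n31466 := d18_1 D32852 (iv D31466) (iv F70132)
theorem F75299 : act 6 n32051 = n32852 := d14_0 F75296 (iv D32054) D32051
def n32853 : Q := act 1 n31462
theorem D32853 : act 1 n31462 = n32853 := rfl
theorem F75300 : act 3 n32853 = n32848 := d7_2 F75297 D32853 (iv F75295)
theorem F75301 : act 4 n32853 = n31468 := d8_2 (iv F70138) D32853 (iv D31468)
theorem F75302 : act 5 n32853 = n31463 := d9_2 D31462 D32853 (iv D31463) (iv D28704) D28703
def n32854 : Q := act 6 n31462
theorem D32854 : act 6 n31462 = n32854 := rfl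
theorem F75303 : act 0 n32854 = n31561 := d5_1 D32854 F70433 (iv F70136)
theorem F75304 : act 2 n32854 = n32166 := d14_1 D32854 F72511 (iv F70137)
theorem F75305 : act 3 n32854 = n32051 := d17_1 D32854 F75299 F75297
theorem F75306 : act 4 n32854 = n31469 := d19_1 D32854 (iv D31469) (iv F70138)
theorem F75307 : act 5 n32854 = n31560 := d20_1 D32854 F70430 F70135 (iv F70433) (iv D31561) F61724 D31462
theorem F75308 : act 1 n32370 = n32854 := d24_14 (iv D32854) (iv D31462) (iv D28703) (iv D24817) F50437 (iv F50644) D28823 (iv F68448) D32682 F74598 D32687 (iv F74679) F74683 (iv F73330)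
def n32855 : Q := act 0 n31463
theorem D32855 : act 0 n31463 = n32855 := rfl
theorem F75309 : act 1 n32855 = n32226 := d0_2 D31463 D32855 F72739 (iv F72594) (iv F73293) F75292 (iv D32851) (iv D31460) (iv F61352)
theorem F75310 : act 3 n32855 = n32846 := d2_2 (iv F70139) D32855 (iv D32846)
theorem F75311 : act 4 n32855 = n31470 := d3_2 (iv F70140) D32855 (iv D31470)
def n32856 : Q := act 2 n31463
theorem D32856 : act 2 n31463 = n32856 := rfl
theorem F75312 : act 1 n32856 = n31474 := d6_1 D32856 (iv D31474) (iv D28710) (iv F61353) D31463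
theorem F75313 : act 4 n32856 = n31471 := d12_2 (iv F70140) D32856 (iv D31471)
def n32857 : Q := act 5 n31464
theorem D32857 : act 5 n31464 = n32857 := rfl
theorem F75314 : act 0 n32857 = n31466 := d4_1 D32857 (iv D31466) D31464
theorem F75315 : act 1 n32857 = n32265 := d9_1 D32857 F72910 (iv D31647) (iv F65636) F70145
theorem F75316 : act 2 n32857 = n32356 := d13_1 D32857 F73274 (iv F70144)
theorem F75317 : act 4 n32857 = n32261 := d18_1 D32857 (iv F75293) F75291
theorem F75318 : act 6 n32857 = n32764 := d22_1 D32857 (iv D32764) F69581 D31464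
def n32858 : Q := act 6 n31466
theorem D32858 : act 6 n31466 = n32858 := rfl
theorem F75319 : act 0 n32858 = n32764 := d5_1 D32858 (iv F75318) F75314
theorem F75320 : act 1 n32858 = n32301 := d10_1 D32858 F73071 (iv F74197) (iv F74200) (iv F70146)
theorem F75321 : act 2 n32858 = n32052 := d14_1 D32858 (iv F75228) F75224
theorem F75322 : act 3 n32858 = n31748 := d17_1 D32858 (iv F75286) F75287
theorem F75323 : act 4 n32858 = n32051 := d19_1 D32858 F75299 F75298
theorem F75324 : act 5 n32858 = n31741 := d20_1 D32858 F71058 D32857 F75318 (iv D32764) F69581 D31466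
def n32859 : Q := act 0 n31468
theorem D32859 : act 0 n31468 = n32859 := rfl
theorem F75325 : act 1 n32859 = n32240 := d0_2 D31468 D32859 F72802 (iv D31370) F60954 D28577 (iv F64921) F70151 F70147
theorem F75326 : act 5 n32859 = n31470 := d4_2 (iv F70152) D32859 (iv D31470)
theorem F75327 : act 6 n32859 = n32300 := d5_2 F70303 D32859 F73065
def n32860 : Q := act 6 n31470
theorem D32860 : act 6 n31470 = n32860 := rfl
theorem F75328 : act 0 n32860 = n31472 := d5_1 D32860 (iv D31472) D31470
theorem F75329 : act 1 n32860 = n31718 := d10_1 D32860 F70984 (iv D31288) (iv F64576) (iv F70157)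
theorem F75330 : act 2 n32860 = n31523 := d14_1 D32860 (iv F73206) F73205
theorem F75331 : act 3 n32860 = n31720 := d17_1 D32860 (iv F71927) F71926
theorem F75332 : act 5 n32860 = n31522 := d20_1 D32860 F70303 F70152 D31472 (iv F73067) (iv F75327) F75326
def n32861 : Q := act 6 n31471
theorem D32861 : act 6 n31471 = n32861 := rfl
theorem F75333 : act 0 n32861 = n31523 := d5_1 D32861 (iv F73206) F73204
theorem F75334 : act 1 n32861 = n31763 := d10_1 D32861 F71129 F70170 (iv D31475) (iv F70158)
theorem F75335 : act 2 n32861 = n31472 := d14_1 D32861 (iv D31472) D31471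
theorem F75336 : act 3 n32861 = n31765 := d17_1 D32861 (iv F73843) F73841
theorem F75337 : act 5 n32861 = n31521 := d24_1 D32861 F70310 F63763 D29634 D32145 F72414 (iv D30780) (iv F64213) (iv F69306) F72388 (iv F73185) (iv D32333) F65496 (iv F70158)
def n32862 : Q := act 1 n31478
theorem D32862 : act 1 n31478 = n32862 := rfl
theorem F75338 : act 2 n32862 = n32364 := d6_2 (iv F70181) D32862 (iv F74247) F74243 F67441
theorem F75339 : act 4 n32862 = n31486 := d8_2 (iv F70182) D32862 (iv D31486)
def n32863 : Q := act 2 n31482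
theorem D32863 : act 2 n31482 = n32863 := rfl
theorem F75340 : act 0 n32863 = n31485 := d1_1 D32863 F70199 (iv F70189)
theorem F75341 : act 1 n32863 = n31483 := d6_1 D32863 (iv D31483) (iv D28730) (iv F61479) D31482
theorem F75342 : act 3 n32863 = n32629 := d11_2 F70336 D32863 F74386 F68270 (iv F73196) F73197 F71522 F70207 (iv F70199) (iv F71431) F71430 F62917 (iv F70942) F70943 F70734
theorem F75343 : act 4 n32863 = n31495 := d12_2 (iv F70190) D32863 (iv D31495)
theorem F75344 : act 5 n32863 = n32658 := d13_2 F70208 D32863 F74507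
theorem F75345 : act 6 n32863 = n31484 := d14_2 (iv F70191) D32863 F70196
def n32864 : Q := act 1 n31485
theorem D32864 : act 1 n31485 = n32864 := rfl
theorem F75346 : act 0 n32864 = n32275 := d0_1 D32864 (iv D32275) F65048 F62725 F52335 D29090 (iv F70192) (iv F75341) F75340
theorem F75347 : act 2 n32864 = n32712 := d6_2 (iv F70199) D32864 (iv F75040) F75041 F69958
theorem F75348 : act 3 n32864 = n31804 := d7_2 F71431 D32864 (iv F71429)
theorem F75349 : act 6 n32864 = n31486 := d10_2 D31485 D32864 (iv D31486) (iv D28733) D28731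
theorem F75350 : act 5 n31817 = n32864 := d24_1 (iv F71299) (iv D32864) (iv D31485) (iv F68133) (iv D30896) (iv D27625) D27624 D30895 (iv F68132) (iv D29113) (iv D25441) (iv F52210) D29092 D31717
def n32865 : Q := act 5 n31485
theorem D32865 : act 5 n31485 = n32865 := rfl
theorem F75351 : act 0 n32865 = n32658 := d4_1 D32865 (iv F75344) F75340
theorem F75352 : act 1 n32865 = n31869 := d9_1 D32865 F71465 F71334 F75350 (iv D32864)
theorem F75353 : act 2 n32865 = n31491 := d13_1 D32865 (iv D31491) (iv F70199)
theorem F75354 : act 3 n32865 = n31877 := d16_1 D32865 F71492 F71431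
theorem F75355 : act 6 n32865 = n32659 := d20_2 D31485 D32865 F74512 (iv F75345) F75344 F74508 F68133
def n32866 : Q := act 5 n31486
theorem D32866 : act 5 n31486 = n32866 := rfl
theorem F75356 : act 0 n32866 = n31717 := d4_1 D32866 (iv F71272) F71270
theorem F75357 : act 3 n32866 = n31837 := d16_1 D32866 F71359 (iv F70200)
theorem F75358 : act 6 n32866 = n32646 := d20_2 F75349 D32866 F74459 F72955 F71272 (iv F71299) F75350
def n32867 : Q := act 5 n31489
theorem D32867 : act 5 n31489 = n32867 := rfl
theorem F75359 : act 0 n32867 = n31897 := d4_1 D32867 (iv F71558) F70335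
theorem F75360 : act 1 n32867 = n32794 := d9_1 D32867 (iv D32794) (iv D31318) (iv F63136) (iv F70206)
theorem F75361 : act 2 n32867 = n31902 := d13_1 D32867 F71580 F71522
theorem F75362 : act 3 n32867 = n31491 := d16_1 D32867 (iv D31491) (iv F70207)
theorem F75363 : act 4 n32867 = n32564 := d18_1 D32867 F74093 F71552
theorem F75364 : act 6 n32867 = n32566 := d20_2 D31489 D32867 F74104 (iv F70337) F71558 F71556 (iv F67253)
def n32868 : Q := act 1 n31491
theorem D32868 : act 1 n31491 = n32868 := rfl
theorem F75365 : act 3 n32868 = n32794 := d7_2 F75362 D32868 (iv F75360)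
theorem F75366 : act 5 n32868 = n32793 := d9_2 D31491 D32868 F75025 (iv F69960) F69958
theorem F75367 : act 6 n32868 = n32868 := d10_2 (iv F70210) D32868 (iv D32868) F70210 F70205
def n32869 : Q := act 6 n31493
theorem D32869 : act 6 n31493 = n32869 := rfl
theorem F75368 : act 0 n32869 = n32029 := d5_1 D32869 (iv F71972) (iv F70215)
theorem F75369 : act 1 n32869 = n32807 := d10_1 D32869 (iv D32807) (iv D31344) (iv F63460) (iv F70216)
theorem F75370 : act 2 n32869 = n32033 := d14_1 D32869 F71989 F71935
theorem F75371 : act 3 n32869 = n31542 := d17_1 D32869 (iv D31542) (iv F70217)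
theorem F75372 : act 4 n32869 = n32579 := d19_1 D32869 F74159 F71966
theorem F75373 : act 5 n32869 = n32581 := d20_1 D32869 F74169 (iv F70214) F71972 F71970 (iv F67312) D31493
def n32870 : Q := act 5 n31495
theorem D32870 : act 5 n31495 = n32870 := rfl
theorem F75374 : act 2 n32870 = n31496 := d13_1 D32870 (iv D31496) D31495
theorem F75375 : act 3 n32870 = n32562 := d16_1 D32870 (iv D32562) (iv F70224)
theorem F75376 : act 4 n32870 = n32658 := d18_1 D32870 (iv F75344) F75343
theorem F75377 : act 6 n32870 = n32495 := d22_1 D32870 F73838 (iv F74015) F74013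
theorem F75378 : act 1 n32657 = n32870 := d10_5 F75377 F73836 (iv D30894) (iv F68119) D32657
def n32871 : Q := act 1 n31499
theorem D32871 : act 1 n31499 = n32871 := rfl
theorem F75379 : act 2 n32871 = n32830 := d6_2 (iv F70239) D32871 F75194 F69954 (iv F61512)
theorem F75380 : act 3 n32871 = n32224 := d7_2 F74041 D32871 (iv F74039)
theorem F75381 : act 4 n32871 = n31776 := d8_2 F74224 D32871 (iv F74223)
theorem F75382 : act 5 n32871 = n32657 := d9_2 D31499 D32871 F75378 (iv D32870) F70222
theorem F75383 : act 6 n32871 = n31774 := d10_2 F72716 D32871 F71163 D32293 (iv F73034)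
theorem F75384 : act 0 n32871 = n32162 := d23_3 D28749 (iv F70239) D32871 F72498 (iv F75189) F75188 F73646 D32447 F73656 D32448 F73659 (iv F74344) F74341 (iv D31373) F60973 D28597 F61026 (iv F61507) (iv D28747)
def n32872 : Q := act 6 n31501
theorem D32872 : act 6 n31501 = n32872 := rfl
theorem F75385 : act 0 n32872 = n32573 := d5_1 D32872 F74133 (iv F70248)
theorem F75386 : act 1 n32872 = n32536 := d10_1 D32872 (iv D32536) (iv D30583) (iv F61527) D31501
theorem F75387 : act 2 n32872 = n32843 := d14_1 D32872 F75258 F74315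
theorem F75388 : act 3 n32872 = n32537 := d17_1 D32872 F73977 (iv F70246)
theorem F75389 : act 5 n32872 = n32597 := d20_1 D32872 F74240 (iv F70097) (iv F74133) (iv F74134) (iv D31504) (iv F70247)
def n32873 : Q := act 2 n31502
theorem D32873 : act 2 n31502 = n32873 := rfl
theorem F75390 : act 1 n32873 = n31511 := d6_1 D32873 (iv D31511) (iv D28764) (iv F61534) D31502
theorem F75391 : act 4 n32873 = n32574 := d12_2 F70278 D32873 F74136
theorem F75392 : act 5 n32873 = n32496 := d13_2 (iv F70250) D32873 F73840
theorem F75393 : act 6 n32873 = n31513 := d14_2 F74138 D32873 (iv F74136)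
theorem F75394 : act 3 n32873 = n31519 := d21_1 D32873 F70295 (iv F75268) (iv D32845) F70093 D31449 D32849 F75279
def n32874 : Q := act 6 n31503
theorem D32874 : act 6 n31503 = n32874 := rfl
theorem F75395 : act 2 n32874 = n32824 := d14_1 D32874 (iv F75271) (iv F75272)
theorem F75396 : act 4 n32874 = n31504 := d19_1 D32874 (iv D31504) (iv F70251)
def n32875 : Q := act 2 n31509
theorem D32875 : act 2 n31509 = n32875 := rfl
theorem F75397 : act 1 n32875 = n32574 := d6_1 D32875 F74136 (iv D31513) F61561 D31509
theorem F75398 : act 4 n32875 = n31511 := d12_2 (iv F70272) D32875 (iv D31511)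
theorem F75399 : act 5 n32875 = n31793 := d13_2 F70474 D32875 F71224
theorem F75400 : act 3 n32875 = n31526 := d21_1 D32875 (iv F75167) F75168 (iv F73141) F73142 (iv F70308) (iv F71220) F71218
theorem F75401 : act 6 n31509 = n32875 := d17_0 F75400 (iv D31526) (iv F70271)
def n32876 : Q := act 0 n31514
theorem D32876 : act 0 n31514 = n32876 := rfl
theorem F75402 : act 2 n32876 = n31948 := d1_2 (iv F70279) D32876 F71714
theorem F75403 : act 3 n32876 = n31515 := d2_2 (iv F70280) D32876 (iv D31515)
theorem F75404 : act 4 n32876 = n31524 := d3_2 (iv F70281) D32876 (iv D31524)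
theorem F75405 : act 1 n32323 = n32876 := d23_2 F65351 D32323 (iv D32876) (iv F70489) (iv F71637) F71635 F63131 F63109 (iv F69952) (iv D31403) (iv F69951) (iv F73883) (iv D32507) (iv D30518) F56602 (iv F50610) F50607 D27479 (iv F57752)
theorem F75406 : act 6 n32876 = n32176 := d10_2 (iv F73150) F75405 F72548 F70599 F70691
def n32877 : Q := act 6 n31514
theorem D32877 : act 6 n31514 = n32877 := rfl
theorem F75407 : act 0 n32877 = n32176 := d5_1 D32877 (iv F75406) (iv D32876)
theorem F75408 : act 1 n32877 = n32874 := d10_1 D32877 (iv D32874) (iv D31503) (iv F61568) D31514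
theorem F75409 : act 2 n32877 = n31925 := d14_1 D32877 F71656 (iv F70279)
theorem F75410 : act 3 n32877 = n31516 := d17_1 D32877 (iv D31516) (iv F70280)
theorem F75411 : act 4 n32877 = n31526 := d19_1 D32877 (iv D31526) (iv F70281)
theorem F75412 : act 5 n31923 = n32877 := d13_0 F75409 (iv D31925) D31923
def n32878 : Q := act 1 n31516
theorem D32878 : act 1 n31516 = n32878 := rfl
theorem F75413 : act 2 n32878 = n32853 := d6_2 (iv F70286) D32878 (iv D32853) F70137 F64909
theorem F75414 : act 3 n32878 = n32874 := d7_2 F75410 D32878 (iv F75408)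
theorem F75415 : act 4 n32878 = n31519 := d8_2 (iv F70287) D32878 (iv D31519)
theorem F75416 : act 6 n32878 = n31517 := d10_2 D31516 D32878 (iv D31517) (iv D28768) D28767
theorem F75417 : act 5 n32878 = n32856 := d24_1 (iv F75416) F75312 (iv F74220) F74219 F70527 F70659 (iv F72438) F72436 F67099 F63760 F60673 F61540 (iv F61574) D31517
def n32879 : Q := act 5 n31516
theorem D32879 : act 5 n31516 = n32879 := rfl
theorem F75418 : act 0 n32879 = n31581 := d4_1 D32879 F70495 (iv F70285)
theorem F75419 : act 1 n32879 = n32332 := d9_1 D32879 F73182 (iv F75312) (iv F75417) (iv D32878)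
theorem F75420 : act 2 n32879 = n32172 := d13_1 D32879 F72533 (iv F70286)
theorem F75421 : act 3 n32879 = n31923 := d16_1 D32879 F75412 F75410
theorem F75422 : act 4 n32879 = n31520 := d18_1 D32879 (iv D31520) (iv F70287)
theorem F75423 : act 6 n32879 = n31580 := d20_2 D31516 D32879 F70492 (iv F70284) (iv F70495) (iv D31581) F61830
def n32880 : Q := act 0 n31517
theorem D32880 : act 0 n31517 = n32880 := rfl
theorem F75424 : act 1 n32880 = n32124 := d0_2 D31517 D32880 F72316 (iv F72321) (iv F73147) F75405 (iv D32876) (iv D31514) (iv F61570)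
theorem F75425 : act 3 n32880 = n32847 := d2_2 (iv F70288) D32880 F75273
theorem F75426 : act 4 n32880 = n31521 := d3_2 (iv F70289) D32880 (iv D31521)
def n32881 : Q := act 2 n31517
theorem D32881 : act 2 n31517 = n32881 := rfl
theorem F75427 : act 1 n32881 = n31528 := d6_1 D32881 (iv D31528) (iv D28773) (iv F61571) D31517
theorem F75428 : act 4 n32881 = n31522 := d12_2 (iv F70289) D32881 (iv D31522)
theorem F75429 : act 6 n32881 = n32853 := d14_2 F75416 D32881 (iv F75413)
def n32882 : Q := act 0 n31519
theorem D32882 : act 0 n31519 = n32882 := rfl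
theorem F75430 : act 1 n32882 = n32143 := d0_2 D31519 D32882 F72404 (iv D31409) F61123 D28635 (iv F64157) (iv F70294) F70290
theorem F75431 : act 2 n32882 = n32859 := d1_2 (iv F70295) D32882 (iv D32859)
theorem F75432 : act 5 n32882 = n32337 := d4_2 F70297 D32882 F73204
theorem F75433 : act 6 n32882 = n31521 := d5_2 (iv F70296) D32882 (iv D31521)
def n32883 : Q := act 6 n31524
theorem D32883 : act 6 n31524 = n32883 := rfl
theorem F75434 : act 0 n32883 = n31526 := d5_1 D32883 (iv D31526) D31524
theorem F75435 : act 1 n32883 = n32180 := d10_1 D32883 F72565 (iv D31642) (iv F65356) F70309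
theorem F75436 : act 2 n32883 = n32318 := d14_1 D32883 F73128 (iv F70308)
theorem F75437 : act 4 n32883 = n32176 := d19_1 D32883 (iv F75406) F75404
theorem F75438 : act 5 n32883 = n32783 := d22_2 F71200 D32883 (iv D32783) (iv F71198)
def n32884 : Q := act 5 n31526
theorem D32884 : act 5 n31526 = n32884 := rfl
theorem F75439 : act 0 n32884 = n32783 := d4_1 D32884 (iv F75438) F75434
theorem F75440 : act 1 n32884 = n32339 := d9_1 D32884 F73216 (iv F74132) (iv F74134) (iv F70311)
theorem F75441 : act 2 n32884 = n31924 := d13_1 D32884 (iv F75170) F75167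
theorem F75442 : act 3 n32884 = n31793 := d16_1 D32884 (iv F75399) F75400
theorem F75443 : act 4 n32884 = n31923 := d18_1 D32884 F75412 F75411
theorem F75444 : act 6 n32884 = n31785 := d20_2 D31526 D32884 F71200 D32883 F75438 (iv D32783) F69659
def n32885 : Q := act 1 n31532
theorem D32885 : act 1 n31532 = n32885 := rfl
theorem F75445 : act 2 n32885 = n32326 := d6_2 (iv F70333) D32885 (iv F74237) (iv D32596) F67372
theorem F75446 : act 4 n32885 = n31540 := d8_2 (iv F70334) D32885 (iv D31540)
def n32886 : Q := act 2 n31536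
theorem D32886 : act 2 n31536 = n32886 := rfl
theorem F75447 : act 0 n32886 = n31539 := d1_1 D32886 F70359 (iv F70348)
theorem F75448 : act 1 n32886 = n31537 := d6_1 D32886 (iv D31537) (iv D28794) (iv F61633) D31536
theorem F75449 : act 3 n32886 = n32648 := d11_2 (iv F70349) D32886 F74466 F68174 (iv F73049) F73050 F71935 F70217 (iv F70359) (iv F71301) F71300 F62763 (iv F70908) F70909 F70731
theorem F75450 : act 4 n32886 = n31545 := d12_2 (iv F70350) D32886 (iv D31545)
theorem F75451 : act 5 n32886 = n31538 := d13_2 (iv F70351) D32886 F70356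
theorem F75452 : act 6 n32886 = n32639 := d14_2 F70365 D32886 F74422
def n32887 : Q := act 1 n31539
theorem D32887 : act 1 n31539 = n32887 := rfl
theorem F75453 : act 0 n32887 = n32198 := d0_1 D32887 (iv D32198) F64307 F62878 F52465 D29141 (iv F70352) (iv F75448) F75447
theorem F75454 : act 2 n32887 = n32719 := d6_2 (iv F70359) D32887 (iv F75098) F75099 F70071
theorem F75455 : act 3 n32887 = n31846 := d7_2 F71301 D32887 F71391
theorem F75456 : act 5 n32887 = n31540 := d9_2 D31539 D32887 (iv D31540) (iv D28796) D28795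
theorem F75457 : act 6 n32887 = n31859 := d24_3 F67939 D31539 D32887 F71428 (iv D31762) (iv D29143) F52266 D25475 D29165 F68124 (iv D30838) (iv D27549) D27548 D30837
def n32888 : Q := act 6 n31539
theorem D32888 : act 6 n31539 = n32888 := rfl
theorem F75458 : act 0 n32888 = n32639 := d5_1 D32888 (iv F75452) F75447
theorem F75459 : act 1 n32888 = n31827 := d10_1 D32888 (iv F71470) F71468 (iv F75457) (iv D32887)
theorem F75460 : act 2 n32888 = n31542 := d14_1 D32888 (iv D31542) (iv F70359)
theorem F75461 : act 3 n32888 = n31835 := d17_1 D32888 (iv F71354) F71301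
theorem F75462 : act 5 n32888 = n32640 := d20_1 D32888 F74426 (iv F75451) F75452 F74423 F67939 D31539
def n32889 : Q := act 6 n31540
theorem D32889 : act 6 n31540 = n32889 := rfl
theorem F75463 : act 0 n32889 = n31762 := d5_1 D32889 (iv F71400) F71398
theorem F75464 : act 1 n32889 = n32866 := d10_1 D32889 F75358 (iv D32646) F68062 D31540
theorem F75465 : act 3 n32889 = n31878 := d17_1 D32889 F71496 (iv F70360)
theorem F75466 : act 5 n32889 = n32626 := d20_1 D32889 F74374 F72634 F71400 (iv F71428) (iv F75457) F75456
def n32890 : Q := act 1 n31542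
theorem D32890 : act 1 n31542 = n32890 := rfl
theorem F75467 : act 3 n32890 = n32807 := d7_2 F75371 D32890 (iv F75369)
theorem F75468 : act 5 n32890 = n32890 := d9_2 (iv F70363) D32890 (iv D32890) F70363 F70362
theorem F75469 : act 6 n32890 = n32806 := d10_2 D31542 D32890 F75083 (iv F70073) F70071
def n32891 : Q := act 6 n31545
theorem D32891 : act 6 n31545 = n32891 := rfl
theorem F75470 : act 2 n32891 = n31546 := d14_1 D32891 (iv D31546) D31545
theorem F75471 : act 3 n32891 = n32557 := d17_1 D32891 (iv D32557) (iv F70374)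
theorem F75472 : act 4 n32891 = n32639 := d19_1 D32891 (iv F75452) F75450
theorem F75473 : act 5 n32891 = n32497 := d22_2 (iv F70373) D32891 F73846 F70328
theorem F75474 : act 1 n32637 = n32891 := d24_14 (iv D32891) F70373 (iv F68283) (iv F74563) (iv D32672) F68206 (iv F70223) D32870 (iv F75378) (iv D32657) D32656 F74499 (iv D32638) D32637
def n32892 : Q := act 1 n31549
theorem D32892 : act 1 n31549 = n32892 := rfl
theorem F75475 : act 2 n32892 = n32842 := d6_2 (iv F70389) D32892 F75251 F70067 (iv F61659)
theorem F75476 : act 3 n32892 = n32120 := d7_2 F74068 D32892 (iv F74066)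
theorem F75477 : act 4 n32892 = n31733 := d8_2 F74307 D32892 (iv F74306)
theorem F75478 : act 5 n32892 = n31731 := d9_2 F73033 D32892 F71024 D32219 F73034
theorem F75479 : act 6 n32892 = n32637 := d10_2 D31549 D32892 F75474 (iv D32891) F70372
theorem F75480 : act 0 n32253 = n32892 := d5_3 F75479 F74414 (iv F72867)
def n32893 : Q := act 0 n31559
theorem D32893 : act 0 n31559 = n32893 := rfl
theorem F75481 : act 1 n32893 = n31737 := d0_2 D31559 D32893 (iv D31737) (iv D29118) (iv F62559) D31727 (iv F71014) (iv D31268) (iv F61716)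
theorem F75482 : act 2 n32893 = n32053 := d1_2 F72041 D32893 F72061
theorem F75483 : act 3 n32893 = n31560 := d2_2 (iv F70425) D32893 (iv D31560)
theorem F75484 : act 4 n32893 = n31741 := d3_2 (iv F70426) D32893 F71056
theorem F75485 : act 6 n32893 = n32851 := d5_2 (iv F70427) D32893 (iv D32851)
theorem F75486 : act 5 n32893 = n32051 := d22_0 F75299 (iv D32852) (iv F70427) D32893
def n32894 : Q := act 5 n31559
theorem D32894 : act 5 n31559 = n32894 := rfl
theorem F75487 : act 0 n32894 = n32051 := d4_1 D32894 (iv F75486) (iv D32893)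
theorem F75488 : act 2 n32894 = n32049 := d13_1 D32894 F72054 F72041
theorem F75489 : act 3 n32894 = n31561 := d16_1 D32894 (iv D31561) (iv F70425)
theorem F75490 : act 4 n32894 = n32764 := d18_1 D32894 (iv D32764) (iv F70426)
theorem F75491 : act 6 n32894 = n32261 := d20_2 (iv F70427) D32894 (iv F75293) (iv F75485) F75486 F75299 (iv D32852)
def n32895 : Q := act 1 n31561
theorem D32895 : act 1 n31561 = n32895 := rfl
theorem F75492 : act 2 n32895 = n31583 := d6_2 (iv F70431) D32895 (iv D31583) F61840 (iv F64375)
theorem F75493 : act 4 n32895 = n31564 := d8_2 (iv F70432) D32895 (iv D31564)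
theorem F75494 : act 5 n32895 = n31562 := d9_2 D31561 D32895 (iv D31562) (iv D28826) D28825
theorem F75495 : act 6 n32895 = n31585 := d10_2 (iv F70433) D32895 F70500 F61853 (iv F64912)
def n32896 : Q := act 0 n31562
theorem D32896 : act 0 n31562 = n32896 := rfl
theorem F75496 : act 1 n32896 = n32433 := d0_2 D31562 D32896 (iv F75242) (iv D32840) F70064 D31438 (iv F70066) F63461 (iv F61725)
theorem F75497 : act 2 n32896 = n32577 := d1_2 (iv F70434) D32896 F74147
theorem F75498 : act 3 n32896 = n32432 := d2_2 F74596 D32896 F74599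
theorem F75499 : act 4 n32896 = n31565 := d3_2 (iv F70435) D32896 (iv D31565)
def n32897 : Q := act 2 n31564
theorem D32897 : act 2 n31564 = n32897 := rfl
theorem F75500 : act 1 n32897 = n31581 := d6_1 D32897 F70493 (iv D29701) (iv F61731) D31564
theorem F75501 : act 4 n32897 = n31583 := d12_2 F75493 D32897 (iv F75492)
theorem F75502 : act 5 n32897 = n31566 := d13_2 (iv F70439) D32897 (iv D31566)
theorem F75503 : act 6 n32897 = n31582 := d14_2 (iv F70440) D32897 F70496
def n32898 : Q := act 1 n31565
theorem D32898 : act 1 n31565 = n32898 := rfl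
theorem F75504 : act 0 n32898 = n32745 := d0_1 D32898 F74848 F73828 F70438 (iv D31563) (iv D28827) (iv F50657) D28830 D31565
theorem F75505 : act 3 n32898 = n31750 := d7_2 F70776 D32898 F71085
theorem F75506 : act 4 n32898 = n32433 := d8_2 F75499 D32898 (iv F75496)
theorem F75507 : act 5 n32898 = n31743 := d9_2 (iv F70763) D32898 (iv D31743) (iv F62581) D31662
def n32899 : Q := act 2 n31565
theorem D32899 : act 2 n31565 = n32899 := rfl
theorem F75508 : act 0 n32899 = n31566 := d1_1 D32899 (iv D31566) D31565
theorem F75509 : act 4 n32899 = n32577 := d12_2 F75499 D32899 (iv F75497)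
theorem F75510 : act 6 n32899 = n32698 := d14_2 F75149 D32899 (iv F75147)
theorem F75511 : act 1 n32899 = n32576 := d23_2 (iv F70763) D32899 F74143 F70033 F65531 F54399 (iv F42492) F42494 F37417 (iv F48735) (iv F59560) (iv D28099) (iv F59555) F64397 (iv D25938) D25941 (iv F61731) D31564 (iv F70761)
theorem F75512 : act 3 n32701 = n32899 := d25_1 (iv F74656) (iv D32899) (iv F70776) (iv F75114) (iv D32814) (iv F73720) (iv D32466) F66530 F56015 (iv D22742) (iv F44781) F44780 F38069 (iv F44780) D26969 F56264 (iv F56015) (iv F66530) D32466 F74662 (iv F75115) F75114 F70776 D32899 F75511 F74145 F67289 F57191 F46027 (iv F46225) D27390 (iv F65794) F65793 F54525 (iv F65253) F65252 F60281 F49646 F38102 F25987 D20118 (iv F49595) D28297 (iv F65342) (iv F65346) (iv F65353) (iv F67932) (iv F73045) (iv F73046) (iv D30940) F58482 (iv F61619) F61618 F57340 (iv F67361) D32593 F74217 F70023 D31426 F70039 (iv F63691) (iv D29573) (iv F57062) F57061 F45924 F36140 F27190 (iv F27212) (iv F27368) F27369 (iv F27384) (iv F40478) D25256 (iv F60594) (iv F69620)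 (iv F69623) F68769
def n32900 : Q := act 3 n31566
theorem D32900 : act 3 n31566 = n32900 := rfl
theorem F75513 : act 0 n32900 = n32701 := d2_1 D32900 F75512 F75508
theorem F75514 : act 1 n32900 = n31568 := d7_1 D32900 (iv D31568) (iv F70441)
theorem F75515 : act 4 n32900 = n32703 := d15_2 (iv F70442) D32900 (iv F75115) F75116 (iv F69987)
theorem F75516 : act 6 n32699 = n32900 := d19_0 F75515 (iv D32703) (iv F74651)
def n32901 : Q := act 6 n31566
theorem D32901 : act 6 n31566 = n32901 := rfl
theorem F75517 : act 0 n32901 = n32698 := d5_1 D32901 (iv F75510) F75508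
theorem F75518 : act 2 n32901 = n31567 := d14_1 D32901 (iv D31567) D31566
theorem F75519 : act 3 n32901 = n32699 := d17_1 D32901 F75516 (iv D32900)
theorem F75520 : act 4 n32901 = n32832 := d19_1 D32901 (iv D32832) (iv F70442)
def n32902 : Q := act 6 n31568
theorem D32902 : act 6 n31568 = n32902 := rfl
theorem F75521 : act 0 n32902 = n32831 := d5_1 D32902 (iv D32831) (iv F70445)
theorem F75522 : act 2 n32902 = n32435 := d14_1 D32902 (iv F73708) (iv F73709)
theorem F75523 : act 3 n32902 = n31569 := d17_1 D32902 (iv D31569) D31568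
theorem F75524 : act 4 n32902 = n32439 := d19_1 D32902 (iv F73719) F73717
def n32903 : Q := act 1 n31569
theorem D32903 : act 1 n31569 = n32903 := rfl
theorem F75525 : act 2 n32903 = n32762 := d6_2 (iv F70448) D32903 (iv D32762) F69569 (iv F61772)
theorem F75526 : act 4 n32903 = n32833 := d8_2 (iv F70449) D32903 (iv D32833)
theorem F75527 : act 0 n32781 = n32903 := d3_3 F75526 F75207 (iv F74990)
def n32904 : Q := act 0 n31579
theorem D32904 : act 0 n31579 = n32904 := rfl
theorem F75528 : act 1 n32904 = n31781 := d0_2 D31579 D32904 (iv D31781) (iv D29169) (iv F62644) D31771 (iv F71154) (iv D31297) (iv F61825)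
theorem F75529 : act 2 n32904 = n31926 := d1_2 F71637 D32904 F71657
theorem F75530 : act 3 n32904 = n31580 := d2_2 (iv F70487) D32904 (iv D31580)
theorem F75531 : act 4 n32904 = n31785 := d3_2 (iv F70488) D32904 F71198
theorem F75532 : act 5 n32904 = n32876 := d4_2 (iv F70489) D32904 (iv D32876)
theorem F75533 : act 6 n31923 = n32904 := d22_3 F70489 D32877 (iv F75412) (iv D32904)
def n32905 : Q := act 6 n31579
theorem D32905 : act 6 n31579 = n32905 := rfl
theorem F75534 : act 0 n32905 = n31923 := d5_1 D32905 F75533 (iv D32904)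
theorem F75535 : act 2 n32905 = n31921 := d14_1 D32905 F71650 F71637
theorem F75536 : act 3 n32905 = n31581 := d17_1 D32905 (iv D31581) (iv F70487)
theorem F75537 : act 4 n32905 = n32783 := d19_1 D32905 (iv D32783) (iv F70488)
theorem F75538 : act 5 n32905 = n32176 := d20_1 D32905 (iv F75406) (iv F75532) (iv F75533) F75412 (iv D32877) (iv F70489)
def n32906 : Q := act 0 n31582
theorem D32906 : act 0 n31582 = n32906 := rfl
theorem F75539 : act 1 n32906 = n32446 := d0_2 D31582 D32906 F75186 (iv D32828) F69951 D31403 (iv F69953) F63137 F61834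
theorem F75540 : act 2 n32906 = n32592 := d1_2 (iv F70496) D32906 F74213
theorem F75541 : act 3 n32906 = n32445 := d2_2 F74642 D32906 F74645
theorem F75542 : act 4 n32906 = n31584 := d3_2 (iv F70497) D32906 (iv D31584)
theorem F75543 : act 5 n32906 = n32901 := d4_2 F74650 D32906 F75517
def n32907 : Q := act 1 n31584
theorem D32907 : act 1 n31584 = n32907 := rfl
theorem F75544 : act 0 n32907 = n32748 := d0_1 D32907 F74858 F73832 F70506 (iv D31587) (iv D28858) F50735 D28857 D31584
theorem F75545 : act 3 n32907 = n31794 := d7_2 F70819 D32907 F71227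
theorem F75546 : act 4 n32907 = n32446 := d8_2 F75542 D32907 (iv F75539)
theorem F75547 : act 6 n32907 = n31787 := d10_2 (iv F70804) D32907 (iv D31787) F62673 D31673
def n32908 : Q := act 2 n31584
theorem D32908 : act 2 n31584 = n32908 := rfl
theorem F75548 : act 0 n32908 = n31585 := d1_1 D32908 (iv D31585) D31584
theorem F75549 : act 4 n32908 = n32592 := d12_2 F75542 D32908 (iv F75540)
theorem F75550 : act 5 n32908 = n32684 := d13_2 F75206 D32908 (iv F75204)
theorem F75551 : act 1 n32908 = n32591 := d23_2 F75206 D32908 F74209 (iv F74208) F74206 (iv F73236) (iv F73239) (iv D32347) (iv F73218) F73217 F69295 (iv D28332) (iv F60219) (iv F66692) (iv F69469) D32756 F74893 (iv F70502) (iv F75203)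
theorem F75552 : act 3 n32687 = n32908 := d25_1 (iv F74610) (iv D32908) (iv F70819) (iv F75056) (iv D32801) (iv F73754) (iv D32477) F66563 F56073 (iv D22743) (iv F44786) F44785 F38076 (iv F44785) D26970 F56266 (iv F56073) (iv F66563) D32477 (iv F74615) (iv F75057) F75056 F70819 D32908 F75551 F74211 F67348 F57266 F46061 (iv F46394) (iv F57507) (iv F65848) F65847 F54556 (iv F65533) F65532 F60307 F49658 F38118 (iv F35286) D20120 (iv F49606) D28302 (iv F65625) (iv F65629) (iv F65638) (iv F68120) (iv F73192) (iv F73193) (iv D30944) F58578 (iv F61469) F61468 (iv F57580) (iv F67629) D32612 F74300 F69907 D31389 (iv F69918) (iv F63336) (iv D29433) (iv F57032) F57031 F45902 F35995 F27345 (iv F27369) F27368 F27212 (iv F27226) (iv F40243) D25208 (iv F60756) (iv F69698) (iv F69701) F68621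
def n32909 : Q := act 3 n31585
theorem D32909 : act 3 n31585 = n32909 := rfl
theorem F75553 : act 0 n32909 = n32687 := d2_1 D32909 F75552 F75548
theorem F75554 : act 1 n32909 = n31588 := d7_1 D32909 (iv D31588) (iv F70500)
theorem F75555 : act 4 n32909 = n32689 := d15_2 (iv F70501) D32909 (iv F75057) F75058 (iv F69864)
theorem F75556 : act 5 n32685 = n32909 := d18_0 F75555 (iv D32689) (iv F74605)
def n32910 : Q := act 5 n31585
theorem D32910 : act 5 n31585 = n32910 := rfl
theorem F75557 : act 0 n32910 = n32684 := d4_1 D32910 (iv F75550) F75548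
theorem F75558 : act 2 n32910 = n31586 := d13_1 D32910 (iv D31586) D31585
theorem F75559 : act 3 n32910 = n32685 := d16_1 D32910 F75556 (iv D32909)
theorem F75560 : act 4 n32910 = n32820 := d18_1 D32910 (iv D32820) (iv F70501)
theorem F75561 : act 6 n32910 = n32896 := d22_3 (iv F75494) F75495 D32910 (iv D32896)
def n32911 : Q := act 5 n31588
theorem D32911 : act 5 n31588 = n32911 := rfl
theorem F75562 : act 0 n32911 = n32819 := d4_1 D32911 (iv D32819) (iv F70507)
theorem F75563 : act 2 n32911 = n32448 := d13_1 D32911 (iv F73694) (iv F73696)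
theorem F75564 : act 3 n32911 = n31589 := d16_1 D32911 (iv D31589) D31588
theorem F75565 : act 4 n32911 = n32452 := d18_1 D32911 (iv F73752) F73751
def n32912 : Q := act 1 n31589
theorem D32912 : act 1 n31589 = n32912 := rfl
theorem F75566 : act 2 n32912 = n32781 := d6_2 (iv F70510) D32912 (iv D32781) F69647 (iv F61854)
theorem F75567 : act 4 n32912 = n32821 := d8_2 (iv F70511) D32912 (iv D32821)
theorem F75568 : act 0 n32762 = n32912 := d3_3 F75567 F75150 (iv F74922)
def n32913 : Q := act 1 n31597
theorem D32913 : act 1 n31597 = n32913 := rfl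
theorem F75569 : act 2 n32913 = n32467 := d6_2 D31597 D32913 (iv D32467) (iv D30425) (iv F61998)
theorem F75570 : act 3 n32913 = n32517 := d7_2 (iv F70542) D32913 (iv D32517)
theorem F75571 : act 5 n32913 = n32913 := d9_2 F73263 D32913 (iv D32913) (iv F73263) F73260
def n32914 : Q := act 2 n31599
theorem D32914 : act 2 n31599 = n32914 := rfl
theorem F75572 : act 0 n32914 = n31602 := d1_1 D32914 (iv D31602) (iv F70546)
theorem F75573 : act 1 n32914 = n32264 := d6_1 D32914 F72905 (iv F66545) F66546 (iv F70547)
theorem F75574 : act 3 n32914 = n32264 := d11_2 D31599 D32914 F72905 F64934 F53914 F51355 (iv F51376) D28906 D31602 F70560 F64936 F53905 (iv F53922) F53923 (iv F62002)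
theorem F75575 : act 4 n32914 = n32619 := d12_2 (iv F70548) D32914 F74337
theorem F75576 : act 5 n32914 = n32263 := d13_2 (iv F70549) D32914 F72901
theorem F75577 : act 6 n32914 = n32911 := d14_2 F73662 D32914 F75563
def n32915 : Q := act 1 n31608
theorem D32915 : act 1 n31608 = n32915 := rfl
theorem F75578 : act 2 n32915 = n32478 := d6_2 D31608 D32915 (iv D32478) (iv D30436) (iv F62045)
theorem F75579 : act 3 n32915 = n32508 := d7_2 (iv F70585) D32915 (iv D32508)
theorem F75580 : act 6 n32915 = n32915 := d10_2 F73111 D32915 (iv D32915) (iv F73111) F73108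
def n32916 : Q := act 2 n31610
theorem D32916 : act 2 n31610 = n32916 := rfl
theorem F75581 : act 0 n32916 = n31612 := d1_1 D32916 (iv D31612) (iv F70589)
theorem F75582 : act 1 n32916 = n32179 := d6_1 D32916 F72560 (iv F66493) F66494 (iv F70590)
theorem F75583 : act 3 n32916 = n32179 := d11_2 D31610 D32916 F72560 F64170 F53322 F51464 (iv F51476) D28919 D31612 F70598 F64172 F53313 (iv F53330) F53331 (iv F62049)
theorem F75584 : act 4 n32916 = n32605 := d12_2 (iv F70591) D32916 F74272
theorem F75585 : act 5 n32916 = n32902 := d13_2 F73620 D32916 F75522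
theorem F75586 : act 6 n32916 = n32178 := d14_2 (iv F70592) D32916 F72556
def n32917 : Q := act 2 n31621
theorem D32917 : act 2 n31621 = n32917 := rfl
theorem F75587 : act 0 n32917 = n31622 := d1_1 D32917 (iv D31622) D31621
theorem F75588 : act 1 n32917 = n32541 := d6_1 D32917 (iv D32541) (iv F73985) (iv F75137) F75136
theorem F75589 : act 4 n32917 = n32887 := d12_2 F74737 D32917 F75454
theorem F75590 : act 5 n32917 = n32885 := d13_2 F73163 D32917 F75445
def n32918 : Q := act 5 n31622
theorem D32918 : act 5 n31622 = n32918 := rfl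
theorem F75591 : act 0 n32918 = n32885 := d4_1 D32918 (iv F75590) F75587
theorem F75592 : act 1 n32918 = n32295 := d9_1 D32918 (iv D32295) F65204 D32195 (iv F72626)
theorem F75593 : act 2 n32918 = n31623 := d13_1 D32918 (iv D31623) D31622
theorem F75594 : act 4 n32918 = n31848 := d18_1 D32918 (iv F72634) F72633
def n32919 : Q := act 6 n31623
theorem D32919 : act 6 n31623 = n32919 := rfl
theorem F75595 : act 0 n32919 = n32529 := d5_1 D32919 F73954 F73161
theorem F75596 : act 1 n32919 = n32751 := d10_1 D32919 F74872 F70322 (iv F70744) F70740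
theorem F75597 : act 3 n32919 = n31625 := d17_1 D32919 (iv D31625) (iv F70636)
theorem F75598 : act 4 n32919 = n32304 := d19_1 D32919 (iv D32304) (iv F70637)
theorem F75599 : act 5 n32919 = n32527 := d20_1 D32919 F73950 (iv F73163) (iv F73954) (iv D32529) F67087 D31623
def n32920 : Q := act 2 n31630
theorem D32920 : act 2 n31630 = n32920 := rfl
theorem F75600 : act 0 n32920 = n31631 := d1_1 D32920 (iv D31631) D31630
theorem F75601 : act 1 n32920 = n32548 := d6_1 D32920 (iv D32548) (iv F74010) (iv F75079) F75078
theorem F75602 : act 4 n32920 = n32864 := d12_2 F74701 D32920 F75347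
theorem F75603 : act 6 n32920 = n32862 := d14_2 F73309 D32920 F75338
def n32921 : Q := act 6 n31631
theorem D32921 : act 6 n31631 = n32921 := rfl
theorem F75604 : act 0 n32921 = n32862 := d5_1 D32921 (iv F75603) F75600
theorem F75605 : act 1 n32921 = n32221 := d10_1 D32921 (iv D32221) (iv F65040) D32272 (iv F72945)
theorem F75606 : act 2 n32921 = n31632 := d14_1 D32921 (iv D31632) D31631
theorem F75607 : act 4 n32921 = n31806 := d19_1 D32921 (iv F72955) F72954
def n32922 : Q := act 5 n31632
theorem D32922 : act 5 n31632 = n32922 := rfl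
theorem F75608 : act 0 n32922 = n32536 := d4_1 D32922 F73973 F73307
theorem F75609 : act 1 n32922 = n32757 := d9_1 D32922 F74899 F70170 (iv F70785) F70781
theorem F75610 : act 3 n32922 = n31634 := d16_1 D32922 (iv D31634) (iv F70661)
theorem F75611 : act 4 n32922 = n32342 := d18_1 D32922 (iv D32342) (iv F70662)
theorem F75612 : act 6 n32922 = n32534 := d20_2 D31632 D32922 F73969 (iv F73309) (iv F73973) (iv D32536) F67101
def n32923 : Q := act 3 n31648
theorem D32923 : act 3 n31648 = n32923 := rfl
theorem F75613 : act 0 n32923 = n31649 := d2_1 D32923 (iv D31649) (iv F70706)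
theorem F75614 : act 1 n32923 = n31691 := d7_1 D32923 (iv D31691) (iv F70707)
theorem F75615 : act 2 n32923 = n31984 := d11_1 D32923 F71817 (iv D31652) (iv D29003) (iv D25339) (iv F51987) D28999 D31649 F70712 (iv F64326) (iv F64384) F63425 (iv D29002) (iv F62297) D31648
theorem F75616 : act 5 n32923 = n32923 := d16_2 F70709 D32923 (iv D32923)
def n32924 : Q := act 4 n31649
theorem D32924 : act 4 n31649 = n32924 := rfl
theorem F75617 : act 1 n32924 = n32924 := d8_1 D32924 (iv D32924) F70710
theorem F75618 : act 2 n32924 = n31985 := d12_1 D32924 (iv D31985) (iv F70712)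
theorem F75619 : act 3 n32924 = n32924 := d15_1 D32924 (iv D32924) (iv D31649) F62302 D31649
theorem F75620 : act 5 n32924 = n32924 := d18_2 F70711 D32924 (iv D32924)
def n32925 : Q := act 3 n31650
theorem D32925 : act 3 n31650 = n32925 := rfl
theorem F75621 : act 0 n32925 = n31651 := d2_1 D32925 (iv D31651) (iv F70713)
theorem F75622 : act 1 n32925 = n31689 := d7_1 D32925 (iv D31689) (iv F70714)
theorem F75623 : act 2 n32925 = n32098 := d11_1 D32925 F72218 (iv D31653) (iv D29005) (iv D25342) (iv F51990) D29001 D31651 F70719 (iv F65067) (iv F65070) F63106 (iv D29004) (iv F62305) D31650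
theorem F75624 : act 6 n32925 = n32925 := d17_2 F70716 D32925 (iv D32925)
def n32926 : Q := act 4 n31651
theorem D32926 : act 4 n31651 = n32926 := rfl
theorem F75625 : act 1 n32926 = n32926 := d8_1 D32926 (iv D32926) F70717
theorem F75626 : act 2 n32926 = n32099 := d12_1 D32926 (iv D32099) (iv F70719)
theorem F75627 : act 3 n32926 = n32926 := d15_1 D32926 (iv D32926) (iv D31651) F62309 D31651
theorem F75628 : act 6 n32926 = n32926 := d19_2 F70718 D32926 (iv D32926)
def n32927 : Q := act 1 n31660
theorem D32927 : act 1 n31660 = n32927 := rfl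
theorem F75629 : act 0 n32927 = n32895 := d0_1 D32927 (iv D32895) (iv F75303) (iv F75308) F73328 (iv D31656) F62336 D29021 D31660
theorem F75630 : act 2 n32927 = n31673 := d6_2 (iv F70755) D32927 (iv D31673) (iv F68070) (iv F68073)
theorem F75631 : act 4 n32927 = n31662 := d8_2 (iv F70756) D32927 (iv D31662)
theorem F75632 : act 5 n32927 = n32896 := d9_2 F71054 D32927 F75496 (iv F74293) F74291
theorem F75633 : act 6 n32927 = n32908 := d10_2 (iv F70757) D32927 F75551 F74212 (iv D32232)
def n32928 : Q := act 2 n31662
theorem D32928 : act 2 n31662 = n32928 := rfl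
theorem F75634 : act 0 n32928 = n32897 := d1_1 D32928 (iv D32897) (iv F70761)
theorem F75635 : act 1 n32928 = n31671 := d6_1 D32928 F70796 F67890 F67887 D31662
theorem F75636 : act 4 n32928 = n31673 := d12_2 F75631 D32928 (iv F75630)
theorem F75637 : act 5 n32928 = n32899 := d13_2 F70763 D32928 (iv D32899)
theorem F75638 : act 6 n32928 = n32906 := d14_2 F74216 D32928 F75540
def n32929 : Q := act 1 n31688
theorem D32929 : act 1 n31688 = n32929 := rfl
theorem F75639 : act 0 n32929 = n32929 := d0_1 D32929 (iv D32929) F70870 (iv F70714) F70713 F62308 (iv F70713) F70714 (iv F70870)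
theorem F75640 : act 4 n32929 = n32929 := d8_2 F70871 D32929 (iv D32929)
theorem F75641 : act 3 n32929 = n32072 := d25_6 (iv F61477) F62452 (iv D29057) (iv F62418) D31688 D32929 (iv D32072) (iv D29519) F52888 (iv D25672) D25673 D29380 F63230 F54117 F42470 F42450 (iv F35036) D23329 D27476 (iv F64213) F64215 F60506 (iv F60297) (iv D26294) F42273 D21805 F42279 (iv F30365) (iv F35945) F35944 (iv F35928) (iv F46506) (iv F57837) (iv F59952) F59951 (iv D27125) (iv F56752) (iv F66990) F66991 (iv F64565) (iv D29832) F64521 (iv D29819) F53577 (iv F53449) F53448 D26092 D29851 (iv F64648) D31738 (iv F71375) F71378 F62840 F52438 F41200 (iv F41205) D25553 (iv F62863) D31846 (iv F75455) F75454 (iv F75098) (iv D32810) (iv D31346) (iv D28548) (iv D24683) (iv D20288) (iv F38461) (iv F38621) F38622 F26267 D15080 F26270 (iv F20530) (iv F26314) (iv F38709) D24846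
def n32930 : Q := act 3 n31688
theorem D32930 : act 3 n31688 = n32930 := rfl
theorem F75642 : act 0 n32930 = n31689 := d2_1 D32930 (iv D31689) (iv F70870)
theorem F75643 : act 1 n32930 = n32072 := d7_1 D32930 (iv F75641) (iv D32929)
theorem F75644 : act 2 n32930 = n32074 := d11_1 D32930 F72131 F64455 (iv D29059) (iv D25405) (iv F52142) D29053 D31689 F70875 F64482 (iv F61476) F62452 (iv D29057) (iv F62418) D31688
theorem F75645 : act 5 n32930 = n31689 := d16_2 (iv F70872) D32930 (iv D31689)
theorem F75646 : act 6 n32930 = n32923 := d17_2 (iv F70873) D32930 (iv D32923)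
def n32931 : Q := act 4 n31689
theorem D32931 : act 4 n31689 = n32931 := rfl
theorem F75647 : act 2 n32931 = n32216 := d12_1 D32931 F72702 (iv F70875)
theorem F75648 : act 3 n32931 = n32931 := d15_1 D32931 (iv D32931) (iv D31689) F62422 D31689
theorem F75649 : act 6 n32931 = n32924 := d19_2 (iv F70874) D32931 (iv D32924)
def n32932 : Q := act 1 n31690
theorem D32932 : act 1 n31690 = n32932 := rfl
theorem F75650 : act 0 n32932 = n32932 := d0_1 D32932 (iv D32932) F70876 (iv F70707) F70706 F62301 (iv F70706) F70707 (iv F70876)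
theorem F75651 : act 2 n32932 = n32929 := d6_2 D31690 D32932 (iv D32929) (iv D31688) (iv F62424)
theorem F75652 : act 4 n32932 = n32932 := d8_2 F70877 D32932 (iv D32932)
theorem F75653 : act 5 n32932 = n32929 := d9_2 (iv F70878) D32932 (iv D32929) F70872 (iv F70714)
theorem F75654 : act 6 n32932 = n32929 := d10_2 (iv F70879) D32932 (iv D32929) F70873 F70707
theorem F75655 : act 3 n32932 = n31953 := d25_6 (iv F61631) F62478 (iv D29068) (iv F62425) D31690 D32932 (iv D31953) (iv D29379) (iv F52888) (iv D25776) D25777 D29520 F63562 F53524 F42346 F42326 (iv F33743) D23258 D27394 (iv F64978) F64979 F60427 F60430 (iv D26370) F42392 D21857 F42400 (iv F30490) (iv F36086) F36085 (iv F36062) (iv F46629) (iv F58013) (iv F60035) F60034 (iv D27132) (iv F56770) (iv F67007) F67008 (iv F63752) (iv D29592) F63698 (iv D29575) F52969 D25816 F52980 D25852 D29615 (iv F63840) D31782 (iv F71250) F71253 F62695 F52312 F41116 (iv F41119) D25495 (iv F62710) D31804 (iv F75348) F75347 (iv F75040) (iv D32797) (iv D31320) (iv D28523) (iv D24661) (iv D20268) (iv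 F38415) (iv F38540) F38541 F26210 D15053 F26213 (iv F20549) (iv F26354) (iv F38772) D24897
def n32933 : Q := act 3 n31690
theorem D32933 : act 3 n31690 = n32933 := rfl
theorem F75656 : act 0 n32933 = n31691 := d2_1 D32933 (iv D31691) (iv F70876)
theorem F75657 : act 1 n32933 = n31953 := d7_1 D32933 (iv F75655) (iv D32932)
theorem F75658 : act 2 n32933 = n31955 := d11_1 D32933 F71736 F65155 (iv D29070) (iv D25412) (iv F52145) D29055 D31691 F70881 F65180 (iv F61630) F62478 (iv D29068) (iv F62425) D31690
theorem F75659 : act 5 n32933 = n32925 := d16_2 (iv F70878) D32933 (iv D32925)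
theorem F75660 : act 6 n32933 = n31691 := d17_2 (iv F70879) D32933 (iv D31691)
def n32934 : Q := act 4 n31691
theorem D32934 : act 4 n31691 = n32934 := rfl
theorem F75661 : act 2 n32934 = n32290 := d12_1 D32934 F73017 (iv F70881)
theorem F75662 : act 3 n32934 = n32934 := d15_1 D32934 (iv D32934) (iv D31691) F62429 D31691
theorem F75663 : act 5 n32934 = n32926 := d18_2 (iv F70880) D32934 (iv D32926)
def n32935 : Q := act 1 n31708
theorem D32935 : act 1 n31708 = n32935 := rfl
theorem F75664 : act 0 n32935 = n32112 := d0_1 D32935 F72274 F71092 F62591 F62526 (iv D29081) F52188 D29078 D31708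
theorem F75665 : act 3 n32935 = n32688 := d7_2 (iv F70950) D32935 (iv D32688)
theorem F75666 : act 6 n32935 = n31945 := d10_2 F73623 D32935 (iv F71706) F70904 (iv F73622)
theorem F75667 : act 2 n31946 = n32935 := d23_1 (iv F71808) (iv D32935) (iv D31708) D31709 F70952 (iv D31578) (iv F61815) (iv D28849) (iv F53735) (iv F56967) F56966 D30463 F66675 F57202 F57198 D27277 F57204 D29535 (iv F71805)
def n32936 : Q := act 1 n31716
theorem D32936 : act 1 n31716 = n32936 := rfl
theorem F75668 : act 2 n32936 = n32922 := d6_2 (iv F70978) D32936 F75609 F74901 F69908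
theorem F75669 : act 4 n32936 = n31717 := d8_2 (iv F70979) D32936 (iv D31717)
theorem F75670 : act 5 n32936 = n32921 := d9_2 D31716 D32936 F75605 F72723 F70230
def n32937 : Q := act 2 n31727
theorem D32937 : act 2 n31727 = n32937 := rfl
theorem F75671 : act 0 n32937 = n32765 := d1_1 D32937 (iv D32765) F71014
theorem F75672 : act 3 n32937 = n31728 := d11_2 (iv F71012) D32937 (iv D31728) F62563 (iv F60493) (iv F69538) (iv F70394) F70395 D32765 F74931 (iv D31270) F63960 (iv F64747) F64748 D31572
theorem F75673 : act 4 n32937 = n31728 := d12_2 (iv F71013) D32937 (iv D31728)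
theorem F75674 : act 6 n32937 = n32771 := d14_2 F71015 D32937 (iv D32771)
def n32938 : Q := act 1 n31735
theorem D32938 : act 1 n31735 = n32938 := rfl
theorem F75675 : act 4 n32938 = n31736 := d8_2 (iv F71037) D32938 (iv D31736)
theorem F75676 : act 5 n32938 = n32273 := d9_2 (iv F71038) D32938 (iv D32273) (iv F71287) F71285
def n32939 : Q := act 2 n31736
theorem D32939 : act 2 n31736 = n32939 := rfl
theorem F75677 : act 1 n32939 = n31745 := d6_1 D32939 (iv D31745) (iv D29123) (iv F62570) D31736
theorem F75678 : act 5 n32939 = n32276 := d13_2 (iv F71040) D32939 (iv D32276)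
def n32940 : Q := act 2 n31740
theorem D32940 : act 2 n31740 = n32940 := rfl
theorem F75679 : act 0 n32940 = n32310 := d1_1 D32940 (iv F74917) (iv F74921)
theorem F75680 : act 3 n32940 = n31857 := d11_2 F74298 D32940 (iv D31857) F62890 D30264 D32403 F73470 (iv F74918) F74917 (iv F73347) F73346 F71420 (iv F65986) (iv F67623) (iv F74297)
theorem F75681 : act 4 n32940 = n31745 := d12_2 (iv F71055) D32940 (iv D31745)
theorem F75682 : act 6 n32940 = n32647 := d14_2 (iv F74294) D32940 F74461
theorem F75683 : act 5 n32940 = n32514 := d24_1 (iv F75682) (iv D32514) (iv D30532) (iv D27088) (iv F46617) (iv F57980) D30855 (iv F68001) (iv D28103) D28102 (iv F68084) (iv D30877) D30876 D32647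
def n32941 : Q := act 5 n31740
theorem D32941 : act 5 n31740 = n32941 := rfl
theorem F75684 : act 1 n32941 = n32515 := d9_1 D32941 F73910 (iv F69091) (iv F62576) D31740
theorem F75685 : act 2 n32941 = n32514 := d13_1 D32941 (iv F75683) (iv D32940)
theorem F75686 : act 4 n32941 = n31746 := d18_1 D32941 (iv D31746) (iv F71055)
theorem F75687 : act 6 n32941 = n32840 := d22_1 D32941 F75241 (iv F74920) (iv F74921)
def n32942 : Q := act 2 n31743
theorem D32942 : act 2 n31743 = n32942 := rfl
theorem F75688 : act 0 n32942 = n32743 := d1_1 D32942 (iv D32743) (iv F71065)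
theorem F75689 : act 1 n32942 = n32556 := d6_1 D32942 (iv D32556) (iv F71060) F71061 D31743
theorem F75690 : act 3 n32942 = n32917 := d11_2 (iv F71066) D32942 (iv D32917) F70635 (iv F65377) F69321 F69319 D31203 D32743 F74842 (iv D31622) F62211 D28964 D31624 F70641
theorem F75691 : act 4 n32942 = n32647 := d12_2 F74292 D32942 F74461
theorem F75692 : act 6 n32942 = n31745 := d14_2 (iv F71067) D32942 (iv D31745)
def n32943 : Q := act 2 n31744
theorem D32943 : act 2 n31744 = n32943 := rfl
theorem F75693 : act 0 n32943 = n31745 := d1_1 D32943 (iv D31745) D31744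
theorem F75694 : act 1 n32943 = n32308 := d6_1 D32943 F73091 F68618 (iv F69098) F71070
theorem F75695 : act 4 n32943 = n32310 := d12_2 F74919 D32943 (iv F74917)
theorem F75696 : act 6 n32943 = n32743 := d14_2 (iv F71069) D32943 (iv D32743)
theorem F75697 : act 3 n32943 = n32528 := d21_1 D32943 (iv D32528) F67086 (iv F57059) F62590 (iv D29127) (iv F62582) D31744
def n32944 : Q := act 5 n31744
theorem D32944 : act 5 n31744 = n32944 := rfl
theorem F75698 : act 0 n32944 = n31746 := d4_1 D32944 (iv D31746) D31744
theorem F75699 : act 3 n32944 = n31752 := d16_1 D32944 (iv D31752) (iv F71068)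
theorem F75700 : act 6 n32944 = n32898 := d20_2 (iv F71069) D32944 F75507 F71067 D31746 (iv F74850) (iv D32745)
def n32945 : Q := act 3 n31745
theorem D32945 : act 3 n31745 = n32945 := rfl
theorem F75701 : act 0 n32945 = n32528 := d2_1 D32945 (iv F75697) F75693
theorem F75702 : act 2 n32945 = n32527 := d11_1 D32945 F73949 (iv F67158) F71091 (iv D31751) (iv F71068) D32943 F75697 (iv D32528) F67086 (iv F57059) F62590 (iv D29127) (iv F62582) D31745
theorem F75703 : act 4 n32945 = n31859 := d15_2 F75681 D32945 (iv D31859) (iv F71424) (iv F75680)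
theorem F75704 : act 6 n32945 = n32917 := d17_2 F75692 D32945 (iv F75690)
def n32946 : Q := act 5 n31745
theorem D32946 : act 5 n31745 = n32946 := rfl
theorem F75705 : act 1 n32946 = n32277 := d9_1 D32946 (iv D32277) (iv F72956) (iv F75678) F75677
theorem F75706 : act 2 n32946 = n31746 := d13_1 D32946 (iv D31746) D31745
theorem F75707 : act 4 n32946 = n32514 := d18_1 D32946 (iv F75683) F75681
def n32947 : Q := act 6 n31747
theorem D32947 : act 6 n31747 = n32947 := rfl
theorem F75708 : act 0 n32947 = n32850 := d5_1 D32947 F75286 F71076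
theorem F75709 : act 1 n32947 = n32584 := d10_1 D32947 (iv F74181) D32801 F75060 (iv F71073)
theorem F75710 : act 2 n32947 = n31749 := d14_1 D32947 (iv D31749) D31747
theorem F75711 : act 3 n32947 = n32857 := d17_1 D32947 F75318 F74928
theorem F75712 : act 4 n32947 = n32799 := d19_1 D32947 F75051 (iv F71074)
theorem F75713 : act 5 n32947 = n31749 := d20_1 D32947 (iv D31749) D31748 (iv F75286) (iv F75288) (iv F70412) F71075
def n32948 : Q := act 1 n31754
theorem D32948 : act 1 n31754 = n32948 := rfl
theorem F75714 : act 0 n32948 = n32005 := d0_1 D32948 (iv F71887) F71234 F62683 F62612 (iv D29131) (iv F52244) D29132 D31754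
theorem F75715 : act 3 n32948 = n32702 := d7_2 (iv F71099) D32948 (iv D32702)
theorem F75716 : act 5 n32948 = n32066 := d9_2 F73665 D32948 F72100 F70938 (iv F73664)
theorem F75717 : act 2 n32004 = n32948 := d13_3 F75716 (iv D32066) (iv F71885)
def n32949 : Q := act 1 n31761
theorem D32949 : act 1 n31761 = n32949 := rfl
theorem F75718 : act 2 n32949 = n32919 := d6_2 (iv F71123) D32949 F75596 F74873 F70029
theorem F75719 : act 3 n32949 = n32946 := d7_2 F72960 D32949 F75705
theorem F75720 : act 4 n32949 = n31762 := d8_2 (iv F71124) D32949 (iv D31762)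
theorem F75721 : act 6 n32949 = n32918 := d10_2 D31761 D32949 F75592 F73042 F70380
theorem F75722 : act 5 n32945 = n32949 := d24_1 (iv F75704) (iv D32949) (iv D31761) F62617 (iv F62657) D31775 (iv F72498) (iv D32162) F64079 D30836 (iv F73844) F73846 (iv F73990) (iv F75588)
def n32950 : Q := act 2 n31771
theorem D32950 : act 2 n31771 = n32950 := rfl
theorem F75723 : act 0 n32950 = n32784 := d1_1 D32950 (iv D32784) F71154
theorem F75724 : act 3 n32950 = n31772 := d11_2 (iv F71152) D32950 (iv D31772) F62648 (iv F60414) (iv F69440) (iv F70454) F70455 D32784 F74999 (iv D31299) F62654 (iv F63952) F63953 D31552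
theorem F75725 : act 4 n32950 = n31772 := d12_2 (iv F71153) D32950 (iv D31772)
theorem F75726 : act 5 n32950 = n32776 := d13_2 F71155 D32950 F74972
def n32951 : Q := act 1 n31779
theorem D32951 : act 1 n31779 = n32951 := rfl
theorem F75727 : act 4 n32951 = n31780 := d8_2 (iv F71178) D32951 (iv D31780)
theorem F75728 : act 6 n32951 = n32194 := d10_2 (iv F71179) D32951 (iv D32194) (iv F71416) F71413
theorem F75729 : act 0 n32951 = n32938 := d23_3 D29170 (iv F71177) D32951 F75676 F72946 (iv D31872) F62955 D30526 F66901 D30527 F66908 F59039 D28498 (iv F69677) (iv F74971) (iv F75726) (iv D32950) (iv D31771) F62644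
def n32952 : Q := act 2 n31780
theorem D32952 : act 2 n31780 = n32952 := rfl
theorem F75730 : act 0 n32952 = n32939 := d1_1 D32952 (iv D32939) F71182
theorem F75731 : act 1 n32952 = n31789 := d6_1 D32952 (iv D31789) (iv D29174) (iv F62662) D31780
theorem F75732 : act 6 n32952 = n32196 := d14_2 (iv F71181) D32952 (iv D32196)
def n32953 : Q := act 2 n31784
theorem D32953 : act 2 n31784 = n32953 := rfl
theorem F75733 : act 0 n32953 = n32348 := d1_1 D32953 (iv F74985) F74989
theorem F75734 : act 3 n32953 = n31815 := d11_2 (iv F74256) D32953 (iv D31815) F62737 D30251 D32401 F73460 (iv F74986) F74985 (iv F73408) F73407 F71291 (iv F65939) (iv F67529) D32600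
theorem F75735 : act 4 n32953 = n31789 := d12_2 (iv F71197) D32953 (iv D31789)
theorem F75736 : act 5 n32953 = n32627 := d13_2 F74282 D32953 F74377
theorem F75737 : act 6 n32523 = n32953 := d24_0 F75736 (iv D32627) (iv D30819) D30818 F67895 (iv D28119) D28118 F67817 (iv D30797) F57804 F46494 D27114 D30549 D32523
def n32954 : Q := act 6 n31784
theorem D32954 : act 6 n31784 = n32954 := rfl
theorem F75738 : act 1 n32954 = n32524 := d10_1 D32954 F73944 (iv F69078) (iv F62668) D31784
theorem F75739 : act 2 n32954 = n32523 := d14_1 D32954 F75737 (iv D32953)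
theorem F75740 : act 4 n32954 = n31790 := d19_1 D32954 (iv D31790) (iv F71197)
theorem F75741 : act 5 n32954 = n32828 := d22_2 F74282 D32954 F75184 F74854
def n32955 : Q := act 2 n31787
theorem D32955 : act 2 n31787 = n32955 := rfl
theorem F75742 : act 0 n32955 = n32746 := d1_1 D32955 (iv D32746) (iv F71207)
theorem F75743 : act 1 n32955 = n32561 := d6_1 D32955 (iv D32561) (iv F71202) F71203 D31787
theorem F75744 : act 3 n32955 = n32920 := d11_2 (iv F71208) D32955 (iv D32920) F70660 (iv F65662) F69348 F69346 D31210 D32746 F74852 (iv D31631) F62250 D28979 D31633 F70666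
theorem F75745 : act 4 n32955 = n32627 := d12_2 F74281 D32955 F74377
theorem F75746 : act 5 n32955 = n31789 := d13_2 (iv F71209) D32955 (iv D31789)
def n32956 : Q := act 2 n31788
theorem D32956 : act 2 n31788 = n32956 := rfl
theorem F75747 : act 0 n32956 = n31789 := d1_1 D32956 (iv D31789) D31788
theorem F75748 : act 1 n32956 = n32347 := d6_1 D32956 F73240 F68766 (iv F69151) F71212
theorem F75749 : act 4 n32956 = n32348 := d12_2 F74987 D32956 (iv F74985)
theorem F75750 : act 5 n32956 = n32746 := d13_2 (iv F71211) D32956 (iv D32746)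
theorem F75751 : act 3 n32956 = n32535 := d21_1 D32956 (iv D32535) F67100 (iv F57029) F62682 (iv D29178) (iv F62674) D31788
def n32957 : Q := act 6 n31788
theorem D32957 : act 6 n31788 = n32957 := rfl
theorem F75752 : act 0 n32957 = n31790 := d5_1 D32957 (iv D31790) D31788
theorem F75753 : act 3 n32957 = n31796 := d17_1 D32957 (iv D31796) (iv F71210)
theorem F75754 : act 5 n32957 = n32907 := d20_1 D32957 F75547 F71209 D31790 (iv F74860) (iv D32748) (iv F71211)
def n32958 : Q := act 3 n31789
theorem D32958 : act 3 n31789 = n32958 := rfl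
theorem F75755 : act 0 n32958 = n32535 := d2_1 D32958 (iv F75751) F75747
theorem F75756 : act 2 n32958 = n32534 := d11_1 D32958 F73968 (iv F67130) F71233 (iv D31795) (iv F71210) D32956 F75751 (iv D32535) F67100 (iv F57029) F62682 (iv D29178) (iv F62674) D31789
theorem F75757 : act 4 n32958 = n31817 := d15_2 F75735 D32958 (iv D31817) (iv F71295) (iv F75734)
theorem F75758 : act 5 n32958 = n32920 := d16_2 F75746 D32958 (iv F75744)
theorem F75759 : act 6 n32936 = n32958 := d22_1 (iv F75670) F75758 F75603 (iv F75604)
def n32959 : Q := act 6 n31789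
theorem D32959 : act 6 n31789 = n32959 := rfl
theorem F75760 : act 1 n32959 = n32199 := d10_1 D32959 (iv D32199) (iv F72627) (iv F75732) F75731
theorem F75761 : act 2 n32959 = n31790 := d14_1 D32959 (iv D31790) D31789
theorem F75762 : act 3 n32959 = n32936 := d17_1 D32959 F75759 (iv D32958)
theorem F75763 : act 4 n32959 = n32523 := d19_1 D32959 F75737 F75735
def n32960 : Q := act 5 n31791
theorem D32960 : act 5 n31791 = n32960 := rfl
theorem F75764 : act 0 n32960 = n32875 := d4_1 D32960 F75399 F71222
theorem F75765 : act 1 n32960 = n32569 := d9_1 D32960 (iv F74114) D32814 (iv F75118) (iv F71215)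
theorem F75766 : act 2 n32960 = n31792 := d13_1 D32960 (iv D31792) D31791
theorem F75767 : act 3 n32960 = n32883 := d16_1 D32960 F75438 F74996
theorem F75768 : act 4 n32960 = n32812 := d18_1 D32960 F75108 (iv F71216)
theorem F75769 : act 6 n32960 = n31792 := d20_2 F71217 D32960 (iv D31792) D31793 (iv F75399) (iv F75401) (iv F70474)
def n32961 : Q := act 1 n31798
theorem D32961 : act 1 n31798 = n32961 := rfl
theorem F75770 : act 0 n32961 = n32276 := d0_1 D32961 F72956 (iv F66897) (iv F73891) (iv F74427) F74428 (iv F73249) (iv F74082) F74081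
theorem F75771 : act 2 n32961 = n31799 := d6_2 D31798 D32961 (iv D31799) (iv D29182) (iv F62687)
theorem F75772 : act 4 n32961 = n32635 := d8_2 (iv F71241) D32961 (iv D32635)
theorem F75773 : act 5 n32961 = n32952 := d9_2 F74079 D32961 F75731 (iv F75746) F75743
def n32962 : Q := act 3 n31798
theorem D32962 : act 3 n31798 = n32962 := rfl
theorem F75774 : act 0 n32962 = n32870 := d2_1 D32962 F75375 F74081
theorem F75775 : act 2 n32962 = n32549 := d11_1 D32962 F74017 F67147 F57052 (iv F57135) (iv F67235) (iv F74083) (iv F75375) F75374 F70226 (iv D29180) F52299 D25487 D29181 D31798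
theorem F75776 : act 4 n32962 = n32865 := d15_2 (iv F71241) D32962 F75354 (iv F74392) F74391
theorem F75777 : act 5 n32962 = n32548 := d16_2 F74079 D32962 (iv F74077)
theorem F75778 : act 6 n32962 = n32501 := d17_2 (iv F71242) D32962 (iv D32501)
def n32963 : Q := act 4 n31799
theorem D32963 : act 4 n31799 = n32963 := rfl
theorem F75779 : act 0 n32963 = n32273 := d3_1 D32963 F72947 (iv F71243)
theorem F75780 : act 1 n32963 = n31800 := d8_1 D32963 (iv D31800) D31799
theorem F75781 : act 2 n32963 = n32635 := d12_1 D32963 (iv F75772) F75771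
theorem F75782 : act 5 n32963 = n32951 := d18_2 (iv F71245) D32963 F75727
def n32964 : Q := act 0 n31805
theorem D32964 : act 0 n31805 = n32964 := rfl
theorem F75783 : act 1 n32964 = n31862 := d0_2 D31805 D32964 F71435 (iv D30910) F58149 (iv F58118) (iv F62907) (iv F66449) F66448
theorem F75784 : act 2 n32964 = n31809 := d1_2 (iv F71266) D32964 (iv D31809)
theorem F75785 : act 3 n32964 = n32594 := d2_2 F71269 D32964 F74222
theorem F75786 : act 4 n32964 = n32822 := d3_2 F73429 D32964 F75153
theorem F75787 : act 5 n32964 = n31809 := d4_2 (iv F71267) D32964 (iv D31809)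
theorem F75788 : act 6 n32964 = n32674 := d5_2 (iv F71268) D32964 (iv D32674)
def n32965 : Q := act 3 n31807
theorem D32965 : act 3 n31807 = n32965 := rfl
theorem F75789 : act 0 n32965 = n32307 := d2_1 D32965 (iv F73343) (iv F73345)
theorem F75790 : act 1 n32965 = n32522 := d7_1 D32965 F73936 F73427
theorem F75791 : act 2 n32965 = n32828 := d11_1 D32965 F75185 (iv D32443) (iv D30398) F55899 D30391 (iv F73342) F73343 (iv F73655) (iv D32446) (iv D30402) (iv D26872) (iv F54688) (iv F62714) (iv F71274)
theorem F75792 : act 5 n32965 = n32523 := d16_2 (iv F71352) D32965 F73939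
theorem F75793 : act 6 n32965 = n32399 := d17_2 (iv F71275) D32965 F73448
def n32966 : Q := act 2 n31817
theorem D32966 : act 2 n31817 = n32966 := rfl
theorem F75794 : act 0 n32966 = n32150 := d1_1 D32966 (iv F74456) F74455
theorem F75795 : act 3 n32966 = n32149 := d11_2 D31817 D32966 (iv D32149) F63943 F53119 (iv F62739) D31816 (iv F74457) F74456 (iv D32150) (iv D29648) F53118 F41646 (iv F52343) D29204
theorem F75796 : act 4 n32966 = n32534 := d12_2 F75757 D32966 (iv F75756)
theorem F75797 : act 5 n32966 = n32712 := d13_2 (iv F75350) D32966 (iv F75347)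
theorem F75798 : act 6 n32966 = n32342 := d14_2 (iv F71299) D32966 F73227
theorem F75799 : act 1 n32966 = n32789 := d25_25 (iv F62667) (iv F69554) (iv F70405) F70406 F61692 (iv F60016) D31164 F69159 F68646 (iv F63383) D32036 F72000 F68822 F70988 (iv D31719) (iv D29094) F52212 F41020 F27766 (iv F27854) D21270 (iv F52343) D29204 D31817 D32966 F75012 (iv F71161) F71160 F70964 (iv F75007) (iv F75198) F75200 F69984 F64174 (iv F64178) (iv F68507) (iv F70578) F70577 (iv F71456) F71455 (iv D29286) F52541 (iv F45234) F45235 (iv F45325) D27081 (iv F66904) D32512 F73897 (iv D31013) (iv F65096) F65098 F56628 F45325 (iv F45235) F45234 D26545 (iv F62982) (iv F71455) F71456 (iv F70577) F70576 (iv F64179) F64178 (iv F64174) (iv F69984) F69983 (iv F75008) F75007 (iv F70964) (iv F71160) F71159 (iv F73968) (iv F75756) (iv D32958) (iv D31789) (iv D29174)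
def n32967 : Q := act 1 n31820
theorem D32967 : act 1 n31820 = n32967 := rfl
theorem F75800 : act 0 n32967 = n31847 := d0_1 D32967 (iv D31847) (iv F66398) F66399 F62748 F58207 (iv F58243) D30934 (iv F71305)
theorem F75801 : act 2 n32967 = n31851 := d6_2 (iv F74532) D32967 (iv F74465) F74466 D32663
theorem F75802 : act 3 n32967 = n32613 := d7_2 (iv F71306) D32967 F74306
theorem F75803 : act 4 n32967 = n32834 := d8_2 F74363 D32967 F75211
theorem F75804 : act 5 n32967 = n32662 := d9_2 D31820 D32967 (iv F74569) F74573 F71282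
theorem F75805 : act 6 n32967 = n31851 := d10_2 (iv F71307) D32967 (iv F74465) (iv F74533) (iv D32663)
def n32968 : Q := act 6 n31822
theorem D32968 : act 6 n31822 = n32968 := rfl
theorem F75806 : act 0 n32968 = n31824 := d5_1 D32968 (iv D31824) D31822
theorem F75807 : act 1 n32968 = n32603 := d10_1 D32968 (iv D32603) F73593 (iv D32427) (iv F71312)
theorem F75808 : act 2 n32968 = n31839 := d14_1 D32968 F71366 (iv F71315)
theorem F75809 : act 3 n32968 = n32402 := d17_1 D32968 (iv D32402) (iv F71313)
theorem F75810 : act 4 n32968 = n31825 := d19_1 D32968 (iv D31825) (iv F71314)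
theorem F75811 : act 5 n32968 = n31839 := d20_1 D32968 F71366 F71304 D31824 F71326 F71321 F71320
def n32969 : Q := act 0 n31826
theorem D32969 : act 0 n31826 = n32969 := rfl
theorem F75812 : act 4 n32969 = n31827 := d3_2 (iv F71331) D32969 (iv D31827)
def n32970 : Q := act 2 n31826
theorem D32970 : act 2 n31826 = n32970 := rfl
theorem F75813 : act 1 n32970 = n32937 := d6_1 D32970 (iv D32937) (iv D31727) (iv F62792) D31826
theorem F75814 : act 4 n32970 = n31828 := d12_2 (iv F71331) D32970 (iv D31828)
theorem F75815 : act 3 n32970 = n31828 := d21_3 D32196 (iv F72629) D32970 (iv D31828) F62794 D29226 D31836 F71355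
def n32971 : Q := act 6 n31826
theorem D32971 : act 6 n31826 = n32971 := rfl
theorem F75816 : act 1 n32971 = n32958 := d10_1 D32971 (iv F75759) (iv D32936) F70980 D31826
theorem F75817 : act 3 n32971 = n32952 := d17_1 D32971 F75732 (iv F72629)
theorem F75818 : act 4 n32971 = n31829 := d19_1 D32971 (iv D31829) (iv F71331)
def n32972 : Q := act 2 n31827
theorem D32972 : act 2 n31827 = n32972 := rfl
theorem F75819 : act 0 n32972 = n31828 := d1_1 D32972 (iv D31828) D31827
def n32973 : Q := act 6 n31828
theorem D32973 : act 6 n31828 = n32973 := rfl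
theorem F75820 : act 2 n32973 = n31829 := d14_1 D32973 (iv D31829) D31828
def n32974 : Q := act 6 n31830
theorem D32974 : act 6 n31830 = n32974 := rfl
theorem F75821 : act 1 n32974 = n32953 := d10_1 D32974 (iv F75737) (iv D32523) F66982 D31830
theorem F75822 : act 2 n32974 = n32951 := d14_1 D32974 F75728 F72620
theorem F75823 : act 3 n32974 = n31833 := d17_1 D32974 (iv D31833) (iv F71336)
theorem F75824 : act 4 n32974 = n32952 := d19_1 D32974 F75732 F72628
theorem F75825 : act 5 n32974 = n32635 := d22_2 (iv F71337) D32974 (iv F74803) (iv D32733)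
def n32975 : Q := act 3 n31832
theorem D32975 : act 3 n31832 = n32975 := rfl
theorem F75826 : act 0 n32975 = n32377 := d2_1 D32975 F73358 (iv F71341)
theorem F75827 : act 1 n32975 = n31838 := d7_1 D32975 (iv D31838) (iv F71342)
theorem F75828 : act 5 n32975 = n32736 := d16_2 (iv F71344) D32975 (iv D32736)
theorem F75829 : act 6 n32975 = n32520 := d17_2 F71345 D32975 F73926
def n32976 : Q := act 0 n31834
theorem D32976 : act 0 n31834 = n32976 := rfl
theorem F75830 : act 2 n32976 = n32440 := d1_2 (iv F71349) D32976 F73631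
theorem F75831 : act 4 n32976 = n31837 := d3_2 (iv F71350) D32976 (iv D31837)
theorem F75832 : act 5 n32976 = n32373 := d4_2 F71352 D32976 (iv F73345)
theorem F75833 : act 6 n32976 = n32389 := d5_2 (iv F71351) D32976 F73406
def n32977 : Q := act 2 n31836
theorem D32977 : act 2 n31836 = n32977 := rfl
theorem F75834 : act 0 n32977 = n32196 := d1_1 D32977 (iv D32196) (iv F71355)
theorem F75835 : act 1 n32977 = n31842 := d6_1 D32977 (iv D31842) F62833 (iv F62819) (iv F71356)
theorem F75836 : act 6 n32977 = n32939 := d14_2 (iv F71357) D32977 (iv D32939)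
theorem F75837 : act 3 n32977 = n32969 := d21_7 D32970 F75815 (iv D31828) F62794 D29226 D31836 D32977 (iv D32969)
theorem F75838 : act 4 n32654 = n32977 := d15_0 F75837 F75812 F71332 (iv F71338) (iv F74491)
def n32978 : Q := act 4 n31836
theorem D32978 : act 4 n31836 = n32978 := rfl
theorem F75839 : act 0 n32978 = n32194 := d3_1 D32978 F72621 (iv F71355)
theorem F75840 : act 1 n32978 = n31840 := d8_1 D32978 (iv D31840) (iv F71356)
theorem F75841 : act 2 n32978 = n32654 := d12_1 D32978 F75838 (iv D32977)
theorem F75842 : act 6 n32978 = n32938 := d19_2 (iv F71357) D32978 F75675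
def n32979 : Q := act 3 n31842
theorem D32979 : act 3 n31842 = n32979 := rfl
theorem F75843 : act 0 n32979 = n32891 := d2_1 D32979 F75471 F74054
theorem F75844 : act 1 n32979 = n32969 := d7_1 D32979 (iv F75837) F75835
theorem F75845 : act 2 n32979 = n32542 := d11_1 D32979 F73992 F67122 F57022 (iv F57096) (iv F67198) (iv F74055) (iv F75471) F75470 F70376 (iv D29236) F52425 D25545 D29237 D31842
theorem F75846 : act 4 n32979 = n32888 := d15_2 (iv F71373) D32979 F75461 (iv F74487) F74486
theorem F75847 : act 5 n32979 = n32504 := d16_2 (iv F71374) D32979 (iv D32504)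
theorem F75848 : act 6 n32979 = n32541 := d17_2 F74053 D32979 (iv F74050)
def n32980 : Q := act 3 n31849
theorem D32980 : act 3 n31849 = n32980 := rfl
theorem F75849 : act 0 n32980 = n32345 := d2_1 D32980 (iv F73402) F73405
theorem F75850 : act 1 n32980 = n32513 := d7_1 D32980 F73903 F73370
theorem F75851 : act 2 n32980 = n32840 := d11_1 D32980 F75243 (iv D32430) (iv D30378) F55791 D30371 (iv F73401) F73402 (iv F73613) (iv D32433) (iv D30382) (iv D26837) (iv F54781) (iv F62867) (iv F71402)
theorem F75852 : act 5 n32980 = n32385 := d16_2 (iv F71403) D32980 F73391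
theorem F75853 : act 6 n32980 = n32514 := d17_2 F71490 D32980 F73906
def n32981 : Q := act 2 n31859
theorem D32981 : act 2 n31859 = n32981 := rfl
theorem F75854 : act 0 n32981 = n32244 := d1_1 D32981 (iv F74371) F74375
theorem F75855 : act 3 n32981 = n32243 := d11_2 D31859 D32981 (iv D32243) F64738 F53722 (iv F62892) D31858 (iv F74372) F74371 (iv D32244) (iv D29880) F53721 F41990 (iv F52473) D29259
theorem F75856 : act 4 n32981 = n32527 := d12_2 F75703 D32981 (iv F75702)
theorem F75857 : act 5 n32981 = n32304 := d13_2 (iv F71428) D32981 F73082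
theorem F75858 : act 6 n32981 = n32719 := d14_2 F75457 D32981 (iv F75454)
theorem F75859 : act 1 n32981 = n32772 := d25_25 (iv F62575) (iv F69456) (iv F70467) F70468 F61801 (iv F59928) D31154 F69106 F68795 (iv F63047) D31905 F71590 F68680 F71133 (iv D31764) (iv D29145) F52268 F41065 F27788 (iv F27933) D21309 (iv F52473) D29259 D31859 D32981 F74954 (iv F71020) (iv F71108) F71109 (iv F74939) (iv F75141) F75143 F69861 F64938 (iv F64942) (iv F68590) (iv F70535) F70534 (iv F71324) F71323 (iv D29231) F52407 (iv F45271) F45272 (iv F45394) D27107 (iv F66960) D32521 F73930 (iv D30986) (iv F64403) F64405 F56703 F45394 (iv F45272) F45271 D26515 (iv F62815) (iv F71323) F71324 (iv F70534) F70533 (iv F64943) F64942 (iv F64938) (iv F69861) F69860 (iv F74940) F74939 (iv F71109) F71108 F71019 (iv F73949) (iv F75702) (iv D32945) (iv D31745) (iv D29123)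
def n32982 : Q := act 5 n31864
theorem D32982 : act 5 n31864 = n32982 := rfl
theorem F75860 : act 0 n32982 = n31866 := d4_1 D32982 (iv D31866) D31864
theorem F75861 : act 1 n32982 = n32608 := d9_1 D32982 F74286 F73635 (iv D32440) (iv F71444)
theorem F75862 : act 2 n32982 = n31880 := d13_1 D32982 F71502 (iv F71447)
theorem F75863 : act 3 n32982 = n32404 := d16_1 D32982 (iv D32404) (iv F71445)
theorem F75864 : act 4 n32982 = n31867 := d18_1 D32982 (iv D31867) (iv F71446)
theorem F75865 : act 6 n32982 = n31880 := d20_2 F71452 D32982 F71502 F71434 D31866 F71458 F71453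
def n32983 : Q := act 0 n31868
theorem D32983 : act 0 n31868 = n32983 := rfl
theorem F75866 : act 1 n32983 = n32962 := d0_2 D31868 D32983 F75774 (iv F75378) F74503 F72495 F72492 (iv D31778) (iv F62951)
theorem F75867 : act 3 n32983 = n32961 := d2_2 (iv F72958) D32983 F75770
theorem F75868 : act 4 n32983 = n31869 := d3_2 (iv F71463) D32983 (iv D31869)
theorem F75869 : act 5 n32983 = n32971 := d22_0 (iv D32971) (iv F74543) F74544 D32983
def n32984 : Q := act 2 n31868
theorem D32984 : act 2 n31868 = n32984 := rfl
theorem F75870 : act 1 n32984 = n32950 := d6_1 D32984 (iv D32950) (iv D31771) (iv F62952) D31868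
theorem F75871 : act 4 n32984 = n31870 := d12_2 (iv F71463) D32984 (iv D31870)
theorem F75872 : act 3 n32984 = n31870 := d21_1 D32984 (iv D31870) F62954 D29281 (iv F71244) (iv F75771) (iv F75867) (iv D32983)
def n32985 : Q := act 5 n31868
theorem D32985 : act 5 n31868 = n32985 := rfl
theorem F75873 : act 0 n32985 = n32971 := d4_1 D32985 (iv F75869) (iv D32983)
theorem F75874 : act 1 n32985 = n32945 := d9_1 D32985 F75722 (iv D32949) F71125 D31868
theorem F75875 : act 3 n32985 = n32939 := d16_1 D32985 F75678 (iv F72958)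
theorem F75876 : act 4 n32985 = n31871 := d18_1 D32985 (iv D31871) (iv F71463)
theorem F75877 : act 6 n32985 = n32969 := d22_3 (iv F74543) F74544 D32985 (iv D32969)
def n32986 : Q := act 2 n31869
theorem D32986 : act 2 n31869 = n32986 := rfl
theorem F75878 : act 0 n32986 = n31870 := d1_1 D32986 (iv D31870) D31869
theorem F75879 : act 5 n32986 = n32973 := d13_2 (iv F71465) D32986 F75820
def n32987 : Q := act 5 n31870
theorem D32987 : act 5 n31870 = n32987 := rfl
theorem F75880 : act 0 n32987 = n32973 := d4_1 D32987 (iv F75879) F75878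
theorem F75881 : act 2 n32987 = n31871 := d13_1 D32987 (iv D31871) D31870
theorem F75882 : act 6 n32987 = n32972 := d22_3 (iv F74548) F74549 D32987 F75819
def n32988 : Q := act 5 n31872
theorem D32988 : act 5 n31872 = n32988 := rfl
theorem F75883 : act 0 n32988 = n32974 := d4_1 D32988 F75825 F74406
theorem F75884 : act 1 n32988 = n32940 := d9_1 D32988 F75683 (iv D32514) F66926 D31872
theorem F75885 : act 2 n32988 = n32938 := d13_1 D32988 F75676 F72946
theorem F75886 : act 3 n32988 = n31875 := d16_1 D32988 (iv D31875) (iv F71471)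
theorem F75887 : act 4 n32988 = n32939 := d18_1 D32988 F75678 F72957
theorem F75888 : act 6 n32988 = n32654 := d20_2 (iv F71472) D32988 (iv F74802) F74803 (iv F75825) (iv D32974) F71337
def n32989 : Q := act 3 n31874
theorem D32989 : act 3 n31874 = n32989 := rfl
theorem F75889 : act 0 n32989 = n32392 := d2_1 D32989 F73418 (iv F71477)
theorem F75890 : act 1 n32989 = n31879 := d7_1 D32989 (iv D31879) (iv F71478)
theorem F75891 : act 5 n32989 = n32511 := d16_2 F71481 D32989 F73894
theorem F75892 : act 6 n32989 = n32736 := d17_2 (iv F71480) D32989 (iv D32736)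
def n32990 : Q := act 0 n31876
theorem D32990 : act 0 n31876 = n32990 := rfl
theorem F75893 : act 1 n32990 = n32976 := d0_2 D31876 D32990 (iv D32976) (iv D31834) F62800 D31813 F71419 (iv D31855) (iv F62960)
theorem F75894 : act 2 n32990 = n32427 := d1_2 (iv F71487) D32990 F73589
theorem F75895 : act 4 n32990 = n31878 := d3_2 (iv F71488) D32990 (iv D31878)
theorem F75896 : act 5 n32990 = n32374 := d4_2 (iv F71489) D32990 F73350
theorem F75897 : act 6 n32990 = n32388 := d5_2 (iv F71490) D32990 F73405
def n32991 : Q := act 6 n31884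
theorem D32991 : act 6 n31884 = n32991 := rfl
theorem F75898 : act 0 n32991 = n32873 := d5_1 D32991 F75393 (iv F71514)
theorem F75899 : act 1 n32991 = n31904 := d10_1 D32991 (iv D31904) (iv D29312) (iv F63004) D31884
theorem F75900 : act 2 n32991 = n32849 := d14_1 D32991 F75282 F74105
theorem F75901 : act 3 n32991 = n32882 := d17_1 D32991 F75433 (iv F71515)
theorem F75902 : act 4 n32991 = n32567 := d19_1 D32991 (iv F75282) (iv F75283)
theorem F75903 : act 5 n32991 = n32365 := d20_1 D32991 (iv F73815) F73814 (iv F75393) F75392 F73843 (iv F71516)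
def n32992 : Q := act 3 n31890
theorem D32992 : act 3 n31890 = n32992 := rfl
theorem F75904 : act 0 n32992 = n31891 := d2_1 D32992 (iv D31891) D31890
theorem F75905 : act 1 n32992 = n32093 := d7_1 D32992 (iv D32093) (iv F71533)
theorem F75906 : act 6 n32992 = n31891 := d17_2 F71534 D32992 (iv D31891)
def n32993 : Q := act 5 n31890
theorem D32993 : act 5 n31890 = n32993 := rfl
theorem F75907 : act 0 n32993 = n31892 := d4_1 D32993 (iv D31892) D31890
theorem F75908 : act 6 n32993 = n32993 := d20_2 F71534 D32993 (iv D32993) (iv F71534) D31892 F71536 (iv D31892)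
def n32994 : Q := act 2 n31891
theorem D32994 : act 2 n31891 = n32994 := rfl
theorem F75909 : act 5 n32994 = n32508 := d13_2 F74088 D32994 (iv F74086)
def n32995 : Q := act 4 n31891
theorem D32995 : act 4 n31891 = n32995 := rfl
theorem F75910 : act 1 n32995 = n31894 := d8_1 D32995 (iv D31894) (iv F71535)
theorem F75911 : act 5 n32995 = n32550 := d18_2 F74088 D32995 (iv F74087)
theorem F75912 : act 0 n32994 = n32995 := d4_3 F75911 F74020 (iv F75909)
theorem F75913 : act 6 n32995 = n32994 := d22_3 F75911 F74021 (iv F75911) F75912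
theorem F75914 : act 2 n32995 = n32992 := d23_1 (iv F75911) F75905 F72202 D32096 (iv F72281) (iv F73135) F73134 F65380 F57059 (iv D27184) (iv F56942) F56944 F56897 D27164 (iv F66735) F66738 D30520 D32508 (iv F74020)
theorem F75915 : act 4 n32992 = n32994 := d12_2 D32995 F75914 (iv D32994)
def n32996 : Q := act 1 n31893
theorem D32996 : act 1 n31893 = n32996 := rfl
theorem F75916 : act 3 n32996 = n32782 := d7_2 (iv F71538) D32996 F74992
theorem F75917 : act 4 n32996 = n32111 := d8_2 F71539 D32996 F72268
theorem F75918 : act 5 n32996 = n32116 := d9_2 F71540 D32996 F72287 F63690 D30482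
def n32997 : Q := act 6 n31911
theorem D32997 : act 6 n31911 = n32997 := rfl
theorem F75919 : act 1 n32997 = n32997 := d10_1 D32997 (iv D32997) F71616 F63120 (iv F71616)
theorem F75920 : act 2 n32997 = n31936 := d14_1 D32997 (iv D31936) (iv F71617)
theorem F75921 : act 4 n32997 = n31912 := d19_1 D32997 (iv D31912) D31911
theorem F75922 : act 5 n32997 = n32289 := d22_2 (iv F71618) D32997 (iv D32289) F65164
def n32998 : Q := act 2 n31913
theorem D32998 : act 2 n31913 = n32998 := rfl
theorem F75923 : act 0 n32998 = n32926 := d1_1 D32998 F75626 F72222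
theorem F75924 : act 1 n32998 = n32931 := d6_1 D32998 F75647 (iv D32216) (iv F72697) (iv F72700)
theorem F75925 : act 3 n32998 = n32998 := d11_2 D31913 D32998 (iv D32998) (iv D31913) F63119 (iv F52933) D29564 (iv F72224) (iv F75626) F75627 F75626 F72224 (iv D29564) F52933 (iv F63119)
theorem F75926 : act 4 n32998 = n32925 := d12_2 (iv F72221) D32998 F75623
theorem F75927 : act 6 n32998 = n32998 := d14_2 F71623 D32998 (iv D32998)
def n32999 : Q := act 5 n31913
theorem D32999 : act 5 n31913 = n32999 := rfl
theorem F75928 : act 0 n32999 = n32290 := d4_1 D32999 F73018 F72222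
theorem F75929 : act 1 n32999 = n31956 := d9_1 D32999 F72695 (iv D32214) D32215 (iv F72700)
theorem F75930 : act 3 n32999 = n31914 := d16_1 D32999 (iv D31914) D31913
theorem F75931 : act 4 n32999 = n31955 := d18_1 D32999 (iv F72219) (iv F72221)
theorem F75932 : act 6 n32999 = n32290 := d22_1 D32999 F73018 F72225 F72222
def n33000 : Q := act 2 n31915
theorem D33000 : act 2 n31915 = n33000 := rfl
theorem F75933 : act 0 n33000 = n32257 := d1_1 D33000 F72880 F71679
theorem F75934 : act 1 n33000 = n32285 := d6_1 D33000 F72995 F71628 F71625 D31915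
theorem F75935 : act 4 n33000 = n31916 := d12_2 (iv F71629) D33000 (iv D31916)
theorem F75936 : act 5 n33000 = n31941 := d13_2 (iv F71630) D33000 (iv D31941)
theorem F75937 : act 3 n33000 = n32254 := d21_7 (iv F72874) F72875 F71676 (iv F63601) D32090 (iv F72191) D33000 F72868
def n33001 : Q := act 3 n31920
theorem D33001 : act 3 n31920 = n33001 := rfl
theorem F75938 : act 0 n33001 = n32793 := d2_1 D33001 (iv D32793) (iv F71645)
theorem F75939 : act 1 n33001 = n31921 := d7_1 D33001 (iv D31921) D31920
theorem F75940 : act 6 n33001 = n32793 := d17_2 (iv F71648) D33001 (iv D32793)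
def n33002 : Q := act 5 n31920
theorem D33002 : act 5 n31920 = n33002 := rfl
theorem F75941 : act 0 n33002 = n32794 := d4_1 D33002 (iv D32794) (iv F71645)
theorem F75942 : act 1 n33002 = n32813 := d9_1 D33002 (iv F75129) F75125 (iv D31922) D31920
theorem F75943 : act 2 n33002 = n32993 := d13_1 D33002 (iv D32993) (iv F71646)
theorem F75944 : act 4 n33002 = n32993 := d18_1 D33002 (iv D32993) (iv F71647)
theorem F75945 : act 6 n33002 = n33002 := d20_2 (iv F71648) D33002 (iv D33002) F71648 D32794 F75028 (iv D32794)
def n33003 : Q := act 4 n31921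
theorem D33003 : act 4 n31921 = n33003 := rfl
theorem F75946 : act 0 n33003 = n31924 := d3_1 D33003 (iv D31924) (iv F71649)
theorem F75947 : act 2 n33003 = n32783 := d12_1 D33003 (iv F75537) F75535
theorem F75948 : act 6 n33003 = n32782 := d19_2 (iv F71650) D33003 F74993
theorem F75949 : act 5 n32318 = n33003 := d20_7 F75948 F74994 (iv F75171) F75170 F73146 (iv D32322) (iv F73128)
def n33004 : Q := act 5 n31921
theorem D33004 : act 5 n31921 = n33004 := rfl
theorem F75950 : act 0 n33004 = n31925 := d4_1 D33004 (iv D31925) (iv F71649)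
theorem F75951 : act 2 n33004 = n32176 := d13_1 D33004 (iv F75538) F75535
theorem F75952 : act 3 n33004 = n31922 := d16_1 D33004 (iv D31922) D31921
theorem F75953 : act 4 n33004 = n32318 := d18_1 D33004 F75949 (iv D33003)
theorem F75954 : act 6 n33004 = n31948 := d20_2 (iv F71650) D33004 F71716 (iv D31926) D31925 F71656 (iv F71636)
theorem F75955 : act 1 n33004 = n32317 := d24_2 (iv F71650) D33004 (iv D32317) D32316 F73123 F68719 (iv F63162) (iv F61045) (iv F61044) D31047 F68682 (iv D29339) (iv F63132) (iv F71635)
def n33005 : Q := act 1 n31923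
theorem D33005 : act 1 n31923 = n33005 := rfl
theorem F75956 : act 2 n33005 = n31928 := d6_2 D31923 D33005 (iv D31928) (iv D29345) (iv F63148)
theorem F75957 : act 3 n33005 = n32332 := d7_2 F75421 D33005 (iv F75419)
theorem F75958 : act 4 n33005 = n32339 := d8_2 F75443 D33005 (iv F75440)
theorem F75959 : act 6 n33005 = n32134 := d10_2 (iv F75533) D33005 (iv D32134) (iv F71184) (iv F75528)
theorem F75960 : act 0 n33005 = n32340 := d23_3 (iv D31925) D31923 D33005 (iv F73221) (iv F73240) (iv F75748) F75747 (iv F75746) (iv D32955) (iv D31787) F62671 (iv F62670) (iv F68075) (iv F73496) F73495 (iv F73485) F73482 (iv F75955) F75950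
theorem F75961 : act 5 n32575 = n33005 := d24_1 (iv F74142) (iv D33005) F75533 F75532 (iv F75405) F73150 (iv D31641) (iv F70682) F70684 (iv F75006) F75002 F70050 F68789 D31425
def n33006 : Q := act 4 n31929
theorem D33006 : act 4 n31929 = n33006 := rfl
theorem F75962 : act 0 n33006 = n31933 := d3_1 D33006 (iv D31933) (iv F71668)
theorem F75963 : act 1 n33006 = n32080 := d8_1 D33006 F72155 (iv F71669)
theorem F75964 : act 2 n33006 = n31930 := d12_1 D33006 (iv D31930) D31929
theorem F75965 : act 6 n33006 = n33000 := d19_2 (iv F71670) D33006 F75935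
def n33007 : Q := act 5 n31930
theorem D33007 : act 5 n31930 = n33007 := rfl
theorem F75966 : act 0 n33007 = n31934 := d4_1 D33007 (iv D31934) (iv F71671)
theorem F75967 : act 4 n33007 = n31931 := d18_1 D33007 (iv D31931) D31930
theorem F75968 : act 6 n33007 = n31940 := d20_2 (iv F71672) D33007 F71697 (iv D31935) D31934 F71678 (iv F71630)
def n33008 : Q := act 1 n31931
theorem D33008 : act 1 n31931 = n33008 := rfl
theorem F75969 : act 3 n33008 = n31932 := d7_2 (iv F71674) D33008 (iv D31932)
theorem F75970 : act 0 n33008 = n32085 := d23_3 (iv F71872) F71870 D33008 F72173 F71769 (iv D31942) (iv D29362) (iv F63128) D31916 F71632 (iv F68915) (iv F72985) F72982 (iv F72501) F72499 (iv F64126) D29695 F64125 (iv F71668)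
def n33009 : Q := act 5 n31937
theorem D33009 : act 5 n31937 = n33009 := rfl
theorem F75971 : act 1 n33009 = n33009 := d9_1 D33009 (iv D33009) F71686 F63440 (iv F71686)
theorem F75972 : act 2 n33009 = n31938 := d13_1 D33009 (iv D31938) D31937
theorem F75973 : act 3 n33009 = n32997 := d16_1 D33009 F75922 F73013
theorem F75974 : act 4 n33009 = n32040 := d18_1 D33009 (iv D32040) (iv F71687)
theorem F75975 : act 6 n33009 = n32215 := d22_1 D33009 (iv D32215) (iv F72538) F72535
def n33010 : Q := act 1 n31940
theorem D33010 : act 1 n31940 = n33010 := rfl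
theorem F75976 : act 4 n33010 = n31942 := d8_2 (iv F71696) D33010 (iv D31942)
def n33011 : Q := act 2 n31940
theorem D33011 : act 2 n31940 = n33011 := rfl
theorem F75977 : act 0 n33011 = n31941 := d1_1 D33011 (iv D31941) D31940
theorem F75978 : act 4 n33011 = n31943 := d12_2 (iv F71696) D33011 (iv D31943)
theorem F75979 : act 5 n33011 = n32257 := d13_2 (iv F71697) D33011 F72880
theorem F75980 : act 1 n32286 = n33011 := d9_5 F75979 F72877 F64903 (iv F65137) D32286
theorem F75981 : act 3 n32258 = n33011 := d16_3 F75979 (iv D32257) D32258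
def n33012 : Q := act 3 n31941
theorem D33012 : act 3 n31941 = n33012 := rfl
theorem F75982 : act 0 n33012 = n32258 := d2_1 D33012 F75981 F75977
theorem F75983 : act 1 n33012 = n32740 := d7_1 D33012 F74828 (iv F71865)
theorem F75984 : act 4 n33012 = n32255 := d15_2 (iv F71698) D33012 F72871 F64880 F64152
theorem F75985 : act 5 n33012 = n32254 := d16_2 F75936 D33012 (iv F75937)
def n33013 : Q := act 0 n31942
theorem D33013 : act 0 n31942 = n33013 := rfl
theorem F75986 : act 3 n33013 = n31944 := d2_2 (iv F71699) D33013 (iv D31944)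
theorem F75987 : act 6 n32110 = n33013 := d22_3 (iv F71772) (iv F72177) (iv F72266) (iv D33013)
def n33014 : Q := act 6 n31942
theorem D33014 : act 6 n31942 = n33014 := rfl
theorem F75988 : act 0 n33014 = n32110 := d5_1 D33014 F75987 (iv D33013)
theorem F75989 : act 2 n33014 = n32002 := d14_1 D33014 F71877 F71769
theorem F75990 : act 3 n33014 = n31946 := d17_1 D33014 (iv D31946) (iv F71699)
def n33015 : Q := act 2 n31944
theorem D33015 : act 2 n31944 = n33015 := rfl
theorem F75991 : act 0 n33015 = n31945 := d1_1 D33015 (iv D31945) D31944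
theorem F75992 : act 1 n33015 = n32753 := d6_1 D33015 F74879 D32948 (iv F75717) F71883
theorem F75993 : act 4 n33015 = n32935 := d12_2 F71708 D33015 (iv F75667)
theorem F75994 : act 5 n33015 = n32526 := d13_2 F71783 D33015 F73948
theorem F75995 : act 6 n33015 = n32112 := d14_2 F71704 D33015 (iv D32112)
def n33016 : Q := act 0 n31952
theorem D33016 : act 0 n31952 = n33016 := rfl
theorem F75996 : act 1 n33016 = n32315 := d0_2 D31952 D33016 F73118 (iv F70889) F70888 (iv D29374) F52675 D25669 D29377
theorem F75997 : act 2 n33016 = n32116 := d1_2 F73141 D33016 (iv F73140)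
theorem F75998 : act 3 n33016 = n32318 := d2_2 F75168 D33016 (iv F75166)
theorem F75999 : act 4 n33016 = n32115 := d3_2 F72212 D33016 F72282
theorem F76000 : act 6 n33016 = n32321 := d5_2 F72289 D33016 F73140
def n33017 : Q := act 4 n31953
theorem D33017 : act 4 n31953 = n33017 := rfl
theorem F76001 : act 0 n33017 = n33017 := d3_1 D33017 (iv D33017) F71732
theorem F76002 : act 2 n33017 = n31954 := d12_1 D33017 (iv D31954) D31953
theorem F76003 : act 3 n33017 = n33017 := d15_1 D33017 (iv D33017) (iv F75655) F75652 F75655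
def n33018 : Q := act 1 n31960
theorem D33018 : act 1 n31960 = n33018 := rfl
theorem F76004 : act 2 n33018 = n32057 := d6_2 (iv F71750) D33018 F72075 (iv F71785) (iv D31964)
theorem F76005 : act 4 n33018 = n31962 := d8_2 (iv F71751) D33018 (iv D31962)
theorem F76006 : act 0 n32059 = n33018 := d3_3 F76005 (iv F71757) D32059
def n33019 : Q := act 5 n31961
theorem D33019 : act 5 n31961 = n33019 := rfl
theorem F76007 : act 0 n33019 = n32286 := d4_1 D33019 (iv D32286) (iv F71752)
theorem F76008 : act 2 n33019 = n31966 := d13_1 D33019 (iv D31966) (iv F71753)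
theorem F76009 : act 3 n33019 = n32281 := d16_1 D33019 (iv D32281) (iv F71754)
theorem F76010 : act 4 n33019 = n31963 := d18_1 D33019 (iv D31963) (iv F71755)
theorem F76011 : act 6 n33019 = n32214 := d20_2 D31961 D33019 (iv F72695) F71741 D32286 F73000 (iv D31960)
def n33020 : Q := act 1 n31965
theorem D33020 : act 1 n31965 = n33020 := rfl
theorem F76012 : act 2 n33020 = n33010 := d6_2 F72997 D33020 (iv D33010) D33011 (iv F75980)
theorem F76013 : act 4 n33020 = n31967 := d8_2 (iv F71764) D33020 (iv D31967)
def n33021 : Q := act 1 n31966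
theorem D33021 : act 1 n31966 = n33021 := rfl
theorem F76014 : act 4 n33021 = n31968 := d8_2 (iv F71767) D33021 (iv D31968)
theorem F76015 : act 5 n33021 = n33010 := d9_2 D31966 D33021 (iv D33010) F71697 F71680
def n33022 : Q := act 0 n31967
theorem D33022 : act 0 n31967 = n33022 := rfl
theorem F76016 : act 2 n33022 = n33013 := d1_2 (iv F71769) D33022 (iv D33013)
theorem F76017 : act 3 n33022 = n31970 := d2_2 (iv F71770) D33022 (iv D31970)
theorem F76018 : act 5 n33022 = n33008 := d4_2 F72173 D33022 F75970
theorem F76019 : act 1 n32092 = n33022 := d23_2 (iv F63675) (iv F72199) (iv D33022) (iv F72173) F72171 (iv D31968) F63254 F63253 F63236 F54114 (iv F54080) F61767 (iv F63111) (iv D29328) (iv F52941) F61248 F61245 (iv F63605) (iv F63606)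
def n33023 : Q := act 0 n31968
theorem D33023 : act 0 n31968 = n33023 := rfl
theorem F76020 : act 1 n33023 = n32058 := d0_2 D31968 D33023 F72078 (iv F63611) (iv F72198) F76019 (iv D33022) (iv D31967) (iv F63254)
theorem F76021 : act 2 n33023 = n33008 := d1_2 F72171 D33023 F75970
theorem F76022 : act 3 n33023 = n31972 := d2_2 (iv F71771) D33023 (iv D31972)
theorem F76023 : act 5 n33023 = n33013 := d4_2 (iv F71772) D33023 (iv D33013)
def n33024 : Q := act 4 n31969
theorem D33024 : act 4 n31969 = n33024 := rfl
theorem F76024 : act 1 n33024 = n32804 := d8_1 D33024 F75075 F74187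
theorem F76025 : act 2 n33024 = n31981 := d12_1 D33024 (iv D31981) (iv F71774)
theorem F76026 : act 3 n33024 = n32360 := d15_1 D33024 F73291 F72063 F63477 D31969
theorem F76027 : act 5 n33024 = n31981 := d18_2 (iv F71773) D33024 (iv D31981)
theorem F76028 : act 6 n33024 = n32359 := d19_2 F71896 D33024 F73289
def n33025 : Q := act 2 n31970
theorem D33025 : act 2 n31970 = n33025 := rfl
theorem F76029 : act 0 n33025 = n31971 := d1_1 D33025 (iv D31971) D31970
theorem F76030 : act 1 n33025 = n32815 := d6_1 D33025 F75120 F74008 F72204 F71781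
theorem F76031 : act 4 n33025 = n32533 := d12_2 (iv F71779) D33025 F73967
theorem F76032 : act 5 n33025 = n32533 := d13_2 (iv F71780) D33025 F73967
theorem F76033 : act 6 n33025 = n32948 := d14_2 F71884 D33025 (iv F75717)
def n33026 : Q := act 3 n31971
theorem D33026 : act 3 n31971 = n33026 := rfl
theorem F76034 : act 1 n33026 = n32489 := d7_1 D33026 F73808 (iv F71775)
theorem F76035 : act 5 n33026 = n32532 := d16_2 (iv F71777) D33026 F73964
def n33027 : Q := act 6 n31973
theorem D33027 : act 6 n31973 = n33027 := rfl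
theorem F76036 : act 0 n33027 = n31975 := d5_1 D33027 (iv D31975) D31973
theorem F76037 : act 2 n33027 = n32001 := d14_1 D33027 F71875 F71785
theorem F76038 : act 4 n33027 = n31976 := d19_1 D33027 (iv D31976) (iv F71784)
theorem F76039 : act 5 n33027 = n32001 := d20_1 D33027 F71875 F71763 D31975 F71794 F71790 F71789
def n33028 : Q := act 1 n31976
theorem D33028 : act 1 n31976 = n33028 := rfl
theorem F76040 : act 0 n33028 = n32086 := d0_1 D33028 (iv D32086) F63591 D32085 (iv F75970) (iv D33008) F71673 (iv F63267) (iv F71795)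
theorem F76041 : act 3 n33028 = n31980 := d7_2 (iv F71797) D33028 (iv D31980)
theorem F76042 : act 6 n33028 = n33023 := d10_2 D31976 D33028 F76020 (iv D32058) F63494
theorem F76043 : act 5 n33014 = n33028 := d24_1 D33014 (iv D33028) (iv D31976) (iv F63265) F63261 (iv D25700) F41383 (iv D21396) D21397 F41386 (iv F52657) D29355 (iv F63190) D31942
def n33029 : Q := act 3 n31977
theorem D33029 : act 3 n31977 = n33029 := rfl
theorem F76044 : act 0 n33029 = n32023 := d2_1 D33029 (iv D32023) (iv F71799)
theorem F76045 : act 1 n33029 = n31978 := d7_1 D33029 (iv D31978) D31977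
theorem F76046 : act 5 n33029 = n32023 := d16_2 (iv F71800) D33029 (iv D32023)
def n33030 : Q := act 6 n31977
theorem D33030 : act 6 n31977 = n33030 := rfl
theorem F76047 : act 0 n33030 = n32024 := d5_1 D33030 (iv D32024) (iv F71799)
theorem F76048 : act 5 n33030 = n33030 := d20_1 D33030 (iv D33030) F71800 D32024 F71947 (iv D32024) (iv F71800)
def n33031 : Q := act 4 n31978
theorem D33031 : act 4 n31978 = n33031 := rfl
theorem F76049 : act 0 n33031 = n31981 := d3_1 D33031 (iv D31981) (iv F71801)
def n33032 : Q := act 2 n31980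
theorem D33032 : act 2 n31980 = n33032 := rfl
theorem F76050 : act 0 n33032 = n32088 := d1_1 D33032 (iv D32088) (iv F71805)
theorem F76051 : act 1 n33032 = n32802 := d6_1 D33032 F75062 F73983 F71803 D31980
theorem F76052 : act 4 n33032 = n32526 := d12_2 (iv F71806) D33032 F73948
theorem F76053 : act 5 n33032 = n32935 := d13_2 F71808 D33032 (iv F75667)
theorem F76054 : act 6 n33032 = n32526 := d14_2 (iv F71807) D33032 F73948
def n33033 : Q := act 5 n31986
theorem D33033 : act 5 n31986 = n33033 := rfl
theorem F76055 : act 0 n33033 = n31989 := d4_1 D33033 (iv D31989) (iv F71822)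
theorem F76056 : act 1 n33033 = n33033 := d9_1 D33033 (iv D33033) F71823 F63319 (iv F71823)
theorem F76057 : act 2 n33033 = n31991 := d13_1 D33033 F71842 F71826
theorem F76058 : act 3 n33033 = n31987 := d16_1 D33033 (iv D31987) D31986
theorem F76059 : act 4 n33033 = n31993 := d18_1 D33033 F71848 (iv F71824)
theorem F76060 : act 6 n33033 = n32100 := d20_2 (iv F71825) D33033 F72229 (iv D31990) D31989 F71836 (iv F71695)
def n33034 : Q := act 5 n31988
theorem D33034 : act 5 n31988 = n33034 := rfl
theorem F76061 : act 0 n33034 = n31991 := d4_1 D33034 F71842 (iv F71832)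
theorem F76062 : act 2 n33034 = n31989 := d13_1 D33034 (iv D31989) D31988
theorem F76063 : act 3 n33034 = n32737 := d16_1 D33034 (iv D32737) F71834
theorem F76064 : act 4 n33034 = n31992 := d18_1 D33034 F71845 (iv F71833)
theorem F76065 : act 6 n33034 = n32101 := d20_2 F72251 D33034 F72233 (iv D31998) (iv F71842) F71843 D32106
def n33035 : Q := act 1 n31989
theorem D33035 : act 1 n31989 = n33035 := rfl
theorem F76066 : act 3 n33035 = n31991 := d7_2 (iv F71835) D33035 (iv D31991)
theorem F76067 : act 4 n33035 = n32731 := d8_2 F72647 D33035 F74792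
theorem F76068 : act 5 n33035 = n31996 := d9_2 D31989 D33035 (iv D31996) (iv D29417) (iv F63291)
theorem F76069 : act 6 n33035 = n32104 := d10_2 (iv F71836) D33035 (iv D32104) (iv D29557) (iv F63638)
theorem F76070 : act 0 n33035 = n32737 := d23_3 D33034 F76062 D33035 (iv D32737) (iv F71855) (iv D31996) (iv F64472) (iv D29802) D29801 D32214 (iv F72694) (iv D31960) F63243 F52690 F41374 D21395 (iv F52708) D29418 (iv F71832)
theorem F76071 : act 2 n32737 = n33035 := d23_1 D32737 (iv D33035) (iv F76055) (iv D33033) (iv F71826) (iv D29418) (iv F53536) (iv D26038) F41860 (iv F52690) (iv F63232) D31957 (iv F72691) (iv D32214) F64469 D31995 F71852 D31996 (iv F71858)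
def n33036 : Q := act 1 n31992
theorem D33036 : act 1 n31992 = n33036 := rfl
theorem F76072 : act 0 n33036 = n33036 := d0_1 D33036 (iv D33036) (iv D31992) (iv D29413) (iv F63285) F63287 F63285 D29413 D31992
theorem F76073 : act 2 n33036 = n32739 := d6_2 F72645 D33036 (iv D32739) (iv F74793) F74792
theorem F76074 : act 3 n33036 = n32726 := d7_2 (iv F71844) D33036 F74767
theorem F76075 : act 5 n33036 = n32730 := d9_2 (iv F71845) D33036 (iv D32730) F68970 F68919
theorem F76076 : act 6 n33036 = n32725 := d10_2 (iv F71846) D33036 (iv D32725) (iv F68973) F68971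
def n33037 : Q := act 6 n31995
theorem D33037 : act 6 n31995 = n33037 := rfl
theorem F76077 : act 0 n33037 = n33009 := d5_1 D33037 F75975 F72696
theorem F76078 : act 1 n33037 = n32284 := d10_1 D33037 (iv F72994) F72674 (iv F71749) F71854
theorem F76079 : act 2 n33037 = n31997 := d14_1 D33037 (iv D31997) (iv F71852)
theorem F76080 : act 4 n33037 = n32174 := d19_1 D33037 F72544 (iv F71853)
theorem F76081 : act 5 n33037 = n32173 := d20_1 D33037 F72538 D32215 (iv F75975) (iv D33009) F71688 D31995
def n33038 : Q := act 1 n31997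
theorem D33038 : act 1 n31997 = n33038 := rfl
theorem F76082 : act 2 n33038 = n32258 := d6_2 F76079 D33038 F72881 (iv F72991) (iv F76078)
theorem F76083 : act 3 n33038 = n31999 := d7_2 (iv F71860) D33038 (iv D31999)
theorem F76084 : act 4 n33038 = n32175 := d8_2 (iv F71861) D33038 (iv D32175)
theorem F76085 : act 5 n33038 = n32256 := d9_2 (iv F71862) D33038 F72873 (iv F72522) F72520
theorem F76086 : act 6 n33038 = n33012 := d10_2 D31997 D33038 F75983 F74830 (iv D31996)
def n33039 : Q := act 0 n31999
theorem D33039 : act 0 n31999 = n33039 := rfl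
theorem F76087 : act 2 n33039 = n33007 := d1_2 (iv F71866) D33039 F75966
theorem F76088 : act 4 n33039 = n32000 := d3_2 (iv F71867) D33039 (iv D32000)
theorem F76089 : act 5 n33039 = n33006 := d4_2 F71869 D33039 F75962
theorem F76090 : act 6 n33039 = n33011 := d5_2 (iv F71868) D33039 F75977
def n33040 : Q := act 1 n32001
theorem D33040 : act 1 n32001 = n33040 := rfl
theorem F76091 : act 4 n33040 = n32002 := d8_2 (iv F71874) D33040 (iv D32002)
theorem F76092 : act 6 n33040 = n33020 := d10_2 (iv F71875) D33040 (iv D33020) (iv D31965) D31964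
def n33041 : Q := act 0 n32002
theorem D33041 : act 0 n32002 = n33041 := rfl
theorem F76093 : act 1 n33041 = n33013 := d0_2 D32002 D33041 (iv D33013) (iv D31942) (iv D29362) (iv D25656) (iv F41384) D25701 D29427
theorem F76094 : act 2 n33041 = n32110 := d1_2 F75989 D33041 (iv F75988)
theorem F76095 : act 3 n33041 = n32004 := d2_2 (iv F71876) D33041 (iv D32004)
theorem F76096 : act 6 n33041 = n33022 := d5_2 (iv F71877) D33041 (iv D33022)
theorem F76097 : act 5 n33041 = n32064 := d22_0 (iv F72174) F72173 (iv F71877) D33041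
def n33042 : Q := act 5 n32002
theorem D33042 : act 5 n32002 = n33042 := rfl
theorem F76098 : act 0 n33042 = n32064 := d4_1 D33042 (iv F76097) (iv D33041)
theorem F76099 : act 1 n33042 = n33014 := d9_1 D33042 F76043 (iv D33028) F71798 D32002
theorem F76100 : act 2 n33042 = n33028 := d13_1 D33042 (iv F76043) F75989
theorem F76101 : act 3 n33042 = n32006 := d16_1 D33042 (iv D32006) (iv F71876)
theorem F76102 : act 6 n33042 = n33008 := d20_2 (iv F71877) D33042 (iv F76018) (iv F76096) F76097 (iv F72174) F72173
def n33043 : Q := act 4 n32003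
theorem D33043 : act 4 n32003 = n33043 := rfl
theorem F76103 : act 0 n33043 = n33024 := d3_1 D33043 (iv D33024) (iv F71878)
theorem F76104 : act 1 n33043 = n32025 := d8_1 D33043 (iv F71950) (iv F71879)
theorem F76105 : act 2 n33043 = n33031 := d12_1 D33043 (iv D33031) (iv F71880)
theorem F76106 : act 3 n33043 = n32763 := d15_1 D33043 F74925 (iv D32045) F63453 D32003
theorem F76107 : act 5 n33043 = n33031 := d18_2 (iv F71881) D33043 (iv D33031)
theorem F76108 : act 6 n33043 = n32010 := d19_2 (iv F71882) D33043 (iv D32010)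
def n33044 : Q := act 3 n32005
theorem D33044 : act 3 n32005 = n33044 := rfl
theorem F76109 : act 0 n33044 = n32702 := d2_1 D33044 (iv F75715) F75714
theorem F76110 : act 1 n33044 = n32957 := d7_1 D33044 F75753 F71887
theorem F76111 : act 6 n33044 = n33026 := d17_2 (iv F71886) D33044 (iv D33026)
def n33045 : Q := act 5 n32005
theorem D33045 : act 5 n32005 = n33045 := rfl
theorem F76112 : act 0 n33045 = n32066 := d4_1 D33045 (iv F75716) F75714
theorem F76113 : act 1 n33045 = n32759 := d9_1 D33045 F74909 (iv F71227) (iv F71236) F71887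
theorem F76114 : act 2 n33045 = n32006 := d13_1 D33045 (iv D32006) D32005
theorem F76115 : act 4 n33045 = n32948 := d18_1 D33045 F75716 F72098
theorem F76116 : act 6 n33045 = n32533 := d20_2 (iv F71886) D33045 (iv F76032) F76033 F75716 F72099 (iv F71777)
def n33046 : Q := act 4 n32009
theorem D33046 : act 4 n32009 = n33046 := rfl
theorem F76117 : act 0 n33046 = n32071 := d3_1 D33046 F72119 (iv F71898)
theorem F76118 : act 1 n33046 = n32353 := d8_1 D33046 F73267 (iv F71899)
theorem F76119 : act 2 n33046 = n32010 := d12_1 D33046 (iv D32010) D32009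
theorem F76120 : act 5 n33046 = n32359 := d18_2 (iv F71901) D33046 F73289
theorem F76121 : act 6 n33046 = n33031 := d19_2 (iv F71902) D33046 (iv D33031)
theorem F76122 : act 3 n33046 = n32356 := d25_1 D33046 (iv F75316) (iv F75711) F75710 F71081 F69432 (iv D30160) F54437 F42436 F40769 (iv F41394) D25708 D29435 (iv F64585) F64584 F64273 (iv D29743) (iv D25992) (iv D21595) (iv D16327) (iv F28004) F37349 F33651 D18886 D23314 F46375 (iv D19142) (iv D13920) (iv F24405) D19138 (iv F46923) (iv F46924) D23567 F46991 (iv D22497) (iv D17197) (iv F30182) (iv F44024) (iv F54792) (iv D26534) (iv D22023) F29563 F21954 (iv F20650) (iv F26521) D20565 (iv F50887) F50886 F48112 (iv F48161) D27878 (iv F68387) (iv F73761) F73760 (iv F75809) F75808 (iv F74287) F74289 F67605 (iv F67702) F67701 (iv F68458) F68459 F59727 (iv F60600) F60599 (iv F53337) (iv F64174) (iv F69984) (iv F75200) F75199 F70581 (iv D30618) (iv D27234) (iv F57019) D30590 (iv F71899)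
def n33047 : Q := act 5 n32015
theorem D33047 : act 5 n32015 = n33047 := rfl
theorem F76123 : act 0 n33047 = n32845 := d4_1 D33047 F75266 (iv F71925)
theorem F76124 : act 1 n33047 = n32035 := d9_1 D33047 (iv D32035) (iv D29454) (iv F63342) D32015
theorem F76125 : act 2 n33047 = n32844 := d13_1 D33047 F75262 F74170
theorem F76126 : act 3 n33047 = n32859 := d16_1 D33047 F75326 (iv F71926)
theorem F76127 : act 4 n33047 = n32582 := d18_1 D33047 (iv F75262) F75261
theorem F76128 : act 6 n33047 = n32327 := d20_2 (iv F71927) D33047 (iv F73804) F73805 (iv F75266) F75267 F73851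
def n33048 : Q := act 2 n32023
theorem D33048 : act 2 n32023 = n33048 := rfl
theorem F76129 : act 1 n33048 = n33031 := d6_1 D33048 (iv F76105) F76104 (iv D32025) (iv F71946)
theorem F76130 : act 6 n33048 = n32517 := d14_2 F74154 D33048 (iv F74151)
theorem F76131 : act 4 n33029 = n33048 := d8_0 F76129 (iv D33031) (iv F76045)
def n33049 : Q := act 4 n32023
theorem D33049 : act 4 n32023 = n33049 := rfl
theorem F76132 : act 0 n33049 = n33048 := d3_1 D33049 (iv F76131) F76044
theorem F76133 : act 1 n33049 = n32026 := d8_1 D33049 (iv D32026) (iv F71946)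
theorem F76134 : act 2 n33049 = n33029 := d12_1 D33049 F76131 (iv D33048)
theorem F76135 : act 5 n33049 = n33048 := d18_2 F76046 D33049 (iv F76131)
theorem F76136 : act 6 n33049 = n32543 := d19_2 F74154 D33049 (iv F74152)
def n33050 : Q := act 2 n32041
theorem D33050 : act 2 n32041 = n33050 := rfl
theorem F76137 : act 0 n33050 = n32924 := d1_1 D33050 F75618 (iv F72023)
theorem F76138 : act 1 n33050 = n32934 := d6_1 D33050 F75661 (iv D32290) (iv F73012) (iv F73015)
theorem F76139 : act 3 n33050 = n33050 := d11_2 D32041 D33050 (iv D33050) (iv D32041) F63439 F52811 D29424 (iv F71820) (iv F75618) F75619 F75618 F71820 (iv D29424) (iv F52811) (iv F63439)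
theorem F76140 : act 4 n33050 = n32923 := d12_2 (iv F72024) D33050 F75615
theorem F76141 : act 5 n33050 = n33050 := d13_2 F72025 D33050 (iv D33050)
def n33051 : Q := act 6 n32041
theorem D33051 : act 6 n32041 = n33051 := rfl
theorem F76142 : act 0 n33051 = n32216 := d5_1 D33051 F72703 (iv F72023)
theorem F76143 : act 1 n33051 = n32075 := d10_1 D33051 F73010 (iv D32288) D32289 (iv F73015)
theorem F76144 : act 3 n33051 = n32042 := d17_1 D33051 (iv D32042) D32041
theorem F76145 : act 4 n33051 = n32074 := d19_1 D33051 F72133 (iv F72024)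
theorem F76146 : act 5 n33051 = n32216 := d22_2 F72025 D33051 F72703 (iv F72023)
def n33052 : Q := act 2 n32043
theorem D33052 : act 2 n32043 = n33052 := rfl
theorem F76147 : act 0 n33052 = n32169 := d1_1 D33052 F72523 F72082
theorem F76148 : act 1 n33052 = n32209 := d6_1 D33052 F72675 (iv F72027) F72028 D32043
theorem F76149 : act 4 n33052 = n32044 := d12_2 (iv F72032) D33052 (iv D32044)
theorem F76150 : act 5 n33052 = n33018 := d13_2 F72077 D33052 F76004
theorem F76151 : act 6 n33052 = n32063 := d14_2 (iv F72033) D33052 (iv D32063)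
theorem F76152 : act 3 n33052 = n32164 := d21_7 (iv F72513) F72514 F72081 F63500 D31974 (iv F72031) D33052 F72503
def n33053 : Q := act 3 n32048
theorem D33053 : act 3 n32048 = n33053 := rfl
theorem F76153 : act 0 n33053 = n32806 := d2_1 D33053 (iv D32806) (iv F72049)
theorem F76154 : act 1 n33053 = n32049 := d7_1 D33053 (iv D32049) D32048
theorem F76155 : act 5 n33053 = n32806 := d16_2 (iv F72052) D33053 (iv D32806)
def n33054 : Q := act 6 n32048
theorem D33054 : act 6 n32048 = n33054 := rfl
theorem F76156 : act 0 n33054 = n32807 := d5_1 D33054 (iv D32807) (iv F72049)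
theorem F76157 : act 1 n33054 = n32800 := d10_1 D33054 (iv F75071) F75067 (iv D32050) D32048
theorem F76158 : act 2 n33054 = n33030 := d14_1 D33054 (iv D33030) (iv F72050)
theorem F76159 : act 4 n33054 = n33030 := d19_1 D33054 (iv D33030) (iv F72051)
theorem F76160 : act 5 n33054 = n33054 := d20_1 D33054 (iv D33054) F72052 D32807 F75086 (iv D32807) (iv F72052)
def n33055 : Q := act 4 n32049
theorem D33055 : act 4 n32049 = n33055 := rfl
theorem F76161 : act 0 n33055 = n32052 := d3_1 D33055 (iv D32052) (iv F72053)
theorem F76162 : act 2 n33055 = n32764 := d12_1 D33055 (iv F75490) F75488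
theorem F76163 : act 3 n33055 = n33031 := d15_1 D33055 (iv D33031) (iv D31978) (iv F63471) D32049
theorem F76164 : act 5 n33055 = n32763 := d18_2 (iv F72054) D33055 F74925
theorem F76165 : act 6 n32356 = n33055 := d20_0 F76164 F74926 (iv F75227) F75228 (iv F73292) (iv D32360) (iv F73274)
def n33056 : Q := act 6 n32049
theorem D33056 : act 6 n32049 = n33056 := rfl
theorem F76166 : act 0 n33056 = n32054 := d5_1 D33056 (iv D32054) (iv F72053)
theorem F76167 : act 2 n33056 = n32261 := d14_1 D33056 (iv F75491) F75488
theorem F76168 : act 3 n33056 = n32050 := d17_1 D33056 (iv D32050) D32049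
theorem F76169 : act 4 n33056 = n32356 := d19_1 D33056 F76165 (iv D33055)
theorem F76170 : act 5 n33056 = n32068 := d20_1 D33056 F72109 (iv D32053) D32054 F72065 (iv F72040) (iv F72054)
theorem F76171 : act 1 n32354 = n33056 := d24_14 (iv D33056) F72054 F72039 F63456 D29481 (iv F68824) (iv D31082) (iv F61200) F61199 F63482 (iv F68852) (iv F73271) (iv D32355) D32354
def n33057 : Q := act 1 n32051
theorem D33057 : act 1 n32051 = n33057 := rfl
theorem F76172 : act 2 n33057 = n32056 := d6_2 D32051 D33057 (iv D32056) (iv D29487) (iv F63473)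
theorem F76173 : act 3 n33057 = n32370 := d7_2 F75305 D33057 F75308
theorem F76174 : act 4 n33057 = n32301 := d8_2 F75323 D33057 (iv F75320)
theorem F76175 : act 5 n33057 = n32232 := d9_2 F75486 D33057 (iv D32232) (iv F71042) (iv F75481)
theorem F76176 : act 0 n33057 = n32302 := d23_3 (iv D32053) D32051 D33057 (iv D32302) F65251 F54223 (iv F42482) F42484 F42302 (iv F42290) (iv F54197) F59443 D31083 (iv F69785) (iv F75087) F75088 F71943 (iv F72039) (iv F72061)
theorem F76177 : act 6 n33057 = n32590 := d24_3 (iv F75485) F75486 D33057 F74208 (iv D31388) (iv F68640) (iv F69929) (iv F74934) F74938 (iv F70696) F70694 D31646 (iv F73295) F75292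
def n33058 : Q := act 6 n32057
theorem D33058 : act 6 n32057 = n33058 := rfl
theorem F76178 : act 0 n33058 = n32061 := d5_1 D33058 (iv D32061) (iv F72074)
theorem F76179 : act 3 n33058 = n33027 := d17_1 D33058 (iv D33027) (iv F72076)
theorem F76180 : act 4 n33058 = n32058 := d19_1 D33058 (iv D32058) D32057
theorem F76181 : act 5 n33058 = n32062 := d20_1 D33058 F72091 (iv D32060) D32061 F72088 (iv F72033) (iv F72077)
def n33059 : Q := act 1 n32062
theorem D33059 : act 1 n32062 = n33059 := rfl
theorem F76182 : act 3 n33059 = n33040 := d7_2 (iv F72089) D33059 (iv D33040)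
theorem F76183 : act 4 n33059 = n32064 := d8_2 (iv F72090) D33059 (iv D32064)
def n33060 : Q := act 2 n32062
theorem D33060 : act 2 n32062 = n33060 := rfl
theorem F76184 : act 0 n33060 = n32063 := d1_1 D33060 (iv D32063) D32062
theorem F76185 : act 4 n33060 = n32065 := d12_2 (iv F72090) D33060 (iv D32065)
theorem F76186 : act 6 n33060 = n32169 := d14_2 (iv F72091) D33060 F72523
theorem F76187 : act 1 n32211 = n33060 := d10_5 F76186 F72520 F64145 (iv F64441) D32211
theorem F76188 : act 3 n32170 = n33060 := d17_3 F76186 (iv D32169) D32170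
def n33061 : Q := act 3 n32063
theorem D33061 : act 3 n32063 = n33061 := rfl
theorem F76189 : act 0 n33061 = n32170 := d2_1 D33061 F76188 F76184
theorem F76190 : act 1 n33061 = n32738 := d7_1 D33061 F74819 (iv F72252)
theorem F76191 : act 4 n33061 = n32165 := d15_2 (iv F72092) D33061 F72506 (iv F64915) F64914
theorem F76192 : act 6 n33061 = n32164 := d17_2 F76151 D33061 (iv F76152)
def n33062 : Q := act 4 n32072
theorem D33062 : act 4 n32072 = n33062 := rfl
theorem F76193 : act 0 n33062 = n33062 := d3_1 D33062 (iv D33062) F72122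
theorem F76194 : act 2 n33062 = n32073 := d12_1 D33062 (iv D32073) D32072
theorem F76195 : act 3 n33062 = n33062 := d15_1 D33062 (iv D33062) (iv F75641) F75640 F75641
theorem F76196 : act 5 n33062 = n33017 := d18_2 (iv F72123) D33062 (iv D33017)
theorem F76197 : act 6 n33062 = n33017 := d19_2 (iv F72124) D33062 (iv D33017)
def n33063 : Q := act 6 n32079
theorem D33063 : act 6 n32079 = n33063 := rfl
theorem F76198 : act 0 n33063 = n32211 := d5_1 D33063 (iv D32211) (iv F72150)
theorem F76199 : act 1 n33063 = n33019 := d10_1 D33063 F76011 (iv D32214) (iv F72538) F72536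
theorem F76200 : act 2 n33063 = n32082 := d14_1 D33063 (iv D32082) (iv F72151)
theorem F76201 : act 3 n33063 = n32206 := d17_1 D33063 (iv D32206) (iv F72152)
theorem F76202 : act 4 n33063 = n32081 := d19_1 D33063 (iv D32081) (iv F72153)
theorem F76203 : act 5 n33063 = n32288 := d20_1 D33063 (iv F73010) F72137 D32211 F72682 (iv D32080) D32079
def n33064 : Q := act 1 n32082
theorem D33064 : act 1 n32082 = n33064 := rfl
theorem F76204 : act 2 n33064 = n33021 := d6_2 F76200 D33064 (iv D33021) (iv F76008) (iv F76199)
theorem F76205 : act 3 n33064 = n33020 := d7_2 (iv F72161) D33064 (iv D33020)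
theorem F76206 : act 4 n33064 = n32085 := d8_2 (iv F72162) D33064 (iv D32085)
theorem F76207 : act 5 n33064 = n33020 := d9_2 (iv F72163) D33064 (iv D33020) F71765 (iv F72144)
theorem F76208 : act 6 n33064 = n33059 := d10_2 D32082 D33064 (iv D33059) F72091 F72083
def n33065 : Q := act 1 n32084
theorem D33065 : act 1 n32084 = n33065 := rfl
theorem F76209 : act 2 n33065 = n33059 := d6_2 F72679 D33065 (iv D33059) D33060 (iv F76187)
theorem F76210 : act 3 n33065 = n33021 := d7_2 (iv F72168) D33065 (iv D33021)
theorem F76211 : act 4 n33065 = n32086 := d8_2 (iv F72169) D33065 (iv D32086)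
theorem F76212 : act 6 n33065 = n33021 := d10_2 (iv F72170) D33065 (iv D33021) F71768 (iv F72139)
def n33066 : Q := act 4 n32087
theorem D33066 : act 4 n32087 = n33066 := rfl
theorem F76213 : act 0 n33066 = n32996 := d3_1 D33066 F75917 F72267
theorem F76214 : act 1 n33066 = n32817 := d8_1 D33066 F75133 F74128
theorem F76215 : act 2 n33066 = n32095 := d12_1 D33066 (iv D32095) (iv F72179)
theorem F76216 : act 3 n33066 = n32322 := d15_1 D33066 F73145 F71659 (iv F63597) D32087
theorem F76217 : act 5 n33066 = n32321 := d18_2 F72280 D33066 F73143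
theorem F76218 : act 6 n33066 = n32095 := d19_2 (iv F72178) D33066 (iv D32095)
def n33067 : Q := act 3 n32088
theorem D33067 : act 3 n32088 = n33067 := rfl
theorem F76219 : act 1 n33067 = n32487 := d7_1 D33067 F73798 (iv F72180)
theorem F76220 : act 6 n33067 = n32525 := d17_2 (iv F72182) D33067 F73945
def n33068 : Q := act 5 n32089
theorem D33068 : act 5 n32089 = n33068 := rfl
theorem F76221 : act 0 n33068 = n32091 := d4_1 D33068 (iv D32091) D32089
theorem F76222 : act 2 n33068 = n32109 := d13_1 D33068 F72264 F72186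
theorem F76223 : act 3 n33068 = n33007 := d16_1 D33068 (iv D33007) (iv F72184)
theorem F76224 : act 4 n33068 = n32092 := d18_1 D33068 (iv D32092) (iv F72185)
theorem F76225 : act 6 n33068 = n32109 := d20_2 F72190 D33068 F72264 F72166 D32091 F72197 (iv F72192)
def n33069 : Q := act 4 n32093
theorem D33069 : act 4 n32093 = n33069 := rfl
theorem F76226 : act 0 n33069 = n32095 := d3_1 D33069 (iv D32095) (iv F72202)
theorem F76227 : act 1 n33069 = n32994 := d8_1 D33069 (iv F75915) F75905
theorem F76228 : act 2 n33069 = n32996 := d12_1 D33069 F75917 F72269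
theorem F76229 : act 3 n33069 = n33003 := d15_1 D33069 (iv D33003) (iv D31921) (iv F63616) D32093
theorem F76230 : act 5 n33069 = n33016 := d18_2 F72285 D33069 F75999
theorem F76231 : act 6 n33069 = n32996 := d19_2 F72271 D33069 F75917
def n33070 : Q := act 5 n32103
theorem D33070 : act 5 n32103 = n33070 := rfl
theorem F76232 : act 0 n33070 = n32997 := d4_1 D33070 F75922 F73011
theorem F76233 : act 1 n33070 = n32210 := d9_1 D33070 F72990 F72987 (iv F72149) F72239
theorem F76234 : act 2 n33070 = n32105 := d13_1 D33070 (iv D32105) (iv F72237)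
theorem F76235 : act 3 n33070 = n33037 := d16_1 D33070 F76081 F72539
theorem F76236 : act 4 n33070 = n32205 := d18_1 D33070 (iv D32205) (iv F72238)
theorem F76237 : act 6 n33070 = n32260 := d20_2 D32103 D33070 F72892 D32289 (iv F75922) (iv D32997) F71618
def n33071 : Q := act 1 n32105
theorem D33071 : act 1 n32105 = n33071 := rfl
theorem F76238 : act 2 n33071 = n32170 := d6_2 F76234 D33071 F72524 (iv F72677) (iv F76233)
theorem F76239 : act 3 n33071 = n32107 := d7_2 (iv F72245) D33071 (iv D32107)
theorem F76240 : act 4 n33071 = n32168 := d8_2 (iv F72246) D33071 F72516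
theorem F76241 : act 5 n33071 = n33061 := d9_2 D32105 D33071 F76190 F74821 (iv D32104)
theorem F76242 : act 6 n33071 = n32167 := d10_2 (iv F72247) D33071 F72512 (iv F72879) F72877
def n33072 : Q := act 0 n32107
theorem D33072 : act 0 n32107 = n33072 := rfl
theorem F76243 : act 1 n33072 = n33039 := d0_2 D32107 D33072 (iv D33039) (iv D31999) F63305 D31939 (iv F71837) F71838 (iv F63652)
theorem F76244 : act 2 n33072 = n33058 := d1_2 (iv F72253) D33072 F76178
theorem F76245 : act 4 n33072 = n32108 := d3_2 (iv F72254) D33072 (iv D32108)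
theorem F76246 : act 5 n33072 = n33060 := d4_2 (iv F72255) D33072 F76184
theorem F76247 : act 6 n33072 = n33018 := d5_2 F72256 D33072 (iv F76006)
def n33073 : Q := act 1 n32109
theorem D33073 : act 1 n32109 = n33073 := rfl
theorem F76248 : act 3 n33073 = n33010 := d7_2 (iv F72262) D33073 (iv D33010)
theorem F76249 : act 4 n33073 = n32110 := d8_2 (iv F72263) D33073 (iv D32110)
theorem F76250 : act 5 n33073 = n33065 := d9_2 (iv F72264) D33073 (iv D33065) (iv D32084) D32083
def n33074 : Q := act 3 n32112
theorem D33074 : act 3 n32112 = n33074 := rfl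
theorem F76251 : act 0 n33074 = n32688 := d2_1 D33074 (iv F75665) F75664
theorem F76252 : act 1 n33074 = n32944 := d7_1 D33074 F75699 (iv F72274)
theorem F76253 : act 2 n33074 = n33044 := d11_1 D33074 (iv D33044) (iv D32005) (iv F71876) (iv F75989) F75990 F75667 F75665 (iv F74657) (iv F75715) (iv F75717) (iv F76095) F76094 F72265 D32112
theorem F76254 : act 5 n33074 = n33067 := d16_2 (iv F72273) D33074 (iv D33067)
def n33075 : Q := act 1 n32121
theorem D33075 : act 1 n32121 = n33075 := rfl
theorem F76255 : act 0 n33075 = n32848 := d0_1 D33075 (iv F75295) F75294 F72893 (iv F72899) F72900 F69852 (iv F68439) (iv F72307)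
theorem F76256 : act 2 n33075 = n32123 := d6_2 D32121 D33075 (iv D32123) (iv D29594) (iv F63743)
theorem F76257 : act 4 n33075 = n32615 := d8_2 (iv F72308) D33075 (iv D32615)
theorem F76258 : act 5 n33075 = n32846 := d9_2 F73915 D33075 F75269 F70254 (iv F73913)
def n33076 : Q := act 3 n32121
theorem D33076 : act 3 n32121 = n33076 := rfl
theorem F76259 : act 0 n33076 = n32616 := d2_1 D33076 (iv D32616) (iv F72307)
theorem F76260 : act 2 n33076 = n32638 := d11_1 D33076 F74419 (iv D32119) F63715 (iv F52998) (iv F57628) (iv F67672) D32616 F74322 F71025 (iv D29582) F52989 D25825 D29589 D32121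
theorem F76261 : act 4 n33076 = n32240 := d15_2 (iv F72308) D33076 F72804 F71997 (iv F67668)
theorem F76262 : act 5 n33076 = n32239 := d16_2 F73915 D33076 (iv F73917)
theorem F76263 : act 6 n33076 = n32296 := d17_2 (iv F72309) D33076 (iv F73046)
def n33077 : Q := act 6 n32123
theorem D33077 : act 6 n32123 = n33077 := rfl
theorem F76264 : act 4 n33077 = n32872 := d19_1 D33077 (iv D32872) (iv F72314)
def n33078 : Q := act 4 n32129
theorem D33078 : act 4 n32129 = n33078 := rfl
theorem F76265 : act 0 n33078 = n32434 := d3_1 D33078 F73615 F72346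
theorem F76266 : act 1 n33078 = n32130 := d8_1 D33078 (iv D32130) D32129
theorem F76267 : act 2 n33078 = n32431 := d12_1 D33078 F73610 (iv F72342)
theorem F76268 : act 3 n33078 = n32941 := d15_1 D33078 F75686 F71072 (iv F69464) (iv F72343)
theorem F76269 : act 5 n33078 = n32611 := d18_2 (iv F72344) D33078 F74299
theorem F76270 : act 6 n33078 = n32430 := d19_2 (iv F72345) D33078 F73605
def n33079 : Q := act 1 n32139
theorem D33079 : act 1 n32139 = n33079 := rfl
theorem F76271 : act 3 n33079 = n32928 := d7_2 (iv F72391) D33079 F75635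
theorem F76272 : act 4 n33079 = n32450 := d8_2 (iv F72392) D33079 F73669
theorem F76273 : act 5 n33079 = n32701 := d9_2 D32139 D33079 (iv F74721) F74725 (iv D32137)
theorem F76274 : act 6 n33079 = n32445 := d10_2 (iv F72393) D33079 (iv D32445) (iv F67593) (iv F70826)
def n33080 : Q := act 2 n32140
theorem D33080 : act 2 n32140 = n33080 := rfl
theorem F76275 : act 0 n33080 = n32681 := d1_1 D33080 F74592 (iv F72394)
theorem F76276 : act 3 n33080 = n32707 := d11_2 (iv F72395) D33080 F74676 F68567 F59066 F48377 (iv F58905) (iv F68415) (iv F74592) F74593 (iv D32676) (iv D30966) (iv D27864) (iv F58875) (iv F63870)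
theorem F76277 : act 4 n33080 = n32707 := d12_2 (iv F72396) D33080 F74676
theorem F76278 : act 5 n33080 = n32693 := d13_2 (iv F72397) D33080 (iv D32693)
theorem F76279 : act 6 n33080 = n32269 := d14_2 (iv F72398) D33080 (iv D32269)
def n33081 : Q := act 6 n32142
theorem D33081 : act 6 n32142 = n33081 := rfl
theorem F76280 : act 0 n33081 = n32599 := d5_1 D33081 (iv F75197) F75193
theorem F76281 : act 2 n33081 = n32656 := d14_1 D33081 F74502 F72496
theorem F76282 : act 3 n33081 = n32225 := d17_1 D33081 (iv F73884) F73885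
theorem F76283 : act 4 n33081 = n32143 := d19_1 D33081 (iv D32143) D32142
theorem F76284 : act 5 n33081 = n32334 := d20_1 D33081 F73194 D32830 F75197 F74250 (iv F75192) F75191
def n33082 : Q := act 1 n32144
theorem D33082 : act 1 n32144 = n33082 := rfl
theorem F76285 : act 2 n33082 = n32444 := d6_2 (iv F72409) D33082 F73650 F72478 F64057
theorem F76286 : act 3 n33082 = n32954 := d7_2 F73941 D33082 F75738
theorem F76287 : act 4 n33082 = n32145 := d8_2 (iv F72410) D33082 (iv D32145)
theorem F76288 : act 5 n33082 = n32443 := d9_2 D32144 D33082 (iv F75188) F75191 F72403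
theorem F76289 : act 6 n33082 = n32600 := d10_2 (iv F72411) D33082 F74253 F69556 (iv F72333)
theorem F76290 : act 0 n33082 = n32447 := d23_3 D29635 (iv F72409) D33082 (iv D32447) (iv D30402) (iv F56064) (iv F56076) F56078 (iv F66529) D32465 (iv F74663) F74666 F73749 F73669 (iv D31196) F63889 F63886 F53098 (iv F53105)
def n33083 : Q := act 1 n32149
theorem D33083 : act 1 n32149 = n33083 := rfl
theorem F76291 : act 2 n33083 = n32305 := d6_2 D32149 D33083 (iv D32305) F65267 (iv F63947)
theorem F76292 : act 3 n33083 = n32789 := d7_2 F75795 D33083 (iv F75799)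
theorem F76293 : act 4 n33083 = n32343 := d8_2 (iv F72433) D33083 (iv D32343)
theorem F76294 : act 5 n33083 = n32826 := d9_2 (iv F72434) D33083 F75173 F71640 F69718
theorem F76295 : act 6 n33083 = n32787 := d10_2 (iv F72435) D33083 F75002 F70050 (iv F68790)
theorem F76296 : act 0 n33083 = n32788 := d23_3 (iv F63945) D32149 D33083 F75010 F70683 (iv D31550) F61669 (iv F61012) F61009 D30676 (iv F73787) F73790 (iv F72381) (iv D32137) F63861 D29630 F63891 (iv F54388) F59226
def n33084 : Q := act 6 n32150
theorem D33084 : act 6 n32150 = n33084 := rfl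
theorem F76297 : act 0 n33084 = n32342 := d5_1 D33084 (iv F75798) F75794
theorem F76298 : act 1 n33084 = n33077 := d10_1 D33084 (iv D33077) (iv D32123) (iv F67099) (iv F72436)
theorem F76299 : act 2 n33084 = n32866 := d14_1 D33084 F75358 F74456
theorem F76300 : act 3 n33084 = n32151 := d17_1 D33084 (iv D32151) D32150
theorem F76301 : act 4 n33084 = n32536 := d19_1 D33084 (iv D32536) (iv F72437)
theorem F76302 : act 5 n33084 = n32336 := d20_1 D33084 (iv F74702) (iv F75797) F75798 (iv D32342) F70659 (iv F72438)
def n33085 : Q := act 1 n32151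
theorem D33085 : act 1 n32151 = n33085 := rfl
theorem F76303 : act 0 n33085 = n32856 := d0_1 D33085 F75312 F70165 (iv D31066) F59333 D28034 D31072 (iv F68790) (iv F72439)
theorem F76304 : act 2 n33085 = n32855 := d6_2 (iv F72440) D33085 F75309 F72740 F64579
theorem F76305 : act 3 n33085 = n33077 := d7_2 F76300 D33085 (iv F76298)
theorem F76306 : act 4 n33085 = n32337 := d8_2 (iv F72441) D33085 (iv D32337)
theorem F76307 : act 6 n33085 = n32755 := d10_2 D32151 D33085 (iv D32755) (iv F72430) F72427
def n33086 : Q := act 4 n32163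
theorem D33086 : act 4 n32163 = n33086 := rfl
theorem F76308 : act 0 n33086 = n32167 := d3_1 D33086 (iv D32167) (iv F72499)
theorem F76309 : act 1 n33086 = n32287 := d8_1 D33086 F73004 (iv F72501)
theorem F76310 : act 2 n33086 = n32164 := d12_1 D33086 (iv D32164) D32163
theorem F76311 : act 3 n33086 = n33018 := d15_1 D33086 F76005 (iv F72509) F72510 (iv F72500)
theorem F76312 : act 5 n33086 = n32164 := d18_2 F72502 D33086 (iv D32164)
def n33087 : Q := act 5 n32170
theorem D33087 : act 5 n32170 = n33087 := rfl
theorem F76313 : act 0 n33087 = n33071 := d4_1 D33087 F76241 F76189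
theorem F76314 : act 2 n33087 = n33061 := d13_1 D33087 (iv F76241) F76238
theorem F76315 : act 3 n33087 = n33072 := d16_1 D33087 F76246 (iv F76188)
theorem F76316 : act 4 n33087 = n32171 := d18_1 D33087 (iv D32171) (iv F72525)
theorem F76317 : act 6 n33087 = n33086 := d20_2 D32170 D33087 F76312 (iv F76192) (iv F76241) F76242 F72515
def n33088 : Q := act 5 n32184
theorem D33088 : act 5 n32184 = n33088 := rfl
theorem F76318 : act 0 n33088 = n32678 := d4_1 D33088 (iv D32678) (iv F72581)
theorem F76319 : act 2 n33088 = n32185 := d13_1 D33088 (iv D32185) D32184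
theorem F76320 : act 3 n33088 = n32695 := d16_1 D33088 (iv F74641) F72929
theorem F76321 : act 4 n33088 = n32695 := d18_1 D33088 (iv F74641) F72930
theorem F76322 : act 6 n33088 = n32694 := d20_2 F74677 D33088 F74636 F74580 D32678 (iv F74584) D32707
def n33089 : Q := act 1 n32189
theorem D33089 : act 1 n32189 = n33089 := rfl
theorem F76323 : act 0 n33089 = n33089 := d0_1 D33089 (iv D33089) F72604 D32191 (iv F74551) F74552 F74551 (iv D32191) (iv F72604)
theorem F76324 : act 2 n33089 = n33089 := d6_2 (iv F72605) D33089 (iv D33089) F72605 F64330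
def n33090 : Q := act 1 n32192
theorem D33090 : act 1 n32192 = n33090 := rfl
theorem F76325 : act 3 n33090 = n32194 := d7_2 (iv F72614) D33090 (iv D32194)
theorem F76326 : act 4 n33090 = n32377 := d8_2 (iv F72615) D33090 (iv D32377)
def n33091 : Q := act 1 n32203
theorem D33091 : act 1 n32203 = n33091 := rfl
theorem F76327 : act 2 n33091 = n32692 := d6_2 (iv F72654) D33091 (iv D32692) (iv D30986) (iv F64403)
theorem F76328 : act 3 n33091 = n32938 := d7_2 (iv F72655) D33091 (iv D32938)
theorem F76329 : act 4 n33091 = n32520 := d8_2 (iv F72656) D33091 (iv D32520)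
def n33092 : Q := act 1 n32212
theorem D33092 : act 1 n32212 = n33092 := rfl
theorem F76330 : act 0 n33092 = n32256 := d0_1 D33092 F72873 F76006 (iv D33018) F72694 (iv D32214) F64469 D31994 (iv F72683)
theorem F76331 : act 2 n33092 = n32254 := d6_2 F72989 D33092 F74782 F74778 (iv F72987)
theorem F76332 : act 3 n33092 = n33006 := d7_2 (iv F72684) D33092 F75963
theorem F76333 : act 4 n33092 = n32213 := d8_2 (iv F72685) D33092 (iv D32213)
theorem F76334 : act 6 n33092 = n32254 := d10_2 (iv F72686) D33092 F74782 F74781 F72987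
def n33093 : Q := act 1 n32225
theorem D33093 : act 1 n32225 = n33093 := rfl
theorem F76335 : act 0 n33093 = n32874 := d0_1 D33093 (iv F75408) F75407 F72548 (iv F72554) F72555 F69975 (iv F68529) (iv F72736)
theorem F76336 : act 2 n33093 = n32229 := d6_2 D32225 D33093 (iv D32229) (iv D29842) (iv F64571)
theorem F76337 : act 4 n33093 = n32597 := d8_2 (iv F72737) D33093 (iv D32597)
theorem F76338 : act 5 n33093 = n33077 := d9_2 (iv F72738) D33093 (iv F76298) F76302 F73202
theorem F76339 : act 6 n33093 = n32847 := d10_2 F73884 D33093 F75274 F70101 (iv F73881)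
def n33094 : Q := act 5 n32229
theorem D33094 : act 5 n32229 = n33094 := rfl
theorem F76340 : act 2 n33094 = n33077 := d13_1 D33094 (iv F76338) F76336
theorem F76341 : act 4 n33094 = n32843 := d18_1 D33094 (iv D32843) (iv F72756)
theorem F76342 : act 6 n33094 = n33075 := d22_1 D33094 F76258 F75271 F75164
def n33095 : Q := act 1 n32237
theorem D33095 : act 1 n32237 = n33095 := rfl
theorem F76343 : act 3 n33095 = n32927 := d7_2 (iv F72794) D33095 (iv D32927)
theorem F76344 : act 4 n33095 = n32437 := d8_2 (iv F72795) D33095 F73627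
theorem F76345 : act 5 n33095 = n32432 := d9_2 (iv F72796) D33095 (iv D32432) (iv F67618) (iv F70851)
theorem F76346 : act 6 n33095 = n32687 := d10_2 D32237 D33095 (iv F74679) F74683 (iv D32235)
def n33096 : Q := act 1 n32243
theorem D33096 : act 1 n32243 = n33096 := rfl
theorem F76347 : act 2 n33096 = n32343 := d6_2 D32243 D33096 (iv D32343) F65543 (iv F64737)
theorem F76348 : act 3 n33096 = n32772 := d7_2 F75855 D33096 (iv F75859)
theorem F76349 : act 4 n33096 = n32305 := d8_2 (iv F72818) D33096 (iv D32305)
theorem F76350 : act 5 n33096 = n32768 := d9_2 (iv F72819) D33096 F74934 F69929 (iv F68641)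
theorem F76351 : act 6 n33096 = n32838 := d10_2 (iv F72820) D33096 F75230 F72044 F69785
theorem F76352 : act 0 n33096 = n32769 := d23_3 (iv F64741) D32243 D33096 (iv D32769) F69596 (iv D28988) (iv F62267) F62270 (iv D26251) (iv F54091) (iv F56835) D30565 (iv F69495) (iv F72333) F72332 (iv F72319) F72317 (iv F64743) F64742
def n33097 : Q := act 5 n32244
theorem D33097 : act 5 n32244 = n33097 := rfl
theorem F76353 : act 0 n33097 = n32304 := d4_1 D33097 (iv F75857) F75854
theorem F76354 : act 1 n33097 = n33094 := d9_1 D33097 (iv D33094) (iv D32229) (iv F67085) (iv F72821)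
theorem F76355 : act 2 n33097 = n32889 := d13_1 D33097 F75466 F74371
theorem F76356 : act 3 n33097 = n32245 := d16_1 D33097 (iv D32245) D32244
theorem F76357 : act 4 n33097 = n32529 := d18_1 D33097 (iv D32529) (iv F72822)
theorem F76358 : act 6 n33097 = n32298 := d20_2 (iv F72823) D33097 (iv F74738) (iv F75858) F75857 (iv D32304) F70634
def n33098 : Q := act 1 n32245
theorem D33098 : act 1 n32245 = n33098 := rfl
theorem F76359 : act 0 n33098 = n32881 := d0_1 D33098 F75427 F70317 (iv D31029) F59117 D27962 D31035 (iv F68641) (iv F72824)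
theorem F76360 : act 2 n33098 = n32880 := d6_2 (iv F72825) D33098 F75424 F72317 (iv F64743)
theorem F76361 : act 3 n33098 = n33094 := d7_2 F76356 D33098 (iv F76354)
theorem F76362 : act 4 n33098 = n32300 := d8_2 (iv F72826) D33098 (iv D32300)
theorem F76363 : act 5 n33098 = n32750 := d9_2 D32245 D33098 (iv D32750) (iv F72814) F72812
def n33099 : Q := act 6 n32258
theorem D33099 : act 6 n32258 = n33099 := rfl
theorem F76364 : act 0 n33099 = n33038 := d5_1 D33099 F76086 F75982
theorem F76365 : act 1 n33099 = n33087 := d10_1 D33099 F76317 F76309 (iv D32287) (iv F72881)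
theorem F76366 : act 2 n33099 = n33012 := d14_1 D33099 (iv F76086) F76082
theorem F76367 : act 3 n33099 = n33039 := d17_1 D33099 F76090 (iv F75981)
theorem F76368 : act 4 n33099 = n32259 := d19_1 D33099 (iv D32259) (iv F72882)
theorem F76369 : act 5 n33099 = n33092 := d20_1 D33099 F76334 (iv F75985) (iv F76086) F76085 F72876 D32258
def n33100 : Q := act 1 n32271
theorem D33100 : act 1 n32271 = n33100 := rfl
theorem F76370 : act 3 n33100 = n32273 := d7_2 (iv F72938) D33100 (iv D32273)
theorem F76371 : act 4 n33100 = n32392 := d8_2 (iv F72939) D33100 (iv D32392)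
theorem F76372 : act 5 n33100 = n33091 := d9_2 (iv F72940) D33100 (iv D33091) (iv D32203) D32202
def n33101 : Q := act 1 n32279
theorem D33101 : act 1 n32279 = n33101 := rfl
theorem F76373 : act 2 n33101 = n32706 := d6_2 (iv F72969) D33101 (iv D32706) (iv D31013) (iv F65096)
theorem F76374 : act 3 n33101 = n32951 := d7_2 (iv F72970) D33101 (iv D32951)
theorem F76375 : act 4 n33101 = n32511 := d8_2 (iv F72971) D33101 (iv D32511)
theorem F76376 : act 6 n33101 = n33090 := d10_2 D32279 D33101 (iv D33090) F72967 (iv D32278)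
theorem F76377 : act 0 n33091 = n33101 := d3_3 F76375 F73928 (iv F76329)
def n33102 : Q := act 1 n32306
theorem D33102 : act 1 n32306 = n33102 := rfl
theorem F76378 : act 2 n33102 = n32907 := d6_2 F74210 D33102 (iv D32907) D32908 F75551
theorem F76379 : act 3 n33102 = n32862 := d7_2 (iv F73089) D33102 (iv D32862)
theorem F76380 : act 4 n33102 = n32307 := d8_2 (iv F73090) D33102 (iv D32307)
theorem F76381 : act 6 n33102 = n32955 := d10_2 D32306 D33102 F75743 F74080 F67892
def n33103 : Q := act 5 n32307
theorem D33103 : act 5 n32307 = n33103 := rfl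
theorem F76382 : act 0 n33103 = n32523 := d4_1 D33103 (iv F75792) F75789
theorem F76383 : act 3 n33103 = n32976 := d16_1 D33103 F75832 F73343
theorem F76384 : act 6 n33103 = n32348 := d20_2 F74379 D33103 (iv F73449) (iv F75793) F75792 F75737 F75736
def n33104 : Q := act 5 n32310
theorem D33104 : act 5 n32310 = n33104 := rfl
theorem F76385 : act 0 n33104 = n32514 := d4_1 D33104 (iv F75683) F75679
theorem F76386 : act 1 n33104 = n33103 := d9_1 D33104 (iv D33103) (iv D32307) (iv F65277) D32310
theorem F76387 : act 3 n33104 = n32990 := d16_1 D33104 F75896 F73347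
theorem F76388 : act 6 n33104 = n32345 := d20_2 F73392 D33104 (iv F74463) (iv F75682) F75683 (iv F75853) F75852
def n33105 : Q := act 1 n32344
theorem D33105 : act 1 n32344 = n33105 := rfl
theorem F76389 : act 2 n33105 = n32898 := d6_2 F74144 D33105 (iv D32898) D32899 F75511
theorem F76390 : act 3 n33105 = n32885 := d7_2 (iv F73234) D33105 (iv D32885)
theorem F76391 : act 4 n33105 = n32345 := d8_2 (iv F73235) D33105 (iv D32345)
theorem F76392 : act 5 n33105 = n32942 := d9_2 D32344 D33105 F75689 F74052 F68079
def n33106 : Q := act 2 n32377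
theorem D33106 : act 2 n32377 = n33106 := rfl
theorem F76393 : act 1 n33106 = n32778 := d6_1 D33106 F74979 (iv F69612) (iv F65819) D32377
def n33107 : Q := act 2 n32392
theorem D33107 : act 2 n32392 = n33107 := rfl
theorem F76394 : act 1 n33107 = n32792 := d6_1 D33107 F75023 (iv F69690) (iv F65877) D32392
def n33108 : Q := act 6 n32433
theorem D33108 : act 6 n32433 = n33108 := rfl
theorem F76395 : act 0 n33108 = n32941 := d5_1 D33108 F75687 F75242
theorem F76396 : act 2 n33108 = n33104 := d14_1 D33108 F76388 (iv F73613)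
theorem F76397 : act 3 n33108 = n32434 := d17_1 D33108 (iv D32434) D32433
theorem F76398 : act 4 n33108 = n32944 := d19_1 D33108 F75700 F75506
theorem F76399 : act 5 n33108 = n32761 := d20_1 D33108 F74920 (iv F75241) (iv F75687) (iv D32941) F74294 F74293
def n33109 : Q := act 1 n32434
theorem D33109 : act 1 n32434 = n33109 := rfl
theorem F76400 : act 4 n33109 = n32438 := d8_2 (iv F73615) D33109 (iv D32438)
theorem F76401 : act 5 n33109 = n32762 := d9_2 (iv F73616) D33109 (iv D32762) (iv D31264) D31263
def n33110 : Q := act 0 n32438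
theorem D33110 : act 0 n32438 = n33110 := rfl
theorem F76402 : act 1 n33110 = n32820 := d0_2 D32438 D33110 F75146 F70443 F69376 (iv D29878) (iv F63794) D32129 (iv F72346)
theorem F76403 : act 3 n33110 = n33015 := d2_2 (iv F73630) D33110 F75991
theorem F76404 : act 5 n33110 = n32821 := d4_2 F73946 D33110 F75150
theorem F76405 : act 6 n33110 = n33074 := d5_2 F74611 D33110 F76251
theorem F76406 : act 2 n33110 = n33026 := d21_0 (iv D33026) (iv D31971) (iv F71770) F71769 F71699 D31945 (iv F73630) D33110
def n33111 : Q := act 2 n32438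
theorem D33111 : act 2 n32438 = n33111 := rfl
theorem F76407 : act 0 n33111 = n33026 := d1_1 D33111 (iv F76406) (iv D33110)
theorem F76408 : act 1 n33111 = n32439 := d6_1 D33111 (iv D32439) (iv D30388) (iv F66433) D32438
theorem F76409 : act 3 n33111 = n33025 := d11_2 (iv F73630) D33111 (iv D33025) (iv F76017) F76016 F75986 D33015 (iv F76403) F76406 (iv D33026) (iv D31971) (iv F71770) F71769 F71699 D31945
theorem F76410 : act 5 n33111 = n32833 := d13_2 F73946 D33111 F75208
theorem F76411 : act 6 n33111 = n32702 := d14_2 F74611 D33111 F74657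
def n33112 : Q := act 5 n32446
theorem D33112 : act 5 n32446 = n33112 := rfl
theorem F76412 : act 0 n33112 = n32954 := d4_1 D33112 F75741 (iv F75186)
theorem F76413 : act 2 n33112 = n33103 := d13_1 D33112 (iv D33103) (iv F73655)
theorem F76414 : act 3 n33112 = n32447 := d16_1 D33112 (iv D32447) D32446
theorem F76415 : act 4 n33112 = n32957 := d18_1 D33112 F75754 F75546
theorem F76416 : act 6 n33112 = n32780 := d20_2 F74283 D33112 F74988 (iv F75184) (iv F75741) (iv D32954) (iv F74282)
def n33113 : Q := act 1 n32447
theorem D33113 : act 1 n32447 = n33113 := rfl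
theorem F76417 : act 4 n33113 = n32451 := d8_2 (iv F73657) D33113 (iv D32451)
theorem F76418 : act 6 n33113 = n32781 := d10_2 (iv F73658) D33113 (iv D32781) (iv D31293) D31292
def n33114 : Q := act 0 n32451
theorem D33114 : act 0 n32451 = n33114 := rfl
theorem F76419 : act 1 n33114 = n32832 := d0_2 D32451 D33114 F75203 F70502 F69476 (iv D29646) (iv F63900) D32145 (iv F72415)
theorem F76420 : act 3 n33114 = n33045 := d2_2 (iv F73672) D33114 F76112
theorem F76421 : act 5 n33114 = n33044 := d4_2 F74658 D33114 F76109
theorem F76422 : act 6 n33114 = n32833 := d5_2 F73965 D33114 F75207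
theorem F76423 : act 2 n33114 = n33067 := d21_0 (iv D33067) (iv D32088) (iv F72176) F72175 F72093 D32066 (iv F73672) D33114
def n33115 : Q := act 2 n32451
theorem D33115 : act 2 n32451 = n33115 := rfl
theorem F76424 : act 0 n33115 = n33067 := d1_1 D33115 (iv F76423) (iv D33114)
theorem F76425 : act 1 n33115 = n32452 := d6_1 D33115 (iv D32452) (iv D30408) (iv F66483) D32451
theorem F76426 : act 3 n33115 = n33032 := d11_2 (iv F73672) D33115 (iv D33032) (iv F76041) (iv F76100) F76101 (iv F76114) (iv F76420) F76423 (iv D33067) (iv D32088) (iv F72176) F72175 F72093 D32066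
theorem F76427 : act 5 n33115 = n32688 := d13_2 F74658 D33115 (iv F74657)
theorem F76428 : act 6 n33115 = n32821 := d14_2 F73965 D33115 F75151
def n33116 : Q := act 1 n32453
theorem D33116 : act 1 n32453 = n33116 := rfl
theorem F76429 : act 0 n33116 = n32890 := d0_1 D33116 (iv D32890) (iv F70364) (iv F71974) F71973 (iv F74924) F74923 (iv F73311) (iv F73673)
theorem F76430 : act 2 n33116 = n32454 := d6_2 D32453 D33116 (iv D32454) (iv D30413) (iv F66497)
theorem F76431 : act 3 n33116 = n33054 := d7_2 F75054 D33116 F76157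
theorem F76432 : act 4 n33116 = n32913 := d8_2 (iv F73674) D33116 (iv D32913)
theorem F76433 : act 5 n33116 = n33116 := d9_2 (iv F73675) D33116 (iv D33116) F73675 F73569
theorem F76434 : act 6 n33116 = n33053 := d10_2 (iv F73676) D33116 F76154 D33056 (iv F76171)
def n33117 : Q := act 0 n32454
theorem D33117 : act 0 n32454 = n33117 := rfl
theorem F76435 : act 1 n33117 = n32972 := d0_2 D32454 D33117 F75819 F71333 F71016 F73711 (iv D32462) (iv D30421) (iv F66500)
theorem F76436 : act 2 n33117 = n32890 := d1_2 F76430 D33117 (iv F76429)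
theorem F76437 : act 5 n33117 = n33117 := d4_2 F73681 D33117 (iv D33117)
def n33118 : Q := act 6 n32454
theorem D33118 : act 6 n32454 = n33118 := rfl
theorem F76438 : act 2 n33118 = n33053 := d14_1 D33118 (iv F76434) F76430
def n33119 : Q := act 1 n32456
theorem D33119 : act 1 n32456 = n33119 := rfl
theorem F76439 : act 2 n33119 = n32909 := d6_2 (iv F73683) D33119 F75554 F73696 (iv D32458)
theorem F76440 : act 3 n33119 = n32476 := d7_2 (iv F73684) D33119 (iv D32476)
theorem F76441 : act 4 n33119 = n32476 := d8_2 (iv F73685) D33119 (iv D32476)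
def n33120 : Q := act 0 n32459
theorem D33120 : act 0 n32459 = n33120 := rfl
theorem F76442 : act 2 n33120 = n32682 := d1_2 (iv F73697) D33120 (iv F74599)
theorem F76443 : act 3 n33120 = n32462 := d2_2 (iv F73698) D33120 (iv D32462)
theorem F76444 : act 4 n33120 = n32462 := d3_2 (iv F73699) D33120 (iv D32462)
theorem F76445 : act 1 n32765 = n33120 := d8_3 F76444 (iv F73711) (iv F74929)
theorem F76446 : act 6 n32686 = n33120 := d19_0 F76444 (iv F73712) (iv F74608)
def n33121 : Q := act 5 n32459
theorem D33121 : act 5 n32459 = n33121 := rfl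
theorem F76447 : act 1 n33121 = n33088 := d9_1 D33121 (iv D33088) F72582 (iv F66562) D32459
theorem F76448 : act 2 n33121 = n33095 := d13_1 D33121 F76345 (iv F73697)
theorem F76449 : act 3 n33121 = n32463 := d16_1 D33121 (iv D32463) (iv F73698)
theorem F76450 : act 4 n33121 = n32463 := d18_1 D33121 (iv D32463) (iv F73699)
def n33122 : Q := act 6 n32459
theorem D33122 : act 6 n32459 = n33122 := rfl
theorem F76451 : act 0 n33122 = n32686 := d5_1 D33122 F76446 (iv D33120)
theorem F76452 : act 2 n33122 = n32685 := d14_1 D33122 F74606 (iv F73697)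
theorem F76453 : act 3 n33122 = n32464 := d17_1 D33122 (iv D32464) (iv F73698)
theorem F76454 : act 4 n33122 = n32464 := d19_1 D33122 (iv D32464) (iv F73699)
theorem F76455 : act 5 n33122 = n33119 := d24_1 D33122 (iv D33119) (iv D32456) D32455 F73680 F73679 F66568 D32465 (iv F74618) (iv D32474) (iv D30432) D30434 (iv F66562) D32459
def n33123 : Q := act 1 n32460
theorem D33123 : act 1 n32460 = n33123 := rfl
theorem F76456 : act 2 n33123 = n32900 := d6_2 (iv F73701) D33123 F75514 F73709 (iv D32461)
theorem F76457 : act 3 n33123 = n32465 := d7_2 (iv F73702) D33123 (iv D32465)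
theorem F76458 : act 4 n33123 = n32465 := d8_2 (iv F73703) D33123 (iv D32465)
def n33124 : Q := act 5 n32462
theorem D33124 : act 5 n32462 = n33124 := rfl
theorem F76459 : act 0 n33124 = n32463 := d4_1 D33124 (iv D32463) D32462
theorem F76460 : act 2 n33124 = n32683 := d13_1 D33124 (iv D32683) (iv F73710)
theorem F76461 : act 6 n33124 = n32476 := d20_2 F73712 D33124 (iv F74616) (iv D32464) D32463 (iv F74622) (iv D32690)
def n33125 : Q := act 5 n32465
theorem D33125 : act 5 n32465 = n33125 := rfl
theorem F76462 : act 0 n33125 = n32475 := d4_1 D33125 (iv F74666) F74663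
theorem F76463 : act 2 n33125 = n32697 := d13_1 D33125 (iv F74661) F74660
theorem F76464 : act 6 n33125 = n32473 := d20_2 F74618 D33125 F73745 D32704 F74666 (iv D32475) D32474
def n33126 : Q := act 0 n32467
theorem D33126 : act 0 n32467 = n33126 := rfl
theorem F76465 : act 3 n33126 = n33117 := d2_2 (iv F73721) D33126 (iv D33117)
theorem F76466 : act 4 n33126 = n33117 := d3_2 (iv F73722) D33126 (iv D33117)
theorem F76467 : act 5 n33126 = n33126 := d4_2 F73723 D33126 (iv D33126)
def n33127 : Q := act 6 n32467
theorem D33127 : act 6 n32467 = n33127 := rfl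
theorem F76468 : act 1 n33127 = n33124 := d10_1 D33127 F76461 (iv D32476) (iv F66558) D32467
theorem F76469 : act 3 n33127 = n33118 := d17_1 D33127 (iv D33118) (iv F73721)
theorem F76470 : act 4 n33127 = n33118 := d19_1 D33127 (iv D33118) (iv F73722)
def n33128 : Q := act 1 n32470
theorem D33128 : act 1 n32470 = n33128 := rfl
theorem F76471 : act 0 n33128 = n32868 := d0_1 D33128 (iv D32868) F70209 (iv F71560) F71559 (iv F74992) F74991 (iv F73165) (iv F73736)
theorem F76472 : act 2 n33128 = n32471 := d6_2 D32470 D33128 (iv D32471) (iv D30430) (iv F66549)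
theorem F76473 : act 3 n33128 = n33002 := d7_2 F75112 D33128 F75942
theorem F76474 : act 4 n33128 = n32915 := d8_2 (iv F73737) D33128 (iv D32915)
theorem F76475 : act 5 n33128 = n33001 := d9_2 (iv F73738) D33128 F75939 D33004 F75955
theorem F76476 : act 6 n33128 = n33128 := d10_2 (iv F73739) D33128 (iv D33128) F73739 F73487
def n33129 : Q := act 0 n32471
theorem D33129 : act 0 n32471 = n33129 := rfl
theorem F76477 : act 1 n33129 = n32986 := d0_2 D32471 D33129 F75878 F71466 F71156 F73746 (iv D32473) (iv D30432) (iv F66552)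
theorem F76478 : act 2 n33129 = n32868 := d1_2 F76472 D33129 (iv F76471)
theorem F76479 : act 6 n33129 = n33129 := d5_2 F73740 D33129 (iv D33129)
def n33130 : Q := act 5 n32471
theorem D33130 : act 5 n32471 = n33130 := rfl
theorem F76480 : act 2 n33130 = n33001 := d13_1 D33130 (iv F76475) F76472
def n33131 : Q := act 0 n32472
theorem D33131 : act 0 n32472 = n33131 := rfl
theorem F76481 : act 2 n33131 = n32696 := d1_2 (iv F73741) D33131 (iv F74645)
theorem F76482 : act 3 n33131 = n32473 := d2_2 (iv F73742) D33131 (iv D32473)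
theorem F76483 : act 4 n33131 = n32473 := d3_2 (iv F73743) D33131 (iv D32473)
theorem F76484 : act 5 n33131 = n32700 := d23_4 F66507 D30431 D32472 D33131 (iv D32700) (iv D31007) (iv F59377) F59380 F59025 F48340 (iv F57557) (iv F57591) (iv F61135) F67654 (iv F72563) (iv F73718) (iv D32466) (iv D30424) (iv F66504)
theorem F76485 : act 1 n32784 = n33131 := d9_5 F76484 F74653 F68545 (iv F69677) (iv F74998)
def n33132 : Q := act 5 n32472
theorem D33132 : act 5 n32472 = n33132 := rfl
theorem F76486 : act 0 n33132 = n32700 := d4_1 D33132 (iv F76484) (iv D33131)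
theorem F76487 : act 1 n33132 = n33122 := d9_1 D33132 F76455 (iv D33119) F73686 D32472
theorem F76488 : act 2 n33132 = n32699 := d13_1 D33132 F74652 (iv F73741)
theorem F76489 : act 3 n33132 = n32474 := d16_1 D33132 (iv D32474) (iv F73742)
theorem F76490 : act 4 n33132 = n32474 := d18_1 D33132 (iv D32474) (iv F73743)
theorem F76491 : act 6 n33123 = n33132 := d24_0 (iv D33132) (iv D32472) F66554 (iv D30422) D30421 D32464 F74616 (iv D32476) (iv F66558) D32468 F73725 F73729 F73704 D33123
def n33133 : Q := act 6 n32472
theorem D33133 : act 6 n32472 = n33133 := rfl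
theorem F76492 : act 1 n33133 = n33080 := d10_1 D33133 F76279 F72928 (iv F66554) D32472
theorem F76493 : act 2 n33133 = n33079 := d14_1 D33133 F76274 (iv F73741)
theorem F76494 : act 3 n33133 = n32475 := d17_1 D33133 (iv D32475) (iv F73742)
theorem F76495 : act 4 n33133 = n32475 := d19_1 D33133 (iv D32475) (iv F73743)
def n33134 : Q := act 0 n32478
theorem D33134 : act 0 n32478 = n33134 := rfl
theorem F76496 : act 3 n33134 = n33129 := d2_2 (iv F73755) D33134 (iv D33129)
theorem F76497 : act 4 n33134 = n33129 := d3_2 (iv F73756) D33134 (iv D33129)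
theorem F76498 : act 6 n33134 = n33134 := d5_2 F73757 D33134 (iv D33134)
def n33135 : Q := act 5 n32478
theorem D33135 : act 5 n32478 = n33135 := rfl
theorem F76499 : act 1 n33135 = n33125 := d9_1 D33135 (iv D33125) (iv D32465) (iv F66568) D32478
theorem F76500 : act 3 n33135 = n33130 := d16_1 D33135 (iv D33130) (iv F73755)
theorem F76501 : act 4 n33135 = n33130 := d18_1 D33135 (iv D33130) (iv F73756)
def n33136 : Q := act 1 n32482
theorem D33136 : act 1 n32482 = n33136 := rfl
theorem F76502 : act 0 n33136 = n33119 := d0_1 D33136 (iv D33119) F73682 D32465 (iv F74663) F74664 F69616 (iv F66598) (iv F73773)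
theorem F76503 : act 2 n33136 = n32687 := d6_2 D32482 D33136 (iv F74679) F74680 F73769
theorem F76504 : act 3 n33136 = n32690 := d7_2 (iv F73774) D33136 F74620
theorem F76505 : act 4 n33136 = n32690 := d8_2 (iv F73775) D33136 F74620
theorem F76506 : act 5 n33136 = n32686 := d9_2 F74671 D33136 F74607 D32691 F74672
theorem F76507 : act 6 n33136 = n33121 := d10_2 (iv F73776) D33136 F76447 F76322 F74634
def n33137 : Q := act 1 n32486
theorem D33137 : act 1 n32486 = n33137 := rfl
theorem F76508 : act 0 n33137 = n33123 := d0_1 D33137 (iv D33123) F73700 D32476 (iv F74619) F74620 F69694 (iv F66631) (iv F73792)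
theorem F76509 : act 2 n33137 = n32701 := d6_2 D32486 D33137 (iv F74721) F74722 F73788
theorem F76510 : act 3 n33137 = n32704 := d7_2 (iv F73793) D33137 F74664
theorem F76511 : act 4 n33137 = n32704 := d8_2 (iv F73794) D33137 F74664
theorem F76512 : act 5 n33137 = n33133 := d9_2 (iv F73795) D33137 F76492 F76278 F74629
theorem F76513 : act 6 n33137 = n32700 := d10_2 F74627 D33137 F74653 D32705 (iv F74672)
def n33138 : Q := act 3 n32500
theorem D33138 : act 3 n32500 = n33138 := rfl
theorem F76514 : act 0 n33138 = n33138 := d2_1 D33138 (iv D33138) F73857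
theorem F76515 : act 1 n33138 = n32501 := d7_1 D33138 (iv D32501) D32500
theorem F76516 : act 2 n33138 = n33138 := d25_7 (iv F44898) F44897 D22791 D27024 D30501 D32500 D33138 (iv D33138) F73858 (iv D32500) D32501 F73861 (iv D32037) (iv D29461) (iv D25727) (iv F41953) (iv F45255) F45256 (iv F39957) (iv F51299) F51301 F39464 (iv F45219) F45218 (iv F45016) F44932 F31993 D19199 (iv F42884) (iv D22055) (iv D16786) F29034 F23847 (iv F29034) F21982 D12506 F22072 (iv F34718) F25275 (iv F25604) F34981 F30406 (iv F43349) (iv F55275) F55274 (iv D24971) F38898 F26452 F20617 (iv F21875) D16655 (iv F37087) F37086 D19735 D24047 F58201 (iv D27672) F46747 F34047 (iv F46747) F46746 D27420 F57606 D27740 (iv F67685) F67684 F63735 F63733 (iv F54039) F57421 (iv D25821) (iv D21478) F28112 F21509 (iv F21437) (iv F24043) D18785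
def n33139 : Q := act 6 n32500
theorem D33139 : act 6 n32500 = n33139 := rfl
theorem F76517 : act 0 n33139 = n33139 := d5_1 D33139 (iv D33139) F73857
theorem F76518 : act 2 n33139 = n33139 := d14_1 D33139 (iv D33139) F73858
theorem F76519 : act 4 n33139 = n32634 := d19_1 D33139 (iv D32634) (iv F73859)
theorem F76520 : act 5 n33139 = n32503 := d22_2 F74566 D33139 (iv F74567) F74568
def n33140 : Q := act 3 n32503
theorem D33140 : act 3 n32503 = n33140 := rfl
theorem F76521 : act 0 n33140 = n33140 := d2_1 D33140 (iv D33140) F73868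
theorem F76522 : act 1 n33140 = n32504 := d7_1 D33140 (iv D32504) D32503
theorem F76523 : act 2 n33140 = n33140 := d25_7 (iv F44908) F44907 D22797 D27027 D30504 D32503 D33140 (iv D33140) F73869 (iv D32503) D32504 F73872 (iv D31908) (iv D29319) (iv D25622) (iv F41615) (iv F45218) F45219 (iv F39464) D25115 F51310 F39957 (iv F45256) F45255 F45024 F44917 F31968 D19131 (iv F43439) (iv D22279) (iv D16975) (iv F34760) F23863 F34760 F22154 D12622 F22165 (iv F25265) F25266 (iv F25585) (iv F34987) F30531 (iv F43887) (iv F55226) F55225 (iv D24990) F38977 F26494 F20639 (iv F21925) D16716 (iv F37129) F37128 D19773 D24098 F58109 (iv D27632) F46698 F34008 (iv F46698) F46697 D27330 F57368 D27722 (iv F67464) F67463 F64539 F64537 F53615 F57654 (iv D26063) (iv D21638) F28325 F21596 (iv F21465) (iv F24060) D18800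
def n33141 : Q := act 1 n32505
theorem D33141 : act 1 n32505 = n33141 := rfl
theorem F76524 : act 0 n33141 = n33102 := d0_1 D33141 (iv D33102) F73088 F65274 (iv F68940) (iv F74434) F74433 (iv F74039) F74038
theorem F76525 : act 2 n33141 = n32748 := d6_2 (iv F73874) D33141 F74858 (iv D32494) (iv F66841)
theorem F76526 : act 3 n33141 = n32921 := d7_2 (iv F73875) D33141 F75605
theorem F76527 : act 4 n33141 = n32965 := d8_2 F73937 D33141 F75790
theorem F76528 : act 5 n33141 = n32959 := d9_2 D32505 D33141 F75760 F72638 F66973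
theorem F76529 : act 6 n33141 = n32746 := d10_2 (iv F73876) D33141 F74851 F73447 F72932
def n33142 : Q := act 1 n32506
theorem D33142 : act 1 n32506 = n33142 := rfl
theorem F76530 : act 0 n33142 = n33105 := d0_1 D33142 (iv D33105) F73233 F65553 (iv F68983) (iv F74352) F74351 (iv F74066) F74065
theorem F76531 : act 2 n33142 = n32745 := d6_2 (iv F73877) D33142 F74848 (iv D32493) (iv F66857)
theorem F76532 : act 3 n33142 = n32918 := d7_2 (iv F73878) D33142 F75592
theorem F76533 : act 4 n33142 = n32980 := d8_2 F73904 D33142 F75850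
theorem F76534 : act 5 n33142 = n32743 := d9_2 (iv F73879) D33142 F74841 F73390 (iv F73036)
theorem F76535 : act 6 n33142 = n32946 := d10_2 D32506 D33142 F75705 F72962 F66917
def n33143 : Q := act 4 n32508
theorem D33143 : act 4 n32508 = n33143 := rfl
theorem F76536 : act 0 n33143 = n32563 := d3_1 D33143 F74087 F74020
theorem F76537 : act 1 n33143 = n32509 := d8_1 D33143 (iv D32509) D32508
theorem F76538 : act 2 n33143 = n32550 := d12_1 D33143 (iv F74087) F74086
theorem F76539 : act 3 n33143 = n32993 := d15_1 D33143 (iv F75944) (iv F76473) F76474 F75579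
theorem F76540 : act 5 n33143 = n32992 := d18_2 F75909 D33143 F75915
theorem F76541 : act 6 n33143 = n33143 := d19_2 F73886 D33143 (iv D33143)
def n33144 : Q := act 3 n32509
theorem D33144 : act 3 n32509 = n33144 := rfl
theorem F76542 : act 0 n33144 = n32572 := d2_1 D33144 F74130 (iv F73887)
theorem F76543 : act 1 n33144 = n32993 := d7_1 D33144 (iv F76539) F76537
theorem F76544 : act 2 n33144 = n32811 := d11_1 D33144 F75104 F74272 F67566 F57483 (iv F57175) (iv F67273) (iv F74130) F74129 F72214 F70692 (iv D31611) F62053 (iv F66887) (iv F73888)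
theorem F76545 : act 4 n33144 = n32813 := d15_2 D32509 D33144 F75112 F73737 F70585
theorem F76546 : act 5 n33144 = n32546 := d16_2 (iv F73889) D33144 (iv D32546)
theorem F76547 : act 6 n33144 = n32568 := d17_2 (iv F73890) D33144 (iv D32568)
def n33145 : Q := act 2 n32511
theorem D33145 : act 2 n32511 = n33145 := rfl
theorem F76548 : act 1 n33145 = n32512 := d6_1 D33145 (iv D32512) (iv D30527) (iv F66901) D32511
theorem F76549 : act 4 n33145 = n32706 := d12_2 F76375 D33145 (iv F76373)
theorem F76550 : act 6 n33145 = n33106 := d14_2 (iv F73895) D33145 (iv D33106)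
theorem F76551 : act 3 n33145 = n32706 := d21_1 D33145 (iv F76373) F76374 (iv F75822) F75823 F71346 (iv F73926) (iv F73928)
def n33146 : Q := act 4 n32517
theorem D33146 : act 4 n32517 = n33146 := rfl
theorem F76552 : act 0 n33146 = n32578 := d3_1 D33146 F74152 F73995
theorem F76553 : act 1 n33146 = n32518 := d8_1 D33146 (iv D32518) D32517
theorem F76554 : act 2 n33146 = n32543 := d12_1 D33146 (iv F74152) F74151
theorem F76555 : act 3 n33146 = n33030 := d15_1 D33146 (iv F76159) (iv F76431) F76432 F75570
theorem F76556 : act 5 n33146 = n33146 := d18_2 F73918 D33146 (iv D33146)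
theorem F76557 : act 6 n33146 = n33029 := d19_2 F76130 D33146 F76131
def n33147 : Q := act 3 n32518
theorem D33147 : act 3 n32518 = n33147 := rfl
theorem F76558 : act 0 n33147 = n32586 := d2_1 D33147 F74189 (iv F73919)
theorem F76559 : act 1 n33147 = n33030 := d7_1 D33147 (iv F76555) F76553
theorem F76560 : act 2 n33147 = n32798 := d11_1 D33147 F75046 F74337 F67736 F57706 (iv F57244) (iv F67327) (iv F74189) F74188 F71813 F70704 (iv D31601) F62010 (iv F66943) (iv F73920)
theorem F76561 : act 4 n33147 = n32800 := d15_2 D32518 D33147 F75054 F73674 F70542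
theorem F76562 : act 5 n33147 = n32583 := d16_2 (iv F73921) D33147 (iv D32583)
theorem F76563 : act 6 n33147 = n32539 := d17_2 (iv F73922) D33147 (iv D32539)
def n33148 : Q := act 2 n32520
theorem D33148 : act 2 n32520 = n33148 := rfl
theorem F76564 : act 0 n33148 = n33145 := d1_1 D33148 (iv D33145) F73928
theorem F76565 : act 1 n33148 = n32521 := d6_1 D33148 (iv D32521) (iv D30544) (iv F66957) D32520
theorem F76566 : act 3 n33148 = n32692 := d11_2 (iv F73926) D33148 (iv F76327) F76328 (iv F75885) F75886 F71483 (iv F73894) D33145 F76551 (iv F76373) F76374 (iv F75822) F75823 F71346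
theorem F76567 : act 4 n33148 = n32692 := d12_2 F76329 D33148 (iv F76327)
theorem F76568 : act 5 n33148 = n33107 := d13_2 (iv F73927) D33148 (iv D33107)
def n33149 : Q := act 5 n32528
theorem D33149 : act 5 n32528 = n33149 := rfl
theorem F76569 : act 0 n33149 = n32949 := d4_1 D33149 (iv F75722) F75701
theorem F76570 : act 2 n33149 = n32529 := d13_1 D33149 (iv D32529) D32528
theorem F76571 : act 4 n33149 = n32889 := d18_1 D33149 F75466 F74373
theorem F76572 : act 6 n33149 = n32885 := d20_2 (iv F73952) D33149 (iv F75590) (iv F75704) F75722 F75721 (iv D32918)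
def n33150 : Q := act 6 n32535
theorem D33150 : act 6 n32535 = n33150 := rfl
theorem F76573 : act 0 n33150 = n32936 := d5_1 D33150 F75759 F75755
theorem F76574 : act 1 n33150 = n33149 := d10_1 D33150 F76572 (iv D32885) (iv F74454) F74450
theorem F76575 : act 2 n33150 = n32536 := d14_1 D33150 (iv D32536) D32535
theorem F76576 : act 4 n33150 = n32866 := d19_1 D33150 F75358 F74458
theorem F76577 : act 5 n33150 = n32862 := d20_1 D33150 (iv F75603) (iv F75758) (iv F75759) F75670 (iv D32921) (iv F73971)
def n33151 : Q := act 1 n32542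
theorem D33151 : act 1 n32542 = n33151 := rfl
theorem F76578 : act 0 n33151 = n32913 := d0_1 D33151 (iv D32913) (iv F70543) (iv F72062) F72061 F72039 F63455 (iv F70375) (iv F73991)
theorem F76579 : act 3 n33151 = n32543 := d7_2 (iv F73992) D33151 (iv D32543)
theorem F76580 : act 4 n33151 = n32890 := d8_2 (iv F73993) D33151 (iv D32890)
theorem F76581 : act 5 n33151 = n33151 := d9_2 (iv F73994) D33151 (iv D33151) F73994 F71602
theorem F76582 : act 2 n33126 = n33151 := d23_1 F76467 (iv D33151) F73991 F70378 D32497 F73844 F67935 (iv D27550) (iv F54010) F54009 (iv F52114) (iv F53400) F53398 (iv F56069) (iv F66535) (iv D30426) D30425 D32467 D33126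
def n33152 : Q := act 1 n32549
theorem D33152 : act 1 n32549 = n33152 := rfl
theorem F76583 : act 0 n33152 = n32915 := d0_1 D33152 (iv D32915) (iv F70586) (iv F71658) F71657 F71635 F63131 (iv F70225) (iv F74016)
theorem F76584 : act 3 n33152 = n32550 := d7_2 (iv F74017) D33152 (iv D32550)
theorem F76585 : act 4 n33152 = n32868 := d8_2 (iv F74018) D33152 (iv D32868)
theorem F76586 : act 6 n33152 = n33152 := d10_2 (iv F74019) D33152 (iv D33152) F74019 F72005
theorem F76587 : act 2 n33134 = n33152 := d25_4 (iv F75027) (iv F75365) (iv F76478) (iv F76496) (iv D33152) F74017 F67147 F57052 (iv F57135) F58026 (iv F65576) F65575 F54407 (iv F53458) (iv F59107) (iv F67765) (iv F67913) (iv F74396) (iv F75155) F75154 F74446 F68018 F57993 F46652 D27545 F57903 F52308 (iv D25488) F41112 (iv F42529) (iv D21921) (iv F36824) F36823 F25163 F20586 D11617 F20594 D12389 D16611 D21936 (iv F43555) (iv D22317) (iv D17018) (iv F26633) D20628 F39142 (iv F47236) (iv F49556) (iv D24452) (iv D20103) F25872 D14892 F33036 F24592 (iv F24227) (iv F33998) (iv F46688)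 (iv F48748) (iv F59496) (iv F59497) (iv D25424) (iv D21211) F27763 D16101 D21266 D25500 D29195 F62720 F62530 F57325 D27316 F57329 D27319 D30678 D32595 F74229 F74092
def n33153 : Q := act 4 n32573
theorem D33153 : act 4 n32573 = n33153 := rfl
theorem F76588 : act 0 n33153 = n33077 := d3_1 D33153 F76264 F75385
theorem F76589 : act 1 n33153 = n32575 := d8_1 D33153 (iv D32575) (iv F74132)
theorem F76590 : act 3 n33153 = n32856 := d15_1 D33153 F75313 (iv F73841) F73842 D32573
theorem F76591 : act 5 n33153 = n32874 := d18_2 F74134 D33153 F75396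
theorem F76592 : act 6 n33153 = n32836 := d19_2 (iv F74133) D33153 F75222
def n33154 : Q := act 4 n32588
theorem D33154 : act 4 n32588 = n33154 := rfl
theorem F76593 : act 0 n33154 = n33094 := d3_1 D33154 F76341 F75255
theorem F76594 : act 1 n33154 = n32590 := d8_1 D33154 (iv D32590) (iv F74197)
theorem F76595 : act 2 n33154 = n33153 := d12_1 D33154 (iv D33153) (iv F74199)
theorem F76596 : act 3 n33154 = n32881 := d15_1 D33154 F75428 (iv F73849) F73850 D32588
theorem F76597 : act 5 n33154 = n32824 := d18_2 (iv F74198) D33154 F75165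
theorem F76598 : act 6 n33154 = n32848 := d19_2 F74200 D33154 F75278
def n33155 : Q := act 1 n32628
theorem D33155 : act 1 n32628 = n33155 := rfl
theorem F76599 : act 0 n33155 = n33155 := d0_1 D33155 (iv D33155) F74380 (iv D30935) F58246 F46778 (iv F58246) D30935 (iv F74380)
theorem F76600 : act 4 n33155 = n32630 := d8_2 (iv F74382) D33155 (iv D32630)
theorem F76601 : act 6 n33155 = n32669 := d10_2 (iv F74383) D33155 (iv D32669) F68197 D31877
def n33156 : Q := act 1 n32640
theorem D33156 : act 1 n32640 = n33156 := rfl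
theorem F76602 : act 0 n33156 = n33156 := d0_1 D33156 (iv D33156) (iv D32640) (iv D30837) F57907 F46552 (iv F57907) D30837 D32640
theorem F76603 : act 2 n33156 = n33156 := d6_2 (iv F74424) D33156 (iv D33156) F74424 F70362
theorem F76604 : act 4 n33156 = n33140 := d8_2 (iv F74425) D33156 F76522
theorem F76605 : act 6 n33156 = n33089 := d10_2 (iv F74426) D33156 (iv D33089) F72606 (iv F70355)
def n33157 : Q := act 1 n32649
theorem D33157 : act 1 n32649 = n33157 := rfl
theorem F76606 : act 0 n33157 = n33157 := d0_1 D33157 (iv D33157) F74468 (iv D30909) F58147 F46721 (iv F58147) D30909 (iv F74468)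
theorem F76607 : act 2 n33157 = n33155 := d6_2 (iv F74469) D33157 (iv D33155) F74381 (iv F68268)
theorem F76608 : act 3 n33157 = n33156 := d7_2 (iv F74470) D33157 (iv D33156)
theorem F76609 : act 4 n33157 = n32652 := d8_2 (iv F74471) D33157 (iv D32652)
theorem F76610 : act 5 n33157 = n32669 := d9_2 (iv F74472) D33157 (iv D32669) F68196 D31835
def n33158 : Q := act 1 n32659
theorem D33158 : act 1 n32659 = n33158 := rfl
theorem F76611 : act 0 n33158 = n33158 := d0_1 D33158 (iv D33158) (iv D32659) (iv D30896) F58089 F46689 (iv F58089) D30896 D32659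
theorem F76612 : act 2 n33158 = n33158 := d6_2 (iv F74509) D33158 (iv D33158) F74509 F70205
theorem F76613 : act 3 n33158 = n33155 := d7_2 (iv F74510) D33158 (iv D33155)
theorem F76614 : act 4 n33158 = n33138 := d8_2 (iv F74511) D33158 F76515
theorem F76615 : act 5 n33158 = n33089 := d9_2 (iv F74512) D33158 (iv D33089) (iv D32189) (iv F70195)
def n33159 : Q := act 1 n32660
theorem D33159 : act 1 n32660 = n33159 := rfl
theorem F76616 : act 0 n33159 = n33159 := d0_1 D33159 (iv D33159) F74513 D32661 F74522 F68198 (iv F74522) (iv D32661) (iv F74513)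
theorem F76617 : act 2 n33159 = n32669 := d6_2 (iv F74514) D33159 (iv D32669) F74523 (iv D32661)
theorem F76618 : act 3 n33159 = n33089 := d7_2 (iv F74515) D33159 (iv D33089)
theorem F76619 : act 4 n33159 = n32671 := d8_2 (iv F74516) D33159 (iv D32671)
theorem F76620 : act 5 n33159 = n33155 := d9_2 D32660 D33159 (iv D33155) (iv D32628) (iv F68144)
theorem F76621 : act 6 n33159 = n33157 := d10_2 (iv F74517) D33159 (iv D33157) (iv D32649) (iv F68235)
def n33160 : Q := act 1 n32664
theorem D33160 : act 1 n32664 = n33160 := rfl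
theorem F76622 : act 3 n33160 = n32734 := d7_2 (iv F74536) D33160 F74805
theorem F76623 : act 4 n33160 = n32665 := d8_2 (iv F74537) D33160 (iv D32665)
theorem F76624 : act 5 n33160 = n33090 := d9_2 D32664 D33160 (iv D33090) (iv D32192) (iv F68183)
theorem F76625 : act 6 n33160 = n33100 := d10_2 (iv F74538) D33160 (iv D33100) (iv D32271) (iv F68278)
def n33161 : Q := act 2 n32665
theorem D33161 : act 2 n32665 = n33161 := rfl
theorem F76626 : act 1 n33161 = n32668 := d6_1 D33161 (iv D32668) (iv D30914) (iv F68187) D32665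
theorem F76627 : act 5 n33161 = n33106 := d13_2 (iv F74540) D33161 (iv D33106)
theorem F76628 : act 6 n33161 = n33107 := d14_2 (iv F74541) D33161 (iv D33107)
def n33162 : Q := act 0 n32666
theorem D33162 : act 0 n32666 = n33162 := rfl
theorem F76629 : act 4 n33162 = n32667 := d3_2 (iv F74542) D33162 (iv D32667)
theorem F76630 : act 5 n33162 = n32969 := d4_2 (iv F74543) D33162 (iv D32969)
theorem F76631 : act 6 n33162 = n32983 := d5_2 (iv F74544) D33162 (iv D32983)
def n33163 : Q := act 2 n32666
theorem D33163 : act 2 n32666 = n33163 := rfl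
theorem F76632 : act 4 n33163 = n32668 := d12_2 (iv F74542) D33163 (iv D32668)
theorem F76633 : act 5 n33163 = n32970 := d13_2 (iv F74543) D33163 (iv D32970)
theorem F76634 : act 6 n33163 = n32984 := d14_2 (iv F74544) D33163 (iv D32984)
theorem F76635 : act 3 n33163 = n32668 := d21_3 (iv F74796) F74797 D33163 (iv D32668) F68193 D30916 D32670 F74551
def n33164 : Q := act 1 n32667
theorem D33164 : act 1 n32667 = n33164 := rfl
theorem F76636 : act 0 n33164 = n33164 := d0_1 D33164 (iv D33164) (iv D32667) (iv D30914) F58160 F46731 (iv F58160) D30914 D32667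
theorem F76637 : act 3 n33164 = n32669 := d7_2 (iv F74545) D33164 (iv D32669)
theorem F76638 : act 5 n33164 = n33156 := d9_2 (iv F74546) D33164 (iv D33156) (iv F75462) F75459
theorem F76639 : act 6 n33164 = n33158 := d10_2 (iv F74547) D33164 (iv D33158) (iv F75355) F75352
theorem F76640 : act 2 n33164 = n33164 := d23_1 (iv F76638) (iv D33164) (iv D32667) F68194 D31828 F71333 F71016 D32767 F74933 (iv F71105) (iv F73059) F73063 (iv F71975) F71974 F70364 F70363 (iv F74424) D33156 F76602
def n33165 : Q := act 2 n32667
theorem D33165 : act 2 n32667 = n33165 := rfl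
theorem F76641 : act 0 n33165 = n32668 := d1_1 D33165 (iv D32668) D32667
theorem F76642 : act 1 n33165 = n33165 := d6_1 D33165 (iv D33165) D33164 F76640 (iv D33164)
theorem F76643 : act 5 n33165 = n32972 := d13_2 (iv F74546) D33165 (iv D32972)
theorem F76644 : act 6 n33165 = n32986 := d14_2 (iv F74547) D33165 (iv D32986)
def n33166 : Q := act 2 n32670
theorem D33166 : act 2 n32670 = n33166 := rfl
theorem F76645 : act 0 n33166 = n32732 := d1_1 D33166 F74796 (iv F74551)
theorem F76646 : act 5 n33166 = n32977 := d13_2 (iv F74553) D33166 (iv D32977)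
theorem F76647 : act 6 n33166 = n32961 := d14_2 (iv F74554) D33166 F75771
theorem F76648 : act 3 n33166 = n33162 := d21_7 D33163 F76635 (iv D32668) F68193 D30916 D32670 D33166 (iv D33162)
theorem F76649 : act 1 n33166 = n33139 := d23_2 (iv F74553) D33166 F76517 F76520 F73869 (iv D32503) (iv F73863) (iv F74057) F74055 (iv F67201) F65288 F57843 F53456 F53455 F41821 D21602 (iv F53470) D29757 (iv F71355)
theorem F76650 : act 4 n32733 = n33166 := d8_0 F76649 F76519 F74804
def n33167 : Q := act 4 n32670
theorem D33167 : act 4 n32670 = n33167 := rfl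
theorem F76651 : act 0 n33167 = n32734 := d3_1 D33167 F74806 (iv F74551)
theorem F76652 : act 1 n33167 = n33167 := d8_1 D33167 (iv D33167) F74552
theorem F76653 : act 2 n33167 = n32733 := d12_1 D33167 F76650 (iv D33166)
theorem F76654 : act 5 n33167 = n32978 := d18_2 (iv F74553) D33167 (iv D32978)
theorem F76655 : act 6 n33167 = n32963 := d19_2 (iv F74554) D33167 (iv D32963)
def n33168 : Q := act 1 n32672
theorem D33168 : act 1 n32672 = n33168 := rfl
theorem F76656 : act 0 n33168 = n33168 := d0_1 D33168 (iv D33168) F74559 (iv F74805) (iv F76651) F76652 F76651 F74805 (iv F74559)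
theorem F76657 : act 2 n33168 = n33168 := d6_2 (iv F74560) D33168 (iv D33168) F74560 F72640
theorem F76658 : act 3 n33168 = n32673 := d7_2 (iv F74561) D33168 (iv D32673)
theorem F76659 : act 4 n33168 = n33089 := d8_2 (iv F74562) D33168 (iv D33089)
theorem F76660 : act 5 n33168 = n33138 := d9_2 D32672 D33168 F76515 F73862 (iv F68206)
theorem F76661 : act 6 n33168 = n33140 := d10_2 (iv F74563) D33168 F76522 F73873 (iv F68283)
def n33169 : Q := act 1 n32676
theorem D33169 : act 1 n32676 = n33169 := rfl
theorem F76662 : act 2 n33169 = n32989 := d6_2 D32676 D33169 F75890 (iv F72352) F72351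
theorem F76663 : act 5 n33169 = n33145 := d9_2 F74636 D33169 F76548 F73899 (iv F74634)
theorem F76664 : act 0 n33169 = n33107 := d23_3 F68482 D32676 D33169 (iv F76568) (iv D33148) (iv D32520) (iv F66979) (iv D30549) F56728 F45421 (iv F46448) (iv F46463) F46460 D27072 (iv F65462) F65465 (iv F68558) F68556 (iv F68479)
def n33170 : Q := act 5 n32677
theorem D33170 : act 5 n32677 = n33170 := rfl
theorem F76665 : act 0 n33170 = n33170 := d4_1 D33170 (iv D33170) F74581
theorem F76666 : act 2 n33170 = n33170 := d13_1 D33170 (iv D33170) F74582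
theorem F76667 : act 6 n32680 = n33170 := d24_0 (iv D33170) (iv D32677) (iv F74580) (iv F74636) F74634 (iv F73776) (iv F74671) (iv F74672) F74627 F73795 (iv F74629) F74631 F74586 D32680
def n33171 : Q := act 6 n32677
theorem D33171 : act 6 n32677 = n33171 := rfl
theorem F76668 : act 0 n33171 = n33171 := d5_1 D33171 (iv D33171) F74581
theorem F76669 : act 2 n33171 = n33171 := d14_1 D33171 (iv D33171) F74582
theorem F76670 : act 3 n33171 = n33170 := d17_1 D33171 (iv F76667) F74590
theorem F76671 : act 4 n33171 = n33170 := d19_1 D33171 (iv F76667) F74591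
theorem F76672 : act 5 n33171 = n32680 := d22_2 (iv D33170) D33171 F76667 F76665
def n33172 : Q := act 1 n32678
theorem D33172 : act 1 n32678 = n33172 := rfl
theorem F76673 : act 6 n33172 = n32692 := d10_2 F74584 D33172 (iv D32692) F68463 (iv F68565)
def n33173 : Q := act 1 n32679
theorem D33173 : act 1 n32679 = n33173 := rfl
theorem F76674 : act 2 n33173 = n32975 := d6_2 D32679 D33173 F75827 (iv F72760) F72759
theorem F76675 : act 3 n33173 = n33172 := d7_2 (iv F74587) D33173 (iv D33172)
theorem F76676 : act 4 n33173 = n33172 := d8_2 (iv F74585) D33173 (iv D33172)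
theorem F76677 : act 6 n33173 = n33148 := d10_2 F74631 D33173 F76565 F73933 (iv F74629)
theorem F76678 : act 0 n33173 = n33106 := d23_3 (iv F68412) D32679 D33173 (iv F76627) (iv D33161) (iv D32665) F68186 (iv D27662) (iv D23470) F34026 F24256 F24189 (iv D13774) (iv F24111) (iv F33746) D23261 (iv F53988) D29950 (iv F64992)
def n33174 : Q := act 1 n32681
theorem D33174 : act 1 n32681 = n33174 := rfl
theorem F76679 : act 3 n33174 = n33169 := d7_2 (iv F74593) D33174 (iv D33169)
theorem F76680 : act 4 n33174 = n33169 := d8_2 (iv F74594) D33174 (iv D33169)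
theorem F76681 : act 5 n33174 = n32706 := d9_2 F74595 D33174 (iv D32706) F68553 (iv F68478)
def n33175 : Q := act 5 n32682
theorem D33175 : act 5 n32682 = n33175 := rfl
theorem F76682 : act 0 n33175 = n33095 := d4_1 D33175 F76345 F74599
theorem F76683 : act 1 n33175 = n32894 := d9_1 D33175 (iv D32894) (iv D31559) (iv F68448) D32682
theorem F76684 : act 3 n33175 = n32895 := d16_1 D33175 F75494 (iv F74596)
theorem F76685 : act 4 n33175 = n32683 := d18_1 D33175 (iv D32683) (iv F74597)
theorem F76686 : act 6 n33175 = n32909 := d20_2 (iv F74598) D33175 (iv F75556) F74606 (iv F76345) F76346 (iv D32687)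
def n33176 : Q := act 1 n32685
theorem D33176 : act 1 n32685 = n33176 := rfl
theorem F76687 : act 4 n33176 = n32688 := d8_2 (iv F74605) D33176 (iv D32688)
theorem F76688 : act 6 n33176 = n33109 := d10_2 (iv F74606) D33176 (iv D33109) (iv D32434) D32432
def n33177 : Q := act 5 n32692
theorem D33177 : act 5 n32692 = n33177 := rfl
theorem F76689 : act 0 n33177 = n33174 := d4_1 D33177 F76681 F74673
theorem F76690 : act 2 n33177 = n33100 := d13_1 D33177 F76372 F76327
theorem F76691 : act 3 n33177 = n33107 := d16_1 D33177 (iv F76568) F76566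
theorem F76692 : act 4 n33177 = n33107 := d18_1 D33177 (iv F76568) F76567
def n33178 : Q := act 6 n32696
theorem D33178 : act 6 n32696 = n33178 := rfl
theorem F76693 : act 0 n33178 = n33079 := d5_1 D33178 F76274 F74645
theorem F76694 : act 1 n33178 = n32905 := d10_1 D33178 (iv D32905) (iv D31579) (iv F68538) D32696
theorem F76695 : act 3 n33178 = n32897 := d17_1 D33178 F75503 (iv F74642)
theorem F76696 : act 4 n33178 = n32697 := d19_1 D33178 (iv D32697) (iv F74643)
theorem F76697 : act 5 n33178 = n32900 := d20_1 D33178 (iv F75516) F74652 (iv F76274) F76273 (iv D32701) (iv F74644)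
def n33179 : Q := act 1 n32699
theorem D33179 : act 1 n32699 = n33179 := rfl
theorem F76698 : act 2 n33179 = n33176 := d6_2 F76488 D33179 (iv D33176) (iv F76452) (iv F76487)
theorem F76699 : act 4 n33179 = n32702 := d8_2 (iv F74651) D33179 (iv D32702)
theorem F76700 : act 5 n33179 = n33113 := d9_2 (iv F74652) D33179 (iv D33113) (iv D32447) D32445
def n33180 : Q := act 6 n32706
theorem D33180 : act 6 n32706 = n33180 := rfl
theorem F76701 : act 0 n33180 = n33172 := d5_1 D33180 F76673 (iv F74673)
theorem F76702 : act 2 n33180 = n33090 := d14_1 D33180 (iv F76376) F76373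
theorem F76703 : act 3 n33180 = n33106 := d17_1 D33180 (iv F76550) F76551
theorem F76704 : act 4 n33180 = n33106 := d19_1 D33180 (iv F76550) F76549
def n33181 : Q := act 1 n32715
theorem D33181 : act 1 n32715 = n33181 := rfl
theorem F76705 : act 0 n33181 = n33100 := d0_1 D33181 (iv D33100) F72936 F65892 F71666 (iv D31928) (iv F64072) (iv F68756) (iv F74715)
theorem F76706 : act 2 n33181 = n33174 := d6_2 D32715 D33181 (iv D33174) F74592 F68755
theorem F76707 : act 3 n33181 = n32963 := d7_2 (iv F74716) D33181 F75780
theorem F76708 : act 4 n33181 = n32989 := d8_2 (iv F74717) D33181 F75890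
theorem F76709 : act 5 n33181 = n33101 := d9_2 (iv F74718) D33181 (iv D33101) F72972 (iv F73891)
def n33182 : Q := act 1 n32721
theorem D33182 : act 1 n32721 = n33182 := rfl
theorem F76710 : act 0 n33182 = n33090 := d0_1 D33182 (iv D33090) F72612 F65835 (iv F72072) (iv D32056) (iv F64853) (iv F68889) (iv F74745)
theorem F76711 : act 2 n33182 = n33172 := d6_2 D32721 D33182 (iv D33172) F74583 F68888
theorem F76712 : act 3 n33182 = n32978 := d7_2 (iv F74746) D33182 F75840
theorem F76713 : act 4 n33182 = n32975 := d8_2 (iv F74747) D33182 F75827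
theorem F76714 : act 6 n33182 = n33091 := d10_2 (iv F74749) D33182 (iv D33091) F72657 (iv F73923)
def n33183 : Q := act 1 n32723
theorem D33183 : act 1 n32723 = n33183 := rfl
theorem F76715 : act 0 n33183 = n33183 := d0_1 D33183 (iv D33183) F74755 (iv F76078) F76077 F75971 (iv F76077) F76078 (iv F74755)
theorem F76716 : act 4 n33183 = n32725 := d8_2 (iv F74757) D33183 (iv D32725)
def n33184 : Q := act 1 n32729
theorem D33184 : act 1 n32729 = n33184 := rfl
theorem F76717 : act 0 n33184 = n33184 := d0_1 D33184 (iv D33184) F74783 (iv F76233) F76232 F75919 (iv F76232) F76233 (iv F74783)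
theorem F76718 : act 2 n33184 = n33183 := d6_2 (iv F74784) D33184 (iv D33183) F74756 F72978
theorem F76719 : act 3 n33184 = n33183 := d7_2 (iv F74785) D33184 (iv D33183)
theorem F76720 : act 4 n33184 = n32730 := d8_2 (iv F74786) D33184 (iv D32730)
def n33185 : Q := act 2 n32736
theorem D33185 : act 2 n32736 = n33185 := rfl
theorem F76721 : act 0 n33185 = n33161 := d1_1 D33185 (iv D33161) (iv F74815)
theorem F76722 : act 5 n33185 = n33173 := d13_2 F75828 D33185 F76674
theorem F76723 : act 6 n33185 = n33169 := d14_2 F75892 D33185 F76662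
theorem F76724 : act 1 n33185 = n33171 := d23_2 F75828 D33185 F76668 F76672 F74589 (iv D32680) (iv F72927) F74641 F74640 (iv F68486) F64981 (iv D26296) D26294 (iv F54533) F54532 D29103 (iv F65819) D32377 (iv F75826)
def n33186 : Q := act 4 n32736
theorem D33186 : act 4 n32736 = n33186 := rfl
theorem F76725 : act 0 n33186 = n33160 := d3_1 D33186 F76623 (iv F74815)
theorem F76726 : act 1 n33186 = n33186 := d8_1 D33186 (iv D33186) F74816
theorem F76727 : act 3 n33186 = n33167 := d15_1 D33186 (iv D33167) (iv D32670) (iv F69030) D32736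
theorem F76728 : act 5 n33186 = n33182 := d18_2 F75828 D33186 F76713
theorem F76729 : act 6 n33186 = n33181 := d19_2 F75892 D33186 F76708
def n33187 : Q := act 1 n32737
theorem D33187 : act 1 n32737 = n33187 := rfl
theorem F76730 : act 0 n33187 = n33187 := d0_1 D33187 (iv D33187) (iv F76070) (iv D33035) (iv F76055) F76056 F76055 D33035 F76070
theorem F76731 : act 4 n33187 = n32739 := d8_2 (iv F74817) D33187 (iv D32739)
theorem F76732 : act 5 n33187 = n33183 := d9_2 D32737 D33187 (iv D33183) (iv D32723) (iv F69031)
theorem F76733 : act 6 n33187 = n33184 := d10_2 F74818 D33187 (iv D33184) (iv D32729) (iv F69066)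
def n33188 : Q := act 1 n32749
theorem D33188 : act 1 n32749 = n33188 := rfl
theorem F76734 : act 3 n33188 = n32762 := d7_2 (iv F74863) D33188 (iv D32762)
theorem F76735 : act 4 n33188 = n33067 := d8_2 (iv F74864) D33188 F76219
theorem F76736 : act 6 n33188 = n32762 := d10_2 D32749 D33188 (iv D32762) F69571 (iv F69369)
def n33189 : Q := act 0 n32750
theorem D33189 : act 0 n32750 = n33189 := rfl
theorem F76737 : act 1 n33189 = n32758 := d0_2 D32750 D33189 F74902 F69908 (iv F62574) D31740 F74921 (iv D32761) F69564
theorem F76738 : act 3 n33189 = n32824 := d2_2 (iv F74866) D33189 F75164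
theorem F76739 : act 4 n33189 = n32860 := d3_2 (iv F74867) D33189 F75328
theorem F76740 : act 5 n33189 = n32881 := d4_2 F76363 D33189 (iv F76359)
theorem F76741 : act 6 n33189 = n32855 := d5_2 (iv F74868) D33189 (iv D32855)
theorem F76742 : act 2 n32755 = n33189 := d14_3 F76741 (iv F76304) F76307
def n33190 : Q := act 2 n32750
theorem D33190 : act 2 n32750 = n33190 := rfl
theorem F76743 : act 0 n33190 = n32755 := d1_1 D33190 F76742 (iv D33189)
theorem F76744 : act 1 n33190 = n32752 := d6_1 D33190 (iv D32752) (iv D31217) (iv F69373) D32750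
theorem F76745 : act 4 n33190 = n32861 := d12_2 (iv F74867) D33190 F75335
theorem F76746 : act 5 n33190 = n32880 := d13_2 F76363 D33190 (iv F76360)
theorem F76747 : act 6 n33190 = n32856 := d14_2 (iv F74868) D33190 (iv D32856)
theorem F76748 : act 3 n33190 = n32836 := d21_1 D33190 (iv F75277) (iv F75300) (iv F75413) F75414 F75395 (iv F76738) (iv D33189)
def n33191 : Q := act 1 n32756
theorem D33191 : act 1 n32756 = n33191 := rfl
theorem F76749 : act 3 n33191 = n32781 := d7_2 (iv F74894) D33191 (iv D32781)
theorem F76750 : act 4 n33191 = n33026 := d8_2 (iv F74895) D33191 F76034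
theorem F76751 : act 5 n33191 = n32781 := d9_2 D32756 D33191 (iv D32781) F69649 (iv F69470)
def n33192 : Q := act 5 n32765
theorem D33192 : act 5 n32765 = n33192 := rfl
theorem F76752 : act 2 n33192 = n32766 := d13_1 D33192 (iv D32766) D32765
theorem F76753 : act 3 n33192 = n32767 := d16_1 D33192 (iv D32767) (iv F74931)
theorem F76754 : act 4 n33192 = n32767 := d18_1 D33192 (iv D32767) (iv F74929)
def n33193 : Q := act 1 n32767
theorem D33193 : act 1 n32767 = n33193 := rfl
theorem F76755 : act 0 n33193 = n33127 := d0_1 D33193 F76468 F76459 (iv F74639) F74638 D33173 F76678 F76393 F74978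
theorem F76756 : act 5 n33193 = n33127 := d9_2 D32767 D33193 F76468 (iv D33124) (iv F73711)
theorem F76757 : act 6 n33126 = n33193 := d22_1 F76467 F76756 (iv D33127) D33126
def n33194 : Q := act 5 n32771
theorem D33194 : act 5 n32771 = n33194 := rfl
theorem F76758 : act 0 n33194 = n32773 := d4_1 D33194 (iv D32773) (iv F74949)
theorem F76759 : act 1 n33194 = n32987 := d9_1 D33194 (iv D32987) F71466 F71157 (iv F74950)
theorem F76760 : act 2 n33194 = n32772 := d13_1 D33194 (iv D32772) D32771
theorem F76761 : act 3 n33194 = n32777 := d16_1 D33194 (iv D32777) (iv F74951)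
theorem F76762 : act 4 n33194 = n32777 := d18_1 D33194 (iv D32777) (iv F74952)
theorem F76763 : act 6 n33194 = n33192 := d22_1 D33194 (iv D33192) F74930 (iv F74949)
def n33195 : Q := act 6 n32773
theorem D33195 : act 6 n32773 = n33195 := rfl
theorem F76764 : act 0 n33195 = n33192 := d5_1 D33195 (iv F76763) F76758
theorem F76765 : act 1 n33195 = n33180 := d10_1 D33195 (iv D33180) (iv D32706) (iv F69704) (iv F74956)
theorem F76766 : act 2 n33195 = n32774 := d14_1 D33195 (iv D32774) (iv F74957)
theorem F76767 : act 3 n33195 = n32778 := d17_1 D33195 (iv D32778) (iv F74958)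
theorem F76768 : act 4 n33195 = n32778 := d19_1 D33195 (iv D32778) (iv F74959)
theorem F76769 : act 5 n33195 = n32937 := d20_1 D33195 F75674 D33194 F76763 (iv D33192) F74930 D32773
def n33196 : Q := act 6 n32776
theorem D33196 : act 6 n32776 = n33196 := rfl
theorem F76770 : act 0 n33196 = n32779 := d5_1 D33196 F74984 (iv F74971)
theorem F76771 : act 1 n33196 = n32973 := d10_1 D33196 (iv D32973) F71333 F71017 D32776
theorem F76772 : act 2 n33196 = n32789 := d14_1 D33196 (iv D32789) (iv F74972)
theorem F76773 : act 3 n33196 = n32791 := d17_1 D33196 (iv D32791) (iv F74973)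
theorem F76774 : act 4 n33196 = n32791 := d19_1 D33196 (iv D32791) (iv F74974)
def n33197 : Q := act 1 n32777
theorem D33197 : act 1 n32777 = n33197 := rfl
theorem F76775 : act 2 n33197 = n32985 := d6_2 (iv F74976) D33197 F75874 F75702 (iv F73951)
theorem F76776 : act 3 n33197 = n32987 := d7_2 F76761 D33197 (iv F76759)
theorem F76777 : act 4 n33197 = n32987 := d8_2 F76762 D33197 (iv F76759)
theorem F76778 : act 5 n33197 = n32984 := d9_2 D32777 D33197 F75870 F75726 (iv D32776)
def n33198 : Q := act 5 n32779
theorem D33198 : act 5 n32779 = n33198 := rfl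
theorem F76779 : act 1 n33198 = n33177 := d9_1 D33198 (iv D33177) (iv D32692) (iv F69626) D32779
theorem F76780 : act 2 n33198 = n32790 := d13_1 D33198 (iv D32790) (iv F74981)
theorem F76781 : act 3 n33198 = n32792 := d16_1 D33198 (iv D32792) (iv F74982)
theorem F76782 : act 4 n33198 = n32792 := d18_1 D33198 (iv D32792) (iv F74983)
theorem F76783 : act 6 n33198 = n32950 := d22_1 D33198 F75726 D33196 F76770
def n33199 : Q := act 6 n32784
theorem D33199 : act 6 n32784 = n33199 := rfl
theorem F76784 : act 0 n33199 = n33198 := d5_1 D33199 F76783 F75723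
theorem F76785 : act 2 n33199 = n32785 := d14_1 D33199 (iv D32785) D32784
theorem F76786 : act 3 n33199 = n32786 := d17_1 D33199 (iv D32786) (iv F74999)
theorem F76787 : act 4 n33199 = n32786 := d19_1 D33199 (iv D32786) (iv F74997)
theorem F76788 : act 5 n33199 = n33196 := d20_1 D33199 (iv D33196) (iv F75726) (iv F76783) (iv D33198) F74984 (iv F74998)
def n33200 : Q := act 1 n32786
theorem D33200 : act 1 n32786 = n33200 := rfl
theorem F76789 : act 0 n33200 = n33135 := d0_1 D33200 F76499 F76462 (iv F74675) F74674 D33169 F76664 F76394 F75022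
theorem F76790 : act 6 n33200 = n33135 := d10_2 D32786 D33200 F76499 F76464 (iv F73746)
theorem F76791 : act 5 n33134 = n33200 := d22_0 F76790 (iv D33135) F73757 D33134
def n33201 : Q := act 1 n32791
theorem D33201 : act 1 n32791 = n33201 := rfl
theorem F76792 : act 0 n33201 = n33197 := d0_1 D33201 (iv D33197) F74975 (iv F73764) (iv F74667) (iv F74672) F74623 F73783 (iv F75019)
theorem F76793 : act 2 n33201 = n32971 := d6_2 (iv F75020) D33201 F75816 F75756 (iv F73970)
theorem F76794 : act 3 n33201 = n32973 := d7_2 F76773 D33201 (iv F76771)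
theorem F76795 : act 4 n33201 = n32973 := d8_2 F76774 D33201 (iv F76771)
theorem F76796 : act 6 n33201 = n32970 := d10_2 D32791 D33201 F75813 F75674 F74950
def n33202 : Q := act 2 n32793
theorem D33202 : act 2 n32793 = n33202 := rfl
theorem F76797 : act 0 n33202 = n33130 := d1_1 D33202 F76480 F75938
theorem F76798 : act 1 n33202 = n33199 := d6_1 D33202 F76785 (iv F75032) (iv D32795) (iv F75025)
theorem F76799 : act 5 n33202 = n33129 := d13_2 F75366 D33202 F76478
theorem F76800 : act 6 n33202 = n33130 := d14_2 F75940 D33202 F76480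
theorem F76801 : act 3 n33200 = n33202 := d25_6 (iv F70392) F70391 (iv F70957) (iv F70960) (iv F75001) D33200 (iv D33202) (iv D32793) F69714 (iv D29303) D29304 D31893 F71538 (iv D31888) F63024 F60732 (iv D25891) F41686 (iv F41673) (iv D21528) (iv F41664) (iv F53141) F53142 F50623 D24911 (iv F60818) F60817 F50064 F38395 F26120 F20436 (iv F25976) (iv F38105) (iv F49650) (iv F60211) F60300 F60301 (iv F65327) F65328 F54249 D26330 F54259 D26332 D30068 D32324 F73152 (iv D31699) F62465 (iv F60348) (iv F64407) (iv D29777) D29778 D32204 (iv F73387) F73388 F72623 F64316 F62205 F52084 F40916 F27685 F26280 (iv F38486) (iv F45898) (iv D23111) (iv D18741) (iv D13675) F19257 (iv F19020) (iv F23591) (iv F27554) (iv F39083) F39085 D21085 D25298 (iv F60573) D31274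
theorem F76802 : act 4 n33202 = n33200 := d25_0 F76801 (iv D33202) (iv D32793) F69714 (iv D29303) D29304 D31893 F71538 (iv D31888) F63024 F60732 (iv D25891) F41686 (iv F41673) (iv D21528) (iv F41664) (iv F53141) F53142 F50623 D24911 F50631 (iv F45564) (iv F56626) (iv F66898) (iv F73891) (iv D32510) (iv F71438) (iv F71441) F62979 (iv F56558) F56557 F53184 D25908 D29665 D32155 (iv F72470) F72472 F64848 (iv F64872) F64871 (iv D29041) F52081 F40909 F27681 F21316 (iv F17767) (iv F21372) (iv F27794) (iv F41074) (iv F52281) D29167 (iv F71175) (iv F73893) F73892 F72372 (iv F70625) F70624 (iv F70630) F70629 (iv F71445) F71447 (iv D31861) F62911 F54807 (iv F57263) (iv F67341) (iv F67345) F61016 D28602 (iv F69724) F69723 (iv F69443) (iv F69934) D32826 (iv F75176) (iv F76785) (iv F76798)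
def n33203 : Q := act 4 n32793
theorem D33203 : act 4 n32793 = n33203 := rfl
theorem F76803 : act 1 n33203 = n32796 := d8_1 D33203 (iv D32796) (iv F75025)
theorem F76804 : act 2 n33203 = n33200 := d12_1 D33203 (iv F76802) (iv D33202)
theorem F76805 : act 3 n33203 = n32995 := d15_1 D33203 (iv D32995) (iv D31891) (iv F69715) D32793
theorem F76806 : act 5 n33203 = n33152 := d18_2 F75366 D33203 F76585
def n33204 : Q := act 2 n32806
theorem D33204 : act 2 n32806 = n33204 := rfl
theorem F76807 : act 0 n33204 = n33118 := d1_1 D33204 F76438 F76153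
theorem F76808 : act 1 n33204 = n33192 := d6_1 D33204 F76752 (iv F75090) (iv D32808) (iv F75083)
theorem F76809 : act 5 n33204 = n33118 := d13_2 F76155 D33204 F76438
theorem F76810 : act 6 n33204 = n33117 := d14_2 F75469 D33204 F76436
theorem F76811 : act 3 n33193 = n33204 := d25_6 (iv F70452) F70451 (iv F71008) F71009 (iv F74933) D33193 (iv D33204) (iv D32806) F69781 (iv D29446) D29447 D32025 F71949 (iv D32021) F63364 F60570 (iv D26126) F42030 (iv F42014) (iv D21686) (iv F42005) (iv F53740) F53741 F50698 D24939 (iv F60662) F60661 F49928 F38329 F26089 F20423 (iv F25981) (iv F38121) (iv F49662) (iv F60222) (iv F60434) (iv F60435) (iv F65613) F65614 F54429 D26407 F54440 D26408 D30162 D32362 F73298 (iv D31707) F62504 (iv F60360) (iv F63925) F63924 D29979 D32280 (iv F73444) F73445 F72942 F65052 F62244 F52123 F40946 F27710 F26223 (iv F38439) (iv F45920) (iv D23123) (iv D18746) (iv D13679) F19262 (iv F19026) (iv F23596) (iv F27560) (iv F39162) F39164 D21090 D25299 (iv F60735) D31303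
theorem F76812 : act 4 n33204 = n33193 := d25_0 F76811 (iv D33204) (iv D32806) F69781 (iv D29446) D29447 D32025 F71949 (iv D32021) F63364 F60570 (iv D26126) F42030 (iv F42014) (iv D21686) (iv F42005) (iv F53740) F53741 F50698 D24939 F50704 (iv F45648) (iv F56701) (iv F66954) (iv F73923) (iv D32519) (iv F71308) (iv F71310) F62813 (iv F56582) F56581 F53773 D26143 D29896 D32248 F72839 F72484 F64062 (iv F64118) F64117 (iv D29048) F52120 F40939 F27706 F21328 (iv F17752) (iv F21362) (iv F27772) (iv F41029) (iv F52225) D29116 (iv F71034) (iv F73925) F73924 F72775 (iv F70616) F70615 (iv F70621) F70620 (iv F71313) F71315 (iv D31819) F62758 F54711 (iv F57188) (iv F67282) (iv F67286) F61177 D28659 (iv F69791) F69790 (iv F69541) (iv F70055) D32838 (iv F75233) (iv F76752) (iv F76808)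
def n33205 : Q := act 4 n32806
theorem D33205 : act 4 n32806 = n33205 := rfl
theorem F76813 : act 1 n33205 = n32809 := d8_1 D33205 (iv D32809) (iv F75083)
theorem F76814 : act 2 n33205 = n33193 := d12_1 D33205 (iv F76812) (iv D33204)
theorem F76815 : act 3 n33205 = n33049 := d15_1 D33205 (iv D33049) (iv D32023) (iv F69782) D32806
theorem F76816 : act 6 n33205 = n33151 := d19_2 F75469 D33205 F76580
def n33206 : Q := act 0 n32853
theorem D33206 : act 0 n32853 = n33206 := rfl
theorem F76817 : act 1 n33206 = n33076 := d0_2 D32853 D33206 F76259 F74319 F68364 F64932 F64929 (iv F64912) (iv F70136)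
theorem F76818 : act 3 n33206 = n33075 := d2_2 (iv F75300) D33206 F76255
theorem F76819 : act 4 n33206 = n32859 := d3_2 (iv F75301) D33206 (iv D32859)
theorem F76820 : act 5 n33206 = n32855 := d4_2 (iv F75302) D33206 (iv D32855)
theorem F76821 : act 6 n33206 = n33098 := d5_2 F75429 D33206 F76359
def n33207 : Q := act 0 n32878
theorem D33207 : act 0 n32878 = n33207 := rfl
theorem F76822 : act 1 n33207 = n33081 := d0_2 D32878 D33207 F76280 F74248 F68367 F64168 F64165 (iv F64151) (iv F70285)
theorem F76823 : act 2 n33207 = n33206 := d1_2 (iv F75413) D33207 (iv D33206)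
theorem F76824 : act 3 n33207 = n33093 := d2_2 (iv F75414) D33207 F76335
theorem F76825 : act 4 n33207 = n32882 := d3_2 (iv F75415) D33207 (iv D32882)
theorem F76826 : act 5 n33207 = n33085 := d4_2 (iv F75417) D33207 F76303
theorem F76827 : act 6 n33207 = n32880 := d5_2 (iv F75416) D33207 (iv D32880)
def n33208 : Q := act 1 n32901
theorem D33208 : act 1 n32901 = n33208 := rfl
theorem F76828 : act 0 n33208 = n33113 := d0_1 D33208 (iv D33113) (iv F76290) (iv D33082) F72408 F68787 F68782 D32698 (iv F75517)
theorem F76829 : act 2 n33208 = n33188 := d6_2 (iv F75518) D33208 (iv D33188) F74862 (iv F70443)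
theorem F76830 : act 3 n33208 = n33179 := d7_2 (iv F75519) D33208 (iv D33179)
theorem F76831 : act 4 n33208 = n33114 := d8_2 (iv F75520) D33208 F76419
theorem F76832 : act 6 n33208 = n32903 := d10_2 D32901 D33208 (iv D32903) (iv D31569) (iv F70441)
def n33209 : Q := act 1 n32902
theorem D33209 : act 1 n32902 = n33209 := rfl
theorem F76833 : act 0 n33209 = n33191 := d0_1 D33209 (iv D33191) F74892 F72427 (iv F72432) D33083 F76296 (iv F75198) (iv F75521)
theorem F76834 : act 2 n33209 = n33109 := d6_2 (iv F75522) D33209 (iv D33109) F73614 D32435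
theorem F76835 : act 3 n33209 = n32903 := d7_2 (iv F75523) D33209 (iv D32903)
theorem F76836 : act 4 n33209 = n33111 := d8_2 (iv F75524) D33209 F76408
theorem F76837 : act 5 n33209 = n32903 := d9_2 F75585 D33209 (iv D32903) (iv F72562) (iv F75582)
theorem F76838 : act 6 n33209 = n33179 := d10_2 D32902 D33209 (iv D33179) F75516 F75514
def n33210 : Q := act 1 n32910
theorem D33210 : act 1 n32910 = n33210 := rfl
theorem F76839 : act 0 n33210 = n33109 := d0_1 D33210 (iv D33109) (iv F76265) F76266 F72347 F68638 F68633 D32684 (iv F75557)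
theorem F76840 : act 2 n33210 = n33191 := d6_2 (iv F75558) D33210 (iv D33191) F74893 (iv F70502)
theorem F76841 : act 3 n33210 = n33176 := d7_2 (iv F75559) D33210 (iv D33176)
theorem F76842 : act 4 n33210 = n33110 := d8_2 (iv F75560) D33210 F76402
theorem F76843 : act 5 n33210 = n32912 := d9_2 D32910 D33210 (iv D32912) (iv D31589) (iv F70500)
def n33211 : Q := act 1 n32911
theorem D33211 : act 1 n32911 = n33211 := rfl
theorem F76844 : act 0 n33211 = n33188 := d0_1 D33211 (iv D33188) F74861 F72812 (iv F72817) D33096 F76352 (iv F75141) (iv F75562)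
theorem F76845 : act 2 n33211 = n33113 := d6_2 (iv F75563) D33211 (iv D33113) F73656 D32448
theorem F76846 : act 3 n33211 = n32912 := d7_2 (iv F75564) D33211 (iv D32912)
theorem F76847 : act 4 n33211 = n33115 := d8_2 (iv F75565) D33211 F76425
theorem F76848 : act 5 n33211 = n33176 := d9_2 D32911 D33211 (iv D33176) F75556 F75554
theorem F76849 : act 6 n33211 = n32912 := d10_2 F75577 D33211 (iv D32912) (iv F72907) (iv F75573)
def n33212 : Q := act 6 n32913
theorem D33212 : act 6 n32913 = n33212 := rfl
theorem F76850 : act 0 n33212 = n33205 := d5_1 D33212 F76816 F76578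
theorem F76851 : act 1 n33212 = n33055 := d10_1 D33212 (iv F76165) (iv D32356) (iv F70541) D32913
theorem F76852 : act 2 n33212 = n33127 := d14_1 D33212 (iv D33127) (iv F75569)
theorem F76853 : act 3 n33212 = n33048 := d17_1 D33212 F76130 (iv F75570)
theorem F76854 : act 4 n33212 = n33053 := d19_1 D33212 (iv F76434) F76432
theorem F76855 : act 5 n33212 = n33205 := d22_2 F75571 D33212 F76816 F76578
def n33213 : Q := act 5 n32915
theorem D33213 : act 5 n32915 = n33213 := rfl
theorem F76856 : act 0 n33213 = n33203 := d4_1 D33213 F76806 F76583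
theorem F76857 : act 1 n33213 = n33003 := d9_1 D33213 (iv F75949) (iv D32318) (iv F70584) D32915
theorem F76858 : act 2 n33213 = n33135 := d13_1 D33213 (iv D33135) (iv F75578)
theorem F76859 : act 3 n33213 = n32994 := d16_1 D33213 F75909 (iv F75579)
theorem F76860 : act 4 n33213 = n33001 := d18_1 D33213 (iv F76475) F76474
theorem F76861 : act 6 n33213 = n33203 := d22_1 D33213 F76806 F76586 F76583
def n33214 : Q := act 4 n32930
theorem D33214 : act 4 n32930 = n33214 := rfl
theorem F76862 : act 0 n33214 = n32931 := d3_1 D33214 (iv D32931) (iv F75642)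
theorem F76863 : act 1 n33214 = n33062 := d8_1 D33214 (iv D33062) (iv F75643)
theorem F76864 : act 2 n33214 = n33051 := d12_1 D33214 F76145 (iv F75644)
theorem F76865 : act 3 n33214 = n33214 := d15_1 D33214 (iv D33214) (iv D32930) F70871 D32930
theorem F76866 : act 5 n33214 = n32931 := d18_2 (iv F75645) D33214 (iv D32931)
theorem F76867 : act 6 n33214 = n33050 := d19_2 (iv F75646) D33214 F76140
def n33215 : Q := act 4 n32933
theorem D33215 : act 4 n32933 = n33215 := rfl
theorem F76868 : act 0 n33215 = n32934 := d3_1 D33215 (iv D32934) (iv F75656)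
theorem F76869 : act 1 n33215 = n33017 := d8_1 D33215 (iv D33017) (iv F75657)
theorem F76870 : act 2 n33215 = n32999 := d12_1 D33215 F75931 (iv F75658)
theorem F76871 : act 3 n33215 = n33215 := d15_1 D33215 (iv D33215) (iv D32933) F70877 D32933
theorem F76872 : act 5 n33215 = n32998 := d18_2 (iv F75659) D33215 F75926
theorem F76873 : act 6 n33215 = n32934 := d19_2 (iv F75660) D33215 (iv D32934)
def n33216 : Q := act 5 n32943
theorem D33216 : act 5 n32943 = n33216 := rfl
theorem F76874 : act 0 n33216 = n32946 := d4_1 D33216 (iv D32946) (iv F75693)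
theorem F76875 : act 2 n33216 = n32944 := d13_1 D33216 (iv D32944) D32943
theorem F76876 : act 3 n33216 = n33149 := d16_1 D33216 (iv D33149) (iv F75697)
theorem F76877 : act 4 n33216 = n33104 := d18_1 D33216 (iv D33104) (iv F75695)
theorem F76878 : act 6 n33216 = n33105 := d20_2 (iv F75696) D33216 F76392 F75692 D32946 (iv F76535) F76534
def n33217 : Q := act 6 n32956
theorem D33217 : act 6 n32956 = n33217 := rfl
theorem F76879 : act 0 n33217 = n32959 := d5_1 D33217 (iv D32959) (iv F75747)
theorem F76880 : act 1 n33217 = n33216 := d10_1 D33217 F76878 (iv D33105) (iv F73242) (iv F75748)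
theorem F76881 : act 2 n33217 = n32957 := d14_1 D33217 (iv D32957) D32956
theorem F76882 : act 3 n33217 = n33150 := d17_1 D33217 (iv D33150) (iv F75751)
theorem F76883 : act 4 n33217 = n33103 := d19_1 D33217 F76384 (iv F75749)
theorem F76884 : act 5 n33217 = n33102 := d20_1 D33217 F76381 F75746 D32959 (iv F76528) F76529 (iv F75750)
def n33218 : Q := act 2 n32969
theorem D33218 : act 2 n32969 = n33218 := rfl
theorem F76885 : act 0 n33218 = n32970 := d1_1 D33218 (iv D32970) D32969
theorem F76886 : act 1 n33218 = n33126 := d6_1 D33218 F76582 (iv D33151) (iv F75845) F75844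
theorem F76887 : act 3 n33218 = n32972 := d11_2 F75837 D33218 (iv D32972) F71332 F68157 F68154 D32196 (iv F72629) D32970 F75815 (iv D31828) F62794 D29226 D31836 D32977
theorem F76888 : act 4 n33218 = n32972 := d12_2 (iv F75812) D33218 (iv D32972)
theorem F76889 : act 6 n33218 = n33197 := d14_2 F75877 D33218 F76775
def n33219 : Q := act 2 n32983
theorem D33219 : act 2 n32983 = n33219 := rfl
theorem F76890 : act 0 n33219 = n32984 := d1_1 D33219 (iv D32984) D32983
theorem F76891 : act 1 n33219 = n33134 := d6_1 D33219 F76587 (iv D33152) (iv F75775) (iv F75866)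
theorem F76892 : act 3 n33219 = n32986 := d11_2 (iv F75867) D33219 (iv D32986) F71464 F68251 F68248 D32276 (iv F72958) D32984 F75872 (iv D31870) F62954 D29281 (iv F71244) (iv F75771)
theorem F76893 : act 4 n33219 = n32986 := d12_2 (iv F75868) D33219 (iv D32986)
theorem F76894 : act 5 n33219 = n33201 := d13_2 (iv F75869) D33219 F76793
def n33220 : Q := act 1 n33007
theorem D33220 : act 1 n33007 = n33220 := rfl
theorem F76895 : act 4 n33220 = n33008 := d8_2 (iv F75967) D33220 (iv D33008)
theorem F76896 : act 0 n33220 = n33064 := d23_3 (iv F76089) F76087 D33220 F76207 F76012 (iv D33010) (iv D31940) (iv F71630) D33000 F75934 (iv F74758) F74762 (iv F73002) (iv F76309) F76308 F72515 (iv F72513) F72512 (iv F75962)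
def n33221 : Q := act 0 n33010
theorem D33221 : act 0 n33010 = n33221 := rfl
theorem F76897 : act 4 n33221 = n33013 := d3_2 (iv F75976) D33221 (iv D33013)
theorem F76898 : act 6 n33073 = n33221 := d22_3 (iv F76015) (iv F76212) (iv F76250) (iv D33221)
def n33222 : Q := act 6 n33010
theorem D33222 : act 6 n33010 = n33222 := rfl
theorem F76899 : act 0 n33222 = n33073 := d5_1 D33222 F76898 (iv D33221)
theorem F76900 : act 2 n33222 = n33040 := d14_1 D33222 F76092 F76012
theorem F76901 : act 3 n33222 = n33221 := d17_1 D33222 (iv F76898) F76248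
theorem F76902 : act 4 n33222 = n33014 := d19_1 D33222 (iv D33014) (iv F75976)
def n33223 : Q := act 0 n33020
theorem D33223 : act 0 n33020 = n33223 := rfl
theorem F76903 : act 2 n33223 = n33221 := d1_2 (iv F76012) D33223 (iv D33221)
theorem F76904 : act 3 n33223 = n33220 := d2_2 F76205 D33223 F76896
theorem F76905 : act 4 n33223 = n33022 := d3_2 (iv F76013) D33223 (iv D33022)
theorem F76906 : act 5 n33223 = n33220 := d4_2 F76207 D33223 F76896
theorem F76907 : act 1 n33068 = n33223 := d23_2 (iv F72264) (iv F76222) (iv D33223) (iv F76207) F76204 (iv D33021) F71766 F71765 F71745 F65137 F54125 (iv F63177) (iv F71617) F71616 (iv F63665) F65172 (iv F65171) (iv F72188) F72187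
def n33224 : Q := act 0 n33021
theorem D33224 : act 0 n33021 = n33224 := rfl
theorem F76908 : act 1 n33224 = n33058 := d0_2 D33021 D33224 F76178 (iv F72193) (iv F76221) F76907 (iv D33223) (iv D33020) (iv F71766)
theorem F76909 : act 2 n33224 = n33220 := d1_2 F76204 D33224 F76896
theorem F76910 : act 4 n33224 = n33023 := d3_2 (iv F76014) D33224 (iv D33023)
theorem F76911 : act 5 n33224 = n33221 := d4_2 (iv F76015) D33224 (iv D33221)
def n33225 : Q := act 1 n33027
theorem D33225 : act 1 n33027 = n33225 := rfl
theorem F76912 : act 0 n33225 = n33065 := d0_1 D33225 (iv D33065) F72167 D33064 (iv F76896) (iv D33220) F75966 (iv F71791) (iv F76036)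
theorem F76913 : act 3 n33225 = n33224 := d7_2 F76179 D33225 F76908
theorem F76914 : act 4 n33225 = n33028 := d8_2 (iv F76038) D33225 (iv D33028)
theorem F76915 : act 6 n33225 = n33224 := d10_2 D33027 D33225 F76908 (iv D33058) F72075
theorem F76916 : act 5 n33222 = n33225 := d24_1 D33222 (iv D33225) (iv D33027) (iv F71789) F71787 (iv D29425) F52715 (iv D25697) D25698 F52718 (iv F63169) D31935 (iv F71697) D33010
def n33226 : Q := act 1 n33034
theorem D33226 : act 1 n33034 = n33226 := rfl
theorem F76917 : act 0 n33226 = n33226 := d0_1 D33226 (iv D33226) F76061 (iv D31991) (iv F71827) F71828 F71827 D31991 (iv F76061)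
theorem F76918 : act 2 n33226 = n33187 := d6_2 (iv F76062) D33226 (iv D33187) F76071 (iv D33035)
theorem F76919 : act 3 n33226 = n33187 := d7_2 (iv F76063) D33226 (iv D33187)
theorem F76920 : act 4 n33226 = n33036 := d8_2 (iv F76064) D33226 (iv D33036)
theorem F76921 : act 5 n33226 = n33184 := d9_2 D33034 D33226 (iv D33184) F74787 F74751
theorem F76922 : act 6 n33226 = n33183 := d10_2 (iv F76065) D33226 (iv D33183) F74776 F74772
def n33227 : Q := act 0 n33040
theorem D33227 : act 0 n33040 = n33227 := rfl
theorem F76923 : act 1 n33227 = n33221 := d0_2 D33040 D33227 (iv D33221) (iv D33010) (iv D31940) (iv D29361) (iv F52716) D29426 D32001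
theorem F76924 : act 2 n33227 = n33073 := d1_2 F76900 D33227 (iv F76899)
theorem F76925 : act 4 n33227 = n33041 := d3_2 (iv F76091) D33227 (iv D33041)
theorem F76926 : act 6 n33227 = n33223 := d5_2 (iv F76092) D33227 (iv D33223)
theorem F76927 : act 5 n33227 = n33059 := d22_0 (iv F76208) F76207 (iv F76092) D33227
def n33228 : Q := act 5 n33040
theorem D33228 : act 5 n33040 = n33228 := rfl
theorem F76928 : act 0 n33228 = n33059 := d4_1 D33228 (iv F76927) (iv D33227)
theorem F76929 : act 1 n33228 = n33222 := d9_1 D33228 F76916 (iv D33225) F76039 D33040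
theorem F76930 : act 2 n33228 = n33225 := d13_1 D33228 (iv F76916) F76900
theorem F76931 : act 3 n33228 = n33227 := d16_1 D33228 F76927 F76182
theorem F76932 : act 4 n33228 = n33042 := d18_1 D33228 (iv D33042) (iv F76091)
theorem F76933 : act 6 n33228 = n33220 := d20_2 (iv F76092) D33228 (iv F76906) (iv F76926) F76927 (iv F76208) F76207
def n33229 : Q := act 4 n33044
theorem D33229 : act 4 n33044 = n33229 := rfl
theorem F76934 : act 0 n33229 = n33179 := d3_1 D33229 F76699 (iv F76109)
theorem F76935 : act 1 n33229 = n33112 := d8_1 D33229 F76415 (iv F76110)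
theorem F76936 : act 3 n33229 = n33113 := d15_1 D33229 F76417 F73672 F72098 D33044
theorem F76937 : act 5 n33229 = n33208 := d18_2 F76421 D33229 F76831
theorem F76938 : act 6 n33229 = n33191 := d19_2 (iv F76111) D33229 F76750
def n33230 : Q := act 4 n33074
theorem D33230 : act 4 n33074 = n33230 := rfl
theorem F76939 : act 0 n33230 = n33176 := d3_1 D33230 F76687 (iv F76251)
theorem F76940 : act 1 n33230 = n33108 := d8_1 D33230 F76398 (iv F76252)
theorem F76941 : act 2 n33230 = n33229 := d12_1 D33230 (iv D33229) (iv F76253)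
theorem F76942 : act 3 n33230 = n33109 := d15_1 D33230 F76400 F73630 (iv F72272) D33074
theorem F76943 : act 5 n33230 = n33188 := d18_2 (iv F76254) D33230 F76735
theorem F76944 : act 6 n33230 = n33210 := d19_2 F76405 D33230 F76842
def n33231 : Q := act 1 n33118
theorem D33231 : act 1 n33118 = n33231 := rfl
theorem F76945 : act 0 n33231 = n33121 := d0_1 D33231 F76447 F76318 D33172 (iv F76701) (iv F76765) F76764 (iv F76808) F76807
theorem F76946 : act 2 n33231 = n33175 := d6_2 (iv F76438) D33231 F76683 F75488 (iv F76154)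
theorem F76947 : act 3 n33231 = n33124 := d7_2 F76469 D33231 (iv F76468)
theorem F76948 : act 4 n33231 = n33124 := d8_2 F76470 D33231 (iv F76468)
theorem F76949 : act 5 n33231 = n33120 := d9_2 F76809 D33231 (iv F76445) D33192 (iv F76808)
theorem F76950 : act 6 n33231 = n33119 := d10_2 D33118 D33231 (iv D33119) (iv D32456) D32454
def n33232 : Q := act 5 n33123
theorem D33232 : act 5 n33123 = n33232 := rfl
theorem F76951 : act 0 n33232 = n33133 := d4_1 D33232 (iv F76512) F76508
theorem F76952 : act 1 n33232 = n33130 := d9_1 D33232 (iv D33130) (iv D32471) F73704 D33123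
theorem F76953 : act 2 n33232 = n33178 := d13_1 D33232 F76697 (iv F76456)
theorem F76954 : act 3 n33232 = n33125 := d16_1 D33232 (iv D33125) (iv F76457)
theorem F76955 : act 4 n33232 = n33125 := d18_1 D33232 (iv D33125) (iv F76458)
theorem F76956 : act 6 n33232 = n33131 := d20_2 (iv F76491) D33232 F76484 (iv F76513) F76512 (iv D33133) D33132
def n33233 : Q := act 6 n33138
theorem D33233 : act 6 n33138 = n33233 := rfl
theorem F76957 : act 0 n33233 = n33233 := d5_1 D33233 (iv D33233) F76514
theorem F76958 : act 1 n33233 = n33162 := d10_1 D33233 F76631 F75866 F75778 (iv F76515)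
theorem F76959 : act 2 n33233 = n33233 := d14_1 D33233 (iv D33233) F76516
theorem F76960 : act 3 n33233 = n33139 := d17_1 D33233 (iv D33139) D33138
theorem F76961 : act 4 n33233 = n33164 := d19_1 D33233 F76639 F76614
theorem F76962 : act 5 n33233 = n33140 := d22_2 F76660 D33233 (iv F76661) F76656
def n33234 : Q := act 2 n33160
theorem D33234 : act 2 n33160 = n33234 := rfl
theorem F76963 : act 1 n33234 = n33163 := d6_1 D33234 (iv D33163) (iv D32666) (iv F74535) D33160
theorem F76964 : act 4 n33234 = n33161 := d12_2 (iv F76623) D33234 (iv D33161)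
theorem F76965 : act 5 n33234 = n33180 := d13_2 (iv F76624) D33234 F76702
theorem F76966 : act 6 n33234 = n33177 := d14_2 (iv F76625) D33234 F76690
theorem F76967 : act 3 n33234 = n33161 := d21_1 D33234 (iv D33161) F74539 (iv F73354) (iv F74801) (iv F76653) (iv F76727) F76725
def n33235 : Q := act 2 n33162
theorem D33235 : act 2 n33162 = n33235 := rfl
theorem F76968 : act 0 n33235 = n33163 := d1_1 D33235 (iv D33163) D33162
theorem F76969 : act 1 n33235 = n33235 := d6_1 D33235 (iv D33235) (iv F76958) F76959 F76958
theorem F76970 : act 3 n33235 = n33165 := d11_2 F76648 D33235 (iv D33165) F74545 F74523 F74518 (iv F74796) F74797 D33163 F76635 (iv D32668) F68193 D30916 D32670 D33166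
theorem F76971 : act 4 n33235 = n33165 := d12_2 (iv F76629) D33235 (iv D33165)
theorem F76972 : act 5 n33235 = n33218 := d13_2 (iv F76630) D33235 (iv D33218)
theorem F76973 : act 6 n33235 = n33219 := d14_2 (iv F76631) D33235 (iv D33219)
def n33236 : Q := act 1 n33170
theorem D33236 : act 1 n33170 = n33236 := rfl
theorem F76974 : act 3 n33236 = n33185 := d7_2 F76670 D33236 F76724
theorem F76975 : act 4 n33236 = n33185 := d8_2 F76671 D33236 F76724
theorem F76976 : act 5 n33236 = n33172 := d9_2 D33170 D33236 (iv D33172) (iv D32678) D32677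
theorem F76977 : act 6 n33236 = n33174 := d10_2 F76667 D33236 (iv D33174) (iv D32681) D32680
theorem F76978 : act 0 n33236 = n33234 := d23_3 D33170 F76666 D33236 F76965 F76702 (iv D33090) F72612 (iv D30220) (iv F65826) F65825 (iv F70850) (iv F72796) F72793 (iv F72584) F72583 (iv D30968) D30967 D32677 F74581
theorem F76979 : act 2 n33186 = n33236 := d25_4 (iv F69028) (iv F74801) (iv F76653) (iv F76727) (iv D33236) (iv F76670) F76669 F76670 F76666 D33236 F76974 (iv D33185) (iv D32736) (iv D31131) (iv D28133) (iv F59641) (iv F69019) (iv F74794) F74793 D32739 F74823 F69039 (iv F74823) (iv F76073) (iv D33036) (iv F76064) F76063 F76071 F76066 (iv F76057) F76056 F76058 F71829 (iv F76058) F76057 (iv D31991) (iv F71835) (iv F76062) F76063 F76071 (iv D33035) F71835 F63292 (iv F71835) (iv F76062) D33226 F76919 (iv F76918) F76919 (iv F76918) (iv D33226) F76064 F71844 F69036 F59653 (iv F68210) D32673 (iv F76658) F76657 F76658 F74564 (iv D32673) (iv F74561) F74560 F72641 (iv D31993) (iv D29413) (iv F53487) (iv F64298) (iv F68148) (iv F74514)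 D33159 F76618 F76324 (iv F76618) F76617 (iv D32669)

end Cfsg.Agent.Helper17.SuzbTC
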