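import Cfsg.Agent.Helper17.SuzbTC.Final

set_option autoImplicit false
set_option linter.all false
set_option maxRecDepth 100000

noncomputable section

namespace Cfsg.Agent.Helper17.SuzbTC

theorem N1 : nd 1 = n1 := ndS (p := 0) (l := 4) rfl N0 D1
theorem N2 : nd 2 = n2 := ndS (p := 1) (l := 3) rfl N1 D2
theorem N3 : nd 3 = n3 := ndS (p := 2) (l := 2) rfl N2 D3
theorem N4 : nd 4 = n4 := ndS (p := 3) (l := 1) rfl N3 D4
theorem N5 : nd 5 = n5 := ndS (p := 3) (l := 3) rfl N3 D5
theorem N6 : nd 6 = n6 := ndS (p := 4) (l := 0) rfl N4 D6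
theorem N7 : nd 7 = n7 := ndS (p := 4) (l := 3) rfl N4 D7
theorem N8 : nd 8 = n8 := ndS (p := 4) (l := 5) rfl N4 D8
theorem N9 : nd 9 = n9 := ndS (p := 4) (l := 6) rfl N4 D9
theorem N10 : nd 10 = n10 := ndS (p := 5) (l := 4) rfl N5 D10
theorem N11 : nd 11 = n11 := ndS (p := 6) (l := 1) rfl N6 D11
theorem N12 : nd 12 = n12 := ndS (p := 6) (l := 3) rfl N6 D12
theorem N13 : nd 13 = n13 := ndS (p := 6) (l := 5) rfl N6 D13
theorem N14 : nd 14 = n14 := ndS (p := 6) (l := 6) rfl N6 D14
theorem N15 : nd 15 = n15 := ndS (p := 7) (l := 2) rfl N7 D15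
theorem N16 : nd 16 = n16 := ndS (p := 7) (l := 4) rfl N7 D16
theorem N17 : nd 17 = n17 := ndS (p := 7) (l := 5) rfl N7 D17
theorem N18 : nd 18 = n18 := ndS (p := 7) (l := 6) rfl N7 D18
theorem N19 : nd 19 = n19 := ndS (p := 8) (l := 6) rfl N8 D19
theorem N20 : nd 20 = n20 := ndS (p := 9) (l := 5) rfl N9 D20
theorem N21 : nd 21 = n21 := ndS (p := 11) (l := 0) rfl N11 D21
theorem N22 : nd 22 = n23 := ndS (p := 11) (l := 3) rfl N11 D23
theorem N23 : nd 23 = n24 := ndS (p := 11) (l := 5) rfl N11 D24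
theorem N24 : nd 24 = n25 := ndS (p := 11) (l := 6) rfl N11 D25
theorem N25 : nd 25 = n26 := ndS (p := 12) (l := 2) rfl N12 D26
theorem N26 : nd 26 = n27 := ndS (p := 12) (l := 4) rfl N12 D27
theorem N27 : nd 27 = n28 := ndS (p := 12) (l := 5) rfl N12 D28
theorem N28 : nd 28 = n29 := ndS (p := 12) (l := 6) rfl N12 D29
theorem N29 : nd 29 = n30 := ndS (p := 13) (l := 1) rfl N13 D30
theorem N30 : nd 30 = n31 := ndS (p := 14) (l := 1) rfl N14 D31
theorem N31 : nd 31 = n32 := ndS (p := 15) (l := 3) rfl N15 D32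
theorem N32 : nd 32 = n33 := ndS (p := 15) (l := 4) rfl N15 D33
theorem N33 : nd 33 = n34 := ndS (p := 15) (l := 5) rfl N15 D34
theorem N34 : nd 34 = n35 := ndS (p := 15) (l := 6) rfl N15 D35
theorem N35 : nd 35 = n36 := ndS (p := 16) (l := 5) rfl N16 D36
theorem N36 : nd 36 = n37 := ndS (p := 16) (l := 6) rfl N16 D37
theorem N37 : nd 37 = n38 := ndS (p := 17) (l := 6) rfl N17 D38
theorem N38 : nd 38 = n39 := ndS (p := 18) (l := 5) rfl N18 D39
theorem N39 : nd 39 = n40 := ndS (p := 19) (l := 1) rfl N19 D40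
theorem N40 : nd 40 = n41 := ndS (p := 20) (l := 1) rfl N20 D41
theorem N41 : nd 41 = n43 := ndS (p := 21) (l := 3) rfl N21 D43
theorem N42 : nd 42 = n44 := ndS (p := 21) (l := 5) rfl N21 D44
theorem N43 : nd 43 = n45 := ndS (p := 21) (l := 6) rfl N21 D45
theorem N44 : nd 44 = n49 := ndS (p := 22) (l := 2) rfl N22 D49
theorem N45 : nd 45 = n50 := ndS (p := 22) (l := 4) rfl N22 D50
theorem N46 : nd 46 = n51 := ndS (p := 22) (l := 5) rfl N22 D51
theorem N47 : nd 47 = n52 := ndS (p := 22) (l := 6) rfl N22 D52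
theorem N48 : nd 48 = n53 := ndS (p := 23) (l := 1) rfl N23 D53
theorem N49 : nd 49 = n54 := ndS (p := 23) (l := 6) rfl N23 D54
theorem N50 : nd 50 = n55 := ndS (p := 24) (l := 1) rfl N24 D55
theorem N51 : nd 51 = n56 := ndS (p := 24) (l := 5) rfl N24 D56
theorem N52 : nd 52 = n57 := ndS (p := 25) (l := 1) rfl N25 D57
theorem N53 : nd 53 = n58 := ndS (p := 25) (l := 3) rfl N25 D58
theorem N54 : nd 54 = n59 := ndS (p := 25) (l := 4) rfl N25 D59
theorem N55 : nd 55 = n60 := ndS (p := 25) (l := 5) rfl N25 D60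
theorem N56 : nd 56 = n61 := ndS (p := 25) (l := 6) rfl N25 D61
theorem N57 : nd 57 = n62 := ndS (p := 26) (l := 5) rfl N26 D62
theorem N58 : nd 58 = n63 := ndS (p := 26) (l := 6) rfl N26 D63
theorem N59 : nd 59 = n64 := ndS (p := 27) (l := 1) rfl N27 D64
theorem N60 : nd 60 = n65 := ndS (p := 28) (l := 1) rfl N28 D65
theorem N61 : nd 61 = n66 := ndS (p := 29) (l := 0) rfl N29 D66
theorem N62 : nd 62 = n67 := ndS (p := 29) (l := 2) rfl N29 D67
theorem N63 : nd 63 = n68 := ndS (p := 29) (l := 6) rfl N29 D68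
theorem N64 : nd 64 = n69 := ndS (p := 30) (l := 0) rfl N30 D69
theorem N65 : nd 65 = n70 := ndS (p := 30) (l := 2) rfl N30 D70
theorem N66 : nd 66 = n71 := ndS (p := 30) (l := 5) rfl N30 D71
theorem N67 : nd 67 = n72 := ndS (p := 31) (l := 4) rfl N31 D72
theorem N68 : nd 68 = n73 := ndS (p := 31) (l := 5) rfl N31 D73
theorem N69 : nd 69 = n74 := ndS (p := 31) (l := 6) rfl N31 D74
theorem N70 : nd 70 = n75 := ndS (p := 32) (l := 3) rfl N32 D75
theorem N71 : nd 71 = n76 := ndS (p := 32) (l := 5) rfl N32 D76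
theorem N72 : nd 72 = n77 := ndS (p := 32) (l := 6) rfl N32 D77
theorem N73 : nd 73 = n78 := ndS (p := 33) (l := 1) rfl N33 D78
theorem N74 : nd 74 = n79 := ndS (p := 33) (l := 6) rfl N33 D79
theorem N75 : nd 75 = n80 := ndS (p := 34) (l := 1) rfl N34 D80
theorem N76 : nd 76 = n81 := ndS (p := 34) (l := 5) rfl N34 D81
theorem N77 : nd 77 = n82 := ndS (p := 35) (l := 6) rfl N35 D82
theorem N78 : nd 78 = n83 := ndS (p := 36) (l := 5) rfl N36 D83
theorem N79 : nd 79 = n84 := ndS (p := 37) (l := 1) rfl N37 D84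
theorem N80 : nd 80 = n85 := ndS (p := 38) (l := 1) rfl N38 D85
theorem N81 : nd 81 = n86 := ndS (p := 39) (l := 0) rfl N39 D86
theorem N82 : nd 82 = n87 := ndS (p := 39) (l := 2) rfl N39 D87
theorem N83 : nd 83 = n88 := ndS (p := 39) (l := 5) rfl N39 D88
theorem N84 : nd 84 = n89 := ndS (p := 40) (l := 0) rfl N40 D89
theorem N85 : nd 85 = n90 := ndS (p := 40) (l := 2) rfl N40 D90
theorem N86 : nd 86 = n91 := ndS (p := 40) (l := 6) rfl N40 D91
theorem N87 : nd 87 = n96 := ndS (p := 41) (l := 2) rfl N41 D96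
theorem N88 : nd 88 = n97 := ndS (p := 41) (l := 4) rfl N41 D97
theorem N89 : nd 89 = n98 := ndS (p := 41) (l := 5) rfl N41 D98
theorem N90 : nd 90 = n99 := ndS (p := 41) (l := 6) rfl N41 D99
theorem N91 : nd 91 = n100 := ndS (p := 42) (l := 1) rfl N42 D100
theorem N92 : nd 92 = n101 := ndS (p := 43) (l := 1) rfl N43 D101
theorem N93 : nd 93 = n110 := ndS (p := 44) (l := 1) rfl N44 D110
theorem N94 : nd 94 = n111 := ndS (p := 44) (l := 3) rfl N44 D111
theorem N95 : nd 95 = n112 := ndS (p := 44) (l := 4) rfl N44 D112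
theorem N96 : nd 96 = n113 := ndS (p := 44) (l := 5) rfl N44 D113
theorem N97 : nd 97 = n114 := ndS (p := 44) (l := 6) rfl N44 D114
theorem N98 : nd 98 = n115 := ndS (p := 45) (l := 5) rfl N45 D115
theorem N99 : nd 99 = n116 := ndS (p := 45) (l := 6) rfl N45 D116
theorem N100 : nd 100 = n117 := ndS (p := 46) (l := 1) rfl N46 D117
theorem N101 : nd 101 = n118 := ndS (p := 46) (l := 6) rfl N46 D118
theorem N102 : nd 102 = n119 := ndS (p := 47) (l := 1) rfl N47 D119
theorem N103 : nd 103 = n120 := ndS (p := 47) (l := 5) rfl N47 D120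
theorem N104 : nd 104 = n121 := ndS (p := 48) (l := 6) rfl N48 D121
theorem N105 : nd 105 = n122 := ndS (p := 49) (l := 1) rfl N49 D122
theorem N106 : nd 106 = n125 := ndS (p := 50) (l := 5) rfl N50 D125
theorem N107 : nd 107 = n126 := ndS (p := 51) (l := 1) rfl N51 D126
theorem N108 : nd 108 = n127 := ndS (p := 52) (l := 0) rfl N52 D127
theorem N109 : nd 109 = n128 := ndS (p := 52) (l := 3) rfl N52 D128
theorem N110 : nd 110 = n129 := ndS (p := 52) (l := 4) rfl N52 D129
theorem N111 : nd 111 = n130 := ndS (p := 52) (l := 5) rfl N52 D130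
theorem N112 : nd 112 = n131 := ndS (p := 52) (l := 6) rfl N52 D131
theorem N113 : nd 113 = n132 := ndS (p := 53) (l := 4) rfl N53 D132
theorem N114 : nd 114 = n133 := ndS (p := 53) (l := 5) rfl N53 D133
theorem N115 : nd 115 = n134 := ndS (p := 53) (l := 6) rfl N53 D134
theorem N116 : nd 116 = n135 := ndS (p := 54) (l := 3) rfl N54 D135
theorem N117 : nd 117 = n136 := ndS (p := 54) (l := 5) rfl N54 D136
theorem N118 : nd 118 = n137 := ndS (p := 54) (l := 6) rfl N54 D137
theorem N119 : nd 119 = n138 := ndS (p := 55) (l := 1) rfl N55 D138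
theorem N120 : nd 120 = n139 := ndS (p := 56) (l := 1) rfl N56 D139
theorem N121 : nd 121 = n140 := ndS (p := 57) (l := 1) rfl N57 D140
theorem N122 : nd 122 = n141 := ndS (p := 58) (l := 1) rfl N58 D141
theorem N123 : nd 123 = n142 := ndS (p := 59) (l := 0) rfl N59 D142
theorem N124 : nd 124 = n143 := ndS (p := 59) (l := 2) rfl N59 D143
theorem N125 : nd 125 = n144 := ndS (p := 59) (l := 6) rfl N59 D144
theorem N126 : nd 126 = n145 := ndS (p := 60) (l := 0) rfl N60 D145
theorem N127 : nd 127 = n146 := ndS (p := 60) (l := 2) rfl N60 D146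
theorem N128 : nd 128 = n147 := ndS (p := 60) (l := 5) rfl N60 D147
theorem N129 : nd 129 = n148 := ndS (p := 61) (l := 1) rfl N61 D148
theorem N130 : nd 130 = n149 := ndS (p := 62) (l := 3) rfl N62 D149
theorem N131 : nd 131 = n150 := ndS (p := 62) (l := 6) rfl N62 D150
theorem N132 : nd 132 = n151 := ndS (p := 64) (l := 1) rfl N64 D151
theorem N133 : nd 133 = n153 := ndS (p := 65) (l := 3) rfl N65 D153
theorem N134 : nd 134 = n154 := ndS (p := 65) (l := 5) rfl N65 D154
theorem N135 : nd 135 = n156 := ndS (p := 67) (l := 3) rfl N67 D156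
theorem N136 : nd 136 = n157 := ndS (p := 67) (l := 5) rfl N67 D157
theorem N137 : nd 137 = n158 := ndS (p := 67) (l := 6) rfl N67 D158
theorem N138 : nd 138 = n159 := ndS (p := 68) (l := 1) rfl N68 D159
theorem N139 : nd 139 = n160 := ndS (p := 68) (l := 6) rfl N68 D160
theorem N140 : nd 140 = n161 := ndS (p := 69) (l := 1) rfl N69 D161
theorem N141 : nd 141 = n162 := ndS (p := 69) (l := 5) rfl N69 D162
theorem N142 : nd 142 = n163 := ndS (p := 70) (l := 2) rfl N70 D163
theorem N143 : nd 143 = n164 := ndS (p := 70) (l := 5) rfl N70 D164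
theorem N144 : nd 144 = n165 := ndS (p := 70) (l := 6) rfl N70 D165
theorem N145 : nd 145 = n166 := ndS (p := 71) (l := 1) rfl N71 D166
theorem N146 : nd 146 = n167 := ndS (p := 71) (l := 6) rfl N71 D167
theorem N147 : nd 147 = n168 := ndS (p := 72) (l := 1) rfl N72 D168
theorem N148 : nd 148 = n169 := ndS (p := 72) (l := 5) rfl N72 D169
theorem N149 : nd 149 = n171 := ndS (p := 73) (l := 6) rfl N73 D171
theorem N150 : nd 150 = n172 := ndS (p := 74) (l := 1) rfl N74 D172
theorem N151 : nd 151 = n174 := ndS (p := 75) (l := 5) rfl N75 D174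
theorem N152 : nd 152 = n175 := ndS (p := 76) (l := 1) rfl N76 D175
theorem N153 : nd 153 = n176 := ndS (p := 77) (l := 1) rfl N77 D176
theorem N154 : nd 154 = n177 := ndS (p := 78) (l := 1) rfl N78 D177
theorem N155 : nd 155 = n178 := ndS (p := 79) (l := 0) rfl N79 D178
theorem N156 : nd 156 = n179 := ndS (p := 79) (l := 2) rfl N79 D179
theorem N157 : nd 157 = n180 := ndS (p := 79) (l := 5) rfl N79 D180
theorem N158 : nd 158 = n181 := ndS (p := 80) (l := 0) rfl N80 D181
theorem N159 : nd 159 = n182 := ndS (p := 80) (l := 2) rfl N80 D182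
theorem N160 : nd 160 = n183 := ndS (p := 80) (l := 6) rfl N80 D183
theorem N161 : nd 161 = n185 := ndS (p := 81) (l := 2) rfl N81 D185
theorem N162 : nd 162 = n186 := ndS (p := 81) (l := 5) rfl N81 D186
theorem N163 : nd 163 = n188 := ndS (p := 82) (l := 5) rfl N82 D188
theorem N164 : nd 164 = n189 := ndS (p := 84) (l := 2) rfl N84 D189
theorem N165 : nd 165 = n190 := ndS (p := 84) (l := 6) rfl N84 D190
theorem N166 : nd 166 = n192 := ndS (p := 85) (l := 6) rfl N85 D192
theorem N167 : nd 167 = n202 := ndS (p := 87) (l := 1) rfl N87 D202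
theorem N168 : nd 168 = n203 := ndS (p := 87) (l := 3) rfl N87 D203
theorem N169 : nd 169 = n204 := ndS (p := 87) (l := 4) rfl N87 D204
theorem N170 : nd 170 = n205 := ndS (p := 87) (l := 5) rfl N87 D205
theorem N171 : nd 171 = n206 := ndS (p := 87) (l := 6) rfl N87 D206
theorem N172 : nd 172 = n207 := ndS (p := 88) (l := 5) rfl N88 D207
theorem N173 : nd 173 = n208 := ndS (p := 88) (l := 6) rfl N88 D208
theorem N174 : nd 174 = n209 := ndS (p := 89) (l := 1) rfl N89 D209
theorem N175 : nd 175 = n210 := ndS (p := 90) (l := 1) rfl N90 D210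
theorem N176 : nd 176 = n227 := ndS (p := 93) (l := 0) rfl N93 D227
theorem N177 : nd 177 = n228 := ndS (p := 93) (l := 3) rfl N93 D228
theorem N178 : nd 178 = n229 := ndS (p := 93) (l := 4) rfl N93 D229
theorem N179 : nd 179 = n230 := ndS (p := 93) (l := 5) rfl N93 D230
theorem N180 : nd 180 = n231 := ndS (p := 93) (l := 6) rfl N93 D231
theorem N181 : nd 181 = n233 := ndS (p := 94) (l := 4) rfl N94 D233
theorem N182 : nd 182 = n234 := ndS (p := 94) (l := 5) rfl N94 D234
theorem N183 : nd 183 = n235 := ndS (p := 94) (l := 6) rfl N94 D235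
theorem N184 : nd 184 = n236 := ndS (p := 95) (l := 3) rfl N95 D236
theorem N185 : nd 185 = n237 := ndS (p := 95) (l := 5) rfl N95 D237
theorem N186 : nd 186 = n238 := ndS (p := 95) (l := 6) rfl N95 D238
theorem N187 : nd 187 = n239 := ndS (p := 96) (l := 1) rfl N96 D239
theorem N188 : nd 188 = n240 := ndS (p := 96) (l := 6) rfl N96 D240
theorem N189 : nd 189 = n241 := ndS (p := 97) (l := 1) rfl N97 D241
theorem N190 : nd 190 = n242 := ndS (p := 97) (l := 5) rfl N97 D242
theorem N191 : nd 191 = n243 := ndS (p := 98) (l := 1) rfl N98 D243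
theorem N192 : nd 192 = n244 := ndS (p := 98) (l := 6) rfl N98 D244
theorem N193 : nd 193 = n245 := ndS (p := 99) (l := 1) rfl N99 D245
theorem N194 : nd 194 = n246 := ndS (p := 99) (l := 5) rfl N99 D246
theorem N195 : nd 195 = n247 := ndS (p := 100) (l := 2) rfl N100 D247
theorem N196 : nd 196 = n248 := ndS (p := 100) (l := 6) rfl N100 D248
theorem N197 : nd 197 = n249 := ndS (p := 101) (l := 1) rfl N101 D249
theorem N198 : nd 198 = n251 := ndS (p := 102) (l := 2) rfl N102 D251
theorem N199 : nd 199 = n252 := ndS (p := 102) (l := 5) rfl N102 D252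
theorem N200 : nd 200 = n253 := ndS (p := 103) (l := 1) rfl N103 D253
theorem N201 : nd 201 = n257 := ndS (p := 108) (l := 1) rfl N108 D257
theorem N202 : nd 202 = n258 := ndS (p := 108) (l := 3) rfl N108 D258
theorem N203 : nd 203 = n259 := ndS (p := 108) (l := 4) rfl N108 D259
theorem N204 : nd 204 = n260 := ndS (p := 108) (l := 5) rfl N108 D260
theorem N205 : nd 205 = n261 := ndS (p := 108) (l := 6) rfl N108 D261
theorem N206 : nd 206 = n262 := ndS (p := 109) (l := 4) rfl N109 D262
theorem N207 : nd 207 = n263 := ndS (p := 109) (l := 5) rfl N109 D263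
theorem N208 : nd 208 = n264 := ndS (p := 109) (l := 6) rfl N109 D264
theorem N209 : nd 209 = n265 := ndS (p := 110) (l := 3) rfl N110 D265
theorem N210 : nd 210 = n266 := ndS (p := 110) (l := 5) rfl N110 D266
theorem N211 : nd 211 = n267 := ndS (p := 110) (l := 6) rfl N110 D267
theorem N212 : nd 212 = n268 := ndS (p := 111) (l := 1) rfl N111 D268
theorem N213 : nd 213 = n269 := ndS (p := 111) (l := 6) rfl N111 D269
theorem N214 : nd 214 = n270 := ndS (p := 112) (l := 1) rfl N112 D270
theorem N215 : nd 215 = n271 := ndS (p := 112) (l := 5) rfl N112 D271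
theorem N216 : nd 216 = n272 := ndS (p := 113) (l := 3) rfl N113 D272
theorem N217 : nd 217 = n273 := ndS (p := 113) (l := 5) rfl N113 D273
theorem N218 : nd 218 = n274 := ndS (p := 113) (l := 6) rfl N113 D274
theorem N219 : nd 219 = n275 := ndS (p := 114) (l := 1) rfl N114 D275
theorem N220 : nd 220 = n276 := ndS (p := 115) (l := 1) rfl N115 D276
theorem N221 : nd 221 = n277 := ndS (p := 116) (l := 2) rfl N116 D277
theorem N222 : nd 222 = n278 := ndS (p := 116) (l := 5) rfl N116 D278
theorem N223 : nd 223 = n279 := ndS (p := 116) (l := 6) rfl N116 D279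
theorem N224 : nd 224 = n280 := ndS (p := 117) (l := 1) rfl N117 D280
theorem N225 : nd 225 = n281 := ndS (p := 118) (l := 1) rfl N118 D281
theorem N226 : nd 226 = n282 := ndS (p := 119) (l := 0) rfl N119 D282
theorem N227 : nd 227 = n283 := ndS (p := 119) (l := 2) rfl N119 D283
theorem N228 : nd 228 = n284 := ndS (p := 119) (l := 6) rfl N119 D284
theorem N229 : nd 229 = n285 := ndS (p := 120) (l := 0) rfl N120 D285
theorem N230 : nd 230 = n286 := ndS (p := 120) (l := 2) rfl N120 D286
theorem N231 : nd 231 = n287 := ndS (p := 120) (l := 5) rfl N120 D287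
theorem N232 : nd 232 = n288 := ndS (p := 121) (l := 0) rfl N121 D288
theorem N233 : nd 233 = n289 := ndS (p := 121) (l := 2) rfl N121 D289
theorem N234 : nd 234 = n290 := ndS (p := 121) (l := 6) rfl N121 D290
theorem N235 : nd 235 = n291 := ndS (p := 122) (l := 0) rfl N122 D291
theorem N236 : nd 236 = n292 := ndS (p := 122) (l := 2) rfl N122 D292
theorem N237 : nd 237 = n293 := ndS (p := 122) (l := 5) rfl N122 D293
theorem N238 : nd 238 = n294 := ndS (p := 123) (l := 1) rfl N123 D294
theorem N239 : nd 239 = n295 := ndS (p := 123) (l := 2) rfl N123 D295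
theorem N240 : nd 240 = n296 := ndS (p := 124) (l := 3) rfl N124 D296
theorem N241 : nd 241 = n297 := ndS (p := 124) (l := 6) rfl N124 D297
theorem N242 : nd 242 = n298 := ndS (p := 125) (l := 5) rfl N125 D298
theorem N243 : nd 243 = n299 := ndS (p := 126) (l := 1) rfl N126 D299
theorem N244 : nd 244 = n300 := ndS (p := 126) (l := 2) rfl N126 D300
theorem N245 : nd 245 = n301 := ndS (p := 127) (l := 3) rfl N127 D301
theorem N246 : nd 246 = n302 := ndS (p := 127) (l := 5) rfl N127 D302
theorem N247 : nd 247 = n303 := ndS (p := 128) (l := 6) rfl N128 D303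
theorem N248 : nd 248 = n304 := ndS (p := 130) (l := 2) rfl N130 D304
theorem N249 : nd 249 = n305 := ndS (p := 130) (l := 4) rfl N130 D305
theorem N250 : nd 250 = n307 := ndS (p := 133) (l := 2) rfl N133 D307
theorem N251 : nd 251 = n308 := ndS (p := 133) (l := 4) rfl N133 D308
theorem N252 : nd 252 = n312 := ndS (p := 135) (l := 2) rfl N135 D312
theorem N253 : nd 253 = n313 := ndS (p := 135) (l := 5) rfl N135 D313
theorem N254 : nd 254 = n314 := ndS (p := 135) (l := 6) rfl N135 D314
theorem N255 : nd 255 = n315 := ndS (p := 136) (l := 1) rfl N136 D315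
theorem N256 : nd 256 = n316 := ndS (p := 136) (l := 6) rfl N136 D316
theorem N257 : nd 257 = n317 := ndS (p := 137) (l := 1) rfl N137 D317
theorem N258 : nd 258 = n318 := ndS (p := 137) (l := 5) rfl N137 D318
theorem N259 : nd 259 = n320 := ndS (p := 138) (l := 2) rfl N138 D320
theorem N260 : nd 260 = n322 := ndS (p := 139) (l := 1) rfl N139 D322
theorem N261 : nd 261 = n324 := ndS (p := 140) (l := 2) rfl N140 D324
theorem N262 : nd 262 = n326 := ndS (p := 141) (l := 1) rfl N141 D326
theorem N263 : nd 263 = n327 := ndS (p := 142) (l := 1) rfl N142 D327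
theorem N264 : nd 264 = n328 := ndS (p := 142) (l := 5) rfl N142 D328
theorem N265 : nd 265 = n329 := ndS (p := 142) (l := 6) rfl N142 D329
theorem N266 : nd 266 = n330 := ndS (p := 143) (l := 1) rfl N143 D330
theorem N267 : nd 267 = n331 := ndS (p := 143) (l := 6) rfl N143 D331
theorem N268 : nd 268 = n332 := ndS (p := 144) (l := 1) rfl N144 D332
theorem N269 : nd 269 = n333 := ndS (p := 144) (l := 5) rfl N144 D333
theorem N270 : nd 270 = n335 := ndS (p := 145) (l := 6) rfl N145 D335
theorem N271 : nd 271 = n336 := ndS (p := 146) (l := 1) rfl N146 D336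
theorem N272 : nd 272 = n338 := ndS (p := 147) (l := 5) rfl N147 D338
theorem N273 : nd 273 = n339 := ndS (p := 148) (l := 1) rfl N148 D339
theorem N274 : nd 274 = n342 := ndS (p := 149) (l := 1) rfl N149 D342
theorem N275 : nd 275 = n343 := ndS (p := 150) (l := 0) rfl N150 D343
theorem N276 : nd 276 = n344 := ndS (p := 150) (l := 2) rfl N150 D344
theorem N277 : nd 277 = n348 := ndS (p := 151) (l := 1) rfl N151 D348
theorem N278 : nd 278 = n349 := ndS (p := 152) (l := 0) rfl N152 D349
theorem N279 : nd 279 = n350 := ndS (p := 152) (l := 2) rfl N152 D350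
theorem N280 : nd 280 = n352 := ndS (p := 153) (l := 0) rfl N153 D352
theorem N281 : nd 281 = n353 := ndS (p := 153) (l := 2) rfl N153 D353
theorem N282 : nd 282 = n354 := ndS (p := 153) (l := 5) rfl N153 D354
theorem N283 : nd 283 = n355 := ndS (p := 154) (l := 0) rfl N154 D355
theorem N284 : nd 284 = n356 := ndS (p := 154) (l := 2) rfl N154 D356
theorem N285 : nd 285 = n357 := ndS (p := 154) (l := 6) rfl N154 D357
theorem N286 : nd 286 = n358 := ndS (p := 155) (l := 2) rfl N155 D358
theorem N287 : nd 287 = n359 := ndS (p := 155) (l := 5) rfl N155 D359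
theorem N288 : nd 288 = n361 := ndS (p := 156) (l := 5) rfl N156 D361
theorem N289 : nd 289 = n362 := ndS (p := 158) (l := 2) rfl N158 D362
theorem N290 : nd 290 = n363 := ndS (p := 158) (l := 6) rfl N158 D363
theorem N291 : nd 291 = n365 := ndS (p := 159) (l := 6) rfl N159 D365
theorem N292 : nd 292 = n367 := ndS (p := 161) (l := 5) rfl N161 D367
theorem N293 : nd 293 = n374 := ndS (p := 164) (l := 6) rfl N164 D374
theorem N294 : nd 294 = n400 := ndS (p := 167) (l := 3) rfl N167 D400
theorem N295 : nd 295 = n401 := ndS (p := 167) (l := 4) rfl N167 D401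
theorem N296 : nd 296 = n404 := ndS (p := 168) (l := 4) rfl N168 D404
theorem N297 : nd 297 = n405 := ndS (p := 168) (l := 5) rfl N168 D405
theorem N298 : nd 298 = n406 := ndS (p := 168) (l := 6) rfl N168 D406
theorem N299 : nd 299 = n407 := ndS (p := 169) (l := 3) rfl N169 D407
theorem N300 : nd 300 = n408 := ndS (p := 169) (l := 5) rfl N169 D408
theorem N301 : nd 301 = n409 := ndS (p := 169) (l := 6) rfl N169 D409
theorem N302 : nd 302 = n412 := ndS (p := 172) (l := 1) rfl N172 D412
theorem N303 : nd 303 = n413 := ndS (p := 173) (l := 1) rfl N173 D413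
theorem N304 : nd 304 = n443 := ndS (p := 176) (l := 3) rfl N176 D443
theorem N305 : nd 305 = n444 := ndS (p := 176) (l := 4) rfl N176 D444
theorem N306 : nd 306 = n445 := ndS (p := 176) (l := 5) rfl N176 D445
theorem N307 : nd 307 = n446 := ndS (p := 176) (l := 6) rfl N176 D446
theorem N308 : nd 308 = n447 := ndS (p := 177) (l := 4) rfl N177 D447
theorem N309 : nd 309 = n448 := ndS (p := 177) (l := 5) rfl N177 D448
theorem N310 : nd 310 = n449 := ndS (p := 177) (l := 6) rfl N177 D449
theorem N311 : nd 311 = n450 := ndS (p := 178) (l := 3) rfl N178 D450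
theorem N312 : nd 312 = n451 := ndS (p := 178) (l := 5) rfl N178 D451
theorem N313 : nd 313 = n452 := ndS (p := 178) (l := 6) rfl N178 D452
theorem N314 : nd 314 = n453 := ndS (p := 179) (l := 1) rfl N179 D453
theorem N315 : nd 315 = n454 := ndS (p := 179) (l := 6) rfl N179 D454
theorem N316 : nd 316 = n455 := ndS (p := 180) (l := 1) rfl N180 D455
theorem N317 : nd 317 = n456 := ndS (p := 180) (l := 5) rfl N180 D456
theorem N318 : nd 318 = n461 := ndS (p := 181) (l := 3) rfl N181 D461
theorem N319 : nd 319 = n462 := ndS (p := 181) (l := 5) rfl N181 D462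
theorem N320 : nd 320 = n463 := ndS (p := 181) (l := 6) rfl N181 D463
theorem N321 : nd 321 = n464 := ndS (p := 182) (l := 1) rfl N182 D464
theorem N322 : nd 322 = n465 := ndS (p := 182) (l := 6) rfl N182 D465
theorem N323 : nd 323 = n466 := ndS (p := 183) (l := 1) rfl N183 D466
theorem N324 : nd 324 = n467 := ndS (p := 183) (l := 5) rfl N183 D467
theorem N325 : nd 325 = n468 := ndS (p := 184) (l := 2) rfl N184 D468
theorem N326 : nd 326 = n469 := ndS (p := 184) (l := 5) rfl N184 D469
theorem N327 : nd 327 = n470 := ndS (p := 184) (l := 6) rfl N184 D470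
theorem N328 : nd 328 = n471 := ndS (p := 185) (l := 1) rfl N185 D471
theorem N329 : nd 329 = n472 := ndS (p := 185) (l := 6) rfl N185 D472
theorem N330 : nd 330 = n473 := ndS (p := 186) (l := 1) rfl N186 D473
theorem N331 : nd 331 = n474 := ndS (p := 186) (l := 5) rfl N186 D474
theorem N332 : nd 332 = n475 := ndS (p := 187) (l := 0) rfl N187 D475
theorem N333 : nd 333 = n476 := ndS (p := 187) (l := 2) rfl N187 D476
theorem N334 : nd 334 = n477 := ndS (p := 187) (l := 6) rfl N187 D477
theorem N335 : nd 335 = n478 := ndS (p := 188) (l := 1) rfl N188 D478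
theorem N336 : nd 336 = n479 := ndS (p := 189) (l := 0) rfl N189 D479
theorem N337 : nd 337 = n480 := ndS (p := 189) (l := 2) rfl N189 D480
theorem N338 : nd 338 = n481 := ndS (p := 189) (l := 5) rfl N189 D481
theorem N339 : nd 339 = n482 := ndS (p := 190) (l := 1) rfl N190 D482
theorem N340 : nd 340 = n483 := ndS (p := 191) (l := 2) rfl N191 D483
theorem N341 : nd 341 = n484 := ndS (p := 191) (l := 6) rfl N191 D484
theorem N342 : nd 342 = n485 := ndS (p := 192) (l := 1) rfl N192 D485
theorem N343 : nd 343 = n487 := ndS (p := 193) (l := 2) rfl N193 D487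
theorem N344 : nd 344 = n488 := ndS (p := 193) (l := 5) rfl N193 D488
theorem N345 : nd 345 = n489 := ndS (p := 194) (l := 1) rfl N194 D489
theorem N346 : nd 346 = n490 := ndS (p := 195) (l := 3) rfl N195 D490
theorem N347 : nd 347 = n491 := ndS (p := 195) (l := 6) rfl N195 D491
theorem N348 : nd 348 = n492 := ndS (p := 197) (l := 2) rfl N197 D492
theorem N349 : nd 349 = n494 := ndS (p := 198) (l := 3) rfl N198 D494
theorem N350 : nd 350 = n495 := ndS (p := 198) (l := 5) rfl N198 D495
theorem N351 : nd 351 = n496 := ndS (p := 200) (l := 2) rfl N200 D496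
theorem N352 : nd 352 = n502 := ndS (p := 201) (l := 3) rfl N201 D502
theorem N353 : nd 353 = n503 := ndS (p := 201) (l := 4) rfl N201 D503
theorem N354 : nd 354 = n506 := ndS (p := 202) (l := 4) rfl N202 D506
theorem N355 : nd 355 = n507 := ndS (p := 202) (l := 5) rfl N202 D507
theorem N356 : nd 356 = n508 := ndS (p := 202) (l := 6) rfl N202 D508
theorem N357 : nd 357 = n509 := ndS (p := 203) (l := 3) rfl N203 D509
theorem N358 : nd 358 = n510 := ndS (p := 203) (l := 5) rfl N203 D510
theorem N359 : nd 359 = n511 := ndS (p := 203) (l := 6) rfl N203 D511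
theorem N360 : nd 360 = n514 := ndS (p := 206) (l := 3) rfl N206 D514
theorem N361 : nd 361 = n515 := ndS (p := 206) (l := 5) rfl N206 D515
theorem N362 : nd 362 = n516 := ndS (p := 206) (l := 6) rfl N206 D516
theorem N363 : nd 363 = n517 := ndS (p := 207) (l := 1) rfl N207 D517
theorem N364 : nd 364 = n518 := ndS (p := 207) (l := 6) rfl N207 D518
theorem N365 : nd 365 = n519 := ndS (p := 208) (l := 1) rfl N208 D519
theorem N366 : nd 366 = n520 := ndS (p := 208) (l := 5) rfl N208 D520
theorem N367 : nd 367 = n521 := ndS (p := 209) (l := 2) rfl N209 D521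
theorem N368 : nd 368 = n522 := ndS (p := 209) (l := 5) rfl N209 D522
theorem N369 : nd 369 = n523 := ndS (p := 209) (l := 6) rfl N209 D523
theorem N370 : nd 370 = n524 := ndS (p := 210) (l := 1) rfl N210 D524
theorem N371 : nd 371 = n525 := ndS (p := 210) (l := 6) rfl N210 D525
theorem N372 : nd 372 = n526 := ndS (p := 211) (l := 1) rfl N211 D526
theorem N373 : nd 373 = n527 := ndS (p := 211) (l := 5) rfl N211 D527
theorem N374 : nd 374 = n529 := ndS (p := 212) (l := 2) rfl N212 D529
theorem N375 : nd 375 = n531 := ndS (p := 213) (l := 1) rfl N213 D531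
theorem N376 : nd 376 = n533 := ndS (p := 214) (l := 2) rfl N214 D533
theorem N377 : nd 377 = n535 := ndS (p := 215) (l := 1) rfl N215 D535
theorem N378 : nd 378 = n536 := ndS (p := 216) (l := 2) rfl N216 D536
theorem N379 : nd 379 = n537 := ndS (p := 216) (l := 5) rfl N216 D537
theorem N380 : nd 380 = n538 := ndS (p := 216) (l := 6) rfl N216 D538
theorem N381 : nd 381 = n539 := ndS (p := 217) (l := 1) rfl N217 D539
theorem N382 : nd 382 = n540 := ndS (p := 218) (l := 1) rfl N218 D540
theorem N383 : nd 383 = n541 := ndS (p := 219) (l := 0) rfl N219 D541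
theorem N384 : nd 384 = n542 := ndS (p := 219) (l := 2) rfl N219 D542
theorem N385 : nd 385 = n543 := ndS (p := 219) (l := 6) rfl N219 D543
theorem N386 : nd 386 = n544 := ndS (p := 220) (l := 0) rfl N220 D544
theorem N387 : nd 387 = n545 := ndS (p := 220) (l := 2) rfl N220 D545
theorem N388 : nd 388 = n546 := ndS (p := 220) (l := 5) rfl N220 D546
theorem N389 : nd 389 = n547 := ndS (p := 221) (l := 1) rfl N221 D547
theorem N390 : nd 390 = n548 := ndS (p := 221) (l := 5) rfl N221 D548
theorem N391 : nd 391 = n549 := ndS (p := 221) (l := 6) rfl N221 D549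
theorem N392 : nd 392 = n550 := ndS (p := 222) (l := 1) rfl N222 D550
theorem N393 : nd 393 = n551 := ndS (p := 223) (l := 1) rfl N223 D551
theorem N394 : nd 394 = n552 := ndS (p := 224) (l := 0) rfl N224 D552
theorem N395 : nd 395 = n553 := ndS (p := 224) (l := 2) rfl N224 D553
theorem N396 : nd 396 = n554 := ndS (p := 224) (l := 6) rfl N224 D554
theorem N397 : nd 397 = n555 := ndS (p := 225) (l := 0) rfl N225 D555
theorem N398 : nd 398 = n556 := ndS (p := 225) (l := 2) rfl N225 D556
theorem N399 : nd 399 = n557 := ndS (p := 225) (l := 5) rfl N225 D557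
theorem N400 : nd 400 = n559 := ndS (p := 226) (l := 2) rfl N226 D559
theorem N401 : nd 401 = n560 := ndS (p := 226) (l := 6) rfl N226 D560
theorem N402 : nd 402 = n561 := ndS (p := 227) (l := 3) rfl N227 D561
theorem N403 : nd 403 = n562 := ndS (p := 227) (l := 6) rfl N227 D562
theorem N404 : nd 404 = n565 := ndS (p := 229) (l := 2) rfl N229 D565
theorem N405 : nd 405 = n566 := ndS (p := 229) (l := 5) rfl N229 D566
theorem N406 : nd 406 = n567 := ndS (p := 230) (l := 3) rfl N230 D567
theorem N407 : nd 407 = n568 := ndS (p := 230) (l := 5) rfl N230 D568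
theorem N408 : nd 408 = n570 := ndS (p := 232) (l := 1) rfl N232 D570
theorem N409 : nd 409 = n571 := ndS (p := 232) (l := 2) rfl N232 D571
theorem N410 : nd 410 = n572 := ndS (p := 233) (l := 3) rfl N233 D572
theorem N411 : nd 411 = n573 := ndS (p := 233) (l := 6) rfl N233 D573
theorem N412 : nd 412 = n574 := ndS (p := 234) (l := 5) rfl N234 D574
theorem N413 : nd 413 = n575 := ndS (p := 235) (l := 1) rfl N235 D575
theorem N414 : nd 414 = n576 := ndS (p := 235) (l := 2) rfl N235 D576
theorem N415 : nd 415 = n577 := ndS (p := 236) (l := 3) rfl N236 D577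
theorem N416 : nd 416 = n578 := ndS (p := 236) (l := 5) rfl N236 D578
theorem N417 : nd 417 = n579 := ndS (p := 237) (l := 6) rfl N237 D579
theorem N418 : nd 418 = n582 := ndS (p := 239) (l := 3) rfl N239 D582
theorem N419 : nd 419 = n583 := ndS (p := 240) (l := 4) rfl N240 D583
theorem N420 : nd 420 = n584 := ndS (p := 240) (l := 6) rfl N240 D584
theorem N421 : nd 421 = n585 := ndS (p := 241) (l := 1) rfl N241 D585
theorem N422 : nd 422 = n586 := ndS (p := 241) (l := 5) rfl N241 D586
theorem N423 : nd 423 = n589 := ndS (p := 244) (l := 3) rfl N244 D589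
theorem N424 : nd 424 = n591 := ndS (p := 245) (l := 4) rfl N245 D591
theorem N425 : nd 425 = n592 := ndS (p := 245) (l := 5) rfl N245 D592
theorem N426 : nd 426 = n593 := ndS (p := 246) (l := 1) rfl N246 D593
theorem N427 : nd 427 = n594 := ndS (p := 246) (l := 6) rfl N246 D594
theorem N428 : nd 428 = n595 := ndS (p := 248) (l := 1) rfl N248 D595
theorem N429 : nd 429 = n596 := ndS (p := 248) (l := 3) rfl N248 D596
theorem N430 : nd 430 = n597 := ndS (p := 248) (l := 4) rfl N248 D597
theorem N431 : nd 431 = n600 := ndS (p := 250) (l := 1) rfl N250 D600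
theorem N432 : nd 432 = n601 := ndS (p := 250) (l := 3) rfl N250 D601
theorem N433 : nd 433 = n602 := ndS (p := 250) (l := 4) rfl N250 D602
theorem N434 : nd 434 = n610 := ndS (p := 252) (l := 1) rfl N252 D610
theorem N435 : nd 435 = n611 := ndS (p := 252) (l := 3) rfl N252 D611
theorem N436 : nd 436 = n612 := ndS (p := 252) (l := 5) rfl N252 D612
theorem N437 : nd 437 = n613 := ndS (p := 252) (l := 6) rfl N252 D613
theorem N438 : nd 438 = n614 := ndS (p := 253) (l := 1) rfl N253 D614
theorem N439 : nd 439 = n615 := ndS (p := 253) (l := 6) rfl N253 D615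
theorem N440 : nd 440 = n616 := ndS (p := 254) (l := 1) rfl N254 D616
theorem N441 : nd 441 = n617 := ndS (p := 254) (l := 5) rfl N254 D617
theorem N442 : nd 442 = n619 := ndS (p := 255) (l := 2) rfl N255 D619
theorem N443 : nd 443 = n621 := ndS (p := 256) (l := 1) rfl N256 D621
theorem N444 : nd 444 = n623 := ndS (p := 257) (l := 2) rfl N257 D623
theorem N445 : nd 445 = n625 := ndS (p := 258) (l := 1) rfl N258 D625
theorem N446 : nd 446 = n632 := ndS (p := 260) (l := 0) rfl N260 D632
theorem N447 : nd 447 = n641 := ndS (p := 262) (l := 0) rfl N262 D641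
theorem N448 : nd 448 = n644 := ndS (p := 263) (l := 0) rfl N263 D644
theorem N449 : nd 449 = n645 := ndS (p := 263) (l := 5) rfl N263 D645
theorem N450 : nd 450 = n646 := ndS (p := 263) (l := 6) rfl N263 D646
theorem N451 : nd 451 = n647 := ndS (p := 264) (l := 1) rfl N264 D647
theorem N452 : nd 452 = n648 := ndS (p := 264) (l := 6) rfl N264 D648
theorem N453 : nd 453 = n649 := ndS (p := 265) (l := 1) rfl N265 D649
theorem N454 : nd 454 = n650 := ndS (p := 265) (l := 5) rfl N265 D650
theorem N455 : nd 455 = n652 := ndS (p := 266) (l := 2) rfl N266 D652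
theorem N456 : nd 456 = n653 := ndS (p := 266) (l := 6) rfl N266 D653
theorem N457 : nd 457 = n654 := ndS (p := 267) (l := 1) rfl N267 D654
theorem N458 : nd 458 = n656 := ndS (p := 268) (l := 2) rfl N268 D656
theorem N459 : nd 459 = n657 := ndS (p := 268) (l := 5) rfl N268 D657
theorem N460 : nd 460 = n658 := ndS (p := 269) (l := 1) rfl N269 D658
theorem N461 : nd 461 = n661 := ndS (p := 270) (l := 1) rfl N270 D661
theorem N462 : nd 462 = n662 := ndS (p := 271) (l := 0) rfl N271 D662
theorem N463 : nd 463 = n663 := ndS (p := 271) (l := 2) rfl N271 D663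
theorem N464 : nd 464 = n667 := ndS (p := 272) (l := 1) rfl N272 D667
theorem N465 : nd 465 = n668 := ndS (p := 273) (l := 0) rfl N273 D668
theorem N466 : nd 466 = n669 := ndS (p := 273) (l := 2) rfl N273 D669
theorem N467 : nd 467 = n677 := ndS (p := 274) (l := 2) rfl N274 D677
theorem N468 : nd 468 = n679 := ndS (p := 275) (l := 1) rfl N275 D679
theorem N469 : nd 469 = n680 := ndS (p := 275) (l := 2) rfl N275 D680
theorem N470 : nd 470 = n682 := ndS (p := 276) (l := 3) rfl N276 D682
theorem N471 : nd 471 = n691 := ndS (p := 277) (l := 2) rfl N277 D691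
theorem N472 : nd 472 = n693 := ndS (p := 278) (l := 1) rfl N278 D693
theorem N473 : nd 473 = n694 := ndS (p := 278) (l := 2) rfl N278 D694
theorem N474 : nd 474 = n696 := ndS (p := 279) (l := 3) rfl N279 D696
theorem N475 : nd 475 = n699 := ndS (p := 280) (l := 2) rfl N280 D699
theorem N476 : nd 476 = n700 := ndS (p := 280) (l := 5) rfl N280 D700
theorem N477 : nd 477 = n701 := ndS (p := 281) (l := 3) rfl N281 D701
theorem N478 : nd 478 = n702 := ndS (p := 281) (l := 5) rfl N281 D702
theorem N479 : nd 479 = n703 := ndS (p := 283) (l := 2) rfl N283 D703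
theorem N480 : nd 480 = n704 := ndS (p := 283) (l := 6) rfl N283 D704
theorem N481 : nd 481 = n705 := ndS (p := 284) (l := 3) rfl N284 D705
theorem N482 : nd 482 = n706 := ndS (p := 284) (l := 6) rfl N284 D706
theorem N483 : nd 483 = n709 := ndS (p := 286) (l := 5) rfl N286 D709
theorem N484 : nd 484 = n713 := ndS (p := 288) (l := 1) rfl N288 D713
theorem N485 : nd 485 = n716 := ndS (p := 289) (l := 6) rfl N289 D716
theorem N486 : nd 486 = n720 := ndS (p := 291) (l := 1) rfl N291 D720
theorem N487 : nd 487 = n724 := ndS (p := 292) (l := 1) rfl N292 D724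
theorem N488 : nd 488 = n740 := ndS (p := 293) (l := 1) rfl N293 D740
theorem N489 : nd 489 = n783 := ndS (p := 294) (l := 2) rfl N294 D783
theorem N490 : nd 490 = n784 := ndS (p := 294) (l := 4) rfl N294 D784
theorem N491 : nd 491 = n787 := ndS (p := 295) (l := 3) rfl N295 D787
theorem N492 : nd 492 = n794 := ndS (p := 296) (l := 3) rfl N296 D794
theorem N493 : nd 493 = n795 := ndS (p := 296) (l := 5) rfl N296 D795
theorem N494 : nd 494 = n796 := ndS (p := 296) (l := 6) rfl N296 D796
theorem N495 : nd 495 = n799 := ndS (p := 299) (l := 2) rfl N299 D799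
theorem N496 : nd 496 = n800 := ndS (p := 299) (l := 5) rfl N299 D800
theorem N497 : nd 497 = n801 := ndS (p := 299) (l := 6) rfl N299 D801
theorem N498 : nd 498 = n872 := ndS (p := 304) (l := 4) rfl N304 D872
theorem N499 : nd 499 = n873 := ndS (p := 304) (l := 5) rfl N304 D873
theorem N500 : nd 500 = n874 := ndS (p := 304) (l := 6) rfl N304 D874
theorem N501 : nd 501 = n875 := ndS (p := 305) (l := 3) rfl N305 D875
theorem N502 : nd 502 = n876 := ndS (p := 305) (l := 5) rfl N305 D876
theorem N503 : nd 503 = n877 := ndS (p := 305) (l := 6) rfl N305 D877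
theorem N504 : nd 504 = n878 := ndS (p := 306) (l := 1) rfl N306 D878
theorem N505 : nd 505 = n879 := ndS (p := 307) (l := 1) rfl N307 D879
theorem N506 : nd 506 = n880 := ndS (p := 308) (l := 3) rfl N308 D880
theorem N507 : nd 507 = n881 := ndS (p := 308) (l := 5) rfl N308 D881
theorem N508 : nd 508 = n882 := ndS (p := 308) (l := 6) rfl N308 D882
theorem N509 : nd 509 = n883 := ndS (p := 309) (l := 1) rfl N309 D883
theorem N510 : nd 510 = n884 := ndS (p := 309) (l := 6) rfl N309 D884
theorem N511 : nd 511 = n885 := ndS (p := 310) (l := 1) rfl N310 D885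
theorem N512 : nd 512 = n886 := ndS (p := 310) (l := 5) rfl N310 D886
theorem N513 : nd 513 = n887 := ndS (p := 311) (l := 2) rfl N311 D887
theorem N514 : nd 514 = n888 := ndS (p := 311) (l := 5) rfl N311 D888
theorem N515 : nd 515 = n889 := ndS (p := 311) (l := 6) rfl N311 D889
theorem N516 : nd 516 = n890 := ndS (p := 312) (l := 1) rfl N312 D890
theorem N517 : nd 517 = n891 := ndS (p := 312) (l := 6) rfl N312 D891
theorem N518 : nd 518 = n892 := ndS (p := 313) (l := 1) rfl N313 D892
theorem N519 : nd 519 = n893 := ndS (p := 313) (l := 5) rfl N313 D893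
theorem N520 : nd 520 = n894 := ndS (p := 314) (l := 0) rfl N314 D894
theorem N521 : nd 521 = n895 := ndS (p := 314) (l := 2) rfl N314 D895
theorem N522 : nd 522 = n896 := ndS (p := 314) (l := 6) rfl N314 D896
theorem N523 : nd 523 = n897 := ndS (p := 315) (l := 1) rfl N315 D897
theorem N524 : nd 524 = n898 := ndS (p := 316) (l := 0) rfl N316 D898
theorem N525 : nd 525 = n899 := ndS (p := 316) (l := 2) rfl N316 D899
theorem N526 : nd 526 = n900 := ndS (p := 316) (l := 5) rfl N316 D900
theorem N527 : nd 527 = n901 := ndS (p := 317) (l := 1) rfl N317 D901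
theorem N528 : nd 528 = n911 := ndS (p := 318) (l := 2) rfl N318 D911
theorem N529 : nd 529 = n912 := ndS (p := 318) (l := 5) rfl N318 D912
theorem N530 : nd 530 = n913 := ndS (p := 318) (l := 6) rfl N318 D913
theorem N531 : nd 531 = n914 := ndS (p := 319) (l := 1) rfl N319 D914
theorem N532 : nd 532 = n915 := ndS (p := 319) (l := 6) rfl N319 D915
theorem N533 : nd 533 = n916 := ndS (p := 320) (l := 1) rfl N320 D916
theorem N534 : nd 534 = n917 := ndS (p := 320) (l := 5) rfl N320 D917
theorem N535 : nd 535 = n918 := ndS (p := 321) (l := 0) rfl N321 D918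
theorem N536 : nd 536 = n919 := ndS (p := 321) (l := 2) rfl N321 D919
theorem N537 : nd 537 = n920 := ndS (p := 321) (l := 6) rfl N321 D920
theorem N538 : nd 538 = n921 := ndS (p := 322) (l := 1) rfl N322 D921
theorem N539 : nd 539 = n922 := ndS (p := 323) (l := 0) rfl N323 D922
theorem N540 : nd 540 = n923 := ndS (p := 323) (l := 2) rfl N323 D923
theorem N541 : nd 541 = n924 := ndS (p := 323) (l := 5) rfl N323 D924
theorem N542 : nd 542 = n925 := ndS (p := 324) (l := 1) rfl N324 D925
theorem N543 : nd 543 = n926 := ndS (p := 325) (l := 1) rfl N325 D926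
theorem N544 : nd 544 = n927 := ndS (p := 325) (l := 5) rfl N325 D927
theorem N545 : nd 545 = n928 := ndS (p := 325) (l := 6) rfl N325 D928
theorem N546 : nd 546 = n929 := ndS (p := 326) (l := 1) rfl N326 D929
theorem N547 : nd 547 = n930 := ndS (p := 326) (l := 6) rfl N326 D930
theorem N548 : nd 548 = n931 := ndS (p := 327) (l := 1) rfl N327 D931
theorem N549 : nd 549 = n932 := ndS (p := 327) (l := 5) rfl N327 D932
theorem N550 : nd 550 = n933 := ndS (p := 328) (l := 0) rfl N328 D933
theorem N551 : nd 551 = n934 := ndS (p := 328) (l := 2) rfl N328 D934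
theorem N552 : nd 552 = n935 := ndS (p := 328) (l := 6) rfl N328 D935
theorem N553 : nd 553 = n936 := ndS (p := 329) (l := 1) rfl N329 D936
theorem N554 : nd 554 = n937 := ndS (p := 330) (l := 0) rfl N330 D937
theorem N555 : nd 555 = n938 := ndS (p := 330) (l := 2) rfl N330 D938
theorem N556 : nd 556 = n939 := ndS (p := 330) (l := 5) rfl N330 D939
theorem N557 : nd 557 = n940 := ndS (p := 331) (l := 1) rfl N331 D940
theorem N558 : nd 558 = n941 := ndS (p := 332) (l := 1) rfl N332 D941
theorem N559 : nd 559 = n942 := ndS (p := 332) (l := 2) rfl N332 D942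
theorem N560 : nd 560 = n944 := ndS (p := 333) (l := 3) rfl N333 D944
theorem N561 : nd 561 = n945 := ndS (p := 333) (l := 6) rfl N333 D945
theorem N562 : nd 562 = n946 := ndS (p := 334) (l := 1) rfl N334 D946
theorem N563 : nd 563 = n947 := ndS (p := 334) (l := 5) rfl N334 D947
theorem N564 : nd 564 = n948 := ndS (p := 335) (l := 0) rfl N335 D948
theorem N565 : nd 565 = n949 := ndS (p := 335) (l := 2) rfl N335 D949
theorem N566 : nd 566 = n951 := ndS (p := 336) (l := 1) rfl N336 D951
theorem N567 : nd 567 = n952 := ndS (p := 336) (l := 2) rfl N336 D952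
theorem N568 : nd 568 = n954 := ndS (p := 337) (l := 3) rfl N337 D954
theorem N569 : nd 569 = n955 := ndS (p := 337) (l := 5) rfl N337 D955
theorem N570 : nd 570 = n956 := ndS (p := 338) (l := 1) rfl N338 D956
theorem N571 : nd 571 = n957 := ndS (p := 338) (l := 6) rfl N338 D957
theorem N572 : nd 572 = n958 := ndS (p := 339) (l := 0) rfl N339 D958
theorem N573 : nd 573 = n959 := ndS (p := 339) (l := 2) rfl N339 D959
theorem N574 : nd 574 = n961 := ndS (p := 340) (l := 3) rfl N340 D961
theorem N575 : nd 575 = n962 := ndS (p := 340) (l := 6) rfl N340 D962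
theorem N576 : nd 576 = n963 := ndS (p := 342) (l := 2) rfl N342 D963
theorem N577 : nd 577 = n965 := ndS (p := 343) (l := 3) rfl N343 D965
theorem N578 : nd 578 = n966 := ndS (p := 343) (l := 5) rfl N343 D966
theorem N579 : nd 579 = n967 := ndS (p := 345) (l := 2) rfl N345 D967
theorem N580 : nd 580 = n968 := ndS (p := 346) (l := 4) rfl N346 D968
theorem N581 : nd 581 = n969 := ndS (p := 346) (l := 6) rfl N346 D969
theorem N582 : nd 582 = n970 := ndS (p := 347) (l := 1) rfl N347 D970
theorem N583 : nd 583 = n971 := ndS (p := 348) (l := 3) rfl N348 D971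
theorem N584 : nd 584 = n975 := ndS (p := 349) (l := 4) rfl N349 D975
theorem N585 : nd 585 = n976 := ndS (p := 349) (l := 5) rfl N349 D976
theorem N586 : nd 586 = n977 := ndS (p := 350) (l := 1) rfl N350 D977
theorem N587 : nd 587 = n978 := ndS (p := 351) (l := 3) rfl N351 D978
theorem N588 : nd 588 = n990 := ndS (p := 352) (l := 2) rfl N352 D990
theorem N589 : nd 589 = n991 := ndS (p := 352) (l := 4) rfl N352 D991
theorem N590 : nd 590 = n994 := ndS (p := 353) (l := 3) rfl N353 D994
theorem N591 : nd 591 = n1000 := ndS (p := 354) (l := 3) rfl N354 D1000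
theorem N592 : nd 592 = n1001 := ndS (p := 354) (l := 5) rfl N354 D1001
theorem N593 : nd 593 = n1002 := ndS (p := 354) (l := 6) rfl N354 D1002
theorem N594 : nd 594 = n1005 := ndS (p := 357) (l := 2) rfl N357 D1005
theorem N595 : nd 595 = n1006 := ndS (p := 357) (l := 5) rfl N357 D1006
theorem N596 : nd 596 = n1007 := ndS (p := 357) (l := 6) rfl N357 D1007
theorem N597 : nd 597 = n1016 := ndS (p := 360) (l := 2) rfl N360 D1016
theorem N598 : nd 598 = n1017 := ndS (p := 360) (l := 5) rfl N360 D1017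
theorem N599 : nd 599 = n1018 := ndS (p := 360) (l := 6) rfl N360 D1018
theorem N600 : nd 600 = n1019 := ndS (p := 361) (l := 1) rfl N361 D1019
theorem N601 : nd 601 = n1020 := ndS (p := 361) (l := 6) rfl N361 D1020
theorem N602 : nd 602 = n1021 := ndS (p := 362) (l := 1) rfl N362 D1021
theorem N603 : nd 603 = n1022 := ndS (p := 362) (l := 5) rfl N362 D1022
theorem N604 : nd 604 = n1026 := ndS (p := 364) (l := 1) rfl N364 D1026
theorem N605 : nd 605 = n1030 := ndS (p := 366) (l := 1) rfl N366 D1030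
theorem N606 : nd 606 = n1031 := ndS (p := 367) (l := 1) rfl N367 D1031
theorem N607 : nd 607 = n1032 := ndS (p := 367) (l := 3) rfl N367 D1032
theorem N608 : nd 608 = n1033 := ndS (p := 367) (l := 5) rfl N367 D1033
theorem N609 : nd 609 = n1034 := ndS (p := 367) (l := 6) rfl N367 D1034
theorem N610 : nd 610 = n1035 := ndS (p := 368) (l := 1) rfl N368 D1035
theorem N611 : nd 611 = n1036 := ndS (p := 368) (l := 6) rfl N368 D1036
theorem N612 : nd 612 = n1037 := ndS (p := 369) (l := 1) rfl N369 D1037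
theorem N613 : nd 613 = n1038 := ndS (p := 369) (l := 5) rfl N369 D1038
theorem N614 : nd 614 = n1040 := ndS (p := 370) (l := 2) rfl N370 D1040
theorem N615 : nd 615 = n1042 := ndS (p := 371) (l := 1) rfl N371 D1042
theorem N616 : nd 616 = n1044 := ndS (p := 372) (l := 2) rfl N372 D1044
theorem N617 : nd 617 = n1046 := ndS (p := 373) (l := 1) rfl N373 D1046
theorem N618 : nd 618 = n1049 := ndS (p := 374) (l := 3) rfl N374 D1049
theorem N619 : nd 619 = n1052 := ndS (p := 375) (l := 0) rfl N375 D1052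
theorem N620 : nd 620 = n1053 := ndS (p := 375) (l := 2) rfl N375 D1053
theorem N621 : nd 621 = n1057 := ndS (p := 376) (l := 3) rfl N376 D1057
theorem N622 : nd 622 = n1060 := ndS (p := 377) (l := 0) rfl N377 D1060
theorem N623 : nd 623 = n1061 := ndS (p := 377) (l := 2) rfl N377 D1061
theorem N624 : nd 624 = n1063 := ndS (p := 378) (l := 1) rfl N378 D1063
theorem N625 : nd 625 = n1064 := ndS (p := 378) (l := 3) rfl N378 D1064
theorem N626 : nd 626 = n1065 := ndS (p := 378) (l := 5) rfl N378 D1065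
theorem N627 : nd 627 = n1066 := ndS (p := 378) (l := 6) rfl N378 D1066
theorem N628 : nd 628 = n1067 := ndS (p := 379) (l := 1) rfl N379 D1067
theorem N629 : nd 629 = n1068 := ndS (p := 380) (l := 1) rfl N380 D1068
theorem N630 : nd 630 = n1069 := ndS (p := 381) (l := 0) rfl N381 D1069
theorem N631 : nd 631 = n1070 := ndS (p := 381) (l := 2) rfl N381 D1070
theorem N632 : nd 632 = n1071 := ndS (p := 381) (l := 6) rfl N381 D1071
theorem N633 : nd 633 = n1072 := ndS (p := 382) (l := 0) rfl N382 D1072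
theorem N634 : nd 634 = n1073 := ndS (p := 382) (l := 2) rfl N382 D1073
theorem N635 : nd 635 = n1074 := ndS (p := 382) (l := 5) rfl N382 D1074
theorem N636 : nd 636 = n1077 := ndS (p := 383) (l := 6) rfl N383 D1077
theorem N637 : nd 637 = n1083 := ndS (p := 386) (l := 5) rfl N386 D1083
theorem N638 : nd 638 = n1087 := ndS (p := 389) (l := 0) rfl N389 D1087
theorem N639 : nd 639 = n1088 := ndS (p := 389) (l := 5) rfl N389 D1088
theorem N640 : nd 640 = n1089 := ndS (p := 389) (l := 6) rfl N389 D1089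
theorem N641 : nd 641 = n1090 := ndS (p := 390) (l := 1) rfl N390 D1090
theorem N642 : nd 642 = n1091 := ndS (p := 391) (l := 1) rfl N391 D1091
theorem N643 : nd 643 = n1092 := ndS (p := 392) (l := 0) rfl N392 D1092
theorem N644 : nd 644 = n1093 := ndS (p := 392) (l := 2) rfl N392 D1093
theorem N645 : nd 645 = n1094 := ndS (p := 392) (l := 6) rfl N392 D1094
theorem N646 : nd 646 = n1095 := ndS (p := 393) (l := 0) rfl N393 D1095
theorem N647 : nd 647 = n1096 := ndS (p := 393) (l := 2) rfl N393 D1096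
theorem N648 : nd 648 = n1097 := ndS (p := 393) (l := 5) rfl N393 D1097
theorem N649 : nd 649 = n1099 := ndS (p := 394) (l := 2) rfl N394 D1099
theorem N650 : nd 650 = n1100 := ndS (p := 394) (l := 6) rfl N394 D1100
theorem N651 : nd 651 = n1101 := ndS (p := 395) (l := 3) rfl N395 D1101
theorem N652 : nd 652 = n1102 := ndS (p := 395) (l := 6) rfl N395 D1102
theorem N653 : nd 653 = n1105 := ndS (p := 397) (l := 2) rfl N397 D1105
theorem N654 : nd 654 = n1106 := ndS (p := 397) (l := 5) rfl N397 D1106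
theorem N655 : nd 655 = n1107 := ndS (p := 398) (l := 3) rfl N398 D1107
theorem N656 : nd 656 = n1108 := ndS (p := 398) (l := 5) rfl N398 D1108
theorem N657 : nd 657 = n1114 := ndS (p := 400) (l := 1) rfl N400 D1114
theorem N658 : nd 658 = n1115 := ndS (p := 400) (l := 3) rfl N400 D1115
theorem N659 : nd 659 = n1116 := ndS (p := 400) (l := 6) rfl N400 D1116
theorem N660 : nd 660 = n1119 := ndS (p := 402) (l := 4) rfl N402 D1119
theorem N661 : nd 661 = n1120 := ndS (p := 402) (l := 6) rfl N402 D1120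
theorem N662 : nd 662 = n1121 := ndS (p := 403) (l := 1) rfl N403 D1121
theorem N663 : nd 663 = n1128 := ndS (p := 404) (l := 1) rfl N404 D1128
theorem N664 : nd 664 = n1129 := ndS (p := 404) (l := 3) rfl N404 D1129
theorem N665 : nd 665 = n1130 := ndS (p := 404) (l := 5) rfl N404 D1130
theorem N666 : nd 666 = n1133 := ndS (p := 406) (l := 4) rfl N406 D1133
theorem N667 : nd 667 = n1134 := ndS (p := 406) (l := 5) rfl N406 D1134
theorem N668 : nd 668 = n1135 := ndS (p := 407) (l := 1) rfl N407 D1135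
theorem N669 : nd 669 = n1140 := ndS (p := 409) (l := 3) rfl N409 D1140
theorem N670 : nd 670 = n1141 := ndS (p := 410) (l := 2) rfl N410 D1141
theorem N671 : nd 671 = n1142 := ndS (p := 410) (l := 4) rfl N410 D1142
theorem N672 : nd 672 = n1143 := ndS (p := 410) (l := 6) rfl N410 D1143
theorem N673 : nd 673 = n1144 := ndS (p := 411) (l := 1) rfl N411 D1144
theorem N674 : nd 674 = n1145 := ndS (p := 411) (l := 5) rfl N411 D1145
theorem N675 : nd 675 = n1148 := ndS (p := 414) (l := 3) rfl N414 D1148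
theorem N676 : nd 676 = n1149 := ndS (p := 415) (l := 2) rfl N415 D1149
theorem N677 : nd 677 = n1150 := ndS (p := 415) (l := 4) rfl N415 D1150
theorem N678 : nd 678 = n1151 := ndS (p := 415) (l := 5) rfl N415 D1151
theorem N679 : nd 679 = n1152 := ndS (p := 416) (l := 1) rfl N416 D1152
theorem N680 : nd 680 = n1153 := ndS (p := 416) (l := 6) rfl N416 D1153
theorem N681 : nd 681 = n1160 := ndS (p := 418) (l := 4) rfl N418 D1160
theorem N682 : nd 682 = n1161 := ndS (p := 419) (l := 6) rfl N419 D1161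
theorem N683 : nd 683 = n1162 := ndS (p := 420) (l := 1) rfl N420 D1162
theorem N684 : nd 684 = n1163 := ndS (p := 420) (l := 5) rfl N420 D1163
theorem N685 : nd 685 = n1164 := ndS (p := 421) (l := 0) rfl N421 D1164
theorem N686 : nd 686 = n1165 := ndS (p := 421) (l := 5) rfl N421 D1165
theorem N687 : nd 687 = n1166 := ndS (p := 422) (l := 1) rfl N422 D1166
theorem N688 : nd 688 = n1173 := ndS (p := 423) (l := 4) rfl N423 D1173
theorem N689 : nd 689 = n1177 := ndS (p := 424) (l := 5) rfl N424 D1177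
theorem N690 : nd 690 = n1178 := ndS (p := 425) (l := 1) rfl N425 D1178
theorem N691 : nd 691 = n1179 := ndS (p := 425) (l := 6) rfl N425 D1179
theorem N692 : nd 692 = n1180 := ndS (p := 426) (l := 0) rfl N426 D1180
theorem N693 : nd 693 = n1181 := ndS (p := 426) (l := 6) rfl N426 D1181
theorem N694 : nd 694 = n1182 := ndS (p := 427) (l := 1) rfl N427 D1182
theorem N695 : nd 695 = n1184 := ndS (p := 428) (l := 3) rfl N428 D1184
theorem N696 : nd 696 = n1185 := ndS (p := 428) (l := 4) rfl N428 D1185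
theorem N697 : nd 697 = n1186 := ndS (p := 428) (l := 6) rfl N428 D1186
theorem N698 : nd 698 = n1187 := ndS (p := 429) (l := 4) rfl N429 D1187
theorem N699 : nd 699 = n1188 := ndS (p := 430) (l := 3) rfl N430 D1188
theorem N700 : nd 700 = n1192 := ndS (p := 431) (l := 3) rfl N431 D1192
theorem N701 : nd 701 = n1193 := ndS (p := 431) (l := 4) rfl N431 D1193
theorem N702 : nd 702 = n1194 := ndS (p := 431) (l := 5) rfl N431 D1194
theorem N703 : nd 703 = n1196 := ndS (p := 432) (l := 4) rfl N432 D1196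
theorem N704 : nd 704 = n1198 := ndS (p := 433) (l := 3) rfl N433 D1198
theorem N705 : nd 705 = n1209 := ndS (p := 434) (l := 0) rfl N434 D1209
theorem N706 : nd 706 = n1210 := ndS (p := 434) (l := 3) rfl N434 D1210
theorem N707 : nd 707 = n1211 := ndS (p := 434) (l := 5) rfl N434 D1211
theorem N708 : nd 708 = n1212 := ndS (p := 434) (l := 6) rfl N434 D1212
theorem N709 : nd 709 = n1213 := ndS (p := 435) (l := 5) rfl N435 D1213
theorem N710 : nd 710 = n1214 := ndS (p := 435) (l := 6) rfl N435 D1214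
theorem N711 : nd 711 = n1215 := ndS (p := 436) (l := 1) rfl N436 D1215
theorem N712 : nd 712 = n1216 := ndS (p := 436) (l := 6) rfl N436 D1216
theorem N713 : nd 713 = n1217 := ndS (p := 437) (l := 1) rfl N437 D1217
theorem N714 : nd 714 = n1218 := ndS (p := 437) (l := 5) rfl N437 D1218
theorem N715 : nd 715 = n1220 := ndS (p := 438) (l := 2) rfl N438 D1220
theorem N716 : nd 716 = n1221 := ndS (p := 438) (l := 6) rfl N438 D1221
theorem N717 : nd 717 = n1222 := ndS (p := 439) (l := 1) rfl N439 D1222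
theorem N718 : nd 718 = n1224 := ndS (p := 440) (l := 2) rfl N440 D1224
theorem N719 : nd 719 = n1225 := ndS (p := 440) (l := 5) rfl N440 D1225
theorem N720 : nd 720 = n1226 := ndS (p := 441) (l := 1) rfl N441 D1226
theorem N721 : nd 721 = n1233 := ndS (p := 443) (l := 0) rfl N443 D1233
theorem N722 : nd 722 = n1242 := ndS (p := 445) (l := 0) rfl N445 D1242
theorem N723 : nd 723 = n1259 := ndS (p := 446) (l := 1) rfl N446 D1259
theorem N724 : nd 724 = n1279 := ndS (p := 447) (l := 1) rfl N447 D1279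
theorem N725 : nd 725 = n1285 := ndS (p := 448) (l := 1) rfl N448 D1285
theorem N726 : nd 726 = n1286 := ndS (p := 448) (l := 5) rfl N448 D1286
theorem N727 : nd 727 = n1287 := ndS (p := 448) (l := 6) rfl N448 D1287
theorem N728 : nd 728 = n1288 := ndS (p := 449) (l := 1) rfl N449 D1288
theorem N729 : nd 729 = n1289 := ndS (p := 449) (l := 6) rfl N449 D1289
theorem N730 : nd 730 = n1290 := ndS (p := 450) (l := 1) rfl N450 D1290
theorem N731 : nd 731 = n1291 := ndS (p := 450) (l := 5) rfl N450 D1291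
theorem N732 : nd 732 = n1292 := ndS (p := 451) (l := 0) rfl N451 D1292
theorem N733 : nd 733 = n1293 := ndS (p := 451) (l := 2) rfl N451 D1293
theorem N734 : nd 734 = n1294 := ndS (p := 451) (l := 6) rfl N451 D1294
theorem N735 : nd 735 = n1295 := ndS (p := 452) (l := 1) rfl N452 D1295
theorem N736 : nd 736 = n1296 := ndS (p := 453) (l := 0) rfl N453 D1296
theorem N737 : nd 737 = n1297 := ndS (p := 453) (l := 2) rfl N453 D1297
theorem N738 : nd 738 = n1298 := ndS (p := 453) (l := 5) rfl N453 D1298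
theorem N739 : nd 739 = n1299 := ndS (p := 454) (l := 1) rfl N454 D1299
theorem N740 : nd 740 = n1303 := ndS (p := 455) (l := 3) rfl N455 D1303
theorem N741 : nd 741 = n1304 := ndS (p := 455) (l := 6) rfl N455 D1304
theorem N742 : nd 742 = n1305 := ndS (p := 456) (l := 1) rfl N456 D1305
theorem N743 : nd 743 = n1306 := ndS (p := 457) (l := 0) rfl N457 D1306
theorem N744 : nd 744 = n1307 := ndS (p := 457) (l := 2) rfl N457 D1307
theorem N745 : nd 745 = n1312 := ndS (p := 458) (l := 3) rfl N458 D1312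
theorem N746 : nd 746 = n1313 := ndS (p := 458) (l := 5) rfl N458 D1313
theorem N747 : nd 747 = n1314 := ndS (p := 459) (l := 1) rfl N459 D1314
theorem N748 : nd 748 = n1315 := ndS (p := 460) (l := 0) rfl N460 D1315
theorem N749 : nd 749 = n1316 := ndS (p := 460) (l := 2) rfl N460 D1316
theorem N750 : nd 750 = n1324 := ndS (p := 461) (l := 2) rfl N461 D1324
theorem N751 : nd 751 = n1326 := ndS (p := 462) (l := 1) rfl N462 D1326
theorem N752 : nd 752 = n1327 := ndS (p := 462) (l := 2) rfl N462 D1327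
theorem N753 : nd 753 = n1329 := ndS (p := 463) (l := 3) rfl N463 D1329
theorem N754 : nd 754 = n1338 := ndS (p := 464) (l := 2) rfl N464 D1338
theorem N755 : nd 755 = n1340 := ndS (p := 465) (l := 1) rfl N465 D1340
theorem N756 : nd 756 = n1341 := ndS (p := 465) (l := 2) rfl N465 D1341
theorem N757 : nd 757 = n1343 := ndS (p := 466) (l := 3) rfl N466 D1343
theorem N758 : nd 758 = n1360 := ndS (p := 467) (l := 3) rfl N467 D1360
theorem N759 : nd 759 = n1362 := ndS (p := 468) (l := 0) rfl N468 D1362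
theorem N760 : nd 760 = n1363 := ndS (p := 468) (l := 2) rfl N468 D1363
theorem N761 : nd 761 = n1366 := ndS (p := 469) (l := 1) rfl N469 D1366
theorem N762 : nd 762 = n1367 := ndS (p := 469) (l := 3) rfl N469 D1367
theorem N763 : nd 763 = n1371 := ndS (p := 470) (l := 4) rfl N470 D1371
theorem N764 : nd 764 = n1390 := ndS (p := 471) (l := 3) rfl N471 D1390
theorem N765 : nd 765 = n1392 := ndS (p := 472) (l := 0) rfl N472 D1392
theorem N766 : nd 766 = n1393 := ndS (p := 472) (l := 2) rfl N472 D1393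
theorem N767 : nd 767 = n1396 := ndS (p := 473) (l := 1) rfl N473 D1396
theorem N768 : nd 768 = n1397 := ndS (p := 473) (l := 3) rfl N473 D1397
theorem N769 : nd 769 = n1401 := ndS (p := 474) (l := 4) rfl N474 D1401
theorem N770 : nd 770 = n1407 := ndS (p := 475) (l := 3) rfl N475 D1407
theorem N771 : nd 771 = n1408 := ndS (p := 475) (l := 5) rfl N475 D1408
theorem N772 : nd 772 = n1409 := ndS (p := 477) (l := 2) rfl N477 D1409
theorem N773 : nd 773 = n1411 := ndS (p := 477) (l := 5) rfl N477 D1411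
theorem N774 : nd 774 = n1412 := ndS (p := 478) (l := 1) rfl N478 D1412
theorem N775 : nd 775 = n1414 := ndS (p := 479) (l := 3) rfl N479 D1414
theorem N776 : nd 776 = n1415 := ndS (p := 479) (l := 6) rfl N479 D1415
theorem N777 : nd 777 = n1416 := ndS (p := 481) (l := 2) rfl N481 D1416
theorem N778 : nd 778 = n1418 := ndS (p := 481) (l := 6) rfl N481 D1418
theorem N779 : nd 779 = n1419 := ndS (p := 482) (l := 1) rfl N482 D1419
theorem N780 : nd 780 = n1426 := ndS (p := 483) (l := 1) rfl N483 D1426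
theorem N781 : nd 781 = n1432 := ndS (p := 484) (l := 0) rfl N484 D1432
theorem N782 : nd 782 = n1433 := ndS (p := 484) (l := 6) rfl N484 D1433
theorem N783 : nd 783 = n1440 := ndS (p := 485) (l := 1) rfl N485 D1440
theorem N784 : nd 784 = n1446 := ndS (p := 486) (l := 0) rfl N486 D1446
theorem N785 : nd 785 = n1447 := ndS (p := 486) (l := 5) rfl N486 D1447
theorem N786 : nd 786 = n1566 := ndS (p := 489) (l := 3) rfl N489 D1566
theorem N787 : nd 787 = n1567 := ndS (p := 489) (l := 4) rfl N489 D1567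
theorem N788 : nd 788 = n1570 := ndS (p := 490) (l := 3) rfl N490 D1570
theorem N789 : nd 789 = n1577 := ndS (p := 491) (l := 2) rfl N491 D1577
theorem N790 : nd 790 = n1592 := ndS (p := 492) (l := 2) rfl N492 D1592
theorem N791 : nd 791 = n1593 := ndS (p := 492) (l := 5) rfl N492 D1593
theorem N792 : nd 792 = n1594 := ndS (p := 492) (l := 6) rfl N492 D1594
theorem N793 : nd 793 = n1603 := ndS (p := 495) (l := 1) rfl N495 D1603
theorem N794 : nd 794 = n1604 := ndS (p := 495) (l := 5) rfl N495 D1604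
theorem N795 : nd 795 = n1605 := ndS (p := 495) (l := 6) rfl N495 D1605
theorem N796 : nd 796 = n1757 := ndS (p := 498) (l := 3) rfl N498 D1757
theorem N797 : nd 797 = n1758 := ndS (p := 498) (l := 5) rfl N498 D1758
theorem N798 : nd 798 = n1759 := ndS (p := 498) (l := 6) rfl N498 D1759
theorem N799 : nd 799 = n1760 := ndS (p := 499) (l := 1) rfl N499 D1760
theorem N800 : nd 800 = n1761 := ndS (p := 500) (l := 1) rfl N500 D1761
theorem N801 : nd 801 = n1762 := ndS (p := 501) (l := 2) rfl N501 D1762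
theorem N802 : nd 802 = n1763 := ndS (p := 501) (l := 5) rfl N501 D1763
theorem N803 : nd 803 = n1764 := ndS (p := 501) (l := 6) rfl N501 D1764
theorem N804 : nd 804 = n1765 := ndS (p := 502) (l := 1) rfl N502 D1765
theorem N805 : nd 805 = n1766 := ndS (p := 503) (l := 1) rfl N503 D1766
theorem N806 : nd 806 = n1773 := ndS (p := 506) (l := 2) rfl N506 D1773
theorem N807 : nd 807 = n1774 := ndS (p := 506) (l := 5) rfl N506 D1774
theorem N808 : nd 808 = n1775 := ndS (p := 506) (l := 6) rfl N506 D1775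
theorem N809 : nd 809 = n1776 := ndS (p := 507) (l := 1) rfl N507 D1776
theorem N810 : nd 810 = n1777 := ndS (p := 507) (l := 6) rfl N507 D1777
theorem N811 : nd 811 = n1778 := ndS (p := 508) (l := 1) rfl N508 D1778
theorem N812 : nd 812 = n1779 := ndS (p := 508) (l := 5) rfl N508 D1779
theorem N813 : nd 813 = n1782 := ndS (p := 509) (l := 6) rfl N509 D1782
theorem N814 : nd 814 = n1783 := ndS (p := 510) (l := 1) rfl N510 D1783
theorem N815 : nd 815 = n1786 := ndS (p := 511) (l := 5) rfl N511 D1786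
theorem N816 : nd 816 = n1787 := ndS (p := 512) (l := 1) rfl N512 D1787
theorem N817 : nd 817 = n1788 := ndS (p := 513) (l := 1) rfl N513 D1788
theorem N818 : nd 818 = n1789 := ndS (p := 513) (l := 3) rfl N513 D1789
theorem N819 : nd 819 = n1790 := ndS (p := 513) (l := 5) rfl N513 D1790
theorem N820 : nd 820 = n1791 := ndS (p := 513) (l := 6) rfl N513 D1791
theorem N821 : nd 821 = n1792 := ndS (p := 514) (l := 1) rfl N514 D1792
theorem N822 : nd 822 = n1793 := ndS (p := 514) (l := 6) rfl N514 D1793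
theorem N823 : nd 823 = n1794 := ndS (p := 515) (l := 1) rfl N515 D1794
theorem N824 : nd 824 = n1795 := ndS (p := 515) (l := 5) rfl N515 D1795
theorem N825 : nd 825 = n1796 := ndS (p := 516) (l := 0) rfl N516 D1796
theorem N826 : nd 826 = n1797 := ndS (p := 516) (l := 2) rfl N516 D1797
theorem N827 : nd 827 = n1798 := ndS (p := 516) (l := 6) rfl N516 D1798
theorem N828 : nd 828 = n1799 := ndS (p := 517) (l := 1) rfl N517 D1799
theorem N829 : nd 829 = n1800 := ndS (p := 518) (l := 0) rfl N518 D1800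
theorem N830 : nd 830 = n1801 := ndS (p := 518) (l := 2) rfl N518 D1801
theorem N831 : nd 831 = n1802 := ndS (p := 518) (l := 5) rfl N518 D1802
theorem N832 : nd 832 = n1803 := ndS (p := 519) (l := 1) rfl N519 D1803
theorem N833 : nd 833 = n1805 := ndS (p := 520) (l := 2) rfl N520 D1805
theorem N834 : nd 834 = n1806 := ndS (p := 521) (l := 3) rfl N521 D1806
theorem N835 : nd 835 = n1807 := ndS (p := 521) (l := 6) rfl N521 D1807
theorem N836 : nd 836 = n1810 := ndS (p := 523) (l := 2) rfl N523 D1810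
theorem N837 : nd 837 = n1813 := ndS (p := 524) (l := 2) rfl N524 D1813
theorem N838 : nd 838 = n1814 := ndS (p := 525) (l := 3) rfl N525 D1814
theorem N839 : nd 839 = n1815 := ndS (p := 525) (l := 5) rfl N525 D1815
theorem N840 : nd 840 = n1818 := ndS (p := 527) (l := 2) rfl N527 D1818
theorem N841 : nd 841 = n1842 := ndS (p := 528) (l := 1) rfl N528 D1842
theorem N842 : nd 842 = n1843 := ndS (p := 528) (l := 3) rfl N528 D1843
theorem N843 : nd 843 = n1844 := ndS (p := 528) (l := 5) rfl N528 D1844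
theorem N844 : nd 844 = n1845 := ndS (p := 528) (l := 6) rfl N528 D1845
theorem N845 : nd 845 = n1846 := ndS (p := 529) (l := 1) rfl N529 D1846
theorem N846 : nd 846 = n1847 := ndS (p := 529) (l := 6) rfl N529 D1847
theorem N847 : nd 847 = n1848 := ndS (p := 530) (l := 1) rfl N530 D1848
theorem N848 : nd 848 = n1849 := ndS (p := 530) (l := 5) rfl N530 D1849
theorem N849 : nd 849 = n1850 := ndS (p := 531) (l := 0) rfl N531 D1850
theorem N850 : nd 850 = n1851 := ndS (p := 531) (l := 2) rfl N531 D1851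
theorem N851 : nd 851 = n1852 := ndS (p := 531) (l := 6) rfl N531 D1852
theorem N852 : nd 852 = n1853 := ndS (p := 532) (l := 1) rfl N532 D1853
theorem N853 : nd 853 = n1854 := ndS (p := 533) (l := 0) rfl N533 D1854
theorem N854 : nd 854 = n1855 := ndS (p := 533) (l := 2) rfl N533 D1855
theorem N855 : nd 855 = n1856 := ndS (p := 533) (l := 5) rfl N533 D1856
theorem N856 : nd 856 = n1857 := ndS (p := 534) (l := 1) rfl N534 D1857
theorem N857 : nd 857 = n1858 := ndS (p := 535) (l := 1) rfl N535 D1858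
theorem N858 : nd 858 = n1862 := ndS (p := 536) (l := 6) rfl N536 D1862
theorem N859 : nd 859 = n1863 := ndS (p := 537) (l := 1) rfl N537 D1863
theorem N860 : nd 860 = n1865 := ndS (p := 538) (l := 0) rfl N538 D1865
theorem N861 : nd 861 = n1866 := ndS (p := 538) (l := 2) rfl N538 D1866
theorem N862 : nd 862 = n1868 := ndS (p := 539) (l := 1) rfl N539 D1868
theorem N863 : nd 863 = n1872 := ndS (p := 540) (l := 5) rfl N540 D1872
theorem N864 : nd 864 = n1873 := ndS (p := 541) (l := 1) rfl N541 D1873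
theorem N865 : nd 865 = n1875 := ndS (p := 542) (l := 0) rfl N542 D1875
theorem N866 : nd 866 = n1876 := ndS (p := 542) (l := 2) rfl N542 D1876
theorem N867 : nd 867 = n1878 := ndS (p := 543) (l := 0) rfl N543 D1878
theorem N868 : nd 868 = n1879 := ndS (p := 543) (l := 5) rfl N543 D1879
theorem N869 : nd 869 = n1880 := ndS (p := 543) (l := 6) rfl N543 D1880
theorem N870 : nd 870 = n1881 := ndS (p := 544) (l := 1) rfl N544 D1881
theorem N871 : nd 871 = n1882 := ndS (p := 544) (l := 6) rfl N544 D1882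
theorem N872 : nd 872 = n1883 := ndS (p := 545) (l := 1) rfl N545 D1883
theorem N873 : nd 873 = n1884 := ndS (p := 545) (l := 5) rfl N545 D1884
theorem N874 : nd 874 = n1885 := ndS (p := 546) (l := 0) rfl N546 D1885
theorem N875 : nd 875 = n1886 := ndS (p := 546) (l := 2) rfl N546 D1886
theorem N876 : nd 876 = n1887 := ndS (p := 546) (l := 6) rfl N546 D1887
theorem N877 : nd 877 = n1888 := ndS (p := 547) (l := 1) rfl N547 D1888
theorem N878 : nd 878 = n1889 := ndS (p := 548) (l := 0) rfl N548 D1889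
theorem N879 : nd 879 = n1890 := ndS (p := 548) (l := 2) rfl N548 D1890
theorem N880 : nd 880 = n1891 := ndS (p := 548) (l := 5) rfl N548 D1891
theorem N881 : nd 881 = n1892 := ndS (p := 549) (l := 1) rfl N549 D1892
theorem N882 : nd 882 = n1893 := ndS (p := 550) (l := 1) rfl N550 D1893
theorem N883 : nd 883 = n1894 := ndS (p := 550) (l := 2) rfl N550 D1894
theorem N884 : nd 884 = n1896 := ndS (p := 551) (l := 3) rfl N551 D1896
theorem N885 : nd 885 = n1897 := ndS (p := 551) (l := 6) rfl N551 D1897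
theorem N886 : nd 886 = n1898 := ndS (p := 552) (l := 1) rfl N552 D1898
theorem N887 : nd 887 = n1899 := ndS (p := 552) (l := 5) rfl N552 D1899
theorem N888 : nd 888 = n1900 := ndS (p := 553) (l := 0) rfl N553 D1900
theorem N889 : nd 889 = n1901 := ndS (p := 553) (l := 2) rfl N553 D1901
theorem N890 : nd 890 = n1903 := ndS (p := 554) (l := 1) rfl N554 D1903
theorem N891 : nd 891 = n1904 := ndS (p := 554) (l := 2) rfl N554 D1904
theorem N892 : nd 892 = n1906 := ndS (p := 555) (l := 3) rfl N555 D1906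
theorem N893 : nd 893 = n1907 := ndS (p := 555) (l := 5) rfl N555 D1907
theorem N894 : nd 894 = n1908 := ndS (p := 556) (l := 1) rfl N556 D1908
theorem N895 : nd 895 = n1909 := ndS (p := 556) (l := 6) rfl N556 D1909
theorem N896 : nd 896 = n1910 := ndS (p := 557) (l := 0) rfl N557 D1910
theorem N897 : nd 897 = n1911 := ndS (p := 557) (l := 2) rfl N557 D1911
theorem N898 : nd 898 = n1918 := ndS (p := 559) (l := 3) rfl N559 D1918
theorem N899 : nd 899 = n1922 := ndS (p := 560) (l := 4) rfl N560 D1922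
theorem N900 : nd 900 = n1923 := ndS (p := 560) (l := 6) rfl N560 D1923
theorem N901 : nd 901 = n1924 := ndS (p := 561) (l := 1) rfl N561 D1924
theorem N902 : nd 902 = n1925 := ndS (p := 561) (l := 5) rfl N561 D1925
theorem N903 : nd 903 = n1926 := ndS (p := 562) (l := 0) rfl N562 D1926
theorem N904 : nd 904 = n1927 := ndS (p := 562) (l := 2) rfl N562 D1927
theorem N905 : nd 905 = n1931 := ndS (p := 564) (l := 2) rfl N564 D1931
theorem N906 : nd 906 = n1933 := ndS (p := 565) (l := 3) rfl N565 D1933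
theorem N907 : nd 907 = n1941 := ndS (p := 567) (l := 3) rfl N567 D1941
theorem N908 : nd 908 = n1945 := ndS (p := 568) (l := 4) rfl N568 D1945
theorem N909 : nd 909 = n1946 := ndS (p := 568) (l := 5) rfl N568 D1946
theorem N910 : nd 910 = n1947 := ndS (p := 569) (l := 1) rfl N569 D1947
theorem N911 : nd 911 = n1948 := ndS (p := 569) (l := 6) rfl N569 D1948
theorem N912 : nd 912 = n1949 := ndS (p := 570) (l := 0) rfl N570 D1949
theorem N913 : nd 913 = n1950 := ndS (p := 570) (l := 2) rfl N570 D1950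
theorem N914 : nd 914 = n1954 := ndS (p := 572) (l := 2) rfl N572 D1954
theorem N915 : nd 915 = n1956 := ndS (p := 573) (l := 3) rfl N573 D1956
theorem N916 : nd 916 = n1959 := ndS (p := 574) (l := 2) rfl N574 D1959
theorem N917 : nd 917 = n1960 := ndS (p := 574) (l := 4) rfl N574 D1960
theorem N918 : nd 918 = n1961 := ndS (p := 574) (l := 6) rfl N574 D1961
theorem N919 : nd 919 = n1962 := ndS (p := 575) (l := 1) rfl N575 D1962
theorem N920 : nd 920 = n1963 := ndS (p := 576) (l := 3) rfl N576 D1963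
theorem N921 : nd 921 = n1966 := ndS (p := 577) (l := 2) rfl N577 D1966
theorem N922 : nd 922 = n1967 := ndS (p := 577) (l := 4) rfl N577 D1967
theorem N923 : nd 923 = n1968 := ndS (p := 577) (l := 5) rfl N577 D1968
theorem N924 : nd 924 = n1969 := ndS (p := 578) (l := 1) rfl N578 D1969
theorem N925 : nd 925 = n1970 := ndS (p := 579) (l := 3) rfl N579 D1970
theorem N926 : nd 926 = n1971 := ndS (p := 580) (l := 6) rfl N580 D1971
theorem N927 : nd 927 = n1972 := ndS (p := 581) (l := 1) rfl N581 D1972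
theorem N928 : nd 928 = n1973 := ndS (p := 582) (l := 0) rfl N582 D1973
theorem N929 : nd 929 = n1974 := ndS (p := 582) (l := 5) rfl N582 D1974
theorem N930 : nd 930 = n1975 := ndS (p := 583) (l := 4) rfl N583 D1975
theorem N931 : nd 931 = n1984 := ndS (p := 584) (l := 5) rfl N584 D1984
theorem N932 : nd 932 = n1985 := ndS (p := 585) (l := 1) rfl N585 D1985
theorem N933 : nd 933 = n1986 := ndS (p := 586) (l := 0) rfl N586 D1986
theorem N934 : nd 934 = n1987 := ndS (p := 586) (l := 6) rfl N586 D1987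
theorem N935 : nd 935 = n1988 := ndS (p := 587) (l := 4) rfl N587 D1988
theorem N936 : nd 936 = n2010 := ndS (p := 588) (l := 3) rfl N588 D2010
theorem N937 : nd 937 = n2011 := ndS (p := 588) (l := 4) rfl N588 D2011
theorem N938 : nd 938 = n2014 := ndS (p := 589) (l := 3) rfl N589 D2014
theorem N939 : nd 939 = n2020 := ndS (p := 590) (l := 2) rfl N590 D2020
theorem N940 : nd 940 = n2033 := ndS (p := 591) (l := 2) rfl N591 D2033
theorem N941 : nd 941 = n2034 := ndS (p := 591) (l := 5) rfl N591 D2034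
theorem N942 : nd 942 = n2035 := ndS (p := 591) (l := 6) rfl N591 D2035
theorem N943 : nd 943 = n2044 := ndS (p := 594) (l := 1) rfl N594 D2044
theorem N944 : nd 944 = n2045 := ndS (p := 594) (l := 3) rfl N594 D2045
theorem N945 : nd 945 = n2046 := ndS (p := 594) (l := 5) rfl N594 D2046
theorem N946 : nd 946 = n2047 := ndS (p := 594) (l := 6) rfl N594 D2047
theorem N947 : nd 947 = n2068 := ndS (p := 597) (l := 1) rfl N597 D2068
theorem N948 : nd 948 = n2069 := ndS (p := 597) (l := 3) rfl N597 D2069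
theorem N949 : nd 949 = n2070 := ndS (p := 597) (l := 5) rfl N597 D2070
theorem N950 : nd 950 = n2071 := ndS (p := 597) (l := 6) rfl N597 D2071
theorem N951 : nd 951 = n2072 := ndS (p := 598) (l := 1) rfl N598 D2072
theorem N952 : nd 952 = n2073 := ndS (p := 598) (l := 6) rfl N598 D2073
theorem N953 : nd 953 = n2074 := ndS (p := 599) (l := 1) rfl N599 D2074
theorem N954 : nd 954 = n2075 := ndS (p := 599) (l := 5) rfl N599 D2075
theorem N955 : nd 955 = n2079 := ndS (p := 601) (l := 1) rfl N601 D2079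
theorem N956 : nd 956 = n2083 := ndS (p := 603) (l := 1) rfl N603 D2083
theorem N957 : nd 957 = n2089 := ndS (p := 604) (l := 0) rfl N604 D2089
theorem N958 : nd 958 = n2090 := ndS (p := 604) (l := 2) rfl N604 D2090
theorem N959 : nd 959 = n2097 := ndS (p := 605) (l := 0) rfl N605 D2097
theorem N960 : nd 960 = n2098 := ndS (p := 605) (l := 2) rfl N605 D2098
theorem N961 : nd 961 = n2100 := ndS (p := 606) (l := 0) rfl N606 D2100
theorem N962 : nd 962 = n2101 := ndS (p := 606) (l := 3) rfl N606 D2101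
theorem N963 : nd 963 = n2102 := ndS (p := 606) (l := 5) rfl N606 D2102
theorem N964 : nd 964 = n2103 := ndS (p := 606) (l := 6) rfl N606 D2103
theorem N965 : nd 965 = n2104 := ndS (p := 607) (l := 2) rfl N607 D2104
theorem N966 : nd 966 = n2105 := ndS (p := 607) (l := 4) rfl N607 D2105
theorem N967 : nd 967 = n2106 := ndS (p := 607) (l := 5) rfl N607 D2106
theorem N968 : nd 968 = n2107 := ndS (p := 607) (l := 6) rfl N607 D2107
theorem N969 : nd 969 = n2108 := ndS (p := 608) (l := 1) rfl N608 D2108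
theorem N970 : nd 970 = n2109 := ndS (p := 608) (l := 6) rfl N608 D2109
theorem N971 : nd 971 = n2110 := ndS (p := 609) (l := 1) rfl N609 D2110
theorem N972 : nd 972 = n2111 := ndS (p := 609) (l := 5) rfl N609 D2111
theorem N973 : nd 973 = n2113 := ndS (p := 610) (l := 2) rfl N610 D2113
theorem N974 : nd 974 = n2115 := ndS (p := 611) (l := 1) rfl N611 D2115
theorem N975 : nd 975 = n2117 := ndS (p := 612) (l := 2) rfl N612 D2117
theorem N976 : nd 976 = n2119 := ndS (p := 613) (l := 1) rfl N613 D2119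
theorem N977 : nd 977 = n2122 := ndS (p := 614) (l := 3) rfl N614 D2122
theorem N978 : nd 978 = n2125 := ndS (p := 615) (l := 0) rfl N615 D2125
theorem N979 : nd 979 = n2126 := ndS (p := 615) (l := 2) rfl N615 D2126
theorem N980 : nd 980 = n2130 := ndS (p := 616) (l := 3) rfl N616 D2130
theorem N981 : nd 981 = n2133 := ndS (p := 617) (l := 0) rfl N617 D2133
theorem N982 : nd 982 = n2134 := ndS (p := 617) (l := 2) rfl N617 D2134
theorem N983 : nd 983 = n2140 := ndS (p := 618) (l := 4) rfl N618 D2140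
theorem N984 : nd 984 = n2158 := ndS (p := 621) (l := 4) rfl N621 D2158
theorem N985 : nd 985 = n2169 := ndS (p := 624) (l := 0) rfl N624 D2169
theorem N986 : nd 986 = n2170 := ndS (p := 624) (l := 3) rfl N624 D2170
theorem N987 : nd 987 = n2171 := ndS (p := 624) (l := 5) rfl N624 D2171
theorem N988 : nd 988 = n2172 := ndS (p := 624) (l := 6) rfl N624 D2172
theorem N989 : nd 989 = n2173 := ndS (p := 625) (l := 5) rfl N625 D2173
theorem N990 : nd 990 = n2174 := ndS (p := 625) (l := 6) rfl N625 D2174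
theorem N991 : nd 991 = n2175 := ndS (p := 626) (l := 1) rfl N626 D2175
theorem N992 : nd 992 = n2176 := ndS (p := 627) (l := 1) rfl N627 D2176
theorem N993 : nd 993 = n2177 := ndS (p := 628) (l := 0) rfl N628 D2177
theorem N994 : nd 994 = n2178 := ndS (p := 628) (l := 2) rfl N628 D2178
theorem N995 : nd 995 = n2179 := ndS (p := 628) (l := 6) rfl N628 D2179
theorem N996 : nd 996 = n2180 := ndS (p := 629) (l := 0) rfl N629 D2180
theorem N997 : nd 997 = n2181 := ndS (p := 629) (l := 2) rfl N629 D2181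
theorem N998 : nd 998 = n2182 := ndS (p := 629) (l := 5) rfl N629 D2182
theorem N999 : nd 999 = n2185 := ndS (p := 630) (l := 6) rfl N630 D2185
theorem N1000 : nd 1000 = n2186 := ndS (p := 631) (l := 3) rfl N631 D2186
theorem N1001 : nd 1001 = n2191 := ndS (p := 633) (l := 5) rfl N633 D2191
theorem N1002 : nd 1002 = n2192 := ndS (p := 634) (l := 3) rfl N634 D2192
theorem N1003 : nd 1003 = n2223 := ndS (p := 638) (l := 1) rfl N638 D2223
theorem N1004 : nd 1004 = n2224 := ndS (p := 638) (l := 5) rfl N638 D2224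
theorem N1005 : nd 1005 = n2225 := ndS (p := 638) (l := 6) rfl N638 D2225
theorem N1006 : nd 1006 = n2226 := ndS (p := 639) (l := 1) rfl N639 D2226
theorem N1007 : nd 1007 = n2227 := ndS (p := 639) (l := 6) rfl N639 D2227
theorem N1008 : nd 1008 = n2228 := ndS (p := 640) (l := 1) rfl N640 D2228
theorem N1009 : nd 1009 = n2229 := ndS (p := 640) (l := 5) rfl N640 D2229
theorem N1010 : nd 1010 = n2230 := ndS (p := 641) (l := 0) rfl N641 D2230
theorem N1011 : nd 1011 = n2231 := ndS (p := 641) (l := 2) rfl N641 D2231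
theorem N1012 : nd 1012 = n2232 := ndS (p := 641) (l := 6) rfl N641 D2232
theorem N1013 : nd 1013 = n2233 := ndS (p := 642) (l := 0) rfl N642 D2233
theorem N1014 : nd 1014 = n2234 := ndS (p := 642) (l := 2) rfl N642 D2234
theorem N1015 : nd 1015 = n2235 := ndS (p := 642) (l := 5) rfl N642 D2235
theorem N1016 : nd 1016 = n2237 := ndS (p := 643) (l := 2) rfl N643 D2237
theorem N1017 : nd 1017 = n2238 := ndS (p := 643) (l := 6) rfl N643 D2238
theorem N1018 : nd 1018 = n2239 := ndS (p := 644) (l := 3) rfl N644 D2239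
theorem N1019 : nd 1019 = n2240 := ndS (p := 644) (l := 6) rfl N644 D2240
theorem N1020 : nd 1020 = n2243 := ndS (p := 646) (l := 2) rfl N646 D2243
theorem N1021 : nd 1021 = n2244 := ndS (p := 646) (l := 5) rfl N646 D2244
theorem N1022 : nd 1022 = n2245 := ndS (p := 647) (l := 3) rfl N647 D2245
theorem N1023 : nd 1023 = n2246 := ndS (p := 647) (l := 5) rfl N647 D2246
theorem N1024 : nd 1024 = n2252 := ndS (p := 649) (l := 1) rfl N649 D2252
theorem N1025 : nd 1025 = n2253 := ndS (p := 649) (l := 3) rfl N649 D2253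
theorem N1026 : nd 1026 = n2254 := ndS (p := 649) (l := 6) rfl N649 D2254
theorem N1027 : nd 1027 = n2256 := ndS (p := 651) (l := 2) rfl N651 D2256
theorem N1028 : nd 1028 = n2257 := ndS (p := 651) (l := 4) rfl N651 D2257
theorem N1029 : nd 1029 = n2258 := ndS (p := 651) (l := 6) rfl N651 D2258
theorem N1030 : nd 1030 = n2259 := ndS (p := 652) (l := 1) rfl N652 D2259
theorem N1031 : nd 1031 = n2266 := ndS (p := 653) (l := 1) rfl N653 D2266
theorem N1032 : nd 1032 = n2267 := ndS (p := 653) (l := 3) rfl N653 D2267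
theorem N1033 : nd 1033 = n2268 := ndS (p := 653) (l := 5) rfl N653 D2268
theorem N1034 : nd 1034 = n2270 := ndS (p := 655) (l := 2) rfl N655 D2270
theorem N1035 : nd 1035 = n2271 := ndS (p := 655) (l := 4) rfl N655 D2271
theorem N1036 : nd 1036 = n2272 := ndS (p := 655) (l := 5) rfl N655 D2272
theorem N1037 : nd 1037 = n2273 := ndS (p := 656) (l := 1) rfl N656 D2273
theorem N1038 : nd 1038 = n2289 := ndS (p := 658) (l := 4) rfl N658 D2289
theorem N1039 : nd 1039 = n2297 := ndS (p := 660) (l := 6) rfl N660 D2297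
theorem N1040 : nd 1040 = n2298 := ndS (p := 661) (l := 1) rfl N661 D2298
theorem N1041 : nd 1041 = n2300 := ndS (p := 662) (l := 0) rfl N662 D2300
theorem N1042 : nd 1042 = n2319 := ndS (p := 664) (l := 4) rfl N664 D2319
theorem N1043 : nd 1043 = n2328 := ndS (p := 666) (l := 5) rfl N666 D2328
theorem N1044 : nd 1044 = n2329 := ndS (p := 667) (l := 1) rfl N667 D2329
theorem N1045 : nd 1045 = n2331 := ndS (p := 668) (l := 0) rfl N668 D2331
theorem N1046 : nd 1046 = n2342 := ndS (p := 669) (l := 2) rfl N669 D2342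
theorem N1047 : nd 1047 = n2343 := ndS (p := 669) (l := 4) rfl N669 D2343
theorem N1048 : nd 1048 = n2344 := ndS (p := 670) (l := 1) rfl N670 D2344
theorem N1049 : nd 1049 = n2345 := ndS (p := 670) (l := 4) rfl N670 D2345
theorem N1050 : nd 1050 = n2346 := ndS (p := 670) (l := 6) rfl N670 D2346
theorem N1051 : nd 1051 = n2347 := ndS (p := 671) (l := 6) rfl N671 D2347
theorem N1052 : nd 1052 = n2348 := ndS (p := 672) (l := 1) rfl N672 D2348
theorem N1053 : nd 1053 = n2349 := ndS (p := 672) (l := 5) rfl N672 D2349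
theorem N1054 : nd 1054 = n2350 := ndS (p := 673) (l := 0) rfl N673 D2350
theorem N1055 : nd 1055 = n2351 := ndS (p := 673) (l := 5) rfl N673 D2351
theorem N1056 : nd 1056 = n2352 := ndS (p := 674) (l := 1) rfl N674 D2352
theorem N1057 : nd 1057 = n2359 := ndS (p := 675) (l := 2) rfl N675 D2359
theorem N1058 : nd 1058 = n2360 := ndS (p := 675) (l := 4) rfl N675 D2360
theorem N1059 : nd 1059 = n2361 := ndS (p := 676) (l := 1) rfl N676 D2361
theorem N1060 : nd 1060 = n2362 := ndS (p := 676) (l := 4) rfl N676 D2362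
theorem N1061 : nd 1061 = n2363 := ndS (p := 676) (l := 5) rfl N676 D2363
theorem N1062 : nd 1062 = n2364 := ndS (p := 677) (l := 5) rfl N677 D2364
theorem N1063 : nd 1063 = n2365 := ndS (p := 678) (l := 1) rfl N678 D2365
theorem N1064 : nd 1064 = n2366 := ndS (p := 678) (l := 6) rfl N678 D2366
theorem N1065 : nd 1065 = n2367 := ndS (p := 679) (l := 0) rfl N679 D2367
theorem N1066 : nd 1066 = n2368 := ndS (p := 679) (l := 6) rfl N679 D2368
theorem N1067 : nd 1067 = n2369 := ndS (p := 680) (l := 1) rfl N680 D2369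
theorem N1068 : nd 1068 = n2385 := ndS (p := 682) (l := 1) rfl N682 D2385
theorem N1069 : nd 1069 = n2386 := ndS (p := 682) (l := 5) rfl N682 D2386
theorem N1070 : nd 1070 = n2387 := ndS (p := 683) (l := 0) rfl N683 D2387
theorem N1071 : nd 1071 = n2388 := ndS (p := 683) (l := 2) rfl N683 D2388
theorem N1072 : nd 1072 = n2391 := ndS (p := 685) (l := 1) rfl N685 D2391
theorem N1073 : nd 1073 = n2419 := ndS (p := 689) (l := 1) rfl N689 D2419
theorem N1074 : nd 1074 = n2420 := ndS (p := 689) (l := 6) rfl N689 D2420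
theorem N1075 : nd 1075 = n2425 := ndS (p := 692) (l := 1) rfl N692 D2425
theorem N1076 : nd 1076 = n2435 := ndS (p := 695) (l := 4) rfl N695 D2435
theorem N1077 : nd 1077 = n2437 := ndS (p := 696) (l := 3) rfl N696 D2437
theorem N1078 : nd 1078 = n2438 := ndS (p := 696) (l := 6) rfl N696 D2438
theorem N1079 : nd 1079 = n2439 := ndS (p := 698) (l := 3) rfl N698 D2439
theorem N1080 : nd 1080 = n2440 := ndS (p := 699) (l := 2) rfl N699 D2440
theorem N1081 : nd 1081 = n2452 := ndS (p := 700) (l := 4) rfl N700 D2452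
theorem N1082 : nd 1082 = n2455 := ndS (p := 701) (l := 3) rfl N701 D2455
theorem N1083 : nd 1083 = n2456 := ndS (p := 701) (l := 5) rfl N701 D2456
theorem N1084 : nd 1084 = n2461 := ndS (p := 703) (l := 3) rfl N703 D2461
theorem N1085 : nd 1085 = n2464 := ndS (p := 704) (l := 2) rfl N704 D2464
theorem N1086 : nd 1086 = n2481 := ndS (p := 705) (l := 1) rfl N705 D2481
theorem N1087 : nd 1087 = n2482 := ndS (p := 705) (l := 3) rfl N705 D2482
theorem N1088 : nd 1088 = n2483 := ndS (p := 705) (l := 5) rfl N705 D2483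
theorem N1089 : nd 1089 = n2484 := ndS (p := 705) (l := 6) rfl N705 D2484
theorem N1090 : nd 1090 = n2485 := ndS (p := 706) (l := 2) rfl N706 D2485
theorem N1091 : nd 1091 = n2486 := ndS (p := 706) (l := 5) rfl N706 D2486
theorem N1092 : nd 1092 = n2487 := ndS (p := 706) (l := 6) rfl N706 D2487
theorem N1093 : nd 1093 = n2488 := ndS (p := 707) (l := 1) rfl N707 D2488
theorem N1094 : nd 1094 = n2489 := ndS (p := 707) (l := 6) rfl N707 D2489
theorem N1095 : nd 1095 = n2490 := ndS (p := 708) (l := 1) rfl N708 D2490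
theorem N1096 : nd 1096 = n2491 := ndS (p := 708) (l := 5) rfl N708 D2491
theorem N1097 : nd 1097 = n2492 := ndS (p := 709) (l := 1) rfl N709 D2492
theorem N1098 : nd 1098 = n2493 := ndS (p := 709) (l := 6) rfl N709 D2493
theorem N1099 : nd 1099 = n2494 := ndS (p := 710) (l := 1) rfl N710 D2494
theorem N1100 : nd 1100 = n2495 := ndS (p := 710) (l := 5) rfl N710 D2495
theorem N1101 : nd 1101 = n2496 := ndS (p := 711) (l := 0) rfl N711 D2496
theorem N1102 : nd 1102 = n2497 := ndS (p := 711) (l := 2) rfl N711 D2497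
theorem N1103 : nd 1103 = n2498 := ndS (p := 711) (l := 6) rfl N711 D2498
theorem N1104 : nd 1104 = n2499 := ndS (p := 712) (l := 1) rfl N712 D2499
theorem N1105 : nd 1105 = n2500 := ndS (p := 713) (l := 0) rfl N713 D2500
theorem N1106 : nd 1106 = n2501 := ndS (p := 713) (l := 2) rfl N713 D2501
theorem N1107 : nd 1107 = n2502 := ndS (p := 713) (l := 5) rfl N713 D2502
theorem N1108 : nd 1108 = n2503 := ndS (p := 714) (l := 1) rfl N714 D2503
theorem N1109 : nd 1109 = n2507 := ndS (p := 715) (l := 3) rfl N715 D2507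
theorem N1110 : nd 1110 = n2508 := ndS (p := 715) (l := 6) rfl N715 D2508
theorem N1111 : nd 1111 = n2510 := ndS (p := 717) (l := 0) rfl N717 D2510
theorem N1112 : nd 1112 = n2511 := ndS (p := 717) (l := 2) rfl N717 D2511
theorem N1113 : nd 1113 = n2516 := ndS (p := 718) (l := 3) rfl N718 D2516
theorem N1114 : nd 1114 = n2517 := ndS (p := 718) (l := 5) rfl N718 D2517
theorem N1115 : nd 1115 = n2519 := ndS (p := 720) (l := 0) rfl N720 D2519
theorem N1116 : nd 1116 = n2520 := ndS (p := 720) (l := 2) rfl N720 D2520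
theorem N1117 : nd 1117 = n2537 := ndS (p := 721) (l := 1) rfl N721 D2537
theorem N1118 : nd 1118 = n2558 := ndS (p := 722) (l := 1) rfl N722 D2558
theorem N1119 : nd 1119 = n2593 := ndS (p := 723) (l := 0) rfl N723 D2593
theorem N1120 : nd 1120 = n2594 := ndS (p := 723) (l := 2) rfl N723 D2594
theorem N1121 : nd 1121 = n2636 := ndS (p := 724) (l := 0) rfl N724 D2636
theorem N1122 : nd 1122 = n2637 := ndS (p := 724) (l := 2) rfl N724 D2637
theorem N1123 : nd 1123 = n2650 := ndS (p := 725) (l := 0) rfl N725 D2650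
theorem N1124 : nd 1124 = n2651 := ndS (p := 725) (l := 2) rfl N725 D2651
theorem N1125 : nd 1125 = n2652 := ndS (p := 725) (l := 5) rfl N725 D2652
theorem N1126 : nd 1126 = n2653 := ndS (p := 725) (l := 6) rfl N725 D2653
theorem N1127 : nd 1127 = n2654 := ndS (p := 726) (l := 1) rfl N726 D2654
theorem N1128 : nd 1128 = n2655 := ndS (p := 727) (l := 1) rfl N727 D2655
theorem N1129 : nd 1129 = n2656 := ndS (p := 728) (l := 0) rfl N728 D2656
theorem N1130 : nd 1130 = n2657 := ndS (p := 728) (l := 2) rfl N728 D2657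
theorem N1131 : nd 1131 = n2658 := ndS (p := 728) (l := 6) rfl N728 D2658
theorem N1132 : nd 1132 = n2659 := ndS (p := 729) (l := 1) rfl N729 D2659
theorem N1133 : nd 1133 = n2660 := ndS (p := 730) (l := 0) rfl N730 D2660
theorem N1134 : nd 1134 = n2661 := ndS (p := 730) (l := 2) rfl N730 D2661
theorem N1135 : nd 1135 = n2662 := ndS (p := 730) (l := 5) rfl N730 D2662
theorem N1136 : nd 1136 = n2663 := ndS (p := 731) (l := 1) rfl N731 D2663
theorem N1137 : nd 1137 = n2664 := ndS (p := 732) (l := 1) rfl N732 D2664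
theorem N1138 : nd 1138 = n2665 := ndS (p := 732) (l := 2) rfl N732 D2665
theorem N1139 : nd 1139 = n2666 := ndS (p := 732) (l := 6) rfl N732 D2666
theorem N1140 : nd 1140 = n2667 := ndS (p := 733) (l := 3) rfl N733 D2667
theorem N1141 : nd 1141 = n2668 := ndS (p := 733) (l := 6) rfl N733 D2668
theorem N1142 : nd 1142 = n2669 := ndS (p := 734) (l := 1) rfl N734 D2669
theorem N1143 : nd 1143 = n2670 := ndS (p := 734) (l := 5) rfl N734 D2670
theorem N1144 : nd 1144 = n2671 := ndS (p := 735) (l := 0) rfl N735 D2671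
theorem N1145 : nd 1145 = n2672 := ndS (p := 735) (l := 2) rfl N735 D2672
theorem N1146 : nd 1146 = n2673 := ndS (p := 735) (l := 5) rfl N735 D2673
theorem N1147 : nd 1147 = n2674 := ndS (p := 736) (l := 1) rfl N736 D2674
theorem N1148 : nd 1148 = n2675 := ndS (p := 736) (l := 2) rfl N736 D2675
theorem N1149 : nd 1149 = n2676 := ndS (p := 736) (l := 5) rfl N736 D2676
theorem N1150 : nd 1150 = n2677 := ndS (p := 737) (l := 3) rfl N737 D2677
theorem N1151 : nd 1151 = n2678 := ndS (p := 737) (l := 5) rfl N737 D2678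
theorem N1152 : nd 1152 = n2679 := ndS (p := 738) (l := 1) rfl N738 D2679
theorem N1153 : nd 1153 = n2680 := ndS (p := 738) (l := 6) rfl N738 D2680
theorem N1154 : nd 1154 = n2681 := ndS (p := 739) (l := 0) rfl N739 D2681
theorem N1155 : nd 1155 = n2682 := ndS (p := 739) (l := 2) rfl N739 D2682
theorem N1156 : nd 1156 = n2683 := ndS (p := 739) (l := 6) rfl N739 D2683
theorem N1157 : nd 1157 = n2692 := ndS (p := 740) (l := 4) rfl N740 D2692
theorem N1158 : nd 1158 = n2693 := ndS (p := 740) (l := 6) rfl N740 D2693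
theorem N1159 : nd 1159 = n2694 := ndS (p := 741) (l := 1) rfl N741 D2694
theorem N1160 : nd 1160 = n2696 := ndS (p := 742) (l := 2) rfl N742 D2696
theorem N1161 : nd 1161 = n2698 := ndS (p := 743) (l := 1) rfl N743 D2698
theorem N1162 : nd 1162 = n2699 := ndS (p := 743) (l := 2) rfl N743 D2699
theorem N1163 : nd 1163 = n2701 := ndS (p := 744) (l := 3) rfl N744 D2701
theorem N1164 : nd 1164 = n2712 := ndS (p := 745) (l := 4) rfl N745 D2712
theorem N1165 : nd 1165 = n2713 := ndS (p := 745) (l := 5) rfl N745 D2713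
theorem N1166 : nd 1166 = n2714 := ndS (p := 746) (l := 1) rfl N746 D2714
theorem N1167 : nd 1167 = n2716 := ndS (p := 747) (l := 2) rfl N747 D2716
theorem N1168 : nd 1168 = n2718 := ndS (p := 748) (l := 1) rfl N748 D2718
theorem N1169 : nd 1169 = n2719 := ndS (p := 748) (l := 2) rfl N748 D2719
theorem N1170 : nd 1170 = n2721 := ndS (p := 749) (l := 3) rfl N749 D2721
theorem N1171 : nd 1171 = n2738 := ndS (p := 750) (l := 3) rfl N750 D2738
theorem N1172 : nd 1172 = n2740 := ndS (p := 751) (l := 0) rfl N751 D2740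
theorem N1173 : nd 1173 = n2741 := ndS (p := 751) (l := 2) rfl N751 D2741
theorem N1174 : nd 1174 = n2744 := ndS (p := 752) (l := 1) rfl N752 D2744
theorem N1175 : nd 1175 = n2745 := ndS (p := 752) (l := 3) rfl N752 D2745
theorem N1176 : nd 1176 = n2748 := ndS (p := 753) (l := 2) rfl N753 D2748
theorem N1177 : nd 1177 = n2749 := ndS (p := 753) (l := 4) rfl N753 D2749
theorem N1178 : nd 1178 = n2768 := ndS (p := 754) (l := 3) rfl N754 D2768
theorem N1179 : nd 1179 = n2770 := ndS (p := 755) (l := 0) rfl N755 D2770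
theorem N1180 : nd 1180 = n2771 := ndS (p := 755) (l := 2) rfl N755 D2771
theorem N1181 : nd 1181 = n2774 := ndS (p := 756) (l := 1) rfl N756 D2774
theorem N1182 : nd 1182 = n2775 := ndS (p := 756) (l := 3) rfl N756 D2775
theorem N1183 : nd 1183 = n2778 := ndS (p := 757) (l := 2) rfl N757 D2778
theorem N1184 : nd 1184 = n2779 := ndS (p := 757) (l := 4) rfl N757 D2779
theorem N1185 : nd 1185 = n2812 := ndS (p := 758) (l := 4) rfl N758 D2812
theorem N1186 : nd 1186 = n2815 := ndS (p := 759) (l := 2) rfl N759 D2815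
theorem N1187 : nd 1187 = n2817 := ndS (p := 760) (l := 1) rfl N760 D2817
theorem N1188 : nd 1188 = n2818 := ndS (p := 760) (l := 3) rfl N760 D2818
theorem N1189 : nd 1189 = n2821 := ndS (p := 761) (l := 0) rfl N761 D2821
theorem N1190 : nd 1190 = n2824 := ndS (p := 761) (l := 6) rfl N761 D2824
theorem N1191 : nd 1191 = n2826 := ndS (p := 762) (l := 4) rfl N762 D2826
theorem N1192 : nd 1192 = n2867 := ndS (p := 764) (l := 4) rfl N764 D2867
theorem N1193 : nd 1193 = n2870 := ndS (p := 765) (l := 2) rfl N765 D2870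
theorem N1194 : nd 1194 = n2872 := ndS (p := 766) (l := 1) rfl N766 D2872
theorem N1195 : nd 1195 = n2873 := ndS (p := 766) (l := 3) rfl N766 D2873
theorem N1196 : nd 1196 = n2876 := ndS (p := 767) (l := 0) rfl N767 D2876
theorem N1197 : nd 1197 = n2878 := ndS (p := 767) (l := 5) rfl N767 D2878
theorem N1198 : nd 1198 = n2881 := ndS (p := 768) (l := 4) rfl N768 D2881
theorem N1199 : nd 1199 = n2900 := ndS (p := 770) (l := 2) rfl N770 D2900
theorem N1200 : nd 1200 = n2902 := ndS (p := 770) (l := 5) rfl N770 D2902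
theorem N1201 : nd 1201 = n2903 := ndS (p := 771) (l := 1) rfl N771 D2903
theorem N1202 : nd 1202 = n2904 := ndS (p := 772) (l := 1) rfl N772 D2904
theorem N1203 : nd 1203 = n2906 := ndS (p := 772) (l := 5) rfl N772 D2906
theorem N1204 : nd 1204 = n2908 := ndS (p := 773) (l := 1) rfl N773 D2908
theorem N1205 : nd 1205 = n2909 := ndS (p := 774) (l := 0) rfl N774 D2909
theorem N1206 : nd 1206 = n2910 := ndS (p := 774) (l := 6) rfl N774 D2910
theorem N1207 : nd 1207 = n2915 := ndS (p := 775) (l := 2) rfl N775 D2915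
theorem N1208 : nd 1208 = n2917 := ndS (p := 775) (l := 6) rfl N775 D2917
theorem N1209 : nd 1209 = n2918 := ndS (p := 776) (l := 1) rfl N776 D2918
theorem N1210 : nd 1210 = n2919 := ndS (p := 777) (l := 1) rfl N777 D2919
theorem N1211 : nd 1211 = n2921 := ndS (p := 777) (l := 6) rfl N777 D2921
theorem N1212 : nd 1212 = n2923 := ndS (p := 778) (l := 1) rfl N778 D2923
theorem N1213 : nd 1213 = n2924 := ndS (p := 779) (l := 0) rfl N779 D2924
theorem N1214 : nd 1214 = n2925 := ndS (p := 779) (l := 5) rfl N779 D2925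
theorem N1215 : nd 1215 = n2952 := ndS (p := 781) (l := 1) rfl N781 D2952
theorem N1216 : nd 1216 = n2981 := ndS (p := 784) (l := 1) rfl N784 D2981
theorem N1217 : nd 1217 = n3233 := ndS (p := 788) (l := 2) rfl N788 D3233
theorem N1218 : nd 1218 = n3248 := ndS (p := 789) (l := 1) rfl N789 D3248
theorem N1219 : nd 1219 = n3249 := ndS (p := 789) (l := 3) rfl N789 D3249
theorem N1220 : nd 1220 = n3280 := ndS (p := 790) (l := 1) rfl N790 D3280
theorem N1221 : nd 1221 = n3281 := ndS (p := 790) (l := 3) rfl N790 D3281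
theorem N1222 : nd 1222 = n3282 := ndS (p := 790) (l := 5) rfl N790 D3282
theorem N1223 : nd 1223 = n3283 := ndS (p := 790) (l := 6) rfl N790 D3283
theorem N1224 : nd 1224 = n3304 := ndS (p := 793) (l := 0) rfl N793 D3304
theorem N1225 : nd 1225 = n3305 := ndS (p := 793) (l := 5) rfl N793 D3305
theorem N1226 : nd 1226 = n3306 := ndS (p := 793) (l := 6) rfl N793 D3306
theorem N1227 : nd 1227 = n3307 := ndS (p := 794) (l := 1) rfl N794 D3307
theorem N1228 : nd 1228 = n3308 := ndS (p := 795) (l := 1) rfl N795 D3308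
theorem N1229 : nd 1229 = n3640 := ndS (p := 796) (l := 2) rfl N796 D3640
theorem N1230 : nd 1230 = n3641 := ndS (p := 796) (l := 5) rfl N796 D3641
theorem N1231 : nd 1231 = n3642 := ndS (p := 796) (l := 6) rfl N796 D3642
theorem N1232 : nd 1232 = n3643 := ndS (p := 797) (l := 1) rfl N797 D3643
theorem N1233 : nd 1233 = n3644 := ndS (p := 798) (l := 1) rfl N798 D3644
theorem N1234 : nd 1234 = n3651 := ndS (p := 801) (l := 1) rfl N801 D3651
theorem N1235 : nd 1235 = n3652 := ndS (p := 801) (l := 5) rfl N801 D3652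
theorem N1236 : nd 1236 = n3653 := ndS (p := 801) (l := 6) rfl N801 D3653
theorem N1237 : nd 1237 = n3654 := ndS (p := 802) (l := 1) rfl N802 D3654
theorem N1238 : nd 1238 = n3655 := ndS (p := 803) (l := 1) rfl N803 D3655
theorem N1239 : nd 1239 = n3672 := ndS (p := 806) (l := 1) rfl N806 D3672
theorem N1240 : nd 1240 = n3673 := ndS (p := 806) (l := 3) rfl N806 D3673
theorem N1241 : nd 1241 = n3674 := ndS (p := 806) (l := 5) rfl N806 D3674
theorem N1242 : nd 1242 = n3675 := ndS (p := 806) (l := 6) rfl N806 D3675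
theorem N1243 : nd 1243 = n3676 := ndS (p := 807) (l := 1) rfl N807 D3676
theorem N1244 : nd 1244 = n3677 := ndS (p := 807) (l := 6) rfl N807 D3677
theorem N1245 : nd 1245 = n3678 := ndS (p := 808) (l := 1) rfl N808 D3678
theorem N1246 : nd 1246 = n3679 := ndS (p := 808) (l := 5) rfl N808 D3679
theorem N1247 : nd 1247 = n3682 := ndS (p := 809) (l := 6) rfl N809 D3682
theorem N1248 : nd 1248 = n3683 := ndS (p := 810) (l := 1) rfl N810 D3683
theorem N1249 : nd 1249 = n3686 := ndS (p := 811) (l := 5) rfl N811 D3686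
theorem N1250 : nd 1250 = n3687 := ndS (p := 812) (l := 1) rfl N812 D3687
theorem N1251 : nd 1251 = n3704 := ndS (p := 817) (l := 0) rfl N817 D3704
theorem N1252 : nd 1252 = n3705 := ndS (p := 817) (l := 3) rfl N817 D3705
theorem N1253 : nd 1253 = n3706 := ndS (p := 817) (l := 5) rfl N817 D3706
theorem N1254 : nd 1254 = n3707 := ndS (p := 817) (l := 6) rfl N817 D3707
theorem N1255 : nd 1255 = n3708 := ndS (p := 818) (l := 4) rfl N818 D3708
theorem N1256 : nd 1256 = n3709 := ndS (p := 818) (l := 5) rfl N818 D3709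
theorem N1257 : nd 1257 = n3710 := ndS (p := 818) (l := 6) rfl N818 D3710
theorem N1258 : nd 1258 = n3711 := ndS (p := 819) (l := 1) rfl N819 D3711
theorem N1259 : nd 1259 = n3712 := ndS (p := 819) (l := 6) rfl N819 D3712
theorem N1260 : nd 1260 = n3713 := ndS (p := 820) (l := 1) rfl N820 D3713
theorem N1261 : nd 1261 = n3714 := ndS (p := 820) (l := 5) rfl N820 D3714
theorem N1262 : nd 1262 = n3715 := ndS (p := 821) (l := 0) rfl N821 D3715
theorem N1263 : nd 1263 = n3716 := ndS (p := 821) (l := 2) rfl N821 D3716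
theorem N1264 : nd 1264 = n3717 := ndS (p := 821) (l := 6) rfl N821 D3717
theorem N1265 : nd 1265 = n3718 := ndS (p := 822) (l := 1) rfl N822 D3718
theorem N1266 : nd 1266 = n3719 := ndS (p := 823) (l := 0) rfl N823 D3719
theorem N1267 : nd 1267 = n3720 := ndS (p := 823) (l := 2) rfl N823 D3720
theorem N1268 : nd 1268 = n3721 := ndS (p := 823) (l := 5) rfl N823 D3721
theorem N1269 : nd 1269 = n3722 := ndS (p := 824) (l := 1) rfl N824 D3722
theorem N1270 : nd 1270 = n3724 := ndS (p := 825) (l := 2) rfl N825 D3724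
theorem N1271 : nd 1271 = n3725 := ndS (p := 826) (l := 3) rfl N826 D3725
theorem N1272 : nd 1272 = n3726 := ndS (p := 826) (l := 6) rfl N826 D3726
theorem N1273 : nd 1273 = n3729 := ndS (p := 828) (l := 2) rfl N828 D3729
theorem N1274 : nd 1274 = n3732 := ndS (p := 829) (l := 2) rfl N829 D3732
theorem N1275 : nd 1275 = n3733 := ndS (p := 830) (l := 3) rfl N830 D3733
theorem N1276 : nd 1276 = n3734 := ndS (p := 830) (l := 5) rfl N830 D3734
theorem N1277 : nd 1277 = n3737 := ndS (p := 832) (l := 2) rfl N832 D3737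
theorem N1278 : nd 1278 = n3743 := ndS (p := 833) (l := 1) rfl N833 D3743
theorem N1279 : nd 1279 = n3744 := ndS (p := 833) (l := 3) rfl N833 D3744
theorem N1280 : nd 1280 = n3746 := ndS (p := 834) (l := 4) rfl N834 D3746
theorem N1281 : nd 1281 = n3755 := ndS (p := 836) (l := 3) rfl N836 D3755
theorem N1282 : nd 1282 = n3762 := ndS (p := 837) (l := 1) rfl N837 D3762
theorem N1283 : nd 1283 = n3763 := ndS (p := 837) (l := 3) rfl N837 D3763
theorem N1284 : nd 1284 = n3765 := ndS (p := 838) (l := 4) rfl N838 D3765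
theorem N1285 : nd 1285 = n3774 := ndS (p := 840) (l := 3) rfl N840 D3774
theorem N1286 : nd 1286 = n3826 := ndS (p := 841) (l := 0) rfl N841 D3826
theorem N1287 : nd 1287 = n3827 := ndS (p := 841) (l := 3) rfl N841 D3827
theorem N1288 : nd 1288 = n3828 := ndS (p := 841) (l := 5) rfl N841 D3828
theorem N1289 : nd 1289 = n3829 := ndS (p := 841) (l := 6) rfl N841 D3829
theorem N1290 : nd 1290 = n3830 := ndS (p := 842) (l := 5) rfl N842 D3830
theorem N1291 : nd 1291 = n3831 := ndS (p := 842) (l := 6) rfl N842 D3831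
theorem N1292 : nd 1292 = n3832 := ndS (p := 843) (l := 1) rfl N843 D3832
theorem N1293 : nd 1293 = n3833 := ndS (p := 843) (l := 6) rfl N843 D3833
theorem N1294 : nd 1294 = n3834 := ndS (p := 844) (l := 1) rfl N844 D3834
theorem N1295 : nd 1295 = n3835 := ndS (p := 844) (l := 5) rfl N844 D3835
theorem N1296 : nd 1296 = n3836 := ndS (p := 845) (l := 0) rfl N845 D3836
theorem N1297 : nd 1297 = n3837 := ndS (p := 845) (l := 2) rfl N845 D3837
theorem N1298 : nd 1298 = n3838 := ndS (p := 845) (l := 6) rfl N845 D3838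
theorem N1299 : nd 1299 = n3839 := ndS (p := 846) (l := 1) rfl N846 D3839
theorem N1300 : nd 1300 = n3840 := ndS (p := 847) (l := 0) rfl N847 D3840
theorem N1301 : nd 1301 = n3841 := ndS (p := 847) (l := 2) rfl N847 D3841
theorem N1302 : nd 1302 = n3842 := ndS (p := 847) (l := 5) rfl N847 D3842
theorem N1303 : nd 1303 = n3843 := ndS (p := 848) (l := 1) rfl N848 D3843
theorem N1304 : nd 1304 = n3844 := ndS (p := 849) (l := 1) rfl N849 D3844
theorem N1305 : nd 1305 = n3847 := ndS (p := 850) (l := 3) rfl N850 D3847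
theorem N1306 : nd 1306 = n3848 := ndS (p := 850) (l := 6) rfl N850 D3848
theorem N1307 : nd 1307 = n3849 := ndS (p := 851) (l := 1) rfl N851 D3849
theorem N1308 : nd 1308 = n3851 := ndS (p := 852) (l := 0) rfl N852 D3851
theorem N1309 : nd 1309 = n3852 := ndS (p := 852) (l := 2) rfl N852 D3852
theorem N1310 : nd 1310 = n3854 := ndS (p := 853) (l := 1) rfl N853 D3854
theorem N1311 : nd 1311 = n3857 := ndS (p := 854) (l := 3) rfl N854 D3857
theorem N1312 : nd 1312 = n3858 := ndS (p := 854) (l := 5) rfl N854 D3858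
theorem N1313 : nd 1313 = n3859 := ndS (p := 855) (l := 1) rfl N855 D3859
theorem N1314 : nd 1314 = n3861 := ndS (p := 856) (l := 0) rfl N856 D3861
theorem N1315 : nd 1315 = n3862 := ndS (p := 856) (l := 2) rfl N856 D3862
theorem N1316 : nd 1316 = n3877 := ndS (p := 859) (l := 0) rfl N859 D3877
theorem N1317 : nd 1317 = n3878 := ndS (p := 859) (l := 2) rfl N859 D3878
theorem N1318 : nd 1318 = n3882 := ndS (p := 860) (l := 2) rfl N860 D3882
theorem N1319 : nd 1319 = n3900 := ndS (p := 864) (l := 0) rfl N864 D3900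
theorem N1320 : nd 1320 = n3901 := ndS (p := 864) (l := 2) rfl N864 D3901
theorem N1321 : nd 1321 = n3905 := ndS (p := 865) (l := 2) rfl N865 D3905
theorem N1322 : nd 1322 = n3910 := ndS (p := 867) (l := 1) rfl N867 D3910
theorem N1323 : nd 1323 = n3911 := ndS (p := 867) (l := 5) rfl N867 D3911
theorem N1324 : nd 1324 = n3912 := ndS (p := 867) (l := 6) rfl N867 D3912
theorem N1325 : nd 1325 = n3913 := ndS (p := 868) (l := 1) rfl N868 D3913
theorem N1326 : nd 1326 = n3914 := ndS (p := 868) (l := 6) rfl N868 D3914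
theorem N1327 : nd 1327 = n3915 := ndS (p := 869) (l := 1) rfl N869 D3915
theorem N1328 : nd 1328 = n3916 := ndS (p := 869) (l := 5) rfl N869 D3916
theorem N1329 : nd 1329 = n3917 := ndS (p := 870) (l := 0) rfl N870 D3917
theorem N1330 : nd 1330 = n3918 := ndS (p := 870) (l := 2) rfl N870 D3918
theorem N1331 : nd 1331 = n3919 := ndS (p := 870) (l := 6) rfl N870 D3919
theorem N1332 : nd 1332 = n3920 := ndS (p := 871) (l := 1) rfl N871 D3920
theorem N1333 : nd 1333 = n3921 := ndS (p := 872) (l := 0) rfl N872 D3921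
theorem N1334 : nd 1334 = n3922 := ndS (p := 872) (l := 2) rfl N872 D3922
theorem N1335 : nd 1335 = n3923 := ndS (p := 872) (l := 5) rfl N872 D3923
theorem N1336 : nd 1336 = n3924 := ndS (p := 873) (l := 1) rfl N873 D3924
theorem N1337 : nd 1337 = n3925 := ndS (p := 874) (l := 1) rfl N874 D3925
theorem N1338 : nd 1338 = n3926 := ndS (p := 874) (l := 2) rfl N874 D3926
theorem N1339 : nd 1339 = n3928 := ndS (p := 875) (l := 3) rfl N875 D3928
theorem N1340 : nd 1340 = n3929 := ndS (p := 875) (l := 6) rfl N875 D3929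
theorem N1341 : nd 1341 = n3930 := ndS (p := 876) (l := 1) rfl N876 D3930
theorem N1342 : nd 1342 = n3931 := ndS (p := 876) (l := 5) rfl N876 D3931
theorem N1343 : nd 1343 = n3932 := ndS (p := 877) (l := 0) rfl N877 D3932
theorem N1344 : nd 1344 = n3933 := ndS (p := 877) (l := 2) rfl N877 D3933
theorem N1345 : nd 1345 = n3935 := ndS (p := 878) (l := 1) rfl N878 D3935
theorem N1346 : nd 1346 = n3936 := ndS (p := 878) (l := 2) rfl N878 D3936
theorem N1347 : nd 1347 = n3938 := ndS (p := 879) (l := 3) rfl N879 D3938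
theorem N1348 : nd 1348 = n3939 := ndS (p := 879) (l := 5) rfl N879 D3939
theorem N1349 : nd 1349 = n3940 := ndS (p := 880) (l := 1) rfl N880 D3940
theorem N1350 : nd 1350 = n3941 := ndS (p := 880) (l := 6) rfl N880 D3941
theorem N1351 : nd 1351 = n3942 := ndS (p := 881) (l := 0) rfl N881 D3942
theorem N1352 : nd 1352 = n3943 := ndS (p := 881) (l := 2) rfl N881 D3943
theorem N1353 : nd 1353 = n3950 := ndS (p := 883) (l := 3) rfl N883 D3950
theorem N1354 : nd 1354 = n3953 := ndS (p := 884) (l := 2) rfl N884 D3953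
theorem N1355 : nd 1355 = n3954 := ndS (p := 884) (l := 4) rfl N884 D3954
theorem N1356 : nd 1356 = n3955 := ndS (p := 884) (l := 6) rfl N884 D3955
theorem N1357 : nd 1357 = n3956 := ndS (p := 885) (l := 1) rfl N885 D3956
theorem N1358 : nd 1358 = n3957 := ndS (p := 885) (l := 5) rfl N885 D3957
theorem N1359 : nd 1359 = n3958 := ndS (p := 886) (l := 0) rfl N886 D3958
theorem N1360 : nd 1360 = n3959 := ndS (p := 886) (l := 2) rfl N886 D3959
theorem N1361 : nd 1361 = n3963 := ndS (p := 888) (l := 2) rfl N888 D3963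
theorem N1362 : nd 1362 = n3965 := ndS (p := 889) (l := 3) rfl N889 D3965
theorem N1363 : nd 1363 = n3973 := ndS (p := 891) (l := 3) rfl N891 D3973
theorem N1364 : nd 1364 = n3976 := ndS (p := 892) (l := 2) rfl N892 D3976
theorem N1365 : nd 1365 = n3977 := ndS (p := 892) (l := 4) rfl N892 D3977
theorem N1366 : nd 1366 = n3978 := ndS (p := 892) (l := 5) rfl N892 D3978
theorem N1367 : nd 1367 = n3979 := ndS (p := 893) (l := 1) rfl N893 D3979
theorem N1368 : nd 1368 = n3980 := ndS (p := 893) (l := 6) rfl N893 D3980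
theorem N1369 : nd 1369 = n3981 := ndS (p := 894) (l := 0) rfl N894 D3981
theorem N1370 : nd 1370 = n3982 := ndS (p := 894) (l := 2) rfl N894 D3982
theorem N1371 : nd 1371 = n3986 := ndS (p := 896) (l := 2) rfl N896 D3986
theorem N1372 : nd 1372 = n3988 := ndS (p := 897) (l := 3) rfl N897 D3988
theorem N1373 : nd 1373 = n4006 := ndS (p := 898) (l := 4) rfl N898 D4006
theorem N1374 : nd 1374 = n4015 := ndS (p := 899) (l := 6) rfl N899 D4015
theorem N1375 : nd 1375 = n4016 := ndS (p := 900) (l := 1) rfl N900 D4016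
theorem N1376 : nd 1376 = n4017 := ndS (p := 900) (l := 5) rfl N900 D4017
theorem N1377 : nd 1377 = n4018 := ndS (p := 901) (l := 0) rfl N901 D4018
theorem N1378 : nd 1378 = n4038 := ndS (p := 906) (l := 4) rfl N906 D4038
theorem N1379 : nd 1379 = n4057 := ndS (p := 907) (l := 4) rfl N907 D4057
theorem N1380 : nd 1380 = n4064 := ndS (p := 908) (l := 5) rfl N908 D4064
theorem N1381 : nd 1381 = n4065 := ndS (p := 909) (l := 1) rfl N909 D4065
theorem N1382 : nd 1382 = n4066 := ndS (p := 909) (l := 6) rfl N909 D4066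
theorem N1383 : nd 1383 = n4067 := ndS (p := 910) (l := 0) rfl N910 D4067
theorem N1384 : nd 1384 = n4087 := ndS (p := 915) (l := 4) rfl N915 D4087
theorem N1385 : nd 1385 = n4091 := ndS (p := 916) (l := 1) rfl N916 D4091
theorem N1386 : nd 1386 = n4092 := ndS (p := 916) (l := 4) rfl N916 D4092
theorem N1387 : nd 1387 = n4093 := ndS (p := 916) (l := 6) rfl N916 D4093
theorem N1388 : nd 1388 = n4094 := ndS (p := 917) (l := 6) rfl N917 D4094
theorem N1389 : nd 1389 = n4095 := ndS (p := 918) (l := 1) rfl N918 D4095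
theorem N1390 : nd 1390 = n4096 := ndS (p := 919) (l := 0) rfl N919 D4096
theorem N1391 : nd 1391 = n4097 := ndS (p := 919) (l := 5) rfl N919 D4097
theorem N1392 : nd 1392 = n4098 := ndS (p := 920) (l := 2) rfl N920 D4098
theorem N1393 : nd 1393 = n4099 := ndS (p := 920) (l := 4) rfl N920 D4099
theorem N1394 : nd 1394 = n4106 := ndS (p := 921) (l := 1) rfl N921 D4106
theorem N1395 : nd 1395 = n4107 := ndS (p := 921) (l := 4) rfl N921 D4107
theorem N1396 : nd 1396 = n4108 := ndS (p := 921) (l := 5) rfl N921 D4108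
theorem N1397 : nd 1397 = n4109 := ndS (p := 922) (l := 5) rfl N922 D4109
theorem N1398 : nd 1398 = n4110 := ndS (p := 923) (l := 1) rfl N923 D4110
theorem N1399 : nd 1399 = n4111 := ndS (p := 924) (l := 0) rfl N924 D4111
theorem N1400 : nd 1400 = n4112 := ndS (p := 924) (l := 6) rfl N924 D4112
theorem N1401 : nd 1401 = n4113 := ndS (p := 925) (l := 2) rfl N925 D4113
theorem N1402 : nd 1402 = n4114 := ndS (p := 925) (l := 4) rfl N925 D4114
theorem N1403 : nd 1403 = n4115 := ndS (p := 926) (l := 1) rfl N926 D4115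
theorem N1404 : nd 1404 = n4138 := ndS (p := 931) (l := 1) rfl N931 D4138
theorem N1405 : nd 1405 = n4204 := ndS (p := 938) (l := 2) rfl N938 D4204
theorem N1406 : nd 1406 = n4217 := ndS (p := 939) (l := 1) rfl N939 D4217
theorem N1407 : nd 1407 = n4218 := ndS (p := 939) (l := 3) rfl N939 D4218
theorem N1408 : nd 1408 = n4237 := ndS (p := 940) (l := 1) rfl N940 D4237
theorem N1409 : nd 1409 = n4238 := ndS (p := 940) (l := 3) rfl N940 D4238
theorem N1410 : nd 1410 = n4239 := ndS (p := 940) (l := 5) rfl N940 D4239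
theorem N1411 : nd 1411 = n4240 := ndS (p := 940) (l := 6) rfl N940 D4240
theorem N1412 : nd 1412 = n4261 := ndS (p := 943) (l := 0) rfl N943 D4261
theorem N1413 : nd 1413 = n4262 := ndS (p := 943) (l := 3) rfl N943 D4262
theorem N1414 : nd 1414 = n4263 := ndS (p := 943) (l := 5) rfl N943 D4263
theorem N1415 : nd 1415 = n4264 := ndS (p := 943) (l := 6) rfl N943 D4264
theorem N1416 : nd 1416 = n4265 := ndS (p := 944) (l := 4) rfl N944 D4265
theorem N1417 : nd 1417 = n4266 := ndS (p := 944) (l := 5) rfl N944 D4266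
theorem N1418 : nd 1418 = n4267 := ndS (p := 944) (l := 6) rfl N944 D4267
theorem N1419 : nd 1419 = n4268 := ndS (p := 945) (l := 1) rfl N945 D4268
theorem N1420 : nd 1420 = n4269 := ndS (p := 946) (l := 1) rfl N946 D4269
theorem N1421 : nd 1421 = n4305 := ndS (p := 947) (l := 0) rfl N947 D4305
theorem N1422 : nd 1422 = n4307 := ndS (p := 947) (l := 5) rfl N947 D4307
theorem N1423 : nd 1423 = n4308 := ndS (p := 947) (l := 6) rfl N947 D4308
theorem N1424 : nd 1424 = n4309 := ndS (p := 948) (l := 4) rfl N948 D4309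
theorem N1425 : nd 1425 = n4310 := ndS (p := 948) (l := 5) rfl N948 D4310
theorem N1426 : nd 1426 = n4311 := ndS (p := 948) (l := 6) rfl N948 D4311
theorem N1427 : nd 1427 = n4312 := ndS (p := 949) (l := 1) rfl N949 D4312
theorem N1428 : nd 1428 = n4313 := ndS (p := 949) (l := 6) rfl N949 D4313
theorem N1429 : nd 1429 = n4314 := ndS (p := 950) (l := 1) rfl N950 D4314
theorem N1430 : nd 1430 = n4315 := ndS (p := 950) (l := 5) rfl N950 D4315
theorem N1431 : nd 1431 = n4317 := ndS (p := 951) (l := 2) rfl N951 D4317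
theorem N1432 : nd 1432 = n4319 := ndS (p := 952) (l := 1) rfl N952 D4319
theorem N1433 : nd 1433 = n4321 := ndS (p := 953) (l := 2) rfl N953 D4321
theorem N1434 : nd 1434 = n4323 := ndS (p := 954) (l := 1) rfl N954 D4323
theorem N1435 : nd 1435 = n4329 := ndS (p := 955) (l := 0) rfl N955 D4329
theorem N1436 : nd 1436 = n4330 := ndS (p := 955) (l := 2) rfl N955 D4330
theorem N1437 : nd 1437 = n4337 := ndS (p := 956) (l := 0) rfl N956 D4337
theorem N1438 : nd 1438 = n4338 := ndS (p := 956) (l := 2) rfl N956 D4338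
theorem N1439 : nd 1439 = n4353 := ndS (p := 957) (l := 2) rfl N957 D4353
theorem N1440 : nd 1440 = n4370 := ndS (p := 959) (l := 2) rfl N959 D4370
theorem N1441 : nd 1441 = n4375 := ndS (p := 961) (l := 3) rfl N961 D4375
theorem N1442 : nd 1442 = n4376 := ndS (p := 961) (l := 5) rfl N961 D4376
theorem N1443 : nd 1443 = n4377 := ndS (p := 961) (l := 6) rfl N961 D4377
theorem N1444 : nd 1444 = n4379 := ndS (p := 962) (l := 5) rfl N962 D4379
theorem N1445 : nd 1445 = n4380 := ndS (p := 962) (l := 6) rfl N962 D4380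
theorem N1446 : nd 1446 = n4381 := ndS (p := 963) (l := 1) rfl N963 D4381
theorem N1447 : nd 1447 = n4382 := ndS (p := 963) (l := 6) rfl N963 D4382
theorem N1448 : nd 1448 = n4383 := ndS (p := 964) (l := 1) rfl N964 D4383
theorem N1449 : nd 1449 = n4384 := ndS (p := 964) (l := 5) rfl N964 D4384
theorem N1450 : nd 1450 = n4385 := ndS (p := 965) (l := 1) rfl N965 D4385
theorem N1451 : nd 1451 = n4387 := ndS (p := 965) (l := 5) rfl N965 D4387
theorem N1452 : nd 1452 = n4388 := ndS (p := 965) (l := 6) rfl N965 D4388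
theorem N1453 : nd 1453 = n4389 := ndS (p := 966) (l := 5) rfl N966 D4389
theorem N1454 : nd 1454 = n4390 := ndS (p := 966) (l := 6) rfl N966 D4390
theorem N1455 : nd 1455 = n4391 := ndS (p := 967) (l := 1) rfl N967 D4391
theorem N1456 : nd 1456 = n4392 := ndS (p := 967) (l := 6) rfl N967 D4392
theorem N1457 : nd 1457 = n4393 := ndS (p := 968) (l := 1) rfl N968 D4393
theorem N1458 : nd 1458 = n4394 := ndS (p := 968) (l := 5) rfl N968 D4394
theorem N1459 : nd 1459 = n4395 := ndS (p := 969) (l := 0) rfl N969 D4395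
theorem N1460 : nd 1460 = n4396 := ndS (p := 969) (l := 2) rfl N969 D4396
theorem N1461 : nd 1461 = n4397 := ndS (p := 969) (l := 6) rfl N969 D4397
theorem N1462 : nd 1462 = n4398 := ndS (p := 970) (l := 1) rfl N970 D4398
theorem N1463 : nd 1463 = n4399 := ndS (p := 971) (l := 0) rfl N971 D4399
theorem N1464 : nd 1464 = n4400 := ndS (p := 971) (l := 2) rfl N971 D4400
theorem N1465 : nd 1465 = n4401 := ndS (p := 971) (l := 5) rfl N971 D4401
theorem N1466 : nd 1466 = n4402 := ndS (p := 972) (l := 1) rfl N972 D4402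
theorem N1467 : nd 1467 = n4405 := ndS (p := 973) (l := 3) rfl N973 D4405
theorem N1468 : nd 1468 = n4408 := ndS (p := 974) (l := 0) rfl N974 D4408
theorem N1469 : nd 1469 = n4409 := ndS (p := 974) (l := 2) rfl N974 D4409
theorem N1470 : nd 1470 = n4413 := ndS (p := 975) (l := 3) rfl N975 D4413
theorem N1471 : nd 1471 = n4416 := ndS (p := 976) (l := 0) rfl N976 D4416
theorem N1472 : nd 1472 = n4417 := ndS (p := 976) (l := 2) rfl N976 D4417
theorem N1473 : nd 1473 = n4422 := ndS (p := 977) (l := 2) rfl N977 D4422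
theorem N1474 : nd 1474 = n4423 := ndS (p := 977) (l := 4) rfl N977 D4423
theorem N1475 : nd 1475 = n4431 := ndS (p := 979) (l := 3) rfl N979 D4431
theorem N1476 : nd 1476 = n4439 := ndS (p := 980) (l := 2) rfl N980 D4439
theorem N1477 : nd 1477 = n4440 := ndS (p := 980) (l := 4) rfl N980 D4440
theorem N1478 : nd 1478 = n4448 := ndS (p := 982) (l := 3) rfl N982 D4448
theorem N1479 : nd 1479 = n4503 := ndS (p := 985) (l := 1) rfl N985 D4503
theorem N1480 : nd 1480 = n4504 := ndS (p := 985) (l := 3) rfl N985 D4504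
theorem N1481 : nd 1481 = n4505 := ndS (p := 985) (l := 5) rfl N985 D4505
theorem N1482 : nd 1482 = n4506 := ndS (p := 985) (l := 6) rfl N985 D4506
theorem N1483 : nd 1483 = n4507 := ndS (p := 986) (l := 2) rfl N986 D4507
theorem N1484 : nd 1484 = n4508 := ndS (p := 986) (l := 5) rfl N986 D4508
theorem N1485 : nd 1485 = n4509 := ndS (p := 986) (l := 6) rfl N986 D4509
theorem N1486 : nd 1486 = n4510 := ndS (p := 987) (l := 1) rfl N987 D4510
theorem N1487 : nd 1487 = n4511 := ndS (p := 987) (l := 6) rfl N987 D4511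
theorem N1488 : nd 1488 = n4512 := ndS (p := 988) (l := 1) rfl N988 D4512
theorem N1489 : nd 1489 = n4513 := ndS (p := 988) (l := 5) rfl N988 D4513
theorem N1490 : nd 1490 = n4514 := ndS (p := 989) (l := 1) rfl N989 D4514
theorem N1491 : nd 1491 = n4515 := ndS (p := 990) (l := 1) rfl N990 D4515
theorem N1492 : nd 1492 = n4516 := ndS (p := 991) (l := 0) rfl N991 D4516
theorem N1493 : nd 1493 = n4517 := ndS (p := 991) (l := 2) rfl N991 D4517
theorem N1494 : nd 1494 = n4518 := ndS (p := 991) (l := 6) rfl N991 D4518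
theorem N1495 : nd 1495 = n4519 := ndS (p := 992) (l := 0) rfl N992 D4519
theorem N1496 : nd 1496 = n4520 := ndS (p := 992) (l := 2) rfl N992 D4520
theorem N1497 : nd 1497 = n4521 := ndS (p := 992) (l := 5) rfl N992 D4521
theorem N1498 : nd 1498 = n4523 := ndS (p := 993) (l := 2) rfl N993 D4523
theorem N1499 : nd 1499 = n4524 := ndS (p := 993) (l := 6) rfl N993 D4524
theorem N1500 : nd 1500 = n4525 := ndS (p := 994) (l := 3) rfl N994 D4525
theorem N1501 : nd 1501 = n4526 := ndS (p := 994) (l := 6) rfl N994 D4526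
theorem N1502 : nd 1502 = n4529 := ndS (p := 996) (l := 2) rfl N996 D4529
theorem N1503 : nd 1503 = n4530 := ndS (p := 996) (l := 5) rfl N996 D4530
theorem N1504 : nd 1504 = n4531 := ndS (p := 997) (l := 3) rfl N997 D4531
theorem N1505 : nd 1505 = n4532 := ndS (p := 997) (l := 5) rfl N997 D4532
theorem N1506 : nd 1506 = n4542 := ndS (p := 1000) (l := 2) rfl N1000 D4542
theorem N1507 : nd 1507 = n4556 := ndS (p := 1002) (l := 2) rfl N1002 D4556
theorem N1508 : nd 1508 = n4620 := ndS (p := 1003) (l := 0) rfl N1003 D4620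
theorem N1509 : nd 1509 = n4621 := ndS (p := 1003) (l := 2) rfl N1003 D4621
theorem N1510 : nd 1510 = n4622 := ndS (p := 1003) (l := 5) rfl N1003 D4622
theorem N1511 : nd 1511 = n4623 := ndS (p := 1003) (l := 6) rfl N1003 D4623
theorem N1512 : nd 1512 = n4624 := ndS (p := 1004) (l := 1) rfl N1004 D4624
theorem N1513 : nd 1513 = n4625 := ndS (p := 1005) (l := 1) rfl N1005 D4625
theorem N1514 : nd 1514 = n4626 := ndS (p := 1006) (l := 0) rfl N1006 D4626
theorem N1515 : nd 1515 = n4627 := ndS (p := 1006) (l := 2) rfl N1006 D4627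
theorem N1516 : nd 1516 = n4628 := ndS (p := 1006) (l := 6) rfl N1006 D4628
theorem N1517 : nd 1517 = n4629 := ndS (p := 1007) (l := 1) rfl N1007 D4629
theorem N1518 : nd 1518 = n4630 := ndS (p := 1008) (l := 0) rfl N1008 D4630
theorem N1519 : nd 1519 = n4631 := ndS (p := 1008) (l := 2) rfl N1008 D4631
theorem N1520 : nd 1520 = n4632 := ndS (p := 1008) (l := 5) rfl N1008 D4632
theorem N1521 : nd 1521 = n4633 := ndS (p := 1009) (l := 1) rfl N1009 D4633
theorem N1522 : nd 1522 = n4634 := ndS (p := 1010) (l := 1) rfl N1010 D4634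
theorem N1523 : nd 1523 = n4635 := ndS (p := 1010) (l := 2) rfl N1010 D4635
theorem N1524 : nd 1524 = n4636 := ndS (p := 1010) (l := 6) rfl N1010 D4636
theorem N1525 : nd 1525 = n4637 := ndS (p := 1011) (l := 3) rfl N1011 D4637
theorem N1526 : nd 1526 = n4638 := ndS (p := 1011) (l := 6) rfl N1011 D4638
theorem N1527 : nd 1527 = n4639 := ndS (p := 1012) (l := 5) rfl N1012 D4639
theorem N1528 : nd 1528 = n4640 := ndS (p := 1013) (l := 1) rfl N1013 D4640
theorem N1529 : nd 1529 = n4641 := ndS (p := 1013) (l := 2) rfl N1013 D4641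
theorem N1530 : nd 1530 = n4642 := ndS (p := 1013) (l := 5) rfl N1013 D4642
theorem N1531 : nd 1531 = n4643 := ndS (p := 1014) (l := 3) rfl N1014 D4643
theorem N1532 : nd 1532 = n4644 := ndS (p := 1014) (l := 5) rfl N1014 D4644
theorem N1533 : nd 1533 = n4645 := ndS (p := 1015) (l := 6) rfl N1015 D4645
theorem N1534 : nd 1534 = n4650 := ndS (p := 1016) (l := 1) rfl N1016 D4650
theorem N1535 : nd 1535 = n4651 := ndS (p := 1016) (l := 3) rfl N1016 D4651
theorem N1536 : nd 1536 = n4652 := ndS (p := 1016) (l := 6) rfl N1016 D4652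
theorem N1537 : nd 1537 = n4654 := ndS (p := 1018) (l := 2) rfl N1018 D4654
theorem N1538 : nd 1538 = n4655 := ndS (p := 1018) (l := 4) rfl N1018 D4655
theorem N1539 : nd 1539 = n4656 := ndS (p := 1018) (l := 6) rfl N1018 D4656
theorem N1540 : nd 1540 = n4657 := ndS (p := 1019) (l := 1) rfl N1019 D4657
theorem N1541 : nd 1541 = n4664 := ndS (p := 1020) (l := 1) rfl N1020 D4664
theorem N1542 : nd 1542 = n4665 := ndS (p := 1020) (l := 3) rfl N1020 D4665
theorem N1543 : nd 1543 = n4666 := ndS (p := 1020) (l := 5) rfl N1020 D4666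
theorem N1544 : nd 1544 = n4668 := ndS (p := 1022) (l := 2) rfl N1022 D4668
theorem N1545 : nd 1545 = n4669 := ndS (p := 1022) (l := 4) rfl N1022 D4669
theorem N1546 : nd 1546 = n4670 := ndS (p := 1022) (l := 5) rfl N1022 D4670
theorem N1547 : nd 1547 = n4671 := ndS (p := 1023) (l := 1) rfl N1023 D4671
theorem N1548 : nd 1548 = n4684 := ndS (p := 1024) (l := 3) rfl N1024 D4684
theorem N1549 : nd 1549 = n4686 := ndS (p := 1025) (l := 2) rfl N1025 D4686
theorem N1550 : nd 1550 = n4687 := ndS (p := 1025) (l := 4) rfl N1025 D4687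
theorem N1551 : nd 1551 = n4688 := ndS (p := 1025) (l := 6) rfl N1025 D4688
theorem N1552 : nd 1552 = n4692 := ndS (p := 1027) (l := 1) rfl N1027 D4692
theorem N1553 : nd 1553 = n4693 := ndS (p := 1027) (l := 3) rfl N1027 D4693
theorem N1554 : nd 1554 = n4694 := ndS (p := 1027) (l := 4) rfl N1027 D4694
theorem N1555 : nd 1555 = n4695 := ndS (p := 1027) (l := 6) rfl N1027 D4695
theorem N1556 : nd 1556 = n4696 := ndS (p := 1028) (l := 6) rfl N1028 D4696
theorem N1557 : nd 1557 = n4697 := ndS (p := 1029) (l := 1) rfl N1029 D4697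
theorem N1558 : nd 1558 = n4699 := ndS (p := 1030) (l := 0) rfl N1030 D4699
theorem N1559 : nd 1559 = n4714 := ndS (p := 1031) (l := 3) rfl N1031 D4714
theorem N1560 : nd 1560 = n4717 := ndS (p := 1032) (l := 2) rfl N1032 D4717
theorem N1561 : nd 1561 = n4718 := ndS (p := 1032) (l := 4) rfl N1032 D4718
theorem N1562 : nd 1562 = n4719 := ndS (p := 1032) (l := 5) rfl N1032 D4719
theorem N1563 : nd 1563 = n4723 := ndS (p := 1034) (l := 1) rfl N1034 D4723
theorem N1564 : nd 1564 = n4724 := ndS (p := 1034) (l := 3) rfl N1034 D4724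
theorem N1565 : nd 1565 = n4725 := ndS (p := 1034) (l := 4) rfl N1034 D4725
theorem N1566 : nd 1566 = n4726 := ndS (p := 1034) (l := 5) rfl N1034 D4726
theorem N1567 : nd 1567 = n4727 := ndS (p := 1035) (l := 5) rfl N1035 D4727
theorem N1568 : nd 1568 = n4728 := ndS (p := 1036) (l := 1) rfl N1036 D4728
theorem N1569 : nd 1569 = n4730 := ndS (p := 1037) (l := 0) rfl N1037 D4730
theorem N1570 : nd 1570 = n4772 := ndS (p := 1039) (l := 1) rfl N1039 D4772
theorem N1571 : nd 1571 = n4832 := ndS (p := 1043) (l := 1) rfl N1043 D4832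
theorem N1572 : nd 1572 = n4861 := ndS (p := 1046) (l := 1) rfl N1046 D4861
theorem N1573 : nd 1573 = n4862 := ndS (p := 1046) (l := 4) rfl N1046 D4862
theorem N1574 : nd 1574 = n4863 := ndS (p := 1048) (l := 0) rfl N1048 D4863
theorem N1575 : nd 1575 = n4864 := ndS (p := 1048) (l := 4) rfl N1048 D4864
theorem N1576 : nd 1576 = n4865 := ndS (p := 1048) (l := 5) rfl N1048 D4865
theorem N1577 : nd 1577 = n4866 := ndS (p := 1048) (l := 6) rfl N1048 D4866
theorem N1578 : nd 1578 = n4867 := ndS (p := 1049) (l := 3) rfl N1049 D4867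
theorem N1579 : nd 1579 = n4868 := ndS (p := 1049) (l := 6) rfl N1049 D4868
theorem N1580 : nd 1580 = n4869 := ndS (p := 1050) (l := 1) rfl N1050 D4869
theorem N1581 : nd 1581 = n4870 := ndS (p := 1050) (l := 5) rfl N1050 D4870
theorem N1582 : nd 1582 = n4871 := ndS (p := 1051) (l := 1) rfl N1051 D4871
theorem N1583 : nd 1583 = n4872 := ndS (p := 1051) (l := 5) rfl N1051 D4872
theorem N1584 : nd 1584 = n4873 := ndS (p := 1052) (l := 0) rfl N1052 D4873
theorem N1585 : nd 1585 = n4874 := ndS (p := 1052) (l := 2) rfl N1052 D4874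
theorem N1586 : nd 1586 = n4875 := ndS (p := 1052) (l := 5) rfl N1052 D4875
theorem N1587 : nd 1587 = n4876 := ndS (p := 1053) (l := 1) rfl N1053 D4876
theorem N1588 : nd 1588 = n4877 := ndS (p := 1054) (l := 1) rfl N1054 D4877
theorem N1589 : nd 1589 = n4899 := ndS (p := 1057) (l := 1) rfl N1057 D4899
theorem N1590 : nd 1590 = n4900 := ndS (p := 1057) (l := 4) rfl N1057 D4900
theorem N1591 : nd 1591 = n4901 := ndS (p := 1059) (l := 0) rfl N1059 D4901
theorem N1592 : nd 1592 = n4902 := ndS (p := 1059) (l := 4) rfl N1059 D4902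
theorem N1593 : nd 1593 = n4903 := ndS (p := 1059) (l := 5) rfl N1059 D4903
theorem N1594 : nd 1594 = n4904 := ndS (p := 1059) (l := 6) rfl N1059 D4904
theorem N1595 : nd 1595 = n4905 := ndS (p := 1060) (l := 3) rfl N1060 D4905
theorem N1596 : nd 1596 = n4906 := ndS (p := 1060) (l := 5) rfl N1060 D4906
theorem N1597 : nd 1597 = n4907 := ndS (p := 1061) (l := 1) rfl N1061 D4907
theorem N1598 : nd 1598 = n4908 := ndS (p := 1061) (l := 6) rfl N1061 D4908
theorem N1599 : nd 1599 = n4909 := ndS (p := 1062) (l := 1) rfl N1062 D4909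
theorem N1600 : nd 1600 = n4910 := ndS (p := 1062) (l := 6) rfl N1062 D4910
theorem N1601 : nd 1601 = n4911 := ndS (p := 1063) (l := 0) rfl N1063 D4911
theorem N1602 : nd 1602 = n4912 := ndS (p := 1063) (l := 2) rfl N1063 D4912
theorem N1603 : nd 1603 = n4913 := ndS (p := 1063) (l := 6) rfl N1063 D4913
theorem N1604 : nd 1604 = n4914 := ndS (p := 1064) (l := 1) rfl N1064 D4914
theorem N1605 : nd 1605 = n4915 := ndS (p := 1065) (l := 1) rfl N1065 D4915
theorem N1606 : nd 1606 = n4950 := ndS (p := 1068) (l := 0) rfl N1068 D4950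
theorem N1607 : nd 1607 = n4951 := ndS (p := 1068) (l := 2) rfl N1068 D4951
theorem N1608 : nd 1608 = n5051 := ndS (p := 1076) (l := 3) rfl N1076 D5051
theorem N1609 : nd 1609 = n5053 := ndS (p := 1077) (l := 2) rfl N1077 D5053
theorem N1610 : nd 1610 = n5054 := ndS (p := 1077) (l := 6) rfl N1077 D5054
theorem N1611 : nd 1611 = n5055 := ndS (p := 1079) (l := 2) rfl N1079 D5055
theorem N1612 : nd 1612 = n5056 := ndS (p := 1080) (l := 1) rfl N1080 D5056
theorem N1613 : nd 1613 = n5086 := ndS (p := 1081) (l := 3) rfl N1081 D5086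
theorem N1614 : nd 1614 = n5092 := ndS (p := 1082) (l := 2) rfl N1082 D5092
theorem N1615 : nd 1615 = n5093 := ndS (p := 1082) (l := 5) rfl N1082 D5093
theorem N1616 : nd 1616 = n5103 := ndS (p := 1084) (l := 2) rfl N1084 D5103
theorem N1617 : nd 1617 = n5109 := ndS (p := 1085) (l := 1) rfl N1085 D5109
theorem N1618 : nd 1618 = n5140 := ndS (p := 1086) (l := 0) rfl N1086 D5140
theorem N1619 : nd 1619 = n5141 := ndS (p := 1086) (l := 2) rfl N1086 D5141
theorem N1620 : nd 1620 = n5142 := ndS (p := 1086) (l := 3) rfl N1086 D5142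
theorem N1621 : nd 1621 = n5143 := ndS (p := 1086) (l := 5) rfl N1086 D5143
theorem N1622 : nd 1622 = n5144 := ndS (p := 1086) (l := 6) rfl N1086 D5144
theorem N1623 : nd 1623 = n5145 := ndS (p := 1087) (l := 2) rfl N1087 D5145
theorem N1624 : nd 1624 = n5146 := ndS (p := 1087) (l := 5) rfl N1087 D5146
theorem N1625 : nd 1625 = n5147 := ndS (p := 1087) (l := 6) rfl N1087 D5147
theorem N1626 : nd 1626 = n5148 := ndS (p := 1088) (l := 1) rfl N1088 D5148
theorem N1627 : nd 1627 = n5149 := ndS (p := 1089) (l := 1) rfl N1089 D5149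
theorem N1628 : nd 1628 = n5150 := ndS (p := 1090) (l := 3) rfl N1090 D5150
theorem N1629 : nd 1629 = n5151 := ndS (p := 1090) (l := 5) rfl N1090 D5151
theorem N1630 : nd 1630 = n5152 := ndS (p := 1090) (l := 6) rfl N1090 D5152
theorem N1631 : nd 1631 = n5153 := ndS (p := 1091) (l := 1) rfl N1091 D5153
theorem N1632 : nd 1632 = n5154 := ndS (p := 1091) (l := 6) rfl N1091 D5154
theorem N1633 : nd 1633 = n5155 := ndS (p := 1092) (l := 1) rfl N1092 D5155
theorem N1634 : nd 1634 = n5156 := ndS (p := 1092) (l := 5) rfl N1092 D5156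
theorem N1635 : nd 1635 = n5157 := ndS (p := 1093) (l := 0) rfl N1093 D5157
theorem N1636 : nd 1636 = n5158 := ndS (p := 1093) (l := 2) rfl N1093 D5158
theorem N1637 : nd 1637 = n5159 := ndS (p := 1093) (l := 6) rfl N1093 D5159
theorem N1638 : nd 1638 = n5160 := ndS (p := 1094) (l := 1) rfl N1094 D5160
theorem N1639 : nd 1639 = n5161 := ndS (p := 1095) (l := 0) rfl N1095 D5161
theorem N1640 : nd 1640 = n5162 := ndS (p := 1095) (l := 2) rfl N1095 D5162
theorem N1641 : nd 1641 = n5163 := ndS (p := 1095) (l := 5) rfl N1095 D5163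
theorem N1642 : nd 1642 = n5164 := ndS (p := 1096) (l := 1) rfl N1096 D5164
theorem N1643 : nd 1643 = n5165 := ndS (p := 1097) (l := 0) rfl N1097 D5165
theorem N1644 : nd 1644 = n5166 := ndS (p := 1097) (l := 2) rfl N1097 D5166
theorem N1645 : nd 1645 = n5167 := ndS (p := 1097) (l := 6) rfl N1097 D5167
theorem N1646 : nd 1646 = n5168 := ndS (p := 1098) (l := 1) rfl N1098 D5168
theorem N1647 : nd 1647 = n5169 := ndS (p := 1099) (l := 0) rfl N1099 D5169
theorem N1648 : nd 1648 = n5170 := ndS (p := 1099) (l := 2) rfl N1099 D5170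
theorem N1649 : nd 1649 = n5171 := ndS (p := 1099) (l := 5) rfl N1099 D5171
theorem N1650 : nd 1650 = n5172 := ndS (p := 1100) (l := 1) rfl N1100 D5172
theorem N1651 : nd 1651 = n5173 := ndS (p := 1101) (l := 1) rfl N1101 D5173
theorem N1652 : nd 1652 = n5174 := ndS (p := 1101) (l := 2) rfl N1101 D5174
theorem N1653 : nd 1653 = n5175 := ndS (p := 1101) (l := 6) rfl N1101 D5175
theorem N1654 : nd 1654 = n5176 := ndS (p := 1102) (l := 3) rfl N1102 D5176
theorem N1655 : nd 1655 = n5177 := ndS (p := 1102) (l := 6) rfl N1102 D5177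
theorem N1656 : nd 1656 = n5178 := ndS (p := 1103) (l := 1) rfl N1103 D5178
theorem N1657 : nd 1657 = n5179 := ndS (p := 1103) (l := 5) rfl N1103 D5179
theorem N1658 : nd 1658 = n5180 := ndS (p := 1104) (l := 0) rfl N1104 D5180
theorem N1659 : nd 1659 = n5181 := ndS (p := 1104) (l := 2) rfl N1104 D5181
theorem N1660 : nd 1660 = n5182 := ndS (p := 1104) (l := 5) rfl N1104 D5182
theorem N1661 : nd 1661 = n5183 := ndS (p := 1105) (l := 1) rfl N1105 D5183
theorem N1662 : nd 1662 = n5184 := ndS (p := 1105) (l := 2) rfl N1105 D5184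
theorem N1663 : nd 1663 = n5185 := ndS (p := 1105) (l := 5) rfl N1105 D5185
theorem N1664 : nd 1664 = n5186 := ndS (p := 1106) (l := 3) rfl N1106 D5186
theorem N1665 : nd 1665 = n5187 := ndS (p := 1106) (l := 5) rfl N1106 D5187
theorem N1666 : nd 1666 = n5188 := ndS (p := 1107) (l := 1) rfl N1107 D5188
theorem N1667 : nd 1667 = n5189 := ndS (p := 1107) (l := 6) rfl N1107 D5189
theorem N1668 : nd 1668 = n5190 := ndS (p := 1108) (l := 0) rfl N1108 D5190
theorem N1669 : nd 1669 = n5191 := ndS (p := 1108) (l := 2) rfl N1108 D5191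
theorem N1670 : nd 1670 = n5192 := ndS (p := 1108) (l := 6) rfl N1108 D5192
theorem N1671 : nd 1671 = n5201 := ndS (p := 1109) (l := 2) rfl N1109 D5201
theorem N1672 : nd 1672 = n5202 := ndS (p := 1109) (l := 4) rfl N1109 D5202
theorem N1673 : nd 1673 = n5204 := ndS (p := 1110) (l := 1) rfl N1110 D5204
theorem N1674 : nd 1674 = n5208 := ndS (p := 1111) (l := 1) rfl N1111 D5208
theorem N1675 : nd 1675 = n5209 := ndS (p := 1111) (l := 2) rfl N1111 D5209
theorem N1676 : nd 1676 = n5211 := ndS (p := 1112) (l := 3) rfl N1112 D5211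
theorem N1677 : nd 1677 = n5222 := ndS (p := 1113) (l := 2) rfl N1113 D5222
theorem N1678 : nd 1678 = n5223 := ndS (p := 1113) (l := 4) rfl N1113 D5223
theorem N1679 : nd 1679 = n5225 := ndS (p := 1114) (l := 1) rfl N1114 D5225
theorem N1680 : nd 1680 = n5229 := ndS (p := 1115) (l := 1) rfl N1115 D5229
theorem N1681 : nd 1681 = n5230 := ndS (p := 1115) (l := 2) rfl N1115 D5230
theorem N1682 : nd 1682 = n5232 := ndS (p := 1116) (l := 3) rfl N1116 D5232
theorem N1683 : nd 1683 = n5269 := ndS (p := 1117) (l := 0) rfl N1117 D5269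
theorem N1684 : nd 1684 = n5270 := ndS (p := 1117) (l := 2) rfl N1117 D5270
theorem N1685 : nd 1685 = n5317 := ndS (p := 1118) (l := 0) rfl N1118 D5317
theorem N1686 : nd 1686 = n5318 := ndS (p := 1118) (l := 2) rfl N1118 D5318
theorem N1687 : nd 1687 = n5387 := ndS (p := 1119) (l := 2) rfl N1119 D5387
theorem N1688 : nd 1688 = n5469 := ndS (p := 1121) (l := 2) rfl N1121 D5469
theorem N1689 : nd 1689 = n5493 := ndS (p := 1123) (l := 2) rfl N1123 D5493
theorem N1690 : nd 1690 = n5494 := ndS (p := 1123) (l := 5) rfl N1123 D5494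
theorem N1691 : nd 1691 = n5495 := ndS (p := 1123) (l := 6) rfl N1123 D5495
theorem N1692 : nd 1692 = n5496 := ndS (p := 1124) (l := 3) rfl N1124 D5496
theorem N1693 : nd 1693 = n5497 := ndS (p := 1124) (l := 5) rfl N1124 D5497
theorem N1694 : nd 1694 = n5498 := ndS (p := 1124) (l := 6) rfl N1124 D5498
theorem N1695 : nd 1695 = n5499 := ndS (p := 1125) (l := 1) rfl N1125 D5499
theorem N1696 : nd 1696 = n5500 := ndS (p := 1125) (l := 6) rfl N1125 D5500
theorem N1697 : nd 1697 = n5501 := ndS (p := 1126) (l := 1) rfl N1126 D5501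
theorem N1698 : nd 1698 = n5502 := ndS (p := 1126) (l := 5) rfl N1126 D5502
theorem N1699 : nd 1699 = n5503 := ndS (p := 1127) (l := 0) rfl N1127 D5503
theorem N1700 : nd 1700 = n5504 := ndS (p := 1127) (l := 2) rfl N1127 D5504
theorem N1701 : nd 1701 = n5505 := ndS (p := 1127) (l := 6) rfl N1127 D5505
theorem N1702 : nd 1702 = n5506 := ndS (p := 1128) (l := 0) rfl N1128 D5506
theorem N1703 : nd 1703 = n5507 := ndS (p := 1128) (l := 2) rfl N1128 D5507
theorem N1704 : nd 1704 = n5508 := ndS (p := 1128) (l := 5) rfl N1128 D5508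
theorem N1705 : nd 1705 = n5509 := ndS (p := 1129) (l := 1) rfl N1129 D5509
theorem N1706 : nd 1706 = n5510 := ndS (p := 1129) (l := 2) rfl N1129 D5510
theorem N1707 : nd 1707 = n5511 := ndS (p := 1130) (l := 3) rfl N1130 D5511
theorem N1708 : nd 1708 = n5512 := ndS (p := 1130) (l := 6) rfl N1130 D5512
theorem N1709 : nd 1709 = n5513 := ndS (p := 1131) (l := 1) rfl N1131 D5513
theorem N1710 : nd 1710 = n5514 := ndS (p := 1132) (l := 0) rfl N1132 D5514
theorem N1711 : nd 1711 = n5515 := ndS (p := 1132) (l := 2) rfl N1132 D5515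
theorem N1712 : nd 1712 = n5516 := ndS (p := 1132) (l := 5) rfl N1132 D5516
theorem N1713 : nd 1713 = n5517 := ndS (p := 1133) (l := 1) rfl N1133 D5517
theorem N1714 : nd 1714 = n5518 := ndS (p := 1133) (l := 2) rfl N1133 D5518
theorem N1715 : nd 1715 = n5519 := ndS (p := 1134) (l := 3) rfl N1134 D5519
theorem N1716 : nd 1716 = n5520 := ndS (p := 1134) (l := 5) rfl N1134 D5520
theorem N1717 : nd 1717 = n5521 := ndS (p := 1135) (l := 1) rfl N1135 D5521
theorem N1718 : nd 1718 = n5522 := ndS (p := 1136) (l := 0) rfl N1136 D5522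
theorem N1719 : nd 1719 = n5523 := ndS (p := 1136) (l := 2) rfl N1136 D5523
theorem N1720 : nd 1720 = n5524 := ndS (p := 1136) (l := 6) rfl N1136 D5524
theorem N1721 : nd 1721 = n5525 := ndS (p := 1137) (l := 0) rfl N1137 D5525
theorem N1722 : nd 1722 = n5526 := ndS (p := 1137) (l := 2) rfl N1137 D5526
theorem N1723 : nd 1723 = n5527 := ndS (p := 1137) (l := 5) rfl N1137 D5527
theorem N1724 : nd 1724 = n5528 := ndS (p := 1137) (l := 6) rfl N1137 D5528
theorem N1725 : nd 1725 = n5529 := ndS (p := 1138) (l := 1) rfl N1138 D5529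
theorem N1726 : nd 1726 = n5530 := ndS (p := 1138) (l := 3) rfl N1138 D5530
theorem N1727 : nd 1727 = n5531 := ndS (p := 1138) (l := 6) rfl N1138 D5531
theorem N1728 : nd 1728 = n5532 := ndS (p := 1139) (l := 1) rfl N1139 D5532
theorem N1729 : nd 1729 = n5533 := ndS (p := 1140) (l := 2) rfl N1140 D5533
theorem N1730 : nd 1730 = n5534 := ndS (p := 1140) (l := 4) rfl N1140 D5534
theorem N1731 : nd 1731 = n5535 := ndS (p := 1140) (l := 6) rfl N1140 D5535
theorem N1732 : nd 1732 = n5536 := ndS (p := 1141) (l := 1) rfl N1141 D5536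
theorem N1733 : nd 1733 = n5537 := ndS (p := 1141) (l := 5) rfl N1141 D5537
theorem N1734 : nd 1734 = n5538 := ndS (p := 1142) (l := 0) rfl N1142 D5538
theorem N1735 : nd 1735 = n5539 := ndS (p := 1142) (l := 2) rfl N1142 D5539
theorem N1736 : nd 1736 = n5540 := ndS (p := 1142) (l := 5) rfl N1142 D5540
theorem N1737 : nd 1737 = n5541 := ndS (p := 1143) (l := 1) rfl N1143 D5541
theorem N1738 : nd 1738 = n5542 := ndS (p := 1144) (l := 1) rfl N1144 D5542
theorem N1739 : nd 1739 = n5543 := ndS (p := 1144) (l := 2) rfl N1144 D5543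
theorem N1740 : nd 1740 = n5544 := ndS (p := 1144) (l := 5) rfl N1144 D5544
theorem N1741 : nd 1741 = n5545 := ndS (p := 1145) (l := 3) rfl N1145 D5545
theorem N1742 : nd 1742 = n5546 := ndS (p := 1145) (l := 5) rfl N1145 D5546
theorem N1743 : nd 1743 = n5547 := ndS (p := 1146) (l := 6) rfl N1146 D5547
theorem N1744 : nd 1744 = n5548 := ndS (p := 1147) (l := 0) rfl N1147 D5548
theorem N1745 : nd 1745 = n5549 := ndS (p := 1147) (l := 2) rfl N1147 D5549
theorem N1746 : nd 1746 = n5550 := ndS (p := 1147) (l := 5) rfl N1147 D5550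
theorem N1747 : nd 1747 = n5551 := ndS (p := 1147) (l := 6) rfl N1147 D5551
theorem N1748 : nd 1748 = n5552 := ndS (p := 1148) (l := 1) rfl N1148 D5552
theorem N1749 : nd 1749 = n5553 := ndS (p := 1148) (l := 3) rfl N1148 D5553
theorem N1750 : nd 1750 = n5554 := ndS (p := 1148) (l := 5) rfl N1148 D5554
theorem N1751 : nd 1751 = n5555 := ndS (p := 1149) (l := 1) rfl N1149 D5555
theorem N1752 : nd 1752 = n5556 := ndS (p := 1150) (l := 2) rfl N1150 D5556
theorem N1753 : nd 1753 = n5557 := ndS (p := 1150) (l := 4) rfl N1150 D5557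
theorem N1754 : nd 1754 = n5558 := ndS (p := 1150) (l := 5) rfl N1150 D5558
theorem N1755 : nd 1755 = n5559 := ndS (p := 1151) (l := 1) rfl N1151 D5559
theorem N1756 : nd 1756 = n5560 := ndS (p := 1151) (l := 6) rfl N1151 D5560
theorem N1757 : nd 1757 = n5561 := ndS (p := 1152) (l := 0) rfl N1152 D5561
theorem N1758 : nd 1758 = n5562 := ndS (p := 1152) (l := 2) rfl N1152 D5562
theorem N1759 : nd 1759 = n5563 := ndS (p := 1152) (l := 6) rfl N1152 D5563
theorem N1760 : nd 1760 = n5564 := ndS (p := 1153) (l := 1) rfl N1153 D5564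
theorem N1761 : nd 1761 = n5565 := ndS (p := 1154) (l := 1) rfl N1154 D5565
theorem N1762 : nd 1762 = n5566 := ndS (p := 1154) (l := 2) rfl N1154 D5566
theorem N1763 : nd 1763 = n5567 := ndS (p := 1154) (l := 6) rfl N1154 D5567
theorem N1764 : nd 1764 = n5568 := ndS (p := 1155) (l := 3) rfl N1155 D5568
theorem N1765 : nd 1765 = n5569 := ndS (p := 1155) (l := 6) rfl N1155 D5569
theorem N1766 : nd 1766 = n5570 := ndS (p := 1156) (l := 5) rfl N1156 D5570
theorem N1767 : nd 1767 = n5591 := ndS (p := 1157) (l := 6) rfl N1157 D5591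
theorem N1768 : nd 1768 = n5592 := ndS (p := 1158) (l := 1) rfl N1158 D5592
theorem N1769 : nd 1769 = n5593 := ndS (p := 1159) (l := 0) rfl N1159 D5593
theorem N1770 : nd 1770 = n5594 := ndS (p := 1159) (l := 2) rfl N1159 D5594
theorem N1771 : nd 1771 = n5595 := ndS (p := 1159) (l := 5) rfl N1159 D5595
theorem N1772 : nd 1772 = n5598 := ndS (p := 1160) (l := 3) rfl N1160 D5598
theorem N1773 : nd 1773 = n5600 := ndS (p := 1161) (l := 0) rfl N1161 D5600
theorem N1774 : nd 1774 = n5601 := ndS (p := 1161) (l := 2) rfl N1161 D5601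
theorem N1775 : nd 1775 = n5604 := ndS (p := 1162) (l := 1) rfl N1162 D5604
theorem N1776 : nd 1776 = n5605 := ndS (p := 1162) (l := 3) rfl N1162 D5605
theorem N1777 : nd 1777 = n5608 := ndS (p := 1163) (l := 2) rfl N1163 D5608
theorem N1778 : nd 1778 = n5609 := ndS (p := 1163) (l := 4) rfl N1163 D5609
theorem N1779 : nd 1779 = n5634 := ndS (p := 1164) (l := 5) rfl N1164 D5634
theorem N1780 : nd 1780 = n5635 := ndS (p := 1165) (l := 1) rfl N1165 D5635
theorem N1781 : nd 1781 = n5636 := ndS (p := 1166) (l := 0) rfl N1166 D5636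
theorem N1782 : nd 1782 = n5637 := ndS (p := 1166) (l := 2) rfl N1166 D5637
theorem N1783 : nd 1783 = n5638 := ndS (p := 1166) (l := 6) rfl N1166 D5638
theorem N1784 : nd 1784 = n5641 := ndS (p := 1167) (l := 3) rfl N1167 D5641
theorem N1785 : nd 1785 = n5643 := ndS (p := 1168) (l := 0) rfl N1168 D5643
theorem N1786 : nd 1786 = n5644 := ndS (p := 1168) (l := 2) rfl N1168 D5644
theorem N1787 : nd 1787 = n5647 := ndS (p := 1169) (l := 1) rfl N1169 D5647
theorem N1788 : nd 1788 = n5648 := ndS (p := 1169) (l := 3) rfl N1169 D5648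
theorem N1789 : nd 1789 = n5651 := ndS (p := 1170) (l := 2) rfl N1170 D5651
theorem N1790 : nd 1790 = n5652 := ndS (p := 1170) (l := 4) rfl N1170 D5652
theorem N1791 : nd 1791 = n5684 := ndS (p := 1171) (l := 2) rfl N1171 D5684
theorem N1792 : nd 1792 = n5685 := ndS (p := 1171) (l := 4) rfl N1171 D5685
theorem N1793 : nd 1793 = n5688 := ndS (p := 1172) (l := 2) rfl N1172 D5688
theorem N1794 : nd 1794 = n5690 := ndS (p := 1173) (l := 1) rfl N1173 D5690
theorem N1795 : nd 1795 = n5691 := ndS (p := 1173) (l := 3) rfl N1173 D5691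
theorem N1796 : nd 1796 = n5694 := ndS (p := 1174) (l := 0) rfl N1174 D5694
theorem N1797 : nd 1797 = n5695 := ndS (p := 1174) (l := 3) rfl N1174 D5695
theorem N1798 : nd 1798 = n5697 := ndS (p := 1174) (l := 6) rfl N1174 D5697
theorem N1799 : nd 1799 = n5698 := ndS (p := 1175) (l := 2) rfl N1175 D5698
theorem N1800 : nd 1800 = n5699 := ndS (p := 1175) (l := 4) rfl N1175 D5699
theorem N1801 : nd 1801 = n5703 := ndS (p := 1176) (l := 1) rfl N1176 D5703
theorem N1802 : nd 1802 = n5704 := ndS (p := 1176) (l := 3) rfl N1176 D5704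
theorem N1803 : nd 1803 = n5705 := ndS (p := 1176) (l := 4) rfl N1176 D5705
theorem N1804 : nd 1804 = n5739 := ndS (p := 1178) (l := 2) rfl N1178 D5739
theorem N1805 : nd 1805 = n5740 := ndS (p := 1178) (l := 4) rfl N1178 D5740
theorem N1806 : nd 1806 = n5743 := ndS (p := 1179) (l := 2) rfl N1179 D5743
theorem N1807 : nd 1807 = n5745 := ndS (p := 1180) (l := 1) rfl N1180 D5745
theorem N1808 : nd 1808 = n5746 := ndS (p := 1180) (l := 3) rfl N1180 D5746
theorem N1809 : nd 1809 = n5749 := ndS (p := 1181) (l := 0) rfl N1181 D5749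
theorem N1810 : nd 1810 = n5750 := ndS (p := 1181) (l := 3) rfl N1181 D5750
theorem N1811 : nd 1811 = n5751 := ndS (p := 1181) (l := 5) rfl N1181 D5751
theorem N1812 : nd 1812 = n5753 := ndS (p := 1182) (l := 2) rfl N1182 D5753
theorem N1813 : nd 1813 = n5754 := ndS (p := 1182) (l := 4) rfl N1182 D5754
theorem N1814 : nd 1814 = n5758 := ndS (p := 1183) (l := 1) rfl N1183 D5758
theorem N1815 : nd 1815 = n5759 := ndS (p := 1183) (l := 3) rfl N1183 D5759
theorem N1816 : nd 1816 = n5760 := ndS (p := 1183) (l := 4) rfl N1183 D5760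
theorem N1817 : nd 1817 = n5829 := ndS (p := 1188) (l := 4) rfl N1188 D5829
theorem N1818 : nd 1818 = n5934 := ndS (p := 1195) (l := 4) rfl N1195 D5934
theorem N1819 : nd 1819 = n5993 := ndS (p := 1199) (l := 1) rfl N1199 D5993
theorem N1820 : nd 1820 = n5995 := ndS (p := 1199) (l := 5) rfl N1199 D5995
theorem N1821 : nd 1821 = n5997 := ndS (p := 1200) (l := 1) rfl N1200 D5997
theorem N1822 : nd 1822 = n6000 := ndS (p := 1202) (l := 0) rfl N1202 D6000
theorem N1823 : nd 1823 = n6002 := ndS (p := 1202) (l := 5) rfl N1202 D6002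
theorem N1824 : nd 1824 = n6003 := ndS (p := 1202) (l := 6) rfl N1202 D6003
theorem N1825 : nd 1825 = n6006 := ndS (p := 1203) (l := 1) rfl N1203 D6006
theorem N1826 : nd 1826 = n6008 := ndS (p := 1204) (l := 0) rfl N1204 D6008
theorem N1827 : nd 1827 = n6009 := ndS (p := 1204) (l := 2) rfl N1204 D6009
theorem N1828 : nd 1828 = n6010 := ndS (p := 1204) (l := 6) rfl N1204 D6010
theorem N1829 : nd 1829 = n6011 := ndS (p := 1205) (l := 1) rfl N1205 D6011
theorem N1830 : nd 1830 = n6025 := ndS (p := 1207) (l := 1) rfl N1207 D6025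
theorem N1831 : nd 1831 = n6027 := ndS (p := 1207) (l := 6) rfl N1207 D6027
theorem N1832 : nd 1832 = n6029 := ndS (p := 1208) (l := 1) rfl N1208 D6029
theorem N1833 : nd 1833 = n6032 := ndS (p := 1210) (l := 0) rfl N1210 D6032
theorem N1834 : nd 1834 = n6034 := ndS (p := 1210) (l := 5) rfl N1210 D6034
theorem N1835 : nd 1835 = n6035 := ndS (p := 1210) (l := 6) rfl N1210 D6035
theorem N1836 : nd 1836 = n6038 := ndS (p := 1211) (l := 1) rfl N1211 D6038
theorem N1837 : nd 1837 = n6040 := ndS (p := 1212) (l := 0) rfl N1212 D6040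
theorem N1838 : nd 1838 = n6041 := ndS (p := 1212) (l := 2) rfl N1212 D6041
theorem N1839 : nd 1839 = n6042 := ndS (p := 1212) (l := 5) rfl N1212 D6042
theorem N1840 : nd 1840 = n6043 := ndS (p := 1213) (l := 1) rfl N1213 D6043
theorem N1841 : nd 1841 = n6705 := ndS (p := 1217) (l := 1) rfl N1217 D6705
theorem N1842 : nd 1842 = n6737 := ndS (p := 1218) (l := 0) rfl N1218 D6737
theorem N1843 : nd 1843 = n6738 := ndS (p := 1218) (l := 3) rfl N1218 D6738
theorem N1844 : nd 1844 = n6739 := ndS (p := 1218) (l := 5) rfl N1218 D6739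
theorem N1845 : nd 1845 = n6740 := ndS (p := 1218) (l := 6) rfl N1218 D6740
theorem N1846 : nd 1846 = n6803 := ndS (p := 1220) (l := 0) rfl N1220 D6803
theorem N1847 : nd 1847 = n6804 := ndS (p := 1220) (l := 3) rfl N1220 D6804
theorem N1848 : nd 1848 = n6805 := ndS (p := 1220) (l := 5) rfl N1220 D6805
theorem N1849 : nd 1849 = n6806 := ndS (p := 1220) (l := 6) rfl N1220 D6806
theorem N1850 : nd 1850 = n6807 := ndS (p := 1221) (l := 5) rfl N1221 D6807
theorem N1851 : nd 1851 = n6808 := ndS (p := 1221) (l := 6) rfl N1221 D6808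
theorem N1852 : nd 1852 = n6809 := ndS (p := 1222) (l := 1) rfl N1222 D6809
theorem N1853 : nd 1853 = n6810 := ndS (p := 1223) (l := 1) rfl N1223 D6810
theorem N1854 : nd 1854 = n6857 := ndS (p := 1224) (l := 1) rfl N1224 D6857
theorem N1855 : nd 1855 = n6858 := ndS (p := 1224) (l := 5) rfl N1224 D6858
theorem N1856 : nd 1856 = n6859 := ndS (p := 1224) (l := 6) rfl N1224 D6859
theorem N1857 : nd 1857 = n6860 := ndS (p := 1225) (l := 1) rfl N1225 D6860
theorem N1858 : nd 1858 = n6861 := ndS (p := 1225) (l := 6) rfl N1225 D6861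
theorem N1859 : nd 1859 = n6862 := ndS (p := 1226) (l := 1) rfl N1226 D6862
theorem N1860 : nd 1860 = n6863 := ndS (p := 1226) (l := 5) rfl N1226 D6863
theorem N1861 : nd 1861 = n6864 := ndS (p := 1227) (l := 0) rfl N1227 D6864
theorem N1862 : nd 1862 = n6866 := ndS (p := 1227) (l := 6) rfl N1227 D6866
theorem N1863 : nd 1863 = n6867 := ndS (p := 1228) (l := 0) rfl N1228 D6867
theorem N1864 : nd 1864 = n6869 := ndS (p := 1228) (l := 5) rfl N1228 D6869
theorem N1865 : nd 1865 = n7595 := ndS (p := 1229) (l := 1) rfl N1229 D7595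
theorem N1866 : nd 1866 = n7597 := ndS (p := 1229) (l := 5) rfl N1229 D7597
theorem N1867 : nd 1867 = n7598 := ndS (p := 1229) (l := 6) rfl N1229 D7598
theorem N1868 : nd 1868 = n7599 := ndS (p := 1230) (l := 1) rfl N1230 D7599
theorem N1869 : nd 1869 = n7600 := ndS (p := 1231) (l := 1) rfl N1231 D7600
theorem N1870 : nd 1870 = n7619 := ndS (p := 1234) (l := 0) rfl N1234 D7619
theorem N1871 : nd 1871 = n7620 := ndS (p := 1234) (l := 5) rfl N1234 D7620
theorem N1872 : nd 1872 = n7621 := ndS (p := 1234) (l := 6) rfl N1234 D7621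
theorem N1873 : nd 1873 = n7622 := ndS (p := 1235) (l := 1) rfl N1235 D7622
theorem N1874 : nd 1874 = n7623 := ndS (p := 1236) (l := 1) rfl N1236 D7623
theorem N1875 : nd 1875 = n7625 := ndS (p := 1237) (l := 2) rfl N1237 D7625
theorem N1876 : nd 1876 = n7628 := ndS (p := 1238) (l := 2) rfl N1238 D7628
theorem N1877 : nd 1877 = n7660 := ndS (p := 1239) (l := 0) rfl N1239 D7660
theorem N1878 : nd 1878 = n7661 := ndS (p := 1239) (l := 3) rfl N1239 D7661
theorem N1879 : nd 1879 = n7662 := ndS (p := 1239) (l := 5) rfl N1239 D7662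
theorem N1880 : nd 1880 = n7663 := ndS (p := 1239) (l := 6) rfl N1239 D7663
theorem N1881 : nd 1881 = n7665 := ndS (p := 1240) (l := 5) rfl N1240 D7665
theorem N1882 : nd 1882 = n7666 := ndS (p := 1240) (l := 6) rfl N1240 D7666
theorem N1883 : nd 1883 = n7667 := ndS (p := 1241) (l := 1) rfl N1241 D7667
theorem N1884 : nd 1884 = n7668 := ndS (p := 1241) (l := 6) rfl N1241 D7668
theorem N1885 : nd 1885 = n7669 := ndS (p := 1242) (l := 1) rfl N1242 D7669
theorem N1886 : nd 1886 = n7670 := ndS (p := 1242) (l := 5) rfl N1242 D7670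
theorem N1887 : nd 1887 = n7672 := ndS (p := 1243) (l := 2) rfl N1243 D7672
theorem N1888 : nd 1888 = n7673 := ndS (p := 1243) (l := 6) rfl N1243 D7673
theorem N1889 : nd 1889 = n7674 := ndS (p := 1244) (l := 1) rfl N1244 D7674
theorem N1890 : nd 1890 = n7676 := ndS (p := 1245) (l := 2) rfl N1245 D7676
theorem N1891 : nd 1891 = n7677 := ndS (p := 1245) (l := 5) rfl N1245 D7677
theorem N1892 : nd 1892 = n7678 := ndS (p := 1246) (l := 1) rfl N1246 D7678
theorem N1893 : nd 1893 = n7733 := ndS (p := 1251) (l := 1) rfl N1251 D7733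
theorem N1894 : nd 1894 = n7734 := ndS (p := 1251) (l := 3) rfl N1251 D7734
theorem N1895 : nd 1895 = n7735 := ndS (p := 1251) (l := 5) rfl N1251 D7735
theorem N1896 : nd 1896 = n7736 := ndS (p := 1251) (l := 6) rfl N1251 D7736
theorem N1897 : nd 1897 = n7737 := ndS (p := 1252) (l := 2) rfl N1252 D7737
theorem N1898 : nd 1898 = n7738 := ndS (p := 1252) (l := 4) rfl N1252 D7738
theorem N1899 : nd 1899 = n7739 := ndS (p := 1252) (l := 5) rfl N1252 D7739
theorem N1900 : nd 1900 = n7740 := ndS (p := 1252) (l := 6) rfl N1252 D7740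
theorem N1901 : nd 1901 = n7741 := ndS (p := 1253) (l := 1) rfl N1253 D7741
theorem N1902 : nd 1902 = n7742 := ndS (p := 1253) (l := 6) rfl N1253 D7742
theorem N1903 : nd 1903 = n7743 := ndS (p := 1254) (l := 1) rfl N1254 D7743
theorem N1904 : nd 1904 = n7744 := ndS (p := 1254) (l := 5) rfl N1254 D7744
theorem N1905 : nd 1905 = n7745 := ndS (p := 1255) (l := 5) rfl N1255 D7745
theorem N1906 : nd 1906 = n7746 := ndS (p := 1255) (l := 6) rfl N1255 D7746
theorem N1907 : nd 1907 = n7747 := ndS (p := 1256) (l := 1) rfl N1256 D7747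
theorem N1908 : nd 1908 = n7748 := ndS (p := 1256) (l := 6) rfl N1256 D7748
theorem N1909 : nd 1909 = n7749 := ndS (p := 1257) (l := 1) rfl N1257 D7749
theorem N1910 : nd 1910 = n7750 := ndS (p := 1257) (l := 5) rfl N1257 D7750
theorem N1911 : nd 1911 = n7751 := ndS (p := 1258) (l := 0) rfl N1258 D7751
theorem N1912 : nd 1912 = n7752 := ndS (p := 1258) (l := 2) rfl N1258 D7752
theorem N1913 : nd 1913 = n7753 := ndS (p := 1258) (l := 6) rfl N1258 D7753
theorem N1914 : nd 1914 = n7754 := ndS (p := 1259) (l := 1) rfl N1259 D7754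
theorem N1915 : nd 1915 = n7755 := ndS (p := 1260) (l := 0) rfl N1260 D7755
theorem N1916 : nd 1916 = n7756 := ndS (p := 1260) (l := 2) rfl N1260 D7756
theorem N1917 : nd 1917 = n7757 := ndS (p := 1260) (l := 5) rfl N1260 D7757
theorem N1918 : nd 1918 = n7758 := ndS (p := 1261) (l := 1) rfl N1261 D7758
theorem N1919 : nd 1919 = n7760 := ndS (p := 1262) (l := 2) rfl N1262 D7760
theorem N1920 : nd 1920 = n7761 := ndS (p := 1263) (l := 3) rfl N1263 D7761
theorem N1921 : nd 1921 = n7762 := ndS (p := 1263) (l := 6) rfl N1263 D7762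
theorem N1922 : nd 1922 = n7765 := ndS (p := 1265) (l := 2) rfl N1265 D7765
theorem N1923 : nd 1923 = n7768 := ndS (p := 1266) (l := 2) rfl N1266 D7768
theorem N1924 : nd 1924 = n7769 := ndS (p := 1267) (l := 3) rfl N1267 D7769
theorem N1925 : nd 1925 = n7770 := ndS (p := 1267) (l := 5) rfl N1267 D7770
theorem N1926 : nd 1926 = n7773 := ndS (p := 1269) (l := 2) rfl N1269 D7773
theorem N1927 : nd 1927 = n7779 := ndS (p := 1270) (l := 1) rfl N1270 D7779
theorem N1928 : nd 1928 = n7780 := ndS (p := 1270) (l := 3) rfl N1270 D7780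
theorem N1929 : nd 1929 = n7781 := ndS (p := 1271) (l := 2) rfl N1271 D7781
theorem N1930 : nd 1930 = n7782 := ndS (p := 1271) (l := 4) rfl N1271 D7782
theorem N1931 : nd 1931 = n7783 := ndS (p := 1271) (l := 6) rfl N1271 D7783
theorem N1932 : nd 1932 = n7791 := ndS (p := 1273) (l := 3) rfl N1273 D7791
theorem N1933 : nd 1933 = n7798 := ndS (p := 1274) (l := 1) rfl N1274 D7798
theorem N1934 : nd 1934 = n7799 := ndS (p := 1274) (l := 3) rfl N1274 D7799
theorem N1935 : nd 1935 = n7800 := ndS (p := 1275) (l := 2) rfl N1275 D7800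
theorem N1936 : nd 1936 = n7801 := ndS (p := 1275) (l := 4) rfl N1275 D7801
theorem N1937 : nd 1937 = n7802 := ndS (p := 1275) (l := 5) rfl N1275 D7802
theorem N1938 : nd 1938 = n7810 := ndS (p := 1277) (l := 3) rfl N1277 D7810
theorem N1939 : nd 1939 = n7821 := ndS (p := 1278) (l := 3) rfl N1278 D7821
theorem N1940 : nd 1940 = n7824 := ndS (p := 1279) (l := 4) rfl N1279 D7824
theorem N1941 : nd 1941 = n7845 := ndS (p := 1281) (l := 4) rfl N1281 D7845
theorem N1942 : nd 1942 = n7859 := ndS (p := 1282) (l := 3) rfl N1282 D7859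
theorem N1943 : nd 1943 = n7862 := ndS (p := 1283) (l := 4) rfl N1283 D7862
theorem N1944 : nd 1944 = n7879 := ndS (p := 1285) (l := 4) rfl N1285 D7879
theorem N1945 : nd 1945 = n7995 := ndS (p := 1286) (l := 1) rfl N1286 D7995
theorem N1946 : nd 1946 = n7996 := ndS (p := 1286) (l := 3) rfl N1286 D7996
theorem N1947 : nd 1947 = n7997 := ndS (p := 1286) (l := 5) rfl N1286 D7997
theorem N1948 : nd 1948 = n7998 := ndS (p := 1286) (l := 6) rfl N1286 D7998
theorem N1949 : nd 1949 = n7999 := ndS (p := 1287) (l := 2) rfl N1287 D7999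
theorem N1950 : nd 1950 = n8000 := ndS (p := 1287) (l := 5) rfl N1287 D8000
theorem N1951 : nd 1951 = n8001 := ndS (p := 1287) (l := 6) rfl N1287 D8001
theorem N1952 : nd 1952 = n8002 := ndS (p := 1288) (l := 1) rfl N1288 D8002
theorem N1953 : nd 1953 = n8003 := ndS (p := 1288) (l := 6) rfl N1288 D8003
theorem N1954 : nd 1954 = n8004 := ndS (p := 1289) (l := 1) rfl N1289 D8004
theorem N1955 : nd 1955 = n8005 := ndS (p := 1289) (l := 5) rfl N1289 D8005
theorem N1956 : nd 1956 = n8006 := ndS (p := 1290) (l := 1) rfl N1290 D8006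
theorem N1957 : nd 1957 = n8007 := ndS (p := 1290) (l := 6) rfl N1290 D8007
theorem N1958 : nd 1958 = n8008 := ndS (p := 1291) (l := 1) rfl N1291 D8008
theorem N1959 : nd 1959 = n8009 := ndS (p := 1291) (l := 5) rfl N1291 D8009
theorem N1960 : nd 1960 = n8010 := ndS (p := 1292) (l := 0) rfl N1292 D8010
theorem N1961 : nd 1961 = n8011 := ndS (p := 1292) (l := 2) rfl N1292 D8011
theorem N1962 : nd 1962 = n8012 := ndS (p := 1292) (l := 6) rfl N1292 D8012
theorem N1963 : nd 1963 = n8013 := ndS (p := 1293) (l := 1) rfl N1293 D8013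
theorem N1964 : nd 1964 = n8014 := ndS (p := 1294) (l := 0) rfl N1294 D8014
theorem N1965 : nd 1965 = n8015 := ndS (p := 1294) (l := 2) rfl N1294 D8015
theorem N1966 : nd 1966 = n8016 := ndS (p := 1294) (l := 5) rfl N1294 D8016
theorem N1967 : nd 1967 = n8017 := ndS (p := 1295) (l := 1) rfl N1295 D8017
theorem N1968 : nd 1968 = n8018 := ndS (p := 1296) (l := 1) rfl N1296 D8018
theorem N1969 : nd 1969 = n8019 := ndS (p := 1296) (l := 2) rfl N1296 D8019
theorem N1970 : nd 1970 = n8021 := ndS (p := 1297) (l := 3) rfl N1297 D8021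
theorem N1971 : nd 1971 = n8022 := ndS (p := 1297) (l := 6) rfl N1297 D8022
theorem N1972 : nd 1972 = n8023 := ndS (p := 1298) (l := 1) rfl N1298 D8023
theorem N1973 : nd 1973 = n8024 := ndS (p := 1298) (l := 5) rfl N1298 D8024
theorem N1974 : nd 1974 = n8025 := ndS (p := 1299) (l := 0) rfl N1299 D8025
theorem N1975 : nd 1975 = n8026 := ndS (p := 1299) (l := 2) rfl N1299 D8026
theorem N1976 : nd 1976 = n8028 := ndS (p := 1300) (l := 1) rfl N1300 D8028
theorem N1977 : nd 1977 = n8029 := ndS (p := 1300) (l := 2) rfl N1300 D8029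
theorem N1978 : nd 1978 = n8031 := ndS (p := 1301) (l := 3) rfl N1301 D8031
theorem N1979 : nd 1979 = n8032 := ndS (p := 1301) (l := 5) rfl N1301 D8032
theorem N1980 : nd 1980 = n8033 := ndS (p := 1302) (l := 1) rfl N1302 D8033
theorem N1981 : nd 1981 = n8034 := ndS (p := 1302) (l := 6) rfl N1302 D8034
theorem N1982 : nd 1982 = n8035 := ndS (p := 1303) (l := 0) rfl N1303 D8035
theorem N1983 : nd 1983 = n8036 := ndS (p := 1303) (l := 2) rfl N1303 D8036
theorem N1984 : nd 1984 = n8046 := ndS (p := 1305) (l := 2) rfl N1305 D8046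
theorem N1985 : nd 1985 = n8051 := ndS (p := 1307) (l := 0) rfl N1307 D8051
theorem N1986 : nd 1986 = n8052 := ndS (p := 1307) (l := 2) rfl N1307 D8052
theorem N1987 : nd 1987 = n8056 := ndS (p := 1308) (l := 2) rfl N1308 D8056
theorem N1988 : nd 1988 = n8058 := ndS (p := 1309) (l := 3) rfl N1309 D8058
theorem N1989 : nd 1989 = n8069 := ndS (p := 1311) (l := 2) rfl N1311 D8069
theorem N1990 : nd 1990 = n8074 := ndS (p := 1313) (l := 0) rfl N1313 D8074
theorem N1991 : nd 1991 = n8075 := ndS (p := 1313) (l := 2) rfl N1313 D8075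
theorem N1992 : nd 1992 = n8079 := ndS (p := 1314) (l := 2) rfl N1314 D8079
theorem N1993 : nd 1993 = n8081 := ndS (p := 1315) (l := 3) rfl N1315 D8081
theorem N1994 : nd 1994 = n8115 := ndS (p := 1316) (l := 2) rfl N1316 D8115
theorem N1995 : nd 1995 = n8166 := ndS (p := 1319) (l := 2) rfl N1319 D8166
theorem N1996 : nd 1996 = n8187 := ndS (p := 1322) (l := 0) rfl N1322 D8187
theorem N1997 : nd 1997 = n8189 := ndS (p := 1322) (l := 5) rfl N1322 D8189
theorem N1998 : nd 1998 = n8190 := ndS (p := 1322) (l := 6) rfl N1322 D8190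
theorem N1999 : nd 1999 = n8191 := ndS (p := 1323) (l := 1) rfl N1323 D8191
theorem N2000 : nd 2000 = n8192 := ndS (p := 1324) (l := 1) rfl N1324 D8192
theorem N2001 : nd 2001 = n8193 := ndS (p := 1325) (l := 0) rfl N1325 D8193
theorem N2002 : nd 2002 = n8194 := ndS (p := 1325) (l := 2) rfl N1325 D8194
theorem N2003 : nd 2003 = n8195 := ndS (p := 1325) (l := 6) rfl N1325 D8195
theorem N2004 : nd 2004 = n8196 := ndS (p := 1326) (l := 1) rfl N1326 D8196
theorem N2005 : nd 2005 = n8197 := ndS (p := 1327) (l := 0) rfl N1327 D8197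
theorem N2006 : nd 2006 = n8198 := ndS (p := 1327) (l := 2) rfl N1327 D8198
theorem N2007 : nd 2007 = n8199 := ndS (p := 1327) (l := 5) rfl N1327 D8199
theorem N2008 : nd 2008 = n8200 := ndS (p := 1328) (l := 1) rfl N1328 D8200
theorem N2009 : nd 2009 = n8201 := ndS (p := 1329) (l := 1) rfl N1329 D8201
theorem N2010 : nd 2010 = n8202 := ndS (p := 1329) (l := 2) rfl N1329 D8202
theorem N2011 : nd 2011 = n8203 := ndS (p := 1329) (l := 6) rfl N1329 D8203
theorem N2012 : nd 2012 = n8204 := ndS (p := 1330) (l := 3) rfl N1330 D8204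
theorem N2013 : nd 2013 = n8205 := ndS (p := 1330) (l := 6) rfl N1330 D8205
theorem N2014 : nd 2014 = n8206 := ndS (p := 1331) (l := 1) rfl N1331 D8206
theorem N2015 : nd 2015 = n8207 := ndS (p := 1331) (l := 5) rfl N1331 D8207
theorem N2016 : nd 2016 = n8208 := ndS (p := 1332) (l := 0) rfl N1332 D8208
theorem N2017 : nd 2017 = n8209 := ndS (p := 1332) (l := 2) rfl N1332 D8209
theorem N2018 : nd 2018 = n8210 := ndS (p := 1332) (l := 5) rfl N1332 D8210
theorem N2019 : nd 2019 = n8211 := ndS (p := 1333) (l := 1) rfl N1333 D8211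
theorem N2020 : nd 2020 = n8212 := ndS (p := 1333) (l := 2) rfl N1333 D8212
theorem N2021 : nd 2021 = n8213 := ndS (p := 1333) (l := 5) rfl N1333 D8213
theorem N2022 : nd 2022 = n8214 := ndS (p := 1334) (l := 3) rfl N1334 D8214
theorem N2023 : nd 2023 = n8215 := ndS (p := 1334) (l := 5) rfl N1334 D8215
theorem N2024 : nd 2024 = n8216 := ndS (p := 1335) (l := 1) rfl N1335 D8216
theorem N2025 : nd 2025 = n8217 := ndS (p := 1335) (l := 6) rfl N1335 D8217
theorem N2026 : nd 2026 = n8218 := ndS (p := 1336) (l := 0) rfl N1336 D8218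
theorem N2027 : nd 2027 = n8219 := ndS (p := 1336) (l := 2) rfl N1336 D8219
theorem N2028 : nd 2028 = n8220 := ndS (p := 1336) (l := 6) rfl N1336 D8220
theorem N2029 : nd 2029 = n8222 := ndS (p := 1337) (l := 2) rfl N1337 D8222
theorem N2030 : nd 2030 = n8225 := ndS (p := 1338) (l := 1) rfl N1338 D8225
theorem N2031 : nd 2031 = n8226 := ndS (p := 1338) (l := 3) rfl N1338 D8226
theorem N2032 : nd 2032 = n8229 := ndS (p := 1339) (l := 2) rfl N1339 D8229
theorem N2033 : nd 2033 = n8230 := ndS (p := 1339) (l := 4) rfl N1339 D8230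
theorem N2034 : nd 2034 = n8231 := ndS (p := 1339) (l := 6) rfl N1339 D8231
theorem N2035 : nd 2035 = n8232 := ndS (p := 1340) (l := 1) rfl N1340 D8232
theorem N2036 : nd 2036 = n8233 := ndS (p := 1340) (l := 5) rfl N1340 D8233
theorem N2037 : nd 2037 = n8234 := ndS (p := 1341) (l := 0) rfl N1341 D8234
theorem N2038 : nd 2038 = n8235 := ndS (p := 1341) (l := 2) rfl N1341 D8235
theorem N2039 : nd 2039 = n8239 := ndS (p := 1343) (l := 2) rfl N1343 D8239
theorem N2040 : nd 2040 = n8241 := ndS (p := 1344) (l := 3) rfl N1344 D8241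
theorem N2041 : nd 2041 = n8245 := ndS (p := 1345) (l := 2) rfl N1345 D8245
theorem N2042 : nd 2042 = n8248 := ndS (p := 1346) (l := 1) rfl N1346 D8248
theorem N2043 : nd 2043 = n8249 := ndS (p := 1346) (l := 3) rfl N1346 D8249
theorem N2044 : nd 2044 = n8252 := ndS (p := 1347) (l := 2) rfl N1347 D8252
theorem N2045 : nd 2045 = n8253 := ndS (p := 1347) (l := 4) rfl N1347 D8253
theorem N2046 : nd 2046 = n8254 := ndS (p := 1347) (l := 5) rfl N1347 D8254
theorem N2047 : nd 2047 = n8255 := ndS (p := 1348) (l := 1) rfl N1348 D8255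
theorem N2048 : nd 2048 = n8256 := ndS (p := 1348) (l := 6) rfl N1348 D8256
theorem N2049 : nd 2049 = n8257 := ndS (p := 1349) (l := 0) rfl N1349 D8257
theorem N2050 : nd 2050 = n8258 := ndS (p := 1349) (l := 2) rfl N1349 D8258
theorem N2051 : nd 2051 = n8262 := ndS (p := 1351) (l := 2) rfl N1351 D8262
theorem N2052 : nd 2052 = n8264 := ndS (p := 1352) (l := 3) rfl N1352 D8264
theorem N2053 : nd 2053 = n8275 := ndS (p := 1353) (l := 2) rfl N1353 D8275
theorem N2054 : nd 2054 = n8276 := ndS (p := 1353) (l := 4) rfl N1353 D8276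
theorem N2055 : nd 2055 = n8282 := ndS (p := 1354) (l := 1) rfl N1354 D8282
theorem N2056 : nd 2056 = n8283 := ndS (p := 1354) (l := 3) rfl N1354 D8283
theorem N2057 : nd 2057 = n8284 := ndS (p := 1354) (l := 4) rfl N1354 D8284
theorem N2058 : nd 2058 = n8285 := ndS (p := 1354) (l := 6) rfl N1354 D8285
theorem N2059 : nd 2059 = n8286 := ndS (p := 1355) (l := 6) rfl N1355 D8286
theorem N2060 : nd 2060 = n8287 := ndS (p := 1356) (l := 1) rfl N1356 D8287
theorem N2061 : nd 2061 = n8288 := ndS (p := 1356) (l := 5) rfl N1356 D8288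
theorem N2062 : nd 2062 = n8289 := ndS (p := 1357) (l := 0) rfl N1357 D8289
theorem N2063 : nd 2063 = n8290 := ndS (p := 1357) (l := 5) rfl N1357 D8290
theorem N2064 : nd 2064 = n8291 := ndS (p := 1358) (l := 1) rfl N1358 D8291
theorem N2065 : nd 2065 = n8294 := ndS (p := 1360) (l := 3) rfl N1360 D8294
theorem N2066 : nd 2066 = n8305 := ndS (p := 1361) (l := 3) rfl N1361 D8305
theorem N2067 : nd 2067 = n8308 := ndS (p := 1362) (l := 2) rfl N1362 D8308
theorem N2068 : nd 2068 = n8309 := ndS (p := 1362) (l := 4) rfl N1362 D8309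
theorem N2069 : nd 2069 = n8321 := ndS (p := 1363) (l := 2) rfl N1363 D8321
theorem N2070 : nd 2070 = n8322 := ndS (p := 1363) (l := 4) rfl N1363 D8322
theorem N2071 : nd 2071 = n8325 := ndS (p := 1364) (l := 1) rfl N1364 D8325
theorem N2072 : nd 2072 = n8326 := ndS (p := 1364) (l := 3) rfl N1364 D8326
theorem N2073 : nd 2073 = n8327 := ndS (p := 1364) (l := 4) rfl N1364 D8327
theorem N2074 : nd 2074 = n8328 := ndS (p := 1364) (l := 5) rfl N1364 D8328
theorem N2075 : nd 2075 = n8329 := ndS (p := 1365) (l := 5) rfl N1365 D8329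
theorem N2076 : nd 2076 = n8330 := ndS (p := 1366) (l := 1) rfl N1366 D8330
theorem N2077 : nd 2077 = n8331 := ndS (p := 1366) (l := 6) rfl N1366 D8331
theorem N2078 : nd 2078 = n8332 := ndS (p := 1367) (l := 0) rfl N1367 D8332
theorem N2079 : nd 2079 = n8333 := ndS (p := 1367) (l := 6) rfl N1367 D8333
theorem N2080 : nd 2080 = n8334 := ndS (p := 1368) (l := 1) rfl N1368 D8334
theorem N2081 : nd 2081 = n8337 := ndS (p := 1370) (l := 3) rfl N1370 D8337
theorem N2082 : nd 2082 = n8348 := ndS (p := 1371) (l := 3) rfl N1371 D8348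
theorem N2083 : nd 2083 = n8351 := ndS (p := 1372) (l := 2) rfl N1372 D8351
theorem N2084 : nd 2084 = n8352 := ndS (p := 1372) (l := 4) rfl N1372 D8352
theorem N2085 : nd 2085 = n8518 := ndS (p := 1385) (l := 0) rfl N1385 D8518
theorem N2086 : nd 2086 = n8519 := ndS (p := 1385) (l := 4) rfl N1385 D8519
theorem N2087 : nd 2087 = n8520 := ndS (p := 1385) (l := 5) rfl N1385 D8520
theorem N2088 : nd 2088 = n8521 := ndS (p := 1385) (l := 6) rfl N1385 D8521
theorem N2089 : nd 2089 = n8522 := ndS (p := 1386) (l := 3) rfl N1386 D8522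
theorem N2090 : nd 2090 = n8523 := ndS (p := 1386) (l := 6) rfl N1386 D8523
theorem N2091 : nd 2091 = n8524 := ndS (p := 1387) (l := 1) rfl N1387 D8524
theorem N2092 : nd 2092 = n8525 := ndS (p := 1388) (l := 1) rfl N1388 D8525
theorem N2093 : nd 2093 = n8526 := ndS (p := 1389) (l := 0) rfl N1389 D8526
theorem N2094 : nd 2094 = n8527 := ndS (p := 1389) (l := 2) rfl N1389 D8527
theorem N2095 : nd 2095 = n8528 := ndS (p := 1389) (l := 5) rfl N1389 D8528
theorem N2096 : nd 2096 = n8531 := ndS (p := 1392) (l := 1) rfl N1392 D8531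
theorem N2097 : nd 2097 = n8532 := ndS (p := 1392) (l := 4) rfl N1392 D8532
theorem N2098 : nd 2098 = n8545 := ndS (p := 1394) (l := 0) rfl N1394 D8545
theorem N2099 : nd 2099 = n8546 := ndS (p := 1394) (l := 4) rfl N1394 D8546
theorem N2100 : nd 2100 = n8547 := ndS (p := 1394) (l := 5) rfl N1394 D8547
theorem N2101 : nd 2101 = n8548 := ndS (p := 1394) (l := 6) rfl N1394 D8548
theorem N2102 : nd 2102 = n8549 := ndS (p := 1395) (l := 3) rfl N1395 D8549
theorem N2103 : nd 2103 = n8550 := ndS (p := 1395) (l := 5) rfl N1395 D8550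
theorem N2104 : nd 2104 = n8551 := ndS (p := 1396) (l := 1) rfl N1396 D8551
theorem N2105 : nd 2105 = n8552 := ndS (p := 1397) (l := 1) rfl N1397 D8552
theorem N2106 : nd 2106 = n8553 := ndS (p := 1398) (l := 0) rfl N1398 D8553
theorem N2107 : nd 2107 = n8554 := ndS (p := 1398) (l := 2) rfl N1398 D8554
theorem N2108 : nd 2108 = n8555 := ndS (p := 1398) (l := 6) rfl N1398 D8555
theorem N2109 : nd 2109 = n8559 := ndS (p := 1401) (l := 1) rfl N1401 D8559
theorem N2110 : nd 2110 = n8560 := ndS (p := 1401) (l := 4) rfl N1401 D8560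
theorem N2111 : nd 2111 = n8746 := ndS (p := 1405) (l := 1) rfl N1405 D8746
theorem N2112 : nd 2112 = n8767 := ndS (p := 1406) (l := 0) rfl N1406 D8767
theorem N2113 : nd 2113 = n8768 := ndS (p := 1406) (l := 3) rfl N1406 D8768
theorem N2114 : nd 2114 = n8769 := ndS (p := 1406) (l := 5) rfl N1406 D8769
theorem N2115 : nd 2115 = n8770 := ndS (p := 1406) (l := 6) rfl N1406 D8770
theorem N2116 : nd 2116 = n8798 := ndS (p := 1408) (l := 0) rfl N1408 D8798
theorem N2117 : nd 2117 = n8799 := ndS (p := 1408) (l := 3) rfl N1408 D8799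
theorem N2118 : nd 2118 = n8800 := ndS (p := 1408) (l := 5) rfl N1408 D8800
theorem N2119 : nd 2119 = n8801 := ndS (p := 1408) (l := 6) rfl N1408 D8801
theorem N2120 : nd 2120 = n8802 := ndS (p := 1409) (l := 4) rfl N1409 D8802
theorem N2121 : nd 2121 = n8803 := ndS (p := 1409) (l := 5) rfl N1409 D8803
theorem N2122 : nd 2122 = n8804 := ndS (p := 1409) (l := 6) rfl N1409 D8804
theorem N2123 : nd 2123 = n8805 := ndS (p := 1410) (l := 1) rfl N1410 D8805
theorem N2124 : nd 2124 = n8806 := ndS (p := 1411) (l := 1) rfl N1411 D8806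
theorem N2125 : nd 2125 = n8843 := ndS (p := 1412) (l := 1) rfl N1412 D8843
theorem N2126 : nd 2126 = n8844 := ndS (p := 1412) (l := 3) rfl N1412 D8844
theorem N2127 : nd 2127 = n8845 := ndS (p := 1412) (l := 5) rfl N1412 D8845
theorem N2128 : nd 2128 = n8846 := ndS (p := 1412) (l := 6) rfl N1412 D8846
theorem N2129 : nd 2129 = n8847 := ndS (p := 1413) (l := 2) rfl N1413 D8847
theorem N2130 : nd 2130 = n8848 := ndS (p := 1413) (l := 4) rfl N1413 D8848
theorem N2131 : nd 2131 = n8849 := ndS (p := 1413) (l := 5) rfl N1413 D8849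
theorem N2132 : nd 2132 = n8850 := ndS (p := 1413) (l := 6) rfl N1413 D8850
theorem N2133 : nd 2133 = n8851 := ndS (p := 1414) (l := 1) rfl N1414 D8851
theorem N2134 : nd 2134 = n8852 := ndS (p := 1414) (l := 6) rfl N1414 D8852
theorem N2135 : nd 2135 = n8853 := ndS (p := 1415) (l := 1) rfl N1415 D8853
theorem N2136 : nd 2136 = n8854 := ndS (p := 1415) (l := 5) rfl N1415 D8854
theorem N2137 : nd 2137 = n8855 := ndS (p := 1416) (l := 5) rfl N1416 D8855
theorem N2138 : nd 2138 = n8856 := ndS (p := 1416) (l := 6) rfl N1416 D8856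
theorem N2139 : nd 2139 = n8857 := ndS (p := 1417) (l := 1) rfl N1417 D8857
theorem N2140 : nd 2140 = n8858 := ndS (p := 1418) (l := 1) rfl N1418 D8858
theorem N2141 : nd 2141 = n8859 := ndS (p := 1419) (l := 0) rfl N1419 D8859
theorem N2142 : nd 2142 = n8861 := ndS (p := 1419) (l := 6) rfl N1419 D8861
theorem N2143 : nd 2143 = n8862 := ndS (p := 1420) (l := 0) rfl N1420 D8862
theorem N2144 : nd 2144 = n8864 := ndS (p := 1420) (l := 5) rfl N1420 D8864
theorem N2145 : nd 2145 = n8918 := ndS (p := 1421) (l := 5) rfl N1421 D8918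
theorem N2146 : nd 2146 = n8919 := ndS (p := 1421) (l := 6) rfl N1421 D8919
theorem N2147 : nd 2147 = n8924 := ndS (p := 1422) (l := 1) rfl N1422 D8924
theorem N2148 : nd 2148 = n8925 := ndS (p := 1422) (l := 6) rfl N1422 D8925
theorem N2149 : nd 2149 = n8926 := ndS (p := 1423) (l := 1) rfl N1423 D8926
theorem N2150 : nd 2150 = n8927 := ndS (p := 1423) (l := 5) rfl N1423 D8927
theorem N2151 : nd 2151 = n8928 := ndS (p := 1424) (l := 5) rfl N1424 D8928
theorem N2152 : nd 2152 = n8929 := ndS (p := 1424) (l := 6) rfl N1424 D8929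
theorem N2153 : nd 2153 = n8930 := ndS (p := 1425) (l := 1) rfl N1425 D8930
theorem N2154 : nd 2154 = n8931 := ndS (p := 1425) (l := 6) rfl N1425 D8931
theorem N2155 : nd 2155 = n8932 := ndS (p := 1426) (l := 1) rfl N1426 D8932
theorem N2156 : nd 2156 = n8933 := ndS (p := 1426) (l := 5) rfl N1426 D8933
theorem N2157 : nd 2157 = n8934 := ndS (p := 1427) (l := 0) rfl N1427 D8934
theorem N2158 : nd 2158 = n8935 := ndS (p := 1427) (l := 2) rfl N1427 D8935
theorem N2159 : nd 2159 = n8936 := ndS (p := 1427) (l := 6) rfl N1427 D8936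
theorem N2160 : nd 2160 = n8937 := ndS (p := 1428) (l := 1) rfl N1428 D8937
theorem N2161 : nd 2161 = n8938 := ndS (p := 1429) (l := 0) rfl N1429 D8938
theorem N2162 : nd 2162 = n8939 := ndS (p := 1429) (l := 2) rfl N1429 D8939
theorem N2163 : nd 2163 = n8940 := ndS (p := 1429) (l := 5) rfl N1429 D8940
theorem N2164 : nd 2164 = n8941 := ndS (p := 1430) (l := 1) rfl N1430 D8941
theorem N2165 : nd 2165 = n8944 := ndS (p := 1431) (l := 3) rfl N1431 D8944
theorem N2166 : nd 2166 = n8947 := ndS (p := 1432) (l := 0) rfl N1432 D8947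
theorem N2167 : nd 2167 = n8948 := ndS (p := 1432) (l := 2) rfl N1432 D8948
theorem N2168 : nd 2168 = n8952 := ndS (p := 1433) (l := 3) rfl N1433 D8952
theorem N2169 : nd 2169 = n8955 := ndS (p := 1434) (l := 0) rfl N1434 D8955
theorem N2170 : nd 2170 = n8956 := ndS (p := 1434) (l := 2) rfl N1434 D8956
theorem N2171 : nd 2171 = n8971 := ndS (p := 1435) (l := 2) rfl N1435 D8971
theorem N2172 : nd 2172 = n8972 := ndS (p := 1436) (l := 3) rfl N1436 D8972
theorem N2173 : nd 2173 = n8988 := ndS (p := 1437) (l := 2) rfl N1437 D8988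
theorem N2174 : nd 2174 = n8989 := ndS (p := 1438) (l := 3) rfl N1438 D8989
theorem N2175 : nd 2175 = n9054 := ndS (p := 1441) (l := 5) rfl N1441 D9054
theorem N2176 : nd 2176 = n9055 := ndS (p := 1441) (l := 6) rfl N1441 D9055
theorem N2177 : nd 2177 = n9056 := ndS (p := 1442) (l := 1) rfl N1442 D9056
theorem N2178 : nd 2178 = n9057 := ndS (p := 1443) (l := 1) rfl N1443 D9057
theorem N2179 : nd 2179 = n9060 := ndS (p := 1444) (l := 1) rfl N1444 D9060
theorem N2180 : nd 2180 = n9061 := ndS (p := 1444) (l := 6) rfl N1444 D9061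
theorem N2181 : nd 2181 = n9062 := ndS (p := 1445) (l := 1) rfl N1445 D9062
theorem N2182 : nd 2182 = n9063 := ndS (p := 1445) (l := 5) rfl N1445 D9063
theorem N2183 : nd 2183 = n9064 := ndS (p := 1446) (l := 0) rfl N1446 D9064
theorem N2184 : nd 2184 = n9065 := ndS (p := 1446) (l := 2) rfl N1446 D9065
theorem N2185 : nd 2185 = n9066 := ndS (p := 1446) (l := 6) rfl N1446 D9066
theorem N2186 : nd 2186 = n9067 := ndS (p := 1447) (l := 1) rfl N1447 D9067
theorem N2187 : nd 2187 = n9068 := ndS (p := 1448) (l := 0) rfl N1448 D9068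
theorem N2188 : nd 2188 = n9069 := ndS (p := 1448) (l := 2) rfl N1448 D9069
theorem N2189 : nd 2189 = n9070 := ndS (p := 1448) (l := 5) rfl N1448 D9070
theorem N2190 : nd 2190 = n9071 := ndS (p := 1449) (l := 1) rfl N1449 D9071
theorem N2191 : nd 2191 = n9074 := ndS (p := 1450) (l := 5) rfl N1450 D9074
theorem N2192 : nd 2192 = n9075 := ndS (p := 1450) (l := 6) rfl N1450 D9075
theorem N2193 : nd 2193 = n9079 := ndS (p := 1451) (l := 1) rfl N1451 D9079
theorem N2194 : nd 2194 = n9080 := ndS (p := 1452) (l := 1) rfl N1452 D9080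
theorem N2195 : nd 2195 = n9081 := ndS (p := 1453) (l := 1) rfl N1453 D9081
theorem N2196 : nd 2196 = n9082 := ndS (p := 1453) (l := 6) rfl N1453 D9082
theorem N2197 : nd 2197 = n9083 := ndS (p := 1454) (l := 1) rfl N1454 D9083
theorem N2198 : nd 2198 = n9084 := ndS (p := 1454) (l := 5) rfl N1454 D9084
theorem N2199 : nd 2199 = n9085 := ndS (p := 1455) (l := 0) rfl N1455 D9085
theorem N2200 : nd 2200 = n9086 := ndS (p := 1455) (l := 2) rfl N1455 D9086
theorem N2201 : nd 2201 = n9087 := ndS (p := 1455) (l := 6) rfl N1455 D9087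
theorem N2202 : nd 2202 = n9088 := ndS (p := 1456) (l := 1) rfl N1456 D9088
theorem N2203 : nd 2203 = n9089 := ndS (p := 1457) (l := 0) rfl N1457 D9089
theorem N2204 : nd 2204 = n9090 := ndS (p := 1457) (l := 2) rfl N1457 D9090
theorem N2205 : nd 2205 = n9091 := ndS (p := 1457) (l := 5) rfl N1457 D9091
theorem N2206 : nd 2206 = n9092 := ndS (p := 1458) (l := 1) rfl N1458 D9092
theorem N2207 : nd 2207 = n9093 := ndS (p := 1459) (l := 1) rfl N1459 D9093
theorem N2208 : nd 2208 = n9094 := ndS (p := 1459) (l := 2) rfl N1459 D9094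
theorem N2209 : nd 2209 = n9095 := ndS (p := 1459) (l := 6) rfl N1459 D9095
theorem N2210 : nd 2210 = n9096 := ndS (p := 1460) (l := 3) rfl N1460 D9096
theorem N2211 : nd 2211 = n9097 := ndS (p := 1460) (l := 6) rfl N1460 D9097
theorem N2212 : nd 2212 = n9098 := ndS (p := 1461) (l := 1) rfl N1461 D9098
theorem N2213 : nd 2213 = n9099 := ndS (p := 1461) (l := 5) rfl N1461 D9099
theorem N2214 : nd 2214 = n9100 := ndS (p := 1462) (l := 0) rfl N1462 D9100
theorem N2215 : nd 2215 = n9101 := ndS (p := 1462) (l := 2) rfl N1462 D9101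
theorem N2216 : nd 2216 = n9102 := ndS (p := 1462) (l := 5) rfl N1462 D9102
theorem N2217 : nd 2217 = n9103 := ndS (p := 1463) (l := 1) rfl N1463 D9103
theorem N2218 : nd 2218 = n9104 := ndS (p := 1463) (l := 2) rfl N1463 D9104
theorem N2219 : nd 2219 = n9105 := ndS (p := 1463) (l := 5) rfl N1463 D9105
theorem N2220 : nd 2220 = n9106 := ndS (p := 1464) (l := 3) rfl N1464 D9106
theorem N2221 : nd 2221 = n9107 := ndS (p := 1464) (l := 5) rfl N1464 D9107
theorem N2222 : nd 2222 = n9108 := ndS (p := 1465) (l := 1) rfl N1465 D9108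
theorem N2223 : nd 2223 = n9109 := ndS (p := 1465) (l := 6) rfl N1465 D9109
theorem N2224 : nd 2224 = n9110 := ndS (p := 1466) (l := 0) rfl N1466 D9110
theorem N2225 : nd 2225 = n9111 := ndS (p := 1466) (l := 2) rfl N1466 D9111
theorem N2226 : nd 2226 = n9112 := ndS (p := 1466) (l := 6) rfl N1466 D9112
theorem N2227 : nd 2227 = n9118 := ndS (p := 1467) (l := 2) rfl N1467 D9118
theorem N2228 : nd 2228 = n9119 := ndS (p := 1467) (l := 4) rfl N1467 D9119
theorem N2229 : nd 2229 = n9126 := ndS (p := 1468) (l := 2) rfl N1468 D9126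
theorem N2230 : nd 2230 = n9127 := ndS (p := 1469) (l := 3) rfl N1469 D9127
theorem N2231 : nd 2231 = n9135 := ndS (p := 1470) (l := 2) rfl N1470 D9135
theorem N2232 : nd 2232 = n9136 := ndS (p := 1470) (l := 4) rfl N1470 D9136
theorem N2233 : nd 2233 = n9143 := ndS (p := 1471) (l := 2) rfl N1471 D9143
theorem N2234 : nd 2234 = n9144 := ndS (p := 1472) (l := 3) rfl N1472 D9144
theorem N2235 : nd 2235 = n9149 := ndS (p := 1473) (l := 1) rfl N1473 D9149
theorem N2236 : nd 2236 = n9150 := ndS (p := 1473) (l := 3) rfl N1473 D9150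
theorem N2237 : nd 2237 = n9151 := ndS (p := 1473) (l := 4) rfl N1473 D9151
theorem N2238 : nd 2238 = n9164 := ndS (p := 1475) (l := 2) rfl N1475 D9164
theorem N2239 : nd 2239 = n9179 := ndS (p := 1476) (l := 1) rfl N1476 D9179
theorem N2240 : nd 2240 = n9180 := ndS (p := 1476) (l := 3) rfl N1476 D9180
theorem N2241 : nd 2241 = n9181 := ndS (p := 1476) (l := 4) rfl N1476 D9181
theorem N2242 : nd 2242 = n9194 := ndS (p := 1478) (l := 2) rfl N1478 D9194
theorem N2243 : nd 2243 = n9300 := ndS (p := 1479) (l := 0) rfl N1479 D9300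
theorem N2244 : nd 2244 = n9302 := ndS (p := 1479) (l := 3) rfl N1479 D9302
theorem N2245 : nd 2245 = n9303 := ndS (p := 1479) (l := 5) rfl N1479 D9303
theorem N2246 : nd 2246 = n9304 := ndS (p := 1479) (l := 6) rfl N1479 D9304
theorem N2247 : nd 2247 = n9305 := ndS (p := 1480) (l := 2) rfl N1480 D9305
theorem N2248 : nd 2248 = n9306 := ndS (p := 1480) (l := 5) rfl N1480 D9306
theorem N2249 : nd 2249 = n9307 := ndS (p := 1480) (l := 6) rfl N1480 D9307
theorem N2250 : nd 2250 = n9308 := ndS (p := 1481) (l := 1) rfl N1481 D9308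
theorem N2251 : nd 2251 = n9309 := ndS (p := 1482) (l := 1) rfl N1482 D9309
theorem N2252 : nd 2252 = n9311 := ndS (p := 1483) (l := 5) rfl N1483 D9311
theorem N2253 : nd 2253 = n9312 := ndS (p := 1483) (l := 6) rfl N1483 D9312
theorem N2254 : nd 2254 = n9313 := ndS (p := 1484) (l := 1) rfl N1484 D9313
theorem N2255 : nd 2255 = n9314 := ndS (p := 1484) (l := 6) rfl N1484 D9314
theorem N2256 : nd 2256 = n9315 := ndS (p := 1485) (l := 1) rfl N1485 D9315
theorem N2257 : nd 2257 = n9316 := ndS (p := 1485) (l := 5) rfl N1485 D9316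
theorem N2258 : nd 2258 = n9317 := ndS (p := 1486) (l := 0) rfl N1486 D9317
theorem N2259 : nd 2259 = n9318 := ndS (p := 1486) (l := 2) rfl N1486 D9318
theorem N2260 : nd 2260 = n9319 := ndS (p := 1486) (l := 6) rfl N1486 D9319
theorem N2261 : nd 2261 = n9320 := ndS (p := 1487) (l := 1) rfl N1487 D9320
theorem N2262 : nd 2262 = n9321 := ndS (p := 1488) (l := 0) rfl N1488 D9321
theorem N2263 : nd 2263 = n9322 := ndS (p := 1488) (l := 2) rfl N1488 D9322
theorem N2264 : nd 2264 = n9323 := ndS (p := 1488) (l := 5) rfl N1488 D9323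
theorem N2265 : nd 2265 = n9324 := ndS (p := 1489) (l := 1) rfl N1489 D9324
theorem N2266 : nd 2266 = n9325 := ndS (p := 1490) (l := 0) rfl N1490 D9325
theorem N2267 : nd 2267 = n9326 := ndS (p := 1490) (l := 2) rfl N1490 D9326
theorem N2268 : nd 2268 = n9327 := ndS (p := 1490) (l := 6) rfl N1490 D9327
theorem N2269 : nd 2269 = n9328 := ndS (p := 1491) (l := 0) rfl N1491 D9328
theorem N2270 : nd 2270 = n9329 := ndS (p := 1491) (l := 2) rfl N1491 D9329
theorem N2271 : nd 2271 = n9330 := ndS (p := 1491) (l := 5) rfl N1491 D9330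
theorem N2272 : nd 2272 = n9331 := ndS (p := 1492) (l := 1) rfl N1492 D9331
theorem N2273 : nd 2273 = n9332 := ndS (p := 1492) (l := 2) rfl N1492 D9332
theorem N2274 : nd 2274 = n9333 := ndS (p := 1492) (l := 6) rfl N1492 D9333
theorem N2275 : nd 2275 = n9334 := ndS (p := 1493) (l := 3) rfl N1493 D9334
theorem N2276 : nd 2276 = n9335 := ndS (p := 1493) (l := 6) rfl N1493 D9335
theorem N2277 : nd 2277 = n9336 := ndS (p := 1494) (l := 5) rfl N1494 D9336
theorem N2278 : nd 2278 = n9337 := ndS (p := 1495) (l := 1) rfl N1495 D9337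
theorem N2279 : nd 2279 = n9338 := ndS (p := 1495) (l := 2) rfl N1495 D9338
theorem N2280 : nd 2280 = n9339 := ndS (p := 1495) (l := 5) rfl N1495 D9339
theorem N2281 : nd 2281 = n9340 := ndS (p := 1496) (l := 3) rfl N1496 D9340
theorem N2282 : nd 2282 = n9341 := ndS (p := 1496) (l := 5) rfl N1496 D9341
theorem N2283 : nd 2283 = n9342 := ndS (p := 1497) (l := 6) rfl N1497 D9342
theorem N2284 : nd 2284 = n9347 := ndS (p := 1498) (l := 1) rfl N1498 D9347
theorem N2285 : nd 2285 = n9348 := ndS (p := 1498) (l := 3) rfl N1498 D9348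
theorem N2286 : nd 2286 = n9349 := ndS (p := 1498) (l := 6) rfl N1498 D9349
theorem N2287 : nd 2287 = n9352 := ndS (p := 1500) (l := 4) rfl N1500 D9352
theorem N2288 : nd 2288 = n9353 := ndS (p := 1500) (l := 6) rfl N1500 D9353
theorem N2289 : nd 2289 = n9354 := ndS (p := 1501) (l := 1) rfl N1501 D9354
theorem N2290 : nd 2290 = n9361 := ndS (p := 1502) (l := 1) rfl N1502 D9361
theorem N2291 : nd 2291 = n9362 := ndS (p := 1502) (l := 3) rfl N1502 D9362
theorem N2292 : nd 2292 = n9363 := ndS (p := 1502) (l := 5) rfl N1502 D9363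
theorem N2293 : nd 2293 = n9366 := ndS (p := 1504) (l := 4) rfl N1504 D9366
theorem N2294 : nd 2294 = n9367 := ndS (p := 1504) (l := 5) rfl N1504 D9367
theorem N2295 : nd 2295 = n9368 := ndS (p := 1505) (l := 1) rfl N1505 D9368
theorem N2296 : nd 2296 = n9390 := ndS (p := 1506) (l := 1) rfl N1506 D9390
theorem N2297 : nd 2297 = n9391 := ndS (p := 1506) (l := 3) rfl N1506 D9391
theorem N2298 : nd 2298 = n9421 := ndS (p := 1507) (l := 1) rfl N1507 D9421
theorem N2299 : nd 2299 = n9422 := ndS (p := 1507) (l := 3) rfl N1507 D9422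
theorem N2300 : nd 2300 = n9542 := ndS (p := 1508) (l := 5) rfl N1508 D9542
theorem N2301 : nd 2301 = n9543 := ndS (p := 1508) (l := 6) rfl N1508 D9543
theorem N2302 : nd 2302 = n9545 := ndS (p := 1509) (l := 5) rfl N1509 D9545
theorem N2303 : nd 2303 = n9546 := ndS (p := 1509) (l := 6) rfl N1509 D9546
theorem N2304 : nd 2304 = n9547 := ndS (p := 1510) (l := 1) rfl N1510 D9547
theorem N2305 : nd 2305 = n9548 := ndS (p := 1510) (l := 6) rfl N1510 D9548
theorem N2306 : nd 2306 = n9549 := ndS (p := 1511) (l := 1) rfl N1511 D9549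
theorem N2307 : nd 2307 = n9550 := ndS (p := 1511) (l := 5) rfl N1511 D9550
theorem N2308 : nd 2308 = n9551 := ndS (p := 1512) (l := 0) rfl N1512 D9551
theorem N2309 : nd 2309 = n9552 := ndS (p := 1512) (l := 2) rfl N1512 D9552
theorem N2310 : nd 2310 = n9553 := ndS (p := 1512) (l := 6) rfl N1512 D9553
theorem N2311 : nd 2311 = n9554 := ndS (p := 1513) (l := 0) rfl N1513 D9554
theorem N2312 : nd 2312 = n9555 := ndS (p := 1513) (l := 2) rfl N1513 D9555
theorem N2313 : nd 2313 = n9556 := ndS (p := 1513) (l := 5) rfl N1513 D9556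
theorem N2314 : nd 2314 = n9557 := ndS (p := 1514) (l := 1) rfl N1514 D9557
theorem N2315 : nd 2315 = n9558 := ndS (p := 1514) (l := 2) rfl N1514 D9558
theorem N2316 : nd 2316 = n9559 := ndS (p := 1515) (l := 3) rfl N1515 D9559
theorem N2317 : nd 2317 = n9560 := ndS (p := 1515) (l := 6) rfl N1515 D9560
theorem N2318 : nd 2318 = n9561 := ndS (p := 1516) (l := 1) rfl N1516 D9561
theorem N2319 : nd 2319 = n9562 := ndS (p := 1517) (l := 0) rfl N1517 D9562
theorem N2320 : nd 2320 = n9563 := ndS (p := 1517) (l := 2) rfl N1517 D9563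
theorem N2321 : nd 2321 = n9564 := ndS (p := 1517) (l := 5) rfl N1517 D9564
theorem N2322 : nd 2322 = n9565 := ndS (p := 1518) (l := 1) rfl N1518 D9565
theorem N2323 : nd 2323 = n9566 := ndS (p := 1518) (l := 2) rfl N1518 D9566
theorem N2324 : nd 2324 = n9567 := ndS (p := 1519) (l := 3) rfl N1519 D9567
theorem N2325 : nd 2325 = n9568 := ndS (p := 1519) (l := 5) rfl N1519 D9568
theorem N2326 : nd 2326 = n9569 := ndS (p := 1520) (l := 1) rfl N1520 D9569
theorem N2327 : nd 2327 = n9570 := ndS (p := 1521) (l := 0) rfl N1521 D9570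
theorem N2328 : nd 2328 = n9571 := ndS (p := 1521) (l := 2) rfl N1521 D9571
theorem N2329 : nd 2329 = n9572 := ndS (p := 1521) (l := 6) rfl N1521 D9572
theorem N2330 : nd 2330 = n9573 := ndS (p := 1522) (l := 0) rfl N1522 D9573
theorem N2331 : nd 2331 = n9575 := ndS (p := 1522) (l := 5) rfl N1522 D9575
theorem N2332 : nd 2332 = n9576 := ndS (p := 1522) (l := 6) rfl N1522 D9576
theorem N2333 : nd 2333 = n9577 := ndS (p := 1523) (l := 1) rfl N1523 D9577
theorem N2334 : nd 2334 = n9578 := ndS (p := 1523) (l := 3) rfl N1523 D9578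
theorem N2335 : nd 2335 = n9579 := ndS (p := 1523) (l := 6) rfl N1523 D9579
theorem N2336 : nd 2336 = n9580 := ndS (p := 1524) (l := 1) rfl N1524 D9580
theorem N2337 : nd 2337 = n9581 := ndS (p := 1525) (l := 2) rfl N1525 D9581
theorem N2338 : nd 2338 = n9582 := ndS (p := 1525) (l := 4) rfl N1525 D9582
theorem N2339 : nd 2339 = n9583 := ndS (p := 1525) (l := 6) rfl N1525 D9583
theorem N2340 : nd 2340 = n9584 := ndS (p := 1526) (l := 1) rfl N1526 D9584
theorem N2341 : nd 2341 = n9585 := ndS (p := 1526) (l := 5) rfl N1526 D9585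
theorem N2342 : nd 2342 = n9586 := ndS (p := 1527) (l := 1) rfl N1527 D9586
theorem N2343 : nd 2343 = n9587 := ndS (p := 1528) (l := 0) rfl N1528 D9587
theorem N2344 : nd 2344 = n9589 := ndS (p := 1528) (l := 5) rfl N1528 D9589
theorem N2345 : nd 2345 = n9590 := ndS (p := 1528) (l := 6) rfl N1528 D9590
theorem N2346 : nd 2346 = n9591 := ndS (p := 1529) (l := 1) rfl N1529 D9591
theorem N2347 : nd 2347 = n9592 := ndS (p := 1529) (l := 3) rfl N1529 D9592
theorem N2348 : nd 2348 = n9593 := ndS (p := 1529) (l := 5) rfl N1529 D9593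
theorem N2349 : nd 2349 = n9594 := ndS (p := 1530) (l := 1) rfl N1530 D9594
theorem N2350 : nd 2350 = n9595 := ndS (p := 1531) (l := 2) rfl N1531 D9595
theorem N2351 : nd 2351 = n9596 := ndS (p := 1531) (l := 4) rfl N1531 D9596
theorem N2352 : nd 2352 = n9597 := ndS (p := 1531) (l := 5) rfl N1531 D9597
theorem N2353 : nd 2353 = n9598 := ndS (p := 1532) (l := 1) rfl N1532 D9598
theorem N2354 : nd 2354 = n9599 := ndS (p := 1532) (l := 6) rfl N1532 D9599
theorem N2355 : nd 2355 = n9600 := ndS (p := 1533) (l := 1) rfl N1533 D9600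
theorem N2356 : nd 2356 = n9610 := ndS (p := 1534) (l := 0) rfl N1534 D9610
theorem N2357 : nd 2357 = n9611 := ndS (p := 1534) (l := 3) rfl N1534 D9611
theorem N2358 : nd 2358 = n9612 := ndS (p := 1534) (l := 5) rfl N1534 D9612
theorem N2359 : nd 2359 = n9613 := ndS (p := 1534) (l := 6) rfl N1534 D9613
theorem N2360 : nd 2360 = n9614 := ndS (p := 1535) (l := 4) rfl N1535 D9614
theorem N2361 : nd 2361 = n9615 := ndS (p := 1535) (l := 6) rfl N1535 D9615
theorem N2362 : nd 2362 = n9616 := ndS (p := 1536) (l := 1) rfl N1536 D9616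
theorem N2363 : nd 2363 = n9619 := ndS (p := 1537) (l := 1) rfl N1537 D9619
theorem N2364 : nd 2364 = n9620 := ndS (p := 1537) (l := 4) rfl N1537 D9620
theorem N2365 : nd 2365 = n9621 := ndS (p := 1537) (l := 6) rfl N1537 D9621
theorem N2366 : nd 2366 = n9622 := ndS (p := 1538) (l := 6) rfl N1538 D9622
theorem N2367 : nd 2367 = n9623 := ndS (p := 1539) (l := 1) rfl N1539 D9623
theorem N2368 : nd 2368 = n9625 := ndS (p := 1540) (l := 0) rfl N1540 D9625
theorem N2369 : nd 2369 = n9626 := ndS (p := 1540) (l := 5) rfl N1540 D9626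
theorem N2370 : nd 2370 = n9639 := ndS (p := 1541) (l := 0) rfl N1541 D9639
theorem N2371 : nd 2371 = n9640 := ndS (p := 1541) (l := 3) rfl N1541 D9640
theorem N2372 : nd 2372 = n9641 := ndS (p := 1541) (l := 5) rfl N1541 D9641
theorem N2373 : nd 2373 = n9642 := ndS (p := 1541) (l := 6) rfl N1541 D9642
theorem N2374 : nd 2374 = n9643 := ndS (p := 1542) (l := 4) rfl N1542 D9643
theorem N2375 : nd 2375 = n9644 := ndS (p := 1542) (l := 5) rfl N1542 D9644
theorem N2376 : nd 2376 = n9645 := ndS (p := 1543) (l := 1) rfl N1543 D9645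
theorem N2377 : nd 2377 = n9648 := ndS (p := 1544) (l := 1) rfl N1544 D9648
theorem N2378 : nd 2378 = n9649 := ndS (p := 1544) (l := 4) rfl N1544 D9649
theorem N2379 : nd 2379 = n9650 := ndS (p := 1544) (l := 5) rfl N1544 D9650
theorem N2380 : nd 2380 = n9651 := ndS (p := 1545) (l := 5) rfl N1545 D9651
theorem N2381 : nd 2381 = n9652 := ndS (p := 1546) (l := 1) rfl N1546 D9652
theorem N2382 : nd 2382 = n9654 := ndS (p := 1547) (l := 0) rfl N1547 D9654
theorem N2383 : nd 2383 = n9655 := ndS (p := 1547) (l := 6) rfl N1547 D9655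
theorem N2384 : nd 2384 = n9676 := ndS (p := 1548) (l := 2) rfl N1548 D9676
theorem N2385 : nd 2385 = n9680 := ndS (p := 1549) (l := 1) rfl N1549 D9680
theorem N2386 : nd 2386 = n9681 := ndS (p := 1549) (l := 4) rfl N1549 D9681
theorem N2387 : nd 2387 = n9682 := ndS (p := 1549) (l := 6) rfl N1549 D9682
theorem N2388 : nd 2388 = n9690 := ndS (p := 1552) (l := 0) rfl N1552 D9690
theorem N2389 : nd 2389 = n9691 := ndS (p := 1552) (l := 3) rfl N1552 D9691
theorem N2390 : nd 2390 = n9692 := ndS (p := 1552) (l := 4) rfl N1552 D9692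
theorem N2391 : nd 2391 = n9693 := ndS (p := 1552) (l := 5) rfl N1552 D9693
theorem N2392 : nd 2392 = n9694 := ndS (p := 1552) (l := 6) rfl N1552 D9694
theorem N2393 : nd 2393 = n9695 := ndS (p := 1553) (l := 4) rfl N1553 D9695
theorem N2394 : nd 2394 = n9696 := ndS (p := 1553) (l := 6) rfl N1553 D9696
theorem N2395 : nd 2395 = n9697 := ndS (p := 1554) (l := 3) rfl N1554 D9697
theorem N2396 : nd 2396 = n9698 := ndS (p := 1554) (l := 6) rfl N1554 D9698
theorem N2397 : nd 2397 = n9699 := ndS (p := 1555) (l := 1) rfl N1555 D9699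
theorem N2398 : nd 2398 = n9701 := ndS (p := 1556) (l := 1) rfl N1556 D9701
theorem N2399 : nd 2399 = n9703 := ndS (p := 1557) (l := 0) rfl N1557 D9703
theorem N2400 : nd 2400 = n9704 := ndS (p := 1557) (l := 2) rfl N1557 D9704
theorem N2401 : nd 2401 = n9733 := ndS (p := 1559) (l := 2) rfl N1559 D9733
theorem N2402 : nd 2402 = n9740 := ndS (p := 1560) (l := 1) rfl N1560 D9740
theorem N2403 : nd 2403 = n9741 := ndS (p := 1560) (l := 4) rfl N1560 D9741
theorem N2404 : nd 2404 = n9742 := ndS (p := 1560) (l := 5) rfl N1560 D9742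
theorem N2405 : nd 2405 = n9750 := ndS (p := 1563) (l := 0) rfl N1563 D9750
theorem N2406 : nd 2406 = n9751 := ndS (p := 1563) (l := 3) rfl N1563 D9751
theorem N2407 : nd 2407 = n9752 := ndS (p := 1563) (l := 4) rfl N1563 D9752
theorem N2408 : nd 2408 = n9753 := ndS (p := 1563) (l := 5) rfl N1563 D9753
theorem N2409 : nd 2409 = n9754 := ndS (p := 1563) (l := 6) rfl N1563 D9754
theorem N2410 : nd 2410 = n9755 := ndS (p := 1564) (l := 4) rfl N1564 D9755
theorem N2411 : nd 2411 = n9756 := ndS (p := 1564) (l := 5) rfl N1564 D9756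
theorem N2412 : nd 2412 = n9757 := ndS (p := 1565) (l := 3) rfl N1565 D9757
theorem N2413 : nd 2413 = n9758 := ndS (p := 1565) (l := 5) rfl N1565 D9758
theorem N2414 : nd 2414 = n9759 := ndS (p := 1566) (l := 1) rfl N1566 D9759
theorem N2415 : nd 2415 = n9761 := ndS (p := 1567) (l := 1) rfl N1567 D9761
theorem N2416 : nd 2416 = n9763 := ndS (p := 1568) (l := 0) rfl N1568 D9763
theorem N2417 : nd 2417 = n9764 := ndS (p := 1568) (l := 2) rfl N1568 D9764
theorem N2418 : nd 2418 = n9851 := ndS (p := 1572) (l := 0) rfl N1572 D9851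
theorem N2419 : nd 2419 = n9852 := ndS (p := 1572) (l := 4) rfl N1572 D9852
theorem N2420 : nd 2420 = n9853 := ndS (p := 1572) (l := 5) rfl N1572 D9853
theorem N2421 : nd 2421 = n9854 := ndS (p := 1572) (l := 6) rfl N1572 D9854
theorem N2422 : nd 2422 = n9855 := ndS (p := 1573) (l := 3) rfl N1573 D9855
theorem N2423 : nd 2423 = n9856 := ndS (p := 1574) (l := 1) rfl N1574 D9856
theorem N2424 : nd 2424 = n9857 := ndS (p := 1574) (l := 4) rfl N1574 D9857
theorem N2425 : nd 2425 = n9858 := ndS (p := 1574) (l := 5) rfl N1574 D9858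
theorem N2426 : nd 2426 = n9859 := ndS (p := 1574) (l := 6) rfl N1574 D9859
theorem N2427 : nd 2427 = n9860 := ndS (p := 1575) (l := 3) rfl N1575 D9860
theorem N2428 : nd 2428 = n9861 := ndS (p := 1575) (l := 5) rfl N1575 D9861
theorem N2429 : nd 2429 = n9862 := ndS (p := 1575) (l := 6) rfl N1575 D9862
theorem N2430 : nd 2430 = n9863 := ndS (p := 1576) (l := 6) rfl N1576 D9863
theorem N2431 : nd 2431 = n9864 := ndS (p := 1577) (l := 1) rfl N1577 D9864
theorem N2432 : nd 2432 = n9865 := ndS (p := 1577) (l := 5) rfl N1577 D9865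
theorem N2433 : nd 2433 = n9866 := ndS (p := 1578) (l := 2) rfl N1578 D9866
theorem N2434 : nd 2434 = n9867 := ndS (p := 1578) (l := 6) rfl N1578 D9867
theorem N2435 : nd 2435 = n9868 := ndS (p := 1579) (l := 1) rfl N1579 D9868
theorem N2436 : nd 2436 = n9869 := ndS (p := 1579) (l := 5) rfl N1579 D9869
theorem N2437 : nd 2437 = n9870 := ndS (p := 1580) (l := 0) rfl N1580 D9870
theorem N2438 : nd 2438 = n9871 := ndS (p := 1580) (l := 2) rfl N1580 D9871
theorem N2439 : nd 2439 = n9872 := ndS (p := 1580) (l := 5) rfl N1580 D9872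
theorem N2440 : nd 2440 = n9873 := ndS (p := 1581) (l := 1) rfl N1581 D9873
theorem N2441 : nd 2441 = n9874 := ndS (p := 1582) (l := 0) rfl N1582 D9874
theorem N2442 : nd 2442 = n9875 := ndS (p := 1582) (l := 2) rfl N1582 D9875
theorem N2443 : nd 2443 = n9878 := ndS (p := 1584) (l := 1) rfl N1584 D9878
theorem N2444 : nd 2444 = n9879 := ndS (p := 1584) (l := 2) rfl N1584 D9879
theorem N2445 : nd 2445 = n9880 := ndS (p := 1585) (l := 3) rfl N1585 D9880
theorem N2446 : nd 2446 = n9881 := ndS (p := 1585) (l := 5) rfl N1585 D9881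
theorem N2447 : nd 2447 = n9882 := ndS (p := 1587) (l := 2) rfl N1587 D9882
theorem N2448 : nd 2448 = n9884 := ndS (p := 1589) (l := 0) rfl N1589 D9884
theorem N2449 : nd 2449 = n9885 := ndS (p := 1589) (l := 4) rfl N1589 D9885
theorem N2450 : nd 2450 = n9886 := ndS (p := 1589) (l := 5) rfl N1589 D9886
theorem N2451 : nd 2451 = n9887 := ndS (p := 1589) (l := 6) rfl N1589 D9887
theorem N2452 : nd 2452 = n9888 := ndS (p := 1590) (l := 3) rfl N1590 D9888
theorem N2453 : nd 2453 = n9889 := ndS (p := 1591) (l := 1) rfl N1591 D9889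
theorem N2454 : nd 2454 = n9890 := ndS (p := 1591) (l := 4) rfl N1591 D9890
theorem N2455 : nd 2455 = n9891 := ndS (p := 1591) (l := 5) rfl N1591 D9891
theorem N2456 : nd 2456 = n9892 := ndS (p := 1591) (l := 6) rfl N1591 D9892
theorem N2457 : nd 2457 = n9893 := ndS (p := 1592) (l := 3) rfl N1592 D9893
theorem N2458 : nd 2458 = n9894 := ndS (p := 1592) (l := 5) rfl N1592 D9894
theorem N2459 : nd 2459 = n9895 := ndS (p := 1592) (l := 6) rfl N1592 D9895
theorem N2460 : nd 2460 = n9896 := ndS (p := 1593) (l := 1) rfl N1593 D9896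
theorem N2461 : nd 2461 = n9897 := ndS (p := 1593) (l := 6) rfl N1593 D9897
theorem N2462 : nd 2462 = n9898 := ndS (p := 1594) (l := 5) rfl N1594 D9898
theorem N2463 : nd 2463 = n9899 := ndS (p := 1595) (l := 2) rfl N1595 D9899
theorem N2464 : nd 2464 = n9900 := ndS (p := 1595) (l := 5) rfl N1595 D9900
theorem N2465 : nd 2465 = n9901 := ndS (p := 1596) (l := 1) rfl N1596 D9901
theorem N2466 : nd 2466 = n9902 := ndS (p := 1596) (l := 6) rfl N1596 D9902
theorem N2467 : nd 2467 = n9903 := ndS (p := 1597) (l := 0) rfl N1597 D9903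
theorem N2468 : nd 2468 = n9904 := ndS (p := 1597) (l := 2) rfl N1597 D9904
theorem N2469 : nd 2469 = n9905 := ndS (p := 1597) (l := 6) rfl N1597 D9905
theorem N2470 : nd 2470 = n9906 := ndS (p := 1598) (l := 1) rfl N1598 D9906
theorem N2471 : nd 2471 = n9907 := ndS (p := 1599) (l := 0) rfl N1599 D9907
theorem N2472 : nd 2472 = n9908 := ndS (p := 1599) (l := 2) rfl N1599 D9908
theorem N2473 : nd 2473 = n9911 := ndS (p := 1601) (l := 1) rfl N1601 D9911
theorem N2474 : nd 2474 = n9912 := ndS (p := 1601) (l := 2) rfl N1601 D9912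
theorem N2475 : nd 2475 = n9913 := ndS (p := 1602) (l := 3) rfl N1602 D9913
theorem N2476 : nd 2476 = n9914 := ndS (p := 1602) (l := 6) rfl N1602 D9914
theorem N2477 : nd 2477 = n9915 := ndS (p := 1604) (l := 2) rfl N1604 D9915
theorem N2478 : nd 2478 = n9925 := ndS (p := 1608) (l := 2) rfl N1608 D9925
theorem N2479 : nd 2479 = n9927 := ndS (p := 1609) (l := 1) rfl N1609 D9927
theorem N2480 : nd 2480 = n9928 := ndS (p := 1609) (l := 3) rfl N1609 D9928
theorem N2481 : nd 2481 = n9929 := ndS (p := 1609) (l := 6) rfl N1609 D9929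
theorem N2482 : nd 2482 = n9930 := ndS (p := 1611) (l := 1) rfl N1611 D9930
theorem N2483 : nd 2483 = n9931 := ndS (p := 1612) (l := 0) rfl N1612 D9931
theorem N2484 : nd 2484 = n9932 := ndS (p := 1612) (l := 5) rfl N1612 D9932
theorem N2485 : nd 2485 = n9933 := ndS (p := 1612) (l := 6) rfl N1612 D9933
theorem N2486 : nd 2486 = n9934 := ndS (p := 1613) (l := 2) rfl N1613 D9934
theorem N2487 : nd 2487 = n9936 := ndS (p := 1614) (l := 1) rfl N1614 D9936
theorem N2488 : nd 2488 = n9937 := ndS (p := 1614) (l := 3) rfl N1614 D9937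
theorem N2489 : nd 2489 = n9938 := ndS (p := 1614) (l := 5) rfl N1614 D9938
theorem N2490 : nd 2490 = n9939 := ndS (p := 1616) (l := 1) rfl N1616 D9939
theorem N2491 : nd 2491 = n9940 := ndS (p := 1617) (l := 0) rfl N1617 D9940
theorem N2492 : nd 2492 = n9941 := ndS (p := 1617) (l := 5) rfl N1617 D9941
theorem N2493 : nd 2493 = n9942 := ndS (p := 1617) (l := 6) rfl N1617 D9942
theorem N2494 : nd 2494 = n9943 := ndS (p := 1618) (l := 2) rfl N1618 D9943
theorem N2495 : nd 2495 = n9945 := ndS (p := 1618) (l := 5) rfl N1618 D9945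
theorem N2496 : nd 2496 = n9946 := ndS (p := 1618) (l := 6) rfl N1618 D9946
theorem N2497 : nd 2497 = n9947 := ndS (p := 1619) (l := 3) rfl N1619 D9947
theorem N2498 : nd 2498 = n9948 := ndS (p := 1619) (l := 5) rfl N1619 D9948
theorem N2499 : nd 2499 = n9949 := ndS (p := 1619) (l := 6) rfl N1619 D9949
theorem N2500 : nd 2500 = n9951 := ndS (p := 1620) (l := 5) rfl N1620 D9951
theorem N2501 : nd 2501 = n9952 := ndS (p := 1620) (l := 6) rfl N1620 D9952
theorem N2502 : nd 2502 = n9953 := ndS (p := 1621) (l := 1) rfl N1621 D9953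
theorem N2503 : nd 2503 = n9954 := ndS (p := 1621) (l := 6) rfl N1621 D9954
theorem N2504 : nd 2504 = n9955 := ndS (p := 1622) (l := 1) rfl N1622 D9955
theorem N2505 : nd 2505 = n9956 := ndS (p := 1622) (l := 5) rfl N1622 D9956
theorem N2506 : nd 2506 = n9957 := ndS (p := 1623) (l := 1) rfl N1623 D9957
theorem N2507 : nd 2507 = n9958 := ndS (p := 1623) (l := 3) rfl N1623 D9958
theorem N2508 : nd 2508 = n9959 := ndS (p := 1623) (l := 5) rfl N1623 D9959
theorem N2509 : nd 2509 = n9960 := ndS (p := 1623) (l := 6) rfl N1623 D9960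
theorem N2510 : nd 2510 = n9961 := ndS (p := 1624) (l := 1) rfl N1624 D9961
theorem N2511 : nd 2511 = n9962 := ndS (p := 1625) (l := 1) rfl N1625 D9962
theorem N2512 : nd 2512 = n9963 := ndS (p := 1626) (l := 0) rfl N1626 D9963
theorem N2513 : nd 2513 = n9964 := ndS (p := 1626) (l := 2) rfl N1626 D9964
theorem N2514 : nd 2514 = n9965 := ndS (p := 1626) (l := 6) rfl N1626 D9965
theorem N2515 : nd 2515 = n9966 := ndS (p := 1627) (l := 0) rfl N1627 D9966
theorem N2516 : nd 2516 = n9967 := ndS (p := 1627) (l := 2) rfl N1627 D9967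
theorem N2517 : nd 2517 = n9968 := ndS (p := 1627) (l := 5) rfl N1627 D9968
theorem N2518 : nd 2518 = n9969 := ndS (p := 1628) (l := 5) rfl N1628 D9969
theorem N2519 : nd 2519 = n9970 := ndS (p := 1628) (l := 6) rfl N1628 D9970
theorem N2520 : nd 2520 = n9971 := ndS (p := 1629) (l := 1) rfl N1629 D9971
theorem N2521 : nd 2521 = n9972 := ndS (p := 1629) (l := 6) rfl N1629 D9972
theorem N2522 : nd 2522 = n9973 := ndS (p := 1630) (l := 1) rfl N1630 D9973
theorem N2523 : nd 2523 = n9974 := ndS (p := 1630) (l := 5) rfl N1630 D9974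
theorem N2524 : nd 2524 = n9975 := ndS (p := 1631) (l := 0) rfl N1631 D9975
theorem N2525 : nd 2525 = n9976 := ndS (p := 1631) (l := 2) rfl N1631 D9976
theorem N2526 : nd 2526 = n9977 := ndS (p := 1631) (l := 6) rfl N1631 D9977
theorem N2527 : nd 2527 = n9978 := ndS (p := 1632) (l := 1) rfl N1632 D9978
theorem N2528 : nd 2528 = n9979 := ndS (p := 1633) (l := 0) rfl N1633 D9979
theorem N2529 : nd 2529 = n9980 := ndS (p := 1633) (l := 2) rfl N1633 D9980
theorem N2530 : nd 2530 = n9981 := ndS (p := 1633) (l := 5) rfl N1633 D9981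
theorem N2531 : nd 2531 = n9982 := ndS (p := 1634) (l := 1) rfl N1634 D9982
theorem N2532 : nd 2532 = n9983 := ndS (p := 1635) (l := 1) rfl N1635 D9983
theorem N2533 : nd 2533 = n9984 := ndS (p := 1635) (l := 2) rfl N1635 D9984
theorem N2534 : nd 2534 = n9985 := ndS (p := 1636) (l := 3) rfl N1636 D9985
theorem N2535 : nd 2535 = n9986 := ndS (p := 1636) (l := 6) rfl N1636 D9986
theorem N2536 : nd 2536 = n9987 := ndS (p := 1637) (l := 1) rfl N1637 D9987
theorem N2537 : nd 2537 = n9988 := ndS (p := 1638) (l := 0) rfl N1638 D9988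
theorem N2538 : nd 2538 = n9989 := ndS (p := 1638) (l := 2) rfl N1638 D9989
theorem N2539 : nd 2539 = n9990 := ndS (p := 1638) (l := 5) rfl N1638 D9990
theorem N2540 : nd 2540 = n9991 := ndS (p := 1639) (l := 1) rfl N1639 D9991
theorem N2541 : nd 2541 = n9992 := ndS (p := 1639) (l := 2) rfl N1639 D9992
theorem N2542 : nd 2542 = n9993 := ndS (p := 1640) (l := 3) rfl N1640 D9993
theorem N2543 : nd 2543 = n9994 := ndS (p := 1640) (l := 5) rfl N1640 D9994
theorem N2544 : nd 2544 = n9995 := ndS (p := 1641) (l := 1) rfl N1641 D9995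
theorem N2545 : nd 2545 = n9996 := ndS (p := 1642) (l := 0) rfl N1642 D9996
theorem N2546 : nd 2546 = n9997 := ndS (p := 1642) (l := 2) rfl N1642 D9997
theorem N2547 : nd 2547 = n9998 := ndS (p := 1642) (l := 6) rfl N1642 D9998
theorem N2548 : nd 2548 = n9999 := ndS (p := 1643) (l := 1) rfl N1643 D9999
theorem N2549 : nd 2549 = n10000 := ndS (p := 1643) (l := 2) rfl N1643 D10000
theorem N2550 : nd 2550 = n10001 := ndS (p := 1643) (l := 6) rfl N1643 D10001
theorem N2551 : nd 2551 = n10002 := ndS (p := 1644) (l := 3) rfl N1644 D10002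
theorem N2552 : nd 2552 = n10003 := ndS (p := 1644) (l := 6) rfl N1644 D10003
theorem N2553 : nd 2553 = n10004 := ndS (p := 1645) (l := 1) rfl N1645 D10004
theorem N2554 : nd 2554 = n10005 := ndS (p := 1645) (l := 5) rfl N1645 D10005
theorem N2555 : nd 2555 = n10006 := ndS (p := 1646) (l := 0) rfl N1646 D10006
theorem N2556 : nd 2556 = n10007 := ndS (p := 1646) (l := 2) rfl N1646 D10007
theorem N2557 : nd 2557 = n10008 := ndS (p := 1646) (l := 5) rfl N1646 D10008
theorem N2558 : nd 2558 = n10009 := ndS (p := 1647) (l := 1) rfl N1647 D10009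
theorem N2559 : nd 2559 = n10010 := ndS (p := 1647) (l := 2) rfl N1647 D10010
theorem N2560 : nd 2560 = n10011 := ndS (p := 1647) (l := 5) rfl N1647 D10011
theorem N2561 : nd 2561 = n10012 := ndS (p := 1648) (l := 3) rfl N1648 D10012
theorem N2562 : nd 2562 = n10013 := ndS (p := 1648) (l := 5) rfl N1648 D10013
theorem N2563 : nd 2563 = n10014 := ndS (p := 1649) (l := 1) rfl N1649 D10014
theorem N2564 : nd 2564 = n10015 := ndS (p := 1649) (l := 6) rfl N1649 D10015
theorem N2565 : nd 2565 = n10016 := ndS (p := 1650) (l := 0) rfl N1650 D10016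
theorem N2566 : nd 2566 = n10017 := ndS (p := 1650) (l := 2) rfl N1650 D10017
theorem N2567 : nd 2567 = n10018 := ndS (p := 1650) (l := 6) rfl N1650 D10018
theorem N2568 : nd 2568 = n10019 := ndS (p := 1651) (l := 0) rfl N1651 D10019
theorem N2569 : nd 2569 = n10020 := ndS (p := 1651) (l := 2) rfl N1651 D10020
theorem N2570 : nd 2570 = n10021 := ndS (p := 1651) (l := 5) rfl N1651 D10021
theorem N2571 : nd 2571 = n10022 := ndS (p := 1651) (l := 6) rfl N1651 D10022
theorem N2572 : nd 2572 = n10023 := ndS (p := 1652) (l := 1) rfl N1652 D10023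
theorem N2573 : nd 2573 = n10024 := ndS (p := 1652) (l := 3) rfl N1652 D10024
theorem N2574 : nd 2574 = n10025 := ndS (p := 1652) (l := 6) rfl N1652 D10025
theorem N2575 : nd 2575 = n10026 := ndS (p := 1653) (l := 1) rfl N1653 D10026
theorem N2576 : nd 2576 = n10027 := ndS (p := 1654) (l := 2) rfl N1654 D10027
theorem N2577 : nd 2577 = n10028 := ndS (p := 1654) (l := 4) rfl N1654 D10028
theorem N2578 : nd 2578 = n10029 := ndS (p := 1654) (l := 6) rfl N1654 D10029
theorem N2579 : nd 2579 = n10030 := ndS (p := 1655) (l := 1) rfl N1655 D10030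
theorem N2580 : nd 2580 = n10031 := ndS (p := 1655) (l := 5) rfl N1655 D10031
theorem N2581 : nd 2581 = n10032 := ndS (p := 1656) (l := 0) rfl N1656 D10032
theorem N2582 : nd 2582 = n10033 := ndS (p := 1656) (l := 2) rfl N1656 D10033
theorem N2583 : nd 2583 = n10034 := ndS (p := 1656) (l := 5) rfl N1656 D10034
theorem N2584 : nd 2584 = n10035 := ndS (p := 1657) (l := 1) rfl N1657 D10035
theorem N2585 : nd 2585 = n10036 := ndS (p := 1658) (l := 1) rfl N1658 D10036
theorem N2586 : nd 2586 = n10037 := ndS (p := 1658) (l := 2) rfl N1658 D10037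
theorem N2587 : nd 2587 = n10038 := ndS (p := 1658) (l := 5) rfl N1658 D10038
theorem N2588 : nd 2588 = n10039 := ndS (p := 1659) (l := 3) rfl N1659 D10039
theorem N2589 : nd 2589 = n10040 := ndS (p := 1659) (l := 5) rfl N1659 D10040
theorem N2590 : nd 2590 = n10041 := ndS (p := 1660) (l := 6) rfl N1660 D10041
theorem N2591 : nd 2591 = n10042 := ndS (p := 1661) (l := 0) rfl N1661 D10042
theorem N2592 : nd 2592 = n10043 := ndS (p := 1661) (l := 2) rfl N1661 D10043
theorem N2593 : nd 2593 = n10044 := ndS (p := 1661) (l := 5) rfl N1661 D10044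
theorem N2594 : nd 2594 = n10045 := ndS (p := 1661) (l := 6) rfl N1661 D10045
theorem N2595 : nd 2595 = n10046 := ndS (p := 1662) (l := 1) rfl N1662 D10046
theorem N2596 : nd 2596 = n10047 := ndS (p := 1662) (l := 3) rfl N1662 D10047
theorem N2597 : nd 2597 = n10048 := ndS (p := 1662) (l := 5) rfl N1662 D10048
theorem N2598 : nd 2598 = n10049 := ndS (p := 1663) (l := 1) rfl N1663 D10049
theorem N2599 : nd 2599 = n10050 := ndS (p := 1664) (l := 2) rfl N1664 D10050
theorem N2600 : nd 2600 = n10051 := ndS (p := 1664) (l := 4) rfl N1664 D10051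
theorem N2601 : nd 2601 = n10052 := ndS (p := 1664) (l := 5) rfl N1664 D10052
theorem N2602 : nd 2602 = n10053 := ndS (p := 1665) (l := 1) rfl N1665 D10053
theorem N2603 : nd 2603 = n10054 := ndS (p := 1665) (l := 6) rfl N1665 D10054
theorem N2604 : nd 2604 = n10055 := ndS (p := 1666) (l := 0) rfl N1666 D10055
theorem N2605 : nd 2605 = n10056 := ndS (p := 1666) (l := 2) rfl N1666 D10056
theorem N2606 : nd 2606 = n10057 := ndS (p := 1666) (l := 6) rfl N1666 D10057
theorem N2607 : nd 2607 = n10058 := ndS (p := 1667) (l := 1) rfl N1667 D10058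
theorem N2608 : nd 2608 = n10059 := ndS (p := 1668) (l := 1) rfl N1668 D10059
theorem N2609 : nd 2609 = n10060 := ndS (p := 1668) (l := 2) rfl N1668 D10060
theorem N2610 : nd 2610 = n10061 := ndS (p := 1668) (l := 6) rfl N1668 D10061
theorem N2611 : nd 2611 = n10062 := ndS (p := 1669) (l := 3) rfl N1669 D10062
theorem N2612 : nd 2612 = n10063 := ndS (p := 1669) (l := 6) rfl N1669 D10063
theorem N2613 : nd 2613 = n10064 := ndS (p := 1670) (l := 5) rfl N1670 D10064
theorem N2614 : nd 2614 = n10065 := ndS (p := 1671) (l := 1) rfl N1671 D10065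
theorem N2615 : nd 2615 = n10066 := ndS (p := 1671) (l := 4) rfl N1671 D10066
theorem N2616 : nd 2616 = n10067 := ndS (p := 1673) (l := 0) rfl N1673 D10067
theorem N2617 : nd 2617 = n10068 := ndS (p := 1673) (l := 5) rfl N1673 D10068
theorem N2618 : nd 2618 = n10069 := ndS (p := 1674) (l := 0) rfl N1674 D10069
theorem N2619 : nd 2619 = n10070 := ndS (p := 1674) (l := 2) rfl N1674 D10070
theorem N2620 : nd 2620 = n10071 := ndS (p := 1675) (l := 1) rfl N1675 D10071
theorem N2621 : nd 2621 = n10072 := ndS (p := 1675) (l := 3) rfl N1675 D10072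
theorem N2622 : nd 2622 = n10073 := ndS (p := 1676) (l := 2) rfl N1676 D10073
theorem N2623 : nd 2623 = n10074 := ndS (p := 1676) (l := 4) rfl N1676 D10074
theorem N2624 : nd 2624 = n10075 := ndS (p := 1677) (l := 1) rfl N1677 D10075
theorem N2625 : nd 2625 = n10076 := ndS (p := 1677) (l := 4) rfl N1677 D10076
theorem N2626 : nd 2626 = n10077 := ndS (p := 1679) (l := 0) rfl N1679 D10077
theorem N2627 : nd 2627 = n10078 := ndS (p := 1679) (l := 6) rfl N1679 D10078
theorem N2628 : nd 2628 = n10079 := ndS (p := 1680) (l := 0) rfl N1680 D10079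
theorem N2629 : nd 2629 = n10080 := ndS (p := 1680) (l := 2) rfl N1680 D10080
theorem N2630 : nd 2630 = n10081 := ndS (p := 1681) (l := 1) rfl N1681 D10081
theorem N2631 : nd 2631 = n10082 := ndS (p := 1681) (l := 3) rfl N1681 D10082
theorem N2632 : nd 2632 = n10083 := ndS (p := 1682) (l := 2) rfl N1682 D10083
theorem N2633 : nd 2633 = n10084 := ndS (p := 1682) (l := 4) rfl N1682 D10084
theorem N2634 : nd 2634 = n10085 := ndS (p := 1683) (l := 2) rfl N1683 D10085
theorem N2635 : nd 2635 = n10086 := ndS (p := 1684) (l := 3) rfl N1684 D10086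
theorem N2636 : nd 2636 = n10087 := ndS (p := 1685) (l := 2) rfl N1685 D10087
theorem N2637 : nd 2637 = n10088 := ndS (p := 1686) (l := 3) rfl N1686 D10088
theorem N2638 : nd 2638 = n10089 := ndS (p := 1687) (l := 1) rfl N1687 D10089
theorem N2639 : nd 2639 = n10093 := ndS (p := 1688) (l := 1) rfl N1688 D10093
theorem N2640 : nd 2640 = n10097 := ndS (p := 1689) (l := 3) rfl N1689 D10097
theorem N2641 : nd 2641 = n10098 := ndS (p := 1689) (l := 5) rfl N1689 D10098
theorem N2642 : nd 2642 = n10099 := ndS (p := 1689) (l := 6) rfl N1689 D10099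
theorem N2643 : nd 2643 = n10100 := ndS (p := 1690) (l := 1) rfl N1690 D10100
theorem N2644 : nd 2644 = n10101 := ndS (p := 1691) (l := 1) rfl N1691 D10101
theorem N2645 : nd 2645 = n10102 := ndS (p := 1692) (l := 2) rfl N1692 D10102
theorem N2646 : nd 2646 = n10103 := ndS (p := 1692) (l := 4) rfl N1692 D10103
theorem N2647 : nd 2647 = n10104 := ndS (p := 1692) (l := 5) rfl N1692 D10104
theorem N2648 : nd 2648 = n10105 := ndS (p := 1692) (l := 6) rfl N1692 D10105
theorem N2649 : nd 2649 = n10106 := ndS (p := 1693) (l := 1) rfl N1693 D10106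
theorem N2650 : nd 2650 = n10107 := ndS (p := 1693) (l := 6) rfl N1693 D10107
theorem N2651 : nd 2651 = n10108 := ndS (p := 1694) (l := 1) rfl N1694 D10108
theorem N2652 : nd 2652 = n10109 := ndS (p := 1694) (l := 5) rfl N1694 D10109
theorem N2653 : nd 2653 = n10110 := ndS (p := 1695) (l := 0) rfl N1695 D10110
theorem N2654 : nd 2654 = n10111 := ndS (p := 1695) (l := 2) rfl N1695 D10111
theorem N2655 : nd 2655 = n10112 := ndS (p := 1695) (l := 6) rfl N1695 D10112
theorem N2656 : nd 2656 = n10113 := ndS (p := 1696) (l := 1) rfl N1696 D10113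
theorem N2657 : nd 2657 = n10114 := ndS (p := 1697) (l := 0) rfl N1697 D10114
theorem N2658 : nd 2658 = n10115 := ndS (p := 1697) (l := 2) rfl N1697 D10115
theorem N2659 : nd 2659 = n10116 := ndS (p := 1697) (l := 5) rfl N1697 D10116
theorem N2660 : nd 2660 = n10117 := ndS (p := 1698) (l := 1) rfl N1698 D10117
theorem N2661 : nd 2661 = n10118 := ndS (p := 1699) (l := 1) rfl N1699 D10118
theorem N2662 : nd 2662 = n10119 := ndS (p := 1699) (l := 2) rfl N1699 D10119
theorem N2663 : nd 2663 = n10120 := ndS (p := 1699) (l := 6) rfl N1699 D10120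
theorem N2664 : nd 2664 = n10121 := ndS (p := 1700) (l := 3) rfl N1700 D10121
theorem N2665 : nd 2665 = n10122 := ndS (p := 1700) (l := 6) rfl N1700 D10122
theorem N2666 : nd 2666 = n10123 := ndS (p := 1701) (l := 5) rfl N1701 D10123
theorem N2667 : nd 2667 = n10124 := ndS (p := 1702) (l := 1) rfl N1702 D10124
theorem N2668 : nd 2668 = n10125 := ndS (p := 1702) (l := 2) rfl N1702 D10125
theorem N2669 : nd 2669 = n10126 := ndS (p := 1702) (l := 5) rfl N1702 D10126
theorem N2670 : nd 2670 = n10127 := ndS (p := 1703) (l := 3) rfl N1703 D10127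
theorem N2671 : nd 2671 = n10128 := ndS (p := 1703) (l := 5) rfl N1703 D10128
theorem N2672 : nd 2672 = n10129 := ndS (p := 1704) (l := 6) rfl N1704 D10129
theorem N2673 : nd 2673 = n10130 := ndS (p := 1705) (l := 0) rfl N1705 D10130
theorem N2674 : nd 2674 = n10131 := ndS (p := 1705) (l := 2) rfl N1705 D10131
theorem N2675 : nd 2675 = n10132 := ndS (p := 1705) (l := 5) rfl N1705 D10132
theorem N2676 : nd 2676 = n10133 := ndS (p := 1705) (l := 6) rfl N1705 D10133
theorem N2677 : nd 2677 = n10134 := ndS (p := 1706) (l := 1) rfl N1706 D10134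
theorem N2678 : nd 2678 = n10135 := ndS (p := 1706) (l := 3) rfl N1706 D10135
theorem N2679 : nd 2679 = n10136 := ndS (p := 1707) (l := 2) rfl N1707 D10136
theorem N2680 : nd 2680 = n10137 := ndS (p := 1707) (l := 4) rfl N1707 D10137
theorem N2681 : nd 2681 = n10138 := ndS (p := 1707) (l := 6) rfl N1707 D10138
theorem N2682 : nd 2682 = n10139 := ndS (p := 1708) (l := 1) rfl N1708 D10139
theorem N2683 : nd 2683 = n10140 := ndS (p := 1709) (l := 0) rfl N1709 D10140
theorem N2684 : nd 2684 = n10141 := ndS (p := 1709) (l := 2) rfl N1709 D10141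
theorem N2685 : nd 2685 = n10142 := ndS (p := 1709) (l := 5) rfl N1709 D10142
theorem N2686 : nd 2686 = n10143 := ndS (p := 1710) (l := 1) rfl N1710 D10143
theorem N2687 : nd 2687 = n10144 := ndS (p := 1710) (l := 2) rfl N1710 D10144
theorem N2688 : nd 2688 = n10145 := ndS (p := 1710) (l := 5) rfl N1710 D10145
theorem N2689 : nd 2689 = n10146 := ndS (p := 1711) (l := 3) rfl N1711 D10146
theorem N2690 : nd 2690 = n10147 := ndS (p := 1711) (l := 5) rfl N1711 D10147
theorem N2691 : nd 2691 = n10148 := ndS (p := 1712) (l := 6) rfl N1712 D10148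
theorem N2692 : nd 2692 = n10149 := ndS (p := 1713) (l := 0) rfl N1713 D10149
theorem N2693 : nd 2693 = n10150 := ndS (p := 1713) (l := 2) rfl N1713 D10150
theorem N2694 : nd 2694 = n10151 := ndS (p := 1713) (l := 5) rfl N1713 D10151
theorem N2695 : nd 2695 = n10152 := ndS (p := 1713) (l := 6) rfl N1713 D10152
theorem N2696 : nd 2696 = n10153 := ndS (p := 1714) (l := 1) rfl N1714 D10153
theorem N2697 : nd 2697 = n10154 := ndS (p := 1714) (l := 3) rfl N1714 D10154
theorem N2698 : nd 2698 = n10155 := ndS (p := 1715) (l := 2) rfl N1715 D10155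
theorem N2699 : nd 2699 = n10156 := ndS (p := 1715) (l := 4) rfl N1715 D10156
theorem N2700 : nd 2700 = n10157 := ndS (p := 1715) (l := 5) rfl N1715 D10157
theorem N2701 : nd 2701 = n10158 := ndS (p := 1716) (l := 1) rfl N1716 D10158
theorem N2702 : nd 2702 = n10159 := ndS (p := 1717) (l := 0) rfl N1717 D10159
theorem N2703 : nd 2703 = n10160 := ndS (p := 1717) (l := 2) rfl N1717 D10160
theorem N2704 : nd 2704 = n10161 := ndS (p := 1717) (l := 6) rfl N1717 D10161
theorem N2705 : nd 2705 = n10162 := ndS (p := 1718) (l := 1) rfl N1718 D10162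
theorem N2706 : nd 2706 = n10163 := ndS (p := 1718) (l := 2) rfl N1718 D10163
theorem N2707 : nd 2707 = n10164 := ndS (p := 1718) (l := 6) rfl N1718 D10164
theorem N2708 : nd 2708 = n10165 := ndS (p := 1719) (l := 3) rfl N1719 D10165
theorem N2709 : nd 2709 = n10166 := ndS (p := 1719) (l := 6) rfl N1719 D10166
theorem N2710 : nd 2710 = n10167 := ndS (p := 1720) (l := 5) rfl N1720 D10167
theorem N2711 : nd 2711 = n10169 := ndS (p := 1721) (l := 5) rfl N1721 D10169
theorem N2712 : nd 2712 = n10170 := ndS (p := 1721) (l := 6) rfl N1721 D10170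
theorem N2713 : nd 2713 = n10171 := ndS (p := 1722) (l := 1) rfl N1722 D10171
theorem N2714 : nd 2714 = n10172 := ndS (p := 1722) (l := 3) rfl N1722 D10172
theorem N2715 : nd 2715 = n10173 := ndS (p := 1722) (l := 5) rfl N1722 D10173
theorem N2716 : nd 2716 = n10174 := ndS (p := 1722) (l := 6) rfl N1722 D10174
theorem N2717 : nd 2717 = n10175 := ndS (p := 1723) (l := 6) rfl N1723 D10175
theorem N2718 : nd 2718 = n10176 := ndS (p := 1724) (l := 1) rfl N1724 D10176
theorem N2719 : nd 2719 = n10177 := ndS (p := 1724) (l := 5) rfl N1724 D10177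
theorem N2720 : nd 2720 = n10178 := ndS (p := 1725) (l := 0) rfl N1725 D10178
theorem N2721 : nd 2721 = n10179 := ndS (p := 1725) (l := 3) rfl N1725 D10179
theorem N2722 : nd 2722 = n10180 := ndS (p := 1725) (l := 5) rfl N1725 D10180
theorem N2723 : nd 2723 = n10181 := ndS (p := 1725) (l := 6) rfl N1725 D10181
theorem N2724 : nd 2724 = n10182 := ndS (p := 1726) (l := 2) rfl N1726 D10182
theorem N2725 : nd 2725 = n10183 := ndS (p := 1726) (l := 4) rfl N1726 D10183
theorem N2726 : nd 2726 = n10184 := ndS (p := 1726) (l := 6) rfl N1726 D10184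
theorem N2727 : nd 2727 = n10185 := ndS (p := 1727) (l := 1) rfl N1727 D10185
theorem N2728 : nd 2728 = n10186 := ndS (p := 1728) (l := 0) rfl N1728 D10186
theorem N2729 : nd 2729 = n10187 := ndS (p := 1728) (l := 2) rfl N1728 D10187
theorem N2730 : nd 2730 = n10188 := ndS (p := 1728) (l := 5) rfl N1728 D10188
theorem N2731 : nd 2731 = n10189 := ndS (p := 1729) (l := 3) rfl N1729 D10189
theorem N2732 : nd 2732 = n10190 := ndS (p := 1729) (l := 4) rfl N1729 D10190
theorem N2733 : nd 2733 = n10191 := ndS (p := 1729) (l := 6) rfl N1729 D10191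
theorem N2734 : nd 2734 = n10192 := ndS (p := 1730) (l := 6) rfl N1730 D10192
theorem N2735 : nd 2735 = n10193 := ndS (p := 1731) (l := 1) rfl N1731 D10193
theorem N2736 : nd 2736 = n10194 := ndS (p := 1731) (l := 5) rfl N1731 D10194
theorem N2737 : nd 2737 = n10195 := ndS (p := 1732) (l := 0) rfl N1732 D10195
theorem N2738 : nd 2738 = n10196 := ndS (p := 1732) (l := 2) rfl N1732 D10196
theorem N2739 : nd 2739 = n10197 := ndS (p := 1732) (l := 5) rfl N1732 D10197
theorem N2740 : nd 2740 = n10198 := ndS (p := 1733) (l := 1) rfl N1733 D10198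
theorem N2741 : nd 2741 = n10199 := ndS (p := 1734) (l := 1) rfl N1734 D10199
theorem N2742 : nd 2742 = n10200 := ndS (p := 1734) (l := 2) rfl N1734 D10200
theorem N2743 : nd 2743 = n10201 := ndS (p := 1735) (l := 3) rfl N1735 D10201
theorem N2744 : nd 2744 = n10202 := ndS (p := 1735) (l := 5) rfl N1735 D10202
theorem N2745 : nd 2745 = n10203 := ndS (p := 1736) (l := 1) rfl N1736 D10203
theorem N2746 : nd 2746 = n10204 := ndS (p := 1737) (l := 0) rfl N1737 D10204
theorem N2747 : nd 2747 = n10205 := ndS (p := 1737) (l := 2) rfl N1737 D10205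
theorem N2748 : nd 2748 = n10206 := ndS (p := 1737) (l := 6) rfl N1737 D10206
theorem N2749 : nd 2749 = n10207 := ndS (p := 1738) (l := 0) rfl N1738 D10207
theorem N2750 : nd 2750 = n10208 := ndS (p := 1738) (l := 2) rfl N1738 D10208
theorem N2751 : nd 2751 = n10209 := ndS (p := 1738) (l := 5) rfl N1738 D10209
theorem N2752 : nd 2752 = n10210 := ndS (p := 1738) (l := 6) rfl N1738 D10210
theorem N2753 : nd 2753 = n10211 := ndS (p := 1739) (l := 1) rfl N1739 D10211
theorem N2754 : nd 2754 = n10212 := ndS (p := 1739) (l := 3) rfl N1739 D10212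
theorem N2755 : nd 2755 = n10213 := ndS (p := 1739) (l := 5) rfl N1739 D10213
theorem N2756 : nd 2756 = n10214 := ndS (p := 1740) (l := 1) rfl N1740 D10214
theorem N2757 : nd 2757 = n10215 := ndS (p := 1741) (l := 2) rfl N1741 D10215
theorem N2758 : nd 2758 = n10216 := ndS (p := 1741) (l := 4) rfl N1741 D10216
theorem N2759 : nd 2759 = n10217 := ndS (p := 1741) (l := 5) rfl N1741 D10217
theorem N2760 : nd 2760 = n10218 := ndS (p := 1742) (l := 6) rfl N1742 D10218
theorem N2761 : nd 2761 = n10219 := ndS (p := 1743) (l := 1) rfl N1743 D10219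
theorem N2762 : nd 2762 = n10221 := ndS (p := 1744) (l := 5) rfl N1744 D10221
theorem N2763 : nd 2763 = n10222 := ndS (p := 1744) (l := 6) rfl N1744 D10222
theorem N2764 : nd 2764 = n10223 := ndS (p := 1745) (l := 1) rfl N1745 D10223
theorem N2765 : nd 2765 = n10224 := ndS (p := 1745) (l := 3) rfl N1745 D10224
theorem N2766 : nd 2766 = n10225 := ndS (p := 1745) (l := 5) rfl N1745 D10225
theorem N2767 : nd 2767 = n10226 := ndS (p := 1745) (l := 6) rfl N1745 D10226
theorem N2768 : nd 2768 = n10227 := ndS (p := 1746) (l := 1) rfl N1746 D10227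
theorem N2769 : nd 2769 = n10228 := ndS (p := 1746) (l := 6) rfl N1746 D10228
theorem N2770 : nd 2770 = n10229 := ndS (p := 1747) (l := 5) rfl N1747 D10229
theorem N2771 : nd 2771 = n10230 := ndS (p := 1748) (l := 0) rfl N1748 D10230
theorem N2772 : nd 2772 = n10231 := ndS (p := 1748) (l := 3) rfl N1748 D10231
theorem N2773 : nd 2773 = n10232 := ndS (p := 1748) (l := 5) rfl N1748 D10232
theorem N2774 : nd 2774 = n10233 := ndS (p := 1748) (l := 6) rfl N1748 D10233
theorem N2775 : nd 2775 = n10234 := ndS (p := 1749) (l := 2) rfl N1749 D10234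
theorem N2776 : nd 2776 = n10235 := ndS (p := 1749) (l := 4) rfl N1749 D10235
theorem N2777 : nd 2777 = n10236 := ndS (p := 1749) (l := 5) rfl N1749 D10236
theorem N2778 : nd 2778 = n10237 := ndS (p := 1750) (l := 1) rfl N1750 D10237
theorem N2779 : nd 2779 = n10238 := ndS (p := 1751) (l := 0) rfl N1751 D10238
theorem N2780 : nd 2780 = n10239 := ndS (p := 1751) (l := 2) rfl N1751 D10239
theorem N2781 : nd 2781 = n10240 := ndS (p := 1751) (l := 6) rfl N1751 D10240
theorem N2782 : nd 2782 = n10241 := ndS (p := 1752) (l := 3) rfl N1752 D10241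
theorem N2783 : nd 2783 = n10242 := ndS (p := 1752) (l := 4) rfl N1752 D10242
theorem N2784 : nd 2784 = n10243 := ndS (p := 1752) (l := 5) rfl N1752 D10243
theorem N2785 : nd 2785 = n10244 := ndS (p := 1753) (l := 5) rfl N1753 D10244
theorem N2786 : nd 2786 = n10245 := ndS (p := 1754) (l := 1) rfl N1754 D10245
theorem N2787 : nd 2787 = n10246 := ndS (p := 1754) (l := 6) rfl N1754 D10246
theorem N2788 : nd 2788 = n10247 := ndS (p := 1755) (l := 0) rfl N1755 D10247
theorem N2789 : nd 2789 = n10248 := ndS (p := 1755) (l := 2) rfl N1755 D10248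
theorem N2790 : nd 2790 = n10249 := ndS (p := 1755) (l := 6) rfl N1755 D10249
theorem N2791 : nd 2791 = n10250 := ndS (p := 1756) (l := 1) rfl N1756 D10250
theorem N2792 : nd 2792 = n10251 := ndS (p := 1757) (l := 1) rfl N1757 D10251
theorem N2793 : nd 2793 = n10252 := ndS (p := 1757) (l := 2) rfl N1757 D10252
theorem N2794 : nd 2794 = n10253 := ndS (p := 1758) (l := 3) rfl N1758 D10253
theorem N2795 : nd 2795 = n10254 := ndS (p := 1758) (l := 6) rfl N1758 D10254
theorem N2796 : nd 2796 = n10255 := ndS (p := 1759) (l := 1) rfl N1759 D10255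
theorem N2797 : nd 2797 = n10256 := ndS (p := 1760) (l := 0) rfl N1760 D10256
theorem N2798 : nd 2798 = n10257 := ndS (p := 1760) (l := 2) rfl N1760 D10257
theorem N2799 : nd 2799 = n10258 := ndS (p := 1760) (l := 5) rfl N1760 D10258
theorem N2800 : nd 2800 = n10259 := ndS (p := 1761) (l := 0) rfl N1761 D10259
theorem N2801 : nd 2801 = n10260 := ndS (p := 1761) (l := 2) rfl N1761 D10260
theorem N2802 : nd 2802 = n10261 := ndS (p := 1761) (l := 5) rfl N1761 D10261
theorem N2803 : nd 2803 = n10262 := ndS (p := 1761) (l := 6) rfl N1761 D10262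
theorem N2804 : nd 2804 = n10263 := ndS (p := 1762) (l := 1) rfl N1762 D10263
theorem N2805 : nd 2805 = n10264 := ndS (p := 1762) (l := 3) rfl N1762 D10264
theorem N2806 : nd 2806 = n10265 := ndS (p := 1762) (l := 6) rfl N1762 D10265
theorem N2807 : nd 2807 = n10266 := ndS (p := 1763) (l := 1) rfl N1763 D10266
theorem N2808 : nd 2808 = n10267 := ndS (p := 1764) (l := 2) rfl N1764 D10267
theorem N2809 : nd 2809 = n10268 := ndS (p := 1764) (l := 4) rfl N1764 D10268
theorem N2810 : nd 2810 = n10269 := ndS (p := 1764) (l := 6) rfl N1764 D10269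
theorem N2811 : nd 2811 = n10270 := ndS (p := 1765) (l := 5) rfl N1765 D10270
theorem N2812 : nd 2812 = n10271 := ndS (p := 1766) (l := 1) rfl N1766 D10271
theorem N2813 : nd 2813 = n10272 := ndS (p := 1767) (l := 1) rfl N1767 D10272
theorem N2814 : nd 2814 = n10273 := ndS (p := 1768) (l := 0) rfl N1768 D10273
theorem N2815 : nd 2815 = n10274 := ndS (p := 1768) (l := 2) rfl N1768 D10274
theorem N2816 : nd 2816 = n10276 := ndS (p := 1769) (l := 1) rfl N1769 D10276
theorem N2817 : nd 2817 = n10277 := ndS (p := 1769) (l := 2) rfl N1769 D10277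
theorem N2818 : nd 2818 = n10278 := ndS (p := 1769) (l := 5) rfl N1769 D10278
theorem N2819 : nd 2819 = n10279 := ndS (p := 1770) (l := 3) rfl N1770 D10279
theorem N2820 : nd 2820 = n10280 := ndS (p := 1770) (l := 5) rfl N1770 D10280
theorem N2821 : nd 2821 = n10281 := ndS (p := 1771) (l := 6) rfl N1771 D10281
theorem N2822 : nd 2822 = n10282 := ndS (p := 1772) (l := 4) rfl N1772 D10282
theorem N2823 : nd 2823 = n10283 := ndS (p := 1773) (l := 2) rfl N1773 D10283
theorem N2824 : nd 2824 = n10284 := ndS (p := 1774) (l := 1) rfl N1774 D10284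
theorem N2825 : nd 2825 = n10285 := ndS (p := 1774) (l := 3) rfl N1774 D10285
theorem N2826 : nd 2826 = n10286 := ndS (p := 1775) (l := 0) rfl N1775 D10286
theorem N2827 : nd 2827 = n10287 := ndS (p := 1775) (l := 3) rfl N1775 D10287
theorem N2828 : nd 2828 = n10288 := ndS (p := 1775) (l := 5) rfl N1775 D10288
theorem N2829 : nd 2829 = n10289 := ndS (p := 1775) (l := 6) rfl N1775 D10289
theorem N2830 : nd 2830 = n10290 := ndS (p := 1776) (l := 4) rfl N1776 D10290
theorem N2831 : nd 2831 = n10291 := ndS (p := 1777) (l := 1) rfl N1777 D10291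
theorem N2832 : nd 2832 = n10292 := ndS (p := 1777) (l := 4) rfl N1777 D10292
theorem N2833 : nd 2833 = n10293 := ndS (p := 1779) (l := 1) rfl N1779 D10293
theorem N2834 : nd 2834 = n10294 := ndS (p := 1780) (l := 0) rfl N1780 D10294
theorem N2835 : nd 2835 = n10295 := ndS (p := 1780) (l := 2) rfl N1780 D10295
theorem N2836 : nd 2836 = n10297 := ndS (p := 1781) (l := 1) rfl N1781 D10297
theorem N2837 : nd 2837 = n10298 := ndS (p := 1781) (l := 2) rfl N1781 D10298
theorem N2838 : nd 2838 = n10299 := ndS (p := 1781) (l := 6) rfl N1781 D10299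
theorem N2839 : nd 2839 = n10300 := ndS (p := 1782) (l := 3) rfl N1782 D10300
theorem N2840 : nd 2840 = n10301 := ndS (p := 1782) (l := 6) rfl N1782 D10301
theorem N2841 : nd 2841 = n10302 := ndS (p := 1783) (l := 5) rfl N1783 D10302
theorem N2842 : nd 2842 = n10303 := ndS (p := 1784) (l := 4) rfl N1784 D10303
theorem N2843 : nd 2843 = n10304 := ndS (p := 1785) (l := 2) rfl N1785 D10304
theorem N2844 : nd 2844 = n10305 := ndS (p := 1786) (l := 1) rfl N1786 D10305
theorem N2845 : nd 2845 = n10306 := ndS (p := 1786) (l := 3) rfl N1786 D10306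
theorem N2846 : nd 2846 = n10307 := ndS (p := 1787) (l := 0) rfl N1787 D10307
theorem N2847 : nd 2847 = n10308 := ndS (p := 1787) (l := 3) rfl N1787 D10308
theorem N2848 : nd 2848 = n10309 := ndS (p := 1787) (l := 5) rfl N1787 D10309
theorem N2849 : nd 2849 = n10310 := ndS (p := 1787) (l := 6) rfl N1787 D10310
theorem N2850 : nd 2850 = n10311 := ndS (p := 1788) (l := 4) rfl N1788 D10311
theorem N2851 : nd 2851 = n10312 := ndS (p := 1789) (l := 1) rfl N1789 D10312
theorem N2852 : nd 2852 = n10313 := ndS (p := 1789) (l := 4) rfl N1789 D10313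
theorem N2853 : nd 2853 = n10314 := ndS (p := 1791) (l := 1) rfl N1791 D10314
theorem N2854 : nd 2854 = n10315 := ndS (p := 1791) (l := 4) rfl N1791 D10315
theorem N2855 : nd 2855 = n10316 := ndS (p := 1793) (l := 3) rfl N1793 D10316
theorem N2856 : nd 2856 = n10317 := ndS (p := 1794) (l := 3) rfl N1794 D10317
theorem N2857 : nd 2857 = n10319 := ndS (p := 1795) (l := 2) rfl N1795 D10319
theorem N2858 : nd 2858 = n10320 := ndS (p := 1795) (l := 4) rfl N1795 D10320
theorem N2859 : nd 2859 = n10321 := ndS (p := 1796) (l := 3) rfl N1796 D10321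
theorem N2860 : nd 2860 = n10323 := ndS (p := 1797) (l := 2) rfl N1797 D10323
theorem N2861 : nd 2861 = n10326 := ndS (p := 1797) (l := 6) rfl N1797 D10326
theorem N2862 : nd 2862 = n10327 := ndS (p := 1799) (l := 1) rfl N1799 D10327
theorem N2863 : nd 2863 = n10328 := ndS (p := 1799) (l := 4) rfl N1799 D10328
theorem N2864 : nd 2864 = n10329 := ndS (p := 1801) (l := 0) rfl N1801 D10329
theorem N2865 : nd 2865 = n10330 := ndS (p := 1801) (l := 3) rfl N1801 D10330
theorem N2866 : nd 2866 = n10331 := ndS (p := 1801) (l := 4) rfl N1801 D10331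
theorem N2867 : nd 2867 = n10332 := ndS (p := 1801) (l := 5) rfl N1801 D10332
theorem N2868 : nd 2868 = n10333 := ndS (p := 1801) (l := 6) rfl N1801 D10333
theorem N2869 : nd 2869 = n10334 := ndS (p := 1802) (l := 4) rfl N1802 D10334
theorem N2870 : nd 2870 = n10335 := ndS (p := 1803) (l := 3) rfl N1803 D10335
theorem N2871 : nd 2871 = n10336 := ndS (p := 1804) (l := 1) rfl N1804 D10336
theorem N2872 : nd 2872 = n10337 := ndS (p := 1804) (l := 4) rfl N1804 D10337
theorem N2873 : nd 2873 = n10338 := ndS (p := 1806) (l := 3) rfl N1806 D10338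
theorem N2874 : nd 2874 = n10339 := ndS (p := 1807) (l := 3) rfl N1807 D10339
theorem N2875 : nd 2875 = n10340 := ndS (p := 1808) (l := 2) rfl N1808 D10340
theorem N2876 : nd 2876 = n10341 := ndS (p := 1808) (l := 4) rfl N1808 D10341
theorem N2877 : nd 2877 = n10342 := ndS (p := 1809) (l := 3) rfl N1809 D10342
theorem N2878 : nd 2878 = n10343 := ndS (p := 1810) (l := 2) rfl N1810 D10343
theorem N2879 : nd 2879 = n10345 := ndS (p := 1810) (l := 5) rfl N1810 D10345
theorem N2880 : nd 2880 = n10347 := ndS (p := 1812) (l := 1) rfl N1812 D10347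
theorem N2881 : nd 2881 = n10348 := ndS (p := 1812) (l := 4) rfl N1812 D10348
theorem N2882 : nd 2882 = n10349 := ndS (p := 1814) (l := 0) rfl N1814 D10349
theorem N2883 : nd 2883 = n10350 := ndS (p := 1814) (l := 3) rfl N1814 D10350
theorem N2884 : nd 2884 = n10351 := ndS (p := 1814) (l := 4) rfl N1814 D10351
theorem N2885 : nd 2885 = n10352 := ndS (p := 1814) (l := 5) rfl N1814 D10352
theorem N2886 : nd 2886 = n10353 := ndS (p := 1814) (l := 6) rfl N1814 D10353
theorem N2887 : nd 2887 = n10354 := ndS (p := 1815) (l := 4) rfl N1815 D10354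
theorem N2888 : nd 2888 = n10355 := ndS (p := 1816) (l := 3) rfl N1816 D10355
theorem N2889 : nd 2889 = n10404 := ndS (p := 1819) (l := 0) rfl N1819 D10404
theorem N2890 : nd 2890 = n10406 := ndS (p := 1819) (l := 5) rfl N1819 D10406
theorem N2891 : nd 2891 = n10410 := ndS (p := 1820) (l := 1) rfl N1820 D10410
theorem N2892 : nd 2892 = n10412 := ndS (p := 1821) (l := 2) rfl N1821 D10412
theorem N2893 : nd 2893 = n10413 := ndS (p := 1822) (l := 1) rfl N1822 D10413
theorem N2894 : nd 2894 = n10415 := ndS (p := 1822) (l := 5) rfl N1822 D10415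
theorem N2895 : nd 2895 = n10416 := ndS (p := 1822) (l := 6) rfl N1822 D10416
theorem N2896 : nd 2896 = n10420 := ndS (p := 1823) (l := 1) rfl N1823 D10420
theorem N2897 : nd 2897 = n10421 := ndS (p := 1823) (l := 6) rfl N1823 D10421
theorem N2898 : nd 2898 = n10426 := ndS (p := 1825) (l := 0) rfl N1825 D10426
theorem N2899 : nd 2899 = n10427 := ndS (p := 1825) (l := 2) rfl N1825 D10427
theorem N2900 : nd 2900 = n10428 := ndS (p := 1825) (l := 6) rfl N1825 D10428
theorem N2901 : nd 2901 = n10432 := ndS (p := 1826) (l := 1) rfl N1826 D10432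
theorem N2902 : nd 2902 = n10433 := ndS (p := 1826) (l := 2) rfl N1826 D10433
theorem N2903 : nd 2903 = n10434 := ndS (p := 1827) (l := 3) rfl N1827 D10434
theorem N2904 : nd 2904 = n10435 := ndS (p := 1827) (l := 6) rfl N1827 D10435
theorem N2905 : nd 2905 = n10457 := ndS (p := 1831) (l := 1) rfl N1831 D10457
theorem N2906 : nd 2906 = n10459 := ndS (p := 1832) (l := 2) rfl N1832 D10459
theorem N2907 : nd 2907 = n10460 := ndS (p := 1833) (l := 1) rfl N1833 D10460
theorem N2908 : nd 2908 = n10462 := ndS (p := 1833) (l := 5) rfl N1833 D10462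
theorem N2909 : nd 2909 = n10468 := ndS (p := 1835) (l := 1) rfl N1835 D10468
theorem N2910 : nd 2910 = n10473 := ndS (p := 1836) (l := 0) rfl N1836 D10473
theorem N2911 : nd 2911 = n10474 := ndS (p := 1836) (l := 2) rfl N1836 D10474
theorem N2912 : nd 2912 = n10475 := ndS (p := 1836) (l := 5) rfl N1836 D10475
theorem N2913 : nd 2913 = n10479 := ndS (p := 1837) (l := 1) rfl N1837 D10479
theorem N2914 : nd 2914 = n10480 := ndS (p := 1837) (l := 2) rfl N1837 D10480
theorem N2915 : nd 2915 = n10481 := ndS (p := 1838) (l := 3) rfl N1838 D10481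
theorem N2916 : nd 2916 = n10482 := ndS (p := 1838) (l := 5) rfl N1838 D10482
theorem N2917 : nd 2917 = n10633 := ndS (p := 1841) (l := 0) rfl N1841 D10633
theorem N2918 : nd 2918 = n10634 := ndS (p := 1841) (l := 5) rfl N1841 D10634
theorem N2919 : nd 2919 = n10635 := ndS (p := 1841) (l := 6) rfl N1841 D10635
theorem N2920 : nd 2920 = n10636 := ndS (p := 1842) (l := 1) rfl N1842 D10636
theorem N2921 : nd 2921 = n10637 := ndS (p := 1842) (l := 3) rfl N1842 D10637
theorem N2922 : nd 2922 = n10638 := ndS (p := 1842) (l := 5) rfl N1842 D10638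
theorem N2923 : nd 2923 = n10639 := ndS (p := 1842) (l := 6) rfl N1842 D10639
theorem N2924 : nd 2924 = n10640 := ndS (p := 1843) (l := 2) rfl N1843 D10640
theorem N2925 : nd 2925 = n10641 := ndS (p := 1843) (l := 5) rfl N1843 D10641
theorem N2926 : nd 2926 = n10642 := ndS (p := 1843) (l := 6) rfl N1843 D10642
theorem N2927 : nd 2927 = n10643 := ndS (p := 1844) (l := 6) rfl N1844 D10643
theorem N2928 : nd 2928 = n10644 := ndS (p := 1845) (l := 5) rfl N1845 D10644
theorem N2929 : nd 2929 = n10645 := ndS (p := 1846) (l := 1) rfl N1846 D10645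
theorem N2930 : nd 2930 = n10646 := ndS (p := 1846) (l := 3) rfl N1846 D10646
theorem N2931 : nd 2931 = n10647 := ndS (p := 1846) (l := 5) rfl N1846 D10647
theorem N2932 : nd 2932 = n10648 := ndS (p := 1846) (l := 6) rfl N1846 D10648
theorem N2933 : nd 2933 = n10649 := ndS (p := 1847) (l := 2) rfl N1847 D10649
theorem N2934 : nd 2934 = n10650 := ndS (p := 1847) (l := 5) rfl N1847 D10650
theorem N2935 : nd 2935 = n10651 := ndS (p := 1847) (l := 6) rfl N1847 D10651
theorem N2936 : nd 2936 = n10652 := ndS (p := 1848) (l := 1) rfl N1848 D10652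
theorem N2937 : nd 2937 = n10653 := ndS (p := 1848) (l := 6) rfl N1848 D10653
theorem N2938 : nd 2938 = n10654 := ndS (p := 1849) (l := 1) rfl N1849 D10654
theorem N2939 : nd 2939 = n10655 := ndS (p := 1849) (l := 5) rfl N1849 D10655
theorem N2940 : nd 2940 = n10656 := ndS (p := 1850) (l := 1) rfl N1850 D10656
theorem N2941 : nd 2941 = n10657 := ndS (p := 1851) (l := 1) rfl N1851 D10657
theorem N2942 : nd 2942 = n10658 := ndS (p := 1852) (l := 0) rfl N1852 D10658
theorem N2943 : nd 2943 = n10659 := ndS (p := 1852) (l := 6) rfl N1852 D10659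
theorem N2944 : nd 2944 = n10660 := ndS (p := 1853) (l := 0) rfl N1853 D10660
theorem N2945 : nd 2945 = n10661 := ndS (p := 1853) (l := 5) rfl N1853 D10661
theorem N2946 : nd 2946 = n10662 := ndS (p := 1854) (l := 0) rfl N1854 D10662
theorem N2947 : nd 2947 = n10663 := ndS (p := 1854) (l := 2) rfl N1854 D10663
theorem N2948 : nd 2948 = n10664 := ndS (p := 1854) (l := 5) rfl N1854 D10664
theorem N2949 : nd 2949 = n10665 := ndS (p := 1854) (l := 6) rfl N1854 D10665
theorem N2950 : nd 2950 = n10666 := ndS (p := 1855) (l := 1) rfl N1855 D10666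
theorem N2951 : nd 2951 = n10667 := ndS (p := 1856) (l := 1) rfl N1856 D10667
theorem N2952 : nd 2952 = n10668 := ndS (p := 1857) (l := 0) rfl N1857 D10668
theorem N2953 : nd 2953 = n10669 := ndS (p := 1857) (l := 6) rfl N1857 D10669
theorem N2954 : nd 2954 = n10670 := ndS (p := 1858) (l := 1) rfl N1858 D10670
theorem N2955 : nd 2955 = n10671 := ndS (p := 1859) (l := 0) rfl N1859 D10671
theorem N2956 : nd 2956 = n10672 := ndS (p := 1859) (l := 5) rfl N1859 D10672
theorem N2957 : nd 2957 = n10673 := ndS (p := 1860) (l := 1) rfl N1860 D10673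
theorem N2958 : nd 2958 = n10674 := ndS (p := 1861) (l := 1) rfl N1861 D10674
theorem N2959 : nd 2959 = n10675 := ndS (p := 1861) (l := 6) rfl N1861 D10675
theorem N2960 : nd 2960 = n10676 := ndS (p := 1862) (l := 5) rfl N1862 D10676
theorem N2961 : nd 2961 = n10677 := ndS (p := 1863) (l := 1) rfl N1863 D10677
theorem N2962 : nd 2962 = n10678 := ndS (p := 1863) (l := 5) rfl N1863 D10678
theorem N2963 : nd 2963 = n10679 := ndS (p := 1864) (l := 6) rfl N1864 D10679
theorem N2964 : nd 2964 = n10680 := ndS (p := 1865) (l := 5) rfl N1865 D10680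
theorem N2965 : nd 2965 = n10681 := ndS (p := 1865) (l := 6) rfl N1865 D10681
theorem N2966 : nd 2966 = n10682 := ndS (p := 1866) (l := 1) rfl N1866 D10682
theorem N2967 : nd 2967 = n10683 := ndS (p := 1867) (l := 1) rfl N1867 D10683
theorem N2968 : nd 2968 = n10684 := ndS (p := 1868) (l := 2) rfl N1868 D10684
theorem N2969 : nd 2969 = n10685 := ndS (p := 1869) (l := 2) rfl N1869 D10685
theorem N2970 : nd 2970 = n10686 := ndS (p := 1870) (l := 1) rfl N1870 D10686
theorem N2971 : nd 2971 = n10687 := ndS (p := 1870) (l := 5) rfl N1870 D10687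
theorem N2972 : nd 2972 = n10688 := ndS (p := 1870) (l := 6) rfl N1870 D10688
theorem N2973 : nd 2973 = n10689 := ndS (p := 1871) (l := 1) rfl N1871 D10689
theorem N2974 : nd 2974 = n10690 := ndS (p := 1871) (l := 6) rfl N1871 D10690
theorem N2975 : nd 2975 = n10691 := ndS (p := 1872) (l := 1) rfl N1872 D10691
theorem N2976 : nd 2976 = n10692 := ndS (p := 1872) (l := 5) rfl N1872 D10692
theorem N2977 : nd 2977 = n10693 := ndS (p := 1873) (l := 0) rfl N1873 D10693
theorem N2978 : nd 2978 = n10694 := ndS (p := 1873) (l := 2) rfl N1873 D10694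
theorem N2979 : nd 2979 = n10695 := ndS (p := 1873) (l := 6) rfl N1873 D10695
theorem N2980 : nd 2980 = n10696 := ndS (p := 1874) (l := 0) rfl N1874 D10696
theorem N2981 : nd 2981 = n10697 := ndS (p := 1874) (l := 2) rfl N1874 D10697
theorem N2982 : nd 2982 = n10698 := ndS (p := 1874) (l := 5) rfl N1874 D10698
theorem N2983 : nd 2983 = n10699 := ndS (p := 1875) (l := 3) rfl N1875 D10699
theorem N2984 : nd 2984 = n10700 := ndS (p := 1876) (l := 3) rfl N1876 D10700
theorem N2985 : nd 2985 = n10701 := ndS (p := 1877) (l := 1) rfl N1877 D10701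
theorem N2986 : nd 2986 = n10702 := ndS (p := 1877) (l := 3) rfl N1877 D10702
theorem N2987 : nd 2987 = n10703 := ndS (p := 1877) (l := 5) rfl N1877 D10703
theorem N2988 : nd 2988 = n10704 := ndS (p := 1877) (l := 6) rfl N1877 D10704
theorem N2989 : nd 2989 = n10705 := ndS (p := 1878) (l := 5) rfl N1878 D10705
theorem N2990 : nd 2990 = n10706 := ndS (p := 1878) (l := 6) rfl N1878 D10706
theorem N2991 : nd 2991 = n10707 := ndS (p := 1879) (l := 1) rfl N1879 D10707
theorem N2992 : nd 2992 = n10708 := ndS (p := 1879) (l := 6) rfl N1879 D10708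
theorem N2993 : nd 2993 = n10709 := ndS (p := 1880) (l := 1) rfl N1880 D10709
theorem N2994 : nd 2994 = n10710 := ndS (p := 1880) (l := 5) rfl N1880 D10710
theorem N2995 : nd 2995 = n10711 := ndS (p := 1881) (l := 1) rfl N1881 D10711
theorem N2996 : nd 2996 = n10712 := ndS (p := 1881) (l := 6) rfl N1881 D10712
theorem N2997 : nd 2997 = n10713 := ndS (p := 1882) (l := 1) rfl N1882 D10713
theorem N2998 : nd 2998 = n10714 := ndS (p := 1882) (l := 5) rfl N1882 D10714
theorem N2999 : nd 2999 = n10715 := ndS (p := 1883) (l := 0) rfl N1883 D10715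
theorem N3000 : nd 3000 = n10716 := ndS (p := 1883) (l := 2) rfl N1883 D10716
theorem N3001 : nd 3001 = n10717 := ndS (p := 1883) (l := 6) rfl N1883 D10717
theorem N3002 : nd 3002 = n10718 := ndS (p := 1884) (l := 1) rfl N1884 D10718
theorem N3003 : nd 3003 = n10719 := ndS (p := 1885) (l := 0) rfl N1885 D10719
theorem N3004 : nd 3004 = n10720 := ndS (p := 1885) (l := 2) rfl N1885 D10720
theorem N3005 : nd 3005 = n10721 := ndS (p := 1885) (l := 5) rfl N1885 D10721
theorem N3006 : nd 3006 = n10722 := ndS (p := 1886) (l := 1) rfl N1886 D10722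
theorem N3007 : nd 3007 = n10723 := ndS (p := 1887) (l := 3) rfl N1887 D10723
theorem N3008 : nd 3008 = n10724 := ndS (p := 1887) (l := 6) rfl N1887 D10724
theorem N3009 : nd 3009 = n10725 := ndS (p := 1889) (l := 2) rfl N1889 D10725
theorem N3010 : nd 3010 = n10726 := ndS (p := 1890) (l := 3) rfl N1890 D10726
theorem N3011 : nd 3011 = n10727 := ndS (p := 1890) (l := 5) rfl N1890 D10727
theorem N3012 : nd 3012 = n10728 := ndS (p := 1892) (l := 2) rfl N1892 D10728
theorem N3013 : nd 3013 = n10731 := ndS (p := 1893) (l := 3) rfl N1893 D10731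
theorem N3014 : nd 3014 = n10732 := ndS (p := 1893) (l := 5) rfl N1893 D10732
theorem N3015 : nd 3015 = n10733 := ndS (p := 1893) (l := 6) rfl N1893 D10733
theorem N3016 : nd 3016 = n10734 := ndS (p := 1894) (l := 2) rfl N1894 D10734
theorem N3017 : nd 3017 = n10735 := ndS (p := 1894) (l := 4) rfl N1894 D10735
theorem N3018 : nd 3018 = n10736 := ndS (p := 1894) (l := 5) rfl N1894 D10736
theorem N3019 : nd 3019 = n10737 := ndS (p := 1894) (l := 6) rfl N1894 D10737
theorem N3020 : nd 3020 = n10738 := ndS (p := 1895) (l := 1) rfl N1895 D10738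
theorem N3021 : nd 3021 = n10739 := ndS (p := 1896) (l := 1) rfl N1896 D10739
theorem N3022 : nd 3022 = n10740 := ndS (p := 1897) (l := 3) rfl N1897 D10740
theorem N3023 : nd 3023 = n10741 := ndS (p := 1897) (l := 4) rfl N1897 D10741
theorem N3024 : nd 3024 = n10742 := ndS (p := 1897) (l := 5) rfl N1897 D10742
theorem N3025 : nd 3025 = n10743 := ndS (p := 1897) (l := 6) rfl N1897 D10743
theorem N3026 : nd 3026 = n10744 := ndS (p := 1898) (l := 5) rfl N1898 D10744
theorem N3027 : nd 3027 = n10745 := ndS (p := 1898) (l := 6) rfl N1898 D10745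
theorem N3028 : nd 3028 = n10746 := ndS (p := 1899) (l := 1) rfl N1899 D10746
theorem N3029 : nd 3029 = n10747 := ndS (p := 1899) (l := 6) rfl N1899 D10747
theorem N3030 : nd 3030 = n10748 := ndS (p := 1900) (l := 1) rfl N1900 D10748
theorem N3031 : nd 3031 = n10749 := ndS (p := 1900) (l := 5) rfl N1900 D10749
theorem N3032 : nd 3032 = n10750 := ndS (p := 1901) (l := 0) rfl N1901 D10750
theorem N3033 : nd 3033 = n10751 := ndS (p := 1901) (l := 2) rfl N1901 D10751
theorem N3034 : nd 3034 = n10752 := ndS (p := 1901) (l := 6) rfl N1901 D10752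
theorem N3035 : nd 3035 = n10753 := ndS (p := 1902) (l := 1) rfl N1902 D10753
theorem N3036 : nd 3036 = n10754 := ndS (p := 1903) (l := 0) rfl N1903 D10754
theorem N3037 : nd 3037 = n10755 := ndS (p := 1903) (l := 2) rfl N1903 D10755
theorem N3038 : nd 3038 = n10756 := ndS (p := 1903) (l := 5) rfl N1903 D10756
theorem N3039 : nd 3039 = n10757 := ndS (p := 1904) (l := 1) rfl N1904 D10757
theorem N3040 : nd 3040 = n10758 := ndS (p := 1905) (l := 1) rfl N1905 D10758
theorem N3041 : nd 3041 = n10759 := ndS (p := 1905) (l := 6) rfl N1905 D10759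
theorem N3042 : nd 3042 = n10760 := ndS (p := 1906) (l := 1) rfl N1906 D10760
theorem N3043 : nd 3043 = n10761 := ndS (p := 1906) (l := 5) rfl N1906 D10761
theorem N3044 : nd 3044 = n10762 := ndS (p := 1907) (l := 0) rfl N1907 D10762
theorem N3045 : nd 3045 = n10763 := ndS (p := 1907) (l := 2) rfl N1907 D10763
theorem N3046 : nd 3046 = n10764 := ndS (p := 1907) (l := 6) rfl N1907 D10764
theorem N3047 : nd 3047 = n10765 := ndS (p := 1908) (l := 1) rfl N1908 D10765
theorem N3048 : nd 3048 = n10766 := ndS (p := 1909) (l := 0) rfl N1909 D10766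
theorem N3049 : nd 3049 = n10767 := ndS (p := 1909) (l := 2) rfl N1909 D10767
theorem N3050 : nd 3050 = n10768 := ndS (p := 1909) (l := 5) rfl N1909 D10768
theorem N3051 : nd 3051 = n10769 := ndS (p := 1910) (l := 1) rfl N1910 D10769
theorem N3052 : nd 3052 = n10770 := ndS (p := 1911) (l := 1) rfl N1911 D10770
theorem N3053 : nd 3053 = n10771 := ndS (p := 1911) (l := 2) rfl N1911 D10771
theorem N3054 : nd 3054 = n10772 := ndS (p := 1911) (l := 6) rfl N1911 D10772
theorem N3055 : nd 3055 = n10773 := ndS (p := 1912) (l := 3) rfl N1912 D10773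
theorem N3056 : nd 3056 = n10774 := ndS (p := 1912) (l := 6) rfl N1912 D10774
theorem N3057 : nd 3057 = n10775 := ndS (p := 1913) (l := 1) rfl N1913 D10775
theorem N3058 : nd 3058 = n10776 := ndS (p := 1913) (l := 5) rfl N1913 D10776
theorem N3059 : nd 3059 = n10777 := ndS (p := 1914) (l := 0) rfl N1914 D10777
theorem N3060 : nd 3060 = n10778 := ndS (p := 1914) (l := 2) rfl N1914 D10778
theorem N3061 : nd 3061 = n10779 := ndS (p := 1914) (l := 5) rfl N1914 D10779
theorem N3062 : nd 3062 = n10780 := ndS (p := 1915) (l := 1) rfl N1915 D10780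
theorem N3063 : nd 3063 = n10781 := ndS (p := 1915) (l := 2) rfl N1915 D10781
theorem N3064 : nd 3064 = n10782 := ndS (p := 1915) (l := 5) rfl N1915 D10782
theorem N3065 : nd 3065 = n10783 := ndS (p := 1916) (l := 3) rfl N1916 D10783
theorem N3066 : nd 3066 = n10784 := ndS (p := 1916) (l := 5) rfl N1916 D10784
theorem N3067 : nd 3067 = n10785 := ndS (p := 1917) (l := 1) rfl N1917 D10785
theorem N3068 : nd 3068 = n10786 := ndS (p := 1917) (l := 6) rfl N1917 D10786
theorem N3069 : nd 3069 = n10787 := ndS (p := 1918) (l := 0) rfl N1918 D10787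
theorem N3070 : nd 3070 = n10788 := ndS (p := 1918) (l := 2) rfl N1918 D10788
theorem N3071 : nd 3071 = n10789 := ndS (p := 1918) (l := 6) rfl N1918 D10789
theorem N3072 : nd 3072 = n10790 := ndS (p := 1919) (l := 1) rfl N1919 D10790
theorem N3073 : nd 3073 = n10791 := ndS (p := 1919) (l := 3) rfl N1919 D10791
theorem N3074 : nd 3074 = n10792 := ndS (p := 1920) (l := 2) rfl N1920 D10792
theorem N3075 : nd 3075 = n10793 := ndS (p := 1920) (l := 4) rfl N1920 D10793
theorem N3076 : nd 3076 = n10794 := ndS (p := 1920) (l := 6) rfl N1920 D10794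
theorem N3077 : nd 3077 = n10795 := ndS (p := 1921) (l := 1) rfl N1921 D10795
theorem N3078 : nd 3078 = n10796 := ndS (p := 1922) (l := 3) rfl N1922 D10796
theorem N3079 : nd 3079 = n10797 := ndS (p := 1923) (l := 1) rfl N1923 D10797
theorem N3080 : nd 3080 = n10798 := ndS (p := 1923) (l := 3) rfl N1923 D10798
theorem N3081 : nd 3081 = n10799 := ndS (p := 1924) (l := 2) rfl N1924 D10799
theorem N3082 : nd 3082 = n10800 := ndS (p := 1924) (l := 4) rfl N1924 D10800
theorem N3083 : nd 3083 = n10801 := ndS (p := 1924) (l := 5) rfl N1924 D10801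
theorem N3084 : nd 3084 = n10802 := ndS (p := 1925) (l := 1) rfl N1925 D10802
theorem N3085 : nd 3085 = n10803 := ndS (p := 1926) (l := 3) rfl N1926 D10803
theorem N3086 : nd 3086 = n10804 := ndS (p := 1927) (l := 3) rfl N1927 D10804
theorem N3087 : nd 3087 = n10805 := ndS (p := 1927) (l := 6) rfl N1927 D10805
theorem N3088 : nd 3088 = n10806 := ndS (p := 1928) (l := 2) rfl N1928 D10806
theorem N3089 : nd 3089 = n10807 := ndS (p := 1928) (l := 4) rfl N1928 D10807
theorem N3090 : nd 3090 = n10808 := ndS (p := 1929) (l := 1) rfl N1929 D10808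
theorem N3091 : nd 3091 = n10809 := ndS (p := 1929) (l := 3) rfl N1929 D10809
theorem N3092 : nd 3092 = n10810 := ndS (p := 1929) (l := 4) rfl N1929 D10810
theorem N3093 : nd 3093 = n10811 := ndS (p := 1929) (l := 6) rfl N1929 D10811
theorem N3094 : nd 3094 = n10813 := ndS (p := 1932) (l := 2) rfl N1932 D10813
theorem N3095 : nd 3095 = n10814 := ndS (p := 1932) (l := 4) rfl N1932 D10814
theorem N3096 : nd 3096 = n10815 := ndS (p := 1933) (l := 3) rfl N1933 D10815
theorem N3097 : nd 3097 = n10816 := ndS (p := 1933) (l := 5) rfl N1933 D10816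
theorem N3098 : nd 3098 = n10817 := ndS (p := 1934) (l := 2) rfl N1934 D10817
theorem N3099 : nd 3099 = n10818 := ndS (p := 1934) (l := 4) rfl N1934 D10818
theorem N3100 : nd 3100 = n10819 := ndS (p := 1935) (l := 1) rfl N1935 D10819
theorem N3101 : nd 3101 = n10820 := ndS (p := 1935) (l := 3) rfl N1935 D10820
theorem N3102 : nd 3102 = n10821 := ndS (p := 1935) (l := 4) rfl N1935 D10821
theorem N3103 : nd 3103 = n10822 := ndS (p := 1935) (l := 5) rfl N1935 D10822
theorem N3104 : nd 3104 = n10824 := ndS (p := 1938) (l := 2) rfl N1938 D10824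
theorem N3105 : nd 3105 = n10825 := ndS (p := 1938) (l := 4) rfl N1938 D10825
theorem N3106 : nd 3106 = n10830 := ndS (p := 1945) (l := 0) rfl N1945 D10830
theorem N3107 : nd 3107 = n10831 := ndS (p := 1945) (l := 3) rfl N1945 D10831
theorem N3108 : nd 3108 = n10832 := ndS (p := 1945) (l := 5) rfl N1945 D10832
theorem N3109 : nd 3109 = n10833 := ndS (p := 1945) (l := 6) rfl N1945 D10833
theorem N3110 : nd 3110 = n10834 := ndS (p := 1946) (l := 5) rfl N1946 D10834
theorem N3111 : nd 3111 = n10835 := ndS (p := 1946) (l := 6) rfl N1946 D10835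
theorem N3112 : nd 3112 = n10836 := ndS (p := 1947) (l := 1) rfl N1947 D10836
theorem N3113 : nd 3113 = n10837 := ndS (p := 1948) (l := 1) rfl N1948 D10837
theorem N3114 : nd 3114 = n10838 := ndS (p := 1949) (l := 5) rfl N1949 D10838
theorem N3115 : nd 3115 = n10839 := ndS (p := 1949) (l := 6) rfl N1949 D10839
theorem N3116 : nd 3116 = n10840 := ndS (p := 1950) (l := 1) rfl N1950 D10840
theorem N3117 : nd 3117 = n10841 := ndS (p := 1950) (l := 6) rfl N1950 D10841
theorem N3118 : nd 3118 = n10842 := ndS (p := 1951) (l := 1) rfl N1951 D10842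
theorem N3119 : nd 3119 = n10843 := ndS (p := 1951) (l := 5) rfl N1951 D10843
theorem N3120 : nd 3120 = n10844 := ndS (p := 1952) (l := 0) rfl N1952 D10844
theorem N3121 : nd 3121 = n10845 := ndS (p := 1952) (l := 2) rfl N1952 D10845
theorem N3122 : nd 3122 = n10846 := ndS (p := 1952) (l := 6) rfl N1952 D10846
theorem N3123 : nd 3123 = n10847 := ndS (p := 1953) (l := 1) rfl N1953 D10847
theorem N3124 : nd 3124 = n10848 := ndS (p := 1954) (l := 0) rfl N1954 D10848
theorem N3125 : nd 3125 = n10849 := ndS (p := 1954) (l := 2) rfl N1954 D10849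
theorem N3126 : nd 3126 = n10850 := ndS (p := 1954) (l := 5) rfl N1954 D10850
theorem N3127 : nd 3127 = n10851 := ndS (p := 1955) (l := 1) rfl N1955 D10851
theorem N3128 : nd 3128 = n10852 := ndS (p := 1956) (l := 0) rfl N1956 D10852
theorem N3129 : nd 3129 = n10853 := ndS (p := 1956) (l := 2) rfl N1956 D10853
theorem N3130 : nd 3130 = n10854 := ndS (p := 1956) (l := 6) rfl N1956 D10854
theorem N3131 : nd 3131 = n10855 := ndS (p := 1957) (l := 1) rfl N1957 D10855
theorem N3132 : nd 3132 = n10856 := ndS (p := 1958) (l := 0) rfl N1958 D10856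
theorem N3133 : nd 3133 = n10857 := ndS (p := 1958) (l := 2) rfl N1958 D10857
theorem N3134 : nd 3134 = n10858 := ndS (p := 1958) (l := 5) rfl N1958 D10858
theorem N3135 : nd 3135 = n10859 := ndS (p := 1959) (l := 1) rfl N1959 D10859
theorem N3136 : nd 3136 = n10860 := ndS (p := 1960) (l := 1) rfl N1960 D10860
theorem N3137 : nd 3137 = n10861 := ndS (p := 1960) (l := 2) rfl N1960 D10861
theorem N3138 : nd 3138 = n10862 := ndS (p := 1960) (l := 6) rfl N1960 D10862
theorem N3139 : nd 3139 = n10863 := ndS (p := 1961) (l := 3) rfl N1961 D10863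
theorem N3140 : nd 3140 = n10864 := ndS (p := 1961) (l := 6) rfl N1961 D10864
theorem N3141 : nd 3141 = n10865 := ndS (p := 1962) (l := 1) rfl N1962 D10865
theorem N3142 : nd 3142 = n10866 := ndS (p := 1962) (l := 5) rfl N1962 D10866
theorem N3143 : nd 3143 = n10867 := ndS (p := 1963) (l := 0) rfl N1963 D10867
theorem N3144 : nd 3144 = n10868 := ndS (p := 1963) (l := 2) rfl N1963 D10868
theorem N3145 : nd 3145 = n10869 := ndS (p := 1963) (l := 5) rfl N1963 D10869
theorem N3146 : nd 3146 = n10870 := ndS (p := 1964) (l := 1) rfl N1964 D10870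
theorem N3147 : nd 3147 = n10871 := ndS (p := 1964) (l := 2) rfl N1964 D10871
theorem N3148 : nd 3148 = n10872 := ndS (p := 1964) (l := 5) rfl N1964 D10872
theorem N3149 : nd 3149 = n10873 := ndS (p := 1965) (l := 3) rfl N1965 D10873
theorem N3150 : nd 3150 = n10874 := ndS (p := 1965) (l := 5) rfl N1965 D10874
theorem N3151 : nd 3151 = n10875 := ndS (p := 1966) (l := 1) rfl N1966 D10875
theorem N3152 : nd 3152 = n10876 := ndS (p := 1966) (l := 6) rfl N1966 D10876
theorem N3153 : nd 3153 = n10877 := ndS (p := 1967) (l := 0) rfl N1967 D10877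
theorem N3154 : nd 3154 = n10878 := ndS (p := 1967) (l := 2) rfl N1967 D10878
theorem N3155 : nd 3155 = n10879 := ndS (p := 1967) (l := 6) rfl N1967 D10879
theorem N3156 : nd 3156 = n10880 := ndS (p := 1968) (l := 2) rfl N1968 D10880
theorem N3157 : nd 3157 = n10881 := ndS (p := 1969) (l := 1) rfl N1969 D10881
theorem N3158 : nd 3158 = n10882 := ndS (p := 1969) (l := 3) rfl N1969 D10882
theorem N3159 : nd 3159 = n10883 := ndS (p := 1970) (l := 4) rfl N1970 D10883
theorem N3160 : nd 3160 = n10884 := ndS (p := 1970) (l := 6) rfl N1970 D10884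
theorem N3161 : nd 3161 = n10885 := ndS (p := 1971) (l := 1) rfl N1971 D10885
theorem N3162 : nd 3162 = n10886 := ndS (p := 1971) (l := 5) rfl N1971 D10886
theorem N3163 : nd 3163 = n10887 := ndS (p := 1972) (l := 0) rfl N1972 D10887
theorem N3164 : nd 3164 = n10888 := ndS (p := 1972) (l := 2) rfl N1972 D10888
theorem N3165 : nd 3165 = n10889 := ndS (p := 1974) (l := 2) rfl N1974 D10889
theorem N3166 : nd 3166 = n10890 := ndS (p := 1975) (l := 3) rfl N1975 D10890
theorem N3167 : nd 3167 = n10891 := ndS (p := 1976) (l := 2) rfl N1976 D10891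
theorem N3168 : nd 3168 = n10892 := ndS (p := 1977) (l := 1) rfl N1977 D10892
theorem N3169 : nd 3169 = n10893 := ndS (p := 1977) (l := 3) rfl N1977 D10893
theorem N3170 : nd 3170 = n10894 := ndS (p := 1978) (l := 4) rfl N1978 D10894
theorem N3171 : nd 3171 = n10895 := ndS (p := 1978) (l := 5) rfl N1978 D10895
theorem N3172 : nd 3172 = n10896 := ndS (p := 1979) (l := 1) rfl N1979 D10896
theorem N3173 : nd 3173 = n10897 := ndS (p := 1979) (l := 6) rfl N1979 D10897
theorem N3174 : nd 3174 = n10898 := ndS (p := 1980) (l := 0) rfl N1980 D10898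
theorem N3175 : nd 3175 = n10899 := ndS (p := 1980) (l := 2) rfl N1980 D10899
theorem N3176 : nd 3176 = n10900 := ndS (p := 1982) (l := 2) rfl N1982 D10900
theorem N3177 : nd 3177 = n10901 := ndS (p := 1983) (l := 3) rfl N1983 D10901
theorem N3178 : nd 3178 = n10902 := ndS (p := 1984) (l := 1) rfl N1984 D10902
theorem N3179 : nd 3179 = n10903 := ndS (p := 1984) (l := 3) rfl N1984 D10903
theorem N3180 : nd 3180 = n10904 := ndS (p := 1985) (l := 2) rfl N1985 D10904
theorem N3181 : nd 3181 = n10905 := ndS (p := 1986) (l := 3) rfl N1986 D10905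
theorem N3182 : nd 3182 = n10906 := ndS (p := 1987) (l := 3) rfl N1987 D10906
theorem N3183 : nd 3183 = n10907 := ndS (p := 1988) (l := 2) rfl N1988 D10907
theorem N3184 : nd 3184 = n10909 := ndS (p := 1989) (l := 1) rfl N1989 D10909
theorem N3185 : nd 3185 = n10910 := ndS (p := 1989) (l := 3) rfl N1989 D10910
theorem N3186 : nd 3186 = n10911 := ndS (p := 1990) (l := 2) rfl N1990 D10911
theorem N3187 : nd 3187 = n10912 := ndS (p := 1991) (l := 3) rfl N1991 D10912
theorem N3188 : nd 3188 = n10913 := ndS (p := 1992) (l := 3) rfl N1992 D10913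
theorem N3189 : nd 3189 = n10914 := ndS (p := 1993) (l := 2) rfl N1993 D10914
theorem N3190 : nd 3190 = n10916 := ndS (p := 1994) (l := 1) rfl N1994 D10916
theorem N3191 : nd 3191 = n10923 := ndS (p := 1995) (l := 1) rfl N1995 D10923
theorem N3192 : nd 3192 = n10930 := ndS (p := 1996) (l := 5) rfl N1996 D10930
theorem N3193 : nd 3193 = n10931 := ndS (p := 1996) (l := 6) rfl N1996 D10931
theorem N3194 : nd 3194 = n10932 := ndS (p := 1997) (l := 1) rfl N1997 D10932
theorem N3195 : nd 3195 = n10933 := ndS (p := 1997) (l := 6) rfl N1997 D10933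
theorem N3196 : nd 3196 = n10934 := ndS (p := 1998) (l := 1) rfl N1998 D10934
theorem N3197 : nd 3197 = n10935 := ndS (p := 1998) (l := 5) rfl N1998 D10935
theorem N3198 : nd 3198 = n10936 := ndS (p := 1999) (l := 0) rfl N1999 D10936
theorem N3199 : nd 3199 = n10937 := ndS (p := 1999) (l := 2) rfl N1999 D10937
theorem N3200 : nd 3200 = n10938 := ndS (p := 1999) (l := 6) rfl N1999 D10938
theorem N3201 : nd 3201 = n10939 := ndS (p := 2000) (l := 0) rfl N2000 D10939
theorem N3202 : nd 3202 = n10940 := ndS (p := 2000) (l := 2) rfl N2000 D10940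
theorem N3203 : nd 3203 = n10941 := ndS (p := 2000) (l := 5) rfl N2000 D10941
theorem N3204 : nd 3204 = n10942 := ndS (p := 2001) (l := 1) rfl N2001 D10942
theorem N3205 : nd 3205 = n10943 := ndS (p := 2001) (l := 2) rfl N2001 D10943
theorem N3206 : nd 3206 = n10944 := ndS (p := 2002) (l := 3) rfl N2002 D10944
theorem N3207 : nd 3207 = n10945 := ndS (p := 2002) (l := 6) rfl N2002 D10945
theorem N3208 : nd 3208 = n10946 := ndS (p := 2003) (l := 1) rfl N2003 D10946
theorem N3209 : nd 3209 = n10947 := ndS (p := 2004) (l := 0) rfl N2004 D10947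
theorem N3210 : nd 3210 = n10948 := ndS (p := 2004) (l := 2) rfl N2004 D10948
theorem N3211 : nd 3211 = n10949 := ndS (p := 2004) (l := 5) rfl N2004 D10949
theorem N3212 : nd 3212 = n10950 := ndS (p := 2005) (l := 1) rfl N2005 D10950
theorem N3213 : nd 3213 = n10951 := ndS (p := 2005) (l := 2) rfl N2005 D10951
theorem N3214 : nd 3214 = n10952 := ndS (p := 2006) (l := 3) rfl N2006 D10952
theorem N3215 : nd 3215 = n10953 := ndS (p := 2006) (l := 5) rfl N2006 D10953
theorem N3216 : nd 3216 = n10954 := ndS (p := 2007) (l := 1) rfl N2007 D10954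
theorem N3217 : nd 3217 = n10955 := ndS (p := 2008) (l := 0) rfl N2008 D10955
theorem N3218 : nd 3218 = n10956 := ndS (p := 2008) (l := 2) rfl N2008 D10956
theorem N3219 : nd 3219 = n10957 := ndS (p := 2008) (l := 6) rfl N2008 D10957
theorem N3220 : nd 3220 = n10958 := ndS (p := 2009) (l := 0) rfl N2009 D10958
theorem N3221 : nd 3221 = n10959 := ndS (p := 2009) (l := 2) rfl N2009 D10959
theorem N3222 : nd 3222 = n10960 := ndS (p := 2009) (l := 5) rfl N2009 D10960
theorem N3223 : nd 3223 = n10961 := ndS (p := 2009) (l := 6) rfl N2009 D10961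
theorem N3224 : nd 3224 = n10962 := ndS (p := 2010) (l := 1) rfl N2010 D10962
theorem N3225 : nd 3225 = n10963 := ndS (p := 2010) (l := 3) rfl N2010 D10963
theorem N3226 : nd 3226 = n10964 := ndS (p := 2010) (l := 6) rfl N2010 D10964
theorem N3227 : nd 3227 = n10965 := ndS (p := 2011) (l := 1) rfl N2011 D10965
theorem N3228 : nd 3228 = n10966 := ndS (p := 2012) (l := 4) rfl N2012 D10966
theorem N3229 : nd 3229 = n10967 := ndS (p := 2012) (l := 6) rfl N2012 D10967
theorem N3230 : nd 3230 = n10968 := ndS (p := 2013) (l := 1) rfl N2013 D10968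
theorem N3231 : nd 3231 = n10969 := ndS (p := 2013) (l := 5) rfl N2013 D10969
theorem N3232 : nd 3232 = n10970 := ndS (p := 2014) (l := 0) rfl N2014 D10970
theorem N3233 : nd 3233 = n10971 := ndS (p := 2014) (l := 2) rfl N2014 D10971
theorem N3234 : nd 3234 = n10972 := ndS (p := 2014) (l := 5) rfl N2014 D10972
theorem N3235 : nd 3235 = n10973 := ndS (p := 2015) (l := 1) rfl N2015 D10973
theorem N3236 : nd 3236 = n10974 := ndS (p := 2016) (l := 1) rfl N2016 D10974
theorem N3237 : nd 3237 = n10975 := ndS (p := 2016) (l := 2) rfl N2016 D10975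
theorem N3238 : nd 3238 = n10976 := ndS (p := 2016) (l := 5) rfl N2016 D10976
theorem N3239 : nd 3239 = n10977 := ndS (p := 2017) (l := 3) rfl N2017 D10977
theorem N3240 : nd 3240 = n10978 := ndS (p := 2017) (l := 5) rfl N2017 D10978
theorem N3241 : nd 3241 = n10979 := ndS (p := 2018) (l := 6) rfl N2018 D10979
theorem N3242 : nd 3242 = n10980 := ndS (p := 2019) (l := 0) rfl N2019 D10980
theorem N3243 : nd 3243 = n10981 := ndS (p := 2019) (l := 2) rfl N2019 D10981
theorem N3244 : nd 3244 = n10982 := ndS (p := 2019) (l := 5) rfl N2019 D10982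
theorem N3245 : nd 3245 = n10983 := ndS (p := 2019) (l := 6) rfl N2019 D10983
theorem N3246 : nd 3246 = n10984 := ndS (p := 2020) (l := 1) rfl N2020 D10984
theorem N3247 : nd 3247 = n10985 := ndS (p := 2020) (l := 3) rfl N2020 D10985
theorem N3248 : nd 3248 = n10986 := ndS (p := 2020) (l := 5) rfl N2020 D10986
theorem N3249 : nd 3249 = n10987 := ndS (p := 2021) (l := 1) rfl N2021 D10987
theorem N3250 : nd 3250 = n10988 := ndS (p := 2022) (l := 4) rfl N2022 D10988
theorem N3251 : nd 3251 = n10989 := ndS (p := 2022) (l := 5) rfl N2022 D10989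
theorem N3252 : nd 3252 = n10990 := ndS (p := 2023) (l := 1) rfl N2023 D10990
theorem N3253 : nd 3253 = n10991 := ndS (p := 2023) (l := 6) rfl N2023 D10991
theorem N3254 : nd 3254 = n10992 := ndS (p := 2024) (l := 0) rfl N2024 D10992
theorem N3255 : nd 3255 = n10993 := ndS (p := 2024) (l := 2) rfl N2024 D10993
theorem N3256 : nd 3256 = n10994 := ndS (p := 2024) (l := 6) rfl N2024 D10994
theorem N3257 : nd 3257 = n10995 := ndS (p := 2025) (l := 1) rfl N2025 D10995
theorem N3258 : nd 3258 = n10996 := ndS (p := 2026) (l := 1) rfl N2026 D10996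
theorem N3259 : nd 3259 = n10997 := ndS (p := 2026) (l := 2) rfl N2026 D10997
theorem N3260 : nd 3260 = n10998 := ndS (p := 2026) (l := 6) rfl N2026 D10998
theorem N3261 : nd 3261 = n10999 := ndS (p := 2027) (l := 3) rfl N2027 D10999
theorem N3262 : nd 3262 = n11000 := ndS (p := 2027) (l := 6) rfl N2027 D11000
theorem N3263 : nd 3263 = n11001 := ndS (p := 2028) (l := 5) rfl N2028 D11001
theorem N3264 : nd 3264 = n11002 := ndS (p := 2029) (l := 1) rfl N2029 D11002
theorem N3265 : nd 3265 = n11003 := ndS (p := 2029) (l := 3) rfl N2029 D11003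
theorem N3266 : nd 3266 = n11004 := ndS (p := 2030) (l := 0) rfl N2030 D11004
theorem N3267 : nd 3267 = n11005 := ndS (p := 2030) (l := 3) rfl N2030 D11005
theorem N3268 : nd 3268 = n11006 := ndS (p := 2030) (l := 5) rfl N2030 D11006
theorem N3269 : nd 3269 = n11007 := ndS (p := 2030) (l := 6) rfl N2030 D11007
theorem N3270 : nd 3270 = n11008 := ndS (p := 2031) (l := 4) rfl N2031 D11008
theorem N3271 : nd 3271 = n11009 := ndS (p := 2032) (l := 1) rfl N2032 D11009
theorem N3272 : nd 3272 = n11010 := ndS (p := 2032) (l := 4) rfl N2032 D11010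
theorem N3273 : nd 3273 = n11011 := ndS (p := 2032) (l := 6) rfl N2032 D11011
theorem N3274 : nd 3274 = n11012 := ndS (p := 2033) (l := 6) rfl N2033 D11012
theorem N3275 : nd 3275 = n11013 := ndS (p := 2034) (l := 1) rfl N2034 D11013
theorem N3276 : nd 3276 = n11014 := ndS (p := 2034) (l := 5) rfl N2034 D11014
theorem N3277 : nd 3277 = n11015 := ndS (p := 2035) (l := 0) rfl N2035 D11015
theorem N3278 : nd 3278 = n11016 := ndS (p := 2035) (l := 2) rfl N2035 D11016
theorem N3279 : nd 3279 = n11017 := ndS (p := 2035) (l := 5) rfl N2035 D11017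
theorem N3280 : nd 3280 = n11018 := ndS (p := 2036) (l := 1) rfl N2036 D11018
theorem N3281 : nd 3281 = n11019 := ndS (p := 2037) (l := 2) rfl N2037 D11019
theorem N3282 : nd 3282 = n11020 := ndS (p := 2038) (l := 3) rfl N2038 D11020
theorem N3283 : nd 3283 = n11021 := ndS (p := 2039) (l := 1) rfl N2039 D11021
theorem N3284 : nd 3284 = n11022 := ndS (p := 2039) (l := 3) rfl N2039 D11022
theorem N3285 : nd 3285 = n11023 := ndS (p := 2040) (l := 2) rfl N2040 D11023
theorem N3286 : nd 3286 = n11024 := ndS (p := 2040) (l := 4) rfl N2040 D11024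
theorem N3287 : nd 3287 = n11025 := ndS (p := 2041) (l := 1) rfl N2041 D11025
theorem N3288 : nd 3288 = n11026 := ndS (p := 2041) (l := 3) rfl N2041 D11026
theorem N3289 : nd 3289 = n11027 := ndS (p := 2042) (l := 0) rfl N2042 D11027
theorem N3290 : nd 3290 = n11028 := ndS (p := 2042) (l := 3) rfl N2042 D11028
theorem N3291 : nd 3291 = n11029 := ndS (p := 2042) (l := 5) rfl N2042 D11029
theorem N3292 : nd 3292 = n11030 := ndS (p := 2042) (l := 6) rfl N2042 D11030
theorem N3293 : nd 3293 = n11031 := ndS (p := 2043) (l := 4) rfl N2043 D11031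
theorem N3294 : nd 3294 = n11032 := ndS (p := 2044) (l := 1) rfl N2044 D11032
theorem N3295 : nd 3295 = n11033 := ndS (p := 2044) (l := 4) rfl N2044 D11033
theorem N3296 : nd 3296 = n11034 := ndS (p := 2044) (l := 5) rfl N2044 D11034
theorem N3297 : nd 3297 = n11035 := ndS (p := 2045) (l := 5) rfl N2045 D11035
theorem N3298 : nd 3298 = n11036 := ndS (p := 2046) (l := 1) rfl N2046 D11036
theorem N3299 : nd 3299 = n11037 := ndS (p := 2046) (l := 6) rfl N2046 D11037
theorem N3300 : nd 3300 = n11038 := ndS (p := 2047) (l := 0) rfl N2047 D11038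
theorem N3301 : nd 3301 = n11039 := ndS (p := 2047) (l := 2) rfl N2047 D11039
theorem N3302 : nd 3302 = n11040 := ndS (p := 2047) (l := 6) rfl N2047 D11040
theorem N3303 : nd 3303 = n11041 := ndS (p := 2048) (l := 1) rfl N2048 D11041
theorem N3304 : nd 3304 = n11042 := ndS (p := 2049) (l := 2) rfl N2049 D11042
theorem N3305 : nd 3305 = n11043 := ndS (p := 2050) (l := 3) rfl N2050 D11043
theorem N3306 : nd 3306 = n11044 := ndS (p := 2051) (l := 1) rfl N2051 D11044
theorem N3307 : nd 3307 = n11045 := ndS (p := 2051) (l := 3) rfl N2051 D11045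
theorem N3308 : nd 3308 = n11046 := ndS (p := 2052) (l := 2) rfl N2052 D11046
theorem N3309 : nd 3309 = n11047 := ndS (p := 2052) (l := 4) rfl N2052 D11047
theorem N3310 : nd 3310 = n11048 := ndS (p := 2053) (l := 1) rfl N2053 D11048
theorem N3311 : nd 3311 = n11049 := ndS (p := 2053) (l := 4) rfl N2053 D11049
theorem N3312 : nd 3312 = n11050 := ndS (p := 2055) (l := 0) rfl N2055 D11050
theorem N3313 : nd 3313 = n11051 := ndS (p := 2055) (l := 3) rfl N2055 D11051
theorem N3314 : nd 3314 = n11052 := ndS (p := 2055) (l := 4) rfl N2055 D11052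
theorem N3315 : nd 3315 = n11053 := ndS (p := 2055) (l := 5) rfl N2055 D11053
theorem N3316 : nd 3316 = n11054 := ndS (p := 2055) (l := 6) rfl N2055 D11054
theorem N3317 : nd 3317 = n11055 := ndS (p := 2056) (l := 4) rfl N2056 D11055
theorem N3318 : nd 3318 = n11056 := ndS (p := 2056) (l := 6) rfl N2056 D11056
theorem N3319 : nd 3319 = n11057 := ndS (p := 2057) (l := 3) rfl N2057 D11057
theorem N3320 : nd 3320 = n11058 := ndS (p := 2057) (l := 6) rfl N2057 D11058
theorem N3321 : nd 3321 = n11059 := ndS (p := 2058) (l := 1) rfl N2058 D11059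
theorem N3322 : nd 3322 = n11060 := ndS (p := 2058) (l := 5) rfl N2058 D11060
theorem N3323 : nd 3323 = n11061 := ndS (p := 2059) (l := 1) rfl N2059 D11061
theorem N3324 : nd 3324 = n11062 := ndS (p := 2059) (l := 5) rfl N2059 D11062
theorem N3325 : nd 3325 = n11063 := ndS (p := 2060) (l := 0) rfl N2060 D11063
theorem N3326 : nd 3326 = n11064 := ndS (p := 2060) (l := 2) rfl N2060 D11064
theorem N3327 : nd 3327 = n11069 := ndS (p := 2065) (l := 2) rfl N2065 D11069
theorem N3328 : nd 3328 = n11073 := ndS (p := 2066) (l := 2) rfl N2066 D11073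
theorem N3329 : nd 3329 = n11075 := ndS (p := 2067) (l := 1) rfl N2067 D11075
theorem N3330 : nd 3330 = n11076 := ndS (p := 2067) (l := 3) rfl N2067 D11076
theorem N3331 : nd 3331 = n11077 := ndS (p := 2067) (l := 4) rfl N2067 D11077
theorem N3332 : nd 3332 = n11078 := ndS (p := 2069) (l := 1) rfl N2069 D11078
theorem N3333 : nd 3333 = n11079 := ndS (p := 2069) (l := 4) rfl N2069 D11079
theorem N3334 : nd 3334 = n11080 := ndS (p := 2071) (l := 0) rfl N2071 D11080
theorem N3335 : nd 3335 = n11081 := ndS (p := 2071) (l := 3) rfl N2071 D11081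
theorem N3336 : nd 3336 = n11082 := ndS (p := 2071) (l := 4) rfl N2071 D11082
theorem N3337 : nd 3337 = n11083 := ndS (p := 2071) (l := 5) rfl N2071 D11083
theorem N3338 : nd 3338 = n11084 := ndS (p := 2071) (l := 6) rfl N2071 D11084
theorem N3339 : nd 3339 = n11085 := ndS (p := 2072) (l := 4) rfl N2072 D11085
theorem N3340 : nd 3340 = n11086 := ndS (p := 2072) (l := 5) rfl N2072 D11086
theorem N3341 : nd 3341 = n11087 := ndS (p := 2073) (l := 3) rfl N2073 D11087
theorem N3342 : nd 3342 = n11088 := ndS (p := 2073) (l := 5) rfl N2073 D11088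
theorem N3343 : nd 3343 = n11089 := ndS (p := 2074) (l := 1) rfl N2074 D11089
theorem N3344 : nd 3344 = n11090 := ndS (p := 2074) (l := 6) rfl N2074 D11090
theorem N3345 : nd 3345 = n11091 := ndS (p := 2075) (l := 1) rfl N2075 D11091
theorem N3346 : nd 3346 = n11092 := ndS (p := 2075) (l := 6) rfl N2075 D11092
theorem N3347 : nd 3347 = n11093 := ndS (p := 2076) (l := 0) rfl N2076 D11093
theorem N3348 : nd 3348 = n11094 := ndS (p := 2076) (l := 2) rfl N2076 D11094
theorem N3349 : nd 3349 = n11099 := ndS (p := 2081) (l := 2) rfl N2081 D11099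
theorem N3350 : nd 3350 = n11103 := ndS (p := 2082) (l := 2) rfl N2082 D11103
theorem N3351 : nd 3351 = n11105 := ndS (p := 2083) (l := 1) rfl N2083 D11105
theorem N3352 : nd 3352 = n11106 := ndS (p := 2083) (l := 3) rfl N2083 D11106
theorem N3353 : nd 3353 = n11107 := ndS (p := 2083) (l := 4) rfl N2083 D11107
theorem N3354 : nd 3354 = n11136 := ndS (p := 2085) (l := 1) rfl N2085 D11136
theorem N3355 : nd 3355 = n11137 := ndS (p := 2085) (l := 4) rfl N2085 D11137
theorem N3356 : nd 3356 = n11138 := ndS (p := 2085) (l := 5) rfl N2085 D11138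
theorem N3357 : nd 3357 = n11139 := ndS (p := 2085) (l := 6) rfl N2085 D11139
theorem N3358 : nd 3358 = n11140 := ndS (p := 2086) (l := 3) rfl N2086 D11140
theorem N3359 : nd 3359 = n11141 := ndS (p := 2086) (l := 5) rfl N2086 D11141
theorem N3360 : nd 3360 = n11142 := ndS (p := 2086) (l := 6) rfl N2086 D11142
theorem N3361 : nd 3361 = n11143 := ndS (p := 2087) (l := 6) rfl N2087 D11143
theorem N3362 : nd 3362 = n11144 := ndS (p := 2088) (l := 1) rfl N2088 D11144
theorem N3363 : nd 3363 = n11145 := ndS (p := 2088) (l := 5) rfl N2088 D11145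
theorem N3364 : nd 3364 = n11146 := ndS (p := 2089) (l := 6) rfl N2089 D11146
theorem N3365 : nd 3365 = n11147 := ndS (p := 2090) (l := 1) rfl N2090 D11147
theorem N3366 : nd 3366 = n11148 := ndS (p := 2091) (l := 0) rfl N2091 D11148
theorem N3367 : nd 3367 = n11149 := ndS (p := 2091) (l := 2) rfl N2091 D11149
theorem N3368 : nd 3368 = n11150 := ndS (p := 2091) (l := 5) rfl N2091 D11150
theorem N3369 : nd 3369 = n11152 := ndS (p := 2092) (l := 2) rfl N2092 D11152
theorem N3370 : nd 3370 = n11154 := ndS (p := 2093) (l := 2) rfl N2093 D11154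
theorem N3371 : nd 3371 = n11156 := ndS (p := 2094) (l := 3) rfl N2094 D11156
theorem N3372 : nd 3372 = n11157 := ndS (p := 2094) (l := 5) rfl N2094 D11157
theorem N3373 : nd 3373 = n11158 := ndS (p := 2096) (l := 0) rfl N2096 D11158
theorem N3374 : nd 3374 = n11159 := ndS (p := 2096) (l := 4) rfl N2096 D11159
theorem N3375 : nd 3375 = n11160 := ndS (p := 2096) (l := 5) rfl N2096 D11160
theorem N3376 : nd 3376 = n11161 := ndS (p := 2096) (l := 6) rfl N2096 D11161
theorem N3377 : nd 3377 = n11162 := ndS (p := 2097) (l := 3) rfl N2097 D11162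
theorem N3378 : nd 3378 = n11163 := ndS (p := 2098) (l := 1) rfl N2098 D11163
theorem N3379 : nd 3379 = n11164 := ndS (p := 2098) (l := 4) rfl N2098 D11164
theorem N3380 : nd 3380 = n11165 := ndS (p := 2098) (l := 5) rfl N2098 D11165
theorem N3381 : nd 3381 = n11166 := ndS (p := 2098) (l := 6) rfl N2098 D11166
theorem N3382 : nd 3382 = n11167 := ndS (p := 2099) (l := 3) rfl N2099 D11167
theorem N3383 : nd 3383 = n11168 := ndS (p := 2099) (l := 5) rfl N2099 D11168
theorem N3384 : nd 3384 = n11169 := ndS (p := 2099) (l := 6) rfl N2099 D11169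
theorem N3385 : nd 3385 = n11170 := ndS (p := 2100) (l := 1) rfl N2100 D11170
theorem N3386 : nd 3386 = n11171 := ndS (p := 2100) (l := 6) rfl N2100 D11171
theorem N3387 : nd 3387 = n11172 := ndS (p := 2101) (l := 5) rfl N2101 D11172
theorem N3388 : nd 3388 = n11173 := ndS (p := 2102) (l := 5) rfl N2102 D11173
theorem N3389 : nd 3389 = n11174 := ndS (p := 2103) (l := 1) rfl N2103 D11174
theorem N3390 : nd 3390 = n11175 := ndS (p := 2104) (l := 0) rfl N2104 D11175
theorem N3391 : nd 3391 = n11176 := ndS (p := 2104) (l := 2) rfl N2104 D11176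
theorem N3392 : nd 3392 = n11177 := ndS (p := 2104) (l := 6) rfl N2104 D11177
theorem N3393 : nd 3393 = n11179 := ndS (p := 2105) (l := 2) rfl N2105 D11179
theorem N3394 : nd 3394 = n11181 := ndS (p := 2106) (l := 2) rfl N2106 D11181
theorem N3395 : nd 3395 = n11183 := ndS (p := 2107) (l := 3) rfl N2107 D11183
theorem N3396 : nd 3396 = n11184 := ndS (p := 2107) (l := 6) rfl N2107 D11184
theorem N3397 : nd 3397 = n11185 := ndS (p := 2109) (l := 0) rfl N2109 D11185
theorem N3398 : nd 3398 = n11186 := ndS (p := 2109) (l := 4) rfl N2109 D11186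
theorem N3399 : nd 3399 = n11187 := ndS (p := 2109) (l := 5) rfl N2109 D11187
theorem N3400 : nd 3400 = n11188 := ndS (p := 2109) (l := 6) rfl N2109 D11188
theorem N3401 : nd 3401 = n11189 := ndS (p := 2110) (l := 3) rfl N2110 D11189
theorem N3402 : nd 3402 = n11194 := ndS (p := 2111) (l := 0) rfl N2111 D11194
theorem N3403 : nd 3403 = n11195 := ndS (p := 2111) (l := 5) rfl N2111 D11195
theorem N3404 : nd 3404 = n11196 := ndS (p := 2111) (l := 6) rfl N2111 D11196
theorem N3405 : nd 3405 = n11197 := ndS (p := 2112) (l := 3) rfl N2112 D11197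
theorem N3406 : nd 3406 = n11198 := ndS (p := 2112) (l := 5) rfl N2112 D11198
theorem N3407 : nd 3407 = n11199 := ndS (p := 2112) (l := 6) rfl N2112 D11199
theorem N3408 : nd 3408 = n11200 := ndS (p := 2113) (l := 2) rfl N2113 D11200
theorem N3409 : nd 3409 = n11201 := ndS (p := 2113) (l := 5) rfl N2113 D11201
theorem N3410 : nd 3410 = n11202 := ndS (p := 2113) (l := 6) rfl N2113 D11202
theorem N3411 : nd 3411 = n11203 := ndS (p := 2114) (l := 6) rfl N2114 D11203
theorem N3412 : nd 3412 = n11204 := ndS (p := 2115) (l := 5) rfl N2115 D11204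
theorem N3413 : nd 3413 = n11205 := ndS (p := 2116) (l := 1) rfl N2116 D11205
theorem N3414 : nd 3414 = n11206 := ndS (p := 2116) (l := 5) rfl N2116 D11206
theorem N3415 : nd 3415 = n11207 := ndS (p := 2116) (l := 6) rfl N2116 D11207
theorem N3416 : nd 3416 = n11208 := ndS (p := 2117) (l := 5) rfl N2117 D11208
theorem N3417 : nd 3417 = n11209 := ndS (p := 2117) (l := 6) rfl N2117 D11209
theorem N3418 : nd 3418 = n11210 := ndS (p := 2118) (l := 1) rfl N2118 D11210
theorem N3419 : nd 3419 = n11211 := ndS (p := 2118) (l := 6) rfl N2118 D11211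
theorem N3420 : nd 3420 = n11212 := ndS (p := 2119) (l := 1) rfl N2119 D11212
theorem N3421 : nd 3421 = n11213 := ndS (p := 2119) (l := 5) rfl N2119 D11213
theorem N3422 : nd 3422 = n11214 := ndS (p := 2120) (l := 5) rfl N2120 D11214
theorem N3423 : nd 3423 = n11215 := ndS (p := 2120) (l := 6) rfl N2120 D11215
theorem N3424 : nd 3424 = n11216 := ndS (p := 2121) (l := 1) rfl N2121 D11216
theorem N3425 : nd 3425 = n11217 := ndS (p := 2122) (l := 1) rfl N2122 D11217
theorem N3426 : nd 3426 = n11218 := ndS (p := 2123) (l := 0) rfl N2123 D11218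
theorem N3427 : nd 3427 = n11219 := ndS (p := 2123) (l := 6) rfl N2123 D11219
theorem N3428 : nd 3428 = n11220 := ndS (p := 2124) (l := 0) rfl N2124 D11220
theorem N3429 : nd 3429 = n11221 := ndS (p := 2124) (l := 5) rfl N2124 D11221
theorem N3430 : nd 3430 = n11222 := ndS (p := 2125) (l := 3) rfl N2125 D11222
theorem N3431 : nd 3431 = n11223 := ndS (p := 2125) (l := 5) rfl N2125 D11223
theorem N3432 : nd 3432 = n11224 := ndS (p := 2125) (l := 6) rfl N2125 D11224
theorem N3433 : nd 3433 = n11225 := ndS (p := 2126) (l := 2) rfl N2126 D11225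
theorem N3434 : nd 3434 = n11226 := ndS (p := 2126) (l := 5) rfl N2126 D11226
theorem N3435 : nd 3435 = n11227 := ndS (p := 2126) (l := 6) rfl N2126 D11227
theorem N3436 : nd 3436 = n11228 := ndS (p := 2127) (l := 1) rfl N2127 D11228
theorem N3437 : nd 3437 = n11229 := ndS (p := 2128) (l := 1) rfl N2128 D11229
theorem N3438 : nd 3438 = n11230 := ndS (p := 2129) (l := 3) rfl N2129 D11230
theorem N3439 : nd 3439 = n11231 := ndS (p := 2129) (l := 4) rfl N2129 D11231
theorem N3440 : nd 3440 = n11232 := ndS (p := 2129) (l := 5) rfl N2129 D11232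
theorem N3441 : nd 3441 = n11233 := ndS (p := 2129) (l := 6) rfl N2129 D11233
theorem N3442 : nd 3442 = n11234 := ndS (p := 2130) (l := 5) rfl N2130 D11234
theorem N3443 : nd 3443 = n11235 := ndS (p := 2130) (l := 6) rfl N2130 D11235
theorem N3444 : nd 3444 = n11236 := ndS (p := 2131) (l := 1) rfl N2131 D11236
theorem N3445 : nd 3445 = n11237 := ndS (p := 2131) (l := 6) rfl N2131 D11237
theorem N3446 : nd 3446 = n11238 := ndS (p := 2132) (l := 1) rfl N2132 D11238
theorem N3447 : nd 3447 = n11239 := ndS (p := 2132) (l := 5) rfl N2132 D11239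
theorem N3448 : nd 3448 = n11240 := ndS (p := 2133) (l := 0) rfl N2133 D11240
theorem N3449 : nd 3449 = n11241 := ndS (p := 2133) (l := 6) rfl N2133 D11241
theorem N3450 : nd 3450 = n11242 := ndS (p := 2134) (l := 1) rfl N2134 D11242
theorem N3451 : nd 3451 = n11243 := ndS (p := 2135) (l := 0) rfl N2135 D11243
theorem N3452 : nd 3452 = n11244 := ndS (p := 2135) (l := 5) rfl N2135 D11244
theorem N3453 : nd 3453 = n11245 := ndS (p := 2136) (l := 1) rfl N2136 D11245
theorem N3454 : nd 3454 = n11246 := ndS (p := 2137) (l := 1) rfl N2137 D11246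
theorem N3455 : nd 3455 = n11247 := ndS (p := 2138) (l := 1) rfl N2138 D11247
theorem N3456 : nd 3456 = n11248 := ndS (p := 2139) (l := 0) rfl N2139 D11248
theorem N3457 : nd 3457 = n11249 := ndS (p := 2139) (l := 2) rfl N2139 D11249
theorem N3458 : nd 3458 = n11250 := ndS (p := 2139) (l := 6) rfl N2139 D11250
theorem N3459 : nd 3459 = n11251 := ndS (p := 2140) (l := 0) rfl N2140 D11251
theorem N3460 : nd 3460 = n11252 := ndS (p := 2140) (l := 2) rfl N2140 D11252
theorem N3461 : nd 3461 = n11253 := ndS (p := 2140) (l := 5) rfl N2140 D11253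
theorem N3462 : nd 3462 = n11254 := ndS (p := 2141) (l := 1) rfl N2141 D11254
theorem N3463 : nd 3463 = n11255 := ndS (p := 2141) (l := 6) rfl N2141 D11255
theorem N3464 : nd 3464 = n11256 := ndS (p := 2142) (l := 5) rfl N2142 D11256
theorem N3465 : nd 3465 = n11257 := ndS (p := 2143) (l := 1) rfl N2143 D11257
theorem N3466 : nd 3466 = n11258 := ndS (p := 2143) (l := 5) rfl N2143 D11258
theorem N3467 : nd 3467 = n11259 := ndS (p := 2144) (l := 6) rfl N2144 D11259
theorem N3468 : nd 3468 = n11260 := ndS (p := 2145) (l := 1) rfl N2145 D11260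
theorem N3469 : nd 3469 = n11261 := ndS (p := 2146) (l := 1) rfl N2146 D11261
theorem N3470 : nd 3470 = n11262 := ndS (p := 2147) (l := 0) rfl N2147 D11262
theorem N3471 : nd 3471 = n11263 := ndS (p := 2147) (l := 2) rfl N2147 D11263
theorem N3472 : nd 3472 = n11264 := ndS (p := 2147) (l := 6) rfl N2147 D11264
theorem N3473 : nd 3473 = n11265 := ndS (p := 2148) (l := 1) rfl N2148 D11265
theorem N3474 : nd 3474 = n11266 := ndS (p := 2149) (l := 0) rfl N2149 D11266
theorem N3475 : nd 3475 = n11267 := ndS (p := 2149) (l := 2) rfl N2149 D11267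
theorem N3476 : nd 3476 = n11268 := ndS (p := 2149) (l := 5) rfl N2149 D11268
theorem N3477 : nd 3477 = n11269 := ndS (p := 2150) (l := 1) rfl N2150 D11269
theorem N3478 : nd 3478 = n11270 := ndS (p := 2151) (l := 1) rfl N2151 D11270
theorem N3479 : nd 3479 = n11271 := ndS (p := 2151) (l := 6) rfl N2151 D11271
theorem N3480 : nd 3480 = n11272 := ndS (p := 2152) (l := 1) rfl N2152 D11272
theorem N3481 : nd 3481 = n11273 := ndS (p := 2152) (l := 5) rfl N2152 D11273
theorem N3482 : nd 3482 = n11274 := ndS (p := 2153) (l := 0) rfl N2153 D11274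
theorem N3483 : nd 3483 = n11275 := ndS (p := 2153) (l := 2) rfl N2153 D11275
theorem N3484 : nd 3484 = n11276 := ndS (p := 2153) (l := 6) rfl N2153 D11276
theorem N3485 : nd 3485 = n11277 := ndS (p := 2154) (l := 1) rfl N2154 D11277
theorem N3486 : nd 3486 = n11278 := ndS (p := 2155) (l := 0) rfl N2155 D11278
theorem N3487 : nd 3487 = n11279 := ndS (p := 2155) (l := 2) rfl N2155 D11279
theorem N3488 : nd 3488 = n11280 := ndS (p := 2155) (l := 5) rfl N2155 D11280
theorem N3489 : nd 3489 = n11281 := ndS (p := 2156) (l := 1) rfl N2156 D11281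
theorem N3490 : nd 3490 = n11282 := ndS (p := 2157) (l := 1) rfl N2157 D11282
theorem N3491 : nd 3491 = n11283 := ndS (p := 2157) (l := 2) rfl N2157 D11283
theorem N3492 : nd 3492 = n11284 := ndS (p := 2157) (l := 6) rfl N2157 D11284
theorem N3493 : nd 3493 = n11285 := ndS (p := 2158) (l := 3) rfl N2158 D11285
theorem N3494 : nd 3494 = n11286 := ndS (p := 2158) (l := 6) rfl N2158 D11286
theorem N3495 : nd 3495 = n11287 := ndS (p := 2159) (l := 1) rfl N2159 D11287
theorem N3496 : nd 3496 = n11288 := ndS (p := 2159) (l := 5) rfl N2159 D11288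
theorem N3497 : nd 3497 = n11289 := ndS (p := 2160) (l := 0) rfl N2160 D11289
theorem N3498 : nd 3498 = n11290 := ndS (p := 2160) (l := 2) rfl N2160 D11290
theorem N3499 : nd 3499 = n11291 := ndS (p := 2160) (l := 5) rfl N2160 D11291
theorem N3500 : nd 3500 = n11292 := ndS (p := 2161) (l := 1) rfl N2161 D11292
theorem N3501 : nd 3501 = n11293 := ndS (p := 2161) (l := 2) rfl N2161 D11293
theorem N3502 : nd 3502 = n11294 := ndS (p := 2161) (l := 5) rfl N2161 D11294
theorem N3503 : nd 3503 = n11295 := ndS (p := 2162) (l := 3) rfl N2162 D11295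
theorem N3504 : nd 3504 = n11296 := ndS (p := 2162) (l := 5) rfl N2162 D11296
theorem N3505 : nd 3505 = n11297 := ndS (p := 2163) (l := 1) rfl N2163 D11297
theorem N3506 : nd 3506 = n11298 := ndS (p := 2163) (l := 6) rfl N2163 D11298
theorem N3507 : nd 3507 = n11299 := ndS (p := 2164) (l := 0) rfl N2164 D11299
theorem N3508 : nd 3508 = n11300 := ndS (p := 2164) (l := 2) rfl N2164 D11300
theorem N3509 : nd 3509 = n11301 := ndS (p := 2164) (l := 6) rfl N2164 D11301
theorem N3510 : nd 3510 = n11302 := ndS (p := 2165) (l := 4) rfl N2165 D11302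
theorem N3511 : nd 3511 = n11303 := ndS (p := 2166) (l := 2) rfl N2166 D11303
theorem N3512 : nd 3512 = n11304 := ndS (p := 2167) (l := 3) rfl N2167 D11304
theorem N3513 : nd 3513 = n11305 := ndS (p := 2168) (l := 4) rfl N2168 D11305
theorem N3514 : nd 3514 = n11306 := ndS (p := 2169) (l := 2) rfl N2169 D11306
theorem N3515 : nd 3515 = n11307 := ndS (p := 2170) (l := 3) rfl N2170 D11307
theorem N3516 : nd 3516 = n11308 := ndS (p := 2171) (l := 3) rfl N2171 D11308
theorem N3517 : nd 3517 = n11309 := ndS (p := 2172) (l := 2) rfl N2172 D11309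
theorem N3518 : nd 3518 = n11311 := ndS (p := 2173) (l := 3) rfl N2173 D11311
theorem N3519 : nd 3519 = n11312 := ndS (p := 2174) (l := 2) rfl N2174 D11312
theorem N3520 : nd 3520 = n11320 := ndS (p := 2175) (l := 1) rfl N2175 D11320
theorem N3521 : nd 3521 = n11321 := ndS (p := 2176) (l := 1) rfl N2176 D11321
theorem N3522 : nd 3522 = n11322 := ndS (p := 2177) (l := 0) rfl N2177 D11322
theorem N3523 : nd 3523 = n11323 := ndS (p := 2177) (l := 2) rfl N2177 D11323
theorem N3524 : nd 3524 = n11324 := ndS (p := 2177) (l := 6) rfl N2177 D11324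
theorem N3525 : nd 3525 = n11325 := ndS (p := 2178) (l := 0) rfl N2178 D11325
theorem N3526 : nd 3526 = n11326 := ndS (p := 2178) (l := 2) rfl N2178 D11326
theorem N3527 : nd 3527 = n11327 := ndS (p := 2178) (l := 5) rfl N2178 D11327
theorem N3528 : nd 3528 = n11328 := ndS (p := 2179) (l := 0) rfl N2179 D11328
theorem N3529 : nd 3529 = n11329 := ndS (p := 2179) (l := 2) rfl N2179 D11329
theorem N3530 : nd 3530 = n11330 := ndS (p := 2179) (l := 6) rfl N2179 D11330
theorem N3531 : nd 3531 = n11331 := ndS (p := 2180) (l := 1) rfl N2180 D11331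
theorem N3532 : nd 3532 = n11332 := ndS (p := 2181) (l := 0) rfl N2181 D11332
theorem N3533 : nd 3533 = n11333 := ndS (p := 2181) (l := 2) rfl N2181 D11333
theorem N3534 : nd 3534 = n11334 := ndS (p := 2181) (l := 5) rfl N2181 D11334
theorem N3535 : nd 3535 = n11335 := ndS (p := 2182) (l := 1) rfl N2182 D11335
theorem N3536 : nd 3536 = n11336 := ndS (p := 2183) (l := 1) rfl N2183 D11336
theorem N3537 : nd 3537 = n11337 := ndS (p := 2183) (l := 2) rfl N2183 D11337
theorem N3538 : nd 3538 = n11338 := ndS (p := 2184) (l := 3) rfl N2184 D11338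
theorem N3539 : nd 3539 = n11339 := ndS (p := 2184) (l := 6) rfl N2184 D11339
theorem N3540 : nd 3540 = n11340 := ndS (p := 2185) (l := 1) rfl N2185 D11340
theorem N3541 : nd 3541 = n11341 := ndS (p := 2186) (l := 0) rfl N2186 D11341
theorem N3542 : nd 3542 = n11342 := ndS (p := 2186) (l := 2) rfl N2186 D11342
theorem N3543 : nd 3543 = n11343 := ndS (p := 2186) (l := 5) rfl N2186 D11343
theorem N3544 : nd 3544 = n11344 := ndS (p := 2187) (l := 1) rfl N2187 D11344
theorem N3545 : nd 3545 = n11345 := ndS (p := 2187) (l := 2) rfl N2187 D11345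
theorem N3546 : nd 3546 = n11346 := ndS (p := 2188) (l := 3) rfl N2188 D11346
theorem N3547 : nd 3547 = n11347 := ndS (p := 2188) (l := 5) rfl N2188 D11347
theorem N3548 : nd 3548 = n11348 := ndS (p := 2189) (l := 1) rfl N2189 D11348
theorem N3549 : nd 3549 = n11349 := ndS (p := 2190) (l := 0) rfl N2190 D11349
theorem N3550 : nd 3550 = n11350 := ndS (p := 2190) (l := 2) rfl N2190 D11350
theorem N3551 : nd 3551 = n11351 := ndS (p := 2190) (l := 6) rfl N2190 D11351
theorem N3552 : nd 3552 = n11352 := ndS (p := 2191) (l := 1) rfl N2191 D11352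
theorem N3553 : nd 3553 = n11353 := ndS (p := 2192) (l := 1) rfl N2192 D11353
theorem N3554 : nd 3554 = n11354 := ndS (p := 2193) (l := 0) rfl N2193 D11354
theorem N3555 : nd 3555 = n11355 := ndS (p := 2193) (l := 2) rfl N2193 D11355
theorem N3556 : nd 3556 = n11356 := ndS (p := 2193) (l := 6) rfl N2193 D11356
theorem N3557 : nd 3557 = n11357 := ndS (p := 2194) (l := 0) rfl N2194 D11357
theorem N3558 : nd 3558 = n11358 := ndS (p := 2194) (l := 2) rfl N2194 D11358
theorem N3559 : nd 3559 = n11359 := ndS (p := 2194) (l := 5) rfl N2194 D11359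
theorem N3560 : nd 3560 = n11360 := ndS (p := 2195) (l := 0) rfl N2195 D11360
theorem N3561 : nd 3561 = n11361 := ndS (p := 2195) (l := 2) rfl N2195 D11361
theorem N3562 : nd 3562 = n11362 := ndS (p := 2195) (l := 6) rfl N2195 D11362
theorem N3563 : nd 3563 = n11363 := ndS (p := 2196) (l := 1) rfl N2196 D11363
theorem N3564 : nd 3564 = n11364 := ndS (p := 2197) (l := 0) rfl N2197 D11364
theorem N3565 : nd 3565 = n11365 := ndS (p := 2197) (l := 2) rfl N2197 D11365
theorem N3566 : nd 3566 = n11366 := ndS (p := 2197) (l := 5) rfl N2197 D11366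
theorem N3567 : nd 3567 = n11367 := ndS (p := 2198) (l := 1) rfl N2198 D11367
theorem N3568 : nd 3568 = n11368 := ndS (p := 2199) (l := 1) rfl N2199 D11368
theorem N3569 : nd 3569 = n11369 := ndS (p := 2199) (l := 2) rfl N2199 D11369
theorem N3570 : nd 3570 = n11370 := ndS (p := 2199) (l := 6) rfl N2199 D11370
theorem N3571 : nd 3571 = n11371 := ndS (p := 2200) (l := 3) rfl N2200 D11371
theorem N3572 : nd 3572 = n11372 := ndS (p := 2200) (l := 6) rfl N2200 D11372
theorem N3573 : nd 3573 = n11373 := ndS (p := 2201) (l := 1) rfl N2201 D11373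
theorem N3574 : nd 3574 = n11374 := ndS (p := 2201) (l := 5) rfl N2201 D11374
theorem N3575 : nd 3575 = n11375 := ndS (p := 2202) (l := 0) rfl N2202 D11375
theorem N3576 : nd 3576 = n11376 := ndS (p := 2202) (l := 2) rfl N2202 D11376
theorem N3577 : nd 3577 = n11377 := ndS (p := 2202) (l := 5) rfl N2202 D11377
theorem N3578 : nd 3578 = n11378 := ndS (p := 2203) (l := 1) rfl N2203 D11378
theorem N3579 : nd 3579 = n11379 := ndS (p := 2203) (l := 2) rfl N2203 D11379
theorem N3580 : nd 3580 = n11380 := ndS (p := 2203) (l := 5) rfl N2203 D11380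
theorem N3581 : nd 3581 = n11381 := ndS (p := 2204) (l := 3) rfl N2204 D11381
theorem N3582 : nd 3582 = n11382 := ndS (p := 2204) (l := 5) rfl N2204 D11382
theorem N3583 : nd 3583 = n11383 := ndS (p := 2205) (l := 1) rfl N2205 D11383
theorem N3584 : nd 3584 = n11384 := ndS (p := 2205) (l := 6) rfl N2205 D11384
theorem N3585 : nd 3585 = n11385 := ndS (p := 2206) (l := 0) rfl N2206 D11385
theorem N3586 : nd 3586 = n11386 := ndS (p := 2206) (l := 2) rfl N2206 D11386
theorem N3587 : nd 3587 = n11387 := ndS (p := 2206) (l := 6) rfl N2206 D11387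
theorem N3588 : nd 3588 = n11388 := ndS (p := 2207) (l := 0) rfl N2207 D11388
theorem N3589 : nd 3589 = n11389 := ndS (p := 2207) (l := 2) rfl N2207 D11389
theorem N3590 : nd 3590 = n11390 := ndS (p := 2207) (l := 5) rfl N2207 D11390
theorem N3591 : nd 3591 = n11391 := ndS (p := 2207) (l := 6) rfl N2207 D11391
theorem N3592 : nd 3592 = n11392 := ndS (p := 2208) (l := 1) rfl N2208 D11392
theorem N3593 : nd 3593 = n11393 := ndS (p := 2208) (l := 3) rfl N2208 D11393
theorem N3594 : nd 3594 = n11394 := ndS (p := 2208) (l := 6) rfl N2208 D11394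
theorem N3595 : nd 3595 = n11395 := ndS (p := 2209) (l := 1) rfl N2209 D11395
theorem N3596 : nd 3596 = n11396 := ndS (p := 2210) (l := 2) rfl N2210 D11396
theorem N3597 : nd 3597 = n11397 := ndS (p := 2210) (l := 4) rfl N2210 D11397
theorem N3598 : nd 3598 = n11398 := ndS (p := 2210) (l := 6) rfl N2210 D11398
theorem N3599 : nd 3599 = n11399 := ndS (p := 2211) (l := 5) rfl N2211 D11399
theorem N3600 : nd 3600 = n11400 := ndS (p := 2212) (l := 0) rfl N2212 D11400
theorem N3601 : nd 3601 = n11401 := ndS (p := 2212) (l := 2) rfl N2212 D11401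
theorem N3602 : nd 3602 = n11402 := ndS (p := 2212) (l := 5) rfl N2212 D11402
theorem N3603 : nd 3603 = n11403 := ndS (p := 2213) (l := 1) rfl N2213 D11403
theorem N3604 : nd 3604 = n11404 := ndS (p := 2214) (l := 1) rfl N2214 D11404
theorem N3605 : nd 3605 = n11405 := ndS (p := 2214) (l := 2) rfl N2214 D11405
theorem N3606 : nd 3606 = n11406 := ndS (p := 2214) (l := 5) rfl N2214 D11406
theorem N3607 : nd 3607 = n11407 := ndS (p := 2215) (l := 3) rfl N2215 D11407
theorem N3608 : nd 3608 = n11408 := ndS (p := 2215) (l := 5) rfl N2215 D11408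
theorem N3609 : nd 3609 = n11409 := ndS (p := 2216) (l := 6) rfl N2216 D11409
theorem N3610 : nd 3610 = n11410 := ndS (p := 2217) (l := 0) rfl N2217 D11410
theorem N3611 : nd 3611 = n11411 := ndS (p := 2217) (l := 2) rfl N2217 D11411
theorem N3612 : nd 3612 = n11412 := ndS (p := 2217) (l := 5) rfl N2217 D11412
theorem N3613 : nd 3613 = n11413 := ndS (p := 2217) (l := 6) rfl N2217 D11413
theorem N3614 : nd 3614 = n11414 := ndS (p := 2218) (l := 1) rfl N2218 D11414
theorem N3615 : nd 3615 = n11415 := ndS (p := 2218) (l := 3) rfl N2218 D11415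
theorem N3616 : nd 3616 = n11416 := ndS (p := 2218) (l := 5) rfl N2218 D11416
theorem N3617 : nd 3617 = n11417 := ndS (p := 2219) (l := 1) rfl N2219 D11417
theorem N3618 : nd 3618 = n11418 := ndS (p := 2220) (l := 2) rfl N2220 D11418
theorem N3619 : nd 3619 = n11419 := ndS (p := 2220) (l := 4) rfl N2220 D11419
theorem N3620 : nd 3620 = n11420 := ndS (p := 2220) (l := 5) rfl N2220 D11420
theorem N3621 : nd 3621 = n11421 := ndS (p := 2221) (l := 6) rfl N2221 D11421
theorem N3622 : nd 3622 = n11422 := ndS (p := 2222) (l := 0) rfl N2222 D11422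
theorem N3623 : nd 3623 = n11423 := ndS (p := 2222) (l := 2) rfl N2222 D11423
theorem N3624 : nd 3624 = n11424 := ndS (p := 2222) (l := 6) rfl N2222 D11424
theorem N3625 : nd 3625 = n11425 := ndS (p := 2223) (l := 1) rfl N2223 D11425
theorem N3626 : nd 3626 = n11426 := ndS (p := 2224) (l := 1) rfl N2224 D11426
theorem N3627 : nd 3627 = n11427 := ndS (p := 2224) (l := 2) rfl N2224 D11427
theorem N3628 : nd 3628 = n11428 := ndS (p := 2224) (l := 6) rfl N2224 D11428
theorem N3629 : nd 3629 = n11429 := ndS (p := 2225) (l := 3) rfl N2225 D11429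
theorem N3630 : nd 3630 = n11430 := ndS (p := 2225) (l := 6) rfl N2225 D11430
theorem N3631 : nd 3631 = n11431 := ndS (p := 2226) (l := 5) rfl N2226 D11431
theorem N3632 : nd 3632 = n11432 := ndS (p := 2227) (l := 1) rfl N2227 D11432
theorem N3633 : nd 3633 = n11433 := ndS (p := 2227) (l := 4) rfl N2227 D11433
theorem N3634 : nd 3634 = n11434 := ndS (p := 2229) (l := 1) rfl N2229 D11434
theorem N3635 : nd 3635 = n11435 := ndS (p := 2229) (l := 3) rfl N2229 D11435
theorem N3636 : nd 3636 = n11436 := ndS (p := 2230) (l := 2) rfl N2230 D11436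
theorem N3637 : nd 3637 = n11437 := ndS (p := 2230) (l := 4) rfl N2230 D11437
theorem N3638 : nd 3638 = n11438 := ndS (p := 2231) (l := 1) rfl N2231 D11438
theorem N3639 : nd 3639 = n11439 := ndS (p := 2231) (l := 4) rfl N2231 D11439
theorem N3640 : nd 3640 = n11440 := ndS (p := 2233) (l := 1) rfl N2233 D11440
theorem N3641 : nd 3641 = n11441 := ndS (p := 2233) (l := 3) rfl N2233 D11441
theorem N3642 : nd 3642 = n11442 := ndS (p := 2234) (l := 2) rfl N2234 D11442
theorem N3643 : nd 3643 = n11443 := ndS (p := 2234) (l := 4) rfl N2234 D11443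
theorem N3644 : nd 3644 = n11444 := ndS (p := 2235) (l := 0) rfl N2235 D11444
theorem N3645 : nd 3645 = n11445 := ndS (p := 2235) (l := 3) rfl N2235 D11445
theorem N3646 : nd 3646 = n11446 := ndS (p := 2235) (l := 4) rfl N2235 D11446
theorem N3647 : nd 3647 = n11447 := ndS (p := 2235) (l := 5) rfl N2235 D11447
theorem N3648 : nd 3648 = n11448 := ndS (p := 2235) (l := 6) rfl N2235 D11448
theorem N3649 : nd 3649 = n11449 := ndS (p := 2236) (l := 4) rfl N2236 D11449
theorem N3650 : nd 3650 = n11450 := ndS (p := 2237) (l := 3) rfl N2237 D11450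
theorem N3651 : nd 3651 = n11455 := ndS (p := 2238) (l := 1) rfl N2238 D11455
theorem N3652 : nd 3652 = n11456 := ndS (p := 2238) (l := 3) rfl N2238 D11456
theorem N3653 : nd 3653 = n11458 := ndS (p := 2239) (l := 0) rfl N2239 D11458
theorem N3654 : nd 3654 = n11459 := ndS (p := 2239) (l := 3) rfl N2239 D11459
theorem N3655 : nd 3655 = n11460 := ndS (p := 2239) (l := 4) rfl N2239 D11460
theorem N3656 : nd 3656 = n11461 := ndS (p := 2239) (l := 5) rfl N2239 D11461
theorem N3657 : nd 3657 = n11462 := ndS (p := 2239) (l := 6) rfl N2239 D11462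
theorem N3658 : nd 3658 = n11463 := ndS (p := 2240) (l := 4) rfl N2240 D11463
theorem N3659 : nd 3659 = n11464 := ndS (p := 2241) (l := 3) rfl N2241 D11464
theorem N3660 : nd 3660 = n11469 := ndS (p := 2242) (l := 1) rfl N2242 D11469
theorem N3661 : nd 3661 = n11470 := ndS (p := 2242) (l := 3) rfl N2242 D11470
theorem N3662 : nd 3662 = n11490 := ndS (p := 2243) (l := 5) rfl N2243 D11490
theorem N3663 : nd 3663 = n11491 := ndS (p := 2243) (l := 6) rfl N2243 D11491
theorem N3664 : nd 3664 = n11492 := ndS (p := 2244) (l := 5) rfl N2244 D11492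
theorem N3665 : nd 3665 = n11493 := ndS (p := 2244) (l := 6) rfl N2244 D11493
theorem N3666 : nd 3666 = n11494 := ndS (p := 2245) (l := 1) rfl N2245 D11494
theorem N3667 : nd 3667 = n11495 := ndS (p := 2245) (l := 6) rfl N2245 D11495
theorem N3668 : nd 3668 = n11496 := ndS (p := 2246) (l := 1) rfl N2246 D11496
theorem N3669 : nd 3669 = n11497 := ndS (p := 2246) (l := 5) rfl N2246 D11497
theorem N3670 : nd 3670 = n11498 := ndS (p := 2247) (l := 1) rfl N2247 D11498
theorem N3671 : nd 3671 = n11499 := ndS (p := 2247) (l := 5) rfl N2247 D11499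
theorem N3672 : nd 3672 = n11500 := ndS (p := 2247) (l := 6) rfl N2247 D11500
theorem N3673 : nd 3673 = n11501 := ndS (p := 2248) (l := 1) rfl N2248 D11501
theorem N3674 : nd 3674 = n11502 := ndS (p := 2249) (l := 1) rfl N2249 D11502
theorem N3675 : nd 3675 = n11503 := ndS (p := 2250) (l := 0) rfl N2250 D11503
theorem N3676 : nd 3676 = n11504 := ndS (p := 2250) (l := 2) rfl N2250 D11504
theorem N3677 : nd 3677 = n11505 := ndS (p := 2250) (l := 6) rfl N2250 D11505
theorem N3678 : nd 3678 = n11506 := ndS (p := 2251) (l := 0) rfl N2251 D11506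
theorem N3679 : nd 3679 = n11507 := ndS (p := 2251) (l := 2) rfl N2251 D11507
theorem N3680 : nd 3680 = n11508 := ndS (p := 2251) (l := 5) rfl N2251 D11508
theorem N3681 : nd 3681 = n11509 := ndS (p := 2252) (l := 1) rfl N2252 D11509
theorem N3682 : nd 3682 = n11510 := ndS (p := 2252) (l := 6) rfl N2252 D11510
theorem N3683 : nd 3683 = n11511 := ndS (p := 2253) (l := 1) rfl N2253 D11511
theorem N3684 : nd 3684 = n11512 := ndS (p := 2253) (l := 5) rfl N2253 D11512
theorem N3685 : nd 3685 = n11513 := ndS (p := 2254) (l := 0) rfl N2254 D11513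
theorem N3686 : nd 3686 = n11514 := ndS (p := 2254) (l := 2) rfl N2254 D11514
theorem N3687 : nd 3687 = n11515 := ndS (p := 2254) (l := 6) rfl N2254 D11515
theorem N3688 : nd 3688 = n11516 := ndS (p := 2255) (l := 1) rfl N2255 D11516
theorem N3689 : nd 3689 = n11517 := ndS (p := 2256) (l := 0) rfl N2256 D11517
theorem N3690 : nd 3690 = n11518 := ndS (p := 2256) (l := 2) rfl N2256 D11518
theorem N3691 : nd 3691 = n11519 := ndS (p := 2256) (l := 5) rfl N2256 D11519
theorem N3692 : nd 3692 = n11520 := ndS (p := 2257) (l := 1) rfl N2257 D11520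
theorem N3693 : nd 3693 = n11521 := ndS (p := 2258) (l := 1) rfl N2258 D11521
theorem N3694 : nd 3694 = n11522 := ndS (p := 2258) (l := 2) rfl N2258 D11522
theorem N3695 : nd 3695 = n11523 := ndS (p := 2259) (l := 3) rfl N2259 D11523
theorem N3696 : nd 3696 = n11524 := ndS (p := 2259) (l := 6) rfl N2259 D11524
theorem N3697 : nd 3697 = n11525 := ndS (p := 2260) (l := 1) rfl N2260 D11525
theorem N3698 : nd 3698 = n11526 := ndS (p := 2261) (l := 0) rfl N2261 D11526
theorem N3699 : nd 3699 = n11527 := ndS (p := 2261) (l := 2) rfl N2261 D11527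
theorem N3700 : nd 3700 = n11528 := ndS (p := 2261) (l := 5) rfl N2261 D11528
theorem N3701 : nd 3701 = n11529 := ndS (p := 2262) (l := 1) rfl N2262 D11529
theorem N3702 : nd 3702 = n11530 := ndS (p := 2262) (l := 2) rfl N2262 D11530
theorem N3703 : nd 3703 = n11531 := ndS (p := 2263) (l := 3) rfl N2263 D11531
theorem N3704 : nd 3704 = n11532 := ndS (p := 2263) (l := 5) rfl N2263 D11532
theorem N3705 : nd 3705 = n11533 := ndS (p := 2264) (l := 1) rfl N2264 D11533
theorem N3706 : nd 3706 = n11534 := ndS (p := 2265) (l := 0) rfl N2265 D11534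
theorem N3707 : nd 3707 = n11535 := ndS (p := 2265) (l := 2) rfl N2265 D11535
theorem N3708 : nd 3708 = n11536 := ndS (p := 2265) (l := 6) rfl N2265 D11536
theorem N3709 : nd 3709 = n11537 := ndS (p := 2266) (l := 1) rfl N2266 D11537
theorem N3710 : nd 3710 = n11538 := ndS (p := 2266) (l := 2) rfl N2266 D11538
theorem N3711 : nd 3711 = n11539 := ndS (p := 2266) (l := 6) rfl N2266 D11539
theorem N3712 : nd 3712 = n11540 := ndS (p := 2267) (l := 3) rfl N2267 D11540
theorem N3713 : nd 3713 = n11541 := ndS (p := 2267) (l := 6) rfl N2267 D11541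
theorem N3714 : nd 3714 = n11542 := ndS (p := 2268) (l := 5) rfl N2268 D11542
theorem N3715 : nd 3715 = n11543 := ndS (p := 2269) (l := 1) rfl N2269 D11543
theorem N3716 : nd 3716 = n11544 := ndS (p := 2269) (l := 2) rfl N2269 D11544
theorem N3717 : nd 3717 = n11545 := ndS (p := 2269) (l := 5) rfl N2269 D11545
theorem N3718 : nd 3718 = n11546 := ndS (p := 2270) (l := 3) rfl N2270 D11546
theorem N3719 : nd 3719 = n11547 := ndS (p := 2270) (l := 5) rfl N2270 D11547
theorem N3720 : nd 3720 = n11548 := ndS (p := 2271) (l := 6) rfl N2271 D11548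
theorem N3721 : nd 3721 = n11549 := ndS (p := 2272) (l := 0) rfl N2272 D11549
theorem N3722 : nd 3722 = n11550 := ndS (p := 2272) (l := 5) rfl N2272 D11550
theorem N3723 : nd 3723 = n11551 := ndS (p := 2272) (l := 6) rfl N2272 D11551
theorem N3724 : nd 3724 = n11552 := ndS (p := 2273) (l := 1) rfl N2273 D11552
theorem N3725 : nd 3725 = n11553 := ndS (p := 2273) (l := 3) rfl N2273 D11553
theorem N3726 : nd 3726 = n11554 := ndS (p := 2273) (l := 6) rfl N2273 D11554
theorem N3727 : nd 3727 = n11555 := ndS (p := 2274) (l := 1) rfl N2274 D11555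
theorem N3728 : nd 3728 = n11556 := ndS (p := 2275) (l := 2) rfl N2275 D11556
theorem N3729 : nd 3729 = n11557 := ndS (p := 2275) (l := 4) rfl N2275 D11557
theorem N3730 : nd 3730 = n11558 := ndS (p := 2275) (l := 6) rfl N2275 D11558
theorem N3731 : nd 3731 = n11559 := ndS (p := 2276) (l := 1) rfl N2276 D11559
theorem N3732 : nd 3732 = n11560 := ndS (p := 2276) (l := 5) rfl N2276 D11560
theorem N3733 : nd 3733 = n11561 := ndS (p := 2277) (l := 1) rfl N2277 D11561
theorem N3734 : nd 3734 = n11562 := ndS (p := 2278) (l := 0) rfl N2278 D11562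
theorem N3735 : nd 3735 = n11564 := ndS (p := 2278) (l := 5) rfl N2278 D11564
theorem N3736 : nd 3736 = n11565 := ndS (p := 2278) (l := 6) rfl N2278 D11565
theorem N3737 : nd 3737 = n11566 := ndS (p := 2279) (l := 1) rfl N2279 D11566
theorem N3738 : nd 3738 = n11567 := ndS (p := 2279) (l := 3) rfl N2279 D11567
theorem N3739 : nd 3739 = n11568 := ndS (p := 2279) (l := 5) rfl N2279 D11568
theorem N3740 : nd 3740 = n11569 := ndS (p := 2280) (l := 1) rfl N2280 D11569
theorem N3741 : nd 3741 = n11570 := ndS (p := 2281) (l := 2) rfl N2281 D11570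
theorem N3742 : nd 3742 = n11571 := ndS (p := 2281) (l := 4) rfl N2281 D11571
theorem N3743 : nd 3743 = n11572 := ndS (p := 2281) (l := 5) rfl N2281 D11572
theorem N3744 : nd 3744 = n11573 := ndS (p := 2282) (l := 1) rfl N2282 D11573
theorem N3745 : nd 3745 = n11574 := ndS (p := 2282) (l := 6) rfl N2282 D11574
theorem N3746 : nd 3746 = n11575 := ndS (p := 2283) (l := 1) rfl N2283 D11575
theorem N3747 : nd 3747 = n11576 := ndS (p := 2284) (l := 0) rfl N2284 D11576
theorem N3748 : nd 3748 = n11577 := ndS (p := 2284) (l := 3) rfl N2284 D11577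
theorem N3749 : nd 3749 = n11578 := ndS (p := 2284) (l := 5) rfl N2284 D11578
theorem N3750 : nd 3750 = n11579 := ndS (p := 2284) (l := 6) rfl N2284 D11579
theorem N3751 : nd 3751 = n11580 := ndS (p := 2285) (l := 4) rfl N2285 D11580
theorem N3752 : nd 3752 = n11581 := ndS (p := 2286) (l := 1) rfl N2286 D11581
theorem N3753 : nd 3753 = n11582 := ndS (p := 2287) (l := 6) rfl N2287 D11582
theorem N3754 : nd 3754 = n11583 := ndS (p := 2288) (l := 1) rfl N2288 D11583
theorem N3755 : nd 3755 = n11584 := ndS (p := 2289) (l := 0) rfl N2289 D11584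
theorem N3756 : nd 3756 = n11585 := ndS (p := 2289) (l := 5) rfl N2289 D11585
theorem N3757 : nd 3757 = n11586 := ndS (p := 2290) (l := 0) rfl N2290 D11586
theorem N3758 : nd 3758 = n11587 := ndS (p := 2290) (l := 3) rfl N2290 D11587
theorem N3759 : nd 3759 = n11588 := ndS (p := 2290) (l := 5) rfl N2290 D11588
theorem N3760 : nd 3760 = n11589 := ndS (p := 2290) (l := 6) rfl N2290 D11589
theorem N3761 : nd 3761 = n11590 := ndS (p := 2291) (l := 4) rfl N2291 D11590
theorem N3762 : nd 3762 = n11591 := ndS (p := 2292) (l := 1) rfl N2292 D11591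
theorem N3763 : nd 3763 = n11592 := ndS (p := 2293) (l := 5) rfl N2293 D11592
theorem N3764 : nd 3764 = n11593 := ndS (p := 2294) (l := 1) rfl N2294 D11593
theorem N3765 : nd 3765 = n11594 := ndS (p := 2295) (l := 0) rfl N2295 D11594
theorem N3766 : nd 3766 = n11595 := ndS (p := 2295) (l := 6) rfl N2295 D11595
theorem N3767 : nd 3767 = n11596 := ndS (p := 2296) (l := 0) rfl N2296 D11596
theorem N3768 : nd 3768 = n11597 := ndS (p := 2296) (l := 3) rfl N2296 D11597
theorem N3769 : nd 3769 = n11598 := ndS (p := 2296) (l := 5) rfl N2296 D11598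
theorem N3770 : nd 3770 = n11599 := ndS (p := 2296) (l := 6) rfl N2296 D11599
theorem N3771 : nd 3771 = n11600 := ndS (p := 2297) (l := 4) rfl N2297 D11600
theorem N3772 : nd 3772 = n11601 := ndS (p := 2298) (l := 0) rfl N2298 D11601
theorem N3773 : nd 3773 = n11602 := ndS (p := 2298) (l := 3) rfl N2298 D11602
theorem N3774 : nd 3774 = n11603 := ndS (p := 2298) (l := 5) rfl N2298 D11603
theorem N3775 : nd 3775 = n11604 := ndS (p := 2298) (l := 6) rfl N2298 D11604
theorem N3776 : nd 3776 = n11605 := ndS (p := 2299) (l := 4) rfl N2299 D11605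
theorem N3777 : nd 3777 = n11606 := ndS (p := 2300) (l := 1) rfl N2300 D11606
theorem N3778 : nd 3778 = n11607 := ndS (p := 2301) (l := 1) rfl N2301 D11607
theorem N3779 : nd 3779 = n11608 := ndS (p := 2302) (l := 1) rfl N2302 D11608
theorem N3780 : nd 3780 = n11609 := ndS (p := 2302) (l := 6) rfl N2302 D11609
theorem N3781 : nd 3781 = n11610 := ndS (p := 2303) (l := 1) rfl N2303 D11610
theorem N3782 : nd 3782 = n11611 := ndS (p := 2303) (l := 5) rfl N2303 D11611
theorem N3783 : nd 3783 = n11612 := ndS (p := 2304) (l := 6) rfl N2304 D11612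
theorem N3784 : nd 3784 = n11613 := ndS (p := 2305) (l := 1) rfl N2305 D11613
theorem N3785 : nd 3785 = n11616 := ndS (p := 2306) (l := 5) rfl N2306 D11616
theorem N3786 : nd 3786 = n11617 := ndS (p := 2307) (l := 1) rfl N2307 D11617
theorem N3787 : nd 3787 = n11618 := ndS (p := 2308) (l := 1) rfl N2308 D11618
theorem N3788 : nd 3788 = n11619 := ndS (p := 2308) (l := 6) rfl N2308 D11619
theorem N3789 : nd 3789 = n11620 := ndS (p := 2309) (l := 6) rfl N2309 D11620
theorem N3790 : nd 3790 = n11621 := ndS (p := 2311) (l := 1) rfl N2311 D11621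
theorem N3791 : nd 3791 = n11623 := ndS (p := 2311) (l := 5) rfl N2311 D11623
theorem N3792 : nd 3792 = n11625 := ndS (p := 2312) (l := 5) rfl N2312 D11625
theorem N3793 : nd 3793 = n11627 := ndS (p := 2314) (l := 0) rfl N2314 D11627
theorem N3794 : nd 3794 = n11628 := ndS (p := 2314) (l := 2) rfl N2314 D11628
theorem N3795 : nd 3795 = n11629 := ndS (p := 2314) (l := 5) rfl N2314 D11629
theorem N3796 : nd 3796 = n11630 := ndS (p := 2314) (l := 6) rfl N2314 D11630
theorem N3797 : nd 3797 = n11631 := ndS (p := 2315) (l := 1) rfl N2315 D11631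
theorem N3798 : nd 3798 = n11632 := ndS (p := 2315) (l := 3) rfl N2315 D11632
theorem N3799 : nd 3799 = n11633 := ndS (p := 2316) (l := 2) rfl N2316 D11633
theorem N3800 : nd 3800 = n11634 := ndS (p := 2316) (l := 4) rfl N2316 D11634
theorem N3801 : nd 3801 = n11635 := ndS (p := 2316) (l := 6) rfl N2316 D11635
theorem N3802 : nd 3802 = n11636 := ndS (p := 2317) (l := 1) rfl N2317 D11636
theorem N3803 : nd 3803 = n11637 := ndS (p := 2318) (l := 0) rfl N2318 D11637
theorem N3804 : nd 3804 = n11638 := ndS (p := 2318) (l := 2) rfl N2318 D11638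
theorem N3805 : nd 3805 = n11639 := ndS (p := 2318) (l := 5) rfl N2318 D11639
theorem N3806 : nd 3806 = n11640 := ndS (p := 2319) (l := 1) rfl N2319 D11640
theorem N3807 : nd 3807 = n11641 := ndS (p := 2319) (l := 2) rfl N2319 D11641
theorem N3808 : nd 3808 = n11642 := ndS (p := 2319) (l := 5) rfl N2319 D11642
theorem N3809 : nd 3809 = n11643 := ndS (p := 2320) (l := 3) rfl N2320 D11643
theorem N3810 : nd 3810 = n11644 := ndS (p := 2320) (l := 5) rfl N2320 D11644
theorem N3811 : nd 3811 = n11645 := ndS (p := 2321) (l := 6) rfl N2321 D11645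
theorem N3812 : nd 3812 = n11646 := ndS (p := 2322) (l := 0) rfl N2322 D11646
theorem N3813 : nd 3813 = n11647 := ndS (p := 2322) (l := 2) rfl N2322 D11647
theorem N3814 : nd 3814 = n11648 := ndS (p := 2322) (l := 5) rfl N2322 D11648
theorem N3815 : nd 3815 = n11649 := ndS (p := 2322) (l := 6) rfl N2322 D11649
theorem N3816 : nd 3816 = n11650 := ndS (p := 2323) (l := 1) rfl N2323 D11650
theorem N3817 : nd 3817 = n11651 := ndS (p := 2323) (l := 3) rfl N2323 D11651
theorem N3818 : nd 3818 = n11652 := ndS (p := 2324) (l := 2) rfl N2324 D11652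
theorem N3819 : nd 3819 = n11653 := ndS (p := 2324) (l := 4) rfl N2324 D11653
theorem N3820 : nd 3820 = n11654 := ndS (p := 2324) (l := 5) rfl N2324 D11654
theorem N3821 : nd 3821 = n11655 := ndS (p := 2325) (l := 1) rfl N2325 D11655
theorem N3822 : nd 3822 = n11656 := ndS (p := 2326) (l := 0) rfl N2326 D11656
theorem N3823 : nd 3823 = n11657 := ndS (p := 2326) (l := 2) rfl N2326 D11657
theorem N3824 : nd 3824 = n11658 := ndS (p := 2326) (l := 6) rfl N2326 D11658
theorem N3825 : nd 3825 = n11659 := ndS (p := 2327) (l := 1) rfl N2327 D11659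
theorem N3826 : nd 3826 = n11660 := ndS (p := 2327) (l := 2) rfl N2327 D11660
theorem N3827 : nd 3827 = n11661 := ndS (p := 2327) (l := 6) rfl N2327 D11661
theorem N3828 : nd 3828 = n11662 := ndS (p := 2328) (l := 3) rfl N2328 D11662
theorem N3829 : nd 3829 = n11663 := ndS (p := 2328) (l := 6) rfl N2328 D11663
theorem N3830 : nd 3830 = n11664 := ndS (p := 2329) (l := 5) rfl N2329 D11664
theorem N3831 : nd 3831 = n11665 := ndS (p := 2330) (l := 5) rfl N2330 D11665
theorem N3832 : nd 3832 = n11666 := ndS (p := 2330) (l := 6) rfl N2330 D11666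
theorem N3833 : nd 3833 = n11667 := ndS (p := 2331) (l := 6) rfl N2331 D11667
theorem N3834 : nd 3834 = n11668 := ndS (p := 2332) (l := 1) rfl N2332 D11668
theorem N3835 : nd 3835 = n11669 := ndS (p := 2332) (l := 5) rfl N2332 D11669
theorem N3836 : nd 3836 = n11670 := ndS (p := 2333) (l := 3) rfl N2333 D11670
theorem N3837 : nd 3837 = n11671 := ndS (p := 2333) (l := 5) rfl N2333 D11671
theorem N3838 : nd 3838 = n11672 := ndS (p := 2333) (l := 6) rfl N2333 D11672
theorem N3839 : nd 3839 = n11673 := ndS (p := 2334) (l := 4) rfl N2334 D11673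
theorem N3840 : nd 3840 = n11674 := ndS (p := 2334) (l := 6) rfl N2334 D11674
theorem N3841 : nd 3841 = n11675 := ndS (p := 2335) (l := 1) rfl N2335 D11675
theorem N3842 : nd 3842 = n11676 := ndS (p := 2336) (l := 0) rfl N2336 D11676
theorem N3843 : nd 3843 = n11677 := ndS (p := 2336) (l := 2) rfl N2336 D11677
theorem N3844 : nd 3844 = n11678 := ndS (p := 2336) (l := 5) rfl N2336 D11678
theorem N3845 : nd 3845 = n11679 := ndS (p := 2337) (l := 1) rfl N2337 D11679
theorem N3846 : nd 3846 = n11680 := ndS (p := 2337) (l := 4) rfl N2337 D11680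
theorem N3847 : nd 3847 = n11681 := ndS (p := 2337) (l := 6) rfl N2337 D11681
theorem N3848 : nd 3848 = n11682 := ndS (p := 2338) (l := 6) rfl N2338 D11682
theorem N3849 : nd 3849 = n11683 := ndS (p := 2339) (l := 1) rfl N2339 D11683
theorem N3850 : nd 3850 = n11684 := ndS (p := 2339) (l := 5) rfl N2339 D11684
theorem N3851 : nd 3851 = n11685 := ndS (p := 2340) (l := 0) rfl N2340 D11685
theorem N3852 : nd 3852 = n11686 := ndS (p := 2340) (l := 5) rfl N2340 D11686
theorem N3853 : nd 3853 = n11687 := ndS (p := 2341) (l := 1) rfl N2341 D11687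
theorem N3854 : nd 3854 = n11688 := ndS (p := 2342) (l := 0) rfl N2342 D11688
theorem N3855 : nd 3855 = n11689 := ndS (p := 2342) (l := 2) rfl N2342 D11689
theorem N3856 : nd 3856 = n11690 := ndS (p := 2342) (l := 6) rfl N2342 D11690
theorem N3857 : nd 3857 = n11692 := ndS (p := 2343) (l := 5) rfl N2343 D11692
theorem N3858 : nd 3858 = n11693 := ndS (p := 2343) (l := 6) rfl N2343 D11693
theorem N3859 : nd 3859 = n11698 := ndS (p := 2344) (l := 1) rfl N2344 D11698
theorem N3860 : nd 3860 = n11699 := ndS (p := 2344) (l := 6) rfl N2344 D11699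
theorem N3861 : nd 3861 = n11700 := ndS (p := 2345) (l := 5) rfl N2345 D11700
theorem N3862 : nd 3862 = n11702 := ndS (p := 2346) (l := 3) rfl N2346 D11702
theorem N3863 : nd 3863 = n11703 := ndS (p := 2346) (l := 5) rfl N2346 D11703
theorem N3864 : nd 3864 = n11704 := ndS (p := 2346) (l := 6) rfl N2346 D11704
theorem N3865 : nd 3865 = n11705 := ndS (p := 2347) (l := 4) rfl N2347 D11705
theorem N3866 : nd 3866 = n11706 := ndS (p := 2347) (l := 5) rfl N2347 D11706
theorem N3867 : nd 3867 = n11707 := ndS (p := 2348) (l := 1) rfl N2348 D11707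
theorem N3868 : nd 3868 = n11708 := ndS (p := 2349) (l := 0) rfl N2349 D11708
theorem N3869 : nd 3869 = n11709 := ndS (p := 2349) (l := 2) rfl N2349 D11709
theorem N3870 : nd 3870 = n11710 := ndS (p := 2349) (l := 6) rfl N2349 D11710
theorem N3871 : nd 3871 = n11711 := ndS (p := 2350) (l := 1) rfl N2350 D11711
theorem N3872 : nd 3872 = n11712 := ndS (p := 2350) (l := 4) rfl N2350 D11712
theorem N3873 : nd 3873 = n11713 := ndS (p := 2350) (l := 5) rfl N2350 D11713
theorem N3874 : nd 3874 = n11714 := ndS (p := 2351) (l := 5) rfl N2351 D11714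
theorem N3875 : nd 3875 = n11715 := ndS (p := 2352) (l := 1) rfl N2352 D11715
theorem N3876 : nd 3876 = n11716 := ndS (p := 2352) (l := 6) rfl N2352 D11716
theorem N3877 : nd 3877 = n11717 := ndS (p := 2353) (l := 0) rfl N2353 D11717
theorem N3878 : nd 3878 = n11718 := ndS (p := 2353) (l := 6) rfl N2353 D11718
theorem N3879 : nd 3879 = n11719 := ndS (p := 2354) (l := 1) rfl N2354 D11719
theorem N3880 : nd 3880 = n11720 := ndS (p := 2355) (l := 0) rfl N2355 D11720
theorem N3881 : nd 3881 = n11721 := ndS (p := 2355) (l := 2) rfl N2355 D11721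
theorem N3882 : nd 3882 = n11722 := ndS (p := 2355) (l := 5) rfl N2355 D11722
theorem N3883 : nd 3883 = n11723 := ndS (p := 2356) (l := 1) rfl N2356 D11723
theorem N3884 : nd 3884 = n11724 := ndS (p := 2356) (l := 3) rfl N2356 D11724
theorem N3885 : nd 3885 = n11725 := ndS (p := 2356) (l := 5) rfl N2356 D11725
theorem N3886 : nd 3886 = n11726 := ndS (p := 2356) (l := 6) rfl N2356 D11726
theorem N3887 : nd 3887 = n11727 := ndS (p := 2357) (l := 2) rfl N2357 D11727
theorem N3888 : nd 3888 = n11728 := ndS (p := 2357) (l := 4) rfl N2357 D11728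
theorem N3889 : nd 3889 = n11729 := ndS (p := 2357) (l := 5) rfl N2357 D11729
theorem N3890 : nd 3890 = n11730 := ndS (p := 2357) (l := 6) rfl N2357 D11730
theorem N3891 : nd 3891 = n11731 := ndS (p := 2358) (l := 6) rfl N2358 D11731
theorem N3892 : nd 3892 = n11732 := ndS (p := 2359) (l := 1) rfl N2359 D11732
theorem N3893 : nd 3893 = n11733 := ndS (p := 2359) (l := 5) rfl N2359 D11733
theorem N3894 : nd 3894 = n11734 := ndS (p := 2360) (l := 6) rfl N2360 D11734
theorem N3895 : nd 3895 = n11735 := ndS (p := 2361) (l := 1) rfl N2361 D11735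
theorem N3896 : nd 3896 = n11736 := ndS (p := 2362) (l := 0) rfl N2362 D11736
theorem N3897 : nd 3897 = n11737 := ndS (p := 2362) (l := 5) rfl N2362 D11737
theorem N3898 : nd 3898 = n11738 := ndS (p := 2363) (l := 0) rfl N2363 D11738
theorem N3899 : nd 3899 = n11739 := ndS (p := 2363) (l := 4) rfl N2363 D11739
theorem N3900 : nd 3900 = n11740 := ndS (p := 2363) (l := 5) rfl N2363 D11740
theorem N3901 : nd 3901 = n11741 := ndS (p := 2363) (l := 6) rfl N2363 D11741
theorem N3902 : nd 3902 = n11742 := ndS (p := 2364) (l := 3) rfl N2364 D11742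
theorem N3903 : nd 3903 = n11743 := ndS (p := 2364) (l := 6) rfl N2364 D11743
theorem N3904 : nd 3904 = n11744 := ndS (p := 2365) (l := 1) rfl N2365 D11744
theorem N3905 : nd 3905 = n11745 := ndS (p := 2366) (l := 1) rfl N2366 D11745
theorem N3906 : nd 3906 = n11746 := ndS (p := 2367) (l := 0) rfl N2367 D11746
theorem N3907 : nd 3907 = n11747 := ndS (p := 2367) (l := 2) rfl N2367 D11747
theorem N3908 : nd 3908 = n11748 := ndS (p := 2367) (l := 5) rfl N2367 D11748
theorem N3909 : nd 3909 = n11749 := ndS (p := 2368) (l := 1) rfl N2368 D11749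
theorem N3910 : nd 3910 = n11750 := ndS (p := 2368) (l := 5) rfl N2368 D11750
theorem N3911 : nd 3911 = n11751 := ndS (p := 2369) (l := 6) rfl N2369 D11751
theorem N3912 : nd 3912 = n11752 := ndS (p := 2370) (l := 1) rfl N2370 D11752
theorem N3913 : nd 3913 = n11753 := ndS (p := 2370) (l := 3) rfl N2370 D11753
theorem N3914 : nd 3914 = n11754 := ndS (p := 2370) (l := 5) rfl N2370 D11754
theorem N3915 : nd 3915 = n11755 := ndS (p := 2370) (l := 6) rfl N2370 D11755
theorem N3916 : nd 3916 = n11756 := ndS (p := 2371) (l := 2) rfl N2371 D11756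
theorem N3917 : nd 3917 = n11757 := ndS (p := 2371) (l := 4) rfl N2371 D11757
theorem N3918 : nd 3918 = n11758 := ndS (p := 2371) (l := 5) rfl N2371 D11758
theorem N3919 : nd 3919 = n11759 := ndS (p := 2371) (l := 6) rfl N2371 D11759
theorem N3920 : nd 3920 = n11760 := ndS (p := 2372) (l := 1) rfl N2372 D11760
theorem N3921 : nd 3921 = n11761 := ndS (p := 2372) (l := 6) rfl N2372 D11761
theorem N3922 : nd 3922 = n11762 := ndS (p := 2373) (l := 5) rfl N2373 D11762
theorem N3923 : nd 3923 = n11763 := ndS (p := 2374) (l := 5) rfl N2374 D11763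
theorem N3924 : nd 3924 = n11764 := ndS (p := 2375) (l := 1) rfl N2375 D11764
theorem N3925 : nd 3925 = n11765 := ndS (p := 2376) (l := 0) rfl N2376 D11765
theorem N3926 : nd 3926 = n11766 := ndS (p := 2376) (l := 6) rfl N2376 D11766
theorem N3927 : nd 3927 = n11767 := ndS (p := 2377) (l := 0) rfl N2377 D11767
theorem N3928 : nd 3928 = n11768 := ndS (p := 2377) (l := 4) rfl N2377 D11768
theorem N3929 : nd 3929 = n11769 := ndS (p := 2377) (l := 5) rfl N2377 D11769
theorem N3930 : nd 3930 = n11771 := ndS (p := 2378) (l := 3) rfl N2378 D11771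
theorem N3931 : nd 3931 = n11772 := ndS (p := 2378) (l := 5) rfl N2378 D11772
theorem N3932 : nd 3932 = n11773 := ndS (p := 2379) (l := 1) rfl N2379 D11773
theorem N3933 : nd 3933 = n11774 := ndS (p := 2380) (l := 1) rfl N2380 D11774
theorem N3934 : nd 3934 = n11775 := ndS (p := 2381) (l := 0) rfl N2381 D11775
theorem N3935 : nd 3935 = n11776 := ndS (p := 2381) (l := 2) rfl N2381 D11776
theorem N3936 : nd 3936 = n11777 := ndS (p := 2381) (l := 6) rfl N2381 D11777
theorem N3937 : nd 3937 = n11778 := ndS (p := 2382) (l := 1) rfl N2382 D11778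
theorem N3938 : nd 3938 = n11779 := ndS (p := 2382) (l := 6) rfl N2382 D11779
theorem N3939 : nd 3939 = n11780 := ndS (p := 2383) (l := 5) rfl N2383 D11780
theorem N3940 : nd 3940 = n11781 := ndS (p := 2384) (l := 1) rfl N2384 D11781
theorem N3941 : nd 3941 = n11782 := ndS (p := 2384) (l := 3) rfl N2384 D11782
theorem N3942 : nd 3942 = n11791 := ndS (p := 2385) (l := 6) rfl N2385 D11791
theorem N3943 : nd 3943 = n11793 := ndS (p := 2387) (l := 1) rfl N2387 D11793
theorem N3944 : nd 3944 = n11797 := ndS (p := 2388) (l := 1) rfl N2388 D11797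
theorem N3945 : nd 3945 = n11798 := ndS (p := 2388) (l := 3) rfl N2388 D11798
theorem N3946 : nd 3946 = n11799 := ndS (p := 2388) (l := 4) rfl N2388 D11799
theorem N3947 : nd 3947 = n11800 := ndS (p := 2388) (l := 5) rfl N2388 D11800
theorem N3948 : nd 3948 = n11801 := ndS (p := 2388) (l := 6) rfl N2388 D11801
theorem N3949 : nd 3949 = n11802 := ndS (p := 2389) (l := 4) rfl N2389 D11802
theorem N3950 : nd 3950 = n11803 := ndS (p := 2389) (l := 5) rfl N2389 D11803
theorem N3951 : nd 3951 = n11804 := ndS (p := 2389) (l := 6) rfl N2389 D11804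
theorem N3952 : nd 3952 = n11805 := ndS (p := 2390) (l := 3) rfl N2390 D11805
theorem N3953 : nd 3953 = n11806 := ndS (p := 2390) (l := 5) rfl N2390 D11806
theorem N3954 : nd 3954 = n11807 := ndS (p := 2390) (l := 6) rfl N2390 D11807
theorem N3955 : nd 3955 = n11808 := ndS (p := 2391) (l := 6) rfl N2391 D11808
theorem N3956 : nd 3956 = n11809 := ndS (p := 2392) (l := 1) rfl N2392 D11809
theorem N3957 : nd 3957 = n11810 := ndS (p := 2392) (l := 5) rfl N2392 D11810
theorem N3958 : nd 3958 = n11811 := ndS (p := 2393) (l := 3) rfl N2393 D11811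
theorem N3959 : nd 3959 = n11812 := ndS (p := 2393) (l := 6) rfl N2393 D11812
theorem N3960 : nd 3960 = n11813 := ndS (p := 2394) (l := 1) rfl N2394 D11813
theorem N3961 : nd 3961 = n11814 := ndS (p := 2395) (l := 2) rfl N2395 D11814
theorem N3962 : nd 3962 = n11815 := ndS (p := 2395) (l := 6) rfl N2395 D11815
theorem N3963 : nd 3963 = n11816 := ndS (p := 2396) (l := 1) rfl N2396 D11816
theorem N3964 : nd 3964 = n11817 := ndS (p := 2397) (l := 0) rfl N2397 D11817
theorem N3965 : nd 3965 = n11818 := ndS (p := 2397) (l := 2) rfl N2397 D11818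
theorem N3966 : nd 3966 = n11819 := ndS (p := 2397) (l := 5) rfl N2397 D11819
theorem N3967 : nd 3967 = n11821 := ndS (p := 2398) (l := 2) rfl N2398 D11821
theorem N3968 : nd 3968 = n11822 := ndS (p := 2399) (l := 2) rfl N2399 D11822
theorem N3969 : nd 3969 = n11823 := ndS (p := 2400) (l := 3) rfl N2400 D11823
theorem N3970 : nd 3970 = n11824 := ndS (p := 2401) (l := 1) rfl N2401 D11824
theorem N3971 : nd 3971 = n11825 := ndS (p := 2401) (l := 3) rfl N2401 D11825
theorem N3972 : nd 3972 = n11833 := ndS (p := 2402) (l := 5) rfl N2402 D11833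
theorem N3973 : nd 3973 = n11836 := ndS (p := 2404) (l := 1) rfl N2404 D11836
theorem N3974 : nd 3974 = n11840 := ndS (p := 2405) (l := 1) rfl N2405 D11840
theorem N3975 : nd 3975 = n11841 := ndS (p := 2405) (l := 3) rfl N2405 D11841
theorem N3976 : nd 3976 = n11842 := ndS (p := 2405) (l := 4) rfl N2405 D11842
theorem N3977 : nd 3977 = n11843 := ndS (p := 2405) (l := 5) rfl N2405 D11843
theorem N3978 : nd 3978 = n11844 := ndS (p := 2405) (l := 6) rfl N2405 D11844
theorem N3979 : nd 3979 = n11845 := ndS (p := 2406) (l := 4) rfl N2406 D11845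
theorem N3980 : nd 3980 = n11846 := ndS (p := 2406) (l := 5) rfl N2406 D11846
theorem N3981 : nd 3981 = n11847 := ndS (p := 2406) (l := 6) rfl N2406 D11847
theorem N3982 : nd 3982 = n11848 := ndS (p := 2407) (l := 3) rfl N2407 D11848
theorem N3983 : nd 3983 = n11849 := ndS (p := 2407) (l := 5) rfl N2407 D11849
theorem N3984 : nd 3984 = n11850 := ndS (p := 2407) (l := 6) rfl N2407 D11850
theorem N3985 : nd 3985 = n11851 := ndS (p := 2408) (l := 1) rfl N2408 D11851
theorem N3986 : nd 3986 = n11852 := ndS (p := 2408) (l := 6) rfl N2408 D11852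
theorem N3987 : nd 3987 = n11853 := ndS (p := 2409) (l := 5) rfl N2409 D11853
theorem N3988 : nd 3988 = n11854 := ndS (p := 2410) (l := 3) rfl N2410 D11854
theorem N3989 : nd 3989 = n11855 := ndS (p := 2410) (l := 5) rfl N2410 D11855
theorem N3990 : nd 3990 = n11856 := ndS (p := 2411) (l := 1) rfl N2411 D11856
theorem N3991 : nd 3991 = n11857 := ndS (p := 2412) (l := 2) rfl N2412 D11857
theorem N3992 : nd 3992 = n11858 := ndS (p := 2412) (l := 5) rfl N2412 D11858
theorem N3993 : nd 3993 = n11859 := ndS (p := 2413) (l := 1) rfl N2413 D11859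
theorem N3994 : nd 3994 = n11860 := ndS (p := 2414) (l := 0) rfl N2414 D11860
theorem N3995 : nd 3995 = n11861 := ndS (p := 2414) (l := 2) rfl N2414 D11861
theorem N3996 : nd 3996 = n11862 := ndS (p := 2414) (l := 6) rfl N2414 D11862
theorem N3997 : nd 3997 = n11864 := ndS (p := 2415) (l := 2) rfl N2415 D11864
theorem N3998 : nd 3998 = n11865 := ndS (p := 2416) (l := 2) rfl N2416 D11865
theorem N3999 : nd 3999 = n11866 := ndS (p := 2417) (l := 3) rfl N2417 D11866
theorem N4000 : nd 4000 = n11867 := ndS (p := 2418) (l := 1) rfl N2418 D11867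
theorem N4001 : nd 4001 = n11870 := ndS (p := 2418) (l := 6) rfl N2418 D11870
theorem N4002 : nd 4002 = n11873 := ndS (p := 2419) (l := 6) rfl N2419 D11873
theorem N4003 : nd 4003 = n11874 := ndS (p := 2420) (l := 6) rfl N2420 D11874
theorem N4004 : nd 4004 = n11876 := ndS (p := 2423) (l := 0) rfl N2423 D11876
theorem N4005 : nd 4005 = n11877 := ndS (p := 2423) (l := 2) rfl N2423 D11877
theorem N4006 : nd 4006 = n11878 := ndS (p := 2423) (l := 4) rfl N2423 D11878
theorem N4007 : nd 4007 = n11879 := ndS (p := 2423) (l := 5) rfl N2423 D11879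
theorem N4008 : nd 4008 = n11880 := ndS (p := 2423) (l := 6) rfl N2423 D11880
theorem N4009 : nd 4009 = n11883 := ndS (p := 2424) (l := 6) rfl N2424 D11883
theorem N4010 : nd 4010 = n11885 := ndS (p := 2426) (l := 1) rfl N2426 D11885
theorem N4011 : nd 4011 = n11886 := ndS (p := 2427) (l := 2) rfl N2427 D11886
theorem N4012 : nd 4012 = n11888 := ndS (p := 2427) (l := 6) rfl N2427 D11888
theorem N4013 : nd 4013 = n11889 := ndS (p := 2428) (l := 6) rfl N2428 D11889
theorem N4014 : nd 4014 = n11890 := ndS (p := 2429) (l := 1) rfl N2429 D11890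
theorem N4015 : nd 4015 = n11892 := ndS (p := 2430) (l := 1) rfl N2430 D11892
theorem N4016 : nd 4016 = n11893 := ndS (p := 2431) (l := 0) rfl N2431 D11893
theorem N4017 : nd 4017 = n11894 := ndS (p := 2431) (l := 2) rfl N2431 D11894
theorem N4018 : nd 4018 = n11895 := ndS (p := 2431) (l := 5) rfl N2431 D11895
theorem N4019 : nd 4019 = n11896 := ndS (p := 2432) (l := 1) rfl N2432 D11896
theorem N4020 : nd 4020 = n11898 := ndS (p := 2433) (l := 6) rfl N2433 D11898
theorem N4021 : nd 4021 = n11899 := ndS (p := 2434) (l := 1) rfl N2434 D11899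
theorem N4022 : nd 4022 = n11900 := ndS (p := 2435) (l := 0) rfl N2435 D11900
theorem N4023 : nd 4023 = n11901 := ndS (p := 2435) (l := 2) rfl N2435 D11901
theorem N4024 : nd 4024 = n11902 := ndS (p := 2435) (l := 5) rfl N2435 D11902
theorem N4025 : nd 4025 = n11903 := ndS (p := 2436) (l := 1) rfl N2436 D11903
theorem N4026 : nd 4026 = n11904 := ndS (p := 2437) (l := 1) rfl N2437 D11904
theorem N4027 : nd 4027 = n11905 := ndS (p := 2437) (l := 2) rfl N2437 D11905
theorem N4028 : nd 4028 = n11906 := ndS (p := 2437) (l := 5) rfl N2437 D11906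
theorem N4029 : nd 4029 = n11907 := ndS (p := 2438) (l := 3) rfl N2438 D11907
theorem N4030 : nd 4030 = n11908 := ndS (p := 2438) (l := 5) rfl N2438 D11908
theorem N4031 : nd 4031 = n11909 := ndS (p := 2439) (l := 1) rfl N2439 D11909
theorem N4032 : nd 4032 = n11910 := ndS (p := 2439) (l := 6) rfl N2439 D11910
theorem N4033 : nd 4033 = n11911 := ndS (p := 2440) (l := 0) rfl N2440 D11911
theorem N4034 : nd 4034 = n11912 := ndS (p := 2440) (l := 2) rfl N2440 D11912
theorem N4035 : nd 4035 = n11913 := ndS (p := 2440) (l := 6) rfl N2440 D11913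
theorem N4036 : nd 4036 = n11914 := ndS (p := 2441) (l := 2) rfl N2441 D11914
theorem N4037 : nd 4037 = n11915 := ndS (p := 2442) (l := 3) rfl N2442 D11915
theorem N4038 : nd 4038 = n11919 := ndS (p := 2443) (l := 2) rfl N2443 D11919
theorem N4039 : nd 4039 = n11920 := ndS (p := 2444) (l := 1) rfl N2444 D11920
theorem N4040 : nd 4040 = n11921 := ndS (p := 2444) (l := 3) rfl N2444 D11921
theorem N4041 : nd 4041 = n11922 := ndS (p := 2445) (l := 2) rfl N2445 D11922
theorem N4042 : nd 4042 = n11923 := ndS (p := 2445) (l := 4) rfl N2445 D11923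
theorem N4043 : nd 4043 = n11924 := ndS (p := 2445) (l := 5) rfl N2445 D11924
theorem N4044 : nd 4044 = n11925 := ndS (p := 2446) (l := 1) rfl N2446 D11925
theorem N4045 : nd 4045 = n11926 := ndS (p := 2447) (l := 3) rfl N2447 D11926
theorem N4046 : nd 4046 = n11928 := ndS (p := 2448) (l := 1) rfl N2448 D11928
theorem N4047 : nd 4047 = n11930 := ndS (p := 2448) (l := 5) rfl N2448 D11930
theorem N4048 : nd 4048 = n11933 := ndS (p := 2449) (l := 5) rfl N2449 D11933
theorem N4049 : nd 4049 = n11936 := ndS (p := 2451) (l := 5) rfl N2451 D11936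
theorem N4050 : nd 4050 = n11937 := ndS (p := 2453) (l := 0) rfl N2453 D11937
theorem N4051 : nd 4051 = n11938 := ndS (p := 2453) (l := 2) rfl N2453 D11938
theorem N4052 : nd 4052 = n11939 := ndS (p := 2453) (l := 4) rfl N2453 D11939
theorem N4053 : nd 4053 = n11940 := ndS (p := 2453) (l := 5) rfl N2453 D11940
theorem N4054 : nd 4054 = n11941 := ndS (p := 2453) (l := 6) rfl N2453 D11941
theorem N4055 : nd 4055 = n11943 := ndS (p := 2454) (l := 5) rfl N2454 D11943
theorem N4056 : nd 4056 = n11945 := ndS (p := 2455) (l := 1) rfl N2455 D11945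
theorem N4057 : nd 4057 = n11947 := ndS (p := 2457) (l := 2) rfl N2457 D11947
theorem N4058 : nd 4058 = n11948 := ndS (p := 2457) (l := 5) rfl N2457 D11948
theorem N4059 : nd 4059 = n11950 := ndS (p := 2458) (l := 1) rfl N2458 D11950
theorem N4060 : nd 4060 = n11952 := ndS (p := 2459) (l := 5) rfl N2459 D11952
theorem N4061 : nd 4061 = n11953 := ndS (p := 2460) (l := 0) rfl N2460 D11953
theorem N4062 : nd 4062 = n11954 := ndS (p := 2460) (l := 2) rfl N2460 D11954
theorem N4063 : nd 4063 = n11955 := ndS (p := 2460) (l := 6) rfl N2460 D11955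
theorem N4064 : nd 4064 = n11956 := ndS (p := 2461) (l := 1) rfl N2461 D11956
theorem N4065 : nd 4065 = n11957 := ndS (p := 2462) (l := 1) rfl N2462 D11957
theorem N4066 : nd 4066 = n11959 := ndS (p := 2463) (l := 5) rfl N2463 D11959
theorem N4067 : nd 4067 = n11960 := ndS (p := 2464) (l := 1) rfl N2464 D11960
theorem N4068 : nd 4068 = n11961 := ndS (p := 2465) (l := 0) rfl N2465 D11961
theorem N4069 : nd 4069 = n11962 := ndS (p := 2465) (l := 2) rfl N2465 D11962
theorem N4070 : nd 4070 = n11963 := ndS (p := 2465) (l := 6) rfl N2465 D11963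
theorem N4071 : nd 4071 = n11964 := ndS (p := 2466) (l := 1) rfl N2466 D11964
theorem N4072 : nd 4072 = n11965 := ndS (p := 2467) (l := 1) rfl N2467 D11965
theorem N4073 : nd 4073 = n11966 := ndS (p := 2467) (l := 2) rfl N2467 D11966
theorem N4074 : nd 4074 = n11967 := ndS (p := 2467) (l := 6) rfl N2467 D11967
theorem N4075 : nd 4075 = n11968 := ndS (p := 2468) (l := 3) rfl N2468 D11968
theorem N4076 : nd 4076 = n11969 := ndS (p := 2468) (l := 6) rfl N2468 D11969
theorem N4077 : nd 4077 = n11970 := ndS (p := 2469) (l := 1) rfl N2469 D11970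
theorem N4078 : nd 4078 = n11971 := ndS (p := 2469) (l := 5) rfl N2469 D11971
theorem N4079 : nd 4079 = n11972 := ndS (p := 2470) (l := 0) rfl N2470 D11972
theorem N4080 : nd 4080 = n11973 := ndS (p := 2470) (l := 2) rfl N2470 D11973
theorem N4081 : nd 4081 = n11974 := ndS (p := 2470) (l := 5) rfl N2470 D11974
theorem N4082 : nd 4082 = n11975 := ndS (p := 2471) (l := 2) rfl N2471 D11975
theorem N4083 : nd 4083 = n11976 := ndS (p := 2472) (l := 3) rfl N2472 D11976
theorem N4084 : nd 4084 = n11980 := ndS (p := 2473) (l := 2) rfl N2473 D11980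
theorem N4085 : nd 4085 = n11981 := ndS (p := 2474) (l := 1) rfl N2474 D11981
theorem N4086 : nd 4086 = n11982 := ndS (p := 2474) (l := 3) rfl N2474 D11982
theorem N4087 : nd 4087 = n11983 := ndS (p := 2475) (l := 2) rfl N2475 D11983
theorem N4088 : nd 4088 = n11984 := ndS (p := 2475) (l := 4) rfl N2475 D11984
theorem N4089 : nd 4089 = n11985 := ndS (p := 2475) (l := 6) rfl N2475 D11985
theorem N4090 : nd 4090 = n11986 := ndS (p := 2476) (l := 1) rfl N2476 D11986
theorem N4091 : nd 4091 = n11987 := ndS (p := 2477) (l := 3) rfl N2477 D11987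
theorem N4092 : nd 4092 = n11997 := ndS (p := 2478) (l := 1) rfl N2478 D11997
theorem N4093 : nd 4093 = n11998 := ndS (p := 2478) (l := 3) rfl N2478 D11998
theorem N4094 : nd 4094 = n12000 := ndS (p := 2479) (l := 0) rfl N2479 D12000
theorem N4095 : nd 4095 = n12001 := ndS (p := 2479) (l := 3) rfl N2479 D12001
theorem N4096 : nd 4096 = n12002 := ndS (p := 2479) (l := 5) rfl N2479 D12002
theorem N4097 : nd 4097 = n12003 := ndS (p := 2479) (l := 6) rfl N2479 D12003
theorem N4098 : nd 4098 = n12004 := ndS (p := 2480) (l := 4) rfl N2480 D12004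
theorem N4099 : nd 4099 = n12005 := ndS (p := 2480) (l := 6) rfl N2480 D12005
theorem N4100 : nd 4100 = n12006 := ndS (p := 2481) (l := 1) rfl N2481 D12006
theorem N4101 : nd 4101 = n12007 := ndS (p := 2482) (l := 0) rfl N2482 D12007
theorem N4102 : nd 4102 = n12009 := ndS (p := 2482) (l := 6) rfl N2482 D12009
theorem N4103 : nd 4103 = n12010 := ndS (p := 2483) (l := 1) rfl N2483 D12010
theorem N4104 : nd 4104 = n12011 := ndS (p := 2483) (l := 5) rfl N2483 D12011
theorem N4105 : nd 4105 = n12012 := ndS (p := 2483) (l := 6) rfl N2483 D12012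
theorem N4106 : nd 4106 = n12013 := ndS (p := 2484) (l := 6) rfl N2484 D12013
theorem N4107 : nd 4107 = n12014 := ndS (p := 2485) (l := 5) rfl N2485 D12014
theorem N4108 : nd 4108 = n12015 := ndS (p := 2486) (l := 1) rfl N2486 D12015
theorem N4109 : nd 4109 = n12016 := ndS (p := 2486) (l := 3) rfl N2486 D12016
theorem N4110 : nd 4110 = n12018 := ndS (p := 2487) (l := 0) rfl N2487 D12018
theorem N4111 : nd 4111 = n12019 := ndS (p := 2487) (l := 3) rfl N2487 D12019
theorem N4112 : nd 4112 = n12020 := ndS (p := 2487) (l := 5) rfl N2487 D12020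
theorem N4113 : nd 4113 = n12021 := ndS (p := 2487) (l := 6) rfl N2487 D12021
theorem N4114 : nd 4114 = n12022 := ndS (p := 2488) (l := 4) rfl N2488 D12022
theorem N4115 : nd 4115 = n12023 := ndS (p := 2488) (l := 5) rfl N2488 D12023
theorem N4116 : nd 4116 = n12024 := ndS (p := 2489) (l := 1) rfl N2489 D12024
theorem N4117 : nd 4117 = n12025 := ndS (p := 2490) (l := 0) rfl N2490 D12025
theorem N4118 : nd 4118 = n12026 := ndS (p := 2490) (l := 5) rfl N2490 D12026
theorem N4119 : nd 4119 = n12028 := ndS (p := 2491) (l := 1) rfl N2491 D12028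
theorem N4120 : nd 4120 = n12029 := ndS (p := 2491) (l := 5) rfl N2491 D12029
theorem N4121 : nd 4121 = n12030 := ndS (p := 2491) (l := 6) rfl N2491 D12030
theorem N4122 : nd 4122 = n12031 := ndS (p := 2492) (l := 6) rfl N2492 D12031
theorem N4123 : nd 4123 = n12032 := ndS (p := 2493) (l := 5) rfl N2493 D12032
theorem N4124 : nd 4124 = n12033 := ndS (p := 2494) (l := 3) rfl N2494 D12033
theorem N4125 : nd 4125 = n12034 := ndS (p := 2494) (l := 5) rfl N2494 D12034
theorem N4126 : nd 4126 = n12035 := ndS (p := 2494) (l := 6) rfl N2494 D12035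
theorem N4127 : nd 4127 = n12036 := ndS (p := 2495) (l := 1) rfl N2495 D12036
theorem N4128 : nd 4128 = n12037 := ndS (p := 2496) (l := 1) rfl N2496 D12037
theorem N4129 : nd 4129 = n12038 := ndS (p := 2497) (l := 4) rfl N2497 D12038
theorem N4130 : nd 4130 = n12039 := ndS (p := 2497) (l := 5) rfl N2497 D12039
theorem N4131 : nd 4131 = n12040 := ndS (p := 2497) (l := 6) rfl N2497 D12040
theorem N4132 : nd 4132 = n12041 := ndS (p := 2498) (l := 1) rfl N2498 D12041
theorem N4133 : nd 4133 = n12042 := ndS (p := 2498) (l := 6) rfl N2498 D12042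
theorem N4134 : nd 4134 = n12043 := ndS (p := 2499) (l := 1) rfl N2499 D12043
theorem N4135 : nd 4135 = n12044 := ndS (p := 2499) (l := 5) rfl N2499 D12044
theorem N4136 : nd 4136 = n12045 := ndS (p := 2500) (l := 1) rfl N2500 D12045
theorem N4137 : nd 4137 = n12046 := ndS (p := 2500) (l := 6) rfl N2500 D12046
theorem N4138 : nd 4138 = n12047 := ndS (p := 2501) (l := 1) rfl N2501 D12047
theorem N4139 : nd 4139 = n12048 := ndS (p := 2501) (l := 5) rfl N2501 D12048
theorem N4140 : nd 4140 = n12049 := ndS (p := 2502) (l := 0) rfl N2502 D12049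
theorem N4141 : nd 4141 = n12050 := ndS (p := 2502) (l := 2) rfl N2502 D12050
theorem N4142 : nd 4142 = n12051 := ndS (p := 2502) (l := 6) rfl N2502 D12051
theorem N4143 : nd 4143 = n12052 := ndS (p := 2503) (l := 1) rfl N2503 D12052
theorem N4144 : nd 4144 = n12053 := ndS (p := 2504) (l := 0) rfl N2504 D12053
theorem N4145 : nd 4145 = n12054 := ndS (p := 2504) (l := 2) rfl N2504 D12054
theorem N4146 : nd 4146 = n12055 := ndS (p := 2504) (l := 5) rfl N2504 D12055
theorem N4147 : nd 4147 = n12056 := ndS (p := 2505) (l := 1) rfl N2505 D12056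
theorem N4148 : nd 4148 = n12057 := ndS (p := 2506) (l := 0) rfl N2506 D12057
theorem N4149 : nd 4149 = n12058 := ndS (p := 2506) (l := 3) rfl N2506 D12058
theorem N4150 : nd 4150 = n12059 := ndS (p := 2506) (l := 5) rfl N2506 D12059
theorem N4151 : nd 4151 = n12060 := ndS (p := 2506) (l := 6) rfl N2506 D12060
theorem N4152 : nd 4152 = n12061 := ndS (p := 2507) (l := 5) rfl N2507 D12061
theorem N4153 : nd 4153 = n12062 := ndS (p := 2507) (l := 6) rfl N2507 D12062
theorem N4154 : nd 4154 = n12063 := ndS (p := 2508) (l := 1) rfl N2508 D12063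
theorem N4155 : nd 4155 = n12064 := ndS (p := 2509) (l := 1) rfl N2509 D12064
theorem N4156 : nd 4156 = n12065 := ndS (p := 2510) (l := 0) rfl N2510 D12065
theorem N4157 : nd 4157 = n12066 := ndS (p := 2510) (l := 2) rfl N2510 D12066
theorem N4158 : nd 4158 = n12067 := ndS (p := 2510) (l := 6) rfl N2510 D12067
theorem N4159 : nd 4159 = n12068 := ndS (p := 2511) (l := 0) rfl N2511 D12068
theorem N4160 : nd 4160 = n12069 := ndS (p := 2511) (l := 2) rfl N2511 D12069
theorem N4161 : nd 4161 = n12070 := ndS (p := 2511) (l := 5) rfl N2511 D12070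
theorem N4162 : nd 4162 = n12071 := ndS (p := 2512) (l := 1) rfl N2512 D12071
theorem N4163 : nd 4163 = n12072 := ndS (p := 2512) (l := 2) rfl N2512 D12072
theorem N4164 : nd 4164 = n12073 := ndS (p := 2512) (l := 6) rfl N2512 D12073
theorem N4165 : nd 4165 = n12074 := ndS (p := 2513) (l := 3) rfl N2513 D12074
theorem N4166 : nd 4166 = n12075 := ndS (p := 2513) (l := 6) rfl N2513 D12075
theorem N4167 : nd 4167 = n12076 := ndS (p := 2514) (l := 5) rfl N2514 D12076
theorem N4168 : nd 4168 = n12077 := ndS (p := 2515) (l := 1) rfl N2515 D12077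
theorem N4169 : nd 4169 = n12078 := ndS (p := 2515) (l := 2) rfl N2515 D12078
theorem N4170 : nd 4170 = n12079 := ndS (p := 2515) (l := 5) rfl N2515 D12079
theorem N4171 : nd 4171 = n12080 := ndS (p := 2516) (l := 3) rfl N2516 D12080
theorem N4172 : nd 4172 = n12081 := ndS (p := 2516) (l := 5) rfl N2516 D12081
theorem N4173 : nd 4173 = n12082 := ndS (p := 2517) (l := 6) rfl N2517 D12082
theorem N4174 : nd 4174 = n12083 := ndS (p := 2518) (l := 1) rfl N2518 D12083
theorem N4175 : nd 4175 = n12084 := ndS (p := 2518) (l := 6) rfl N2518 D12084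
theorem N4176 : nd 4176 = n12085 := ndS (p := 2519) (l := 1) rfl N2519 D12085
theorem N4177 : nd 4177 = n12086 := ndS (p := 2519) (l := 5) rfl N2519 D12086
theorem N4178 : nd 4178 = n12088 := ndS (p := 2520) (l := 2) rfl N2520 D12088
theorem N4179 : nd 4179 = n12089 := ndS (p := 2520) (l := 6) rfl N2520 D12089
theorem N4180 : nd 4180 = n12090 := ndS (p := 2521) (l := 1) rfl N2521 D12090
theorem N4181 : nd 4181 = n12092 := ndS (p := 2522) (l := 2) rfl N2522 D12092
theorem N4182 : nd 4182 = n12093 := ndS (p := 2522) (l := 5) rfl N2522 D12093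
theorem N4183 : nd 4183 = n12094 := ndS (p := 2523) (l := 1) rfl N2523 D12094
theorem N4184 : nd 4184 = n12095 := ndS (p := 2524) (l := 1) rfl N2524 D12095
theorem N4185 : nd 4185 = n12096 := ndS (p := 2524) (l := 2) rfl N2524 D12096
theorem N4186 : nd 4186 = n12097 := ndS (p := 2525) (l := 3) rfl N2525 D12097
theorem N4187 : nd 4187 = n12098 := ndS (p := 2525) (l := 6) rfl N2525 D12098
theorem N4188 : nd 4188 = n12099 := ndS (p := 2526) (l := 1) rfl N2526 D12099
theorem N4189 : nd 4189 = n12100 := ndS (p := 2527) (l := 0) rfl N2527 D12100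
theorem N4190 : nd 4190 = n12101 := ndS (p := 2527) (l := 2) rfl N2527 D12101
theorem N4191 : nd 4191 = n12102 := ndS (p := 2527) (l := 5) rfl N2527 D12102
theorem N4192 : nd 4192 = n12103 := ndS (p := 2528) (l := 1) rfl N2528 D12103
theorem N4193 : nd 4193 = n12104 := ndS (p := 2528) (l := 2) rfl N2528 D12104
theorem N4194 : nd 4194 = n12105 := ndS (p := 2529) (l := 3) rfl N2529 D12105
theorem N4195 : nd 4195 = n12106 := ndS (p := 2529) (l := 5) rfl N2529 D12106
theorem N4196 : nd 4196 = n12107 := ndS (p := 2530) (l := 1) rfl N2530 D12107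
theorem N4197 : nd 4197 = n12108 := ndS (p := 2531) (l := 0) rfl N2531 D12108
theorem N4198 : nd 4198 = n12109 := ndS (p := 2531) (l := 2) rfl N2531 D12109
theorem N4199 : nd 4199 = n12110 := ndS (p := 2531) (l := 6) rfl N2531 D12110
theorem N4200 : nd 4200 = n12111 := ndS (p := 2532) (l := 5) rfl N2532 D12111
theorem N4201 : nd 4201 = n12112 := ndS (p := 2532) (l := 6) rfl N2532 D12112
theorem N4202 : nd 4202 = n12113 := ndS (p := 2533) (l := 1) rfl N2533 D12113
theorem N4203 : nd 4203 = n12114 := ndS (p := 2533) (l := 3) rfl N2533 D12114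
theorem N4204 : nd 4204 = n12115 := ndS (p := 2534) (l := 2) rfl N2534 D12115
theorem N4205 : nd 4205 = n12116 := ndS (p := 2534) (l := 4) rfl N2534 D12116
theorem N4206 : nd 4206 = n12117 := ndS (p := 2534) (l := 6) rfl N2534 D12117
theorem N4207 : nd 4207 = n12118 := ndS (p := 2535) (l := 1) rfl N2535 D12118
theorem N4208 : nd 4208 = n12119 := ndS (p := 2536) (l := 0) rfl N2536 D12119
theorem N4209 : nd 4209 = n12120 := ndS (p := 2536) (l := 2) rfl N2536 D12120
theorem N4210 : nd 4210 = n12121 := ndS (p := 2536) (l := 5) rfl N2536 D12121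
theorem N4211 : nd 4211 = n12122 := ndS (p := 2537) (l := 1) rfl N2537 D12122
theorem N4212 : nd 4212 = n12123 := ndS (p := 2537) (l := 2) rfl N2537 D12123
theorem N4213 : nd 4213 = n12124 := ndS (p := 2537) (l := 5) rfl N2537 D12124
theorem N4214 : nd 4214 = n12125 := ndS (p := 2538) (l := 3) rfl N2538 D12125
theorem N4215 : nd 4215 = n12126 := ndS (p := 2538) (l := 5) rfl N2538 D12126
theorem N4216 : nd 4216 = n12127 := ndS (p := 2539) (l := 6) rfl N2539 D12127
theorem N4217 : nd 4217 = n12130 := ndS (p := 2540) (l := 5) rfl N2540 D12130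
theorem N4218 : nd 4218 = n12131 := ndS (p := 2540) (l := 6) rfl N2540 D12131
theorem N4219 : nd 4219 = n12132 := ndS (p := 2541) (l := 1) rfl N2541 D12132
theorem N4220 : nd 4220 = n12133 := ndS (p := 2541) (l := 3) rfl N2541 D12133
theorem N4221 : nd 4221 = n12134 := ndS (p := 2542) (l := 2) rfl N2542 D12134
theorem N4222 : nd 4222 = n12135 := ndS (p := 2542) (l := 4) rfl N2542 D12135
theorem N4223 : nd 4223 = n12136 := ndS (p := 2542) (l := 5) rfl N2542 D12136
theorem N4224 : nd 4224 = n12137 := ndS (p := 2543) (l := 1) rfl N2543 D12137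
theorem N4225 : nd 4225 = n12138 := ndS (p := 2544) (l := 0) rfl N2544 D12138
theorem N4226 : nd 4226 = n12139 := ndS (p := 2544) (l := 2) rfl N2544 D12139
theorem N4227 : nd 4227 = n12140 := ndS (p := 2544) (l := 6) rfl N2544 D12140
theorem N4228 : nd 4228 = n12141 := ndS (p := 2545) (l := 1) rfl N2545 D12141
theorem N4229 : nd 4229 = n12142 := ndS (p := 2545) (l := 2) rfl N2545 D12142
theorem N4230 : nd 4230 = n12143 := ndS (p := 2545) (l := 6) rfl N2545 D12143
theorem N4231 : nd 4231 = n12144 := ndS (p := 2546) (l := 3) rfl N2546 D12144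
theorem N4232 : nd 4232 = n12145 := ndS (p := 2546) (l := 6) rfl N2546 D12145
theorem N4233 : nd 4233 = n12146 := ndS (p := 2547) (l := 5) rfl N2547 D12146
theorem N4234 : nd 4234 = n12149 := ndS (p := 2548) (l := 5) rfl N2548 D12149
theorem N4235 : nd 4235 = n12150 := ndS (p := 2548) (l := 6) rfl N2548 D12150
theorem N4236 : nd 4236 = n12151 := ndS (p := 2549) (l := 1) rfl N2549 D12151
theorem N4237 : nd 4237 = n12152 := ndS (p := 2549) (l := 3) rfl N2549 D12152
theorem N4238 : nd 4238 = n12153 := ndS (p := 2549) (l := 6) rfl N2549 D12153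
theorem N4239 : nd 4239 = n12154 := ndS (p := 2550) (l := 1) rfl N2550 D12154
theorem N4240 : nd 4240 = n12155 := ndS (p := 2551) (l := 2) rfl N2551 D12155
theorem N4241 : nd 4241 = n12156 := ndS (p := 2551) (l := 4) rfl N2551 D12156
theorem N4242 : nd 4242 = n12157 := ndS (p := 2551) (l := 6) rfl N2551 D12157
theorem N4243 : nd 4243 = n12158 := ndS (p := 2552) (l := 1) rfl N2552 D12158
theorem N4244 : nd 4244 = n12159 := ndS (p := 2552) (l := 5) rfl N2552 D12159
theorem N4245 : nd 4245 = n12160 := ndS (p := 2553) (l := 0) rfl N2553 D12160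
theorem N4246 : nd 4246 = n12161 := ndS (p := 2553) (l := 2) rfl N2553 D12161
theorem N4247 : nd 4247 = n12162 := ndS (p := 2553) (l := 5) rfl N2553 D12162
theorem N4248 : nd 4248 = n12163 := ndS (p := 2554) (l := 1) rfl N2554 D12163
theorem N4249 : nd 4249 = n12164 := ndS (p := 2555) (l := 1) rfl N2555 D12164
theorem N4250 : nd 4250 = n12165 := ndS (p := 2555) (l := 2) rfl N2555 D12165
theorem N4251 : nd 4251 = n12166 := ndS (p := 2555) (l := 5) rfl N2555 D12166
theorem N4252 : nd 4252 = n12167 := ndS (p := 2556) (l := 3) rfl N2556 D12167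
theorem N4253 : nd 4253 = n12168 := ndS (p := 2556) (l := 5) rfl N2556 D12168
theorem N4254 : nd 4254 = n12169 := ndS (p := 2557) (l := 6) rfl N2557 D12169
theorem N4255 : nd 4255 = n12172 := ndS (p := 2558) (l := 5) rfl N2558 D12172
theorem N4256 : nd 4256 = n12173 := ndS (p := 2558) (l := 6) rfl N2558 D12173
theorem N4257 : nd 4257 = n12174 := ndS (p := 2559) (l := 1) rfl N2559 D12174
theorem N4258 : nd 4258 = n12175 := ndS (p := 2559) (l := 3) rfl N2559 D12175
theorem N4259 : nd 4259 = n12176 := ndS (p := 2559) (l := 5) rfl N2559 D12176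
theorem N4260 : nd 4260 = n12177 := ndS (p := 2560) (l := 1) rfl N2560 D12177
theorem N4261 : nd 4261 = n12178 := ndS (p := 2561) (l := 2) rfl N2561 D12178
theorem N4262 : nd 4262 = n12179 := ndS (p := 2561) (l := 4) rfl N2561 D12179
theorem N4263 : nd 4263 = n12180 := ndS (p := 2561) (l := 5) rfl N2561 D12180
theorem N4264 : nd 4264 = n12181 := ndS (p := 2562) (l := 1) rfl N2562 D12181
theorem N4265 : nd 4265 = n12182 := ndS (p := 2562) (l := 6) rfl N2562 D12182
theorem N4266 : nd 4266 = n12183 := ndS (p := 2563) (l := 0) rfl N2563 D12183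
theorem N4267 : nd 4267 = n12184 := ndS (p := 2563) (l := 2) rfl N2563 D12184
theorem N4268 : nd 4268 = n12185 := ndS (p := 2563) (l := 6) rfl N2563 D12185
theorem N4269 : nd 4269 = n12186 := ndS (p := 2564) (l := 1) rfl N2564 D12186
theorem N4270 : nd 4270 = n12187 := ndS (p := 2565) (l := 1) rfl N2565 D12187
theorem N4271 : nd 4271 = n12188 := ndS (p := 2565) (l := 2) rfl N2565 D12188
theorem N4272 : nd 4272 = n12189 := ndS (p := 2565) (l := 6) rfl N2565 D12189
theorem N4273 : nd 4273 = n12190 := ndS (p := 2566) (l := 3) rfl N2566 D12190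
theorem N4274 : nd 4274 = n12191 := ndS (p := 2566) (l := 6) rfl N2566 D12191
theorem N4275 : nd 4275 = n12192 := ndS (p := 2567) (l := 5) rfl N2567 D12192
theorem N4276 : nd 4276 = n12193 := ndS (p := 2568) (l := 5) rfl N2568 D12193
theorem N4277 : nd 4277 = n12194 := ndS (p := 2568) (l := 6) rfl N2568 D12194
theorem N4278 : nd 4278 = n12195 := ndS (p := 2569) (l := 1) rfl N2569 D12195
theorem N4279 : nd 4279 = n12196 := ndS (p := 2569) (l := 3) rfl N2569 D12196
theorem N4280 : nd 4280 = n12197 := ndS (p := 2569) (l := 5) rfl N2569 D12197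
theorem N4281 : nd 4281 = n12198 := ndS (p := 2569) (l := 6) rfl N2569 D12198
theorem N4282 : nd 4282 = n12199 := ndS (p := 2570) (l := 6) rfl N2570 D12199
theorem N4283 : nd 4283 = n12200 := ndS (p := 2571) (l := 1) rfl N2571 D12200
theorem N4284 : nd 4284 = n12201 := ndS (p := 2571) (l := 5) rfl N2571 D12201
theorem N4285 : nd 4285 = n12202 := ndS (p := 2572) (l := 0) rfl N2572 D12202
theorem N4286 : nd 4286 = n12203 := ndS (p := 2572) (l := 3) rfl N2572 D12203
theorem N4287 : nd 4287 = n12204 := ndS (p := 2572) (l := 5) rfl N2572 D12204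
theorem N4288 : nd 4288 = n12205 := ndS (p := 2572) (l := 6) rfl N2572 D12205
theorem N4289 : nd 4289 = n12206 := ndS (p := 2573) (l := 2) rfl N2573 D12206
theorem N4290 : nd 4290 = n12207 := ndS (p := 2573) (l := 4) rfl N2573 D12207
theorem N4291 : nd 4291 = n12208 := ndS (p := 2573) (l := 6) rfl N2573 D12208
theorem N4292 : nd 4292 = n12209 := ndS (p := 2574) (l := 1) rfl N2574 D12209
theorem N4293 : nd 4293 = n12210 := ndS (p := 2575) (l := 0) rfl N2575 D12210
theorem N4294 : nd 4294 = n12211 := ndS (p := 2575) (l := 2) rfl N2575 D12211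
theorem N4295 : nd 4295 = n12212 := ndS (p := 2575) (l := 5) rfl N2575 D12212
theorem N4296 : nd 4296 = n12213 := ndS (p := 2576) (l := 1) rfl N2576 D12213
theorem N4297 : nd 4297 = n12214 := ndS (p := 2576) (l := 3) rfl N2576 D12214
theorem N4298 : nd 4298 = n12215 := ndS (p := 2576) (l := 4) rfl N2576 D12215
theorem N4299 : nd 4299 = n12216 := ndS (p := 2576) (l := 6) rfl N2576 D12216
theorem N4300 : nd 4300 = n12217 := ndS (p := 2577) (l := 6) rfl N2577 D12217
theorem N4301 : nd 4301 = n12218 := ndS (p := 2578) (l := 1) rfl N2578 D12218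
theorem N4302 : nd 4302 = n12219 := ndS (p := 2578) (l := 5) rfl N2578 D12219
theorem N4303 : nd 4303 = n12220 := ndS (p := 2579) (l := 0) rfl N2579 D12220
theorem N4304 : nd 4304 = n12221 := ndS (p := 2579) (l := 5) rfl N2579 D12221
theorem N4305 : nd 4305 = n12222 := ndS (p := 2580) (l := 1) rfl N2580 D12222
theorem N4306 : nd 4306 = n12223 := ndS (p := 2581) (l := 1) rfl N2581 D12223
theorem N4307 : nd 4307 = n12224 := ndS (p := 2581) (l := 2) rfl N2581 D12224
theorem N4308 : nd 4308 = n12225 := ndS (p := 2582) (l := 3) rfl N2582 D12225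
theorem N4309 : nd 4309 = n12226 := ndS (p := 2582) (l := 5) rfl N2582 D12226
theorem N4310 : nd 4310 = n12227 := ndS (p := 2583) (l := 1) rfl N2583 D12227
theorem N4311 : nd 4311 = n12228 := ndS (p := 2584) (l := 0) rfl N2584 D12228
theorem N4312 : nd 4312 = n12229 := ndS (p := 2584) (l := 2) rfl N2584 D12229
theorem N4313 : nd 4313 = n12230 := ndS (p := 2584) (l := 6) rfl N2584 D12230
theorem N4314 : nd 4314 = n12231 := ndS (p := 2585) (l := 0) rfl N2585 D12231
theorem N4315 : nd 4315 = n12232 := ndS (p := 2585) (l := 2) rfl N2585 D12232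
theorem N4316 : nd 4316 = n12233 := ndS (p := 2585) (l := 5) rfl N2585 D12233
theorem N4317 : nd 4317 = n12234 := ndS (p := 2585) (l := 6) rfl N2585 D12234
theorem N4318 : nd 4318 = n12235 := ndS (p := 2586) (l := 1) rfl N2586 D12235
theorem N4319 : nd 4319 = n12236 := ndS (p := 2586) (l := 3) rfl N2586 D12236
theorem N4320 : nd 4320 = n12237 := ndS (p := 2586) (l := 5) rfl N2586 D12237
theorem N4321 : nd 4321 = n12238 := ndS (p := 2587) (l := 1) rfl N2587 D12238
theorem N4322 : nd 4322 = n12239 := ndS (p := 2588) (l := 2) rfl N2588 D12239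
theorem N4323 : nd 4323 = n12240 := ndS (p := 2588) (l := 4) rfl N2588 D12240
theorem N4324 : nd 4324 = n12241 := ndS (p := 2588) (l := 5) rfl N2588 D12241
theorem N4325 : nd 4325 = n12242 := ndS (p := 2589) (l := 6) rfl N2589 D12242
theorem N4326 : nd 4326 = n12243 := ndS (p := 2590) (l := 1) rfl N2590 D12243
theorem N4327 : nd 4327 = n12245 := ndS (p := 2591) (l := 5) rfl N2591 D12245
theorem N4328 : nd 4328 = n12246 := ndS (p := 2591) (l := 6) rfl N2591 D12246
theorem N4329 : nd 4329 = n12247 := ndS (p := 2592) (l := 1) rfl N2592 D12247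
theorem N4330 : nd 4330 = n12248 := ndS (p := 2592) (l := 3) rfl N2592 D12248
theorem N4331 : nd 4331 = n12249 := ndS (p := 2592) (l := 5) rfl N2592 D12249
theorem N4332 : nd 4332 = n12250 := ndS (p := 2592) (l := 6) rfl N2592 D12250
theorem N4333 : nd 4333 = n12251 := ndS (p := 2593) (l := 1) rfl N2593 D12251
theorem N4334 : nd 4334 = n12252 := ndS (p := 2593) (l := 6) rfl N2593 D12252
theorem N4335 : nd 4335 = n12253 := ndS (p := 2594) (l := 5) rfl N2594 D12253
theorem N4336 : nd 4336 = n12254 := ndS (p := 2595) (l := 0) rfl N2595 D12254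
theorem N4337 : nd 4337 = n12255 := ndS (p := 2595) (l := 3) rfl N2595 D12255
theorem N4338 : nd 4338 = n12256 := ndS (p := 2595) (l := 5) rfl N2595 D12256
theorem N4339 : nd 4339 = n12257 := ndS (p := 2595) (l := 6) rfl N2595 D12257
theorem N4340 : nd 4340 = n12258 := ndS (p := 2596) (l := 2) rfl N2596 D12258
theorem N4341 : nd 4341 = n12259 := ndS (p := 2596) (l := 4) rfl N2596 D12259
theorem N4342 : nd 4342 = n12260 := ndS (p := 2596) (l := 5) rfl N2596 D12260
theorem N4343 : nd 4343 = n12261 := ndS (p := 2597) (l := 1) rfl N2597 D12261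
theorem N4344 : nd 4344 = n12262 := ndS (p := 2598) (l := 0) rfl N2598 D12262
theorem N4345 : nd 4345 = n12263 := ndS (p := 2598) (l := 2) rfl N2598 D12263
theorem N4346 : nd 4346 = n12264 := ndS (p := 2598) (l := 6) rfl N2598 D12264
theorem N4347 : nd 4347 = n12265 := ndS (p := 2599) (l := 1) rfl N2599 D12265
theorem N4348 : nd 4348 = n12266 := ndS (p := 2599) (l := 3) rfl N2599 D12266
theorem N4349 : nd 4349 = n12267 := ndS (p := 2599) (l := 4) rfl N2599 D12267
theorem N4350 : nd 4350 = n12268 := ndS (p := 2599) (l := 5) rfl N2599 D12268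
theorem N4351 : nd 4351 = n12269 := ndS (p := 2600) (l := 5) rfl N2600 D12269
theorem N4352 : nd 4352 = n12270 := ndS (p := 2601) (l := 1) rfl N2601 D12270
theorem N4353 : nd 4353 = n12271 := ndS (p := 2601) (l := 6) rfl N2601 D12271
theorem N4354 : nd 4354 = n12272 := ndS (p := 2602) (l := 0) rfl N2602 D12272
theorem N4355 : nd 4355 = n12273 := ndS (p := 2602) (l := 6) rfl N2602 D12273
theorem N4356 : nd 4356 = n12274 := ndS (p := 2603) (l := 1) rfl N2603 D12274
theorem N4357 : nd 4357 = n12275 := ndS (p := 2604) (l := 1) rfl N2604 D12275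
theorem N4358 : nd 4358 = n12276 := ndS (p := 2604) (l := 2) rfl N2604 D12276
theorem N4359 : nd 4359 = n12277 := ndS (p := 2605) (l := 3) rfl N2605 D12277
theorem N4360 : nd 4360 = n12278 := ndS (p := 2605) (l := 6) rfl N2605 D12278
theorem N4361 : nd 4361 = n12279 := ndS (p := 2606) (l := 1) rfl N2606 D12279
theorem N4362 : nd 4362 = n12280 := ndS (p := 2607) (l := 0) rfl N2607 D12280
theorem N4363 : nd 4363 = n12281 := ndS (p := 2607) (l := 2) rfl N2607 D12281
theorem N4364 : nd 4364 = n12282 := ndS (p := 2607) (l := 5) rfl N2607 D12282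
theorem N4365 : nd 4365 = n12283 := ndS (p := 2608) (l := 0) rfl N2608 D12283
theorem N4366 : nd 4366 = n12284 := ndS (p := 2608) (l := 2) rfl N2608 D12284
theorem N4367 : nd 4367 = n12285 := ndS (p := 2608) (l := 5) rfl N2608 D12285
theorem N4368 : nd 4368 = n12286 := ndS (p := 2608) (l := 6) rfl N2608 D12286
theorem N4369 : nd 4369 = n12287 := ndS (p := 2609) (l := 1) rfl N2609 D12287
theorem N4370 : nd 4370 = n12288 := ndS (p := 2609) (l := 3) rfl N2609 D12288
theorem N4371 : nd 4371 = n12289 := ndS (p := 2609) (l := 6) rfl N2609 D12289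
theorem N4372 : nd 4372 = n12290 := ndS (p := 2610) (l := 1) rfl N2610 D12290
theorem N4373 : nd 4373 = n12291 := ndS (p := 2611) (l := 2) rfl N2611 D12291
theorem N4374 : nd 4374 = n12292 := ndS (p := 2611) (l := 4) rfl N2611 D12292
theorem N4375 : nd 4375 = n12293 := ndS (p := 2611) (l := 6) rfl N2611 D12293
theorem N4376 : nd 4376 = n12294 := ndS (p := 2612) (l := 5) rfl N2612 D12294
theorem N4377 : nd 4377 = n12295 := ndS (p := 2613) (l := 1) rfl N2613 D12295
theorem N4378 : nd 4378 = n12296 := ndS (p := 2614) (l := 0) rfl N2614 D12296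
theorem N4379 : nd 4379 = n12297 := ndS (p := 2614) (l := 4) rfl N2614 D12297
theorem N4380 : nd 4380 = n12298 := ndS (p := 2614) (l := 5) rfl N2614 D12298
theorem N4381 : nd 4381 = n12299 := ndS (p := 2616) (l := 1) rfl N2616 D12299
theorem N4382 : nd 4382 = n12300 := ndS (p := 2616) (l := 5) rfl N2616 D12300
theorem N4383 : nd 4383 = n12301 := ndS (p := 2617) (l := 6) rfl N2617 D12301
theorem N4384 : nd 4384 = n12302 := ndS (p := 2618) (l := 2) rfl N2618 D12302
theorem N4385 : nd 4385 = n12303 := ndS (p := 2619) (l := 1) rfl N2619 D12303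
theorem N4386 : nd 4386 = n12304 := ndS (p := 2619) (l := 3) rfl N2619 D12304
theorem N4387 : nd 4387 = n12305 := ndS (p := 2620) (l := 0) rfl N2620 D12305
theorem N4388 : nd 4388 = n12306 := ndS (p := 2620) (l := 3) rfl N2620 D12306
theorem N4389 : nd 4389 = n12307 := ndS (p := 2620) (l := 5) rfl N2620 D12307
theorem N4390 : nd 4390 = n12308 := ndS (p := 2620) (l := 6) rfl N2620 D12308
theorem N4391 : nd 4391 = n12309 := ndS (p := 2621) (l := 4) rfl N2621 D12309
theorem N4392 : nd 4392 = n12310 := ndS (p := 2622) (l := 1) rfl N2622 D12310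
theorem N4393 : nd 4393 = n12311 := ndS (p := 2622) (l := 4) rfl N2622 D12311
theorem N4394 : nd 4394 = n12312 := ndS (p := 2624) (l := 0) rfl N2624 D12312
theorem N4395 : nd 4395 = n12313 := ndS (p := 2624) (l := 4) rfl N2624 D12313
theorem N4396 : nd 4396 = n12314 := ndS (p := 2624) (l := 6) rfl N2624 D12314
theorem N4397 : nd 4397 = n12315 := ndS (p := 2626) (l := 1) rfl N2626 D12315
theorem N4398 : nd 4398 = n12316 := ndS (p := 2626) (l := 6) rfl N2626 D12316
theorem N4399 : nd 4399 = n12317 := ndS (p := 2627) (l := 5) rfl N2627 D12317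
theorem N4400 : nd 4400 = n12318 := ndS (p := 2628) (l := 2) rfl N2628 D12318
theorem N4401 : nd 4401 = n12319 := ndS (p := 2629) (l := 1) rfl N2629 D12319
theorem N4402 : nd 4402 = n12320 := ndS (p := 2629) (l := 3) rfl N2629 D12320
theorem N4403 : nd 4403 = n12321 := ndS (p := 2630) (l := 0) rfl N2630 D12321
theorem N4404 : nd 4404 = n12322 := ndS (p := 2630) (l := 3) rfl N2630 D12322
theorem N4405 : nd 4405 = n12323 := ndS (p := 2630) (l := 5) rfl N2630 D12323
theorem N4406 : nd 4406 = n12324 := ndS (p := 2630) (l := 6) rfl N2630 D12324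
theorem N4407 : nd 4407 = n12325 := ndS (p := 2631) (l := 4) rfl N2631 D12325
theorem N4408 : nd 4408 = n12326 := ndS (p := 2632) (l := 1) rfl N2632 D12326
theorem N4409 : nd 4409 = n12327 := ndS (p := 2632) (l := 4) rfl N2632 D12327
theorem N4410 : nd 4410 = n12328 := ndS (p := 2634) (l := 1) rfl N2634 D12328
theorem N4411 : nd 4411 = n12329 := ndS (p := 2634) (l := 3) rfl N2634 D12329
theorem N4412 : nd 4412 = n12330 := ndS (p := 2635) (l := 2) rfl N2635 D12330
theorem N4413 : nd 4413 = n12332 := ndS (p := 2636) (l := 1) rfl N2636 D12332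
theorem N4414 : nd 4414 = n12333 := ndS (p := 2636) (l := 3) rfl N2636 D12333
theorem N4415 : nd 4415 = n12334 := ndS (p := 2637) (l := 2) rfl N2637 D12334
theorem N4416 : nd 4416 = n12344 := ndS (p := 2640) (l := 2) rfl N2640 D12344
theorem N4417 : nd 4417 = n12345 := ndS (p := 2640) (l := 4) rfl N2640 D12345
theorem N4418 : nd 4418 = n12346 := ndS (p := 2640) (l := 5) rfl N2640 D12346
theorem N4419 : nd 4419 = n12347 := ndS (p := 2640) (l := 6) rfl N2640 D12347
theorem N4420 : nd 4420 = n12348 := ndS (p := 2641) (l := 1) rfl N2641 D12348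
theorem N4421 : nd 4421 = n12349 := ndS (p := 2642) (l := 1) rfl N2642 D12349
theorem N4422 : nd 4422 = n12350 := ndS (p := 2643) (l := 0) rfl N2643 D12350
theorem N4423 : nd 4423 = n12351 := ndS (p := 2643) (l := 2) rfl N2643 D12351
theorem N4424 : nd 4424 = n12352 := ndS (p := 2643) (l := 6) rfl N2643 D12352
theorem N4425 : nd 4425 = n12353 := ndS (p := 2644) (l := 0) rfl N2644 D12353
theorem N4426 : nd 4426 = n12354 := ndS (p := 2644) (l := 2) rfl N2644 D12354
theorem N4427 : nd 4427 = n12355 := ndS (p := 2644) (l := 5) rfl N2644 D12355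
theorem N4428 : nd 4428 = n12356 := ndS (p := 2645) (l := 1) rfl N2645 D12356
theorem N4429 : nd 4429 = n12357 := ndS (p := 2645) (l := 3) rfl N2645 D12357
theorem N4430 : nd 4430 = n12358 := ndS (p := 2645) (l := 4) rfl N2645 D12358
theorem N4431 : nd 4431 = n12359 := ndS (p := 2645) (l := 5) rfl N2645 D12359
theorem N4432 : nd 4432 = n12360 := ndS (p := 2645) (l := 6) rfl N2645 D12360
theorem N4433 : nd 4433 = n12361 := ndS (p := 2646) (l := 5) rfl N2646 D12361
theorem N4434 : nd 4434 = n12362 := ndS (p := 2646) (l := 6) rfl N2646 D12362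
theorem N4435 : nd 4435 = n12363 := ndS (p := 2647) (l := 1) rfl N2647 D12363
theorem N4436 : nd 4436 = n12364 := ndS (p := 2647) (l := 6) rfl N2647 D12364
theorem N4437 : nd 4437 = n12365 := ndS (p := 2648) (l := 1) rfl N2648 D12365
theorem N4438 : nd 4438 = n12366 := ndS (p := 2648) (l := 5) rfl N2648 D12366
theorem N4439 : nd 4439 = n12368 := ndS (p := 2649) (l := 2) rfl N2649 D12368
theorem N4440 : nd 4440 = n12369 := ndS (p := 2649) (l := 6) rfl N2649 D12369
theorem N4441 : nd 4441 = n12370 := ndS (p := 2650) (l := 1) rfl N2650 D12370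
theorem N4442 : nd 4442 = n12372 := ndS (p := 2651) (l := 2) rfl N2651 D12372
theorem N4443 : nd 4443 = n12373 := ndS (p := 2651) (l := 5) rfl N2651 D12373
theorem N4444 : nd 4444 = n12374 := ndS (p := 2652) (l := 1) rfl N2652 D12374
theorem N4445 : nd 4445 = n12375 := ndS (p := 2653) (l := 1) rfl N2653 D12375
theorem N4446 : nd 4446 = n12376 := ndS (p := 2653) (l := 2) rfl N2653 D12376
theorem N4447 : nd 4447 = n12377 := ndS (p := 2654) (l := 3) rfl N2654 D12377
theorem N4448 : nd 4448 = n12378 := ndS (p := 2654) (l := 6) rfl N2654 D12378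
theorem N4449 : nd 4449 = n12379 := ndS (p := 2655) (l := 1) rfl N2655 D12379
theorem N4450 : nd 4450 = n12380 := ndS (p := 2656) (l := 0) rfl N2656 D12380
theorem N4451 : nd 4451 = n12381 := ndS (p := 2656) (l := 2) rfl N2656 D12381
theorem N4452 : nd 4452 = n12382 := ndS (p := 2656) (l := 5) rfl N2656 D12382
theorem N4453 : nd 4453 = n12383 := ndS (p := 2657) (l := 1) rfl N2657 D12383
theorem N4454 : nd 4454 = n12384 := ndS (p := 2657) (l := 2) rfl N2657 D12384
theorem N4455 : nd 4455 = n12385 := ndS (p := 2658) (l := 3) rfl N2658 D12385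
theorem N4456 : nd 4456 = n12386 := ndS (p := 2658) (l := 5) rfl N2658 D12386
theorem N4457 : nd 4457 = n12387 := ndS (p := 2659) (l := 1) rfl N2659 D12387
theorem N4458 : nd 4458 = n12388 := ndS (p := 2660) (l := 0) rfl N2660 D12388
theorem N4459 : nd 4459 = n12389 := ndS (p := 2660) (l := 2) rfl N2660 D12389
theorem N4460 : nd 4460 = n12390 := ndS (p := 2660) (l := 6) rfl N2660 D12390
theorem N4461 : nd 4461 = n12391 := ndS (p := 2661) (l := 0) rfl N2661 D12391
theorem N4462 : nd 4462 = n12392 := ndS (p := 2661) (l := 2) rfl N2661 D12392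
theorem N4463 : nd 4463 = n12393 := ndS (p := 2661) (l := 5) rfl N2661 D12393
theorem N4464 : nd 4464 = n12394 := ndS (p := 2661) (l := 6) rfl N2661 D12394
theorem N4465 : nd 4465 = n12395 := ndS (p := 2662) (l := 1) rfl N2662 D12395
theorem N4466 : nd 4466 = n12396 := ndS (p := 2662) (l := 3) rfl N2662 D12396
theorem N4467 : nd 4467 = n12397 := ndS (p := 2662) (l := 6) rfl N2662 D12397
theorem N4468 : nd 4468 = n12398 := ndS (p := 2663) (l := 1) rfl N2663 D12398
theorem N4469 : nd 4469 = n12399 := ndS (p := 2664) (l := 4) rfl N2664 D12399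
theorem N4470 : nd 4470 = n12400 := ndS (p := 2664) (l := 6) rfl N2664 D12400
theorem N4471 : nd 4471 = n12401 := ndS (p := 2665) (l := 1) rfl N2665 D12401
theorem N4472 : nd 4472 = n12402 := ndS (p := 2665) (l := 5) rfl N2665 D12402
theorem N4473 : nd 4473 = n12404 := ndS (p := 2667) (l := 0) rfl N2667 D12404
theorem N4474 : nd 4474 = n12405 := ndS (p := 2667) (l := 2) rfl N2667 D12405
theorem N4475 : nd 4475 = n12406 := ndS (p := 2667) (l := 5) rfl N2667 D12406
theorem N4476 : nd 4476 = n12407 := ndS (p := 2667) (l := 6) rfl N2667 D12407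
theorem N4477 : nd 4477 = n12408 := ndS (p := 2668) (l := 1) rfl N2668 D12408
theorem N4478 : nd 4478 = n12409 := ndS (p := 2668) (l := 3) rfl N2668 D12409
theorem N4479 : nd 4479 = n12410 := ndS (p := 2668) (l := 5) rfl N2668 D12410
theorem N4480 : nd 4480 = n12411 := ndS (p := 2669) (l := 1) rfl N2669 D12411
theorem N4481 : nd 4481 = n12413 := ndS (p := 2670) (l := 4) rfl N2670 D12413
theorem N4482 : nd 4482 = n12414 := ndS (p := 2670) (l := 5) rfl N2670 D12414
theorem N4483 : nd 4483 = n12415 := ndS (p := 2671) (l := 1) rfl N2671 D12415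
theorem N4484 : nd 4484 = n12416 := ndS (p := 2671) (l := 6) rfl N2671 D12416
theorem N4485 : nd 4485 = n12418 := ndS (p := 2673) (l := 6) rfl N2673 D12418
theorem N4486 : nd 4486 = n12419 := ndS (p := 2674) (l := 1) rfl N2674 D12419
theorem N4487 : nd 4487 = n12420 := ndS (p := 2674) (l := 6) rfl N2674 D12420
theorem N4488 : nd 4488 = n12421 := ndS (p := 2675) (l := 6) rfl N2675 D12421
theorem N4489 : nd 4489 = n12422 := ndS (p := 2676) (l := 5) rfl N2676 D12422
theorem N4490 : nd 4490 = n12423 := ndS (p := 2677) (l := 0) rfl N2677 D12423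
theorem N4491 : nd 4491 = n12424 := ndS (p := 2677) (l := 3) rfl N2677 D12424
theorem N4492 : nd 4492 = n12425 := ndS (p := 2677) (l := 5) rfl N2677 D12425
theorem N4493 : nd 4493 = n12426 := ndS (p := 2677) (l := 6) rfl N2677 D12426
theorem N4494 : nd 4494 = n12427 := ndS (p := 2678) (l := 2) rfl N2678 D12427
theorem N4495 : nd 4495 = n12428 := ndS (p := 2678) (l := 4) rfl N2678 D12428
theorem N4496 : nd 4496 = n12429 := ndS (p := 2679) (l := 1) rfl N2679 D12429
theorem N4497 : nd 4497 = n12430 := ndS (p := 2679) (l := 3) rfl N2679 D12430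
theorem N4498 : nd 4498 = n12431 := ndS (p := 2679) (l := 4) rfl N2679 D12431
theorem N4499 : nd 4499 = n12432 := ndS (p := 2679) (l := 6) rfl N2679 D12432
theorem N4500 : nd 4500 = n12433 := ndS (p := 2680) (l := 6) rfl N2680 D12433
theorem N4501 : nd 4501 = n12434 := ndS (p := 2681) (l := 1) rfl N2681 D12434
theorem N4502 : nd 4502 = n12436 := ndS (p := 2682) (l := 2) rfl N2682 D12436
theorem N4503 : nd 4503 = n12437 := ndS (p := 2682) (l := 5) rfl N2682 D12437
theorem N4504 : nd 4504 = n12438 := ndS (p := 2683) (l := 1) rfl N2683 D12438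
theorem N4505 : nd 4505 = n12439 := ndS (p := 2683) (l := 2) rfl N2683 D12439
theorem N4506 : nd 4506 = n12440 := ndS (p := 2684) (l := 3) rfl N2684 D12440
theorem N4507 : nd 4507 = n12441 := ndS (p := 2684) (l := 5) rfl N2684 D12441
theorem N4508 : nd 4508 = n12442 := ndS (p := 2686) (l := 0) rfl N2686 D12442
theorem N4509 : nd 4509 = n12443 := ndS (p := 2686) (l := 2) rfl N2686 D12443
theorem N4510 : nd 4510 = n12444 := ndS (p := 2686) (l := 6) rfl N2686 D12444
theorem N4511 : nd 4511 = n12445 := ndS (p := 2687) (l := 1) rfl N2687 D12445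
theorem N4512 : nd 4512 = n12446 := ndS (p := 2687) (l := 3) rfl N2687 D12446
theorem N4513 : nd 4513 = n12447 := ndS (p := 2687) (l := 5) rfl N2687 D12447
theorem N4514 : nd 4514 = n12448 := ndS (p := 2689) (l := 2) rfl N2689 D12448
theorem N4515 : nd 4515 = n12449 := ndS (p := 2689) (l := 4) rfl N2689 D12449
theorem N4516 : nd 4516 = n12450 := ndS (p := 2689) (l := 5) rfl N2689 D12450
theorem N4517 : nd 4517 = n12451 := ndS (p := 2690) (l := 1) rfl N2690 D12451
theorem N4518 : nd 4518 = n12452 := ndS (p := 2690) (l := 6) rfl N2690 D12452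
theorem N4519 : nd 4519 = n12453 := ndS (p := 2691) (l := 1) rfl N2691 D12453
theorem N4520 : nd 4520 = n12455 := ndS (p := 2692) (l := 5) rfl N2692 D12455
theorem N4521 : nd 4521 = n12457 := ndS (p := 2693) (l := 1) rfl N2693 D12457
theorem N4522 : nd 4522 = n12459 := ndS (p := 2693) (l := 5) rfl N2693 D12459
theorem N4523 : nd 4523 = n12461 := ndS (p := 2694) (l := 6) rfl N2694 D12461
theorem N4524 : nd 4524 = n12462 := ndS (p := 2695) (l := 5) rfl N2695 D12462
theorem N4525 : nd 4525 = n12463 := ndS (p := 2696) (l := 0) rfl N2696 D12463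
theorem N4526 : nd 4526 = n12464 := ndS (p := 2696) (l := 3) rfl N2696 D12464
theorem N4527 : nd 4527 = n12465 := ndS (p := 2696) (l := 5) rfl N2696 D12465
theorem N4528 : nd 4528 = n12466 := ndS (p := 2696) (l := 6) rfl N2696 D12466
theorem N4529 : nd 4529 = n12467 := ndS (p := 2697) (l := 2) rfl N2697 D12467
theorem N4530 : nd 4530 = n12468 := ndS (p := 2697) (l := 4) rfl N2697 D12468
theorem N4531 : nd 4531 = n12469 := ndS (p := 2698) (l := 1) rfl N2698 D12469
theorem N4532 : nd 4532 = n12470 := ndS (p := 2698) (l := 3) rfl N2698 D12470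
theorem N4533 : nd 4533 = n12471 := ndS (p := 2698) (l := 4) rfl N2698 D12471
theorem N4534 : nd 4534 = n12472 := ndS (p := 2698) (l := 5) rfl N2698 D12472
theorem N4535 : nd 4535 = n12473 := ndS (p := 2699) (l := 5) rfl N2699 D12473
theorem N4536 : nd 4536 = n12474 := ndS (p := 2700) (l := 1) rfl N2700 D12474
theorem N4537 : nd 4537 = n12476 := ndS (p := 2701) (l := 2) rfl N2701 D12476
theorem N4538 : nd 4538 = n12477 := ndS (p := 2701) (l := 6) rfl N2701 D12477
theorem N4539 : nd 4539 = n12478 := ndS (p := 2702) (l := 1) rfl N2702 D12478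
theorem N4540 : nd 4540 = n12479 := ndS (p := 2702) (l := 2) rfl N2702 D12479
theorem N4541 : nd 4541 = n12480 := ndS (p := 2703) (l := 3) rfl N2703 D12480
theorem N4542 : nd 4542 = n12481 := ndS (p := 2703) (l := 6) rfl N2703 D12481
theorem N4543 : nd 4543 = n12482 := ndS (p := 2705) (l := 0) rfl N2705 D12482
theorem N4544 : nd 4544 = n12483 := ndS (p := 2705) (l := 2) rfl N2705 D12483
theorem N4545 : nd 4545 = n12484 := ndS (p := 2705) (l := 5) rfl N2705 D12484
theorem N4546 : nd 4546 = n12485 := ndS (p := 2706) (l := 1) rfl N2706 D12485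
theorem N4547 : nd 4547 = n12486 := ndS (p := 2706) (l := 3) rfl N2706 D12486
theorem N4548 : nd 4548 = n12487 := ndS (p := 2706) (l := 6) rfl N2706 D12487
theorem N4549 : nd 4549 = n12488 := ndS (p := 2708) (l := 2) rfl N2708 D12488
theorem N4550 : nd 4550 = n12489 := ndS (p := 2708) (l := 4) rfl N2708 D12489
theorem N4551 : nd 4551 = n12490 := ndS (p := 2708) (l := 6) rfl N2708 D12490
theorem N4552 : nd 4552 = n12491 := ndS (p := 2709) (l := 1) rfl N2709 D12491
theorem N4553 : nd 4553 = n12492 := ndS (p := 2709) (l := 5) rfl N2709 D12492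
theorem N4554 : nd 4554 = n12493 := ndS (p := 2710) (l := 1) rfl N2710 D12493
theorem N4555 : nd 4555 = n12494 := ndS (p := 2711) (l := 1) rfl N2711 D12494
theorem N4556 : nd 4556 = n12495 := ndS (p := 2712) (l := 1) rfl N2712 D12495
theorem N4557 : nd 4557 = n12498 := ndS (p := 2713) (l := 6) rfl N2713 D12498
theorem N4558 : nd 4558 = n12499 := ndS (p := 2714) (l := 4) rfl N2714 D12499
theorem N4559 : nd 4559 = n12501 := ndS (p := 2714) (l := 6) rfl N2714 D12501
theorem N4560 : nd 4560 = n12503 := ndS (p := 2715) (l := 6) rfl N2715 D12503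
theorem N4561 : nd 4561 = n12504 := ndS (p := 2716) (l := 1) rfl N2716 D12504
theorem N4562 : nd 4562 = n12505 := ndS (p := 2716) (l := 5) rfl N2716 D12505
theorem N4563 : nd 4563 = n12506 := ndS (p := 2717) (l := 1) rfl N2717 D12506
theorem N4564 : nd 4564 = n12507 := ndS (p := 2718) (l := 0) rfl N2718 D12507
theorem N4565 : nd 4565 = n12508 := ndS (p := 2718) (l := 2) rfl N2718 D12508
theorem N4566 : nd 4566 = n12509 := ndS (p := 2718) (l := 5) rfl N2718 D12509
theorem N4567 : nd 4567 = n12510 := ndS (p := 2719) (l := 1) rfl N2719 D12510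
theorem N4568 : nd 4568 = n12511 := ndS (p := 2720) (l := 3) rfl N2720 D12511
theorem N4569 : nd 4569 = n12512 := ndS (p := 2720) (l := 5) rfl N2720 D12512
theorem N4570 : nd 4570 = n12513 := ndS (p := 2720) (l := 6) rfl N2720 D12513
theorem N4571 : nd 4571 = n12514 := ndS (p := 2721) (l := 2) rfl N2721 D12514
theorem N4572 : nd 4572 = n12515 := ndS (p := 2721) (l := 4) rfl N2721 D12515
theorem N4573 : nd 4573 = n12516 := ndS (p := 2721) (l := 5) rfl N2721 D12516
theorem N4574 : nd 4574 = n12517 := ndS (p := 2721) (l := 6) rfl N2721 D12517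
theorem N4575 : nd 4575 = n12518 := ndS (p := 2722) (l := 6) rfl N2722 D12518
theorem N4576 : nd 4576 = n12519 := ndS (p := 2723) (l := 1) rfl N2723 D12519
theorem N4577 : nd 4577 = n12520 := ndS (p := 2723) (l := 5) rfl N2723 D12520
theorem N4578 : nd 4578 = n12521 := ndS (p := 2724) (l := 1) rfl N2724 D12521
theorem N4579 : nd 4579 = n12522 := ndS (p := 2724) (l := 4) rfl N2724 D12522
theorem N4580 : nd 4580 = n12523 := ndS (p := 2724) (l := 6) rfl N2724 D12523
theorem N4581 : nd 4581 = n12524 := ndS (p := 2725) (l := 6) rfl N2725 D12524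
theorem N4582 : nd 4582 = n12525 := ndS (p := 2726) (l := 1) rfl N2726 D12525
theorem N4583 : nd 4583 = n12526 := ndS (p := 2727) (l := 0) rfl N2727 D12526
theorem N4584 : nd 4584 = n12527 := ndS (p := 2727) (l := 2) rfl N2727 D12527
theorem N4585 : nd 4585 = n12528 := ndS (p := 2727) (l := 5) rfl N2727 D12528
theorem N4586 : nd 4586 = n12529 := ndS (p := 2728) (l := 1) rfl N2728 D12529
theorem N4587 : nd 4587 = n12530 := ndS (p := 2728) (l := 2) rfl N2728 D12530
theorem N4588 : nd 4588 = n12531 := ndS (p := 2728) (l := 5) rfl N2728 D12531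
theorem N4589 : nd 4589 = n12532 := ndS (p := 2729) (l := 3) rfl N2729 D12532
theorem N4590 : nd 4590 = n12533 := ndS (p := 2729) (l := 5) rfl N2729 D12533
theorem N4591 : nd 4591 = n12534 := ndS (p := 2731) (l := 4) rfl N2731 D12534
theorem N4592 : nd 4592 = n12535 := ndS (p := 2731) (l := 6) rfl N2731 D12535
theorem N4593 : nd 4593 = n12536 := ndS (p := 2732) (l := 3) rfl N2732 D12536
theorem N4594 : nd 4594 = n12537 := ndS (p := 2732) (l := 6) rfl N2732 D12537
theorem N4595 : nd 4595 = n12538 := ndS (p := 2733) (l := 1) rfl N2733 D12538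
theorem N4596 : nd 4596 = n12539 := ndS (p := 2733) (l := 5) rfl N2733 D12539
theorem N4597 : nd 4597 = n12540 := ndS (p := 2734) (l := 1) rfl N2734 D12540
theorem N4598 : nd 4598 = n12541 := ndS (p := 2734) (l := 5) rfl N2734 D12541
theorem N4599 : nd 4599 = n12542 := ndS (p := 2735) (l := 0) rfl N2735 D12542
theorem N4600 : nd 4600 = n12543 := ndS (p := 2735) (l := 2) rfl N2735 D12543
theorem N4601 : nd 4601 = n12544 := ndS (p := 2735) (l := 5) rfl N2735 D12544
theorem N4602 : nd 4602 = n12545 := ndS (p := 2736) (l := 1) rfl N2736 D12545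
theorem N4603 : nd 4603 = n12546 := ndS (p := 2737) (l := 1) rfl N2737 D12546
theorem N4604 : nd 4604 = n12547 := ndS (p := 2737) (l := 2) rfl N2737 D12547
theorem N4605 : nd 4605 = n12548 := ndS (p := 2738) (l := 3) rfl N2738 D12548
theorem N4606 : nd 4606 = n12549 := ndS (p := 2738) (l := 5) rfl N2738 D12549
theorem N4607 : nd 4607 = n12550 := ndS (p := 2739) (l := 1) rfl N2739 D12550
theorem N4608 : nd 4608 = n12551 := ndS (p := 2740) (l := 0) rfl N2740 D12551
theorem N4609 : nd 4609 = n12552 := ndS (p := 2740) (l := 2) rfl N2740 D12552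
theorem N4610 : nd 4610 = n12553 := ndS (p := 2740) (l := 6) rfl N2740 D12553
theorem N4611 : nd 4611 = n12554 := ndS (p := 2741) (l := 0) rfl N2741 D12554
theorem N4612 : nd 4612 = n12555 := ndS (p := 2741) (l := 2) rfl N2741 D12555
theorem N4613 : nd 4613 = n12556 := ndS (p := 2741) (l := 5) rfl N2741 D12556
theorem N4614 : nd 4614 = n12557 := ndS (p := 2741) (l := 6) rfl N2741 D12557
theorem N4615 : nd 4615 = n12558 := ndS (p := 2742) (l := 1) rfl N2742 D12558
theorem N4616 : nd 4616 = n12559 := ndS (p := 2742) (l := 3) rfl N2742 D12559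
theorem N4617 : nd 4617 = n12560 := ndS (p := 2743) (l := 2) rfl N2743 D12560
theorem N4618 : nd 4618 = n12561 := ndS (p := 2743) (l := 4) rfl N2743 D12561
theorem N4619 : nd 4619 = n12562 := ndS (p := 2743) (l := 5) rfl N2743 D12562
theorem N4620 : nd 4620 = n12563 := ndS (p := 2744) (l := 1) rfl N2744 D12563
theorem N4621 : nd 4621 = n12564 := ndS (p := 2745) (l := 0) rfl N2745 D12564
theorem N4622 : nd 4622 = n12565 := ndS (p := 2745) (l := 2) rfl N2745 D12565
theorem N4623 : nd 4623 = n12566 := ndS (p := 2745) (l := 6) rfl N2745 D12566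
theorem N4624 : nd 4624 = n12568 := ndS (p := 2746) (l := 2) rfl N2746 D12568
theorem N4625 : nd 4625 = n12569 := ndS (p := 2746) (l := 6) rfl N2746 D12569
theorem N4626 : nd 4626 = n12570 := ndS (p := 2747) (l := 3) rfl N2747 D12570
theorem N4627 : nd 4627 = n12571 := ndS (p := 2747) (l := 6) rfl N2747 D12571
theorem N4628 : nd 4628 = n12572 := ndS (p := 2748) (l := 5) rfl N2748 D12572
theorem N4629 : nd 4629 = n12573 := ndS (p := 2749) (l := 2) rfl N2749 D12573
theorem N4630 : nd 4630 = n12574 := ndS (p := 2749) (l := 5) rfl N2749 D12574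
theorem N4631 : nd 4631 = n12575 := ndS (p := 2749) (l := 6) rfl N2749 D12575
theorem N4632 : nd 4632 = n12576 := ndS (p := 2750) (l := 1) rfl N2750 D12576
theorem N4633 : nd 4633 = n12577 := ndS (p := 2750) (l := 3) rfl N2750 D12577
theorem N4634 : nd 4634 = n12578 := ndS (p := 2750) (l := 5) rfl N2750 D12578
theorem N4635 : nd 4635 = n12579 := ndS (p := 2750) (l := 6) rfl N2750 D12579
theorem N4636 : nd 4636 = n12580 := ndS (p := 2751) (l := 1) rfl N2751 D12580
theorem N4637 : nd 4637 = n12581 := ndS (p := 2752) (l := 5) rfl N2752 D12581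
theorem N4638 : nd 4638 = n12582 := ndS (p := 2753) (l := 0) rfl N2753 D12582
theorem N4639 : nd 4639 = n12583 := ndS (p := 2753) (l := 3) rfl N2753 D12583
theorem N4640 : nd 4640 = n12584 := ndS (p := 2753) (l := 5) rfl N2753 D12584
theorem N4641 : nd 4641 = n12585 := ndS (p := 2753) (l := 6) rfl N2753 D12585
theorem N4642 : nd 4642 = n12586 := ndS (p := 2754) (l := 2) rfl N2754 D12586
theorem N4643 : nd 4643 = n12587 := ndS (p := 2754) (l := 4) rfl N2754 D12587
theorem N4644 : nd 4644 = n12588 := ndS (p := 2754) (l := 5) rfl N2754 D12588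
theorem N4645 : nd 4645 = n12589 := ndS (p := 2755) (l := 1) rfl N2755 D12589
theorem N4646 : nd 4646 = n12590 := ndS (p := 2756) (l := 2) rfl N2756 D12590
theorem N4647 : nd 4647 = n12591 := ndS (p := 2757) (l := 1) rfl N2757 D12591
theorem N4648 : nd 4648 = n12592 := ndS (p := 2757) (l := 3) rfl N2757 D12592
theorem N4649 : nd 4649 = n12593 := ndS (p := 2757) (l := 4) rfl N2757 D12593
theorem N4650 : nd 4650 = n12594 := ndS (p := 2757) (l := 5) rfl N2757 D12594
theorem N4651 : nd 4651 = n12595 := ndS (p := 2758) (l := 5) rfl N2758 D12595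
theorem N4652 : nd 4652 = n12596 := ndS (p := 2759) (l := 6) rfl N2759 D12596
theorem N4653 : nd 4653 = n12597 := ndS (p := 2760) (l := 1) rfl N2760 D12597
theorem N4654 : nd 4654 = n12598 := ndS (p := 2761) (l := 0) rfl N2761 D12598
theorem N4655 : nd 4655 = n12599 := ndS (p := 2761) (l := 2) rfl N2761 D12599
theorem N4656 : nd 4656 = n12600 := ndS (p := 2761) (l := 5) rfl N2761 D12600
theorem N4657 : nd 4657 = n12605 := ndS (p := 2762) (l := 1) rfl N2762 D12605
theorem N4658 : nd 4658 = n12606 := ndS (p := 2763) (l := 1) rfl N2763 D12606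
theorem N4659 : nd 4659 = n12609 := ndS (p := 2764) (l := 5) rfl N2764 D12609
theorem N4660 : nd 4660 = n12612 := ndS (p := 2765) (l := 4) rfl N2765 D12612
theorem N4661 : nd 4661 = n12613 := ndS (p := 2765) (l := 5) rfl N2765 D12613
theorem N4662 : nd 4662 = n12615 := ndS (p := 2766) (l := 1) rfl N2766 D12615
theorem N4663 : nd 4663 = n12616 := ndS (p := 2766) (l := 6) rfl N2766 D12616
theorem N4664 : nd 4664 = n12618 := ndS (p := 2767) (l := 5) rfl N2767 D12618
theorem N4665 : nd 4665 = n12619 := ndS (p := 2768) (l := 0) rfl N2768 D12619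
theorem N4666 : nd 4666 = n12620 := ndS (p := 2768) (l := 2) rfl N2768 D12620
theorem N4667 : nd 4667 = n12621 := ndS (p := 2768) (l := 6) rfl N2768 D12621
theorem N4668 : nd 4668 = n12622 := ndS (p := 2770) (l := 1) rfl N2770 D12622
theorem N4669 : nd 4669 = n12623 := ndS (p := 2771) (l := 3) rfl N2771 D12623
theorem N4670 : nd 4670 = n12624 := ndS (p := 2771) (l := 5) rfl N2771 D12624
theorem N4671 : nd 4671 = n12625 := ndS (p := 2771) (l := 6) rfl N2771 D12625
theorem N4672 : nd 4672 = n12626 := ndS (p := 2772) (l := 2) rfl N2772 D12626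
theorem N4673 : nd 4673 = n12627 := ndS (p := 2772) (l := 4) rfl N2772 D12627
theorem N4674 : nd 4674 = n12628 := ndS (p := 2772) (l := 5) rfl N2772 D12628
theorem N4675 : nd 4675 = n12629 := ndS (p := 2772) (l := 6) rfl N2772 D12629
theorem N4676 : nd 4676 = n12630 := ndS (p := 2773) (l := 1) rfl N2773 D12630
theorem N4677 : nd 4677 = n12631 := ndS (p := 2773) (l := 6) rfl N2773 D12631
theorem N4678 : nd 4678 = n12632 := ndS (p := 2774) (l := 5) rfl N2774 D12632
theorem N4679 : nd 4679 = n12633 := ndS (p := 2775) (l := 1) rfl N2775 D12633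
theorem N4680 : nd 4680 = n12634 := ndS (p := 2775) (l := 4) rfl N2775 D12634
theorem N4681 : nd 4681 = n12635 := ndS (p := 2775) (l := 5) rfl N2775 D12635
theorem N4682 : nd 4682 = n12636 := ndS (p := 2776) (l := 5) rfl N2776 D12636
theorem N4683 : nd 4683 = n12637 := ndS (p := 2777) (l := 1) rfl N2777 D12637
theorem N4684 : nd 4684 = n12638 := ndS (p := 2778) (l := 0) rfl N2778 D12638
theorem N4685 : nd 4685 = n12639 := ndS (p := 2778) (l := 2) rfl N2778 D12639
theorem N4686 : nd 4686 = n12640 := ndS (p := 2778) (l := 6) rfl N2778 D12640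
theorem N4687 : nd 4687 = n12641 := ndS (p := 2779) (l := 1) rfl N2779 D12641
theorem N4688 : nd 4688 = n12642 := ndS (p := 2779) (l := 2) rfl N2779 D12642
theorem N4689 : nd 4689 = n12643 := ndS (p := 2780) (l := 3) rfl N2780 D12643
theorem N4690 : nd 4690 = n12644 := ndS (p := 2780) (l := 6) rfl N2780 D12644
theorem N4691 : nd 4691 = n12645 := ndS (p := 2782) (l := 4) rfl N2782 D12645
theorem N4692 : nd 4692 = n12646 := ndS (p := 2782) (l := 5) rfl N2782 D12646
theorem N4693 : nd 4693 = n12647 := ndS (p := 2783) (l := 3) rfl N2783 D12647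
theorem N4694 : nd 4694 = n12648 := ndS (p := 2783) (l := 5) rfl N2783 D12648
theorem N4695 : nd 4695 = n12649 := ndS (p := 2784) (l := 1) rfl N2784 D12649
theorem N4696 : nd 4696 = n12650 := ndS (p := 2784) (l := 6) rfl N2784 D12650
theorem N4697 : nd 4697 = n12651 := ndS (p := 2785) (l := 1) rfl N2785 D12651
theorem N4698 : nd 4698 = n12652 := ndS (p := 2785) (l := 6) rfl N2785 D12652
theorem N4699 : nd 4699 = n12653 := ndS (p := 2786) (l := 0) rfl N2786 D12653
theorem N4700 : nd 4700 = n12654 := ndS (p := 2786) (l := 2) rfl N2786 D12654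
theorem N4701 : nd 4701 = n12655 := ndS (p := 2786) (l := 6) rfl N2786 D12655
theorem N4702 : nd 4702 = n12656 := ndS (p := 2787) (l := 1) rfl N2787 D12656
theorem N4703 : nd 4703 = n12657 := ndS (p := 2788) (l := 1) rfl N2788 D12657
theorem N4704 : nd 4704 = n12658 := ndS (p := 2788) (l := 2) rfl N2788 D12658
theorem N4705 : nd 4705 = n12659 := ndS (p := 2789) (l := 3) rfl N2789 D12659
theorem N4706 : nd 4706 = n12660 := ndS (p := 2789) (l := 6) rfl N2789 D12660
theorem N4707 : nd 4707 = n12661 := ndS (p := 2790) (l := 1) rfl N2790 D12661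
theorem N4708 : nd 4708 = n12662 := ndS (p := 2791) (l := 0) rfl N2791 D12662
theorem N4709 : nd 4709 = n12663 := ndS (p := 2791) (l := 2) rfl N2791 D12663
theorem N4710 : nd 4710 = n12664 := ndS (p := 2791) (l := 5) rfl N2791 D12664
theorem N4711 : nd 4711 = n12665 := ndS (p := 2792) (l := 0) rfl N2792 D12665
theorem N4712 : nd 4712 = n12666 := ndS (p := 2792) (l := 2) rfl N2792 D12666
theorem N4713 : nd 4713 = n12667 := ndS (p := 2792) (l := 5) rfl N2792 D12667
theorem N4714 : nd 4714 = n12668 := ndS (p := 2792) (l := 6) rfl N2792 D12668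
theorem N4715 : nd 4715 = n12669 := ndS (p := 2793) (l := 1) rfl N2793 D12669
theorem N4716 : nd 4716 = n12670 := ndS (p := 2793) (l := 3) rfl N2793 D12670
theorem N4717 : nd 4717 = n12671 := ndS (p := 2794) (l := 2) rfl N2794 D12671
theorem N4718 : nd 4718 = n12672 := ndS (p := 2794) (l := 4) rfl N2794 D12672
theorem N4719 : nd 4719 = n12673 := ndS (p := 2794) (l := 6) rfl N2794 D12673
theorem N4720 : nd 4720 = n12674 := ndS (p := 2795) (l := 1) rfl N2795 D12674
theorem N4721 : nd 4721 = n12675 := ndS (p := 2796) (l := 0) rfl N2796 D12675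
theorem N4722 : nd 4722 = n12676 := ndS (p := 2796) (l := 2) rfl N2796 D12676
theorem N4723 : nd 4723 = n12677 := ndS (p := 2796) (l := 5) rfl N2796 D12677
theorem N4724 : nd 4724 = n12678 := ndS (p := 2797) (l := 2) rfl N2797 D12678
theorem N4725 : nd 4725 = n12679 := ndS (p := 2797) (l := 5) rfl N2797 D12679
theorem N4726 : nd 4726 = n12680 := ndS (p := 2798) (l := 3) rfl N2798 D12680
theorem N4727 : nd 4727 = n12681 := ndS (p := 2798) (l := 5) rfl N2798 D12681
theorem N4728 : nd 4728 = n12682 := ndS (p := 2799) (l := 6) rfl N2799 D12682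
theorem N4729 : nd 4729 = n12683 := ndS (p := 2800) (l := 2) rfl N2800 D12683
theorem N4730 : nd 4730 = n12684 := ndS (p := 2800) (l := 5) rfl N2800 D12684
theorem N4731 : nd 4731 = n12685 := ndS (p := 2800) (l := 6) rfl N2800 D12685
theorem N4732 : nd 4732 = n12686 := ndS (p := 2801) (l := 1) rfl N2801 D12686
theorem N4733 : nd 4733 = n12687 := ndS (p := 2801) (l := 3) rfl N2801 D12687
theorem N4734 : nd 4734 = n12688 := ndS (p := 2801) (l := 5) rfl N2801 D12688
theorem N4735 : nd 4735 = n12689 := ndS (p := 2801) (l := 6) rfl N2801 D12689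
theorem N4736 : nd 4736 = n12690 := ndS (p := 2802) (l := 6) rfl N2802 D12690
theorem N4737 : nd 4737 = n12691 := ndS (p := 2803) (l := 1) rfl N2803 D12691
theorem N4738 : nd 4738 = n12692 := ndS (p := 2804) (l := 0) rfl N2804 D12692
theorem N4739 : nd 4739 = n12693 := ndS (p := 2804) (l := 3) rfl N2804 D12693
theorem N4740 : nd 4740 = n12694 := ndS (p := 2804) (l := 5) rfl N2804 D12694
theorem N4741 : nd 4741 = n12695 := ndS (p := 2804) (l := 6) rfl N2804 D12695
theorem N4742 : nd 4742 = n12696 := ndS (p := 2805) (l := 4) rfl N2805 D12696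
theorem N4743 : nd 4743 = n12697 := ndS (p := 2805) (l := 6) rfl N2805 D12697
theorem N4744 : nd 4744 = n12698 := ndS (p := 2806) (l := 1) rfl N2806 D12698
theorem N4745 : nd 4745 = n12699 := ndS (p := 2807) (l := 2) rfl N2807 D12699
theorem N4746 : nd 4746 = n12700 := ndS (p := 2808) (l := 1) rfl N2808 D12700
theorem N4747 : nd 4747 = n12701 := ndS (p := 2808) (l := 4) rfl N2808 D12701
theorem N4748 : nd 4748 = n12702 := ndS (p := 2808) (l := 6) rfl N2808 D12702
theorem N4749 : nd 4749 = n12703 := ndS (p := 2809) (l := 6) rfl N2809 D12703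
theorem N4750 : nd 4750 = n12704 := ndS (p := 2810) (l := 5) rfl N2810 D12704
theorem N4751 : nd 4751 = n12705 := ndS (p := 2811) (l := 1) rfl N2811 D12705
theorem N4752 : nd 4752 = n12706 := ndS (p := 2812) (l := 0) rfl N2812 D12706
theorem N4753 : nd 4753 = n12707 := ndS (p := 2812) (l := 2) rfl N2812 D12707
theorem N4754 : nd 4754 = n12708 := ndS (p := 2812) (l := 6) rfl N2812 D12708
theorem N4755 : nd 4755 = n12709 := ndS (p := 2813) (l := 0) rfl N2813 D12709
theorem N4756 : nd 4756 = n12710 := ndS (p := 2813) (l := 2) rfl N2813 D12710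
theorem N4757 : nd 4757 = n12712 := ndS (p := 2814) (l := 1) rfl N2814 D12712
theorem N4758 : nd 4758 = n12713 := ndS (p := 2814) (l := 2) rfl N2814 D12713
theorem N4759 : nd 4759 = n12718 := ndS (p := 2816) (l := 0) rfl N2816 D12718
theorem N4760 : nd 4760 = n12719 := ndS (p := 2816) (l := 2) rfl N2816 D12719
theorem N4761 : nd 4761 = n12720 := ndS (p := 2816) (l := 6) rfl N2816 D12720
theorem N4762 : nd 4762 = n12721 := ndS (p := 2817) (l := 1) rfl N2817 D12721
theorem N4763 : nd 4763 = n12722 := ndS (p := 2817) (l := 3) rfl N2817 D12722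
theorem N4764 : nd 4764 = n12723 := ndS (p := 2817) (l := 5) rfl N2817 D12723
theorem N4765 : nd 4765 = n12724 := ndS (p := 2819) (l := 2) rfl N2819 D12724
theorem N4766 : nd 4766 = n12725 := ndS (p := 2819) (l := 4) rfl N2819 D12725
theorem N4767 : nd 4767 = n12726 := ndS (p := 2819) (l := 5) rfl N2819 D12726
theorem N4768 : nd 4768 = n12727 := ndS (p := 2820) (l := 6) rfl N2820 D12727
theorem N4769 : nd 4769 = n12728 := ndS (p := 2821) (l := 1) rfl N2821 D12728
theorem N4770 : nd 4770 = n12729 := ndS (p := 2823) (l := 1) rfl N2823 D12729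
theorem N4771 : nd 4771 = n12730 := ndS (p := 2823) (l := 3) rfl N2823 D12730
theorem N4772 : nd 4772 = n12731 := ndS (p := 2824) (l := 0) rfl N2824 D12731
theorem N4773 : nd 4773 = n12732 := ndS (p := 2824) (l := 3) rfl N2824 D12732
theorem N4774 : nd 4774 = n12733 := ndS (p := 2824) (l := 5) rfl N2824 D12733
theorem N4775 : nd 4775 = n12734 := ndS (p := 2824) (l := 6) rfl N2824 D12734
theorem N4776 : nd 4776 = n12735 := ndS (p := 2825) (l := 2) rfl N2825 D12735
theorem N4777 : nd 4777 = n12736 := ndS (p := 2825) (l := 4) rfl N2825 D12736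
theorem N4778 : nd 4778 = n12737 := ndS (p := 2826) (l := 1) rfl N2826 D12737
theorem N4779 : nd 4779 = n12738 := ndS (p := 2826) (l := 3) rfl N2826 D12738
theorem N4780 : nd 4780 = n12739 := ndS (p := 2826) (l := 5) rfl N2826 D12739
theorem N4781 : nd 4781 = n12740 := ndS (p := 2826) (l := 6) rfl N2826 D12740
theorem N4782 : nd 4782 = n12741 := ndS (p := 2827) (l := 2) rfl N2827 D12741
theorem N4783 : nd 4783 = n12742 := ndS (p := 2827) (l := 4) rfl N2827 D12742
theorem N4784 : nd 4784 = n12743 := ndS (p := 2827) (l := 5) rfl N2827 D12743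
theorem N4785 : nd 4785 = n12744 := ndS (p := 2827) (l := 6) rfl N2827 D12744
theorem N4786 : nd 4786 = n12745 := ndS (p := 2828) (l := 6) rfl N2828 D12745
theorem N4787 : nd 4787 = n12746 := ndS (p := 2829) (l := 5) rfl N2829 D12746
theorem N4788 : nd 4788 = n12747 := ndS (p := 2831) (l := 0) rfl N2831 D12747
theorem N4789 : nd 4789 = n12748 := ndS (p := 2831) (l := 4) rfl N2831 D12748
theorem N4790 : nd 4790 = n12749 := ndS (p := 2831) (l := 5) rfl N2831 D12749
theorem N4791 : nd 4791 = n12750 := ndS (p := 2831) (l := 6) rfl N2831 D12750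
theorem N4792 : nd 4792 = n12751 := ndS (p := 2832) (l := 3) rfl N2832 D12751
theorem N4793 : nd 4793 = n12752 := ndS (p := 2833) (l := 0) rfl N2833 D12752
theorem N4794 : nd 4794 = n12753 := ndS (p := 2833) (l := 2) rfl N2833 D12753
theorem N4795 : nd 4795 = n12755 := ndS (p := 2834) (l := 1) rfl N2834 D12755
theorem N4796 : nd 4796 = n12756 := ndS (p := 2834) (l := 2) rfl N2834 D12756
theorem N4797 : nd 4797 = n12761 := ndS (p := 2836) (l := 0) rfl N2836 D12761
theorem N4798 : nd 4798 = n12762 := ndS (p := 2836) (l := 2) rfl N2836 D12762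
theorem N4799 : nd 4799 = n12763 := ndS (p := 2836) (l := 5) rfl N2836 D12763
theorem N4800 : nd 4800 = n12765 := ndS (p := 2837) (l := 1) rfl N2837 D12765
theorem N4801 : nd 4801 = n12766 := ndS (p := 2837) (l := 3) rfl N2837 D12766
theorem N4802 : nd 4802 = n12767 := ndS (p := 2837) (l := 6) rfl N2837 D12767
theorem N4803 : nd 4803 = n12769 := ndS (p := 2839) (l := 2) rfl N2839 D12769
theorem N4804 : nd 4804 = n12770 := ndS (p := 2839) (l := 4) rfl N2839 D12770
theorem N4805 : nd 4805 = n12771 := ndS (p := 2839) (l := 6) rfl N2839 D12771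
theorem N4806 : nd 4806 = n12772 := ndS (p := 2840) (l := 5) rfl N2840 D12772
theorem N4807 : nd 4807 = n12773 := ndS (p := 2841) (l := 1) rfl N2841 D12773
theorem N4808 : nd 4808 = n12774 := ndS (p := 2843) (l := 1) rfl N2843 D12774
theorem N4809 : nd 4809 = n12775 := ndS (p := 2843) (l := 3) rfl N2843 D12775
theorem N4810 : nd 4810 = n12776 := ndS (p := 2844) (l := 0) rfl N2844 D12776
theorem N4811 : nd 4811 = n12777 := ndS (p := 2844) (l := 3) rfl N2844 D12777
theorem N4812 : nd 4812 = n12778 := ndS (p := 2844) (l := 5) rfl N2844 D12778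
theorem N4813 : nd 4813 = n12779 := ndS (p := 2844) (l := 6) rfl N2844 D12779
theorem N4814 : nd 4814 = n12780 := ndS (p := 2845) (l := 2) rfl N2845 D12780
theorem N4815 : nd 4815 = n12781 := ndS (p := 2845) (l := 4) rfl N2845 D12781
theorem N4816 : nd 4816 = n12782 := ndS (p := 2846) (l := 1) rfl N2846 D12782
theorem N4817 : nd 4817 = n12783 := ndS (p := 2846) (l := 3) rfl N2846 D12783
theorem N4818 : nd 4818 = n12784 := ndS (p := 2846) (l := 5) rfl N2846 D12784
theorem N4819 : nd 4819 = n12785 := ndS (p := 2846) (l := 6) rfl N2846 D12785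
theorem N4820 : nd 4820 = n12786 := ndS (p := 2847) (l := 2) rfl N2847 D12786
theorem N4821 : nd 4821 = n12787 := ndS (p := 2847) (l := 4) rfl N2847 D12787
theorem N4822 : nd 4822 = n12788 := ndS (p := 2847) (l := 5) rfl N2847 D12788
theorem N4823 : nd 4823 = n12789 := ndS (p := 2847) (l := 6) rfl N2847 D12789
theorem N4824 : nd 4824 = n12790 := ndS (p := 2848) (l := 6) rfl N2848 D12790
theorem N4825 : nd 4825 = n12791 := ndS (p := 2849) (l := 5) rfl N2849 D12791
theorem N4826 : nd 4826 = n12792 := ndS (p := 2851) (l := 0) rfl N2851 D12792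
theorem N4827 : nd 4827 = n12793 := ndS (p := 2851) (l := 4) rfl N2851 D12793
theorem N4828 : nd 4828 = n12794 := ndS (p := 2851) (l := 5) rfl N2851 D12794
theorem N4829 : nd 4829 = n12795 := ndS (p := 2851) (l := 6) rfl N2851 D12795
theorem N4830 : nd 4830 = n12796 := ndS (p := 2852) (l := 3) rfl N2852 D12796
theorem N4831 : nd 4831 = n12797 := ndS (p := 2853) (l := 0) rfl N2853 D12797
theorem N4832 : nd 4832 = n12799 := ndS (p := 2853) (l := 5) rfl N2853 D12799
theorem N4833 : nd 4833 = n12800 := ndS (p := 2853) (l := 6) rfl N2853 D12800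
theorem N4834 : nd 4834 = n12801 := ndS (p := 2855) (l := 2) rfl N2855 D12801
theorem N4835 : nd 4835 = n12803 := ndS (p := 2856) (l := 2) rfl N2856 D12803
theorem N4836 : nd 4836 = n12806 := ndS (p := 2857) (l := 1) rfl N2857 D12806
theorem N4837 : nd 4837 = n12807 := ndS (p := 2857) (l := 3) rfl N2857 D12807
theorem N4838 : nd 4838 = n12808 := ndS (p := 2857) (l := 4) rfl N2857 D12808
theorem N4839 : nd 4839 = n12809 := ndS (p := 2859) (l := 2) rfl N2859 D12809
theorem N4840 : nd 4840 = n12812 := ndS (p := 2860) (l := 1) rfl N2860 D12812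
theorem N4841 : nd 4841 = n12813 := ndS (p := 2860) (l := 3) rfl N2860 D12813
theorem N4842 : nd 4842 = n12816 := ndS (p := 2860) (l := 6) rfl N2860 D12816
theorem N4843 : nd 4843 = n12819 := ndS (p := 2862) (l := 0) rfl N2862 D12819
theorem N4844 : nd 4844 = n12820 := ndS (p := 2862) (l := 4) rfl N2862 D12820
theorem N4845 : nd 4845 = n12821 := ndS (p := 2862) (l := 5) rfl N2862 D12821
theorem N4846 : nd 4846 = n12822 := ndS (p := 2862) (l := 6) rfl N2862 D12822
theorem N4847 : nd 4847 = n12823 := ndS (p := 2863) (l := 3) rfl N2863 D12823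
theorem N4848 : nd 4848 = n12824 := ndS (p := 2864) (l := 1) rfl N2864 D12824
theorem N4849 : nd 4849 = n12825 := ndS (p := 2864) (l := 3) rfl N2864 D12825
theorem N4850 : nd 4850 = n12826 := ndS (p := 2864) (l := 4) rfl N2864 D12826
theorem N4851 : nd 4851 = n12827 := ndS (p := 2864) (l := 5) rfl N2864 D12827
theorem N4852 : nd 4852 = n12828 := ndS (p := 2864) (l := 6) rfl N2864 D12828
theorem N4853 : nd 4853 = n12829 := ndS (p := 2865) (l := 2) rfl N2865 D12829
theorem N4854 : nd 4854 = n12830 := ndS (p := 2865) (l := 4) rfl N2865 D12830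
theorem N4855 : nd 4855 = n12831 := ndS (p := 2865) (l := 5) rfl N2865 D12831
theorem N4856 : nd 4856 = n12832 := ndS (p := 2865) (l := 6) rfl N2865 D12832
theorem N4857 : nd 4857 = n12833 := ndS (p := 2866) (l := 3) rfl N2866 D12833
theorem N4858 : nd 4858 = n12834 := ndS (p := 2866) (l := 5) rfl N2866 D12834
theorem N4859 : nd 4859 = n12836 := ndS (p := 2867) (l := 6) rfl N2867 D12836
theorem N4860 : nd 4860 = n12838 := ndS (p := 2869) (l := 3) rfl N2869 D12838
theorem N4861 : nd 4861 = n12839 := ndS (p := 2871) (l := 0) rfl N2871 D12839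
theorem N4862 : nd 4862 = n12841 := ndS (p := 2871) (l := 5) rfl N2871 D12841
theorem N4863 : nd 4863 = n12843 := ndS (p := 2873) (l := 2) rfl N2873 D12843
theorem N4864 : nd 4864 = n12845 := ndS (p := 2874) (l := 2) rfl N2874 D12845
theorem N4865 : nd 4865 = n12847 := ndS (p := 2875) (l := 1) rfl N2875 D12847
theorem N4866 : nd 4866 = n12848 := ndS (p := 2875) (l := 3) rfl N2875 D12848
theorem N4867 : nd 4867 = n12849 := ndS (p := 2875) (l := 4) rfl N2875 D12849
theorem N4868 : nd 4868 = n12850 := ndS (p := 2877) (l := 2) rfl N2877 D12850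
theorem N4869 : nd 4869 = n12852 := ndS (p := 2878) (l := 1) rfl N2878 D12852
theorem N4870 : nd 4870 = n12853 := ndS (p := 2878) (l := 3) rfl N2878 D12853
theorem N4871 : nd 4871 = n12855 := ndS (p := 2878) (l := 5) rfl N2878 D12855
theorem N4872 : nd 4872 = n12859 := ndS (p := 2880) (l := 0) rfl N2880 D12859
theorem N4873 : nd 4873 = n12860 := ndS (p := 2880) (l := 4) rfl N2880 D12860
theorem N4874 : nd 4874 = n12861 := ndS (p := 2880) (l := 5) rfl N2880 D12861
theorem N4875 : nd 4875 = n12862 := ndS (p := 2880) (l := 6) rfl N2880 D12862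
theorem N4876 : nd 4876 = n12863 := ndS (p := 2881) (l := 3) rfl N2881 D12863
theorem N4877 : nd 4877 = n12864 := ndS (p := 2882) (l := 1) rfl N2882 D12864
theorem N4878 : nd 4878 = n12865 := ndS (p := 2882) (l := 3) rfl N2882 D12865
theorem N4879 : nd 4879 = n12867 := ndS (p := 2882) (l := 5) rfl N2882 D12867
theorem N4880 : nd 4880 = n12869 := ndS (p := 2883) (l := 2) rfl N2883 D12869
theorem N4881 : nd 4881 = n12870 := ndS (p := 2883) (l := 4) rfl N2883 D12870
theorem N4882 : nd 4882 = n12871 := ndS (p := 2883) (l := 5) rfl N2883 D12871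
theorem N4883 : nd 4883 = n12872 := ndS (p := 2883) (l := 6) rfl N2883 D12872
theorem N4884 : nd 4884 = n12873 := ndS (p := 2884) (l := 3) rfl N2884 D12873
theorem N4885 : nd 4885 = n12878 := ndS (p := 2887) (l := 3) rfl N2887 D12878
theorem N4886 : nd 4886 = n12932 := ndS (p := 2889) (l := 1) rfl N2889 D12932
theorem N4887 : nd 4887 = n12939 := ndS (p := 2890) (l := 1) rfl N2890 D12939
theorem N4888 : nd 4888 = n12944 := ndS (p := 2891) (l := 0) rfl N2891 D12944
theorem N4889 : nd 4889 = n12945 := ndS (p := 2891) (l := 2) rfl N2891 D12945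
theorem N4890 : nd 4890 = n12946 := ndS (p := 2891) (l := 6) rfl N2891 D12946
theorem N4891 : nd 4891 = n12948 := ndS (p := 2892) (l := 3) rfl N2892 D12948
theorem N4892 : nd 4892 = n12950 := ndS (p := 2893) (l := 2) rfl N2893 D12950
theorem N4893 : nd 4893 = n12952 := ndS (p := 2893) (l := 5) rfl N2893 D12952
theorem N4894 : nd 4894 = n12957 := ndS (p := 2894) (l := 1) rfl N2894 D12957
theorem N4895 : nd 4895 = n12958 := ndS (p := 2895) (l := 1) rfl N2895 D12958
theorem N4896 : nd 4896 = n12965 := ndS (p := 2896) (l := 0) rfl N2896 D12965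
theorem N4897 : nd 4897 = n12966 := ndS (p := 2896) (l := 2) rfl N2896 D12966
theorem N4898 : nd 4898 = n12968 := ndS (p := 2897) (l := 1) rfl N2897 D12968
theorem N4899 : nd 4899 = n12976 := ndS (p := 2898) (l := 1) rfl N2898 D12976
theorem N4900 : nd 4900 = n12977 := ndS (p := 2898) (l := 2) rfl N2898 D12977
theorem N4901 : nd 4901 = n12979 := ndS (p := 2899) (l := 3) rfl N2899 D12979
theorem N4902 : nd 4902 = n12980 := ndS (p := 2899) (l := 6) rfl N2899 D12980
theorem N4903 : nd 4903 = n12981 := ndS (p := 2900) (l := 5) rfl N2900 D12981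
theorem N4904 : nd 4904 = n12986 := ndS (p := 2901) (l := 2) rfl N2901 D12986
theorem N4905 : nd 4905 = n12987 := ndS (p := 2902) (l := 1) rfl N2902 D12987
theorem N4906 : nd 4906 = n12988 := ndS (p := 2903) (l := 4) rfl N2903 D12988
theorem N4907 : nd 4907 = n12989 := ndS (p := 2903) (l := 6) rfl N2903 D12989
theorem N4908 : nd 4908 = n12990 := ndS (p := 2904) (l := 1) rfl N2904 D12990
theorem N4909 : nd 4909 = n13029 := ndS (p := 2905) (l := 0) rfl N2905 D13029
theorem N4910 : nd 4910 = n13030 := ndS (p := 2905) (l := 2) rfl N2905 D13030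
theorem N4911 : nd 4911 = n13031 := ndS (p := 2905) (l := 5) rfl N2905 D13031
theorem N4912 : nd 4912 = n13033 := ndS (p := 2906) (l := 3) rfl N2906 D13033
theorem N4913 : nd 4913 = n13035 := ndS (p := 2907) (l := 2) rfl N2907 D13035
theorem N4914 : nd 4914 = n13038 := ndS (p := 2907) (l := 6) rfl N2907 D13038
theorem N4915 : nd 4915 = n13042 := ndS (p := 2908) (l := 1) rfl N2908 D13042
theorem N4916 : nd 4916 = n13051 := ndS (p := 2909) (l := 0) rfl N2909 D13051
theorem N4917 : nd 4917 = n13052 := ndS (p := 2909) (l := 2) rfl N2909 D13052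
theorem N4918 : nd 4918 = n13061 := ndS (p := 2910) (l := 1) rfl N2910 D13061
theorem N4919 : nd 4919 = n13062 := ndS (p := 2910) (l := 2) rfl N2910 D13062
theorem N4920 : nd 4920 = n13064 := ndS (p := 2911) (l := 3) rfl N2911 D13064
theorem N4921 : nd 4921 = n13065 := ndS (p := 2911) (l := 5) rfl N2911 D13065
theorem N4922 : nd 4922 = n13066 := ndS (p := 2912) (l := 6) rfl N2912 D13066
theorem N4923 : nd 4923 = n13071 := ndS (p := 2913) (l := 2) rfl N2913 D13071
theorem N4924 : nd 4924 = n13072 := ndS (p := 2914) (l := 1) rfl N2914 D13072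
theorem N4925 : nd 4925 = n13073 := ndS (p := 2915) (l := 4) rfl N2915 D13073
theorem N4926 : nd 4926 = n13074 := ndS (p := 2915) (l := 5) rfl N2915 D13074
theorem N4927 : nd 4927 = n13075 := ndS (p := 2916) (l := 1) rfl N2916 D13075
theorem N4928 : nd 4928 = n13283 := ndS (p := 2917) (l := 5) rfl N2917 D13283
theorem N4929 : nd 4929 = n13284 := ndS (p := 2917) (l := 6) rfl N2917 D13284
theorem N4930 : nd 4930 = n13285 := ndS (p := 2918) (l := 6) rfl N2918 D13285
theorem N4931 : nd 4931 = n13286 := ndS (p := 2919) (l := 5) rfl N2919 D13286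
theorem N4932 : nd 4932 = n13290 := ndS (p := 2921) (l := 5) rfl N2921 D13290
theorem N4933 : nd 4933 = n13291 := ndS (p := 2921) (l := 6) rfl N2921 D13291
theorem N4934 : nd 4934 = n13294 := ndS (p := 2924) (l := 5) rfl N2924 D13294
theorem N4935 : nd 4935 = n13295 := ndS (p := 2924) (l := 6) rfl N2924 D13295
theorem N4936 : nd 4936 = n13296 := ndS (p := 2925) (l := 6) rfl N2925 D13296
theorem N4937 : nd 4937 = n13297 := ndS (p := 2926) (l := 5) rfl N2926 D13297
theorem N4938 : nd 4938 = n13298 := ndS (p := 2927) (l := 1) rfl N2927 D13298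
theorem N4939 : nd 4939 = n13299 := ndS (p := 2928) (l := 1) rfl N2928 D13299
theorem N4940 : nd 4940 = n13300 := ndS (p := 2929) (l := 0) rfl N2929 D13300
theorem N4941 : nd 4941 = n13301 := ndS (p := 2929) (l := 2) rfl N2929 D13301
theorem N4942 : nd 4942 = n13302 := ndS (p := 2929) (l := 3) rfl N2929 D13302
theorem N4943 : nd 4943 = n13303 := ndS (p := 2929) (l := 5) rfl N2929 D13303
theorem N4944 : nd 4944 = n13304 := ndS (p := 2929) (l := 6) rfl N2929 D13304
theorem N4945 : nd 4945 = n13305 := ndS (p := 2930) (l := 5) rfl N2930 D13305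
theorem N4946 : nd 4946 = n13306 := ndS (p := 2930) (l := 6) rfl N2930 D13306
theorem N4947 : nd 4947 = n13307 := ndS (p := 2931) (l := 1) rfl N2931 D13307
theorem N4948 : nd 4948 = n13308 := ndS (p := 2932) (l := 1) rfl N2932 D13308
theorem N4949 : nd 4949 = n13309 := ndS (p := 2933) (l := 5) rfl N2933 D13309
theorem N4950 : nd 4950 = n13310 := ndS (p := 2933) (l := 6) rfl N2933 D13310
theorem N4951 : nd 4951 = n13311 := ndS (p := 2934) (l := 1) rfl N2934 D13311
theorem N4952 : nd 4952 = n13312 := ndS (p := 2934) (l := 6) rfl N2934 D13312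
theorem N4953 : nd 4953 = n13313 := ndS (p := 2935) (l := 1) rfl N2935 D13313
theorem N4954 : nd 4954 = n13314 := ndS (p := 2935) (l := 5) rfl N2935 D13314
theorem N4955 : nd 4955 = n13315 := ndS (p := 2936) (l := 0) rfl N2936 D13315
theorem N4956 : nd 4956 = n13316 := ndS (p := 2936) (l := 6) rfl N2936 D13316
theorem N4957 : nd 4957 = n13317 := ndS (p := 2937) (l := 1) rfl N2937 D13317
theorem N4958 : nd 4958 = n13318 := ndS (p := 2938) (l := 0) rfl N2938 D13318
theorem N4959 : nd 4959 = n13319 := ndS (p := 2938) (l := 5) rfl N2938 D13319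
theorem N4960 : nd 4960 = n13320 := ndS (p := 2939) (l := 1) rfl N2939 D13320
theorem N4961 : nd 4961 = n13321 := ndS (p := 2940) (l := 0) rfl N2940 D13321
theorem N4962 : nd 4962 = n13322 := ndS (p := 2940) (l := 2) rfl N2940 D13322
theorem N4963 : nd 4963 = n13323 := ndS (p := 2940) (l := 6) rfl N2940 D13323
theorem N4964 : nd 4964 = n13324 := ndS (p := 2941) (l := 0) rfl N2941 D13324
theorem N4965 : nd 4965 = n13325 := ndS (p := 2941) (l := 2) rfl N2941 D13325
theorem N4966 : nd 4966 = n13326 := ndS (p := 2941) (l := 5) rfl N2941 D13326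
theorem N4967 : nd 4967 = n13328 := ndS (p := 2942) (l := 6) rfl N2942 D13328
theorem N4968 : nd 4968 = n13329 := ndS (p := 2943) (l := 5) rfl N2943 D13329
theorem N4969 : nd 4969 = n13331 := ndS (p := 2944) (l := 5) rfl N2944 D13331
theorem N4970 : nd 4970 = n13332 := ndS (p := 2945) (l := 6) rfl N2945 D13332
theorem N4971 : nd 4971 = n13333 := ndS (p := 2946) (l := 5) rfl N2946 D13333
theorem N4972 : nd 4972 = n13334 := ndS (p := 2946) (l := 6) rfl N2946 D13334
theorem N4973 : nd 4973 = n13339 := ndS (p := 2948) (l := 6) rfl N2948 D13339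
theorem N4974 : nd 4974 = n13341 := ndS (p := 2949) (l := 5) rfl N2949 D13341
theorem N4975 : nd 4975 = n13342 := ndS (p := 2950) (l := 0) rfl N2950 D13342
theorem N4976 : nd 4976 = n13344 := ndS (p := 2950) (l := 6) rfl N2950 D13344
theorem N4977 : nd 4977 = n13345 := ndS (p := 2951) (l := 0) rfl N2951 D13345
theorem N4978 : nd 4978 = n13347 := ndS (p := 2951) (l := 5) rfl N2951 D13347
theorem N4979 : nd 4979 = n13348 := ndS (p := 2952) (l := 1) rfl N2952 D13348
theorem N4980 : nd 4980 = n13349 := ndS (p := 2953) (l := 1) rfl N2953 D13349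
theorem N4981 : nd 4981 = n13350 := ndS (p := 2954) (l := 0) rfl N2954 D13350
theorem N4982 : nd 4982 = n13351 := ndS (p := 2954) (l := 2) rfl N2954 D13351
theorem N4983 : nd 4983 = n13352 := ndS (p := 2954) (l := 5) rfl N2954 D13352
theorem N4984 : nd 4984 = n13353 := ndS (p := 2955) (l := 1) rfl N2955 D13353
theorem N4985 : nd 4985 = n13354 := ndS (p := 2956) (l := 1) rfl N2956 D13354
theorem N4986 : nd 4986 = n13355 := ndS (p := 2957) (l := 0) rfl N2957 D13355
theorem N4987 : nd 4987 = n13356 := ndS (p := 2957) (l := 2) rfl N2957 D13356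
theorem N4988 : nd 4988 = n13357 := ndS (p := 2957) (l := 6) rfl N2957 D13357
theorem N4989 : nd 4989 = n13358 := ndS (p := 2958) (l := 0) rfl N2958 D13358
theorem N4990 : nd 4990 = n13361 := ndS (p := 2958) (l := 6) rfl N2958 D13361
theorem N4991 : nd 4991 = n13362 := ndS (p := 2959) (l := 1) rfl N2959 D13362
theorem N4992 : nd 4992 = n13363 := ndS (p := 2960) (l := 1) rfl N2960 D13363
theorem N4993 : nd 4993 = n13364 := ndS (p := 2961) (l := 0) rfl N2961 D13364
theorem N4994 : nd 4994 = n13366 := ndS (p := 2961) (l := 5) rfl N2961 D13366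
theorem N4995 : nd 4995 = n13368 := ndS (p := 2962) (l := 1) rfl N2962 D13368
theorem N4996 : nd 4996 = n13369 := ndS (p := 2963) (l := 1) rfl N2963 D13369
theorem N4997 : nd 4997 = n13370 := ndS (p := 2964) (l := 1) rfl N2964 D13370
theorem N4998 : nd 4998 = n13371 := ndS (p := 2965) (l := 1) rfl N2965 D13371
theorem N4999 : nd 4999 = n13372 := ndS (p := 2966) (l := 0) rfl N2966 D13372
theorem N5000 : nd 5000 = n13373 := ndS (p := 2966) (l := 2) rfl N2966 D13373
theorem N5001 : nd 5001 = n13374 := ndS (p := 2966) (l := 6) rfl N2966 D13374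
theorem N5002 : nd 5002 = n13375 := ndS (p := 2967) (l := 0) rfl N2967 D13375
theorem N5003 : nd 5003 = n13376 := ndS (p := 2967) (l := 2) rfl N2967 D13376
theorem N5004 : nd 5004 = n13377 := ndS (p := 2967) (l := 5) rfl N2967 D13377
theorem N5005 : nd 5005 = n13378 := ndS (p := 2968) (l := 3) rfl N2968 D13378
theorem N5006 : nd 5006 = n13379 := ndS (p := 2969) (l := 3) rfl N2969 D13379
theorem N5007 : nd 5007 = n13382 := ndS (p := 2971) (l := 1) rfl N2971 D13382
theorem N5008 : nd 5008 = n13383 := ndS (p := 2972) (l := 1) rfl N2972 D13383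
theorem N5009 : nd 5009 = n13384 := ndS (p := 2973) (l := 0) rfl N2973 D13384
theorem N5010 : nd 5010 = n13385 := ndS (p := 2973) (l := 2) rfl N2973 D13385
theorem N5011 : nd 5011 = n13386 := ndS (p := 2973) (l := 6) rfl N2973 D13386
theorem N5012 : nd 5012 = n13388 := ndS (p := 2975) (l := 0) rfl N2975 D13388
theorem N5013 : nd 5013 = n13389 := ndS (p := 2975) (l := 2) rfl N2975 D13389
theorem N5014 : nd 5014 = n13390 := ndS (p := 2975) (l := 5) rfl N2975 D13390
theorem N5015 : nd 5015 = n13392 := ndS (p := 2977) (l := 1) rfl N2977 D13392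
theorem N5016 : nd 5016 = n13393 := ndS (p := 2977) (l := 2) rfl N2977 D13393
theorem N5017 : nd 5017 = n13394 := ndS (p := 2977) (l := 6) rfl N2977 D13394
theorem N5018 : nd 5018 = n13395 := ndS (p := 2978) (l := 3) rfl N2978 D13395
theorem N5019 : nd 5019 = n13396 := ndS (p := 2978) (l := 6) rfl N2978 D13396
theorem N5020 : nd 5020 = n13397 := ndS (p := 2979) (l := 5) rfl N2979 D13397
theorem N5021 : nd 5021 = n13398 := ndS (p := 2980) (l := 1) rfl N2980 D13398
theorem N5022 : nd 5022 = n13399 := ndS (p := 2980) (l := 2) rfl N2980 D13399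
theorem N5023 : nd 5023 = n13400 := ndS (p := 2980) (l := 5) rfl N2980 D13400
theorem N5024 : nd 5024 = n13401 := ndS (p := 2981) (l := 3) rfl N2981 D13401
theorem N5025 : nd 5025 = n13402 := ndS (p := 2981) (l := 5) rfl N2981 D13402
theorem N5026 : nd 5026 = n13403 := ndS (p := 2982) (l := 6) rfl N2982 D13403
theorem N5027 : nd 5027 = n13404 := ndS (p := 2983) (l := 4) rfl N2983 D13404
theorem N5028 : nd 5028 = n13405 := ndS (p := 2984) (l := 4) rfl N2984 D13405
theorem N5029 : nd 5029 = n13406 := ndS (p := 2985) (l := 5) rfl N2985 D13406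
theorem N5030 : nd 5030 = n13407 := ndS (p := 2985) (l := 6) rfl N2985 D13407
theorem N5031 : nd 5031 = n13412 := ndS (p := 2989) (l := 1) rfl N2989 D13412
theorem N5032 : nd 5032 = n13413 := ndS (p := 2989) (l := 6) rfl N2989 D13413
theorem N5033 : nd 5033 = n13414 := ndS (p := 2990) (l := 1) rfl N2990 D13414
theorem N5034 : nd 5034 = n13415 := ndS (p := 2990) (l := 5) rfl N2990 D13415
theorem N5035 : nd 5035 = n13416 := ndS (p := 2991) (l := 0) rfl N2991 D13416
theorem N5036 : nd 5036 = n13417 := ndS (p := 2991) (l := 2) rfl N2991 D13417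
theorem N5037 : nd 5037 = n13418 := ndS (p := 2991) (l := 6) rfl N2991 D13418
theorem N5038 : nd 5038 = n13419 := ndS (p := 2992) (l := 1) rfl N2992 D13419
theorem N5039 : nd 5039 = n13420 := ndS (p := 2993) (l := 0) rfl N2993 D13420
theorem N5040 : nd 5040 = n13421 := ndS (p := 2993) (l := 2) rfl N2993 D13421
theorem N5041 : nd 5041 = n13422 := ndS (p := 2993) (l := 5) rfl N2993 D13422
theorem N5042 : nd 5042 = n13423 := ndS (p := 2994) (l := 1) rfl N2994 D13423
theorem N5043 : nd 5043 = n13424 := ndS (p := 2995) (l := 0) rfl N2995 D13424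
theorem N5044 : nd 5044 = n13425 := ndS (p := 2995) (l := 2) rfl N2995 D13425
theorem N5045 : nd 5045 = n13426 := ndS (p := 2995) (l := 6) rfl N2995 D13426
theorem N5046 : nd 5046 = n13427 := ndS (p := 2996) (l := 1) rfl N2996 D13427
theorem N5047 : nd 5047 = n13428 := ndS (p := 2997) (l := 0) rfl N2997 D13428
theorem N5048 : nd 5048 = n13429 := ndS (p := 2997) (l := 2) rfl N2997 D13429
theorem N5049 : nd 5049 = n13430 := ndS (p := 2997) (l := 5) rfl N2997 D13430
theorem N5050 : nd 5050 = n13431 := ndS (p := 2998) (l := 1) rfl N2998 D13431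
theorem N5051 : nd 5051 = n13432 := ndS (p := 2999) (l := 1) rfl N2999 D13432
theorem N5052 : nd 5052 = n13433 := ndS (p := 2999) (l := 2) rfl N2999 D13433
theorem N5053 : nd 5053 = n13434 := ndS (p := 2999) (l := 6) rfl N2999 D13434
theorem N5054 : nd 5054 = n13435 := ndS (p := 3000) (l := 3) rfl N3000 D13435
theorem N5055 : nd 5055 = n13436 := ndS (p := 3000) (l := 6) rfl N3000 D13436
theorem N5056 : nd 5056 = n13437 := ndS (p := 3001) (l := 1) rfl N3001 D13437
theorem N5057 : nd 5057 = n13438 := ndS (p := 3001) (l := 5) rfl N3001 D13438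
theorem N5058 : nd 5058 = n13439 := ndS (p := 3002) (l := 0) rfl N3002 D13439
theorem N5059 : nd 5059 = n13440 := ndS (p := 3002) (l := 2) rfl N3002 D13440
theorem N5060 : nd 5060 = n13441 := ndS (p := 3002) (l := 5) rfl N3002 D13441
theorem N5061 : nd 5061 = n13442 := ndS (p := 3003) (l := 1) rfl N3003 D13442
theorem N5062 : nd 5062 = n13443 := ndS (p := 3003) (l := 2) rfl N3003 D13443
theorem N5063 : nd 5063 = n13444 := ndS (p := 3003) (l := 5) rfl N3003 D13444
theorem N5064 : nd 5064 = n13445 := ndS (p := 3004) (l := 3) rfl N3004 D13445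
theorem N5065 : nd 5065 = n13446 := ndS (p := 3004) (l := 5) rfl N3004 D13446
theorem N5066 : nd 5066 = n13447 := ndS (p := 3005) (l := 1) rfl N3005 D13447
theorem N5067 : nd 5067 = n13448 := ndS (p := 3005) (l := 6) rfl N3005 D13448
theorem N5068 : nd 5068 = n13449 := ndS (p := 3006) (l := 0) rfl N3006 D13449
theorem N5069 : nd 5069 = n13450 := ndS (p := 3006) (l := 2) rfl N3006 D13450
theorem N5070 : nd 5070 = n13451 := ndS (p := 3006) (l := 6) rfl N3006 D13451
theorem N5071 : nd 5071 = n13452 := ndS (p := 3007) (l := 4) rfl N3007 D13452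
theorem N5072 : nd 5072 = n13453 := ndS (p := 3007) (l := 6) rfl N3007 D13453
theorem N5073 : nd 5073 = n13454 := ndS (p := 3008) (l := 1) rfl N3008 D13454
theorem N5074 : nd 5074 = n13455 := ndS (p := 3009) (l := 3) rfl N3009 D13455
theorem N5075 : nd 5075 = n13456 := ndS (p := 3010) (l := 4) rfl N3010 D13456
theorem N5076 : nd 5076 = n13457 := ndS (p := 3010) (l := 5) rfl N3010 D13457
theorem N5077 : nd 5077 = n13458 := ndS (p := 3011) (l := 1) rfl N3011 D13458
theorem N5078 : nd 5078 = n13459 := ndS (p := 3012) (l := 3) rfl N3012 D13459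
theorem N5079 : nd 5079 = n13463 := ndS (p := 3014) (l := 6) rfl N3014 D13463
theorem N5080 : nd 5080 = n13465 := ndS (p := 3015) (l := 5) rfl N3015 D13465
theorem N5081 : nd 5081 = n13466 := ndS (p := 3016) (l := 4) rfl N3016 D13466
theorem N5082 : nd 5082 = n13479 := ndS (p := 3022) (l := 4) rfl N3022 D13479
theorem N5083 : nd 5083 = n13480 := ndS (p := 3022) (l := 5) rfl N3022 D13480
theorem N5084 : nd 5084 = n13481 := ndS (p := 3022) (l := 6) rfl N3022 D13481
theorem N5085 : nd 5085 = n13482 := ndS (p := 3023) (l := 3) rfl N3023 D13482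
theorem N5086 : nd 5086 = n13483 := ndS (p := 3023) (l := 5) rfl N3023 D13483
theorem N5087 : nd 5087 = n13484 := ndS (p := 3023) (l := 6) rfl N3023 D13484
theorem N5088 : nd 5088 = n13485 := ndS (p := 3024) (l := 1) rfl N3024 D13485
theorem N5089 : nd 5089 = n13486 := ndS (p := 3024) (l := 6) rfl N3024 D13486
theorem N5090 : nd 5090 = n13487 := ndS (p := 3025) (l := 1) rfl N3025 D13487
theorem N5091 : nd 5091 = n13488 := ndS (p := 3025) (l := 5) rfl N3025 D13488
theorem N5092 : nd 5092 = n13489 := ndS (p := 3026) (l := 1) rfl N3026 D13489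
theorem N5093 : nd 5093 = n13491 := ndS (p := 3027) (l := 1) rfl N3027 D13491
theorem N5094 : nd 5094 = n13493 := ndS (p := 3028) (l := 0) rfl N3028 D13493
theorem N5095 : nd 5095 = n13494 := ndS (p := 3028) (l := 2) rfl N3028 D13494
theorem N5096 : nd 5096 = n13495 := ndS (p := 3028) (l := 6) rfl N3028 D13495
theorem N5097 : nd 5097 = n13496 := ndS (p := 3029) (l := 1) rfl N3029 D13496
theorem N5098 : nd 5098 = n13497 := ndS (p := 3030) (l := 0) rfl N3030 D13497
theorem N5099 : nd 5099 = n13498 := ndS (p := 3030) (l := 2) rfl N3030 D13498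
theorem N5100 : nd 5100 = n13499 := ndS (p := 3030) (l := 5) rfl N3030 D13499
theorem N5101 : nd 5101 = n13500 := ndS (p := 3031) (l := 1) rfl N3031 D13500
theorem N5102 : nd 5102 = n13501 := ndS (p := 3032) (l := 1) rfl N3032 D13501
theorem N5103 : nd 5103 = n13502 := ndS (p := 3032) (l := 2) rfl N3032 D13502
theorem N5104 : nd 5104 = n13504 := ndS (p := 3033) (l := 6) rfl N3033 D13504
theorem N5105 : nd 5105 = n13505 := ndS (p := 3034) (l := 1) rfl N3034 D13505
theorem N5106 : nd 5106 = n13506 := ndS (p := 3035) (l := 0) rfl N3035 D13506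
theorem N5107 : nd 5107 = n13507 := ndS (p := 3035) (l := 2) rfl N3035 D13507
theorem N5108 : nd 5108 = n13508 := ndS (p := 3035) (l := 5) rfl N3035 D13508
theorem N5109 : nd 5109 = n13509 := ndS (p := 3036) (l := 1) rfl N3036 D13509
theorem N5110 : nd 5110 = n13510 := ndS (p := 3036) (l := 2) rfl N3036 D13510
theorem N5111 : nd 5111 = n13512 := ndS (p := 3037) (l := 5) rfl N3037 D13512
theorem N5112 : nd 5112 = n13513 := ndS (p := 3038) (l := 1) rfl N3038 D13513
theorem N5113 : nd 5113 = n13514 := ndS (p := 3039) (l := 0) rfl N3039 D13514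
theorem N5114 : nd 5114 = n13515 := ndS (p := 3039) (l := 2) rfl N3039 D13515
theorem N5115 : nd 5115 = n13516 := ndS (p := 3039) (l := 6) rfl N3039 D13516
theorem N5116 : nd 5116 = n13517 := ndS (p := 3040) (l := 0) rfl N3040 D13517
theorem N5117 : nd 5117 = n13518 := ndS (p := 3040) (l := 2) rfl N3040 D13518
theorem N5118 : nd 5118 = n13519 := ndS (p := 3040) (l := 6) rfl N3040 D13519
theorem N5119 : nd 5119 = n13520 := ndS (p := 3041) (l := 1) rfl N3041 D13520
theorem N5120 : nd 5120 = n13521 := ndS (p := 3042) (l := 0) rfl N3042 D13521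
theorem N5121 : nd 5121 = n13522 := ndS (p := 3042) (l := 2) rfl N3042 D13522
theorem N5122 : nd 5122 = n13523 := ndS (p := 3042) (l := 5) rfl N3042 D13523
theorem N5123 : nd 5123 = n13524 := ndS (p := 3043) (l := 1) rfl N3043 D13524
theorem N5124 : nd 5124 = n13527 := ndS (p := 3044) (l := 6) rfl N3044 D13527
theorem N5125 : nd 5125 = n13529 := ndS (p := 3045) (l := 6) rfl N3045 D13529
theorem N5126 : nd 5126 = n13530 := ndS (p := 3046) (l := 1) rfl N3046 D13530
theorem N5127 : nd 5127 = n13531 := ndS (p := 3046) (l := 5) rfl N3046 D13531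
theorem N5128 : nd 5128 = n13532 := ndS (p := 3047) (l := 0) rfl N3047 D13532
theorem N5129 : nd 5129 = n13533 := ndS (p := 3047) (l := 2) rfl N3047 D13533
theorem N5130 : nd 5130 = n13534 := ndS (p := 3047) (l := 5) rfl N3047 D13534
theorem N5131 : nd 5131 = n13537 := ndS (p := 3048) (l := 5) rfl N3048 D13537
theorem N5132 : nd 5132 = n13539 := ndS (p := 3049) (l := 5) rfl N3049 D13539
theorem N5133 : nd 5133 = n13540 := ndS (p := 3050) (l := 1) rfl N3050 D13540
theorem N5134 : nd 5134 = n13541 := ndS (p := 3050) (l := 6) rfl N3050 D13541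
theorem N5135 : nd 5135 = n13542 := ndS (p := 3051) (l := 0) rfl N3051 D13542
theorem N5136 : nd 5136 = n13543 := ndS (p := 3051) (l := 2) rfl N3051 D13543
theorem N5137 : nd 5137 = n13544 := ndS (p := 3051) (l := 6) rfl N3051 D13544
theorem N5138 : nd 5138 = n13548 := ndS (p := 3052) (l := 6) rfl N3052 D13548
theorem N5139 : nd 5139 = n13549 := ndS (p := 3053) (l := 1) rfl N3053 D13549
theorem N5140 : nd 5140 = n13550 := ndS (p := 3053) (l := 3) rfl N3053 D13550
theorem N5141 : nd 5141 = n13551 := ndS (p := 3053) (l := 6) rfl N3053 D13551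
theorem N5142 : nd 5142 = n13552 := ndS (p := 3054) (l := 1) rfl N3054 D13552
theorem N5143 : nd 5143 = n13554 := ndS (p := 3055) (l := 4) rfl N3055 D13554
theorem N5144 : nd 5144 = n13555 := ndS (p := 3055) (l := 6) rfl N3055 D13555
theorem N5145 : nd 5145 = n13556 := ndS (p := 3056) (l := 1) rfl N3056 D13556
theorem N5146 : nd 5146 = n13557 := ndS (p := 3056) (l := 5) rfl N3056 D13557
theorem N5147 : nd 5147 = n13558 := ndS (p := 3057) (l := 0) rfl N3057 D13558
theorem N5148 : nd 5148 = n13559 := ndS (p := 3057) (l := 2) rfl N3057 D13559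
theorem N5149 : nd 5149 = n13560 := ndS (p := 3057) (l := 5) rfl N3057 D13560
theorem N5150 : nd 5150 = n13561 := ndS (p := 3058) (l := 1) rfl N3058 D13561
theorem N5151 : nd 5151 = n13562 := ndS (p := 3059) (l := 1) rfl N3059 D13562
theorem N5152 : nd 5152 = n13563 := ndS (p := 3059) (l := 2) rfl N3059 D13563
theorem N5153 : nd 5153 = n13564 := ndS (p := 3059) (l := 5) rfl N3059 D13564
theorem N5154 : nd 5154 = n13565 := ndS (p := 3060) (l := 3) rfl N3060 D13565
theorem N5155 : nd 5155 = n13566 := ndS (p := 3060) (l := 5) rfl N3060 D13566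
theorem N5156 : nd 5156 = n13567 := ndS (p := 3061) (l := 6) rfl N3061 D13567
theorem N5157 : nd 5157 = n13570 := ndS (p := 3062) (l := 5) rfl N3062 D13570
theorem N5158 : nd 5158 = n13572 := ndS (p := 3063) (l := 1) rfl N3063 D13572
theorem N5159 : nd 5159 = n13573 := ndS (p := 3063) (l := 3) rfl N3063 D13573
theorem N5160 : nd 5160 = n13574 := ndS (p := 3063) (l := 5) rfl N3063 D13574
theorem N5161 : nd 5161 = n13575 := ndS (p := 3064) (l := 1) rfl N3064 D13575
theorem N5162 : nd 5162 = n13577 := ndS (p := 3065) (l := 4) rfl N3065 D13577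
theorem N5163 : nd 5163 = n13578 := ndS (p := 3065) (l := 5) rfl N3065 D13578
theorem N5164 : nd 5164 = n13579 := ndS (p := 3066) (l := 1) rfl N3066 D13579
theorem N5165 : nd 5165 = n13580 := ndS (p := 3066) (l := 6) rfl N3066 D13580
theorem N5166 : nd 5166 = n13581 := ndS (p := 3067) (l := 0) rfl N3067 D13581
theorem N5167 : nd 5167 = n13582 := ndS (p := 3067) (l := 2) rfl N3067 D13582
theorem N5168 : nd 5168 = n13583 := ndS (p := 3067) (l := 6) rfl N3067 D13583
theorem N5169 : nd 5169 = n13584 := ndS (p := 3068) (l := 1) rfl N3068 D13584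
theorem N5170 : nd 5170 = n13585 := ndS (p := 3069) (l := 1) rfl N3069 D13585
theorem N5171 : nd 5171 = n13586 := ndS (p := 3069) (l := 2) rfl N3069 D13586
theorem N5172 : nd 5172 = n13587 := ndS (p := 3069) (l := 6) rfl N3069 D13587
theorem N5173 : nd 5173 = n13588 := ndS (p := 3070) (l := 3) rfl N3070 D13588
theorem N5174 : nd 5174 = n13589 := ndS (p := 3070) (l := 6) rfl N3070 D13589
theorem N5175 : nd 5175 = n13590 := ndS (p := 3071) (l := 5) rfl N3071 D13590
theorem N5176 : nd 5176 = n13591 := ndS (p := 3072) (l := 0) rfl N3072 D13591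
theorem N5177 : nd 5177 = n13594 := ndS (p := 3072) (l := 6) rfl N3072 D13594
theorem N5178 : nd 5178 = n13595 := ndS (p := 3073) (l := 4) rfl N3073 D13595
theorem N5179 : nd 5179 = n13596 := ndS (p := 3074) (l := 1) rfl N3074 D13596
theorem N5180 : nd 5180 = n13597 := ndS (p := 3074) (l := 4) rfl N3074 D13597
theorem N5181 : nd 5181 = n13598 := ndS (p := 3074) (l := 6) rfl N3074 D13598
theorem N5182 : nd 5182 = n13599 := ndS (p := 3075) (l := 6) rfl N3075 D13599
theorem N5183 : nd 5183 = n13600 := ndS (p := 3076) (l := 1) rfl N3076 D13600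
theorem N5184 : nd 5184 = n13601 := ndS (p := 3077) (l := 0) rfl N3077 D13601
theorem N5185 : nd 5185 = n13602 := ndS (p := 3077) (l := 5) rfl N3077 D13602
theorem N5186 : nd 5186 = n13603 := ndS (p := 3078) (l := 4) rfl N3078 D13603
theorem N5187 : nd 5187 = n13604 := ndS (p := 3079) (l := 0) rfl N3079 D13604
theorem N5188 : nd 5188 = n13606 := ndS (p := 3079) (l := 5) rfl N3079 D13606
theorem N5189 : nd 5189 = n13608 := ndS (p := 3080) (l := 4) rfl N3080 D13608
theorem N5190 : nd 5190 = n13609 := ndS (p := 3081) (l := 1) rfl N3081 D13609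
theorem N5191 : nd 5191 = n13610 := ndS (p := 3081) (l := 4) rfl N3081 D13610
theorem N5192 : nd 5192 = n13611 := ndS (p := 3081) (l := 5) rfl N3081 D13611
theorem N5193 : nd 5193 = n13612 := ndS (p := 3082) (l := 5) rfl N3082 D13612
theorem N5194 : nd 5194 = n13613 := ndS (p := 3083) (l := 1) rfl N3083 D13613
theorem N5195 : nd 5195 = n13614 := ndS (p := 3084) (l := 0) rfl N3084 D13614
theorem N5196 : nd 5196 = n13615 := ndS (p := 3084) (l := 6) rfl N3084 D13615
theorem N5197 : nd 5197 = n13616 := ndS (p := 3085) (l := 4) rfl N3085 D13616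
theorem N5198 : nd 5198 = n13617 := ndS (p := 3086) (l := 2) rfl N3086 D13617
theorem N5199 : nd 5199 = n13620 := ndS (p := 3088) (l := 1) rfl N3088 D13620
theorem N5200 : nd 5200 = n13626 := ndS (p := 3090) (l := 6) rfl N3090 D13626
theorem N5201 : nd 5201 = n13627 := ndS (p := 3091) (l := 4) rfl N3091 D13627
theorem N5202 : nd 5202 = n13628 := ndS (p := 3091) (l := 6) rfl N3091 D13628
theorem N5203 : nd 5203 = n13631 := ndS (p := 3093) (l := 1) rfl N3093 D13631
theorem N5204 : nd 5204 = n13632 := ndS (p := 3094) (l := 1) rfl N3094 D13632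
theorem N5205 : nd 5205 = n13633 := ndS (p := 3094) (l := 4) rfl N3094 D13633
theorem N5206 : nd 5206 = n13634 := ndS (p := 3096) (l := 2) rfl N3096 D13634
theorem N5207 : nd 5207 = n13637 := ndS (p := 3098) (l := 1) rfl N3098 D13637
theorem N5208 : nd 5208 = n13642 := ndS (p := 3100) (l := 5) rfl N3100 D13642
theorem N5209 : nd 5209 = n13644 := ndS (p := 3101) (l := 4) rfl N3101 D13644
theorem N5210 : nd 5210 = n13645 := ndS (p := 3101) (l := 5) rfl N3101 D13645
theorem N5211 : nd 5211 = n13648 := ndS (p := 3103) (l := 1) rfl N3103 D13648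
theorem N5212 : nd 5212 = n13649 := ndS (p := 3104) (l := 1) rfl N3104 D13649
theorem N5213 : nd 5213 = n13650 := ndS (p := 3104) (l := 4) rfl N3104 D13650
theorem N5214 : nd 5214 = n13653 := ndS (p := 3106) (l := 3) rfl N3106 D13653
theorem N5215 : nd 5215 = n13654 := ndS (p := 3106) (l := 5) rfl N3106 D13654
theorem N5216 : nd 5216 = n13655 := ndS (p := 3106) (l := 6) rfl N3106 D13655
theorem N5217 : nd 5217 = n13656 := ndS (p := 3107) (l := 5) rfl N3107 D13656
theorem N5218 : nd 5218 = n13657 := ndS (p := 3107) (l := 6) rfl N3107 D13657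
theorem N5219 : nd 5219 = n13658 := ndS (p := 3108) (l := 1) rfl N3108 D13658
theorem N5220 : nd 5220 = n13659 := ndS (p := 3108) (l := 6) rfl N3108 D13659
theorem N5221 : nd 5221 = n13660 := ndS (p := 3109) (l := 1) rfl N3109 D13660
theorem N5222 : nd 5222 = n13661 := ndS (p := 3109) (l := 5) rfl N3109 D13661
theorem N5223 : nd 5223 = n13662 := ndS (p := 3110) (l := 1) rfl N3110 D13662
theorem N5224 : nd 5224 = n13663 := ndS (p := 3111) (l := 1) rfl N3111 D13663
theorem N5225 : nd 5225 = n13664 := ndS (p := 3112) (l := 0) rfl N3112 D13664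
theorem N5226 : nd 5226 = n13665 := ndS (p := 3112) (l := 2) rfl N3112 D13665
theorem N5227 : nd 5227 = n13666 := ndS (p := 3112) (l := 6) rfl N3112 D13666
theorem N5228 : nd 5228 = n13667 := ndS (p := 3113) (l := 0) rfl N3113 D13667
theorem N5229 : nd 5229 = n13668 := ndS (p := 3113) (l := 2) rfl N3113 D13668
theorem N5230 : nd 5230 = n13669 := ndS (p := 3113) (l := 5) rfl N3113 D13669
theorem N5231 : nd 5231 = n13670 := ndS (p := 3114) (l := 1) rfl N3114 D13670
theorem N5232 : nd 5232 = n13671 := ndS (p := 3115) (l := 1) rfl N3115 D13671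
theorem N5233 : nd 5233 = n13672 := ndS (p := 3116) (l := 0) rfl N3116 D13672
theorem N5234 : nd 5234 = n13673 := ndS (p := 3116) (l := 2) rfl N3116 D13673
theorem N5235 : nd 5235 = n13674 := ndS (p := 3116) (l := 6) rfl N3116 D13674
theorem N5236 : nd 5236 = n13675 := ndS (p := 3117) (l := 1) rfl N3117 D13675
theorem N5237 : nd 5237 = n13676 := ndS (p := 3118) (l := 0) rfl N3118 D13676
theorem N5238 : nd 5238 = n13677 := ndS (p := 3118) (l := 2) rfl N3118 D13677
theorem N5239 : nd 5239 = n13678 := ndS (p := 3118) (l := 5) rfl N3118 D13678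
theorem N5240 : nd 5240 = n13679 := ndS (p := 3119) (l := 1) rfl N3119 D13679
theorem N5241 : nd 5241 = n13680 := ndS (p := 3120) (l := 1) rfl N3120 D13680
theorem N5242 : nd 5242 = n13681 := ndS (p := 3120) (l := 2) rfl N3120 D13681
theorem N5243 : nd 5243 = n13682 := ndS (p := 3121) (l := 3) rfl N3121 D13682
theorem N5244 : nd 5244 = n13683 := ndS (p := 3121) (l := 6) rfl N3121 D13683
theorem N5245 : nd 5245 = n13684 := ndS (p := 3122) (l := 1) rfl N3122 D13684
theorem N5246 : nd 5246 = n13685 := ndS (p := 3123) (l := 0) rfl N3123 D13685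
theorem N5247 : nd 5247 = n13686 := ndS (p := 3123) (l := 2) rfl N3123 D13686
theorem N5248 : nd 5248 = n13687 := ndS (p := 3123) (l := 5) rfl N3123 D13687
theorem N5249 : nd 5249 = n13688 := ndS (p := 3124) (l := 1) rfl N3124 D13688
theorem N5250 : nd 5250 = n13689 := ndS (p := 3124) (l := 2) rfl N3124 D13689
theorem N5251 : nd 5251 = n13690 := ndS (p := 3125) (l := 3) rfl N3125 D13690
theorem N5252 : nd 5252 = n13691 := ndS (p := 3125) (l := 5) rfl N3125 D13691
theorem N5253 : nd 5253 = n13692 := ndS (p := 3126) (l := 1) rfl N3126 D13692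
theorem N5254 : nd 5254 = n13693 := ndS (p := 3127) (l := 0) rfl N3127 D13693
theorem N5255 : nd 5255 = n13694 := ndS (p := 3127) (l := 2) rfl N3127 D13694
theorem N5256 : nd 5256 = n13695 := ndS (p := 3127) (l := 6) rfl N3127 D13695
theorem N5257 : nd 5257 = n13696 := ndS (p := 3128) (l := 1) rfl N3128 D13696
theorem N5258 : nd 5258 = n13697 := ndS (p := 3128) (l := 6) rfl N3128 D13697
theorem N5259 : nd 5259 = n13698 := ndS (p := 3129) (l := 6) rfl N3129 D13698
theorem N5260 : nd 5260 = n13699 := ndS (p := 3130) (l := 1) rfl N3130 D13699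
theorem N5261 : nd 5261 = n13700 := ndS (p := 3130) (l := 5) rfl N3130 D13700
theorem N5262 : nd 5262 = n13701 := ndS (p := 3131) (l := 0) rfl N3131 D13701
theorem N5263 : nd 5263 = n13702 := ndS (p := 3131) (l := 2) rfl N3131 D13702
theorem N5264 : nd 5264 = n13703 := ndS (p := 3131) (l := 5) rfl N3131 D13703
theorem N5265 : nd 5265 = n13704 := ndS (p := 3132) (l := 1) rfl N3132 D13704
theorem N5266 : nd 5266 = n13705 := ndS (p := 3132) (l := 5) rfl N3132 D13705
theorem N5267 : nd 5267 = n13706 := ndS (p := 3133) (l := 5) rfl N3133 D13706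
theorem N5268 : nd 5268 = n13707 := ndS (p := 3134) (l := 1) rfl N3134 D13707
theorem N5269 : nd 5269 = n13708 := ndS (p := 3134) (l := 6) rfl N3134 D13708
theorem N5270 : nd 5270 = n13709 := ndS (p := 3135) (l := 0) rfl N3135 D13709
theorem N5271 : nd 5271 = n13710 := ndS (p := 3135) (l := 2) rfl N3135 D13710
theorem N5272 : nd 5272 = n13711 := ndS (p := 3135) (l := 6) rfl N3135 D13711
theorem N5273 : nd 5273 = n13712 := ndS (p := 3136) (l := 0) rfl N3136 D13712
theorem N5274 : nd 5274 = n13713 := ndS (p := 3136) (l := 2) rfl N3136 D13713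
theorem N5275 : nd 5275 = n13714 := ndS (p := 3136) (l := 5) rfl N3136 D13714
theorem N5276 : nd 5276 = n13715 := ndS (p := 3136) (l := 6) rfl N3136 D13715
theorem N5277 : nd 5277 = n13716 := ndS (p := 3137) (l := 1) rfl N3137 D13716
theorem N5278 : nd 5278 = n13717 := ndS (p := 3137) (l := 3) rfl N3137 D13717
theorem N5279 : nd 5279 = n13718 := ndS (p := 3137) (l := 6) rfl N3137 D13718
theorem N5280 : nd 5280 = n13719 := ndS (p := 3138) (l := 1) rfl N3138 D13719
theorem N5281 : nd 5281 = n13720 := ndS (p := 3139) (l := 4) rfl N3139 D13720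
theorem N5282 : nd 5282 = n13721 := ndS (p := 3139) (l := 6) rfl N3139 D13721
theorem N5283 : nd 5283 = n13722 := ndS (p := 3140) (l := 1) rfl N3140 D13722
theorem N5284 : nd 5284 = n13723 := ndS (p := 3140) (l := 5) rfl N3140 D13723
theorem N5285 : nd 5285 = n13724 := ndS (p := 3141) (l := 0) rfl N3141 D13724
theorem N5286 : nd 5286 = n13725 := ndS (p := 3141) (l := 2) rfl N3141 D13725
theorem N5287 : nd 5287 = n13726 := ndS (p := 3141) (l := 5) rfl N3141 D13726
theorem N5288 : nd 5288 = n13727 := ndS (p := 3142) (l := 1) rfl N3142 D13727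
theorem N5289 : nd 5289 = n13728 := ndS (p := 3143) (l := 1) rfl N3143 D13728
theorem N5290 : nd 5290 = n13729 := ndS (p := 3143) (l := 2) rfl N3143 D13729
theorem N5291 : nd 5291 = n13730 := ndS (p := 3143) (l := 5) rfl N3143 D13730
theorem N5292 : nd 5292 = n13731 := ndS (p := 3144) (l := 3) rfl N3144 D13731
theorem N5293 : nd 5293 = n13732 := ndS (p := 3144) (l := 5) rfl N3144 D13732
theorem N5294 : nd 5294 = n13733 := ndS (p := 3145) (l := 6) rfl N3145 D13733
theorem N5295 : nd 5295 = n13734 := ndS (p := 3146) (l := 0) rfl N3146 D13734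
theorem N5296 : nd 5296 = n13735 := ndS (p := 3146) (l := 2) rfl N3146 D13735
theorem N5297 : nd 5297 = n13736 := ndS (p := 3146) (l := 5) rfl N3146 D13736
theorem N5298 : nd 5298 = n13737 := ndS (p := 3146) (l := 6) rfl N3146 D13737
theorem N5299 : nd 5299 = n13738 := ndS (p := 3147) (l := 1) rfl N3147 D13738
theorem N5300 : nd 5300 = n13739 := ndS (p := 3147) (l := 3) rfl N3147 D13739
theorem N5301 : nd 5301 = n13740 := ndS (p := 3147) (l := 5) rfl N3147 D13740
theorem N5302 : nd 5302 = n13741 := ndS (p := 3148) (l := 1) rfl N3148 D13741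
theorem N5303 : nd 5303 = n13742 := ndS (p := 3149) (l := 4) rfl N3149 D13742
theorem N5304 : nd 5304 = n13743 := ndS (p := 3149) (l := 5) rfl N3149 D13743
theorem N5305 : nd 5305 = n13744 := ndS (p := 3150) (l := 1) rfl N3150 D13744
theorem N5306 : nd 5306 = n13745 := ndS (p := 3150) (l := 6) rfl N3150 D13745
theorem N5307 : nd 5307 = n13746 := ndS (p := 3151) (l := 0) rfl N3151 D13746
theorem N5308 : nd 5308 = n13747 := ndS (p := 3151) (l := 2) rfl N3151 D13747
theorem N5309 : nd 5309 = n13748 := ndS (p := 3151) (l := 6) rfl N3151 D13748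
theorem N5310 : nd 5310 = n13749 := ndS (p := 3152) (l := 1) rfl N3152 D13749
theorem N5311 : nd 5311 = n13750 := ndS (p := 3153) (l := 1) rfl N3153 D13750
theorem N5312 : nd 5312 = n13751 := ndS (p := 3153) (l := 2) rfl N3153 D13751
theorem N5313 : nd 5313 = n13752 := ndS (p := 3153) (l := 6) rfl N3153 D13752
theorem N5314 : nd 5314 = n13753 := ndS (p := 3154) (l := 3) rfl N3154 D13753
theorem N5315 : nd 5315 = n13754 := ndS (p := 3154) (l := 6) rfl N3154 D13754
theorem N5316 : nd 5316 = n13755 := ndS (p := 3155) (l := 5) rfl N3155 D13755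
theorem N5317 : nd 5317 = n13756 := ndS (p := 3156) (l := 1) rfl N3156 D13756
theorem N5318 : nd 5318 = n13757 := ndS (p := 3156) (l := 3) rfl N3156 D13757
theorem N5319 : nd 5319 = n13758 := ndS (p := 3157) (l := 0) rfl N3157 D13758
theorem N5320 : nd 5320 = n13759 := ndS (p := 3157) (l := 3) rfl N3157 D13759
theorem N5321 : nd 5321 = n13760 := ndS (p := 3157) (l := 5) rfl N3157 D13760
theorem N5322 : nd 5322 = n13761 := ndS (p := 3157) (l := 6) rfl N3157 D13761
theorem N5323 : nd 5323 = n13762 := ndS (p := 3158) (l := 4) rfl N3158 D13762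
theorem N5324 : nd 5324 = n13763 := ndS (p := 3159) (l := 6) rfl N3159 D13763
theorem N5325 : nd 5325 = n13764 := ndS (p := 3160) (l := 1) rfl N3160 D13764
theorem N5326 : nd 5326 = n13765 := ndS (p := 3160) (l := 5) rfl N3160 D13765
theorem N5327 : nd 5327 = n13766 := ndS (p := 3161) (l := 0) rfl N3161 D13766
theorem N5328 : nd 5328 = n13767 := ndS (p := 3161) (l := 2) rfl N3161 D13767
theorem N5329 : nd 5329 = n13768 := ndS (p := 3161) (l := 5) rfl N3161 D13768
theorem N5330 : nd 5330 = n13769 := ndS (p := 3162) (l := 1) rfl N3162 D13769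
theorem N5331 : nd 5331 = n13770 := ndS (p := 3163) (l := 2) rfl N3163 D13770
theorem N5332 : nd 5332 = n13771 := ndS (p := 3164) (l := 3) rfl N3164 D13771
theorem N5333 : nd 5333 = n13772 := ndS (p := 3165) (l := 1) rfl N3165 D13772
theorem N5334 : nd 5334 = n13773 := ndS (p := 3165) (l := 3) rfl N3165 D13773
theorem N5335 : nd 5335 = n13774 := ndS (p := 3166) (l := 2) rfl N3166 D13774
theorem N5336 : nd 5336 = n13775 := ndS (p := 3166) (l := 4) rfl N3166 D13775
theorem N5337 : nd 5337 = n13776 := ndS (p := 3167) (l := 1) rfl N3167 D13776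
theorem N5338 : nd 5338 = n13777 := ndS (p := 3167) (l := 3) rfl N3167 D13777
theorem N5339 : nd 5339 = n13778 := ndS (p := 3168) (l := 0) rfl N3168 D13778
theorem N5340 : nd 5340 = n13779 := ndS (p := 3168) (l := 3) rfl N3168 D13779
theorem N5341 : nd 5341 = n13780 := ndS (p := 3168) (l := 5) rfl N3168 D13780
theorem N5342 : nd 5342 = n13781 := ndS (p := 3168) (l := 6) rfl N3168 D13781
theorem N5343 : nd 5343 = n13782 := ndS (p := 3169) (l := 4) rfl N3169 D13782
theorem N5344 : nd 5344 = n13783 := ndS (p := 3170) (l := 5) rfl N3170 D13783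
theorem N5345 : nd 5345 = n13784 := ndS (p := 3171) (l := 1) rfl N3171 D13784
theorem N5346 : nd 5346 = n13785 := ndS (p := 3171) (l := 6) rfl N3171 D13785
theorem N5347 : nd 5347 = n13786 := ndS (p := 3172) (l := 0) rfl N3172 D13786
theorem N5348 : nd 5348 = n13787 := ndS (p := 3172) (l := 2) rfl N3172 D13787
theorem N5349 : nd 5349 = n13788 := ndS (p := 3172) (l := 6) rfl N3172 D13788
theorem N5350 : nd 5350 = n13789 := ndS (p := 3173) (l := 1) rfl N3173 D13789
theorem N5351 : nd 5351 = n13790 := ndS (p := 3174) (l := 2) rfl N3174 D13790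
theorem N5352 : nd 5352 = n13791 := ndS (p := 3175) (l := 3) rfl N3175 D13791
theorem N5353 : nd 5353 = n13792 := ndS (p := 3176) (l := 1) rfl N3176 D13792
theorem N5354 : nd 5354 = n13793 := ndS (p := 3176) (l := 3) rfl N3176 D13793
theorem N5355 : nd 5355 = n13794 := ndS (p := 3177) (l := 2) rfl N3177 D13794
theorem N5356 : nd 5356 = n13795 := ndS (p := 3177) (l := 4) rfl N3177 D13795
theorem N5357 : nd 5357 = n13796 := ndS (p := 3178) (l := 0) rfl N3178 D13796
theorem N5358 : nd 5358 = n13797 := ndS (p := 3178) (l := 3) rfl N3178 D13797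
theorem N5359 : nd 5359 = n13799 := ndS (p := 3178) (l := 6) rfl N3178 D13799
theorem N5360 : nd 5360 = n13800 := ndS (p := 3179) (l := 4) rfl N3179 D13800
theorem N5361 : nd 5361 = n13801 := ndS (p := 3180) (l := 1) rfl N3180 D13801
theorem N5362 : nd 5362 = n13802 := ndS (p := 3180) (l := 3) rfl N3180 D13802
theorem N5363 : nd 5363 = n13803 := ndS (p := 3181) (l := 2) rfl N3181 D13803
theorem N5364 : nd 5364 = n13805 := ndS (p := 3182) (l := 2) rfl N3182 D13805
theorem N5365 : nd 5365 = n13807 := ndS (p := 3183) (l := 1) rfl N3183 D13807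
theorem N5366 : nd 5366 = n13808 := ndS (p := 3183) (l := 3) rfl N3183 D13808
theorem N5367 : nd 5367 = n13810 := ndS (p := 3184) (l := 0) rfl N3184 D13810
theorem N5368 : nd 5368 = n13811 := ndS (p := 3184) (l := 3) rfl N3184 D13811
theorem N5369 : nd 5369 = n13812 := ndS (p := 3184) (l := 5) rfl N3184 D13812
theorem N5370 : nd 5370 = n13814 := ndS (p := 3185) (l := 4) rfl N3185 D13814
theorem N5371 : nd 5371 = n13815 := ndS (p := 3186) (l := 1) rfl N3186 D13815
theorem N5372 : nd 5372 = n13816 := ndS (p := 3186) (l := 3) rfl N3186 D13816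
theorem N5373 : nd 5373 = n13817 := ndS (p := 3187) (l := 2) rfl N3187 D13817
theorem N5374 : nd 5374 = n13819 := ndS (p := 3188) (l := 2) rfl N3188 D13819
theorem N5375 : nd 5375 = n13821 := ndS (p := 3189) (l := 1) rfl N3189 D13821
theorem N5376 : nd 5376 = n13822 := ndS (p := 3189) (l := 3) rfl N3189 D13822
theorem N5377 : nd 5377 = n13838 := ndS (p := 3192) (l := 1) rfl N3192 D13838
theorem N5378 : nd 5378 = n13839 := ndS (p := 3193) (l := 1) rfl N3193 D13839
theorem N5379 : nd 5379 = n13840 := ndS (p := 3194) (l := 0) rfl N3194 D13840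
theorem N5380 : nd 5380 = n13841 := ndS (p := 3194) (l := 2) rfl N3194 D13841
theorem N5381 : nd 5381 = n13842 := ndS (p := 3194) (l := 6) rfl N3194 D13842
theorem N5382 : nd 5382 = n13843 := ndS (p := 3195) (l := 1) rfl N3195 D13843
theorem N5383 : nd 5383 = n13844 := ndS (p := 3196) (l := 0) rfl N3196 D13844
theorem N5384 : nd 5384 = n13845 := ndS (p := 3196) (l := 2) rfl N3196 D13845
theorem N5385 : nd 5385 = n13846 := ndS (p := 3196) (l := 5) rfl N3196 D13846
theorem N5386 : nd 5386 = n13847 := ndS (p := 3197) (l := 1) rfl N3197 D13847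
theorem N5387 : nd 5387 = n13848 := ndS (p := 3198) (l := 1) rfl N3198 D13848
theorem N5388 : nd 5388 = n13849 := ndS (p := 3198) (l := 2) rfl N3198 D13849
theorem N5389 : nd 5389 = n13850 := ndS (p := 3198) (l := 6) rfl N3198 D13850
theorem N5390 : nd 5390 = n13852 := ndS (p := 3199) (l := 6) rfl N3199 D13852
theorem N5391 : nd 5391 = n13853 := ndS (p := 3200) (l := 5) rfl N3200 D13853
theorem N5392 : nd 5392 = n13854 := ndS (p := 3201) (l := 1) rfl N3201 D13854
theorem N5393 : nd 5393 = n13855 := ndS (p := 3201) (l := 2) rfl N3201 D13855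
theorem N5394 : nd 5394 = n13856 := ndS (p := 3201) (l := 5) rfl N3201 D13856
theorem N5395 : nd 5395 = n13858 := ndS (p := 3202) (l := 5) rfl N3202 D13858
theorem N5396 : nd 5396 = n13859 := ndS (p := 3203) (l := 6) rfl N3203 D13859
theorem N5397 : nd 5397 = n13860 := ndS (p := 3204) (l := 0) rfl N3204 D13860
theorem N5398 : nd 5398 = n13861 := ndS (p := 3204) (l := 2) rfl N3204 D13861
theorem N5399 : nd 5399 = n13862 := ndS (p := 3204) (l := 5) rfl N3204 D13862
theorem N5400 : nd 5400 = n13863 := ndS (p := 3204) (l := 6) rfl N3204 D13863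
theorem N5401 : nd 5401 = n13866 := ndS (p := 3206) (l := 4) rfl N3206 D13866
theorem N5402 : nd 5402 = n13867 := ndS (p := 3206) (l := 6) rfl N3206 D13867
theorem N5403 : nd 5403 = n13868 := ndS (p := 3207) (l := 1) rfl N3207 D13868
theorem N5404 : nd 5404 = n13869 := ndS (p := 3208) (l := 0) rfl N3208 D13869
theorem N5405 : nd 5405 = n13870 := ndS (p := 3208) (l := 2) rfl N3208 D13870
theorem N5406 : nd 5406 = n13871 := ndS (p := 3208) (l := 5) rfl N3208 D13871
theorem N5407 : nd 5407 = n13872 := ndS (p := 3209) (l := 1) rfl N3209 D13872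
theorem N5408 : nd 5408 = n13873 := ndS (p := 3209) (l := 2) rfl N3209 D13873
theorem N5409 : nd 5409 = n13874 := ndS (p := 3209) (l := 5) rfl N3209 D13874
theorem N5410 : nd 5410 = n13875 := ndS (p := 3210) (l := 3) rfl N3210 D13875
theorem N5411 : nd 5411 = n13876 := ndS (p := 3210) (l := 5) rfl N3210 D13876
theorem N5412 : nd 5412 = n13877 := ndS (p := 3211) (l := 6) rfl N3211 D13877
theorem N5413 : nd 5413 = n13878 := ndS (p := 3212) (l := 0) rfl N3212 D13878
theorem N5414 : nd 5414 = n13879 := ndS (p := 3212) (l := 2) rfl N3212 D13879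
theorem N5415 : nd 5415 = n13880 := ndS (p := 3212) (l := 5) rfl N3212 D13880
theorem N5416 : nd 5416 = n13881 := ndS (p := 3212) (l := 6) rfl N3212 D13881
theorem N5417 : nd 5417 = n13884 := ndS (p := 3214) (l := 4) rfl N3214 D13884
theorem N5418 : nd 5418 = n13885 := ndS (p := 3214) (l := 5) rfl N3214 D13885
theorem N5419 : nd 5419 = n13886 := ndS (p := 3215) (l := 1) rfl N3215 D13886
theorem N5420 : nd 5420 = n13887 := ndS (p := 3216) (l := 0) rfl N3216 D13887
theorem N5421 : nd 5421 = n13888 := ndS (p := 3216) (l := 2) rfl N3216 D13888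
theorem N5422 : nd 5422 = n13889 := ndS (p := 3216) (l := 6) rfl N3216 D13889
theorem N5423 : nd 5423 = n13890 := ndS (p := 3217) (l := 1) rfl N3217 D13890
theorem N5424 : nd 5424 = n13891 := ndS (p := 3217) (l := 2) rfl N3217 D13891
theorem N5425 : nd 5425 = n13892 := ndS (p := 3217) (l := 6) rfl N3217 D13892
theorem N5426 : nd 5426 = n13893 := ndS (p := 3218) (l := 3) rfl N3218 D13893
theorem N5427 : nd 5427 = n13894 := ndS (p := 3218) (l := 6) rfl N3218 D13894
theorem N5428 : nd 5428 = n13895 := ndS (p := 3219) (l := 5) rfl N3219 D13895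
theorem N5429 : nd 5429 = n13896 := ndS (p := 3220) (l := 2) rfl N3220 D13896
theorem N5430 : nd 5430 = n13897 := ndS (p := 3220) (l := 5) rfl N3220 D13897
theorem N5431 : nd 5431 = n13898 := ndS (p := 3220) (l := 6) rfl N3220 D13898
theorem N5432 : nd 5432 = n13899 := ndS (p := 3221) (l := 1) rfl N3221 D13899
theorem N5433 : nd 5433 = n13900 := ndS (p := 3221) (l := 3) rfl N3221 D13900
theorem N5434 : nd 5434 = n13901 := ndS (p := 3221) (l := 5) rfl N3221 D13901
theorem N5435 : nd 5435 = n13902 := ndS (p := 3221) (l := 6) rfl N3221 D13902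
theorem N5436 : nd 5436 = n13903 := ndS (p := 3222) (l := 6) rfl N3222 D13903
theorem N5437 : nd 5437 = n13904 := ndS (p := 3223) (l := 1) rfl N3223 D13904
theorem N5438 : nd 5438 = n13905 := ndS (p := 3223) (l := 5) rfl N3223 D13905
theorem N5439 : nd 5439 = n13907 := ndS (p := 3224) (l := 3) rfl N3224 D13907
theorem N5440 : nd 5440 = n13908 := ndS (p := 3224) (l := 5) rfl N3224 D13908
theorem N5441 : nd 5441 = n13909 := ndS (p := 3224) (l := 6) rfl N3224 D13909
theorem N5442 : nd 5442 = n13910 := ndS (p := 3225) (l := 4) rfl N3225 D13910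
theorem N5443 : nd 5443 = n13911 := ndS (p := 3225) (l := 6) rfl N3225 D13911
theorem N5444 : nd 5444 = n13912 := ndS (p := 3226) (l := 1) rfl N3226 D13912
theorem N5445 : nd 5445 = n13913 := ndS (p := 3227) (l := 0) rfl N3227 D13913
theorem N5446 : nd 5446 = n13914 := ndS (p := 3227) (l := 2) rfl N3227 D13914
theorem N5447 : nd 5447 = n13915 := ndS (p := 3227) (l := 5) rfl N3227 D13915
theorem N5448 : nd 5448 = n13916 := ndS (p := 3228) (l := 6) rfl N3228 D13916
theorem N5449 : nd 5449 = n13917 := ndS (p := 3229) (l := 1) rfl N3229 D13917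
theorem N5450 : nd 5450 = n13918 := ndS (p := 3229) (l := 5) rfl N3229 D13918
theorem N5451 : nd 5451 = n13919 := ndS (p := 3230) (l := 0) rfl N3230 D13919
theorem N5452 : nd 5452 = n13920 := ndS (p := 3230) (l := 2) rfl N3230 D13920
theorem N5453 : nd 5453 = n13921 := ndS (p := 3230) (l := 5) rfl N3230 D13921
theorem N5454 : nd 5454 = n13922 := ndS (p := 3231) (l := 1) rfl N3231 D13922
theorem N5455 : nd 5455 = n13923 := ndS (p := 3232) (l := 1) rfl N3232 D13923
theorem N5456 : nd 5456 = n13924 := ndS (p := 3232) (l := 2) rfl N3232 D13924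
theorem N5457 : nd 5457 = n13925 := ndS (p := 3233) (l := 3) rfl N3233 D13925
theorem N5458 : nd 5458 = n13926 := ndS (p := 3233) (l := 5) rfl N3233 D13926
theorem N5459 : nd 5459 = n13927 := ndS (p := 3234) (l := 1) rfl N3234 D13927
theorem N5460 : nd 5460 = n13928 := ndS (p := 3235) (l := 0) rfl N3235 D13928
theorem N5461 : nd 5461 = n13929 := ndS (p := 3235) (l := 2) rfl N3235 D13929
theorem N5462 : nd 5462 = n13930 := ndS (p := 3235) (l := 6) rfl N3235 D13930
theorem N5463 : nd 5463 = n13931 := ndS (p := 3236) (l := 0) rfl N3236 D13931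
theorem N5464 : nd 5464 = n13932 := ndS (p := 3236) (l := 2) rfl N3236 D13932
theorem N5465 : nd 5465 = n13933 := ndS (p := 3236) (l := 5) rfl N3236 D13933
theorem N5466 : nd 5466 = n13934 := ndS (p := 3236) (l := 6) rfl N3236 D13934
theorem N5467 : nd 5467 = n13935 := ndS (p := 3237) (l := 1) rfl N3237 D13935
theorem N5468 : nd 5468 = n13936 := ndS (p := 3237) (l := 3) rfl N3237 D13936
theorem N5469 : nd 5469 = n13937 := ndS (p := 3237) (l := 5) rfl N3237 D13937
theorem N5470 : nd 5470 = n13938 := ndS (p := 3238) (l := 1) rfl N3238 D13938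
theorem N5471 : nd 5471 = n13940 := ndS (p := 3239) (l := 4) rfl N3239 D13940
theorem N5472 : nd 5472 = n13943 := ndS (p := 3241) (l := 1) rfl N3241 D13943
theorem N5473 : nd 5473 = n13944 := ndS (p := 3242) (l := 2) rfl N3242 D13944
theorem N5474 : nd 5474 = n13945 := ndS (p := 3242) (l := 5) rfl N3242 D13945
theorem N5475 : nd 5475 = n13946 := ndS (p := 3242) (l := 6) rfl N3242 D13946
theorem N5476 : nd 5476 = n13947 := ndS (p := 3243) (l := 1) rfl N3243 D13947
theorem N5477 : nd 5477 = n13948 := ndS (p := 3243) (l := 3) rfl N3243 D13948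
theorem N5478 : nd 5478 = n13949 := ndS (p := 3243) (l := 5) rfl N3243 D13949
theorem N5479 : nd 5479 = n13950 := ndS (p := 3243) (l := 6) rfl N3243 D13950
theorem N5480 : nd 5480 = n13951 := ndS (p := 3244) (l := 1) rfl N3244 D13951
theorem N5481 : nd 5481 = n13952 := ndS (p := 3244) (l := 6) rfl N3244 D13952
theorem N5482 : nd 5482 = n13953 := ndS (p := 3245) (l := 5) rfl N3245 D13953
theorem N5483 : nd 5483 = n13955 := ndS (p := 3246) (l := 3) rfl N3246 D13955
theorem N5484 : nd 5484 = n13956 := ndS (p := 3246) (l := 5) rfl N3246 D13956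
theorem N5485 : nd 5485 = n13957 := ndS (p := 3246) (l := 6) rfl N3246 D13957
theorem N5486 : nd 5486 = n13958 := ndS (p := 3247) (l := 4) rfl N3247 D13958
theorem N5487 : nd 5487 = n13959 := ndS (p := 3247) (l := 5) rfl N3247 D13959
theorem N5488 : nd 5488 = n13960 := ndS (p := 3248) (l := 1) rfl N3248 D13960
theorem N5489 : nd 5489 = n13961 := ndS (p := 3249) (l := 0) rfl N3249 D13961
theorem N5490 : nd 5490 = n13962 := ndS (p := 3249) (l := 2) rfl N3249 D13962
theorem N5491 : nd 5491 = n13963 := ndS (p := 3249) (l := 6) rfl N3249 D13963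
theorem N5492 : nd 5492 = n13964 := ndS (p := 3250) (l := 5) rfl N3250 D13964
theorem N5493 : nd 5493 = n13965 := ndS (p := 3251) (l := 1) rfl N3251 D13965
theorem N5494 : nd 5494 = n13966 := ndS (p := 3251) (l := 6) rfl N3251 D13966
theorem N5495 : nd 5495 = n13967 := ndS (p := 3252) (l := 0) rfl N3252 D13967
theorem N5496 : nd 5496 = n13968 := ndS (p := 3252) (l := 2) rfl N3252 D13968
theorem N5497 : nd 5497 = n13969 := ndS (p := 3252) (l := 6) rfl N3252 D13969
theorem N5498 : nd 5498 = n13970 := ndS (p := 3253) (l := 1) rfl N3253 D13970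
theorem N5499 : nd 5499 = n13971 := ndS (p := 3254) (l := 1) rfl N3254 D13971
theorem N5500 : nd 5500 = n13975 := ndS (p := 3256) (l := 1) rfl N3256 D13975
theorem N5501 : nd 5501 = n13976 := ndS (p := 3257) (l := 0) rfl N3257 D13976
theorem N5502 : nd 5502 = n13977 := ndS (p := 3257) (l := 2) rfl N3257 D13977
theorem N5503 : nd 5503 = n13978 := ndS (p := 3257) (l := 5) rfl N3257 D13978
theorem N5504 : nd 5504 = n13979 := ndS (p := 3258) (l := 0) rfl N3258 D13979
theorem N5505 : nd 5505 = n13980 := ndS (p := 3258) (l := 2) rfl N3258 D13980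
theorem N5506 : nd 5506 = n13981 := ndS (p := 3258) (l := 5) rfl N3258 D13981
theorem N5507 : nd 5507 = n13982 := ndS (p := 3258) (l := 6) rfl N3258 D13982
theorem N5508 : nd 5508 = n13983 := ndS (p := 3259) (l := 1) rfl N3259 D13983
theorem N5509 : nd 5509 = n13985 := ndS (p := 3259) (l := 6) rfl N3259 D13985
theorem N5510 : nd 5510 = n13986 := ndS (p := 3260) (l := 1) rfl N3260 D13986
theorem N5511 : nd 5511 = n13988 := ndS (p := 3261) (l := 4) rfl N3261 D13988
theorem N5512 : nd 5512 = n13991 := ndS (p := 3263) (l := 1) rfl N3263 D13991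
theorem N5513 : nd 5513 = n13992 := ndS (p := 3264) (l := 0) rfl N3264 D13992
theorem N5514 : nd 5514 = n13993 := ndS (p := 3264) (l := 3) rfl N3264 D13993
theorem N5515 : nd 5515 = n13994 := ndS (p := 3264) (l := 5) rfl N3264 D13994
theorem N5516 : nd 5516 = n13995 := ndS (p := 3264) (l := 6) rfl N3264 D13995
theorem N5517 : nd 5517 = n13996 := ndS (p := 3265) (l := 4) rfl N3265 D13996
theorem N5518 : nd 5518 = n13997 := ndS (p := 3266) (l := 3) rfl N3266 D13997
theorem N5519 : nd 5519 = n13998 := ndS (p := 3266) (l := 5) rfl N3266 D13998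
theorem N5520 : nd 5520 = n13999 := ndS (p := 3266) (l := 6) rfl N3266 D13999
theorem N5521 : nd 5521 = n14001 := ndS (p := 3267) (l := 4) rfl N3267 D14001
theorem N5522 : nd 5522 = n14003 := ndS (p := 3267) (l := 6) rfl N3267 D14003
theorem N5523 : nd 5523 = n14004 := ndS (p := 3268) (l := 6) rfl N3268 D14004
theorem N5524 : nd 5524 = n14005 := ndS (p := 3269) (l := 5) rfl N3269 D14005
theorem N5525 : nd 5525 = n14007 := ndS (p := 3271) (l := 4) rfl N3271 D14007
theorem N5526 : nd 5526 = n14008 := ndS (p := 3271) (l := 5) rfl N3271 D14008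
theorem N5527 : nd 5527 = n14009 := ndS (p := 3271) (l := 6) rfl N3271 D14009
theorem N5528 : nd 5528 = n14010 := ndS (p := 3272) (l := 3) rfl N3272 D14010
theorem N5529 : nd 5529 = n14011 := ndS (p := 3272) (l := 6) rfl N3272 D14011
theorem N5530 : nd 5530 = n14012 := ndS (p := 3273) (l := 1) rfl N3273 D14012
theorem N5531 : nd 5531 = n14013 := ndS (p := 3274) (l := 1) rfl N3274 D14013
theorem N5532 : nd 5532 = n14014 := ndS (p := 3274) (l := 5) rfl N3274 D14014
theorem N5533 : nd 5533 = n14015 := ndS (p := 3275) (l := 0) rfl N3275 D14015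
theorem N5534 : nd 5534 = n14016 := ndS (p := 3275) (l := 2) rfl N3275 D14016
theorem N5535 : nd 5535 = n14017 := ndS (p := 3275) (l := 5) rfl N3275 D14017
theorem N5536 : nd 5536 = n14018 := ndS (p := 3276) (l := 1) rfl N3276 D14018
theorem N5537 : nd 5537 = n14019 := ndS (p := 3277) (l := 1) rfl N3277 D14019
theorem N5538 : nd 5538 = n14020 := ndS (p := 3277) (l := 2) rfl N3277 D14020
theorem N5539 : nd 5539 = n14021 := ndS (p := 3277) (l := 5) rfl N3277 D14021
theorem N5540 : nd 5540 = n14022 := ndS (p := 3278) (l := 3) rfl N3278 D14022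
theorem N5541 : nd 5541 = n14023 := ndS (p := 3278) (l := 5) rfl N3278 D14023
theorem N5542 : nd 5542 = n14024 := ndS (p := 3279) (l := 1) rfl N3279 D14024
theorem N5543 : nd 5543 = n14025 := ndS (p := 3279) (l := 6) rfl N3279 D14025
theorem N5544 : nd 5544 = n14026 := ndS (p := 3280) (l := 0) rfl N3280 D14026
theorem N5545 : nd 5545 = n14027 := ndS (p := 3280) (l := 6) rfl N3280 D14027
theorem N5546 : nd 5546 = n14028 := ndS (p := 3281) (l := 1) rfl N3281 D14028
theorem N5547 : nd 5547 = n14029 := ndS (p := 3281) (l := 3) rfl N3281 D14029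
theorem N5548 : nd 5548 = n14030 := ndS (p := 3282) (l := 2) rfl N3282 D14030
theorem N5549 : nd 5549 = n14031 := ndS (p := 3282) (l := 4) rfl N3282 D14031
theorem N5550 : nd 5550 = n14032 := ndS (p := 3283) (l := 0) rfl N3283 D14032
theorem N5551 : nd 5551 = n14033 := ndS (p := 3283) (l := 3) rfl N3283 D14033
theorem N5552 : nd 5552 = n14034 := ndS (p := 3283) (l := 5) rfl N3283 D14034
theorem N5553 : nd 5553 = n14035 := ndS (p := 3283) (l := 6) rfl N3283 D14035
theorem N5554 : nd 5554 = n14036 := ndS (p := 3284) (l := 4) rfl N3284 D14036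
theorem N5555 : nd 5555 = n14037 := ndS (p := 3285) (l := 1) rfl N3285 D14037
theorem N5556 : nd 5556 = n14038 := ndS (p := 3285) (l := 4) rfl N3285 D14038
theorem N5557 : nd 5557 = n14039 := ndS (p := 3287) (l := 0) rfl N3287 D14039
theorem N5558 : nd 5558 = n14040 := ndS (p := 3287) (l := 3) rfl N3287 D14040
theorem N5559 : nd 5559 = n14041 := ndS (p := 3287) (l := 5) rfl N3287 D14041
theorem N5560 : nd 5560 = n14042 := ndS (p := 3287) (l := 6) rfl N3287 D14042
theorem N5561 : nd 5561 = n14043 := ndS (p := 3288) (l := 4) rfl N3288 D14043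
theorem N5562 : nd 5562 = n14044 := ndS (p := 3289) (l := 3) rfl N3289 D14044
theorem N5563 : nd 5563 = n14045 := ndS (p := 3289) (l := 5) rfl N3289 D14045
theorem N5564 : nd 5564 = n14046 := ndS (p := 3289) (l := 6) rfl N3289 D14046
theorem N5565 : nd 5565 = n14048 := ndS (p := 3290) (l := 4) rfl N3290 D14048
theorem N5566 : nd 5566 = n14049 := ndS (p := 3290) (l := 5) rfl N3290 D14049
theorem N5567 : nd 5567 = n14051 := ndS (p := 3291) (l := 6) rfl N3291 D14051
theorem N5568 : nd 5568 = n14052 := ndS (p := 3292) (l := 5) rfl N3292 D14052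
theorem N5569 : nd 5569 = n14054 := ndS (p := 3294) (l := 4) rfl N3294 D14054
theorem N5570 : nd 5570 = n14055 := ndS (p := 3294) (l := 5) rfl N3294 D14055
theorem N5571 : nd 5571 = n14056 := ndS (p := 3294) (l := 6) rfl N3294 D14056
theorem N5572 : nd 5572 = n14057 := ndS (p := 3295) (l := 3) rfl N3295 D14057
theorem N5573 : nd 5573 = n14058 := ndS (p := 3295) (l := 5) rfl N3295 D14058
theorem N5574 : nd 5574 = n14059 := ndS (p := 3296) (l := 1) rfl N3296 D14059
theorem N5575 : nd 5575 = n14060 := ndS (p := 3297) (l := 1) rfl N3297 D14060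
theorem N5576 : nd 5576 = n14061 := ndS (p := 3297) (l := 6) rfl N3297 D14061
theorem N5577 : nd 5577 = n14062 := ndS (p := 3298) (l := 0) rfl N3298 D14062
theorem N5578 : nd 5578 = n14063 := ndS (p := 3298) (l := 2) rfl N3298 D14063
theorem N5579 : nd 5579 = n14064 := ndS (p := 3298) (l := 6) rfl N3298 D14064
theorem N5580 : nd 5580 = n14065 := ndS (p := 3299) (l := 1) rfl N3299 D14065
theorem N5581 : nd 5581 = n14066 := ndS (p := 3300) (l := 1) rfl N3300 D14066
theorem N5582 : nd 5582 = n14067 := ndS (p := 3300) (l := 2) rfl N3300 D14067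
theorem N5583 : nd 5583 = n14068 := ndS (p := 3300) (l := 6) rfl N3300 D14068
theorem N5584 : nd 5584 = n14069 := ndS (p := 3301) (l := 3) rfl N3301 D14069
theorem N5585 : nd 5585 = n14070 := ndS (p := 3301) (l := 6) rfl N3301 D14070
theorem N5586 : nd 5586 = n14071 := ndS (p := 3302) (l := 1) rfl N3302 D14071
theorem N5587 : nd 5587 = n14072 := ndS (p := 3302) (l := 5) rfl N3302 D14072
theorem N5588 : nd 5588 = n14073 := ndS (p := 3303) (l := 0) rfl N3303 D14073
theorem N5589 : nd 5589 = n14074 := ndS (p := 3303) (l := 5) rfl N3303 D14074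
theorem N5590 : nd 5590 = n14075 := ndS (p := 3304) (l := 1) rfl N3304 D14075
theorem N5591 : nd 5591 = n14076 := ndS (p := 3304) (l := 3) rfl N3304 D14076
theorem N5592 : nd 5592 = n14077 := ndS (p := 3305) (l := 2) rfl N3305 D14077
theorem N5593 : nd 5593 = n14078 := ndS (p := 3305) (l := 4) rfl N3305 D14078
theorem N5594 : nd 5594 = n14079 := ndS (p := 3306) (l := 0) rfl N3306 D14079
theorem N5595 : nd 5595 = n14080 := ndS (p := 3306) (l := 3) rfl N3306 D14080
theorem N5596 : nd 5596 = n14081 := ndS (p := 3306) (l := 5) rfl N3306 D14081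
theorem N5597 : nd 5597 = n14082 := ndS (p := 3306) (l := 6) rfl N3306 D14082
theorem N5598 : nd 5598 = n14083 := ndS (p := 3307) (l := 4) rfl N3307 D14083
theorem N5599 : nd 5599 = n14084 := ndS (p := 3308) (l := 1) rfl N3308 D14084
theorem N5600 : nd 5600 = n14085 := ndS (p := 3308) (l := 4) rfl N3308 D14085
theorem N5601 : nd 5601 = n14086 := ndS (p := 3310) (l := 0) rfl N3310 D14086
theorem N5602 : nd 5602 = n14087 := ndS (p := 3310) (l := 4) rfl N3310 D14087
theorem N5603 : nd 5603 = n14089 := ndS (p := 3310) (l := 6) rfl N3310 D14089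
theorem N5604 : nd 5604 = n14090 := ndS (p := 3311) (l := 3) rfl N3311 D14090
theorem N5605 : nd 5605 = n14091 := ndS (p := 3312) (l := 1) rfl N3312 D14091
theorem N5606 : nd 5606 = n14092 := ndS (p := 3312) (l := 3) rfl N3312 D14092
theorem N5607 : nd 5607 = n14093 := ndS (p := 3312) (l := 4) rfl N3312 D14093
theorem N5608 : nd 5608 = n14094 := ndS (p := 3312) (l := 5) rfl N3312 D14094
theorem N5609 : nd 5609 = n14095 := ndS (p := 3312) (l := 6) rfl N3312 D14095
theorem N5610 : nd 5610 = n14097 := ndS (p := 3313) (l := 4) rfl N3313 D14097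
theorem N5611 : nd 5611 = n14099 := ndS (p := 3313) (l := 6) rfl N3313 D14099
theorem N5612 : nd 5612 = n14102 := ndS (p := 3314) (l := 6) rfl N3314 D14102
theorem N5613 : nd 5613 = n14103 := ndS (p := 3315) (l := 6) rfl N3315 D14103
theorem N5614 : nd 5614 = n14104 := ndS (p := 3316) (l := 1) rfl N3316 D14104
theorem N5615 : nd 5615 = n14105 := ndS (p := 3316) (l := 5) rfl N3316 D14105
theorem N5616 : nd 5616 = n14106 := ndS (p := 3317) (l := 3) rfl N3317 D14106
theorem N5617 : nd 5617 = n14107 := ndS (p := 3317) (l := 6) rfl N3317 D14107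
theorem N5618 : nd 5618 = n14108 := ndS (p := 3318) (l := 1) rfl N3318 D14108
theorem N5619 : nd 5619 = n14110 := ndS (p := 3319) (l := 6) rfl N3319 D14110
theorem N5620 : nd 5620 = n14111 := ndS (p := 3320) (l := 1) rfl N3320 D14111
theorem N5621 : nd 5621 = n14112 := ndS (p := 3320) (l := 5) rfl N3320 D14112
theorem N5622 : nd 5622 = n14113 := ndS (p := 3321) (l := 0) rfl N3321 D14113
theorem N5623 : nd 5623 = n14114 := ndS (p := 3321) (l := 2) rfl N3321 D14114
theorem N5624 : nd 5624 = n14115 := ndS (p := 3321) (l := 5) rfl N3321 D14115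
theorem N5625 : nd 5625 = n14116 := ndS (p := 3322) (l := 1) rfl N3322 D14116
theorem N5626 : nd 5626 = n14118 := ndS (p := 3323) (l := 2) rfl N3323 D14118
theorem N5627 : nd 5627 = n14121 := ndS (p := 3325) (l := 2) rfl N3325 D14121
theorem N5628 : nd 5628 = n14122 := ndS (p := 3326) (l := 3) rfl N3326 D14122
theorem N5629 : nd 5629 = n14128 := ndS (p := 3327) (l := 1) rfl N3327 D14128
theorem N5630 : nd 5630 = n14129 := ndS (p := 3327) (l := 3) rfl N3327 D14129
theorem N5631 : nd 5631 = n14134 := ndS (p := 3328) (l := 1) rfl N3328 D14134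
theorem N5632 : nd 5632 = n14136 := ndS (p := 3329) (l := 0) rfl N3329 D14136
theorem N5633 : nd 5633 = n14137 := ndS (p := 3329) (l := 3) rfl N3329 D14137
theorem N5634 : nd 5634 = n14138 := ndS (p := 3329) (l := 4) rfl N3329 D14138
theorem N5635 : nd 5635 = n14139 := ndS (p := 3329) (l := 5) rfl N3329 D14139
theorem N5636 : nd 5636 = n14140 := ndS (p := 3329) (l := 6) rfl N3329 D14140
theorem N5637 : nd 5637 = n14141 := ndS (p := 3330) (l := 4) rfl N3330 D14141
theorem N5638 : nd 5638 = n14143 := ndS (p := 3332) (l := 0) rfl N3332 D14143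
theorem N5639 : nd 5639 = n14144 := ndS (p := 3332) (l := 4) rfl N3332 D14144
theorem N5640 : nd 5640 = n14145 := ndS (p := 3332) (l := 5) rfl N3332 D14145
theorem N5641 : nd 5641 = n14147 := ndS (p := 3333) (l := 3) rfl N3333 D14147
theorem N5642 : nd 5642 = n14148 := ndS (p := 3334) (l := 1) rfl N3334 D14148
theorem N5643 : nd 5643 = n14149 := ndS (p := 3334) (l := 3) rfl N3334 D14149
theorem N5644 : nd 5644 = n14150 := ndS (p := 3334) (l := 4) rfl N3334 D14150
theorem N5645 : nd 5645 = n14151 := ndS (p := 3334) (l := 5) rfl N3334 D14151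
theorem N5646 : nd 5646 = n14152 := ndS (p := 3334) (l := 6) rfl N3334 D14152
theorem N5647 : nd 5647 = n14154 := ndS (p := 3335) (l := 4) rfl N3335 D14154
theorem N5648 : nd 5648 = n14155 := ndS (p := 3335) (l := 5) rfl N3335 D14155
theorem N5649 : nd 5649 = n14162 := ndS (p := 3338) (l := 5) rfl N3338 D14162
theorem N5650 : nd 5650 = n14163 := ndS (p := 3339) (l := 3) rfl N3339 D14163
theorem N5651 : nd 5651 = n14164 := ndS (p := 3339) (l := 5) rfl N3339 D14164
theorem N5652 : nd 5652 = n14165 := ndS (p := 3340) (l := 1) rfl N3340 D14165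
theorem N5653 : nd 5653 = n14167 := ndS (p := 3341) (l := 5) rfl N3341 D14167
theorem N5654 : nd 5654 = n14169 := ndS (p := 3342) (l := 6) rfl N3342 D14169
theorem N5655 : nd 5655 = n14170 := ndS (p := 3343) (l := 0) rfl N3343 D14170
theorem N5656 : nd 5656 = n14171 := ndS (p := 3343) (l := 2) rfl N3343 D14171
theorem N5657 : nd 5657 = n14172 := ndS (p := 3343) (l := 6) rfl N3343 D14172
theorem N5658 : nd 5658 = n14173 := ndS (p := 3344) (l := 1) rfl N3344 D14173
theorem N5659 : nd 5659 = n14175 := ndS (p := 3345) (l := 2) rfl N3345 D14175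
theorem N5660 : nd 5660 = n14178 := ndS (p := 3347) (l := 2) rfl N3347 D14178
theorem N5661 : nd 5661 = n14179 := ndS (p := 3348) (l := 3) rfl N3348 D14179
theorem N5662 : nd 5662 = n14185 := ndS (p := 3349) (l := 1) rfl N3349 D14185
theorem N5663 : nd 5663 = n14186 := ndS (p := 3349) (l := 3) rfl N3349 D14186
theorem N5664 : nd 5664 = n14191 := ndS (p := 3350) (l := 1) rfl N3350 D14191
theorem N5665 : nd 5665 = n14193 := ndS (p := 3351) (l := 0) rfl N3351 D14193
theorem N5666 : nd 5666 = n14194 := ndS (p := 3351) (l := 3) rfl N3351 D14194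
theorem N5667 : nd 5667 = n14195 := ndS (p := 3351) (l := 4) rfl N3351 D14195
theorem N5668 : nd 5668 = n14196 := ndS (p := 3351) (l := 5) rfl N3351 D14196
theorem N5669 : nd 5669 = n14197 := ndS (p := 3351) (l := 6) rfl N3351 D14197
theorem N5670 : nd 5670 = n14198 := ndS (p := 3352) (l := 4) rfl N3352 D14198
theorem N5671 : nd 5671 = n14226 := ndS (p := 3354) (l := 0) rfl N3354 D14226
theorem N5672 : nd 5672 = n14228 := ndS (p := 3354) (l := 4) rfl N3354 D14228
theorem N5673 : nd 5673 = n14230 := ndS (p := 3354) (l := 6) rfl N3354 D14230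
theorem N5674 : nd 5674 = n14232 := ndS (p := 3355) (l := 5) rfl N3355 D14232
theorem N5675 : nd 5675 = n14233 := ndS (p := 3355) (l := 6) rfl N3355 D14233
theorem N5676 : nd 5676 = n14235 := ndS (p := 3357) (l := 1) rfl N3357 D14235
theorem N5677 : nd 5677 = n14238 := ndS (p := 3358) (l := 6) rfl N3358 D14238
theorem N5678 : nd 5678 = n14239 := ndS (p := 3359) (l := 6) rfl N3359 D14239
theorem N5679 : nd 5679 = n14240 := ndS (p := 3360) (l := 1) rfl N3360 D14240
theorem N5680 : nd 5680 = n14242 := ndS (p := 3361) (l := 1) rfl N3361 D14242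
theorem N5681 : nd 5681 = n14243 := ndS (p := 3362) (l := 0) rfl N3362 D14243
theorem N5682 : nd 5682 = n14244 := ndS (p := 3362) (l := 2) rfl N3362 D14244
theorem N5683 : nd 5683 = n14245 := ndS (p := 3362) (l := 5) rfl N3362 D14245
theorem N5684 : nd 5684 = n14247 := ndS (p := 3364) (l := 1) rfl N3364 D14247
theorem N5685 : nd 5685 = n14248 := ndS (p := 3365) (l := 0) rfl N3365 D14248
theorem N5686 : nd 5686 = n14249 := ndS (p := 3365) (l := 2) rfl N3365 D14249
theorem N5687 : nd 5687 = n14250 := ndS (p := 3365) (l := 5) rfl N3365 D14250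
theorem N5688 : nd 5688 = n14251 := ndS (p := 3366) (l := 1) rfl N3366 D14251
theorem N5689 : nd 5689 = n14252 := ndS (p := 3366) (l := 2) rfl N3366 D14252
theorem N5690 : nd 5690 = n14253 := ndS (p := 3366) (l := 5) rfl N3366 D14253
theorem N5691 : nd 5691 = n14254 := ndS (p := 3367) (l := 3) rfl N3367 D14254
theorem N5692 : nd 5692 = n14255 := ndS (p := 3367) (l := 5) rfl N3367 D14255
theorem N5693 : nd 5693 = n14256 := ndS (p := 3368) (l := 6) rfl N3368 D14256
theorem N5694 : nd 5694 = n14259 := ndS (p := 3369) (l := 3) rfl N3369 D14259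
theorem N5695 : nd 5695 = n14261 := ndS (p := 3370) (l := 1) rfl N3370 D14261
theorem N5696 : nd 5696 = n14262 := ndS (p := 3370) (l := 3) rfl N3370 D14262
theorem N5697 : nd 5697 = n14264 := ndS (p := 3371) (l := 2) rfl N3371 D14264
theorem N5698 : nd 5698 = n14265 := ndS (p := 3371) (l := 4) rfl N3371 D14265
theorem N5699 : nd 5699 = n14266 := ndS (p := 3371) (l := 5) rfl N3371 D14266
theorem N5700 : nd 5700 = n14267 := ndS (p := 3372) (l := 1) rfl N3372 D14267
theorem N5701 : nd 5701 = n14268 := ndS (p := 3373) (l := 1) rfl N3373 D14268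
theorem N5702 : nd 5702 = n14269 := ndS (p := 3373) (l := 4) rfl N3373 D14269
theorem N5703 : nd 5703 = n14270 := ndS (p := 3373) (l := 5) rfl N3373 D14270
theorem N5704 : nd 5704 = n14271 := ndS (p := 3373) (l := 6) rfl N3373 D14271
theorem N5705 : nd 5705 = n14272 := ndS (p := 3374) (l := 3) rfl N3374 D14272
theorem N5706 : nd 5706 = n14273 := ndS (p := 3374) (l := 5) rfl N3374 D14273
theorem N5707 : nd 5707 = n14274 := ndS (p := 3374) (l := 6) rfl N3374 D14274
theorem N5708 : nd 5708 = n14275 := ndS (p := 3375) (l := 6) rfl N3375 D14275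
theorem N5709 : nd 5709 = n14276 := ndS (p := 3376) (l := 5) rfl N3376 D14276
theorem N5710 : nd 5710 = n14277 := ndS (p := 3378) (l := 0) rfl N3378 D14277
theorem N5711 : nd 5711 = n14279 := ndS (p := 3378) (l := 4) rfl N3378 D14279
theorem N5712 : nd 5712 = n14280 := ndS (p := 3378) (l := 5) rfl N3378 D14280
theorem N5713 : nd 5713 = n14283 := ndS (p := 3379) (l := 5) rfl N3379 D14283
theorem N5714 : nd 5714 = n14284 := ndS (p := 3379) (l := 6) rfl N3379 D14284
theorem N5715 : nd 5715 = n14285 := ndS (p := 3380) (l := 1) rfl N3380 D14285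
theorem N5716 : nd 5716 = n14288 := ndS (p := 3382) (l := 5) rfl N3382 D14288
theorem N5717 : nd 5717 = n14292 := ndS (p := 3384) (l := 5) rfl N3384 D14292
theorem N5718 : nd 5718 = n14293 := ndS (p := 3385) (l := 0) rfl N3385 D14293
theorem N5719 : nd 5719 = n14297 := ndS (p := 3387) (l := 1) rfl N3387 D14297
theorem N5720 : nd 5720 = n14298 := ndS (p := 3388) (l := 1) rfl N3388 D14298
theorem N5721 : nd 5721 = n14299 := ndS (p := 3389) (l := 0) rfl N3389 D14299
theorem N5722 : nd 5722 = n14301 := ndS (p := 3389) (l := 6) rfl N3389 D14301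
theorem N5723 : nd 5723 = n14302 := ndS (p := 3390) (l := 1) rfl N3390 D14302
theorem N5724 : nd 5724 = n14303 := ndS (p := 3390) (l := 2) rfl N3390 D14303
theorem N5725 : nd 5725 = n14304 := ndS (p := 3390) (l := 6) rfl N3390 D14304
theorem N5726 : nd 5726 = n14305 := ndS (p := 3391) (l := 3) rfl N3391 D14305
theorem N5727 : nd 5727 = n14306 := ndS (p := 3391) (l := 6) rfl N3391 D14306
theorem N5728 : nd 5728 = n14307 := ndS (p := 3392) (l := 5) rfl N3392 D14307
theorem N5729 : nd 5729 = n14310 := ndS (p := 3393) (l := 3) rfl N3393 D14310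
theorem N5730 : nd 5730 = n14312 := ndS (p := 3394) (l := 1) rfl N3394 D14312
theorem N5731 : nd 5731 = n14314 := ndS (p := 3395) (l := 4) rfl N3395 D14314
theorem N5732 : nd 5732 = n14315 := ndS (p := 3395) (l := 6) rfl N3395 D14315
theorem N5733 : nd 5733 = n14316 := ndS (p := 3396) (l := 1) rfl N3396 D14316
theorem N5734 : nd 5734 = n14317 := ndS (p := 3397) (l := 1) rfl N3397 D14317
theorem N5735 : nd 5735 = n14318 := ndS (p := 3397) (l := 4) rfl N3397 D14318
theorem N5736 : nd 5736 = n14319 := ndS (p := 3397) (l := 5) rfl N3397 D14319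
theorem N5737 : nd 5737 = n14320 := ndS (p := 3397) (l := 6) rfl N3397 D14320
theorem N5738 : nd 5738 = n14321 := ndS (p := 3398) (l := 3) rfl N3398 D14321
theorem N5739 : nd 5739 = n14322 := ndS (p := 3398) (l := 5) rfl N3398 D14322
theorem N5740 : nd 5740 = n14323 := ndS (p := 3398) (l := 6) rfl N3398 D14323
theorem N5741 : nd 5741 = n14324 := ndS (p := 3399) (l := 6) rfl N3399 D14324
theorem N5742 : nd 5742 = n14325 := ndS (p := 3400) (l := 5) rfl N3400 D14325
theorem N5743 : nd 5743 = n14328 := ndS (p := 3402) (l := 5) rfl N3402 D14328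
theorem N5744 : nd 5744 = n14329 := ndS (p := 3402) (l := 6) rfl N3402 D14329
theorem N5745 : nd 5745 = n14330 := ndS (p := 3403) (l := 6) rfl N3403 D14330
theorem N5746 : nd 5746 = n14331 := ndS (p := 3404) (l := 5) rfl N3404 D14331
theorem N5747 : nd 5747 = n14332 := ndS (p := 3405) (l := 5) rfl N3405 D14332
theorem N5748 : nd 5748 = n14333 := ndS (p := 3405) (l := 6) rfl N3405 D14333
theorem N5749 : nd 5749 = n14334 := ndS (p := 3406) (l := 1) rfl N3406 D14334
theorem N5750 : nd 5750 = n14335 := ndS (p := 3407) (l := 1) rfl N3407 D14335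
theorem N5751 : nd 5751 = n14336 := ndS (p := 3408) (l := 3) rfl N3408 D14336
theorem N5752 : nd 5752 = n14337 := ndS (p := 3408) (l := 5) rfl N3408 D14337
theorem N5753 : nd 5753 = n14338 := ndS (p := 3408) (l := 6) rfl N3408 D14338
theorem N5754 : nd 5754 = n14339 := ndS (p := 3409) (l := 6) rfl N3409 D14339
theorem N5755 : nd 5755 = n14340 := ndS (p := 3410) (l := 5) rfl N3410 D14340
theorem N5756 : nd 5756 = n14341 := ndS (p := 3411) (l := 1) rfl N3411 D14341
theorem N5757 : nd 5757 = n14342 := ndS (p := 3412) (l := 1) rfl N3412 D14342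
theorem N5758 : nd 5758 = n14343 := ndS (p := 3413) (l := 5) rfl N3413 D14343
theorem N5759 : nd 5759 = n14344 := ndS (p := 3413) (l := 6) rfl N3413 D14344
theorem N5760 : nd 5760 = n14345 := ndS (p := 3414) (l := 1) rfl N3414 D14345
theorem N5761 : nd 5761 = n14346 := ndS (p := 3415) (l := 1) rfl N3415 D14346
theorem N5762 : nd 5762 = n14347 := ndS (p := 3416) (l := 1) rfl N3416 D14347
theorem N5763 : nd 5763 = n14348 := ndS (p := 3416) (l := 6) rfl N3416 D14348
theorem N5764 : nd 5764 = n14349 := ndS (p := 3417) (l := 1) rfl N3417 D14349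
theorem N5765 : nd 5765 = n14350 := ndS (p := 3417) (l := 5) rfl N3417 D14350
theorem N5766 : nd 5766 = n14351 := ndS (p := 3418) (l := 0) rfl N3418 D14351
theorem N5767 : nd 5767 = n14352 := ndS (p := 3418) (l := 6) rfl N3418 D14352
theorem N5768 : nd 5768 = n14353 := ndS (p := 3419) (l := 1) rfl N3419 D14353
theorem N5769 : nd 5769 = n14354 := ndS (p := 3420) (l := 0) rfl N3420 D14354
theorem N5770 : nd 5770 = n14355 := ndS (p := 3420) (l := 5) rfl N3420 D14355
theorem N5771 : nd 5771 = n14356 := ndS (p := 3421) (l := 1) rfl N3421 D14356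
theorem N5772 : nd 5772 = n14357 := ndS (p := 3422) (l := 1) rfl N3422 D14357
theorem N5773 : nd 5773 = n14358 := ndS (p := 3423) (l := 1) rfl N3423 D14358
theorem N5774 : nd 5774 = n14359 := ndS (p := 3424) (l := 0) rfl N3424 D14359
theorem N5775 : nd 5775 = n14360 := ndS (p := 3424) (l := 2) rfl N3424 D14360
theorem N5776 : nd 5776 = n14361 := ndS (p := 3424) (l := 6) rfl N3424 D14361
theorem N5777 : nd 5777 = n14362 := ndS (p := 3425) (l := 0) rfl N3425 D14362
theorem N5778 : nd 5778 = n14363 := ndS (p := 3425) (l := 2) rfl N3425 D14363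
theorem N5779 : nd 5779 = n14364 := ndS (p := 3425) (l := 5) rfl N3425 D14364
theorem N5780 : nd 5780 = n14365 := ndS (p := 3426) (l := 1) rfl N3426 D14365
theorem N5781 : nd 5781 = n14366 := ndS (p := 3426) (l := 6) rfl N3426 D14366
theorem N5782 : nd 5782 = n14367 := ndS (p := 3427) (l := 5) rfl N3427 D14367
theorem N5783 : nd 5783 = n14368 := ndS (p := 3428) (l := 1) rfl N3428 D14368
theorem N5784 : nd 5784 = n14369 := ndS (p := 3428) (l := 5) rfl N3428 D14369
theorem N5785 : nd 5785 = n14370 := ndS (p := 3429) (l := 6) rfl N3429 D14370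
theorem N5786 : nd 5786 = n14371 := ndS (p := 3430) (l := 5) rfl N3430 D14371
theorem N5787 : nd 5787 = n14372 := ndS (p := 3430) (l := 6) rfl N3430 D14372
theorem N5788 : nd 5788 = n14373 := ndS (p := 3431) (l := 1) rfl N3431 D14373
theorem N5789 : nd 5789 = n14374 := ndS (p := 3432) (l := 1) rfl N3432 D14374
theorem N5790 : nd 5790 = n14375 := ndS (p := 3433) (l := 1) rfl N3433 D14375
theorem N5791 : nd 5791 = n14376 := ndS (p := 3433) (l := 3) rfl N3433 D14376
theorem N5792 : nd 5792 = n14377 := ndS (p := 3433) (l := 5) rfl N3433 D14377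
theorem N5793 : nd 5793 = n14378 := ndS (p := 3433) (l := 6) rfl N3433 D14378
theorem N5794 : nd 5794 = n14382 := ndS (p := 3436) (l := 2) rfl N3436 D14382
theorem N5795 : nd 5795 = n14383 := ndS (p := 3436) (l := 6) rfl N3436 D14383
theorem N5796 : nd 5796 = n14385 := ndS (p := 3437) (l := 2) rfl N3437 D14385
theorem N5797 : nd 5797 = n14386 := ndS (p := 3437) (l := 5) rfl N3437 D14386
theorem N5798 : nd 5798 = n14387 := ndS (p := 3438) (l := 2) rfl N3438 D14387
theorem N5799 : nd 5799 = n14388 := ndS (p := 3438) (l := 4) rfl N3438 D14388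
theorem N5800 : nd 5800 = n14389 := ndS (p := 3438) (l := 5) rfl N3438 D14389
theorem N5801 : nd 5801 = n14390 := ndS (p := 3438) (l := 6) rfl N3438 D14390
theorem N5802 : nd 5802 = n14391 := ndS (p := 3439) (l := 5) rfl N3439 D14391
theorem N5803 : nd 5803 = n14392 := ndS (p := 3439) (l := 6) rfl N3439 D14392
theorem N5804 : nd 5804 = n14394 := ndS (p := 3440) (l := 6) rfl N3440 D14394
theorem N5805 : nd 5805 = n14396 := ndS (p := 3441) (l := 5) rfl N3441 D14396
theorem N5806 : nd 5806 = n14397 := ndS (p := 3442) (l := 1) rfl N3442 D14397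
theorem N5807 : nd 5807 = n14398 := ndS (p := 3442) (l := 6) rfl N3442 D14398
theorem N5808 : nd 5808 = n14399 := ndS (p := 3443) (l := 1) rfl N3443 D14399
theorem N5809 : nd 5809 = n14400 := ndS (p := 3443) (l := 5) rfl N3443 D14400
theorem N5810 : nd 5810 = n14403 := ndS (p := 3444) (l := 6) rfl N3444 D14403
theorem N5811 : nd 5811 = n14404 := ndS (p := 3445) (l := 1) rfl N3445 D14404
theorem N5812 : nd 5812 = n14407 := ndS (p := 3446) (l := 5) rfl N3446 D14407
theorem N5813 : nd 5813 = n14408 := ndS (p := 3447) (l := 1) rfl N3447 D14408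
theorem N5814 : nd 5814 = n14410 := ndS (p := 3449) (l := 1) rfl N3449 D14410
theorem N5815 : nd 5815 = n14411 := ndS (p := 3450) (l := 0) rfl N3450 D14411
theorem N5816 : nd 5816 = n14412 := ndS (p := 3450) (l := 2) rfl N3450 D14412
theorem N5817 : nd 5817 = n14413 := ndS (p := 3450) (l := 5) rfl N3450 D14413
theorem N5818 : nd 5818 = n14415 := ndS (p := 3452) (l := 1) rfl N3452 D14415
theorem N5819 : nd 5819 = n14416 := ndS (p := 3453) (l := 0) rfl N3453 D14416
theorem N5820 : nd 5820 = n14417 := ndS (p := 3453) (l := 2) rfl N3453 D14417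
theorem N5821 : nd 5821 = n14418 := ndS (p := 3453) (l := 6) rfl N3453 D14418
theorem N5822 : nd 5822 = n14419 := ndS (p := 3454) (l := 0) rfl N3454 D14419
theorem N5823 : nd 5823 = n14420 := ndS (p := 3454) (l := 2) rfl N3454 D14420
theorem N5824 : nd 5824 = n14421 := ndS (p := 3454) (l := 6) rfl N3454 D14421
theorem N5825 : nd 5825 = n14422 := ndS (p := 3455) (l := 0) rfl N3455 D14422
theorem N5826 : nd 5826 = n14423 := ndS (p := 3455) (l := 2) rfl N3455 D14423
theorem N5827 : nd 5827 = n14424 := ndS (p := 3455) (l := 5) rfl N3455 D14424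
theorem N5828 : nd 5828 = n14425 := ndS (p := 3456) (l := 1) rfl N3456 D14425
theorem N5829 : nd 5829 = n14426 := ndS (p := 3456) (l := 2) rfl N3456 D14426
theorem N5830 : nd 5830 = n14427 := ndS (p := 3456) (l := 6) rfl N3456 D14427
theorem N5831 : nd 5831 = n14429 := ndS (p := 3457) (l := 6) rfl N3457 D14429
theorem N5832 : nd 5832 = n14430 := ndS (p := 3458) (l := 5) rfl N3458 D14430
theorem N5833 : nd 5833 = n14431 := ndS (p := 3459) (l := 1) rfl N3459 D14431
theorem N5834 : nd 5834 = n14432 := ndS (p := 3459) (l := 2) rfl N3459 D14432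
theorem N5835 : nd 5835 = n14433 := ndS (p := 3459) (l := 5) rfl N3459 D14433
theorem N5836 : nd 5836 = n14435 := ndS (p := 3460) (l := 5) rfl N3460 D14435
theorem N5837 : nd 5837 = n14436 := ndS (p := 3461) (l := 6) rfl N3461 D14436
theorem N5838 : nd 5838 = n14439 := ndS (p := 3462) (l := 5) rfl N3462 D14439
theorem N5839 : nd 5839 = n14440 := ndS (p := 3462) (l := 6) rfl N3462 D14440
theorem N5840 : nd 5840 = n14441 := ndS (p := 3463) (l := 1) rfl N3463 D14441
theorem N5841 : nd 5841 = n14442 := ndS (p := 3464) (l := 1) rfl N3464 D14442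
theorem N5842 : nd 5842 = n14445 := ndS (p := 3465) (l := 5) rfl N3465 D14445
theorem N5843 : nd 5843 = n14446 := ndS (p := 3465) (l := 6) rfl N3465 D14446
theorem N5844 : nd 5844 = n14447 := ndS (p := 3466) (l := 1) rfl N3466 D14447
theorem N5845 : nd 5845 = n14448 := ndS (p := 3467) (l := 1) rfl N3467 D14448
theorem N5846 : nd 5846 = n14449 := ndS (p := 3468) (l := 0) rfl N3468 D14449
theorem N5847 : nd 5847 = n14450 := ndS (p := 3468) (l := 2) rfl N3468 D14450
theorem N5848 : nd 5848 = n14451 := ndS (p := 3468) (l := 6) rfl N3468 D14451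
theorem N5849 : nd 5849 = n14452 := ndS (p := 3469) (l := 0) rfl N3469 D14452
theorem N5850 : nd 5850 = n14453 := ndS (p := 3469) (l := 2) rfl N3469 D14453
theorem N5851 : nd 5851 = n14454 := ndS (p := 3469) (l := 5) rfl N3469 D14454
theorem N5852 : nd 5852 = n14455 := ndS (p := 3470) (l := 1) rfl N3470 D14455
theorem N5853 : nd 5853 = n14456 := ndS (p := 3470) (l := 2) rfl N3470 D14456
theorem N5854 : nd 5854 = n14457 := ndS (p := 3471) (l := 3) rfl N3471 D14457
theorem N5855 : nd 5855 = n14458 := ndS (p := 3471) (l := 6) rfl N3471 D14458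
theorem N5856 : nd 5856 = n14459 := ndS (p := 3472) (l := 1) rfl N3472 D14459
theorem N5857 : nd 5857 = n14460 := ndS (p := 3473) (l := 0) rfl N3473 D14460
theorem N5858 : nd 5858 = n14461 := ndS (p := 3473) (l := 2) rfl N3473 D14461
theorem N5859 : nd 5859 = n14462 := ndS (p := 3473) (l := 5) rfl N3473 D14462
theorem N5860 : nd 5860 = n14463 := ndS (p := 3474) (l := 1) rfl N3474 D14463
theorem N5861 : nd 5861 = n14464 := ndS (p := 3474) (l := 2) rfl N3474 D14464
theorem N5862 : nd 5862 = n14465 := ndS (p := 3475) (l := 3) rfl N3475 D14465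
theorem N5863 : nd 5863 = n14466 := ndS (p := 3475) (l := 5) rfl N3475 D14466
theorem N5864 : nd 5864 = n14467 := ndS (p := 3476) (l := 1) rfl N3476 D14467
theorem N5865 : nd 5865 = n14468 := ndS (p := 3477) (l := 0) rfl N3477 D14468
theorem N5866 : nd 5866 = n14469 := ndS (p := 3477) (l := 2) rfl N3477 D14469
theorem N5867 : nd 5867 = n14470 := ndS (p := 3477) (l := 6) rfl N3477 D14470
theorem N5868 : nd 5868 = n14471 := ndS (p := 3478) (l := 6) rfl N3478 D14471
theorem N5869 : nd 5869 = n14472 := ndS (p := 3479) (l := 1) rfl N3479 D14472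
theorem N5870 : nd 5870 = n14475 := ndS (p := 3480) (l := 5) rfl N3480 D14475
theorem N5871 : nd 5871 = n14476 := ndS (p := 3481) (l := 1) rfl N3481 D14476
theorem N5872 : nd 5872 = n14477 := ndS (p := 3482) (l := 1) rfl N3482 D14477
theorem N5873 : nd 5873 = n14478 := ndS (p := 3482) (l := 6) rfl N3482 D14478
theorem N5874 : nd 5874 = n14479 := ndS (p := 3483) (l := 3) rfl N3483 D14479
theorem N5875 : nd 5875 = n14480 := ndS (p := 3483) (l := 6) rfl N3483 D14480
theorem N5876 : nd 5876 = n14481 := ndS (p := 3484) (l := 1) rfl N3484 D14481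
theorem N5877 : nd 5877 = n14482 := ndS (p := 3484) (l := 5) rfl N3484 D14482
theorem N5878 : nd 5878 = n14483 := ndS (p := 3485) (l := 0) rfl N3485 D14483
theorem N5879 : nd 5879 = n14484 := ndS (p := 3485) (l := 2) rfl N3485 D14484
theorem N5880 : nd 5880 = n14485 := ndS (p := 3485) (l := 5) rfl N3485 D14485
theorem N5881 : nd 5881 = n14486 := ndS (p := 3486) (l := 1) rfl N3486 D14486
theorem N5882 : nd 5882 = n14488 := ndS (p := 3486) (l := 5) rfl N3486 D14488
theorem N5883 : nd 5883 = n14489 := ndS (p := 3487) (l := 3) rfl N3487 D14489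
theorem N5884 : nd 5884 = n14490 := ndS (p := 3487) (l := 5) rfl N3487 D14490
theorem N5885 : nd 5885 = n14491 := ndS (p := 3488) (l := 1) rfl N3488 D14491
theorem N5886 : nd 5886 = n14492 := ndS (p := 3488) (l := 6) rfl N3488 D14492
theorem N5887 : nd 5887 = n14493 := ndS (p := 3489) (l := 0) rfl N3489 D14493
theorem N5888 : nd 5888 = n14494 := ndS (p := 3489) (l := 2) rfl N3489 D14494
theorem N5889 : nd 5889 = n14495 := ndS (p := 3489) (l := 6) rfl N3489 D14495
theorem N5890 : nd 5890 = n14496 := ndS (p := 3490) (l := 0) rfl N3490 D14496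
theorem N5891 : nd 5891 = n14497 := ndS (p := 3490) (l := 2) rfl N3490 D14497
theorem N5892 : nd 5892 = n14498 := ndS (p := 3490) (l := 5) rfl N3490 D14498
theorem N5893 : nd 5893 = n14499 := ndS (p := 3490) (l := 6) rfl N3490 D14499
theorem N5894 : nd 5894 = n14500 := ndS (p := 3491) (l := 1) rfl N3491 D14500
theorem N5895 : nd 5895 = n14501 := ndS (p := 3491) (l := 3) rfl N3491 D14501
theorem N5896 : nd 5896 = n14502 := ndS (p := 3491) (l := 6) rfl N3491 D14502
theorem N5897 : nd 5897 = n14503 := ndS (p := 3492) (l := 1) rfl N3492 D14503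
theorem N5898 : nd 5898 = n14504 := ndS (p := 3493) (l := 2) rfl N3493 D14504
theorem N5899 : nd 5899 = n14505 := ndS (p := 3493) (l := 4) rfl N3493 D14505
theorem N5900 : nd 5900 = n14506 := ndS (p := 3493) (l := 6) rfl N3493 D14506
theorem N5901 : nd 5901 = n14507 := ndS (p := 3494) (l := 5) rfl N3494 D14507
theorem N5902 : nd 5902 = n14508 := ndS (p := 3495) (l := 0) rfl N3495 D14508
theorem N5903 : nd 5903 = n14509 := ndS (p := 3495) (l := 2) rfl N3495 D14509
theorem N5904 : nd 5904 = n14510 := ndS (p := 3495) (l := 5) rfl N3495 D14510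
theorem N5905 : nd 5905 = n14511 := ndS (p := 3496) (l := 1) rfl N3496 D14511
theorem N5906 : nd 5906 = n14512 := ndS (p := 3497) (l := 1) rfl N3497 D14512
theorem N5907 : nd 5907 = n14513 := ndS (p := 3497) (l := 2) rfl N3497 D14513
theorem N5908 : nd 5908 = n14514 := ndS (p := 3497) (l := 5) rfl N3497 D14514
theorem N5909 : nd 5909 = n14515 := ndS (p := 3498) (l := 3) rfl N3498 D14515
theorem N5910 : nd 5910 = n14516 := ndS (p := 3498) (l := 5) rfl N3498 D14516
theorem N5911 : nd 5911 = n14517 := ndS (p := 3499) (l := 6) rfl N3499 D14517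
theorem N5912 : nd 5912 = n14518 := ndS (p := 3500) (l := 0) rfl N3500 D14518
theorem N5913 : nd 5913 = n14519 := ndS (p := 3500) (l := 2) rfl N3500 D14519
theorem N5914 : nd 5914 = n14520 := ndS (p := 3500) (l := 5) rfl N3500 D14520
theorem N5915 : nd 5915 = n14521 := ndS (p := 3500) (l := 6) rfl N3500 D14521
theorem N5916 : nd 5916 = n14522 := ndS (p := 3501) (l := 1) rfl N3501 D14522
theorem N5917 : nd 5917 = n14523 := ndS (p := 3501) (l := 3) rfl N3501 D14523
theorem N5918 : nd 5918 = n14524 := ndS (p := 3501) (l := 5) rfl N3501 D14524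
theorem N5919 : nd 5919 = n14525 := ndS (p := 3502) (l := 1) rfl N3502 D14525
theorem N5920 : nd 5920 = n14526 := ndS (p := 3503) (l := 2) rfl N3503 D14526
theorem N5921 : nd 5921 = n14527 := ndS (p := 3503) (l := 4) rfl N3503 D14527
theorem N5922 : nd 5922 = n14528 := ndS (p := 3503) (l := 5) rfl N3503 D14528
theorem N5923 : nd 5923 = n14529 := ndS (p := 3504) (l := 6) rfl N3504 D14529
theorem N5924 : nd 5924 = n14530 := ndS (p := 3505) (l := 0) rfl N3505 D14530
theorem N5925 : nd 5925 = n14531 := ndS (p := 3505) (l := 2) rfl N3505 D14531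
theorem N5926 : nd 5926 = n14532 := ndS (p := 3505) (l := 6) rfl N3505 D14532
theorem N5927 : nd 5927 = n14533 := ndS (p := 3506) (l := 1) rfl N3506 D14533
theorem N5928 : nd 5928 = n14534 := ndS (p := 3507) (l := 1) rfl N3507 D14534
theorem N5929 : nd 5929 = n14535 := ndS (p := 3507) (l := 2) rfl N3507 D14535
theorem N5930 : nd 5930 = n14536 := ndS (p := 3507) (l := 6) rfl N3507 D14536
theorem N5931 : nd 5931 = n14537 := ndS (p := 3508) (l := 3) rfl N3508 D14537
theorem N5932 : nd 5932 = n14538 := ndS (p := 3508) (l := 6) rfl N3508 D14538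
theorem N5933 : nd 5933 = n14539 := ndS (p := 3509) (l := 5) rfl N3509 D14539
theorem N5934 : nd 5934 = n14540 := ndS (p := 3511) (l := 1) rfl N3511 D14540
theorem N5935 : nd 5935 = n14541 := ndS (p := 3511) (l := 3) rfl N3511 D14541
theorem N5936 : nd 5936 = n14542 := ndS (p := 3512) (l := 2) rfl N3512 D14542
theorem N5937 : nd 5937 = n14543 := ndS (p := 3512) (l := 4) rfl N3512 D14543
theorem N5938 : nd 5938 = n14544 := ndS (p := 3514) (l := 1) rfl N3514 D14544
theorem N5939 : nd 5939 = n14545 := ndS (p := 3514) (l := 3) rfl N3514 D14545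
theorem N5940 : nd 5940 = n14546 := ndS (p := 3515) (l := 2) rfl N3515 D14546
theorem N5941 : nd 5941 = n14547 := ndS (p := 3515) (l := 4) rfl N3515 D14547
theorem N5942 : nd 5942 = n14548 := ndS (p := 3516) (l := 2) rfl N3516 D14548
theorem N5943 : nd 5943 = n14550 := ndS (p := 3517) (l := 1) rfl N3517 D14550
theorem N5944 : nd 5944 = n14551 := ndS (p := 3517) (l := 3) rfl N3517 D14551
theorem N5945 : nd 5945 = n14553 := ndS (p := 3518) (l := 2) rfl N3518 D14553
theorem N5946 : nd 5946 = n14555 := ndS (p := 3519) (l := 1) rfl N3519 D14555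
theorem N5947 : nd 5947 = n14556 := ndS (p := 3519) (l := 3) rfl N3519 D14556
theorem N5948 : nd 5948 = n14568 := ndS (p := 3520) (l := 6) rfl N3520 D14568
theorem N5949 : nd 5949 = n14571 := ndS (p := 3521) (l := 5) rfl N3521 D14571
theorem N5950 : nd 5950 = n14573 := ndS (p := 3522) (l := 6) rfl N3522 D14573
theorem N5951 : nd 5951 = n14576 := ndS (p := 3525) (l := 5) rfl N3525 D14576
theorem N5952 : nd 5952 = n14583 := ndS (p := 3529) (l := 6) rfl N3529 D14583
theorem N5953 : nd 5953 = n14584 := ndS (p := 3530) (l := 1) rfl N3530 D14584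
theorem N5954 : nd 5954 = n14585 := ndS (p := 3531) (l := 0) rfl N3531 D14585
theorem N5955 : nd 5955 = n14586 := ndS (p := 3531) (l := 2) rfl N3531 D14586
theorem N5956 : nd 5956 = n14587 := ndS (p := 3531) (l := 5) rfl N3531 D14587
theorem N5957 : nd 5957 = n14591 := ndS (p := 3533) (l := 5) rfl N3533 D14591
theorem N5958 : nd 5958 = n14592 := ndS (p := 3534) (l := 1) rfl N3534 D14592
theorem N5959 : nd 5959 = n14593 := ndS (p := 3535) (l := 0) rfl N3535 D14593
theorem N5960 : nd 5960 = n14594 := ndS (p := 3535) (l := 2) rfl N3535 D14594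
theorem N5961 : nd 5961 = n14595 := ndS (p := 3535) (l := 6) rfl N3535 D14595
theorem N5962 : nd 5962 = n14599 := ndS (p := 3536) (l := 6) rfl N3536 D14599
theorem N5963 : nd 5963 = n14600 := ndS (p := 3537) (l := 1) rfl N3537 D14600
theorem N5964 : nd 5964 = n14601 := ndS (p := 3537) (l := 3) rfl N3537 D14601
theorem N5965 : nd 5965 = n14603 := ndS (p := 3538) (l := 4) rfl N3538 D14603
theorem N5966 : nd 5966 = n14604 := ndS (p := 3538) (l := 6) rfl N3538 D14604
theorem N5967 : nd 5967 = n14605 := ndS (p := 3539) (l := 1) rfl N3539 D14605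
theorem N5968 : nd 5968 = n14606 := ndS (p := 3540) (l := 0) rfl N3540 D14606
theorem N5969 : nd 5969 = n14607 := ndS (p := 3540) (l := 2) rfl N3540 D14607
theorem N5970 : nd 5970 = n14608 := ndS (p := 3540) (l := 5) rfl N3540 D14608
theorem N5971 : nd 5971 = n14609 := ndS (p := 3541) (l := 1) rfl N3541 D14609
theorem N5972 : nd 5972 = n14610 := ndS (p := 3541) (l := 2) rfl N3541 D14610
theorem N5973 : nd 5973 = n14611 := ndS (p := 3541) (l := 5) rfl N3541 D14611
theorem N5974 : nd 5974 = n14612 := ndS (p := 3542) (l := 3) rfl N3542 D14612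
theorem N5975 : nd 5975 = n14613 := ndS (p := 3542) (l := 5) rfl N3542 D14613
theorem N5976 : nd 5976 = n14614 := ndS (p := 3543) (l := 6) rfl N3543 D14614
theorem N5977 : nd 5977 = n14617 := ndS (p := 3544) (l := 5) rfl N3544 D14617
theorem N5978 : nd 5978 = n14619 := ndS (p := 3545) (l := 1) rfl N3545 D14619
theorem N5979 : nd 5979 = n14620 := ndS (p := 3545) (l := 3) rfl N3545 D14620
theorem N5980 : nd 5980 = n14622 := ndS (p := 3546) (l := 4) rfl N3546 D14622
theorem N5981 : nd 5981 = n14623 := ndS (p := 3546) (l := 5) rfl N3546 D14623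
theorem N5982 : nd 5982 = n14624 := ndS (p := 3547) (l := 1) rfl N3547 D14624
theorem N5983 : nd 5983 = n14625 := ndS (p := 3548) (l := 0) rfl N3548 D14625
theorem N5984 : nd 5984 = n14626 := ndS (p := 3548) (l := 2) rfl N3548 D14626
theorem N5985 : nd 5985 = n14627 := ndS (p := 3548) (l := 6) rfl N3548 D14627
theorem N5986 : nd 5986 = n14628 := ndS (p := 3549) (l := 1) rfl N3549 D14628
theorem N5987 : nd 5987 = n14629 := ndS (p := 3549) (l := 2) rfl N3549 D14629
theorem N5988 : nd 5988 = n14630 := ndS (p := 3549) (l := 6) rfl N3549 D14630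
theorem N5989 : nd 5989 = n14631 := ndS (p := 3550) (l := 3) rfl N3550 D14631
theorem N5990 : nd 5990 = n14632 := ndS (p := 3550) (l := 6) rfl N3550 D14632
theorem N5991 : nd 5991 = n14633 := ndS (p := 3551) (l := 5) rfl N3551 D14633
theorem N5992 : nd 5992 = n14636 := ndS (p := 3552) (l := 6) rfl N3552 D14636
theorem N5993 : nd 5993 = n14639 := ndS (p := 3553) (l := 5) rfl N3553 D14639
theorem N5994 : nd 5994 = n14642 := ndS (p := 3554) (l := 6) rfl N3554 D14642
theorem N5995 : nd 5995 = n14644 := ndS (p := 3555) (l := 6) rfl N3555 D14644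
theorem N5996 : nd 5996 = n14648 := ndS (p := 3557) (l := 5) rfl N3557 D14648
theorem N5997 : nd 5997 = n14650 := ndS (p := 3558) (l := 5) rfl N3558 D14650
theorem N5998 : nd 5998 = n14654 := ndS (p := 3560) (l := 6) rfl N3560 D14654
theorem N5999 : nd 5999 = n14656 := ndS (p := 3561) (l := 6) rfl N3561 D14656
theorem N6000 : nd 6000 = n14657 := ndS (p := 3562) (l := 1) rfl N3562 D14657
theorem N6001 : nd 6001 = n14659 := ndS (p := 3563) (l := 0) rfl N3563 D14659
theorem N6002 : nd 6002 = n14660 := ndS (p := 3563) (l := 2) rfl N3563 D14660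
theorem N6003 : nd 6003 = n14661 := ndS (p := 3563) (l := 5) rfl N3563 D14661
theorem N6004 : nd 6004 = n14664 := ndS (p := 3564) (l := 5) rfl N3564 D14664
theorem N6005 : nd 6005 = n14666 := ndS (p := 3565) (l := 5) rfl N3565 D14666
theorem N6006 : nd 6006 = n14667 := ndS (p := 3566) (l := 1) rfl N3566 D14667
theorem N6007 : nd 6007 = n14669 := ndS (p := 3567) (l := 0) rfl N3567 D14669
theorem N6008 : nd 6008 = n14670 := ndS (p := 3567) (l := 2) rfl N3567 D14670
theorem N6009 : nd 6009 = n14671 := ndS (p := 3567) (l := 6) rfl N3567 D14671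
theorem N6010 : nd 6010 = n14678 := ndS (p := 3569) (l := 6) rfl N3569 D14678
theorem N6011 : nd 6011 = n14679 := ndS (p := 3570) (l := 1) rfl N3570 D14679
theorem N6012 : nd 6012 = n14681 := ndS (p := 3571) (l := 4) rfl N3571 D14681
theorem N6013 : nd 6013 = n14682 := ndS (p := 3571) (l := 6) rfl N3571 D14682
theorem N6014 : nd 6014 = n14683 := ndS (p := 3572) (l := 1) rfl N3572 D14683
theorem N6015 : nd 6015 = n14684 := ndS (p := 3572) (l := 5) rfl N3572 D14684
theorem N6016 : nd 6016 = n14685 := ndS (p := 3573) (l := 0) rfl N3573 D14685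
theorem N6017 : nd 6017 = n14686 := ndS (p := 3573) (l := 2) rfl N3573 D14686
theorem N6018 : nd 6018 = n14687 := ndS (p := 3573) (l := 5) rfl N3573 D14687
theorem N6019 : nd 6019 = n14688 := ndS (p := 3574) (l := 1) rfl N3574 D14688
theorem N6020 : nd 6020 = n14689 := ndS (p := 3575) (l := 1) rfl N3575 D14689
theorem N6021 : nd 6021 = n14690 := ndS (p := 3575) (l := 2) rfl N3575 D14690
theorem N6022 : nd 6022 = n14691 := ndS (p := 3575) (l := 5) rfl N3575 D14691
theorem N6023 : nd 6023 = n14692 := ndS (p := 3576) (l := 3) rfl N3576 D14692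
theorem N6024 : nd 6024 = n14693 := ndS (p := 3576) (l := 5) rfl N3576 D14693
theorem N6025 : nd 6025 = n14694 := ndS (p := 3577) (l := 6) rfl N3577 D14694
theorem N6026 : nd 6026 = n14701 := ndS (p := 3579) (l := 5) rfl N3579 D14701
theorem N6027 : nd 6027 = n14702 := ndS (p := 3580) (l := 1) rfl N3580 D14702
theorem N6028 : nd 6028 = n14704 := ndS (p := 3581) (l := 4) rfl N3581 D14704
theorem N6029 : nd 6029 = n14705 := ndS (p := 3581) (l := 5) rfl N3581 D14705
theorem N6030 : nd 6030 = n14706 := ndS (p := 3582) (l := 1) rfl N3582 D14706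
theorem N6031 : nd 6031 = n14707 := ndS (p := 3582) (l := 6) rfl N3582 D14707
theorem N6032 : nd 6032 = n14708 := ndS (p := 3583) (l := 0) rfl N3583 D14708
theorem N6033 : nd 6033 = n14709 := ndS (p := 3583) (l := 2) rfl N3583 D14709
theorem N6034 : nd 6034 = n14710 := ndS (p := 3583) (l := 6) rfl N3583 D14710
theorem N6035 : nd 6035 = n14711 := ndS (p := 3584) (l := 1) rfl N3584 D14711
theorem N6036 : nd 6036 = n14712 := ndS (p := 3585) (l := 1) rfl N3585 D14712
theorem N6037 : nd 6037 = n14713 := ndS (p := 3585) (l := 2) rfl N3585 D14713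
theorem N6038 : nd 6038 = n14714 := ndS (p := 3585) (l := 6) rfl N3585 D14714
theorem N6039 : nd 6039 = n14715 := ndS (p := 3586) (l := 3) rfl N3586 D14715
theorem N6040 : nd 6040 = n14716 := ndS (p := 3586) (l := 6) rfl N3586 D14716
theorem N6041 : nd 6041 = n14717 := ndS (p := 3587) (l := 5) rfl N3587 D14717
theorem N6042 : nd 6042 = n14719 := ndS (p := 3588) (l := 5) rfl N3588 D14719
theorem N6043 : nd 6043 = n14724 := ndS (p := 3589) (l := 6) rfl N3589 D14724
theorem N6044 : nd 6044 = n14725 := ndS (p := 3590) (l := 6) rfl N3590 D14725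
theorem N6045 : nd 6045 = n14726 := ndS (p := 3591) (l := 1) rfl N3591 D14726
theorem N6046 : nd 6046 = n14727 := ndS (p := 3591) (l := 5) rfl N3591 D14727
theorem N6047 : nd 6047 = n14732 := ndS (p := 3593) (l := 2) rfl N3593 D14732
theorem N6048 : nd 6048 = n14733 := ndS (p := 3593) (l := 4) rfl N3593 D14733
theorem N6049 : nd 6049 = n14734 := ndS (p := 3593) (l := 6) rfl N3593 D14734
theorem N6050 : nd 6050 = n14735 := ndS (p := 3594) (l := 1) rfl N3594 D14735
theorem N6051 : nd 6051 = n14736 := ndS (p := 3595) (l := 0) rfl N3595 D14736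
theorem N6052 : nd 6052 = n14737 := ndS (p := 3595) (l := 2) rfl N3595 D14737
theorem N6053 : nd 6053 = n14738 := ndS (p := 3595) (l := 5) rfl N3595 D14738
theorem N6054 : nd 6054 = n14741 := ndS (p := 3596) (l := 4) rfl N3596 D14741
theorem N6055 : nd 6055 = n14742 := ndS (p := 3596) (l := 6) rfl N3596 D14742
theorem N6056 : nd 6056 = n14743 := ndS (p := 3597) (l := 6) rfl N3597 D14743
theorem N6057 : nd 6057 = n14744 := ndS (p := 3598) (l := 5) rfl N3598 D14744
theorem N6058 : nd 6058 = n14745 := ndS (p := 3599) (l := 1) rfl N3599 D14745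
theorem N6059 : nd 6059 = n14746 := ndS (p := 3600) (l := 1) rfl N3600 D14746
theorem N6060 : nd 6060 = n14747 := ndS (p := 3600) (l := 2) rfl N3600 D14747
theorem N6061 : nd 6061 = n14748 := ndS (p := 3601) (l := 3) rfl N3601 D14748
theorem N6062 : nd 6062 = n14749 := ndS (p := 3601) (l := 5) rfl N3601 D14749
theorem N6063 : nd 6063 = n14750 := ndS (p := 3602) (l := 1) rfl N3602 D14750
theorem N6064 : nd 6064 = n14751 := ndS (p := 3603) (l := 0) rfl N3603 D14751
theorem N6065 : nd 6065 = n14752 := ndS (p := 3603) (l := 2) rfl N3603 D14752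
theorem N6066 : nd 6066 = n14753 := ndS (p := 3603) (l := 6) rfl N3603 D14753
theorem N6067 : nd 6067 = n14754 := ndS (p := 3604) (l := 0) rfl N3604 D14754
theorem N6068 : nd 6068 = n14755 := ndS (p := 3604) (l := 2) rfl N3604 D14755
theorem N6069 : nd 6069 = n14756 := ndS (p := 3604) (l := 5) rfl N3604 D14756
theorem N6070 : nd 6070 = n14757 := ndS (p := 3604) (l := 6) rfl N3604 D14757
theorem N6071 : nd 6071 = n14758 := ndS (p := 3605) (l := 1) rfl N3605 D14758
theorem N6072 : nd 6072 = n14759 := ndS (p := 3605) (l := 3) rfl N3605 D14759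
theorem N6073 : nd 6073 = n14760 := ndS (p := 3605) (l := 5) rfl N3605 D14760
theorem N6074 : nd 6074 = n14761 := ndS (p := 3606) (l := 1) rfl N3606 D14761
theorem N6075 : nd 6075 = n14762 := ndS (p := 3607) (l := 2) rfl N3607 D14762
theorem N6076 : nd 6076 = n14763 := ndS (p := 3607) (l := 4) rfl N3607 D14763
theorem N6077 : nd 6077 = n14764 := ndS (p := 3607) (l := 5) rfl N3607 D14764
theorem N6078 : nd 6078 = n14765 := ndS (p := 3608) (l := 6) rfl N3608 D14765
theorem N6079 : nd 6079 = n14766 := ndS (p := 3609) (l := 1) rfl N3609 D14766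
theorem N6080 : nd 6080 = n14769 := ndS (p := 3610) (l := 6) rfl N3610 D14769
theorem N6081 : nd 6081 = n14772 := ndS (p := 3611) (l := 5) rfl N3611 D14772
theorem N6082 : nd 6082 = n14774 := ndS (p := 3612) (l := 1) rfl N3612 D14774
theorem N6083 : nd 6083 = n14775 := ndS (p := 3612) (l := 6) rfl N3612 D14775
theorem N6084 : nd 6084 = n14776 := ndS (p := 3613) (l := 5) rfl N3613 D14776
theorem N6085 : nd 6085 = n14781 := ndS (p := 3615) (l := 2) rfl N3615 D14781
theorem N6086 : nd 6086 = n14782 := ndS (p := 3615) (l := 4) rfl N3615 D14782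
theorem N6087 : nd 6087 = n14783 := ndS (p := 3615) (l := 5) rfl N3615 D14783
theorem N6088 : nd 6088 = n14784 := ndS (p := 3616) (l := 1) rfl N3616 D14784
theorem N6089 : nd 6089 = n14785 := ndS (p := 3617) (l := 0) rfl N3617 D14785
theorem N6090 : nd 6090 = n14786 := ndS (p := 3617) (l := 2) rfl N3617 D14786
theorem N6091 : nd 6091 = n14787 := ndS (p := 3617) (l := 6) rfl N3617 D14787
theorem N6092 : nd 6092 = n14790 := ndS (p := 3618) (l := 4) rfl N3618 D14790
theorem N6093 : nd 6093 = n14791 := ndS (p := 3618) (l := 5) rfl N3618 D14791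
theorem N6094 : nd 6094 = n14792 := ndS (p := 3619) (l := 5) rfl N3619 D14792
theorem N6095 : nd 6095 = n14793 := ndS (p := 3620) (l := 6) rfl N3620 D14793
theorem N6096 : nd 6096 = n14794 := ndS (p := 3621) (l := 1) rfl N3621 D14794
theorem N6097 : nd 6097 = n14795 := ndS (p := 3622) (l := 1) rfl N3622 D14795
theorem N6098 : nd 6098 = n14796 := ndS (p := 3622) (l := 2) rfl N3622 D14796
theorem N6099 : nd 6099 = n14797 := ndS (p := 3623) (l := 3) rfl N3623 D14797
theorem N6100 : nd 6100 = n14798 := ndS (p := 3623) (l := 6) rfl N3623 D14798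
theorem N6101 : nd 6101 = n14799 := ndS (p := 3624) (l := 1) rfl N3624 D14799
theorem N6102 : nd 6102 = n14800 := ndS (p := 3625) (l := 0) rfl N3625 D14800
theorem N6103 : nd 6103 = n14801 := ndS (p := 3625) (l := 2) rfl N3625 D14801
theorem N6104 : nd 6104 = n14802 := ndS (p := 3625) (l := 5) rfl N3625 D14802
theorem N6105 : nd 6105 = n14803 := ndS (p := 3626) (l := 0) rfl N3626 D14803
theorem N6106 : nd 6106 = n14804 := ndS (p := 3626) (l := 2) rfl N3626 D14804
theorem N6107 : nd 6107 = n14805 := ndS (p := 3626) (l := 5) rfl N3626 D14805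
theorem N6108 : nd 6108 = n14806 := ndS (p := 3626) (l := 6) rfl N3626 D14806
theorem N6109 : nd 6109 = n14807 := ndS (p := 3627) (l := 1) rfl N3627 D14807
theorem N6110 : nd 6110 = n14808 := ndS (p := 3627) (l := 3) rfl N3627 D14808
theorem N6111 : nd 6111 = n14809 := ndS (p := 3627) (l := 6) rfl N3627 D14809
theorem N6112 : nd 6112 = n14810 := ndS (p := 3628) (l := 1) rfl N3628 D14810
theorem N6113 : nd 6113 = n14811 := ndS (p := 3629) (l := 2) rfl N3629 D14811
theorem N6114 : nd 6114 = n14812 := ndS (p := 3629) (l := 4) rfl N3629 D14812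
theorem N6115 : nd 6115 = n14813 := ndS (p := 3629) (l := 6) rfl N3629 D14813
theorem N6116 : nd 6116 = n14814 := ndS (p := 3630) (l := 5) rfl N3630 D14814
theorem N6117 : nd 6117 = n14815 := ndS (p := 3631) (l := 1) rfl N3631 D14815
theorem N6118 : nd 6118 = n14817 := ndS (p := 3632) (l := 4) rfl N3632 D14817
theorem N6119 : nd 6119 = n14820 := ndS (p := 3633) (l := 3) rfl N3633 D14820
theorem N6120 : nd 6120 = n14821 := ndS (p := 3634) (l := 0) rfl N3634 D14821
theorem N6121 : nd 6121 = n14822 := ndS (p := 3634) (l := 3) rfl N3634 D14822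
theorem N6122 : nd 6122 = n14823 := ndS (p := 3634) (l := 5) rfl N3634 D14823
theorem N6123 : nd 6123 = n14824 := ndS (p := 3634) (l := 6) rfl N3634 D14824
theorem N6124 : nd 6124 = n14825 := ndS (p := 3635) (l := 4) rfl N3635 D14825
theorem N6125 : nd 6125 = n14826 := ndS (p := 3636) (l := 1) rfl N3636 D14826
theorem N6126 : nd 6126 = n14827 := ndS (p := 3636) (l := 4) rfl N3636 D14827
theorem N6127 : nd 6127 = n14829 := ndS (p := 3638) (l := 4) rfl N3638 D14829
theorem N6128 : nd 6128 = n14832 := ndS (p := 3639) (l := 3) rfl N3639 D14832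
theorem N6129 : nd 6129 = n14833 := ndS (p := 3640) (l := 0) rfl N3640 D14833
theorem N6130 : nd 6130 = n14834 := ndS (p := 3640) (l := 3) rfl N3640 D14834
theorem N6131 : nd 6131 = n14835 := ndS (p := 3640) (l := 5) rfl N3640 D14835
theorem N6132 : nd 6132 = n14836 := ndS (p := 3640) (l := 6) rfl N3640 D14836
theorem N6133 : nd 6133 = n14837 := ndS (p := 3641) (l := 4) rfl N3641 D14837
theorem N6134 : nd 6134 = n14838 := ndS (p := 3642) (l := 1) rfl N3642 D14838
theorem N6135 : nd 6135 = n14839 := ndS (p := 3642) (l := 4) rfl N3642 D14839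
theorem N6136 : nd 6136 = n14841 := ndS (p := 3644) (l := 3) rfl N3644 D14841
theorem N6137 : nd 6137 = n14844 := ndS (p := 3644) (l := 6) rfl N3644 D14844
theorem N6138 : nd 6138 = n14845 := ndS (p := 3645) (l := 2) rfl N3645 D14845
theorem N6139 : nd 6139 = n14846 := ndS (p := 3645) (l := 4) rfl N3645 D14846
theorem N6140 : nd 6140 = n14847 := ndS (p := 3645) (l := 5) rfl N3645 D14847
theorem N6141 : nd 6141 = n14848 := ndS (p := 3645) (l := 6) rfl N3645 D14848
theorem N6142 : nd 6142 = n14852 := ndS (p := 3647) (l := 6) rfl N3647 D14852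
theorem N6143 : nd 6143 = n14854 := ndS (p := 3649) (l := 3) rfl N3649 D14854
theorem N6144 : nd 6144 = n14860 := ndS (p := 3651) (l := 0) rfl N3651 D14860
theorem N6145 : nd 6145 = n14861 := ndS (p := 3651) (l := 3) rfl N3651 D14861
theorem N6146 : nd 6146 = n14863 := ndS (p := 3651) (l := 5) rfl N3651 D14863
theorem N6147 : nd 6147 = n14864 := ndS (p := 3651) (l := 6) rfl N3651 D14864
theorem N6148 : nd 6148 = n14865 := ndS (p := 3652) (l := 4) rfl N3652 D14865
theorem N6149 : nd 6149 = n14868 := ndS (p := 3653) (l := 3) rfl N3653 D14868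
theorem N6150 : nd 6150 = n14870 := ndS (p := 3653) (l := 5) rfl N3653 D14870
theorem N6151 : nd 6151 = n14872 := ndS (p := 3654) (l := 2) rfl N3654 D14872
theorem N6152 : nd 6152 = n14873 := ndS (p := 3654) (l := 4) rfl N3654 D14873
theorem N6153 : nd 6153 = n14874 := ndS (p := 3654) (l := 5) rfl N3654 D14874
theorem N6154 : nd 6154 = n14875 := ndS (p := 3654) (l := 6) rfl N3654 D14875
theorem N6155 : nd 6155 = n14880 := ndS (p := 3657) (l := 5) rfl N3657 D14880
theorem N6156 : nd 6156 = n14881 := ndS (p := 3658) (l := 3) rfl N3658 D14881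
theorem N6157 : nd 6157 = n14887 := ndS (p := 3660) (l := 0) rfl N3660 D14887
theorem N6158 : nd 6158 = n14888 := ndS (p := 3660) (l := 3) rfl N3660 D14888
theorem N6159 : nd 6159 = n14890 := ndS (p := 3660) (l := 5) rfl N3660 D14890
theorem N6160 : nd 6160 = n14891 := ndS (p := 3660) (l := 6) rfl N3660 D14891
theorem N6161 : nd 6161 = n14892 := ndS (p := 3661) (l := 4) rfl N3661 D14892
theorem N6162 : nd 6162 = n14916 := ndS (p := 3662) (l := 1) rfl N3662 D14916
theorem N6163 : nd 6163 = n14917 := ndS (p := 3663) (l := 1) rfl N3663 D14917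
theorem N6164 : nd 6164 = n14918 := ndS (p := 3664) (l := 1) rfl N3664 D14918
theorem N6165 : nd 6165 = n14919 := ndS (p := 3664) (l := 6) rfl N3664 D14919
theorem N6166 : nd 6166 = n14920 := ndS (p := 3665) (l := 1) rfl N3665 D14920
theorem N6167 : nd 6167 = n14921 := ndS (p := 3665) (l := 5) rfl N3665 D14921
theorem N6168 : nd 6168 = n14922 := ndS (p := 3666) (l := 6) rfl N3666 D14922
theorem N6169 : nd 6169 = n14923 := ndS (p := 3667) (l := 1) rfl N3667 D14923
theorem N6170 : nd 6170 = n14926 := ndS (p := 3668) (l := 5) rfl N3668 D14926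
theorem N6171 : nd 6171 = n14927 := ndS (p := 3669) (l := 1) rfl N3669 D14927
theorem N6172 : nd 6172 = n14928 := ndS (p := 3670) (l := 0) rfl N3670 D14928
theorem N6173 : nd 6173 = n14929 := ndS (p := 3670) (l := 5) rfl N3670 D14929
theorem N6174 : nd 6174 = n14930 := ndS (p := 3670) (l := 6) rfl N3670 D14930
theorem N6175 : nd 6175 = n14931 := ndS (p := 3671) (l := 1) rfl N3671 D14931
theorem N6176 : nd 6176 = n14932 := ndS (p := 3672) (l := 1) rfl N3672 D14932
theorem N6177 : nd 6177 = n14933 := ndS (p := 3673) (l := 0) rfl N3673 D14933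
theorem N6178 : nd 6178 = n14934 := ndS (p := 3673) (l := 2) rfl N3673 D14934
theorem N6179 : nd 6179 = n14935 := ndS (p := 3673) (l := 6) rfl N3673 D14935
theorem N6180 : nd 6180 = n14936 := ndS (p := 3674) (l := 0) rfl N3674 D14936
theorem N6181 : nd 6181 = n14937 := ndS (p := 3674) (l := 2) rfl N3674 D14937
theorem N6182 : nd 6182 = n14938 := ndS (p := 3674) (l := 5) rfl N3674 D14938
theorem N6183 : nd 6183 = n14939 := ndS (p := 3675) (l := 1) rfl N3675 D14939
theorem N6184 : nd 6184 = n14940 := ndS (p := 3675) (l := 6) rfl N3675 D14940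
theorem N6185 : nd 6185 = n14941 := ndS (p := 3676) (l := 3) rfl N3676 D14941
theorem N6186 : nd 6186 = n14942 := ndS (p := 3676) (l := 6) rfl N3676 D14942
theorem N6187 : nd 6187 = n14943 := ndS (p := 3678) (l := 1) rfl N3678 D14943
theorem N6188 : nd 6188 = n14945 := ndS (p := 3678) (l := 5) rfl N3678 D14945
theorem N6189 : nd 6189 = n14946 := ndS (p := 3679) (l := 3) rfl N3679 D14946
theorem N6190 : nd 6190 = n14947 := ndS (p := 3679) (l := 5) rfl N3679 D14947
theorem N6191 : nd 6191 = n14949 := ndS (p := 3681) (l := 2) rfl N3681 D14949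
theorem N6192 : nd 6192 = n14950 := ndS (p := 3681) (l := 6) rfl N3681 D14950
theorem N6193 : nd 6193 = n14951 := ndS (p := 3682) (l := 1) rfl N3682 D14951
theorem N6194 : nd 6194 = n14953 := ndS (p := 3683) (l := 2) rfl N3683 D14953
theorem N6195 : nd 6195 = n14954 := ndS (p := 3683) (l := 5) rfl N3683 D14954
theorem N6196 : nd 6196 = n14955 := ndS (p := 3684) (l := 1) rfl N3684 D14955
theorem N6197 : nd 6197 = n14956 := ndS (p := 3685) (l := 1) rfl N3685 D14956
theorem N6198 : nd 6198 = n14957 := ndS (p := 3685) (l := 2) rfl N3685 D14957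
theorem N6199 : nd 6199 = n14958 := ndS (p := 3686) (l := 3) rfl N3686 D14958
theorem N6200 : nd 6200 = n14959 := ndS (p := 3686) (l := 6) rfl N3686 D14959
theorem N6201 : nd 6201 = n14960 := ndS (p := 3687) (l := 1) rfl N3687 D14960
theorem N6202 : nd 6202 = n14961 := ndS (p := 3688) (l := 0) rfl N3688 D14961
theorem N6203 : nd 6203 = n14962 := ndS (p := 3688) (l := 2) rfl N3688 D14962
theorem N6204 : nd 6204 = n14963 := ndS (p := 3688) (l := 5) rfl N3688 D14963
theorem N6205 : nd 6205 = n14964 := ndS (p := 3689) (l := 1) rfl N3689 D14964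
theorem N6206 : nd 6206 = n14965 := ndS (p := 3689) (l := 2) rfl N3689 D14965
theorem N6207 : nd 6207 = n14966 := ndS (p := 3690) (l := 3) rfl N3690 D14966
theorem N6208 : nd 6208 = n14967 := ndS (p := 3690) (l := 5) rfl N3690 D14967
theorem N6209 : nd 6209 = n14968 := ndS (p := 3691) (l := 1) rfl N3691 D14968
theorem N6210 : nd 6210 = n14969 := ndS (p := 3692) (l := 0) rfl N3692 D14969
theorem N6211 : nd 6211 = n14970 := ndS (p := 3692) (l := 2) rfl N3692 D14970
theorem N6212 : nd 6212 = n14971 := ndS (p := 3692) (l := 6) rfl N3692 D14971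
theorem N6213 : nd 6213 = n14972 := ndS (p := 3693) (l := 0) rfl N3693 D14972
theorem N6214 : nd 6214 = n14973 := ndS (p := 3693) (l := 2) rfl N3693 D14973
theorem N6215 : nd 6215 = n14974 := ndS (p := 3693) (l := 5) rfl N3693 D14974
theorem N6216 : nd 6216 = n14975 := ndS (p := 3693) (l := 6) rfl N3693 D14975
theorem N6217 : nd 6217 = n14976 := ndS (p := 3694) (l := 1) rfl N3694 D14976
theorem N6218 : nd 6218 = n14977 := ndS (p := 3694) (l := 3) rfl N3694 D14977
theorem N6219 : nd 6219 = n14978 := ndS (p := 3695) (l := 2) rfl N3695 D14978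
theorem N6220 : nd 6220 = n14979 := ndS (p := 3695) (l := 4) rfl N3695 D14979
theorem N6221 : nd 6221 = n14980 := ndS (p := 3695) (l := 6) rfl N3695 D14980
theorem N6222 : nd 6222 = n14981 := ndS (p := 3696) (l := 1) rfl N3696 D14981
theorem N6223 : nd 6223 = n14982 := ndS (p := 3697) (l := 0) rfl N3697 D14982
theorem N6224 : nd 6224 = n14983 := ndS (p := 3697) (l := 2) rfl N3697 D14983
theorem N6225 : nd 6225 = n14984 := ndS (p := 3697) (l := 5) rfl N3697 D14984
theorem N6226 : nd 6226 = n14985 := ndS (p := 3698) (l := 1) rfl N3698 D14985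
theorem N6227 : nd 6227 = n14986 := ndS (p := 3698) (l := 2) rfl N3698 D14986
theorem N6228 : nd 6228 = n14987 := ndS (p := 3698) (l := 5) rfl N3698 D14987
theorem N6229 : nd 6229 = n14988 := ndS (p := 3699) (l := 3) rfl N3699 D14988
theorem N6230 : nd 6230 = n14989 := ndS (p := 3699) (l := 5) rfl N3699 D14989
theorem N6231 : nd 6231 = n14990 := ndS (p := 3700) (l := 6) rfl N3700 D14990
theorem N6232 : nd 6232 = n14991 := ndS (p := 3701) (l := 0) rfl N3701 D14991
theorem N6233 : nd 6233 = n14992 := ndS (p := 3701) (l := 2) rfl N3701 D14992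
theorem N6234 : nd 6234 = n14993 := ndS (p := 3701) (l := 5) rfl N3701 D14993
theorem N6235 : nd 6235 = n14994 := ndS (p := 3701) (l := 6) rfl N3701 D14994
theorem N6236 : nd 6236 = n14995 := ndS (p := 3702) (l := 1) rfl N3702 D14995
theorem N6237 : nd 6237 = n14996 := ndS (p := 3702) (l := 3) rfl N3702 D14996
theorem N6238 : nd 6238 = n14997 := ndS (p := 3703) (l := 2) rfl N3703 D14997
theorem N6239 : nd 6239 = n14998 := ndS (p := 3703) (l := 4) rfl N3703 D14998
theorem N6240 : nd 6240 = n14999 := ndS (p := 3703) (l := 5) rfl N3703 D14999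
theorem N6241 : nd 6241 = n15000 := ndS (p := 3704) (l := 1) rfl N3704 D15000
theorem N6242 : nd 6242 = n15001 := ndS (p := 3705) (l := 0) rfl N3705 D15001
theorem N6243 : nd 6243 = n15002 := ndS (p := 3705) (l := 2) rfl N3705 D15002
theorem N6244 : nd 6244 = n15003 := ndS (p := 3705) (l := 6) rfl N3705 D15003
theorem N6245 : nd 6245 = n15004 := ndS (p := 3706) (l := 1) rfl N3706 D15004
theorem N6246 : nd 6246 = n15005 := ndS (p := 3706) (l := 2) rfl N3706 D15005
theorem N6247 : nd 6247 = n15006 := ndS (p := 3706) (l := 6) rfl N3706 D15006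
theorem N6248 : nd 6248 = n15007 := ndS (p := 3707) (l := 3) rfl N3707 D15007
theorem N6249 : nd 6249 = n15008 := ndS (p := 3707) (l := 6) rfl N3707 D15008
theorem N6250 : nd 6250 = n15009 := ndS (p := 3708) (l := 5) rfl N3708 D15009
theorem N6251 : nd 6251 = n15010 := ndS (p := 3709) (l := 5) rfl N3709 D15010
theorem N6252 : nd 6252 = n15011 := ndS (p := 3709) (l := 6) rfl N3709 D15011
theorem N6253 : nd 6253 = n15012 := ndS (p := 3710) (l := 1) rfl N3710 D15012
theorem N6254 : nd 6254 = n15013 := ndS (p := 3710) (l := 3) rfl N3710 D15013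
theorem N6255 : nd 6255 = n15014 := ndS (p := 3710) (l := 6) rfl N3710 D15014
theorem N6256 : nd 6256 = n15015 := ndS (p := 3711) (l := 1) rfl N3711 D15015
theorem N6257 : nd 6257 = n15016 := ndS (p := 3712) (l := 2) rfl N3712 D15016
theorem N6258 : nd 6258 = n15017 := ndS (p := 3712) (l := 4) rfl N3712 D15017
theorem N6259 : nd 6259 = n15018 := ndS (p := 3712) (l := 6) rfl N3712 D15018
theorem N6260 : nd 6260 = n15019 := ndS (p := 3713) (l := 1) rfl N3713 D15019
theorem N6261 : nd 6261 = n15020 := ndS (p := 3713) (l := 5) rfl N3713 D15020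
theorem N6262 : nd 6262 = n15021 := ndS (p := 3714) (l := 1) rfl N3714 D15021
theorem N6263 : nd 6263 = n15022 := ndS (p := 3715) (l := 5) rfl N3715 D15022
theorem N6264 : nd 6264 = n15023 := ndS (p := 3715) (l := 6) rfl N3715 D15023
theorem N6265 : nd 6265 = n15024 := ndS (p := 3716) (l := 1) rfl N3716 D15024
theorem N6266 : nd 6266 = n15025 := ndS (p := 3716) (l := 3) rfl N3716 D15025
theorem N6267 : nd 6267 = n15026 := ndS (p := 3716) (l := 5) rfl N3716 D15026
theorem N6268 : nd 6268 = n15027 := ndS (p := 3717) (l := 1) rfl N3717 D15027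
theorem N6269 : nd 6269 = n15028 := ndS (p := 3718) (l := 2) rfl N3718 D15028
theorem N6270 : nd 6270 = n15029 := ndS (p := 3718) (l := 4) rfl N3718 D15029
theorem N6271 : nd 6271 = n15030 := ndS (p := 3718) (l := 5) rfl N3718 D15030
theorem N6272 : nd 6272 = n15031 := ndS (p := 3719) (l := 1) rfl N3719 D15031
theorem N6273 : nd 6273 = n15032 := ndS (p := 3719) (l := 6) rfl N3719 D15032
theorem N6274 : nd 6274 = n15033 := ndS (p := 3720) (l := 1) rfl N3720 D15033
theorem N6275 : nd 6275 = n15034 := ndS (p := 3721) (l := 5) rfl N3721 D15034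
theorem N6276 : nd 6276 = n15035 := ndS (p := 3721) (l := 6) rfl N3721 D15035
theorem N6277 : nd 6277 = n15036 := ndS (p := 3722) (l := 6) rfl N3722 D15036
theorem N6278 : nd 6278 = n15037 := ndS (p := 3723) (l := 1) rfl N3723 D15037
theorem N6279 : nd 6279 = n15038 := ndS (p := 3723) (l := 5) rfl N3723 D15038
theorem N6280 : nd 6280 = n15039 := ndS (p := 3724) (l := 3) rfl N3724 D15039
theorem N6281 : nd 6281 = n15040 := ndS (p := 3724) (l := 5) rfl N3724 D15040
theorem N6282 : nd 6282 = n15041 := ndS (p := 3724) (l := 6) rfl N3724 D15041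
theorem N6283 : nd 6283 = n15042 := ndS (p := 3725) (l := 2) rfl N3725 D15042
theorem N6284 : nd 6284 = n15043 := ndS (p := 3725) (l := 4) rfl N3725 D15043
theorem N6285 : nd 6285 = n15044 := ndS (p := 3725) (l := 6) rfl N3725 D15044
theorem N6286 : nd 6286 = n15045 := ndS (p := 3726) (l := 1) rfl N3726 D15045
theorem N6287 : nd 6287 = n15046 := ndS (p := 3727) (l := 0) rfl N3727 D15046
theorem N6288 : nd 6288 = n15047 := ndS (p := 3727) (l := 2) rfl N3727 D15047
theorem N6289 : nd 6289 = n15048 := ndS (p := 3727) (l := 5) rfl N3727 D15048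
theorem N6290 : nd 6290 = n15049 := ndS (p := 3728) (l := 3) rfl N3728 D15049
theorem N6291 : nd 6291 = n15050 := ndS (p := 3728) (l := 4) rfl N3728 D15050
theorem N6292 : nd 6292 = n15051 := ndS (p := 3728) (l := 6) rfl N3728 D15051
theorem N6293 : nd 6293 = n15052 := ndS (p := 3729) (l := 6) rfl N3729 D15052
theorem N6294 : nd 6294 = n15053 := ndS (p := 3730) (l := 1) rfl N3730 D15053
theorem N6295 : nd 6295 = n15054 := ndS (p := 3730) (l := 5) rfl N3730 D15054
theorem N6296 : nd 6296 = n15055 := ndS (p := 3731) (l := 0) rfl N3731 D15055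
theorem N6297 : nd 6297 = n15056 := ndS (p := 3731) (l := 5) rfl N3731 D15056
theorem N6298 : nd 6298 = n15057 := ndS (p := 3732) (l := 1) rfl N3732 D15057
theorem N6299 : nd 6299 = n15058 := ndS (p := 3733) (l := 0) rfl N3733 D15058
theorem N6300 : nd 6300 = n15059 := ndS (p := 3733) (l := 2) rfl N3733 D15059
theorem N6301 : nd 6301 = n15060 := ndS (p := 3733) (l := 6) rfl N3733 D15060
theorem N6302 : nd 6302 = n15061 := ndS (p := 3734) (l := 5) rfl N3734 D15061
theorem N6303 : nd 6303 = n15062 := ndS (p := 3734) (l := 6) rfl N3734 D15062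
theorem N6304 : nd 6304 = n15063 := ndS (p := 3735) (l := 1) rfl N3735 D15063
theorem N6305 : nd 6305 = n15064 := ndS (p := 3735) (l := 6) rfl N3735 D15064
theorem N6306 : nd 6306 = n15065 := ndS (p := 3736) (l := 5) rfl N3736 D15065
theorem N6307 : nd 6307 = n15066 := ndS (p := 3737) (l := 3) rfl N3737 D15066
theorem N6308 : nd 6308 = n15067 := ndS (p := 3737) (l := 5) rfl N3737 D15067
theorem N6309 : nd 6309 = n15068 := ndS (p := 3737) (l := 6) rfl N3737 D15068
theorem N6310 : nd 6310 = n15069 := ndS (p := 3738) (l := 2) rfl N3738 D15069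
theorem N6311 : nd 6311 = n15070 := ndS (p := 3738) (l := 4) rfl N3738 D15070
theorem N6312 : nd 6312 = n15071 := ndS (p := 3738) (l := 5) rfl N3738 D15071
theorem N6313 : nd 6313 = n15072 := ndS (p := 3739) (l := 1) rfl N3739 D15072
theorem N6314 : nd 6314 = n15073 := ndS (p := 3740) (l := 0) rfl N3740 D15073
theorem N6315 : nd 6315 = n15074 := ndS (p := 3740) (l := 2) rfl N3740 D15074
theorem N6316 : nd 6316 = n15075 := ndS (p := 3740) (l := 6) rfl N3740 D15075
theorem N6317 : nd 6317 = n15076 := ndS (p := 3741) (l := 3) rfl N3741 D15076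
theorem N6318 : nd 6318 = n15077 := ndS (p := 3741) (l := 4) rfl N3741 D15077
theorem N6319 : nd 6319 = n15078 := ndS (p := 3741) (l := 5) rfl N3741 D15078
theorem N6320 : nd 6320 = n15079 := ndS (p := 3742) (l := 5) rfl N3742 D15079
theorem N6321 : nd 6321 = n15080 := ndS (p := 3743) (l := 1) rfl N3743 D15080
theorem N6322 : nd 6322 = n15081 := ndS (p := 3743) (l := 6) rfl N3743 D15081
theorem N6323 : nd 6323 = n15082 := ndS (p := 3744) (l := 0) rfl N3744 D15082
theorem N6324 : nd 6324 = n15083 := ndS (p := 3744) (l := 6) rfl N3744 D15083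
theorem N6325 : nd 6325 = n15084 := ndS (p := 3745) (l := 1) rfl N3745 D15084
theorem N6326 : nd 6326 = n15085 := ndS (p := 3746) (l := 0) rfl N3746 D15085
theorem N6327 : nd 6327 = n15086 := ndS (p := 3746) (l := 2) rfl N3746 D15086
theorem N6328 : nd 6328 = n15087 := ndS (p := 3746) (l := 5) rfl N3746 D15087
theorem N6329 : nd 6329 = n15088 := ndS (p := 3747) (l := 1) rfl N3747 D15088
theorem N6330 : nd 6330 = n15089 := ndS (p := 3747) (l := 3) rfl N3747 D15089
theorem N6331 : nd 6331 = n15090 := ndS (p := 3747) (l := 5) rfl N3747 D15090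
theorem N6332 : nd 6332 = n15091 := ndS (p := 3747) (l := 6) rfl N3747 D15091
theorem N6333 : nd 6333 = n15092 := ndS (p := 3748) (l := 2) rfl N3748 D15092
theorem N6334 : nd 6334 = n15093 := ndS (p := 3748) (l := 4) rfl N3748 D15093
theorem N6335 : nd 6335 = n15094 := ndS (p := 3748) (l := 5) rfl N3748 D15094
theorem N6336 : nd 6336 = n15095 := ndS (p := 3748) (l := 6) rfl N3748 D15095
theorem N6337 : nd 6337 = n15096 := ndS (p := 3749) (l := 6) rfl N3749 D15096
theorem N6338 : nd 6338 = n15097 := ndS (p := 3750) (l := 1) rfl N3750 D15097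
theorem N6339 : nd 6339 = n15098 := ndS (p := 3750) (l := 5) rfl N3750 D15098
theorem N6340 : nd 6340 = n15099 := ndS (p := 3752) (l := 0) rfl N3752 D15099
theorem N6341 : nd 6341 = n15100 := ndS (p := 3752) (l := 5) rfl N3752 D15100
theorem N6342 : nd 6342 = n15101 := ndS (p := 3753) (l := 1) rfl N3753 D15101
theorem N6343 : nd 6343 = n15102 := ndS (p := 3754) (l := 0) rfl N3754 D15102
theorem N6344 : nd 6344 = n15103 := ndS (p := 3754) (l := 2) rfl N3754 D15103
theorem N6345 : nd 6345 = n15104 := ndS (p := 3754) (l := 5) rfl N3754 D15104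
theorem N6346 : nd 6346 = n15105 := ndS (p := 3755) (l := 1) rfl N3755 D15105
theorem N6347 : nd 6347 = n15106 := ndS (p := 3755) (l := 5) rfl N3755 D15106
theorem N6348 : nd 6348 = n15107 := ndS (p := 3756) (l := 6) rfl N3756 D15107
theorem N6349 : nd 6349 = n15108 := ndS (p := 3757) (l := 1) rfl N3757 D15108
theorem N6350 : nd 6350 = n15109 := ndS (p := 3757) (l := 3) rfl N3757 D15109
theorem N6351 : nd 6351 = n15110 := ndS (p := 3757) (l := 5) rfl N3757 D15110
theorem N6352 : nd 6352 = n15111 := ndS (p := 3757) (l := 6) rfl N3757 D15111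
theorem N6353 : nd 6353 = n15112 := ndS (p := 3758) (l := 2) rfl N3758 D15112
theorem N6354 : nd 6354 = n15113 := ndS (p := 3758) (l := 4) rfl N3758 D15113
theorem N6355 : nd 6355 = n15114 := ndS (p := 3758) (l := 5) rfl N3758 D15114
theorem N6356 : nd 6356 = n15115 := ndS (p := 3758) (l := 6) rfl N3758 D15115
theorem N6357 : nd 6357 = n15116 := ndS (p := 3759) (l := 1) rfl N3759 D15116
theorem N6358 : nd 6358 = n15117 := ndS (p := 3759) (l := 6) rfl N3759 D15117
theorem N6359 : nd 6359 = n15118 := ndS (p := 3760) (l := 5) rfl N3760 D15118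
theorem N6360 : nd 6360 = n15119 := ndS (p := 3762) (l := 0) rfl N3762 D15119
theorem N6361 : nd 6361 = n15120 := ndS (p := 3762) (l := 6) rfl N3762 D15120
theorem N6362 : nd 6362 = n15121 := ndS (p := 3763) (l := 1) rfl N3763 D15121
theorem N6363 : nd 6363 = n15122 := ndS (p := 3764) (l := 0) rfl N3764 D15122
theorem N6364 : nd 6364 = n15123 := ndS (p := 3764) (l := 2) rfl N3764 D15123
theorem N6365 : nd 6365 = n15124 := ndS (p := 3764) (l := 6) rfl N3764 D15124
theorem N6366 : nd 6366 = n15125 := ndS (p := 3765) (l := 1) rfl N3765 D15125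
theorem N6367 : nd 6367 = n15126 := ndS (p := 3765) (l := 6) rfl N3765 D15126
theorem N6368 : nd 6368 = n15127 := ndS (p := 3766) (l := 5) rfl N3766 D15127
theorem N6369 : nd 6369 = n15128 := ndS (p := 3767) (l := 1) rfl N3767 D15128
theorem N6370 : nd 6370 = n15129 := ndS (p := 3767) (l := 3) rfl N3767 D15129
theorem N6371 : nd 6371 = n15130 := ndS (p := 3767) (l := 5) rfl N3767 D15130
theorem N6372 : nd 6372 = n15131 := ndS (p := 3767) (l := 6) rfl N3767 D15131
theorem N6373 : nd 6373 = n15132 := ndS (p := 3768) (l := 2) rfl N3768 D15132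
theorem N6374 : nd 6374 = n15133 := ndS (p := 3768) (l := 4) rfl N3768 D15133
theorem N6375 : nd 6375 = n15134 := ndS (p := 3768) (l := 5) rfl N3768 D15134
theorem N6376 : nd 6376 = n15135 := ndS (p := 3768) (l := 6) rfl N3768 D15135
theorem N6377 : nd 6377 = n15136 := ndS (p := 3769) (l := 6) rfl N3769 D15136
theorem N6378 : nd 6378 = n15137 := ndS (p := 3770) (l := 5) rfl N3770 D15137
theorem N6379 : nd 6379 = n15138 := ndS (p := 3772) (l := 1) rfl N3772 D15138
theorem N6380 : nd 6380 = n15139 := ndS (p := 3772) (l := 3) rfl N3772 D15139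
theorem N6381 : nd 6381 = n15140 := ndS (p := 3772) (l := 5) rfl N3772 D15140
theorem N6382 : nd 6382 = n15141 := ndS (p := 3772) (l := 6) rfl N3772 D15141
theorem N6383 : nd 6383 = n15142 := ndS (p := 3773) (l := 2) rfl N3773 D15142
theorem N6384 : nd 6384 = n15143 := ndS (p := 3773) (l := 4) rfl N3773 D15143
theorem N6385 : nd 6385 = n15144 := ndS (p := 3773) (l := 5) rfl N3773 D15144
theorem N6386 : nd 6386 = n15145 := ndS (p := 3773) (l := 6) rfl N3773 D15145
theorem N6387 : nd 6387 = n15146 := ndS (p := 3774) (l := 6) rfl N3774 D15146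
theorem N6388 : nd 6388 = n15147 := ndS (p := 3775) (l := 5) rfl N3775 D15147
theorem N6389 : nd 6389 = n15148 := ndS (p := 3777) (l := 2) rfl N3777 D15148
theorem N6390 : nd 6390 = n15149 := ndS (p := 3777) (l := 6) rfl N3777 D15149
theorem N6391 : nd 6391 = n15150 := ndS (p := 3778) (l := 2) rfl N3778 D15150
theorem N6392 : nd 6392 = n15151 := ndS (p := 3778) (l := 5) rfl N3778 D15151
theorem N6393 : nd 6393 = n15152 := ndS (p := 3779) (l := 0) rfl N3779 D15152
theorem N6394 : nd 6394 = n15153 := ndS (p := 3779) (l := 6) rfl N3779 D15153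
theorem N6395 : nd 6395 = n15154 := ndS (p := 3780) (l := 1) rfl N3780 D15154
theorem N6396 : nd 6396 = n15155 := ndS (p := 3781) (l := 0) rfl N3781 D15155
theorem N6397 : nd 6397 = n15157 := ndS (p := 3781) (l := 5) rfl N3781 D15157
theorem N6398 : nd 6398 = n15158 := ndS (p := 3782) (l := 1) rfl N3782 D15158
theorem N6399 : nd 6399 = n15159 := ndS (p := 3783) (l := 1) rfl N3783 D15159
theorem N6400 : nd 6400 = n15160 := ndS (p := 3784) (l := 2) rfl N3784 D15160
theorem N6401 : nd 6401 = n15164 := ndS (p := 3785) (l := 1) rfl N3785 D15164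
theorem N6402 : nd 6402 = n15165 := ndS (p := 3786) (l := 2) rfl N3786 D15165
theorem N6403 : nd 6403 = n15166 := ndS (p := 3787) (l := 6) rfl N3787 D15166
theorem N6404 : nd 6404 = n15168 := ndS (p := 3790) (l := 5) rfl N3790 D15168
theorem N6405 : nd 6405 = n15177 := ndS (p := 3793) (l := 2) rfl N3793 D15177
theorem N6406 : nd 6406 = n15178 := ndS (p := 3794) (l := 1) rfl N3794 D15178
theorem N6407 : nd 6407 = n15179 := ndS (p := 3794) (l := 3) rfl N3794 D15179
theorem N6408 : nd 6408 = n15180 := ndS (p := 3794) (l := 5) rfl N3794 D15180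
theorem N6409 : nd 6409 = n15181 := ndS (p := 3794) (l := 6) rfl N3794 D15181
theorem N6410 : nd 6410 = n15182 := ndS (p := 3795) (l := 6) rfl N3795 D15182
theorem N6411 : nd 6411 = n15183 := ndS (p := 3796) (l := 5) rfl N3796 D15183
theorem N6412 : nd 6412 = n15184 := ndS (p := 3797) (l := 0) rfl N3797 D15184
theorem N6413 : nd 6413 = n15185 := ndS (p := 3797) (l := 3) rfl N3797 D15185
theorem N6414 : nd 6414 = n15186 := ndS (p := 3797) (l := 5) rfl N3797 D15186
theorem N6415 : nd 6415 = n15187 := ndS (p := 3797) (l := 6) rfl N3797 D15187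
theorem N6416 : nd 6416 = n15188 := ndS (p := 3798) (l := 4) rfl N3798 D15188
theorem N6417 : nd 6417 = n15190 := ndS (p := 3799) (l := 4) rfl N3799 D15190
theorem N6418 : nd 6418 = n15191 := ndS (p := 3799) (l := 6) rfl N3799 D15191
theorem N6419 : nd 6419 = n15192 := ndS (p := 3800) (l := 6) rfl N3800 D15192
theorem N6420 : nd 6420 = n15193 := ndS (p := 3801) (l := 1) rfl N3801 D15193
theorem N6421 : nd 6421 = n15194 := ndS (p := 3802) (l := 0) rfl N3802 D15194
theorem N6422 : nd 6422 = n15195 := ndS (p := 3802) (l := 2) rfl N3802 D15195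
theorem N6423 : nd 6423 = n15196 := ndS (p := 3802) (l := 5) rfl N3802 D15196
theorem N6424 : nd 6424 = n15197 := ndS (p := 3803) (l := 1) rfl N3803 D15197
theorem N6425 : nd 6425 = n15198 := ndS (p := 3803) (l := 2) rfl N3803 D15198
theorem N6426 : nd 6426 = n15199 := ndS (p := 3804) (l := 3) rfl N3804 D15199
theorem N6427 : nd 6427 = n15200 := ndS (p := 3804) (l := 5) rfl N3804 D15200
theorem N6428 : nd 6428 = n15201 := ndS (p := 3806) (l := 2) rfl N3806 D15201
theorem N6429 : nd 6429 = n15202 := ndS (p := 3807) (l := 1) rfl N3807 D15202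
theorem N6430 : nd 6430 = n15203 := ndS (p := 3807) (l := 3) rfl N3807 D15203
theorem N6431 : nd 6431 = n15204 := ndS (p := 3807) (l := 5) rfl N3807 D15204
theorem N6432 : nd 6432 = n15205 := ndS (p := 3809) (l := 2) rfl N3809 D15205
theorem N6433 : nd 6433 = n15206 := ndS (p := 3809) (l := 4) rfl N3809 D15206
theorem N6434 : nd 6434 = n15207 := ndS (p := 3809) (l := 5) rfl N3809 D15207
theorem N6435 : nd 6435 = n15209 := ndS (p := 3810) (l := 6) rfl N3810 D15209
theorem N6436 : nd 6436 = n15210 := ndS (p := 3812) (l := 2) rfl N3812 D15210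
theorem N6437 : nd 6437 = n15211 := ndS (p := 3813) (l := 1) rfl N3813 D15211
theorem N6438 : nd 6438 = n15212 := ndS (p := 3813) (l := 3) rfl N3813 D15212
theorem N6439 : nd 6439 = n15213 := ndS (p := 3813) (l := 5) rfl N3813 D15213
theorem N6440 : nd 6440 = n15214 := ndS (p := 3813) (l := 6) rfl N3813 D15214
theorem N6441 : nd 6441 = n15215 := ndS (p := 3814) (l := 6) rfl N3814 D15215
theorem N6442 : nd 6442 = n15216 := ndS (p := 3815) (l := 5) rfl N3815 D15216
theorem N6443 : nd 6443 = n15217 := ndS (p := 3816) (l := 0) rfl N3816 D15217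
theorem N6444 : nd 6444 = n15218 := ndS (p := 3816) (l := 3) rfl N3816 D15218
theorem N6445 : nd 6445 = n15219 := ndS (p := 3816) (l := 5) rfl N3816 D15219
theorem N6446 : nd 6446 = n15220 := ndS (p := 3816) (l := 6) rfl N3816 D15220
theorem N6447 : nd 6447 = n15221 := ndS (p := 3817) (l := 4) rfl N3817 D15221
theorem N6448 : nd 6448 = n15223 := ndS (p := 3818) (l := 4) rfl N3818 D15223
theorem N6449 : nd 6449 = n15224 := ndS (p := 3818) (l := 5) rfl N3818 D15224
theorem N6450 : nd 6450 = n15225 := ndS (p := 3819) (l := 5) rfl N3819 D15225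
theorem N6451 : nd 6451 = n15226 := ndS (p := 3820) (l := 1) rfl N3820 D15226
theorem N6452 : nd 6452 = n15227 := ndS (p := 3821) (l := 0) rfl N3821 D15227
theorem N6453 : nd 6453 = n15228 := ndS (p := 3821) (l := 2) rfl N3821 D15228
theorem N6454 : nd 6454 = n15229 := ndS (p := 3821) (l := 6) rfl N3821 D15229
theorem N6455 : nd 6455 = n15230 := ndS (p := 3822) (l := 1) rfl N3822 D15230
theorem N6456 : nd 6456 = n15231 := ndS (p := 3822) (l := 2) rfl N3822 D15231
theorem N6457 : nd 6457 = n15232 := ndS (p := 3823) (l := 3) rfl N3823 D15232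
theorem N6458 : nd 6458 = n15233 := ndS (p := 3823) (l := 6) rfl N3823 D15233
theorem N6459 : nd 6459 = n15234 := ndS (p := 3825) (l := 2) rfl N3825 D15234
theorem N6460 : nd 6460 = n15235 := ndS (p := 3826) (l := 1) rfl N3826 D15235
theorem N6461 : nd 6461 = n15236 := ndS (p := 3826) (l := 3) rfl N3826 D15236
theorem N6462 : nd 6462 = n15237 := ndS (p := 3826) (l := 6) rfl N3826 D15237
theorem N6463 : nd 6463 = n15238 := ndS (p := 3828) (l := 2) rfl N3828 D15238
theorem N6464 : nd 6464 = n15239 := ndS (p := 3828) (l := 4) rfl N3828 D15239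
theorem N6465 : nd 6465 = n15240 := ndS (p := 3828) (l := 6) rfl N3828 D15240
theorem N6466 : nd 6466 = n15241 := ndS (p := 3829) (l := 5) rfl N3829 D15241
theorem N6467 : nd 6467 = n15242 := ndS (p := 3832) (l := 1) rfl N3832 D15242
theorem N6468 : nd 6468 = n15243 := ndS (p := 3834) (l := 2) rfl N3834 D15243
theorem N6469 : nd 6469 = n15244 := ndS (p := 3835) (l := 1) rfl N3835 D15244
theorem N6470 : nd 6470 = n15245 := ndS (p := 3836) (l := 4) rfl N3836 D15245
theorem N6471 : nd 6471 = n15247 := ndS (p := 3836) (l := 6) rfl N3836 D15247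
theorem N6472 : nd 6472 = n15248 := ndS (p := 3838) (l := 1) rfl N3838 D15248
theorem N6473 : nd 6473 = n15249 := ndS (p := 3839) (l := 6) rfl N3839 D15249
theorem N6474 : nd 6474 = n15250 := ndS (p := 3840) (l := 1) rfl N3840 D15250
theorem N6475 : nd 6475 = n15251 := ndS (p := 3841) (l := 0) rfl N3841 D15251
theorem N6476 : nd 6476 = n15252 := ndS (p := 3841) (l := 2) rfl N3841 D15252
theorem N6477 : nd 6477 = n15253 := ndS (p := 3841) (l := 5) rfl N3841 D15253
theorem N6478 : nd 6478 = n15254 := ndS (p := 3842) (l := 1) rfl N3842 D15254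
theorem N6479 : nd 6479 = n15255 := ndS (p := 3842) (l := 2) rfl N3842 D15255
theorem N6480 : nd 6480 = n15256 := ndS (p := 3842) (l := 5) rfl N3842 D15256
theorem N6481 : nd 6481 = n15257 := ndS (p := 3843) (l := 3) rfl N3843 D15257
theorem N6482 : nd 6482 = n15258 := ndS (p := 3843) (l := 5) rfl N3843 D15258
theorem N6483 : nd 6483 = n15259 := ndS (p := 3845) (l := 0) rfl N3845 D15259
theorem N6484 : nd 6484 = n15260 := ndS (p := 3845) (l := 4) rfl N3845 D15260
theorem N6485 : nd 6485 = n15262 := ndS (p := 3845) (l := 6) rfl N3845 D15262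
theorem N6486 : nd 6486 = n15263 := ndS (p := 3846) (l := 3) rfl N3846 D15263
theorem N6487 : nd 6487 = n15264 := ndS (p := 3846) (l := 6) rfl N3846 D15264
theorem N6488 : nd 6488 = n15266 := ndS (p := 3847) (l := 5) rfl N3847 D15266
theorem N6489 : nd 6489 = n15267 := ndS (p := 3848) (l := 1) rfl N3848 D15267
theorem N6490 : nd 6490 = n15268 := ndS (p := 3848) (l := 5) rfl N3848 D15268
theorem N6491 : nd 6491 = n15269 := ndS (p := 3849) (l := 0) rfl N3849 D15269
theorem N6492 : nd 6492 = n15272 := ndS (p := 3850) (l := 1) rfl N3850 D15272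
theorem N6493 : nd 6493 = n15273 := ndS (p := 3851) (l := 1) rfl N3851 D15273
theorem N6494 : nd 6494 = n15274 := ndS (p := 3852) (l := 1) rfl N3852 D15274
theorem N6495 : nd 6495 = n15275 := ndS (p := 3853) (l := 0) rfl N3853 D15275
theorem N6496 : nd 6496 = n15276 := ndS (p := 3853) (l := 2) rfl N3853 D15276
theorem N6497 : nd 6497 = n15277 := ndS (p := 3853) (l := 6) rfl N3853 D15277
theorem N6498 : nd 6498 = n15278 := ndS (p := 3854) (l := 2) rfl N3854 D15278
theorem N6499 : nd 6499 = n15279 := ndS (p := 3855) (l := 3) rfl N3855 D15279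
theorem N6500 : nd 6500 = n15280 := ndS (p := 3855) (l := 6) rfl N3855 D15280
theorem N6501 : nd 6501 = n15281 := ndS (p := 3856) (l := 5) rfl N3856 D15281
theorem N6502 : nd 6502 = n15282 := ndS (p := 3857) (l := 1) rfl N3857 D15282
theorem N6503 : nd 6503 = n15283 := ndS (p := 3859) (l := 2) rfl N3859 D15283
theorem N6504 : nd 6504 = n15284 := ndS (p := 3862) (l := 4) rfl N3862 D15284
theorem N6505 : nd 6505 = n15285 := ndS (p := 3862) (l := 5) rfl N3862 D15285
theorem N6506 : nd 6506 = n15287 := ndS (p := 3863) (l := 1) rfl N3863 D15287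
theorem N6507 : nd 6507 = n15288 := ndS (p := 3865) (l := 5) rfl N3865 D15288
theorem N6508 : nd 6508 = n15289 := ndS (p := 3866) (l := 1) rfl N3866 D15289
theorem N6509 : nd 6509 = n15290 := ndS (p := 3867) (l := 0) rfl N3867 D15290
theorem N6510 : nd 6510 = n15291 := ndS (p := 3867) (l := 2) rfl N3867 D15291
theorem N6511 : nd 6511 = n15292 := ndS (p := 3867) (l := 6) rfl N3867 D15292
theorem N6512 : nd 6512 = n15293 := ndS (p := 3868) (l := 1) rfl N3868 D15293
theorem N6513 : nd 6513 = n15294 := ndS (p := 3868) (l := 2) rfl N3868 D15294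
theorem N6514 : nd 6514 = n15295 := ndS (p := 3869) (l := 3) rfl N3869 D15295
theorem N6515 : nd 6515 = n15296 := ndS (p := 3869) (l := 6) rfl N3869 D15296
theorem N6516 : nd 6516 = n15297 := ndS (p := 3871) (l := 0) rfl N3871 D15297
theorem N6517 : nd 6517 = n15298 := ndS (p := 3871) (l := 4) rfl N3871 D15298
theorem N6518 : nd 6518 = n15299 := ndS (p := 3871) (l := 5) rfl N3871 D15299
theorem N6519 : nd 6519 = n15301 := ndS (p := 3872) (l := 3) rfl N3872 D15301
theorem N6520 : nd 6520 = n15302 := ndS (p := 3872) (l := 5) rfl N3872 D15302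
theorem N6521 : nd 6521 = n15304 := ndS (p := 3873) (l := 6) rfl N3873 D15304
theorem N6522 : nd 6522 = n15305 := ndS (p := 3874) (l := 1) rfl N3874 D15305
theorem N6523 : nd 6523 = n15306 := ndS (p := 3874) (l := 6) rfl N3874 D15306
theorem N6524 : nd 6524 = n15307 := ndS (p := 3875) (l := 0) rfl N3875 D15307
theorem N6525 : nd 6525 = n15310 := ndS (p := 3876) (l := 1) rfl N3876 D15310
theorem N6526 : nd 6526 = n15311 := ndS (p := 3877) (l := 1) rfl N3877 D15311
theorem N6527 : nd 6527 = n15312 := ndS (p := 3878) (l := 1) rfl N3878 D15312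
theorem N6528 : nd 6528 = n15313 := ndS (p := 3879) (l := 0) rfl N3879 D15313
theorem N6529 : nd 6529 = n15314 := ndS (p := 3879) (l := 2) rfl N3879 D15314
theorem N6530 : nd 6530 = n15315 := ndS (p := 3879) (l := 5) rfl N3879 D15315
theorem N6531 : nd 6531 = n15316 := ndS (p := 3880) (l := 2) rfl N3880 D15316
theorem N6532 : nd 6532 = n15317 := ndS (p := 3881) (l := 3) rfl N3881 D15317
theorem N6533 : nd 6533 = n15318 := ndS (p := 3881) (l := 5) rfl N3881 D15318
theorem N6534 : nd 6534 = n15319 := ndS (p := 3882) (l := 6) rfl N3882 D15319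
theorem N6535 : nd 6535 = n15322 := ndS (p := 3883) (l := 6) rfl N3883 D15322
theorem N6536 : nd 6536 = n15323 := ndS (p := 3884) (l := 2) rfl N3884 D15323
theorem N6537 : nd 6537 = n15324 := ndS (p := 3884) (l := 4) rfl N3884 D15324
theorem N6538 : nd 6538 = n15325 := ndS (p := 3884) (l := 5) rfl N3884 D15325
theorem N6539 : nd 6539 = n15326 := ndS (p := 3884) (l := 6) rfl N3884 D15326
theorem N6540 : nd 6540 = n15327 := ndS (p := 3885) (l := 1) rfl N3885 D15327
theorem N6541 : nd 6541 = n15328 := ndS (p := 3886) (l := 1) rfl N3886 D15328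
theorem N6542 : nd 6542 = n15329 := ndS (p := 3887) (l := 4) rfl N3887 D15329
theorem N6543 : nd 6543 = n15331 := ndS (p := 3887) (l := 6) rfl N3887 D15331
theorem N6544 : nd 6544 = n15332 := ndS (p := 3888) (l := 5) rfl N3888 D15332
theorem N6545 : nd 6545 = n15333 := ndS (p := 3888) (l := 6) rfl N3888 D15333
theorem N6546 : nd 6546 = n15334 := ndS (p := 3889) (l := 6) rfl N3889 D15334
theorem N6547 : nd 6547 = n15335 := ndS (p := 3890) (l := 1) rfl N3890 D15335
theorem N6548 : nd 6548 = n15336 := ndS (p := 3890) (l := 5) rfl N3890 D15336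
theorem N6549 : nd 6549 = n15337 := ndS (p := 3891) (l := 1) rfl N3891 D15337
theorem N6550 : nd 6550 = n15338 := ndS (p := 3892) (l := 0) rfl N3892 D15338
theorem N6551 : nd 6551 = n15339 := ndS (p := 3892) (l := 5) rfl N3892 D15339
theorem N6552 : nd 6552 = n15340 := ndS (p := 3893) (l := 1) rfl N3893 D15340
theorem N6553 : nd 6553 = n15341 := ndS (p := 3894) (l := 1) rfl N3894 D15341
theorem N6554 : nd 6554 = n15342 := ndS (p := 3895) (l := 0) rfl N3895 D15342
theorem N6555 : nd 6555 = n15345 := ndS (p := 3896) (l := 1) rfl N3896 D15345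
theorem N6556 : nd 6556 = n15346 := ndS (p := 3896) (l := 5) rfl N3896 D15346
theorem N6557 : nd 6557 = n15347 := ndS (p := 3897) (l := 6) rfl N3897 D15347
theorem N6558 : nd 6558 = n15348 := ndS (p := 3898) (l := 1) rfl N3898 D15348
theorem N6559 : nd 6559 = n15356 := ndS (p := 3901) (l := 1) rfl N3901 D15356
theorem N6560 : nd 6560 = n15358 := ndS (p := 3902) (l := 6) rfl N3902 D15358
theorem N6561 : nd 6561 = n15359 := ndS (p := 3903) (l := 1) rfl N3903 D15359
theorem N6562 : nd 6562 = n15360 := ndS (p := 3904) (l := 0) rfl N3904 D15360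
theorem N6563 : nd 6563 = n15361 := ndS (p := 3904) (l := 2) rfl N3904 D15361
theorem N6564 : nd 6564 = n15362 := ndS (p := 3904) (l := 5) rfl N3904 D15362
theorem N6565 : nd 6565 = n15363 := ndS (p := 3905) (l := 0) rfl N3905 D15363
theorem N6566 : nd 6566 = n15364 := ndS (p := 3905) (l := 2) rfl N3905 D15364
theorem N6567 : nd 6567 = n15365 := ndS (p := 3905) (l := 5) rfl N3905 D15365
theorem N6568 : nd 6568 = n15366 := ndS (p := 3906) (l := 1) rfl N3906 D15366
theorem N6569 : nd 6569 = n15367 := ndS (p := 3906) (l := 2) rfl N3906 D15367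
theorem N6570 : nd 6570 = n15371 := ndS (p := 3908) (l := 6) rfl N3908 D15371
theorem N6571 : nd 6571 = n15374 := ndS (p := 3909) (l := 5) rfl N3909 D15374
theorem N6572 : nd 6572 = n15375 := ndS (p := 3909) (l := 6) rfl N3909 D15375
theorem N6573 : nd 6573 = n15377 := ndS (p := 3911) (l := 1) rfl N3911 D15377
theorem N6574 : nd 6574 = n15379 := ndS (p := 3912) (l := 5) rfl N3912 D15379
theorem N6575 : nd 6575 = n15381 := ndS (p := 3913) (l := 2) rfl N3913 D15381
theorem N6576 : nd 6576 = n15382 := ndS (p := 3913) (l := 4) rfl N3913 D15382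
theorem N6577 : nd 6577 = n15383 := ndS (p := 3913) (l := 5) rfl N3913 D15383
theorem N6578 : nd 6578 = n15384 := ndS (p := 3913) (l := 6) rfl N3913 D15384
theorem N6579 : nd 6579 = n15385 := ndS (p := 3914) (l := 1) rfl N3914 D15385
theorem N6580 : nd 6580 = n15386 := ndS (p := 3915) (l := 1) rfl N3915 D15386
theorem N6581 : nd 6581 = n15387 := ndS (p := 3916) (l := 4) rfl N3916 D15387
theorem N6582 : nd 6582 = n15388 := ndS (p := 3916) (l := 5) rfl N3916 D15388
theorem N6583 : nd 6583 = n15390 := ndS (p := 3917) (l := 5) rfl N3917 D15390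
theorem N6584 : nd 6584 = n15391 := ndS (p := 3917) (l := 6) rfl N3917 D15391
theorem N6585 : nd 6585 = n15392 := ndS (p := 3918) (l := 1) rfl N3918 D15392
theorem N6586 : nd 6586 = n15393 := ndS (p := 3918) (l := 6) rfl N3918 D15393
theorem N6587 : nd 6587 = n15394 := ndS (p := 3919) (l := 5) rfl N3919 D15394
theorem N6588 : nd 6588 = n15395 := ndS (p := 3920) (l := 0) rfl N3920 D15395
theorem N6589 : nd 6589 = n15396 := ndS (p := 3920) (l := 6) rfl N3920 D15396
theorem N6590 : nd 6590 = n15397 := ndS (p := 3921) (l := 1) rfl N3921 D15397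
theorem N6591 : nd 6591 = n15398 := ndS (p := 3922) (l := 1) rfl N3922 D15398
theorem N6592 : nd 6592 = n15399 := ndS (p := 3923) (l := 1) rfl N3923 D15399
theorem N6593 : nd 6593 = n15400 := ndS (p := 3924) (l := 0) rfl N3924 D15400
theorem N6594 : nd 6594 = n15403 := ndS (p := 3925) (l := 1) rfl N3925 D15403
theorem N6595 : nd 6595 = n15404 := ndS (p := 3925) (l := 6) rfl N3925 D15404
theorem N6596 : nd 6596 = n15405 := ndS (p := 3926) (l := 5) rfl N3926 D15405
theorem N6597 : nd 6597 = n15406 := ndS (p := 3927) (l := 1) rfl N3927 D15406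
theorem N6598 : nd 6598 = n15413 := ndS (p := 3929) (l := 1) rfl N3929 D15413
theorem N6599 : nd 6599 = n15416 := ndS (p := 3930) (l := 5) rfl N3930 D15416
theorem N6600 : nd 6600 = n15417 := ndS (p := 3931) (l := 1) rfl N3931 D15417
theorem N6601 : nd 6601 = n15418 := ndS (p := 3932) (l := 0) rfl N3932 D15418
theorem N6602 : nd 6602 = n15419 := ndS (p := 3932) (l := 2) rfl N3932 D15419
theorem N6603 : nd 6603 = n15420 := ndS (p := 3932) (l := 6) rfl N3932 D15420
theorem N6604 : nd 6604 = n15421 := ndS (p := 3933) (l := 0) rfl N3933 D15421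
theorem N6605 : nd 6605 = n15422 := ndS (p := 3933) (l := 2) rfl N3933 D15422
theorem N6606 : nd 6606 = n15423 := ndS (p := 3933) (l := 6) rfl N3933 D15423
theorem N6607 : nd 6607 = n15424 := ndS (p := 3934) (l := 1) rfl N3934 D15424
theorem N6608 : nd 6608 = n15432 := ndS (p := 3937) (l := 5) rfl N3937 D15432
theorem N6609 : nd 6609 = n15433 := ndS (p := 3937) (l := 6) rfl N3937 D15433
theorem N6610 : nd 6610 = n15435 := ndS (p := 3939) (l := 1) rfl N3939 D15435
theorem N6611 : nd 6611 = n15437 := ndS (p := 3940) (l := 3) rfl N3940 D15437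
theorem N6612 : nd 6612 = n15440 := ndS (p := 3940) (l := 6) rfl N3940 D15440
theorem N6613 : nd 6613 = n15441 := ndS (p := 3941) (l := 4) rfl N3941 D15441
theorem N6614 : nd 6614 = n15456 := ndS (p := 3942) (l := 1) rfl N3942 D15456
theorem N6615 : nd 6615 = n15458 := ndS (p := 3943) (l := 0) rfl N3943 D15458
theorem N6616 : nd 6616 = n15460 := ndS (p := 3943) (l := 5) rfl N3943 D15460
theorem N6617 : nd 6617 = n15464 := ndS (p := 3944) (l := 0) rfl N3944 D15464
theorem N6618 : nd 6618 = n15465 := ndS (p := 3944) (l := 4) rfl N3944 D15465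
theorem N6619 : nd 6619 = n15466 := ndS (p := 3944) (l := 5) rfl N3944 D15466
theorem N6620 : nd 6620 = n15467 := ndS (p := 3944) (l := 6) rfl N3944 D15467
theorem N6621 : nd 6621 = n15468 := ndS (p := 3945) (l := 4) rfl N3945 D15468
theorem N6622 : nd 6622 = n15470 := ndS (p := 3945) (l := 6) rfl N3945 D15470
theorem N6623 : nd 6623 = n15471 := ndS (p := 3946) (l := 3) rfl N3946 D15471
theorem N6624 : nd 6624 = n15473 := ndS (p := 3946) (l := 6) rfl N3946 D15473
theorem N6625 : nd 6625 = n15476 := ndS (p := 3949) (l := 3) rfl N3949 D15476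
theorem N6626 : nd 6626 = n15477 := ndS (p := 3949) (l := 5) rfl N3949 D15477
theorem N6627 : nd 6627 = n15478 := ndS (p := 3949) (l := 6) rfl N3949 D15478
theorem N6628 : nd 6628 = n15479 := ndS (p := 3950) (l := 6) rfl N3950 D15479
theorem N6629 : nd 6629 = n15480 := ndS (p := 3951) (l := 1) rfl N3951 D15480
theorem N6630 : nd 6630 = n15482 := ndS (p := 3952) (l := 2) rfl N3952 D15482
theorem N6631 : nd 6631 = n15483 := ndS (p := 3952) (l := 5) rfl N3952 D15483
theorem N6632 : nd 6632 = n15484 := ndS (p := 3952) (l := 6) rfl N3952 D15484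
theorem N6633 : nd 6633 = n15485 := ndS (p := 3953) (l := 6) rfl N3953 D15485
theorem N6634 : nd 6634 = n15486 := ndS (p := 3954) (l := 1) rfl N3954 D15486
theorem N6635 : nd 6635 = n15487 := ndS (p := 3954) (l := 5) rfl N3954 D15487
theorem N6636 : nd 6636 = n15488 := ndS (p := 3955) (l := 1) rfl N3955 D15488
theorem N6637 : nd 6637 = n15489 := ndS (p := 3956) (l := 0) rfl N3956 D15489
theorem N6638 : nd 6638 = n15490 := ndS (p := 3956) (l := 2) rfl N3956 D15490
theorem N6639 : nd 6639 = n15491 := ndS (p := 3956) (l := 5) rfl N3956 D15491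
theorem N6640 : nd 6640 = n15492 := ndS (p := 3957) (l := 1) rfl N3957 D15492
theorem N6641 : nd 6641 = n15493 := ndS (p := 3958) (l := 6) rfl N3958 D15493
theorem N6642 : nd 6642 = n15494 := ndS (p := 3959) (l := 1) rfl N3959 D15494
theorem N6643 : nd 6643 = n15496 := ndS (p := 3960) (l := 2) rfl N3960 D15496
theorem N6644 : nd 6644 = n15497 := ndS (p := 3960) (l := 5) rfl N3960 D15497
theorem N6645 : nd 6645 = n15499 := ndS (p := 3962) (l := 1) rfl N3962 D15499
theorem N6646 : nd 6646 = n15500 := ndS (p := 3963) (l := 0) rfl N3963 D15500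
theorem N6647 : nd 6647 = n15501 := ndS (p := 3963) (l := 2) rfl N3963 D15501
theorem N6648 : nd 6648 = n15502 := ndS (p := 3963) (l := 5) rfl N3963 D15502
theorem N6649 : nd 6649 = n15504 := ndS (p := 3964) (l := 2) rfl N3964 D15504
theorem N6650 : nd 6650 = n15505 := ndS (p := 3964) (l := 5) rfl N3964 D15505
theorem N6651 : nd 6651 = n15506 := ndS (p := 3965) (l := 3) rfl N3965 D15506
theorem N6652 : nd 6652 = n15507 := ndS (p := 3965) (l := 5) rfl N3965 D15507
theorem N6653 : nd 6653 = n15508 := ndS (p := 3966) (l := 6) rfl N3966 D15508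
theorem N6654 : nd 6654 = n15510 := ndS (p := 3967) (l := 3) rfl N3967 D15510
theorem N6655 : nd 6655 = n15511 := ndS (p := 3968) (l := 1) rfl N3968 D15511
theorem N6656 : nd 6656 = n15512 := ndS (p := 3968) (l := 3) rfl N3968 D15512
theorem N6657 : nd 6657 = n15513 := ndS (p := 3969) (l := 2) rfl N3969 D15513
theorem N6658 : nd 6658 = n15514 := ndS (p := 3969) (l := 4) rfl N3969 D15514
theorem N6659 : nd 6659 = n15516 := ndS (p := 3970) (l := 3) rfl N3970 D15516
theorem N6660 : nd 6660 = n15518 := ndS (p := 3970) (l := 5) rfl N3970 D15518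
theorem N6661 : nd 6661 = n15520 := ndS (p := 3971) (l := 4) rfl N3971 D15520
theorem N6662 : nd 6662 = n15534 := ndS (p := 3972) (l := 1) rfl N3972 D15534
theorem N6663 : nd 6663 = n15537 := ndS (p := 3973) (l := 0) rfl N3973 D15537
theorem N6664 : nd 6664 = n15539 := ndS (p := 3973) (l := 6) rfl N3973 D15539
theorem N6665 : nd 6665 = n15543 := ndS (p := 3974) (l := 0) rfl N3974 D15543
theorem N6666 : nd 6666 = n15544 := ndS (p := 3974) (l := 4) rfl N3974 D15544
theorem N6667 : nd 6667 = n15545 := ndS (p := 3974) (l := 5) rfl N3974 D15545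
theorem N6668 : nd 6668 = n15546 := ndS (p := 3974) (l := 6) rfl N3974 D15546
theorem N6669 : nd 6669 = n15547 := ndS (p := 3975) (l := 4) rfl N3975 D15547
theorem N6670 : nd 6670 = n15548 := ndS (p := 3975) (l := 5) rfl N3975 D15548
theorem N6671 : nd 6671 = n15550 := ndS (p := 3976) (l := 3) rfl N3976 D15550
theorem N6672 : nd 6672 = n15551 := ndS (p := 3976) (l := 5) rfl N3976 D15551
theorem N6673 : nd 6673 = n15555 := ndS (p := 3979) (l := 3) rfl N3979 D15555
theorem N6674 : nd 6674 = n15556 := ndS (p := 3979) (l := 5) rfl N3979 D15556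
theorem N6675 : nd 6675 = n15557 := ndS (p := 3979) (l := 6) rfl N3979 D15557
theorem N6676 : nd 6676 = n15558 := ndS (p := 3980) (l := 1) rfl N3980 D15558
theorem N6677 : nd 6677 = n15560 := ndS (p := 3981) (l := 5) rfl N3981 D15560
theorem N6678 : nd 6678 = n15561 := ndS (p := 3982) (l := 2) rfl N3982 D15561
theorem N6679 : nd 6679 = n15562 := ndS (p := 3982) (l := 5) rfl N3982 D15562
theorem N6680 : nd 6680 = n15563 := ndS (p := 3982) (l := 6) rfl N3982 D15563
theorem N6681 : nd 6681 = n15564 := ndS (p := 3983) (l := 1) rfl N3983 D15564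
theorem N6682 : nd 6682 = n15565 := ndS (p := 3983) (l := 6) rfl N3983 D15565
theorem N6683 : nd 6683 = n15567 := ndS (p := 3985) (l := 0) rfl N3985 D15567
theorem N6684 : nd 6684 = n15568 := ndS (p := 3985) (l := 2) rfl N3985 D15568
theorem N6685 : nd 6685 = n15569 := ndS (p := 3985) (l := 6) rfl N3985 D15569
theorem N6686 : nd 6686 = n15572 := ndS (p := 3988) (l := 5) rfl N3988 D15572
theorem N6687 : nd 6687 = n15573 := ndS (p := 3989) (l := 1) rfl N3989 D15573
theorem N6688 : nd 6688 = n15575 := ndS (p := 3990) (l := 2) rfl N3990 D15575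
theorem N6689 : nd 6689 = n15576 := ndS (p := 3990) (l := 6) rfl N3990 D15576
theorem N6690 : nd 6690 = n15578 := ndS (p := 3992) (l := 1) rfl N3992 D15578
theorem N6691 : nd 6691 = n15579 := ndS (p := 3993) (l := 0) rfl N3993 D15579
theorem N6692 : nd 6692 = n15580 := ndS (p := 3993) (l := 2) rfl N3993 D15580
theorem N6693 : nd 6693 = n15581 := ndS (p := 3993) (l := 6) rfl N3993 D15581
theorem N6694 : nd 6694 = n15583 := ndS (p := 3994) (l := 2) rfl N3994 D15583
theorem N6695 : nd 6695 = n15585 := ndS (p := 3995) (l := 3) rfl N3995 D15585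
theorem N6696 : nd 6696 = n15586 := ndS (p := 3995) (l := 6) rfl N3995 D15586
theorem N6697 : nd 6697 = n15587 := ndS (p := 3996) (l := 5) rfl N3996 D15587
theorem N6698 : nd 6698 = n15589 := ndS (p := 3997) (l := 3) rfl N3997 D15589
theorem N6699 : nd 6699 = n15590 := ndS (p := 3998) (l := 1) rfl N3998 D15590
theorem N6700 : nd 6700 = n15591 := ndS (p := 3999) (l := 4) rfl N3999 D15591
theorem N6701 : nd 6701 = n15592 := ndS (p := 4000) (l := 0) rfl N4000 D15592
theorem N6702 : nd 6702 = n15593 := ndS (p := 4000) (l := 2) rfl N4000 D15593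
theorem N6703 : nd 6703 = n15596 := ndS (p := 4000) (l := 6) rfl N4000 D15596
theorem N6704 : nd 6704 = n15601 := ndS (p := 4001) (l := 1) rfl N4001 D15601
theorem N6705 : nd 6705 = n15607 := ndS (p := 4003) (l := 1) rfl N4003 D15607
theorem N6706 : nd 6706 = n15611 := ndS (p := 4004) (l := 6) rfl N4004 D15611
theorem N6707 : nd 6707 = n15612 := ndS (p := 4005) (l := 3) rfl N4005 D15612
theorem N6708 : nd 6708 = n15615 := ndS (p := 4005) (l := 6) rfl N4005 D15615
theorem N6709 : nd 6709 = n15618 := ndS (p := 4006) (l := 6) rfl N4006 D15618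
theorem N6710 : nd 6710 = n15620 := ndS (p := 4007) (l := 6) rfl N4007 D15620
theorem N6711 : nd 6711 = n15621 := ndS (p := 4008) (l := 1) rfl N4008 D15621
theorem N6712 : nd 6712 = n15622 := ndS (p := 4008) (l := 5) rfl N4008 D15622
theorem N6713 : nd 6713 = n15627 := ndS (p := 4009) (l := 1) rfl N4009 D15627
theorem N6714 : nd 6714 = n15631 := ndS (p := 4010) (l := 0) rfl N4010 D15631
theorem N6715 : nd 6715 = n15633 := ndS (p := 4010) (l := 5) rfl N4010 D15633
theorem N6716 : nd 6716 = n15635 := ndS (p := 4011) (l := 3) rfl N4011 D15635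
theorem N6717 : nd 6717 = n15639 := ndS (p := 4012) (l := 1) rfl N4012 D15639
theorem N6718 : nd 6718 = n15641 := ndS (p := 4013) (l := 1) rfl N4013 D15641
theorem N6719 : nd 6719 = n15642 := ndS (p := 4014) (l := 0) rfl N4014 D15642
theorem N6720 : nd 6720 = n15643 := ndS (p := 4014) (l := 2) rfl N4014 D15643
theorem N6721 : nd 6721 = n15644 := ndS (p := 4014) (l := 5) rfl N4014 D15644
theorem N6722 : nd 6722 = n15646 := ndS (p := 4015) (l := 0) rfl N4015 D15646
theorem N6723 : nd 6723 = n15647 := ndS (p := 4015) (l := 2) rfl N4015 D15647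
theorem N6724 : nd 6724 = n15648 := ndS (p := 4015) (l := 5) rfl N4015 D15648
theorem N6725 : nd 6725 = n15649 := ndS (p := 4016) (l := 1) rfl N4016 D15649
theorem N6726 : nd 6726 = n15650 := ndS (p := 4016) (l := 2) rfl N4016 D15650
theorem N6727 : nd 6727 = n15651 := ndS (p := 4017) (l := 3) rfl N4017 D15651
theorem N6728 : nd 6728 = n15652 := ndS (p := 4017) (l := 5) rfl N4017 D15652
theorem N6729 : nd 6729 = n15653 := ndS (p := 4018) (l := 1) rfl N4018 D15653
theorem N6730 : nd 6730 = n15654 := ndS (p := 4019) (l := 0) rfl N4019 D15654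
theorem N6731 : nd 6731 = n15655 := ndS (p := 4019) (l := 2) rfl N4019 D15655
theorem N6732 : nd 6732 = n15660 := ndS (p := 4020) (l := 1) rfl N4020 D15660
theorem N6733 : nd 6733 = n15661 := ndS (p := 4021) (l := 0) rfl N4021 D15661
theorem N6734 : nd 6734 = n15662 := ndS (p := 4021) (l := 2) rfl N4021 D15662
theorem N6735 : nd 6735 = n15663 := ndS (p := 4021) (l := 5) rfl N4021 D15663
theorem N6736 : nd 6736 = n15664 := ndS (p := 4022) (l := 1) rfl N4022 D15664
theorem N6737 : nd 6737 = n15665 := ndS (p := 4022) (l := 2) rfl N4022 D15665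
theorem N6738 : nd 6738 = n15666 := ndS (p := 4022) (l := 5) rfl N4022 D15666
theorem N6739 : nd 6739 = n15667 := ndS (p := 4023) (l := 3) rfl N4023 D15667
theorem N6740 : nd 6740 = n15668 := ndS (p := 4023) (l := 5) rfl N4023 D15668
theorem N6741 : nd 6741 = n15669 := ndS (p := 4024) (l := 1) rfl N4024 D15669
theorem N6742 : nd 6742 = n15671 := ndS (p := 4025) (l := 0) rfl N4025 D15671
theorem N6743 : nd 6743 = n15673 := ndS (p := 4025) (l := 6) rfl N4025 D15673
theorem N6744 : nd 6744 = n15674 := ndS (p := 4026) (l := 0) rfl N4026 D15674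
theorem N6745 : nd 6745 = n15675 := ndS (p := 4026) (l := 2) rfl N4026 D15675
theorem N6746 : nd 6746 = n15676 := ndS (p := 4026) (l := 5) rfl N4026 D15676
theorem N6747 : nd 6747 = n15677 := ndS (p := 4026) (l := 6) rfl N4026 D15677
theorem N6748 : nd 6748 = n15678 := ndS (p := 4027) (l := 1) rfl N4027 D15678
theorem N6749 : nd 6749 = n15679 := ndS (p := 4027) (l := 3) rfl N4027 D15679
theorem N6750 : nd 6750 = n15680 := ndS (p := 4027) (l := 5) rfl N4027 D15680
theorem N6751 : nd 6751 = n15681 := ndS (p := 4028) (l := 1) rfl N4028 D15681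
theorem N6752 : nd 6752 = n15683 := ndS (p := 4029) (l := 4) rfl N4029 D15683
theorem N6753 : nd 6753 = n15685 := ndS (p := 4030) (l := 1) rfl N4030 D15685
theorem N6754 : nd 6754 = n15687 := ndS (p := 4031) (l := 0) rfl N4031 D15687
theorem N6755 : nd 6755 = n15688 := ndS (p := 4031) (l := 2) rfl N4031 D15688
theorem N6756 : nd 6756 = n15689 := ndS (p := 4031) (l := 6) rfl N4031 D15689
theorem N6757 : nd 6757 = n15691 := ndS (p := 4033) (l := 1) rfl N4033 D15691
theorem N6758 : nd 6758 = n15692 := ndS (p := 4033) (l := 2) rfl N4033 D15692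
theorem N6759 : nd 6759 = n15693 := ndS (p := 4033) (l := 6) rfl N4033 D15693
theorem N6760 : nd 6760 = n15696 := ndS (p := 4035) (l := 5) rfl N4035 D15696
theorem N6761 : nd 6761 = n15697 := ndS (p := 4036) (l := 1) rfl N4036 D15697
theorem N6762 : nd 6762 = n15698 := ndS (p := 4036) (l := 3) rfl N4036 D15698
theorem N6763 : nd 6763 = n15699 := ndS (p := 4037) (l := 4) rfl N4037 D15699
theorem N6764 : nd 6764 = n15704 := ndS (p := 4038) (l := 1) rfl N4038 D15704
theorem N6765 : nd 6765 = n15705 := ndS (p := 4038) (l := 3) rfl N4038 D15705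
theorem N6766 : nd 6766 = n15706 := ndS (p := 4039) (l := 0) rfl N4039 D15706
theorem N6767 : nd 6767 = n15707 := ndS (p := 4039) (l := 3) rfl N4039 D15707
theorem N6768 : nd 6768 = n15708 := ndS (p := 4039) (l := 5) rfl N4039 D15708
theorem N6769 : nd 6769 = n15709 := ndS (p := 4039) (l := 6) rfl N4039 D15709
theorem N6770 : nd 6770 = n15710 := ndS (p := 4040) (l := 4) rfl N4040 D15710
theorem N6771 : nd 6771 = n15711 := ndS (p := 4041) (l := 1) rfl N4041 D15711
theorem N6772 : nd 6772 = n15712 := ndS (p := 4041) (l := 4) rfl N4041 D15712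
theorem N6773 : nd 6773 = n15713 := ndS (p := 4042) (l := 5) rfl N4042 D15713
theorem N6774 : nd 6774 = n15714 := ndS (p := 4043) (l := 1) rfl N4043 D15714
theorem N6775 : nd 6775 = n15715 := ndS (p := 4044) (l := 0) rfl N4044 D15715
theorem N6776 : nd 6776 = n15716 := ndS (p := 4044) (l := 6) rfl N4044 D15716
theorem N6777 : nd 6777 = n15720 := ndS (p := 4046) (l := 0) rfl N4046 D15720
theorem N6778 : nd 6778 = n15721 := ndS (p := 4046) (l := 2) rfl N4046 D15721
theorem N6779 : nd 6779 = n15723 := ndS (p := 4046) (l := 5) rfl N4046 D15723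
theorem N6780 : nd 6780 = n15728 := ndS (p := 4047) (l := 1) rfl N4047 D15728
theorem N6781 : nd 6781 = n15736 := ndS (p := 4049) (l := 1) rfl N4049 D15736
theorem N6782 : nd 6782 = n15738 := ndS (p := 4050) (l := 5) rfl N4050 D15738
theorem N6783 : nd 6783 = n15740 := ndS (p := 4051) (l := 3) rfl N4051 D15740
theorem N6784 : nd 6784 = n15742 := ndS (p := 4051) (l := 5) rfl N4051 D15742
theorem N6785 : nd 6785 = n15745 := ndS (p := 4052) (l := 5) rfl N4052 D15745
theorem N6786 : nd 6786 = n15747 := ndS (p := 4053) (l := 1) rfl N4053 D15747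
theorem N6787 : nd 6787 = n15748 := ndS (p := 4053) (l := 6) rfl N4053 D15748
theorem N6788 : nd 6788 = n15750 := ndS (p := 4054) (l := 5) rfl N4054 D15750
theorem N6789 : nd 6789 = n15754 := ndS (p := 4055) (l := 1) rfl N4055 D15754
theorem N6790 : nd 6790 = n15756 := ndS (p := 4056) (l := 0) rfl N4056 D15756
theorem N6791 : nd 6791 = n15758 := ndS (p := 4056) (l := 6) rfl N4056 D15758
theorem N6792 : nd 6792 = n15763 := ndS (p := 4057) (l := 3) rfl N4057 D15763
theorem N6793 : nd 6793 = n15766 := ndS (p := 4058) (l := 1) rfl N4058 D15766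
theorem N6794 : nd 6794 = n15769 := ndS (p := 4059) (l := 0) rfl N4059 D15769
theorem N6795 : nd 6795 = n15770 := ndS (p := 4059) (l := 2) rfl N4059 D15770
theorem N6796 : nd 6796 = n15771 := ndS (p := 4059) (l := 6) rfl N4059 D15771
theorem N6797 : nd 6797 = n15774 := ndS (p := 4061) (l := 1) rfl N4061 D15774
theorem N6798 : nd 6798 = n15775 := ndS (p := 4061) (l := 2) rfl N4061 D15775
theorem N6799 : nd 6799 = n15776 := ndS (p := 4062) (l := 3) rfl N4062 D15776
theorem N6800 : nd 6800 = n15777 := ndS (p := 4062) (l := 6) rfl N4062 D15777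
theorem N6801 : nd 6801 = n15778 := ndS (p := 4063) (l := 1) rfl N4063 D15778
theorem N6802 : nd 6802 = n15779 := ndS (p := 4064) (l := 0) rfl N4064 D15779
theorem N6803 : nd 6803 = n15780 := ndS (p := 4064) (l := 2) rfl N4064 D15780
theorem N6804 : nd 6804 = n15782 := ndS (p := 4065) (l := 0) rfl N4065 D15782
theorem N6805 : nd 6805 = n15784 := ndS (p := 4065) (l := 6) rfl N4065 D15784
theorem N6806 : nd 6806 = n15788 := ndS (p := 4066) (l := 1) rfl N4066 D15788
theorem N6807 : nd 6807 = n15789 := ndS (p := 4067) (l := 0) rfl N4067 D15789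
theorem N6808 : nd 6808 = n15790 := ndS (p := 4067) (l := 2) rfl N4067 D15790
theorem N6809 : nd 6809 = n15791 := ndS (p := 4067) (l := 6) rfl N4067 D15791
theorem N6810 : nd 6810 = n15792 := ndS (p := 4068) (l := 1) rfl N4068 D15792
theorem N6811 : nd 6811 = n15793 := ndS (p := 4068) (l := 2) rfl N4068 D15793
theorem N6812 : nd 6812 = n15794 := ndS (p := 4068) (l := 6) rfl N4068 D15794
theorem N6813 : nd 6813 = n15795 := ndS (p := 4069) (l := 3) rfl N4069 D15795
theorem N6814 : nd 6814 = n15796 := ndS (p := 4069) (l := 6) rfl N4069 D15796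
theorem N6815 : nd 6815 = n15797 := ndS (p := 4070) (l := 1) rfl N4070 D15797
theorem N6816 : nd 6816 = n15799 := ndS (p := 4071) (l := 0) rfl N4071 D15799
theorem N6817 : nd 6817 = n15801 := ndS (p := 4071) (l := 5) rfl N4071 D15801
theorem N6818 : nd 6818 = n15802 := ndS (p := 4072) (l := 0) rfl N4072 D15802
theorem N6819 : nd 6819 = n15803 := ndS (p := 4072) (l := 2) rfl N4072 D15803
theorem N6820 : nd 6820 = n15804 := ndS (p := 4072) (l := 5) rfl N4072 D15804
theorem N6821 : nd 6821 = n15805 := ndS (p := 4072) (l := 6) rfl N4072 D15805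
theorem N6822 : nd 6822 = n15806 := ndS (p := 4073) (l := 1) rfl N4073 D15806
theorem N6823 : nd 6823 = n15807 := ndS (p := 4073) (l := 3) rfl N4073 D15807
theorem N6824 : nd 6824 = n15808 := ndS (p := 4073) (l := 6) rfl N4073 D15808
theorem N6825 : nd 6825 = n15809 := ndS (p := 4074) (l := 1) rfl N4074 D15809
theorem N6826 : nd 6826 = n15811 := ndS (p := 4075) (l := 4) rfl N4075 D15811
theorem N6827 : nd 6827 = n15813 := ndS (p := 4076) (l := 1) rfl N4076 D15813
theorem N6828 : nd 6828 = n15815 := ndS (p := 4077) (l := 0) rfl N4077 D15815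
theorem N6829 : nd 6829 = n15816 := ndS (p := 4077) (l := 2) rfl N4077 D15816
theorem N6830 : nd 6830 = n15817 := ndS (p := 4077) (l := 5) rfl N4077 D15817
theorem N6831 : nd 6831 = n15819 := ndS (p := 4079) (l := 1) rfl N4079 D15819
theorem N6832 : nd 6832 = n15820 := ndS (p := 4079) (l := 2) rfl N4079 D15820
theorem N6833 : nd 6833 = n15821 := ndS (p := 4079) (l := 5) rfl N4079 D15821
theorem N6834 : nd 6834 = n15824 := ndS (p := 4081) (l := 6) rfl N4081 D15824
theorem N6835 : nd 6835 = n15825 := ndS (p := 4082) (l := 1) rfl N4082 D15825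
theorem N6836 : nd 6836 = n15826 := ndS (p := 4082) (l := 3) rfl N4082 D15826
theorem N6837 : nd 6837 = n15827 := ndS (p := 4083) (l := 4) rfl N4083 D15827
theorem N6838 : nd 6838 = n15832 := ndS (p := 4084) (l := 1) rfl N4084 D15832
theorem N6839 : nd 6839 = n15833 := ndS (p := 4084) (l := 3) rfl N4084 D15833
theorem N6840 : nd 6840 = n15834 := ndS (p := 4085) (l := 0) rfl N4085 D15834
theorem N6841 : nd 6841 = n15835 := ndS (p := 4085) (l := 3) rfl N4085 D15835
theorem N6842 : nd 6842 = n15836 := ndS (p := 4085) (l := 5) rfl N4085 D15836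
theorem N6843 : nd 6843 = n15837 := ndS (p := 4085) (l := 6) rfl N4085 D15837
theorem N6844 : nd 6844 = n15838 := ndS (p := 4086) (l := 4) rfl N4086 D15838
theorem N6845 : nd 6845 = n15839 := ndS (p := 4087) (l := 1) rfl N4087 D15839
theorem N6846 : nd 6846 = n15840 := ndS (p := 4087) (l := 4) rfl N4087 D15840
theorem N6847 : nd 6847 = n15841 := ndS (p := 4088) (l := 6) rfl N4088 D15841
theorem N6848 : nd 6848 = n15842 := ndS (p := 4089) (l := 1) rfl N4089 D15842
theorem N6849 : nd 6849 = n15843 := ndS (p := 4090) (l := 0) rfl N4090 D15843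
theorem N6850 : nd 6850 = n15844 := ndS (p := 4090) (l := 5) rfl N4090 D15844
theorem N6851 : nd 6851 = n15856 := ndS (p := 4092) (l := 0) rfl N4092 D15856
theorem N6852 : nd 6852 = n15857 := ndS (p := 4092) (l := 3) rfl N4092 D15857
theorem N6853 : nd 6853 = n15859 := ndS (p := 4092) (l := 6) rfl N4092 D15859
theorem N6854 : nd 6854 = n15860 := ndS (p := 4093) (l := 4) rfl N4093 D15860
theorem N6855 : nd 6855 = n15864 := ndS (p := 4094) (l := 3) rfl N4094 D15864
theorem N6856 : nd 6856 = n15866 := ndS (p := 4094) (l := 6) rfl N4094 D15866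
theorem N6857 : nd 6857 = n15867 := ndS (p := 4095) (l := 2) rfl N4095 D15867
theorem N6858 : nd 6858 = n15868 := ndS (p := 4095) (l := 4) rfl N4095 D15868
theorem N6859 : nd 6859 = n15869 := ndS (p := 4095) (l := 5) rfl N4095 D15869
theorem N6860 : nd 6860 = n15870 := ndS (p := 4095) (l := 6) rfl N4095 D15870
theorem N6861 : nd 6861 = n15871 := ndS (p := 4096) (l := 6) rfl N4096 D15871
theorem N6862 : nd 6862 = n15873 := ndS (p := 4097) (l := 5) rfl N4097 D15873
theorem N6863 : nd 6863 = n15874 := ndS (p := 4098) (l := 6) rfl N4098 D15874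
theorem N6864 : nd 6864 = n15878 := ndS (p := 4101) (l := 1) rfl N4101 D15878
theorem N6865 : nd 6865 = n15880 := ndS (p := 4101) (l := 6) rfl N4101 D15880
theorem N6866 : nd 6866 = n15882 := ndS (p := 4102) (l := 5) rfl N4102 D15882
theorem N6867 : nd 6867 = n15883 := ndS (p := 4103) (l := 0) rfl N4103 D15883
theorem N6868 : nd 6868 = n15886 := ndS (p := 4103) (l := 6) rfl N4103 D15886
theorem N6869 : nd 6869 = n15888 := ndS (p := 4105) (l := 1) rfl N4105 D15888
theorem N6870 : nd 6870 = n15889 := ndS (p := 4106) (l := 1) rfl N4106 D15889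
theorem N6871 : nd 6871 = n15890 := ndS (p := 4107) (l := 1) rfl N4107 D15890
theorem N6872 : nd 6872 = n15891 := ndS (p := 4108) (l := 0) rfl N4108 D15891
theorem N6873 : nd 6873 = n15892 := ndS (p := 4108) (l := 3) rfl N4108 D15892
theorem N6874 : nd 6874 = n15893 := ndS (p := 4108) (l := 5) rfl N4108 D15893
theorem N6875 : nd 6875 = n15895 := ndS (p := 4109) (l := 4) rfl N4109 D15895
theorem N6876 : nd 6876 = n15899 := ndS (p := 4110) (l := 3) rfl N4110 D15899
theorem N6877 : nd 6877 = n15900 := ndS (p := 4110) (l := 5) rfl N4110 D15900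
theorem N6878 : nd 6878 = n15902 := ndS (p := 4111) (l := 2) rfl N4111 D15902
theorem N6879 : nd 6879 = n15903 := ndS (p := 4111) (l := 4) rfl N4111 D15903
theorem N6880 : nd 6880 = n15904 := ndS (p := 4111) (l := 5) rfl N4111 D15904
theorem N6881 : nd 6881 = n15905 := ndS (p := 4111) (l := 6) rfl N4111 D15905
theorem N6882 : nd 6882 = n15907 := ndS (p := 4112) (l := 6) rfl N4112 D15907
theorem N6883 : nd 6883 = n15908 := ndS (p := 4113) (l := 5) rfl N4113 D15908
theorem N6884 : nd 6884 = n15909 := ndS (p := 4114) (l := 5) rfl N4114 D15909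
theorem N6885 : nd 6885 = n15913 := ndS (p := 4117) (l := 1) rfl N4117 D15913
theorem N6886 : nd 6886 = n15914 := ndS (p := 4117) (l := 5) rfl N4117 D15914
theorem N6887 : nd 6887 = n15916 := ndS (p := 4118) (l := 6) rfl N4118 D15916
theorem N6888 : nd 6888 = n15918 := ndS (p := 4119) (l := 0) rfl N4119 D15918
theorem N6889 : nd 6889 = n15920 := ndS (p := 4119) (l := 5) rfl N4119 D15920
theorem N6890 : nd 6890 = n15922 := ndS (p := 4120) (l := 1) rfl N4120 D15922
theorem N6891 : nd 6891 = n15924 := ndS (p := 4122) (l := 1) rfl N4122 D15924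
theorem N6892 : nd 6892 = n15925 := ndS (p := 4123) (l := 1) rfl N4123 D15925
theorem N6893 : nd 6893 = n15930 := ndS (p := 4127) (l := 0) rfl N4127 D15930
theorem N6894 : nd 6894 = n15931 := ndS (p := 4127) (l := 2) rfl N4127 D15931
theorem N6895 : nd 6895 = n15932 := ndS (p := 4127) (l := 6) rfl N4127 D15932
theorem N6896 : nd 6896 = n15933 := ndS (p := 4128) (l := 0) rfl N4128 D15933
theorem N6897 : nd 6897 = n15934 := ndS (p := 4128) (l := 2) rfl N4128 D15934
theorem N6898 : nd 6898 = n15935 := ndS (p := 4128) (l := 5) rfl N4128 D15935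
theorem N6899 : nd 6899 = n15938 := ndS (p := 4130) (l := 1) rfl N4130 D15938
theorem N6900 : nd 6900 = n15939 := ndS (p := 4130) (l := 6) rfl N4130 D15939
theorem N6901 : nd 6901 = n15940 := ndS (p := 4131) (l := 1) rfl N4131 D15940
theorem N6902 : nd 6902 = n15941 := ndS (p := 4131) (l := 5) rfl N4131 D15941
theorem N6903 : nd 6903 = n15942 := ndS (p := 4132) (l := 2) rfl N4132 D15942
theorem N6904 : nd 6904 = n15943 := ndS (p := 4132) (l := 6) rfl N4132 D15943
theorem N6905 : nd 6905 = n15944 := ndS (p := 4133) (l := 1) rfl N4133 D15944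
theorem N6906 : nd 6906 = n15946 := ndS (p := 4134) (l := 2) rfl N4134 D15946
theorem N6907 : nd 6907 = n15947 := ndS (p := 4134) (l := 5) rfl N4134 D15947
theorem N6908 : nd 6908 = n15948 := ndS (p := 4135) (l := 1) rfl N4135 D15948
theorem N6909 : nd 6909 = n15949 := ndS (p := 4136) (l := 0) rfl N4136 D15949
theorem N6910 : nd 6910 = n15950 := ndS (p := 4136) (l := 2) rfl N4136 D15950
theorem N6911 : nd 6911 = n15951 := ndS (p := 4136) (l := 6) rfl N4136 D15951
theorem N6912 : nd 6912 = n15952 := ndS (p := 4137) (l := 1) rfl N4137 D15952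
theorem N6913 : nd 6913 = n15953 := ndS (p := 4138) (l := 0) rfl N4138 D15953
theorem N6914 : nd 6914 = n15954 := ndS (p := 4138) (l := 2) rfl N4138 D15954
theorem N6915 : nd 6915 = n15955 := ndS (p := 4138) (l := 5) rfl N4138 D15955
theorem N6916 : nd 6916 = n15956 := ndS (p := 4139) (l := 1) rfl N4139 D15956
theorem N6917 : nd 6917 = n15957 := ndS (p := 4140) (l := 1) rfl N4140 D15957
theorem N6918 : nd 6918 = n15958 := ndS (p := 4140) (l := 2) rfl N4140 D15958
theorem N6919 : nd 6919 = n15959 := ndS (p := 4141) (l := 3) rfl N4141 D15959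
theorem N6920 : nd 6920 = n15960 := ndS (p := 4141) (l := 6) rfl N4141 D15960
theorem N6921 : nd 6921 = n15961 := ndS (p := 4142) (l := 1) rfl N4142 D15961
theorem N6922 : nd 6922 = n15962 := ndS (p := 4143) (l := 0) rfl N4143 D15962
theorem N6923 : nd 6923 = n15963 := ndS (p := 4143) (l := 2) rfl N4143 D15963
theorem N6924 : nd 6924 = n15964 := ndS (p := 4143) (l := 5) rfl N4143 D15964
theorem N6925 : nd 6925 = n15965 := ndS (p := 4144) (l := 1) rfl N4144 D15965
theorem N6926 : nd 6926 = n15966 := ndS (p := 4144) (l := 2) rfl N4144 D15966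
theorem N6927 : nd 6927 = n15967 := ndS (p := 4145) (l := 3) rfl N4145 D15967
theorem N6928 : nd 6928 = n15968 := ndS (p := 4145) (l := 5) rfl N4145 D15968
theorem N6929 : nd 6929 = n15969 := ndS (p := 4146) (l := 1) rfl N4146 D15969
theorem N6930 : nd 6930 = n15970 := ndS (p := 4147) (l := 0) rfl N4147 D15970
theorem N6931 : nd 6931 = n15971 := ndS (p := 4147) (l := 2) rfl N4147 D15971
theorem N6932 : nd 6932 = n15972 := ndS (p := 4147) (l := 6) rfl N4147 D15972
theorem N6933 : nd 6933 = n15973 := ndS (p := 4148) (l := 1) rfl N4148 D15973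
theorem N6934 : nd 6934 = n15974 := ndS (p := 4148) (l := 3) rfl N4148 D15974
theorem N6935 : nd 6935 = n15975 := ndS (p := 4148) (l := 5) rfl N4148 D15975
theorem N6936 : nd 6936 = n15976 := ndS (p := 4148) (l := 6) rfl N4148 D15976
theorem N6937 : nd 6937 = n15977 := ndS (p := 4149) (l := 5) rfl N4149 D15977
theorem N6938 : nd 6938 = n15978 := ndS (p := 4149) (l := 6) rfl N4149 D15978
theorem N6939 : nd 6939 = n15979 := ndS (p := 4150) (l := 1) rfl N4150 D15979
theorem N6940 : nd 6940 = n15980 := ndS (p := 4150) (l := 6) rfl N4150 D15980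
theorem N6941 : nd 6941 = n15981 := ndS (p := 4151) (l := 1) rfl N4151 D15981
theorem N6942 : nd 6942 = n15982 := ndS (p := 4151) (l := 5) rfl N4151 D15982
theorem N6943 : nd 6943 = n15983 := ndS (p := 4152) (l := 1) rfl N4152 D15983
theorem N6944 : nd 6944 = n15984 := ndS (p := 4153) (l := 1) rfl N4153 D15984
theorem N6945 : nd 6945 = n15985 := ndS (p := 4154) (l := 0) rfl N4154 D15985
theorem N6946 : nd 6946 = n15986 := ndS (p := 4154) (l := 2) rfl N4154 D15986
theorem N6947 : nd 6947 = n15987 := ndS (p := 4154) (l := 6) rfl N4154 D15987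
theorem N6948 : nd 6948 = n15988 := ndS (p := 4155) (l := 0) rfl N4155 D15988
theorem N6949 : nd 6949 = n15989 := ndS (p := 4155) (l := 2) rfl N4155 D15989
theorem N6950 : nd 6950 = n15990 := ndS (p := 4155) (l := 5) rfl N4155 D15990
theorem N6951 : nd 6951 = n15991 := ndS (p := 4156) (l := 1) rfl N4156 D15991
theorem N6952 : nd 6952 = n15992 := ndS (p := 4156) (l := 2) rfl N4156 D15992
theorem N6953 : nd 6953 = n15993 := ndS (p := 4156) (l := 6) rfl N4156 D15993
theorem N6954 : nd 6954 = n15994 := ndS (p := 4157) (l := 3) rfl N4157 D15994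
theorem N6955 : nd 6955 = n15995 := ndS (p := 4157) (l := 6) rfl N4157 D15995
theorem N6956 : nd 6956 = n15996 := ndS (p := 4158) (l := 5) rfl N4158 D15996
theorem N6957 : nd 6957 = n15997 := ndS (p := 4159) (l := 1) rfl N4159 D15997
theorem N6958 : nd 6958 = n15998 := ndS (p := 4159) (l := 2) rfl N4159 D15998
theorem N6959 : nd 6959 = n15999 := ndS (p := 4159) (l := 5) rfl N4159 D15999
theorem N6960 : nd 6960 = n16000 := ndS (p := 4160) (l := 3) rfl N4160 D16000
theorem N6961 : nd 6961 = n16001 := ndS (p := 4160) (l := 5) rfl N4160 D16001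
theorem N6962 : nd 6962 = n16002 := ndS (p := 4161) (l := 6) rfl N4161 D16002
theorem N6963 : nd 6963 = n16003 := ndS (p := 4162) (l := 5) rfl N4162 D16003
theorem N6964 : nd 6964 = n16004 := ndS (p := 4162) (l := 6) rfl N4162 D16004
theorem N6965 : nd 6965 = n16005 := ndS (p := 4163) (l := 1) rfl N4163 D16005
theorem N6966 : nd 6966 = n16006 := ndS (p := 4163) (l := 3) rfl N4163 D16006
theorem N6967 : nd 6967 = n16007 := ndS (p := 4163) (l := 6) rfl N4163 D16007
theorem N6968 : nd 6968 = n16008 := ndS (p := 4164) (l := 1) rfl N4164 D16008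
theorem N6969 : nd 6969 = n16009 := ndS (p := 4165) (l := 2) rfl N4165 D16009
theorem N6970 : nd 6970 = n16010 := ndS (p := 4165) (l := 4) rfl N4165 D16010
theorem N6971 : nd 6971 = n16011 := ndS (p := 4165) (l := 6) rfl N4165 D16011
theorem N6972 : nd 6972 = n16012 := ndS (p := 4166) (l := 1) rfl N4166 D16012
theorem N6973 : nd 6973 = n16013 := ndS (p := 4166) (l := 5) rfl N4166 D16013
theorem N6974 : nd 6974 = n16016 := ndS (p := 4168) (l := 5) rfl N4168 D16016
theorem N6975 : nd 6975 = n16017 := ndS (p := 4168) (l := 6) rfl N4168 D16017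
theorem N6976 : nd 6976 = n16018 := ndS (p := 4169) (l := 1) rfl N4169 D16018
theorem N6977 : nd 6977 = n16019 := ndS (p := 4169) (l := 3) rfl N4169 D16019
theorem N6978 : nd 6978 = n16020 := ndS (p := 4169) (l := 5) rfl N4169 D16020
theorem N6979 : nd 6979 = n16021 := ndS (p := 4170) (l := 1) rfl N4170 D16021
theorem N6980 : nd 6980 = n16022 := ndS (p := 4171) (l := 2) rfl N4171 D16022
theorem N6981 : nd 6981 = n16023 := ndS (p := 4171) (l := 4) rfl N4171 D16023
theorem N6982 : nd 6982 = n16024 := ndS (p := 4171) (l := 5) rfl N4171 D16024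
theorem N6983 : nd 6983 = n16025 := ndS (p := 4172) (l := 1) rfl N4172 D16025
theorem N6984 : nd 6984 = n16026 := ndS (p := 4172) (l := 6) rfl N4172 D16026
theorem N6985 : nd 6985 = n16027 := ndS (p := 4174) (l := 2) rfl N4174 D16027
theorem N6986 : nd 6986 = n16029 := ndS (p := 4175) (l := 1) rfl N4175 D16029
theorem N6987 : nd 6987 = n16031 := ndS (p := 4176) (l := 2) rfl N4176 D16031
theorem N6988 : nd 6988 = n16033 := ndS (p := 4177) (l := 1) rfl N4177 D16033
theorem N6989 : nd 6989 = n16034 := ndS (p := 4178) (l := 3) rfl N4178 D16034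
theorem N6990 : nd 6990 = n16035 := ndS (p := 4178) (l := 6) rfl N4178 D16035
theorem N6991 : nd 6991 = n16036 := ndS (p := 4179) (l := 1) rfl N4179 D16036
theorem N6992 : nd 6992 = n16037 := ndS (p := 4180) (l := 0) rfl N4180 D16037
theorem N6993 : nd 6993 = n16038 := ndS (p := 4180) (l := 2) rfl N4180 D16038
theorem N6994 : nd 6994 = n16043 := ndS (p := 4181) (l := 3) rfl N4181 D16043
theorem N6995 : nd 6995 = n16044 := ndS (p := 4181) (l := 5) rfl N4181 D16044
theorem N6996 : nd 6996 = n16045 := ndS (p := 4182) (l := 1) rfl N4182 D16045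
theorem N6997 : nd 6997 = n16046 := ndS (p := 4183) (l := 0) rfl N4183 D16046
theorem N6998 : nd 6998 = n16047 := ndS (p := 4183) (l := 2) rfl N4183 D16047
theorem N6999 : nd 6999 = n16049 := ndS (p := 4184) (l := 2) rfl N4184 D16049
theorem N7000 : nd 7000 = n16050 := ndS (p := 4184) (l := 5) rfl N4184 D16050
theorem N7001 : nd 7001 = n16051 := ndS (p := 4184) (l := 6) rfl N4184 D16051
theorem N7002 : nd 7002 = n16052 := ndS (p := 4186) (l := 2) rfl N4186 D16052
theorem N7003 : nd 7003 = n16053 := ndS (p := 4186) (l := 4) rfl N4186 D16053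
theorem N7004 : nd 7004 = n16054 := ndS (p := 4186) (l := 6) rfl N4186 D16054
theorem N7005 : nd 7005 = n16055 := ndS (p := 4187) (l := 1) rfl N4187 D16055
theorem N7006 : nd 7006 = n16056 := ndS (p := 4188) (l := 0) rfl N4188 D16056
theorem N7007 : nd 7007 = n16057 := ndS (p := 4188) (l := 2) rfl N4188 D16057
theorem N7008 : nd 7008 = n16058 := ndS (p := 4188) (l := 5) rfl N4188 D16058
theorem N7009 : nd 7009 = n16059 := ndS (p := 4189) (l := 1) rfl N4189 D16059
theorem N7010 : nd 7010 = n16060 := ndS (p := 4189) (l := 2) rfl N4189 D16060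
theorem N7011 : nd 7011 = n16061 := ndS (p := 4189) (l := 5) rfl N4189 D16061
theorem N7012 : nd 7012 = n16062 := ndS (p := 4190) (l := 3) rfl N4190 D16062
theorem N7013 : nd 7013 = n16063 := ndS (p := 4190) (l := 5) rfl N4190 D16063
theorem N7014 : nd 7014 = n16064 := ndS (p := 4191) (l := 6) rfl N4191 D16064
theorem N7015 : nd 7015 = n16066 := ndS (p := 4192) (l := 2) rfl N4192 D16066
theorem N7016 : nd 7016 = n16067 := ndS (p := 4192) (l := 5) rfl N4192 D16067
theorem N7017 : nd 7017 = n16068 := ndS (p := 4192) (l := 6) rfl N4192 D16068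
theorem N7018 : nd 7018 = n16071 := ndS (p := 4194) (l := 2) rfl N4194 D16071
theorem N7019 : nd 7019 = n16072 := ndS (p := 4194) (l := 4) rfl N4194 D16072
theorem N7020 : nd 7020 = n16073 := ndS (p := 4194) (l := 5) rfl N4194 D16073
theorem N7021 : nd 7021 = n16074 := ndS (p := 4195) (l := 1) rfl N4195 D16074
theorem N7022 : nd 7022 = n16075 := ndS (p := 4196) (l := 0) rfl N4196 D16075
theorem N7023 : nd 7023 = n16076 := ndS (p := 4196) (l := 2) rfl N4196 D16076
theorem N7024 : nd 7024 = n16077 := ndS (p := 4196) (l := 6) rfl N4196 D16077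
theorem N7025 : nd 7025 = n16078 := ndS (p := 4197) (l := 1) rfl N4197 D16078
theorem N7026 : nd 7026 = n16079 := ndS (p := 4197) (l := 2) rfl N4197 D16079
theorem N7027 : nd 7027 = n16080 := ndS (p := 4197) (l := 6) rfl N4197 D16080
theorem N7028 : nd 7028 = n16081 := ndS (p := 4198) (l := 3) rfl N4198 D16081
theorem N7029 : nd 7029 = n16082 := ndS (p := 4198) (l := 6) rfl N4198 D16082
theorem N7030 : nd 7030 = n16083 := ndS (p := 4199) (l := 5) rfl N4199 D16083
theorem N7031 : nd 7031 = n16084 := ndS (p := 4200) (l := 6) rfl N4200 D16084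
theorem N7032 : nd 7032 = n16085 := ndS (p := 4201) (l := 5) rfl N4201 D16085
theorem N7033 : nd 7033 = n16086 := ndS (p := 4202) (l := 0) rfl N4202 D16086
theorem N7034 : nd 7034 = n16087 := ndS (p := 4202) (l := 3) rfl N4202 D16087
theorem N7035 : nd 7035 = n16088 := ndS (p := 4202) (l := 5) rfl N4202 D16088
theorem N7036 : nd 7036 = n16089 := ndS (p := 4202) (l := 6) rfl N4202 D16089
theorem N7037 : nd 7037 = n16090 := ndS (p := 4203) (l := 2) rfl N4203 D16090
theorem N7038 : nd 7038 = n16091 := ndS (p := 4203) (l := 4) rfl N4203 D16091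
theorem N7039 : nd 7039 = n16093 := ndS (p := 4204) (l := 3) rfl N4204 D16093
theorem N7040 : nd 7040 = n16094 := ndS (p := 4204) (l := 6) rfl N4204 D16094
theorem N7041 : nd 7041 = n16095 := ndS (p := 4205) (l := 6) rfl N4205 D16095
theorem N7042 : nd 7042 = n16096 := ndS (p := 4206) (l := 1) rfl N4206 D16096
theorem N7043 : nd 7043 = n16098 := ndS (p := 4207) (l := 2) rfl N4207 D16098
theorem N7044 : nd 7044 = n16099 := ndS (p := 4207) (l := 5) rfl N4207 D16099
theorem N7045 : nd 7045 = n16100 := ndS (p := 4208) (l := 1) rfl N4208 D16100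
theorem N7046 : nd 7046 = n16101 := ndS (p := 4208) (l := 2) rfl N4208 D16101
theorem N7047 : nd 7047 = n16102 := ndS (p := 4209) (l := 3) rfl N4209 D16102
theorem N7048 : nd 7048 = n16103 := ndS (p := 4209) (l := 5) rfl N4209 D16103
theorem N7049 : nd 7049 = n16106 := ndS (p := 4211) (l := 6) rfl N4211 D16106
theorem N7050 : nd 7050 = n16107 := ndS (p := 4212) (l := 1) rfl N4212 D16107
theorem N7051 : nd 7051 = n16108 := ndS (p := 4212) (l := 3) rfl N4212 D16108
theorem N7052 : nd 7052 = n16109 := ndS (p := 4212) (l := 5) rfl N4212 D16109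
theorem N7053 : nd 7053 = n16110 := ndS (p := 4214) (l := 2) rfl N4214 D16110
theorem N7054 : nd 7054 = n16111 := ndS (p := 4214) (l := 4) rfl N4214 D16111
theorem N7055 : nd 7055 = n16112 := ndS (p := 4214) (l := 5) rfl N4214 D16112
theorem N7056 : nd 7056 = n16113 := ndS (p := 4215) (l := 1) rfl N4215 D16113
theorem N7057 : nd 7057 = n16114 := ndS (p := 4215) (l := 6) rfl N4215 D16114
theorem N7058 : nd 7058 = n16115 := ndS (p := 4216) (l := 1) rfl N4216 D16115
theorem N7059 : nd 7059 = n16123 := ndS (p := 4217) (l := 6) rfl N4217 D16123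
theorem N7060 : nd 7060 = n16124 := ndS (p := 4218) (l := 5) rfl N4218 D16124
theorem N7061 : nd 7061 = n16125 := ndS (p := 4219) (l := 0) rfl N4219 D16125
theorem N7062 : nd 7062 = n16126 := ndS (p := 4219) (l := 3) rfl N4219 D16126
theorem N7063 : nd 7063 = n16127 := ndS (p := 4219) (l := 5) rfl N4219 D16127
theorem N7064 : nd 7064 = n16128 := ndS (p := 4219) (l := 6) rfl N4219 D16128
theorem N7065 : nd 7065 = n16129 := ndS (p := 4220) (l := 2) rfl N4220 D16129
theorem N7066 : nd 7066 = n16130 := ndS (p := 4220) (l := 4) rfl N4220 D16130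
theorem N7067 : nd 7067 = n16132 := ndS (p := 4221) (l := 3) rfl N4221 D16132
theorem N7068 : nd 7068 = n16134 := ndS (p := 4221) (l := 5) rfl N4221 D16134
theorem N7069 : nd 7069 = n16135 := ndS (p := 4222) (l := 5) rfl N4222 D16135
theorem N7070 : nd 7070 = n16136 := ndS (p := 4223) (l := 1) rfl N4223 D16136
theorem N7071 : nd 7071 = n16138 := ndS (p := 4224) (l := 2) rfl N4224 D16138
theorem N7072 : nd 7072 = n16139 := ndS (p := 4224) (l := 6) rfl N4224 D16139
theorem N7073 : nd 7073 = n16140 := ndS (p := 4225) (l := 1) rfl N4225 D16140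
theorem N7074 : nd 7074 = n16141 := ndS (p := 4225) (l := 2) rfl N4225 D16141
theorem N7075 : nd 7075 = n16142 := ndS (p := 4226) (l := 3) rfl N4226 D16142
theorem N7076 : nd 7076 = n16143 := ndS (p := 4226) (l := 6) rfl N4226 D16143
theorem N7077 : nd 7077 = n16146 := ndS (p := 4228) (l := 5) rfl N4228 D16146
theorem N7078 : nd 7078 = n16147 := ndS (p := 4229) (l := 1) rfl N4229 D16147
theorem N7079 : nd 7079 = n16148 := ndS (p := 4229) (l := 3) rfl N4229 D16148
theorem N7080 : nd 7080 = n16149 := ndS (p := 4229) (l := 6) rfl N4229 D16149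
theorem N7081 : nd 7081 = n16150 := ndS (p := 4231) (l := 2) rfl N4231 D16150
theorem N7082 : nd 7082 = n16151 := ndS (p := 4231) (l := 4) rfl N4231 D16151
theorem N7083 : nd 7083 = n16152 := ndS (p := 4231) (l := 6) rfl N4231 D16152
theorem N7084 : nd 7084 = n16153 := ndS (p := 4232) (l := 1) rfl N4232 D16153
theorem N7085 : nd 7085 = n16154 := ndS (p := 4232) (l := 5) rfl N4232 D16154
theorem N7086 : nd 7086 = n16155 := ndS (p := 4233) (l := 1) rfl N4233 D16155
theorem N7087 : nd 7087 = n16156 := ndS (p := 4234) (l := 6) rfl N4234 D16156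
theorem N7088 : nd 7088 = n16157 := ndS (p := 4235) (l := 1) rfl N4235 D16157
theorem N7089 : nd 7089 = n16158 := ndS (p := 4235) (l := 5) rfl N4235 D16158
theorem N7090 : nd 7090 = n16159 := ndS (p := 4236) (l := 3) rfl N4236 D16159
theorem N7091 : nd 7091 = n16160 := ndS (p := 4236) (l := 5) rfl N4236 D16160
theorem N7092 : nd 7092 = n16161 := ndS (p := 4236) (l := 6) rfl N4236 D16161
theorem N7093 : nd 7093 = n16162 := ndS (p := 4237) (l := 6) rfl N4237 D16162
theorem N7094 : nd 7094 = n16163 := ndS (p := 4238) (l := 1) rfl N4238 D16163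
theorem N7095 : nd 7095 = n16164 := ndS (p := 4239) (l := 0) rfl N4239 D16164
theorem N7096 : nd 7096 = n16165 := ndS (p := 4239) (l := 2) rfl N4239 D16165
theorem N7097 : nd 7097 = n16166 := ndS (p := 4239) (l := 5) rfl N4239 D16166
theorem N7098 : nd 7098 = n16167 := ndS (p := 4240) (l := 1) rfl N4240 D16167
theorem N7099 : nd 7099 = n16168 := ndS (p := 4240) (l := 4) rfl N4240 D16168
theorem N7100 : nd 7100 = n16169 := ndS (p := 4240) (l := 6) rfl N4240 D16169
theorem N7101 : nd 7101 = n16170 := ndS (p := 4241) (l := 6) rfl N4241 D16170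
theorem N7102 : nd 7102 = n16171 := ndS (p := 4242) (l := 1) rfl N4242 D16171
theorem N7103 : nd 7103 = n16172 := ndS (p := 4242) (l := 5) rfl N4242 D16172
theorem N7104 : nd 7104 = n16174 := ndS (p := 4243) (l := 2) rfl N4243 D16174
theorem N7105 : nd 7105 = n16175 := ndS (p := 4243) (l := 5) rfl N4243 D16175
theorem N7106 : nd 7106 = n16176 := ndS (p := 4244) (l := 1) rfl N4244 D16176
theorem N7107 : nd 7107 = n16177 := ndS (p := 4245) (l := 1) rfl N4245 D16177
theorem N7108 : nd 7108 = n16178 := ndS (p := 4245) (l := 2) rfl N4245 D16178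
theorem N7109 : nd 7109 = n16179 := ndS (p := 4246) (l := 3) rfl N4246 D16179
theorem N7110 : nd 7110 = n16180 := ndS (p := 4246) (l := 5) rfl N4246 D16180
theorem N7111 : nd 7111 = n16181 := ndS (p := 4247) (l := 1) rfl N4247 D16181
theorem N7112 : nd 7112 = n16182 := ndS (p := 4248) (l := 0) rfl N4248 D16182
theorem N7113 : nd 7113 = n16183 := ndS (p := 4248) (l := 2) rfl N4248 D16183
theorem N7114 : nd 7114 = n16184 := ndS (p := 4248) (l := 6) rfl N4248 D16184
theorem N7115 : nd 7115 = n16187 := ndS (p := 4249) (l := 5) rfl N4249 D16187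
theorem N7116 : nd 7116 = n16188 := ndS (p := 4249) (l := 6) rfl N4249 D16188
theorem N7117 : nd 7117 = n16189 := ndS (p := 4250) (l := 1) rfl N4250 D16189
theorem N7118 : nd 7118 = n16190 := ndS (p := 4250) (l := 3) rfl N4250 D16190
theorem N7119 : nd 7119 = n16191 := ndS (p := 4250) (l := 5) rfl N4250 D16191
theorem N7120 : nd 7120 = n16192 := ndS (p := 4251) (l := 1) rfl N4251 D16192
theorem N7121 : nd 7121 = n16193 := ndS (p := 4252) (l := 2) rfl N4252 D16193
theorem N7122 : nd 7122 = n16194 := ndS (p := 4252) (l := 4) rfl N4252 D16194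
theorem N7123 : nd 7123 = n16195 := ndS (p := 4252) (l := 5) rfl N4252 D16195
theorem N7124 : nd 7124 = n16196 := ndS (p := 4253) (l := 1) rfl N4253 D16196
theorem N7125 : nd 7125 = n16197 := ndS (p := 4253) (l := 6) rfl N4253 D16197
theorem N7126 : nd 7126 = n16198 := ndS (p := 4254) (l := 1) rfl N4254 D16198
theorem N7127 : nd 7127 = n16199 := ndS (p := 4255) (l := 1) rfl N4255 D16199
theorem N7128 : nd 7128 = n16200 := ndS (p := 4255) (l := 6) rfl N4255 D16200
theorem N7129 : nd 7129 = n16201 := ndS (p := 4256) (l := 5) rfl N4256 D16201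
theorem N7130 : nd 7130 = n16203 := ndS (p := 4257) (l := 3) rfl N4257 D16203
theorem N7131 : nd 7131 = n16204 := ndS (p := 4257) (l := 5) rfl N4257 D16204
theorem N7132 : nd 7132 = n16205 := ndS (p := 4257) (l := 6) rfl N4257 D16205
theorem N7133 : nd 7133 = n16207 := ndS (p := 4258) (l := 5) rfl N4258 D16207
theorem N7134 : nd 7134 = n16208 := ndS (p := 4259) (l := 1) rfl N4259 D16208
theorem N7135 : nd 7135 = n16209 := ndS (p := 4260) (l := 0) rfl N4260 D16209
theorem N7136 : nd 7136 = n16210 := ndS (p := 4260) (l := 2) rfl N4260 D16210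
theorem N7137 : nd 7137 = n16211 := ndS (p := 4260) (l := 6) rfl N4260 D16211
theorem N7138 : nd 7138 = n16212 := ndS (p := 4261) (l := 1) rfl N4261 D16212
theorem N7139 : nd 7139 = n16213 := ndS (p := 4261) (l := 4) rfl N4261 D16213
theorem N7140 : nd 7140 = n16214 := ndS (p := 4261) (l := 5) rfl N4261 D16214
theorem N7141 : nd 7141 = n16215 := ndS (p := 4262) (l := 5) rfl N4262 D16215
theorem N7142 : nd 7142 = n16216 := ndS (p := 4263) (l := 1) rfl N4263 D16216
theorem N7143 : nd 7143 = n16217 := ndS (p := 4263) (l := 6) rfl N4263 D16217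
theorem N7144 : nd 7144 = n16219 := ndS (p := 4264) (l := 2) rfl N4264 D16219
theorem N7145 : nd 7145 = n16220 := ndS (p := 4264) (l := 6) rfl N4264 D16220
theorem N7146 : nd 7146 = n16221 := ndS (p := 4265) (l := 1) rfl N4265 D16221
theorem N7147 : nd 7147 = n16222 := ndS (p := 4266) (l := 1) rfl N4266 D16222
theorem N7148 : nd 7148 = n16223 := ndS (p := 4266) (l := 2) rfl N4266 D16223
theorem N7149 : nd 7149 = n16224 := ndS (p := 4267) (l := 3) rfl N4267 D16224
theorem N7150 : nd 7150 = n16225 := ndS (p := 4267) (l := 6) rfl N4267 D16225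
theorem N7151 : nd 7151 = n16226 := ndS (p := 4268) (l := 1) rfl N4268 D16226
theorem N7152 : nd 7152 = n16227 := ndS (p := 4269) (l := 0) rfl N4269 D16227
theorem N7153 : nd 7153 = n16228 := ndS (p := 4269) (l := 2) rfl N4269 D16228
theorem N7154 : nd 7154 = n16229 := ndS (p := 4269) (l := 5) rfl N4269 D16229
theorem N7155 : nd 7155 = n16232 := ndS (p := 4270) (l := 5) rfl N4270 D16232
theorem N7156 : nd 7156 = n16233 := ndS (p := 4270) (l := 6) rfl N4270 D16233
theorem N7157 : nd 7157 = n16234 := ndS (p := 4271) (l := 1) rfl N4271 D16234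
theorem N7158 : nd 7158 = n16235 := ndS (p := 4271) (l := 3) rfl N4271 D16235
theorem N7159 : nd 7159 = n16236 := ndS (p := 4271) (l := 6) rfl N4271 D16236
theorem N7160 : nd 7160 = n16237 := ndS (p := 4272) (l := 1) rfl N4272 D16237
theorem N7161 : nd 7161 = n16238 := ndS (p := 4273) (l := 2) rfl N4273 D16238
theorem N7162 : nd 7162 = n16239 := ndS (p := 4273) (l := 4) rfl N4273 D16239
theorem N7163 : nd 7163 = n16240 := ndS (p := 4273) (l := 6) rfl N4273 D16240
theorem N7164 : nd 7164 = n16241 := ndS (p := 4274) (l := 1) rfl N4274 D16241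
theorem N7165 : nd 7165 = n16242 := ndS (p := 4274) (l := 5) rfl N4274 D16242
theorem N7166 : nd 7166 = n16243 := ndS (p := 4275) (l := 1) rfl N4275 D16243
theorem N7167 : nd 7167 = n16244 := ndS (p := 4276) (l := 1) rfl N4276 D16244
theorem N7168 : nd 7168 = n16245 := ndS (p := 4277) (l := 1) rfl N4277 D16245
theorem N7169 : nd 7169 = n16246 := ndS (p := 4278) (l := 3) rfl N4278 D16246
theorem N7170 : nd 7170 = n16248 := ndS (p := 4278) (l := 6) rfl N4278 D16248
theorem N7171 : nd 7171 = n16249 := ndS (p := 4279) (l := 4) rfl N4279 D16249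
theorem N7172 : nd 7172 = n16250 := ndS (p := 4279) (l := 5) rfl N4279 D16250
theorem N7173 : nd 7173 = n16251 := ndS (p := 4279) (l := 6) rfl N4279 D16251
theorem N7174 : nd 7174 = n16253 := ndS (p := 4280) (l := 6) rfl N4280 D16253
theorem N7175 : nd 7175 = n16254 := ndS (p := 4281) (l := 1) rfl N4281 D16254
theorem N7176 : nd 7176 = n16255 := ndS (p := 4281) (l := 5) rfl N4281 D16255
theorem N7177 : nd 7177 = n16256 := ndS (p := 4282) (l := 1) rfl N4282 D16256
theorem N7178 : nd 7178 = n16257 := ndS (p := 4283) (l := 0) rfl N4283 D16257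
theorem N7179 : nd 7179 = n16258 := ndS (p := 4283) (l := 2) rfl N4283 D16258
theorem N7180 : nd 7180 = n16259 := ndS (p := 4283) (l := 5) rfl N4283 D16259
theorem N7181 : nd 7181 = n16260 := ndS (p := 4284) (l := 1) rfl N4284 D16260
theorem N7182 : nd 7182 = n16261 := ndS (p := 4285) (l := 5) rfl N4285 D16261
theorem N7183 : nd 7183 = n16262 := ndS (p := 4285) (l := 6) rfl N4285 D16262
theorem N7184 : nd 7184 = n16263 := ndS (p := 4286) (l := 4) rfl N4286 D16263
theorem N7185 : nd 7185 = n16264 := ndS (p := 4286) (l := 5) rfl N4286 D16264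
theorem N7186 : nd 7186 = n16265 := ndS (p := 4286) (l := 6) rfl N4286 D16265
theorem N7187 : nd 7187 = n16266 := ndS (p := 4287) (l := 6) rfl N4287 D16266
theorem N7188 : nd 7188 = n16267 := ndS (p := 4288) (l := 1) rfl N4288 D16267
theorem N7189 : nd 7189 = n16268 := ndS (p := 4288) (l := 5) rfl N4288 D16268
theorem N7190 : nd 7190 = n16269 := ndS (p := 4289) (l := 1) rfl N4289 D16269
theorem N7191 : nd 7191 = n16270 := ndS (p := 4289) (l := 4) rfl N4289 D16270
theorem N7192 : nd 7192 = n16271 := ndS (p := 4289) (l := 6) rfl N4289 D16271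
theorem N7193 : nd 7193 = n16272 := ndS (p := 4290) (l := 6) rfl N4290 D16272
theorem N7194 : nd 7194 = n16273 := ndS (p := 4291) (l := 1) rfl N4291 D16273
theorem N7195 : nd 7195 = n16274 := ndS (p := 4292) (l := 0) rfl N4292 D16274
theorem N7196 : nd 7196 = n16275 := ndS (p := 4292) (l := 2) rfl N4292 D16275
theorem N7197 : nd 7197 = n16276 := ndS (p := 4292) (l := 5) rfl N4292 D16276
theorem N7198 : nd 7198 = n16277 := ndS (p := 4293) (l := 1) rfl N4293 D16277
theorem N7199 : nd 7199 = n16278 := ndS (p := 4293) (l := 2) rfl N4293 D16278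
theorem N7200 : nd 7200 = n16279 := ndS (p := 4293) (l := 5) rfl N4293 D16279
theorem N7201 : nd 7201 = n16280 := ndS (p := 4294) (l := 3) rfl N4294 D16280
theorem N7202 : nd 7202 = n16281 := ndS (p := 4294) (l := 5) rfl N4294 D16281
theorem N7203 : nd 7203 = n16282 := ndS (p := 4296) (l := 0) rfl N4296 D16282
theorem N7204 : nd 7204 = n16283 := ndS (p := 4296) (l := 3) rfl N4296 D16283
theorem N7205 : nd 7205 = n16284 := ndS (p := 4296) (l := 4) rfl N4296 D16284
theorem N7206 : nd 7206 = n16285 := ndS (p := 4296) (l := 5) rfl N4296 D16285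
theorem N7207 : nd 7207 = n16286 := ndS (p := 4296) (l := 6) rfl N4296 D16286
theorem N7208 : nd 7208 = n16287 := ndS (p := 4297) (l := 4) rfl N4297 D16287
theorem N7209 : nd 7209 = n16288 := ndS (p := 4297) (l := 6) rfl N4297 D16288
theorem N7210 : nd 7210 = n16289 := ndS (p := 4298) (l := 6) rfl N4298 D16289
theorem N7211 : nd 7211 = n16290 := ndS (p := 4299) (l := 1) rfl N4299 D16290
theorem N7212 : nd 7212 = n16291 := ndS (p := 4299) (l := 5) rfl N4299 D16291
theorem N7213 : nd 7213 = n16292 := ndS (p := 4300) (l := 1) rfl N4300 D16292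
theorem N7214 : nd 7214 = n16293 := ndS (p := 4300) (l := 5) rfl N4300 D16293
theorem N7215 : nd 7215 = n16294 := ndS (p := 4301) (l := 0) rfl N4301 D16294
theorem N7216 : nd 7216 = n16295 := ndS (p := 4301) (l := 5) rfl N4301 D16295
theorem N7217 : nd 7217 = n16296 := ndS (p := 4302) (l := 1) rfl N4302 D16296
theorem N7218 : nd 7218 = n16297 := ndS (p := 4303) (l := 1) rfl N4303 D16297
theorem N7219 : nd 7219 = n16298 := ndS (p := 4304) (l := 1) rfl N4304 D16298
theorem N7220 : nd 7220 = n16299 := ndS (p := 4305) (l := 0) rfl N4305 D16299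
theorem N7221 : nd 7221 = n16300 := ndS (p := 4305) (l := 2) rfl N4305 D16300
theorem N7222 : nd 7222 = n16301 := ndS (p := 4305) (l := 6) rfl N4305 D16301
theorem N7223 : nd 7223 = n16302 := ndS (p := 4306) (l := 0) rfl N4306 D16302
theorem N7224 : nd 7224 = n16303 := ndS (p := 4306) (l := 2) rfl N4306 D16303
theorem N7225 : nd 7225 = n16304 := ndS (p := 4306) (l := 5) rfl N4306 D16304
theorem N7226 : nd 7226 = n16305 := ndS (p := 4306) (l := 6) rfl N4306 D16305
theorem N7227 : nd 7227 = n16306 := ndS (p := 4307) (l := 1) rfl N4307 D16306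
theorem N7228 : nd 7228 = n16307 := ndS (p := 4307) (l := 3) rfl N4307 D16307
theorem N7229 : nd 7229 = n16308 := ndS (p := 4308) (l := 2) rfl N4308 D16308
theorem N7230 : nd 7230 = n16309 := ndS (p := 4308) (l := 4) rfl N4308 D16309
theorem N7231 : nd 7231 = n16310 := ndS (p := 4308) (l := 5) rfl N4308 D16310
theorem N7232 : nd 7232 = n16311 := ndS (p := 4309) (l := 1) rfl N4309 D16311
theorem N7233 : nd 7233 = n16312 := ndS (p := 4310) (l := 0) rfl N4310 D16312
theorem N7234 : nd 7234 = n16313 := ndS (p := 4310) (l := 2) rfl N4310 D16313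
theorem N7235 : nd 7235 = n16314 := ndS (p := 4310) (l := 6) rfl N4310 D16314
theorem N7236 : nd 7236 = n16315 := ndS (p := 4311) (l := 2) rfl N4311 D16315
theorem N7237 : nd 7237 = n16316 := ndS (p := 4311) (l := 6) rfl N4311 D16316
theorem N7238 : nd 7238 = n16317 := ndS (p := 4312) (l := 3) rfl N4312 D16317
theorem N7239 : nd 7239 = n16318 := ndS (p := 4312) (l := 6) rfl N4312 D16318
theorem N7240 : nd 7240 = n16319 := ndS (p := 4313) (l := 5) rfl N4313 D16319
theorem N7241 : nd 7241 = n16320 := ndS (p := 4314) (l := 2) rfl N4314 D16320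
theorem N7242 : nd 7242 = n16321 := ndS (p := 4314) (l := 5) rfl N4314 D16321
theorem N7243 : nd 7243 = n16322 := ndS (p := 4314) (l := 6) rfl N4314 D16322
theorem N7244 : nd 7244 = n16323 := ndS (p := 4315) (l := 1) rfl N4315 D16323
theorem N7245 : nd 7245 = n16324 := ndS (p := 4315) (l := 3) rfl N4315 D16324
theorem N7246 : nd 7246 = n16325 := ndS (p := 4315) (l := 5) rfl N4315 D16325
theorem N7247 : nd 7247 = n16326 := ndS (p := 4315) (l := 6) rfl N4315 D16326
theorem N7248 : nd 7248 = n16327 := ndS (p := 4316) (l := 1) rfl N4316 D16327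
theorem N7249 : nd 7249 = n16328 := ndS (p := 4317) (l := 5) rfl N4317 D16328
theorem N7250 : nd 7250 = n16329 := ndS (p := 4318) (l := 0) rfl N4318 D16329
theorem N7251 : nd 7251 = n16330 := ndS (p := 4318) (l := 3) rfl N4318 D16330
theorem N7252 : nd 7252 = n16331 := ndS (p := 4318) (l := 5) rfl N4318 D16331
theorem N7253 : nd 7253 = n16332 := ndS (p := 4318) (l := 6) rfl N4318 D16332
theorem N7254 : nd 7254 = n16333 := ndS (p := 4319) (l := 2) rfl N4319 D16333
theorem N7255 : nd 7255 = n16334 := ndS (p := 4319) (l := 4) rfl N4319 D16334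
theorem N7256 : nd 7256 = n16335 := ndS (p := 4319) (l := 5) rfl N4319 D16335
theorem N7257 : nd 7257 = n16336 := ndS (p := 4320) (l := 1) rfl N4320 D16336
theorem N7258 : nd 7258 = n16337 := ndS (p := 4321) (l := 2) rfl N4321 D16337
theorem N7259 : nd 7259 = n16338 := ndS (p := 4322) (l := 1) rfl N4322 D16338
theorem N7260 : nd 7260 = n16339 := ndS (p := 4322) (l := 3) rfl N4322 D16339
theorem N7261 : nd 7261 = n16340 := ndS (p := 4322) (l := 4) rfl N4322 D16340
theorem N7262 : nd 7262 = n16341 := ndS (p := 4322) (l := 5) rfl N4322 D16341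
theorem N7263 : nd 7263 = n16342 := ndS (p := 4323) (l := 5) rfl N4323 D16342
theorem N7264 : nd 7264 = n16343 := ndS (p := 4324) (l := 6) rfl N4324 D16343
theorem N7265 : nd 7265 = n16344 := ndS (p := 4325) (l := 1) rfl N4325 D16344
theorem N7266 : nd 7266 = n16345 := ndS (p := 4326) (l := 0) rfl N4326 D16345
theorem N7267 : nd 7267 = n16346 := ndS (p := 4326) (l := 2) rfl N4326 D16346
theorem N7268 : nd 7268 = n16347 := ndS (p := 4326) (l := 5) rfl N4326 D16347
theorem N7269 : nd 7269 = n16348 := ndS (p := 4327) (l := 1) rfl N4327 D16348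
theorem N7270 : nd 7270 = n16349 := ndS (p := 4328) (l := 1) rfl N4328 D16349
theorem N7271 : nd 7271 = n16350 := ndS (p := 4329) (l := 3) rfl N4329 D16350
theorem N7272 : nd 7272 = n16351 := ndS (p := 4329) (l := 5) rfl N4329 D16351
theorem N7273 : nd 7273 = n16353 := ndS (p := 4330) (l := 4) rfl N4330 D16353
theorem N7274 : nd 7274 = n16354 := ndS (p := 4330) (l := 5) rfl N4330 D16354
theorem N7275 : nd 7275 = n16355 := ndS (p := 4330) (l := 6) rfl N4330 D16355
theorem N7276 : nd 7276 = n16356 := ndS (p := 4331) (l := 1) rfl N4331 D16356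
theorem N7277 : nd 7277 = n16357 := ndS (p := 4331) (l := 6) rfl N4331 D16357
theorem N7278 : nd 7278 = n16359 := ndS (p := 4332) (l := 5) rfl N4332 D16359
theorem N7279 : nd 7279 = n16360 := ndS (p := 4333) (l := 0) rfl N4333 D16360
theorem N7280 : nd 7280 = n16361 := ndS (p := 4333) (l := 2) rfl N4333 D16361
theorem N7281 : nd 7281 = n16362 := ndS (p := 4333) (l := 6) rfl N4333 D16362
theorem N7282 : nd 7282 = n16363 := ndS (p := 4335) (l := 1) rfl N4335 D16363
theorem N7283 : nd 7283 = n16364 := ndS (p := 4336) (l := 5) rfl N4336 D16364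
theorem N7284 : nd 7284 = n16365 := ndS (p := 4336) (l := 6) rfl N4336 D16365
theorem N7285 : nd 7285 = n16366 := ndS (p := 4337) (l := 4) rfl N4337 D16366
theorem N7286 : nd 7286 = n16367 := ndS (p := 4337) (l := 5) rfl N4337 D16367
theorem N7287 : nd 7287 = n16368 := ndS (p := 4337) (l := 6) rfl N4337 D16368
theorem N7288 : nd 7288 = n16369 := ndS (p := 4338) (l := 1) rfl N4338 D16369
theorem N7289 : nd 7289 = n16370 := ndS (p := 4338) (l := 6) rfl N4338 D16370
theorem N7290 : nd 7290 = n16371 := ndS (p := 4339) (l := 5) rfl N4339 D16371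
theorem N7291 : nd 7291 = n16372 := ndS (p := 4340) (l := 1) rfl N4340 D16372
theorem N7292 : nd 7292 = n16373 := ndS (p := 4340) (l := 4) rfl N4340 D16373
theorem N7293 : nd 7293 = n16374 := ndS (p := 4340) (l := 5) rfl N4340 D16374
theorem N7294 : nd 7294 = n16375 := ndS (p := 4341) (l := 5) rfl N4341 D16375
theorem N7295 : nd 7295 = n16376 := ndS (p := 4342) (l := 1) rfl N4342 D16376
theorem N7296 : nd 7296 = n16377 := ndS (p := 4343) (l := 0) rfl N4343 D16377
theorem N7297 : nd 7297 = n16378 := ndS (p := 4343) (l := 2) rfl N4343 D16378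
theorem N7298 : nd 7298 = n16379 := ndS (p := 4343) (l := 6) rfl N4343 D16379
theorem N7299 : nd 7299 = n16380 := ndS (p := 4344) (l := 1) rfl N4344 D16380
theorem N7300 : nd 7300 = n16381 := ndS (p := 4344) (l := 2) rfl N4344 D16381
theorem N7301 : nd 7301 = n16382 := ndS (p := 4345) (l := 3) rfl N4345 D16382
theorem N7302 : nd 7302 = n16383 := ndS (p := 4345) (l := 6) rfl N4345 D16383
theorem N7303 : nd 7303 = n16384 := ndS (p := 4347) (l := 0) rfl N4347 D16384
theorem N7304 : nd 7304 = n16385 := ndS (p := 4347) (l := 3) rfl N4347 D16385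
theorem N7305 : nd 7305 = n16386 := ndS (p := 4347) (l := 4) rfl N4347 D16386
theorem N7306 : nd 7306 = n16387 := ndS (p := 4347) (l := 5) rfl N4347 D16387
theorem N7307 : nd 7307 = n16388 := ndS (p := 4347) (l := 6) rfl N4347 D16388
theorem N7308 : nd 7308 = n16389 := ndS (p := 4348) (l := 4) rfl N4348 D16389
theorem N7309 : nd 7309 = n16390 := ndS (p := 4348) (l := 5) rfl N4348 D16390
theorem N7310 : nd 7310 = n16392 := ndS (p := 4349) (l := 5) rfl N4349 D16392
theorem N7311 : nd 7311 = n16393 := ndS (p := 4350) (l := 1) rfl N4350 D16393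
theorem N7312 : nd 7312 = n16394 := ndS (p := 4350) (l := 6) rfl N4350 D16394
theorem N7313 : nd 7313 = n16395 := ndS (p := 4351) (l := 1) rfl N4351 D16395
theorem N7314 : nd 7314 = n16396 := ndS (p := 4351) (l := 6) rfl N4351 D16396
theorem N7315 : nd 7315 = n16397 := ndS (p := 4352) (l := 0) rfl N4352 D16397
theorem N7316 : nd 7316 = n16398 := ndS (p := 4352) (l := 6) rfl N4352 D16398
theorem N7317 : nd 7317 = n16399 := ndS (p := 4353) (l := 1) rfl N4353 D16399
theorem N7318 : nd 7318 = n16400 := ndS (p := 4354) (l := 1) rfl N4354 D16400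
theorem N7319 : nd 7319 = n16401 := ndS (p := 4355) (l := 1) rfl N4355 D16401
theorem N7320 : nd 7320 = n16402 := ndS (p := 4356) (l := 0) rfl N4356 D16402
theorem N7321 : nd 7321 = n16403 := ndS (p := 4356) (l := 2) rfl N4356 D16403
theorem N7322 : nd 7322 = n16404 := ndS (p := 4356) (l := 5) rfl N4356 D16404
theorem N7323 : nd 7323 = n16405 := ndS (p := 4357) (l := 0) rfl N4357 D16405
theorem N7324 : nd 7324 = n16406 := ndS (p := 4357) (l := 2) rfl N4357 D16406
theorem N7325 : nd 7325 = n16407 := ndS (p := 4357) (l := 5) rfl N4357 D16407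
theorem N7326 : nd 7326 = n16408 := ndS (p := 4357) (l := 6) rfl N4357 D16408
theorem N7327 : nd 7327 = n16409 := ndS (p := 4358) (l := 1) rfl N4358 D16409
theorem N7328 : nd 7328 = n16410 := ndS (p := 4358) (l := 3) rfl N4358 D16410
theorem N7329 : nd 7329 = n16411 := ndS (p := 4359) (l := 2) rfl N4359 D16411
theorem N7330 : nd 7330 = n16412 := ndS (p := 4359) (l := 4) rfl N4359 D16412
theorem N7331 : nd 7331 = n16413 := ndS (p := 4359) (l := 6) rfl N4359 D16413
theorem N7332 : nd 7332 = n16414 := ndS (p := 4360) (l := 1) rfl N4360 D16414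
theorem N7333 : nd 7333 = n16415 := ndS (p := 4361) (l := 0) rfl N4361 D16415
theorem N7334 : nd 7334 = n16416 := ndS (p := 4361) (l := 2) rfl N4361 D16416
theorem N7335 : nd 7335 = n16417 := ndS (p := 4361) (l := 5) rfl N4361 D16417
theorem N7336 : nd 7336 = n16418 := ndS (p := 4362) (l := 2) rfl N4362 D16418
theorem N7337 : nd 7337 = n16419 := ndS (p := 4362) (l := 5) rfl N4362 D16419
theorem N7338 : nd 7338 = n16420 := ndS (p := 4363) (l := 3) rfl N4363 D16420
theorem N7339 : nd 7339 = n16421 := ndS (p := 4363) (l := 5) rfl N4363 D16421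
theorem N7340 : nd 7340 = n16422 := ndS (p := 4364) (l := 6) rfl N4364 D16422
theorem N7341 : nd 7341 = n16423 := ndS (p := 4365) (l := 2) rfl N4365 D16423
theorem N7342 : nd 7342 = n16424 := ndS (p := 4365) (l := 5) rfl N4365 D16424
theorem N7343 : nd 7343 = n16425 := ndS (p := 4365) (l := 6) rfl N4365 D16425
theorem N7344 : nd 7344 = n16426 := ndS (p := 4366) (l := 1) rfl N4366 D16426
theorem N7345 : nd 7345 = n16427 := ndS (p := 4366) (l := 3) rfl N4366 D16427
theorem N7346 : nd 7346 = n16428 := ndS (p := 4366) (l := 5) rfl N4366 D16428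
theorem N7347 : nd 7347 = n16429 := ndS (p := 4366) (l := 6) rfl N4366 D16429
theorem N7348 : nd 7348 = n16430 := ndS (p := 4367) (l := 6) rfl N4367 D16430
theorem N7349 : nd 7349 = n16431 := ndS (p := 4368) (l := 1) rfl N4368 D16431
theorem N7350 : nd 7350 = n16432 := ndS (p := 4369) (l := 0) rfl N4369 D16432
theorem N7351 : nd 7351 = n16433 := ndS (p := 4369) (l := 3) rfl N4369 D16433
theorem N7352 : nd 7352 = n16434 := ndS (p := 4369) (l := 5) rfl N4369 D16434
theorem N7353 : nd 7353 = n16435 := ndS (p := 4369) (l := 6) rfl N4369 D16435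
theorem N7354 : nd 7354 = n16436 := ndS (p := 4370) (l := 2) rfl N4370 D16436
theorem N7355 : nd 7355 = n16437 := ndS (p := 4370) (l := 4) rfl N4370 D16437
theorem N7356 : nd 7356 = n16438 := ndS (p := 4370) (l := 6) rfl N4370 D16438
theorem N7357 : nd 7357 = n16439 := ndS (p := 4371) (l := 1) rfl N4371 D16439
theorem N7358 : nd 7358 = n16440 := ndS (p := 4372) (l := 2) rfl N4372 D16440
theorem N7359 : nd 7359 = n16441 := ndS (p := 4373) (l := 1) rfl N4373 D16441
theorem N7360 : nd 7360 = n16442 := ndS (p := 4373) (l := 3) rfl N4373 D16442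
theorem N7361 : nd 7361 = n16443 := ndS (p := 4373) (l := 4) rfl N4373 D16443
theorem N7362 : nd 7362 = n16444 := ndS (p := 4373) (l := 6) rfl N4373 D16444
theorem N7363 : nd 7363 = n16445 := ndS (p := 4374) (l := 6) rfl N4374 D16445
theorem N7364 : nd 7364 = n16446 := ndS (p := 4375) (l := 5) rfl N4375 D16446
theorem N7365 : nd 7365 = n16447 := ndS (p := 4376) (l := 1) rfl N4376 D16447
theorem N7366 : nd 7366 = n16448 := ndS (p := 4377) (l := 0) rfl N4377 D16448
theorem N7367 : nd 7367 = n16449 := ndS (p := 4377) (l := 2) rfl N4377 D16449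
theorem N7368 : nd 7368 = n16450 := ndS (p := 4377) (l := 6) rfl N4377 D16450
theorem N7369 : nd 7369 = n16451 := ndS (p := 4378) (l := 1) rfl N4378 D16451
theorem N7370 : nd 7370 = n16452 := ndS (p := 4378) (l := 4) rfl N4378 D16452
theorem N7371 : nd 7371 = n16453 := ndS (p := 4378) (l := 5) rfl N4378 D16453
theorem N7372 : nd 7372 = n16454 := ndS (p := 4379) (l := 5) rfl N4379 D16454
theorem N7373 : nd 7373 = n16455 := ndS (p := 4380) (l := 6) rfl N4380 D16455
theorem N7374 : nd 7374 = n16456 := ndS (p := 4381) (l := 0) rfl N4381 D16456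
theorem N7375 : nd 7375 = n16457 := ndS (p := 4381) (l := 2) rfl N4381 D16457
theorem N7376 : nd 7376 = n16458 := ndS (p := 4381) (l := 6) rfl N4381 D16458
theorem N7377 : nd 7377 = n16459 := ndS (p := 4383) (l := 1) rfl N4383 D16459
theorem N7378 : nd 7378 = n16460 := ndS (p := 4384) (l := 1) rfl N4384 D16460
theorem N7379 : nd 7379 = n16461 := ndS (p := 4384) (l := 3) rfl N4384 D16461
theorem N7380 : nd 7380 = n16462 := ndS (p := 4385) (l := 0) rfl N4385 D16462
theorem N7381 : nd 7381 = n16463 := ndS (p := 4385) (l := 3) rfl N4385 D16463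
theorem N7382 : nd 7382 = n16464 := ndS (p := 4385) (l := 5) rfl N4385 D16464
theorem N7383 : nd 7383 = n16465 := ndS (p := 4385) (l := 6) rfl N4385 D16465
theorem N7384 : nd 7384 = n16466 := ndS (p := 4386) (l := 2) rfl N4386 D16466
theorem N7385 : nd 7385 = n16467 := ndS (p := 4386) (l := 4) rfl N4386 D16467
theorem N7386 : nd 7386 = n16468 := ndS (p := 4387) (l := 1) rfl N4387 D16468
theorem N7387 : nd 7387 = n16469 := ndS (p := 4387) (l := 3) rfl N4387 D16469
theorem N7388 : nd 7388 = n16470 := ndS (p := 4387) (l := 5) rfl N4387 D16470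
theorem N7389 : nd 7389 = n16471 := ndS (p := 4387) (l := 6) rfl N4387 D16471
theorem N7390 : nd 7390 = n16472 := ndS (p := 4388) (l := 2) rfl N4388 D16472
theorem N7391 : nd 7391 = n16473 := ndS (p := 4388) (l := 4) rfl N4388 D16473
theorem N7392 : nd 7392 = n16474 := ndS (p := 4388) (l := 5) rfl N4388 D16474
theorem N7393 : nd 7393 = n16475 := ndS (p := 4388) (l := 6) rfl N4388 D16475
theorem N7394 : nd 7394 = n16476 := ndS (p := 4389) (l := 6) rfl N4389 D16476
theorem N7395 : nd 7395 = n16477 := ndS (p := 4390) (l := 5) rfl N4390 D16477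
theorem N7396 : nd 7396 = n16478 := ndS (p := 4392) (l := 0) rfl N4392 D16478
theorem N7397 : nd 7397 = n16479 := ndS (p := 4392) (l := 4) rfl N4392 D16479
theorem N7398 : nd 7398 = n16480 := ndS (p := 4392) (l := 5) rfl N4392 D16480
theorem N7399 : nd 7399 = n16481 := ndS (p := 4392) (l := 6) rfl N4392 D16481
theorem N7400 : nd 7400 = n16482 := ndS (p := 4394) (l := 1) rfl N4394 D16482
theorem N7401 : nd 7401 = n16483 := ndS (p := 4394) (l := 4) rfl N4394 D16483
theorem N7402 : nd 7402 = n16484 := ndS (p := 4394) (l := 6) rfl N4394 D16484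
theorem N7403 : nd 7403 = n16485 := ndS (p := 4395) (l := 6) rfl N4395 D16485
theorem N7404 : nd 7404 = n16486 := ndS (p := 4396) (l := 5) rfl N4396 D16486
theorem N7405 : nd 7405 = n16487 := ndS (p := 4397) (l := 0) rfl N4397 D16487
theorem N7406 : nd 7406 = n16488 := ndS (p := 4397) (l := 2) rfl N4397 D16488
theorem N7407 : nd 7407 = n16489 := ndS (p := 4397) (l := 5) rfl N4397 D16489
theorem N7408 : nd 7408 = n16492 := ndS (p := 4399) (l := 1) rfl N4399 D16492
theorem N7409 : nd 7409 = n16493 := ndS (p := 4400) (l := 1) rfl N4400 D16493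
theorem N7410 : nd 7410 = n16494 := ndS (p := 4400) (l := 3) rfl N4400 D16494
theorem N7411 : nd 7411 = n16495 := ndS (p := 4401) (l := 0) rfl N4401 D16495
theorem N7412 : nd 7412 = n16496 := ndS (p := 4401) (l := 3) rfl N4401 D16496
theorem N7413 : nd 7413 = n16497 := ndS (p := 4401) (l := 5) rfl N4401 D16497
theorem N7414 : nd 7414 = n16498 := ndS (p := 4401) (l := 6) rfl N4401 D16498
theorem N7415 : nd 7415 = n16499 := ndS (p := 4402) (l := 2) rfl N4402 D16499
theorem N7416 : nd 7416 = n16500 := ndS (p := 4402) (l := 4) rfl N4402 D16500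
theorem N7417 : nd 7417 = n16501 := ndS (p := 4403) (l := 1) rfl N4403 D16501
theorem N7418 : nd 7418 = n16502 := ndS (p := 4403) (l := 3) rfl N4403 D16502
theorem N7419 : nd 7419 = n16503 := ndS (p := 4403) (l := 5) rfl N4403 D16503
theorem N7420 : nd 7420 = n16504 := ndS (p := 4403) (l := 6) rfl N4403 D16504
theorem N7421 : nd 7421 = n16505 := ndS (p := 4404) (l := 2) rfl N4404 D16505
theorem N7422 : nd 7422 = n16506 := ndS (p := 4404) (l := 4) rfl N4404 D16506
theorem N7423 : nd 7423 = n16507 := ndS (p := 4404) (l := 5) rfl N4404 D16507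
theorem N7424 : nd 7424 = n16508 := ndS (p := 4404) (l := 6) rfl N4404 D16508
theorem N7425 : nd 7425 = n16509 := ndS (p := 4405) (l := 6) rfl N4405 D16509
theorem N7426 : nd 7426 = n16510 := ndS (p := 4406) (l := 5) rfl N4406 D16510
theorem N7427 : nd 7427 = n16511 := ndS (p := 4408) (l := 0) rfl N4408 D16511
theorem N7428 : nd 7428 = n16512 := ndS (p := 4408) (l := 4) rfl N4408 D16512
theorem N7429 : nd 7429 = n16513 := ndS (p := 4408) (l := 5) rfl N4408 D16513
theorem N7430 : nd 7430 = n16514 := ndS (p := 4408) (l := 6) rfl N4408 D16514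
theorem N7431 : nd 7431 = n16515 := ndS (p := 4410) (l := 3) rfl N4410 D16515
theorem N7432 : nd 7432 = n16516 := ndS (p := 4411) (l := 2) rfl N4411 D16516
theorem N7433 : nd 7433 = n16518 := ndS (p := 4412) (l := 1) rfl N4412 D16518
theorem N7434 : nd 7434 = n16519 := ndS (p := 4412) (l := 3) rfl N4412 D16519
theorem N7435 : nd 7435 = n16521 := ndS (p := 4413) (l := 3) rfl N4413 D16521
theorem N7436 : nd 7436 = n16522 := ndS (p := 4414) (l := 2) rfl N4414 D16522
theorem N7437 : nd 7437 = n16524 := ndS (p := 4415) (l := 1) rfl N4415 D16524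
theorem N7438 : nd 7438 = n16525 := ndS (p := 4415) (l := 3) rfl N4415 D16525
theorem N7439 : nd 7439 = n16535 := ndS (p := 4416) (l := 4) rfl N4416 D16535
theorem N7440 : nd 7440 = n16536 := ndS (p := 4416) (l := 5) rfl N4416 D16536
theorem N7441 : nd 7441 = n16537 := ndS (p := 4416) (l := 6) rfl N4416 D16537
theorem N7442 : nd 7442 = n16543 := ndS (p := 4420) (l := 2) rfl N4420 D16543
theorem N7443 : nd 7443 = n16544 := ndS (p := 4420) (l := 6) rfl N4420 D16544
theorem N7444 : nd 7444 = n16546 := ndS (p := 4421) (l := 2) rfl N4421 D16546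
theorem N7445 : nd 7445 = n16547 := ndS (p := 4421) (l := 5) rfl N4421 D16547
theorem N7446 : nd 7446 = n16548 := ndS (p := 4422) (l := 2) rfl N4422 D16548
theorem N7447 : nd 7447 = n16549 := ndS (p := 4423) (l := 3) rfl N4423 D16549
theorem N7448 : nd 7448 = n16550 := ndS (p := 4423) (l := 6) rfl N4423 D16550
theorem N7449 : nd 7449 = n16551 := ndS (p := 4425) (l := 2) rfl N4425 D16551
theorem N7450 : nd 7450 = n16552 := ndS (p := 4426) (l := 3) rfl N4426 D16552
theorem N7451 : nd 7451 = n16553 := ndS (p := 4426) (l := 5) rfl N4426 D16553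
theorem N7452 : nd 7452 = n16555 := ndS (p := 4428) (l := 3) rfl N4428 D16555
theorem N7453 : nd 7453 = n16556 := ndS (p := 4428) (l := 4) rfl N4428 D16556
theorem N7454 : nd 7454 = n16559 := ndS (p := 4429) (l := 5) rfl N4429 D16559
theorem N7455 : nd 7455 = n16560 := ndS (p := 4429) (l := 6) rfl N4429 D16560
theorem N7456 : nd 7456 = n16561 := ndS (p := 4430) (l := 3) rfl N4430 D16561
theorem N7457 : nd 7457 = n16562 := ndS (p := 4430) (l := 5) rfl N4430 D16562
theorem N7458 : nd 7458 = n16563 := ndS (p := 4430) (l := 6) rfl N4430 D16563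
theorem N7459 : nd 7459 = n16565 := ndS (p := 4431) (l := 6) rfl N4431 D16565
theorem N7460 : nd 7460 = n16567 := ndS (p := 4432) (l := 5) rfl N4432 D16567
theorem N7461 : nd 7461 = n16568 := ndS (p := 4433) (l := 1) rfl N4433 D16568
theorem N7462 : nd 7462 = n16569 := ndS (p := 4433) (l := 6) rfl N4433 D16569
theorem N7463 : nd 7463 = n16570 := ndS (p := 4434) (l := 1) rfl N4434 D16570
theorem N7464 : nd 7464 = n16571 := ndS (p := 4434) (l := 5) rfl N4434 D16571
theorem N7465 : nd 7465 = n16573 := ndS (p := 4435) (l := 6) rfl N4435 D16573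
theorem N7466 : nd 7466 = n16574 := ndS (p := 4436) (l := 1) rfl N4436 D16574
theorem N7467 : nd 7467 = n16577 := ndS (p := 4437) (l := 5) rfl N4437 D16577
theorem N7468 : nd 7468 = n16578 := ndS (p := 4438) (l := 1) rfl N4438 D16578
theorem N7469 : nd 7469 = n16579 := ndS (p := 4439) (l := 3) rfl N4439 D16579
theorem N7470 : nd 7470 = n16580 := ndS (p := 4439) (l := 6) rfl N4439 D16580
theorem N7471 : nd 7471 = n16581 := ndS (p := 4440) (l := 1) rfl N4440 D16581
theorem N7472 : nd 7472 = n16582 := ndS (p := 4441) (l := 0) rfl N4441 D16582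
theorem N7473 : nd 7473 = n16583 := ndS (p := 4441) (l := 2) rfl N4441 D16583
theorem N7474 : nd 7474 = n16587 := ndS (p := 4442) (l := 3) rfl N4442 D16587
theorem N7475 : nd 7475 = n16588 := ndS (p := 4442) (l := 5) rfl N4442 D16588
theorem N7476 : nd 7476 = n16589 := ndS (p := 4443) (l := 1) rfl N4443 D16589
theorem N7477 : nd 7477 = n16590 := ndS (p := 4444) (l := 0) rfl N4444 D16590
theorem N7478 : nd 7478 = n16591 := ndS (p := 4444) (l := 2) rfl N4444 D16591
theorem N7479 : nd 7479 = n16592 := ndS (p := 4445) (l := 2) rfl N4445 D16592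
theorem N7480 : nd 7480 = n16593 := ndS (p := 4446) (l := 3) rfl N4446 D16593
theorem N7481 : nd 7481 = n16594 := ndS (p := 4447) (l := 4) rfl N4447 D16594
theorem N7482 : nd 7482 = n16595 := ndS (p := 4447) (l := 6) rfl N4447 D16595
theorem N7483 : nd 7483 = n16597 := ndS (p := 4449) (l := 2) rfl N4449 D16597
theorem N7484 : nd 7484 = n16598 := ndS (p := 4450) (l := 2) rfl N4450 D16598
theorem N7485 : nd 7485 = n16599 := ndS (p := 4451) (l := 3) rfl N4451 D16599
theorem N7486 : nd 7486 = n16600 := ndS (p := 4451) (l := 5) rfl N4451 D16600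
theorem N7487 : nd 7487 = n16601 := ndS (p := 4452) (l := 6) rfl N4452 D16601
theorem N7488 : nd 7488 = n16602 := ndS (p := 4453) (l := 2) rfl N4453 D16602
theorem N7489 : nd 7489 = n16604 := ndS (p := 4454) (l := 3) rfl N4454 D16604
theorem N7490 : nd 7490 = n16606 := ndS (p := 4455) (l := 4) rfl N4455 D16606
theorem N7491 : nd 7491 = n16607 := ndS (p := 4455) (l := 5) rfl N4455 D16607
theorem N7492 : nd 7492 = n16609 := ndS (p := 4457) (l := 2) rfl N4457 D16609
theorem N7493 : nd 7493 = n16610 := ndS (p := 4458) (l := 2) rfl N4458 D16610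
theorem N7494 : nd 7494 = n16611 := ndS (p := 4459) (l := 3) rfl N4459 D16611
theorem N7495 : nd 7495 = n16612 := ndS (p := 4459) (l := 6) rfl N4459 D16612
theorem N7496 : nd 7496 = n16613 := ndS (p := 4460) (l := 5) rfl N4460 D16613
theorem N7497 : nd 7497 = n16614 := ndS (p := 4462) (l := 1) rfl N4462 D16614
theorem N7498 : nd 7498 = n16615 := ndS (p := 4462) (l := 6) rfl N4462 D16615
theorem N7499 : nd 7499 = n16616 := ndS (p := 4465) (l := 0) rfl N4465 D16616
theorem N7500 : nd 7500 = n16617 := ndS (p := 4465) (l := 3) rfl N4465 D16617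
theorem N7501 : nd 7501 = n16618 := ndS (p := 4465) (l := 6) rfl N4465 D16618
theorem N7502 : nd 7502 = n16619 := ndS (p := 4466) (l := 4) rfl N4466 D16619
theorem N7503 : nd 7503 = n16620 := ndS (p := 4466) (l := 6) rfl N4466 D16620
theorem N7504 : nd 7504 = n16621 := ndS (p := 4467) (l := 1) rfl N4467 D16621
theorem N7505 : nd 7505 = n16622 := ndS (p := 4468) (l := 2) rfl N4468 D16622
theorem N7506 : nd 7506 = n16623 := ndS (p := 4469) (l := 6) rfl N4469 D16623
theorem N7507 : nd 7507 = n16624 := ndS (p := 4470) (l := 1) rfl N4470 D16624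
theorem N7508 : nd 7508 = n16625 := ndS (p := 4470) (l := 5) rfl N4470 D16625
theorem N7509 : nd 7509 = n16627 := ndS (p := 4471) (l := 5) rfl N4471 D16627
theorem N7510 : nd 7510 = n16628 := ndS (p := 4472) (l := 1) rfl N4472 D16628
theorem N7511 : nd 7511 = n16630 := ndS (p := 4474) (l := 1) rfl N4474 D16630
theorem N7512 : nd 7512 = n16632 := ndS (p := 4474) (l := 5) rfl N4474 D16632
theorem N7513 : nd 7513 = n16634 := ndS (p := 4477) (l := 0) rfl N4477 D16634
theorem N7514 : nd 7514 = n16635 := ndS (p := 4477) (l := 3) rfl N4477 D16635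
theorem N7515 : nd 7515 = n16636 := ndS (p := 4477) (l := 5) rfl N4477 D16636
theorem N7516 : nd 7516 = n16639 := ndS (p := 4478) (l := 4) rfl N4478 D16639
theorem N7517 : nd 7517 = n16640 := ndS (p := 4478) (l := 5) rfl N4478 D16640
theorem N7518 : nd 7518 = n16641 := ndS (p := 4479) (l := 1) rfl N4479 D16641
theorem N7519 : nd 7519 = n16642 := ndS (p := 4480) (l := 2) rfl N4480 D16642
theorem N7520 : nd 7520 = n16647 := ndS (p := 4481) (l := 5) rfl N4481 D16647
theorem N7521 : nd 7521 = n16648 := ndS (p := 4482) (l := 1) rfl N4482 D16648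
theorem N7522 : nd 7522 = n16649 := ndS (p := 4482) (l := 6) rfl N4482 D16649
theorem N7523 : nd 7523 = n16651 := ndS (p := 4483) (l := 6) rfl N4483 D16651
theorem N7524 : nd 7524 = n16652 := ndS (p := 4484) (l := 1) rfl N4484 D16652
theorem N7525 : nd 7525 = n16653 := ndS (p := 4486) (l := 0) rfl N4486 D16653
theorem N7526 : nd 7526 = n16654 := ndS (p := 4486) (l := 6) rfl N4486 D16654
theorem N7527 : nd 7527 = n16655 := ndS (p := 4487) (l := 1) rfl N4487 D16655
theorem N7528 : nd 7528 = n16656 := ndS (p := 4490) (l := 1) rfl N4490 D16656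
theorem N7529 : nd 7529 = n16657 := ndS (p := 4490) (l := 3) rfl N4490 D16657
theorem N7530 : nd 7530 = n16658 := ndS (p := 4490) (l := 5) rfl N4490 D16658
theorem N7531 : nd 7531 = n16659 := ndS (p := 4490) (l := 6) rfl N4490 D16659
theorem N7532 : nd 7532 = n16660 := ndS (p := 4491) (l := 2) rfl N4491 D16660
theorem N7533 : nd 7533 = n16661 := ndS (p := 4491) (l := 4) rfl N4491 D16661
theorem N7534 : nd 7534 = n16662 := ndS (p := 4491) (l := 5) rfl N4491 D16662
theorem N7535 : nd 7535 = n16663 := ndS (p := 4491) (l := 6) rfl N4491 D16663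
theorem N7536 : nd 7536 = n16664 := ndS (p := 4492) (l := 6) rfl N4492 D16664
theorem N7537 : nd 7537 = n16665 := ndS (p := 4493) (l := 5) rfl N4493 D16665
theorem N7538 : nd 7538 = n16666 := ndS (p := 4494) (l := 4) rfl N4494 D16666
theorem N7539 : nd 7539 = n16667 := ndS (p := 4496) (l := 3) rfl N4496 D16667
theorem N7540 : nd 7540 = n16668 := ndS (p := 4497) (l := 4) rfl N4497 D16668
theorem N7541 : nd 7541 = n16669 := ndS (p := 4500) (l := 1) rfl N4500 D16669
theorem N7542 : nd 7542 = n16670 := ndS (p := 4501) (l := 2) rfl N4501 D16670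
theorem N7543 : nd 7543 = n16671 := ndS (p := 4501) (l := 5) rfl N4501 D16671
theorem N7544 : nd 7544 = n16672 := ndS (p := 4502) (l := 3) rfl N4502 D16672
theorem N7545 : nd 7545 = n16673 := ndS (p := 4502) (l := 5) rfl N4502 D16673
theorem N7546 : nd 7546 = n16674 := ndS (p := 4504) (l := 2) rfl N4504 D16674
theorem N7547 : nd 7547 = n16675 := ndS (p := 4504) (l := 6) rfl N4504 D16675
theorem N7548 : nd 7548 = n16676 := ndS (p := 4505) (l := 1) rfl N4505 D16676
theorem N7549 : nd 7549 = n16677 := ndS (p := 4505) (l := 3) rfl N4505 D16677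
theorem N7550 : nd 7550 = n16678 := ndS (p := 4506) (l := 2) rfl N4506 D16678
theorem N7551 : nd 7551 = n16679 := ndS (p := 4506) (l := 4) rfl N4506 D16679
theorem N7552 : nd 7552 = n16680 := ndS (p := 4506) (l := 5) rfl N4506 D16680
theorem N7553 : nd 7553 = n16681 := ndS (p := 4507) (l := 1) rfl N4507 D16681
theorem N7554 : nd 7554 = n16683 := ndS (p := 4509) (l := 1) rfl N4509 D16683
theorem N7555 : nd 7555 = n16685 := ndS (p := 4511) (l := 0) rfl N4511 D16685
theorem N7556 : nd 7556 = n16686 := ndS (p := 4511) (l := 3) rfl N4511 D16686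
theorem N7557 : nd 7557 = n16687 := ndS (p := 4511) (l := 5) rfl N4511 D16687
theorem N7558 : nd 7558 = n16688 := ndS (p := 4511) (l := 6) rfl N4511 D16688
theorem N7559 : nd 7559 = n16689 := ndS (p := 4512) (l := 2) rfl N4512 D16689
theorem N7560 : nd 7560 = n16690 := ndS (p := 4512) (l := 4) rfl N4512 D16690
theorem N7561 : nd 7561 = n16691 := ndS (p := 4512) (l := 5) rfl N4512 D16691
theorem N7562 : nd 7562 = n16692 := ndS (p := 4513) (l := 1) rfl N4513 D16692
theorem N7563 : nd 7563 = n16696 := ndS (p := 4514) (l := 5) rfl N4514 D16696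
theorem N7564 : nd 7564 = n16697 := ndS (p := 4515) (l := 5) rfl N4515 D16697
theorem N7565 : nd 7565 = n16698 := ndS (p := 4516) (l := 1) rfl N4516 D16698
theorem N7566 : nd 7566 = n16699 := ndS (p := 4516) (l := 6) rfl N4516 D16699
theorem N7567 : nd 7567 = n16701 := ndS (p := 4517) (l := 6) rfl N4517 D16701
theorem N7568 : nd 7568 = n16702 := ndS (p := 4518) (l := 1) rfl N4518 D16702
theorem N7569 : nd 7569 = n16703 := ndS (p := 4519) (l := 2) rfl N4519 D16703
theorem N7570 : nd 7570 = n16708 := ndS (p := 4521) (l := 0) rfl N4521 D16708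
theorem N7571 : nd 7571 = n16710 := ndS (p := 4521) (l := 5) rfl N4521 D16710
theorem N7572 : nd 7572 = n16716 := ndS (p := 4522) (l := 1) rfl N4522 D16716
theorem N7573 : nd 7573 = n16720 := ndS (p := 4525) (l := 1) rfl N4525 D16720
theorem N7574 : nd 7574 = n16721 := ndS (p := 4525) (l := 3) rfl N4525 D16721
theorem N7575 : nd 7575 = n16722 := ndS (p := 4525) (l := 5) rfl N4525 D16722
theorem N7576 : nd 7576 = n16723 := ndS (p := 4525) (l := 6) rfl N4525 D16723
theorem N7577 : nd 7577 = n16724 := ndS (p := 4526) (l := 2) rfl N4526 D16724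
theorem N7578 : nd 7578 = n16725 := ndS (p := 4526) (l := 4) rfl N4526 D16725
theorem N7579 : nd 7579 = n16726 := ndS (p := 4526) (l := 5) rfl N4526 D16726
theorem N7580 : nd 7580 = n16727 := ndS (p := 4526) (l := 6) rfl N4526 D16727
theorem N7581 : nd 7581 = n16728 := ndS (p := 4527) (l := 6) rfl N4527 D16728
theorem N7582 : nd 7582 = n16729 := ndS (p := 4528) (l := 5) rfl N4528 D16729
theorem N7583 : nd 7583 = n16731 := ndS (p := 4529) (l := 4) rfl N4529 D16731
theorem N7584 : nd 7584 = n16733 := ndS (p := 4531) (l := 3) rfl N4531 D16733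
theorem N7585 : nd 7585 = n16736 := ndS (p := 4532) (l := 4) rfl N4532 D16736
theorem N7586 : nd 7586 = n16740 := ndS (p := 4535) (l := 1) rfl N4535 D16740
theorem N7587 : nd 7587 = n16742 := ndS (p := 4536) (l := 2) rfl N4536 D16742
theorem N7588 : nd 7588 = n16743 := ndS (p := 4536) (l := 6) rfl N4536 D16743
theorem N7589 : nd 7589 = n16747 := ndS (p := 4537) (l := 3) rfl N4537 D16747
theorem N7590 : nd 7590 = n16748 := ndS (p := 4537) (l := 6) rfl N4537 D16748
theorem N7591 : nd 7591 = n16749 := ndS (p := 4539) (l := 2) rfl N4539 D16749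
theorem N7592 : nd 7592 = n16750 := ndS (p := 4539) (l := 5) rfl N4539 D16750
theorem N7593 : nd 7593 = n16751 := ndS (p := 4540) (l := 1) rfl N4540 D16751
theorem N7594 : nd 7594 = n16752 := ndS (p := 4540) (l := 3) rfl N4540 D16752
theorem N7595 : nd 7595 = n16753 := ndS (p := 4541) (l := 2) rfl N4541 D16753
theorem N7596 : nd 7596 = n16754 := ndS (p := 4541) (l := 4) rfl N4541 D16754
theorem N7597 : nd 7597 = n16755 := ndS (p := 4541) (l := 6) rfl N4541 D16755
theorem N7598 : nd 7598 = n16756 := ndS (p := 4542) (l := 1) rfl N4542 D16756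
theorem N7599 : nd 7599 = n16758 := ndS (p := 4544) (l := 1) rfl N4544 D16758
theorem N7600 : nd 7600 = n16761 := ndS (p := 4546) (l := 0) rfl N4546 D16761
theorem N7601 : nd 7601 = n16762 := ndS (p := 4546) (l := 3) rfl N4546 D16762
theorem N7602 : nd 7602 = n16763 := ndS (p := 4546) (l := 5) rfl N4546 D16763
theorem N7603 : nd 7603 = n16764 := ndS (p := 4546) (l := 6) rfl N4546 D16764
theorem N7604 : nd 7604 = n16765 := ndS (p := 4547) (l := 2) rfl N4547 D16765
theorem N7605 : nd 7605 = n16766 := ndS (p := 4547) (l := 4) rfl N4547 D16766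
theorem N7606 : nd 7606 = n16767 := ndS (p := 4547) (l := 6) rfl N4547 D16767
theorem N7607 : nd 7607 = n16768 := ndS (p := 4548) (l := 1) rfl N4548 D16768
theorem N7608 : nd 7608 = n16772 := ndS (p := 4549) (l := 6) rfl N4549 D16772
theorem N7609 : nd 7609 = n16773 := ndS (p := 4550) (l := 6) rfl N4550 D16773
theorem N7610 : nd 7610 = n16774 := ndS (p := 4551) (l := 1) rfl N4551 D16774
theorem N7611 : nd 7611 = n16775 := ndS (p := 4551) (l := 5) rfl N4551 D16775
theorem N7612 : nd 7612 = n16776 := ndS (p := 4552) (l := 5) rfl N4552 D16776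
theorem N7613 : nd 7613 = n16777 := ndS (p := 4553) (l := 1) rfl N4553 D16777
theorem N7614 : nd 7614 = n16778 := ndS (p := 4554) (l := 2) rfl N4554 D16778
theorem N7615 : nd 7615 = n16779 := ndS (p := 4555) (l := 2) rfl N4555 D16779
theorem N7616 : nd 7616 = n16780 := ndS (p := 4556) (l := 2) rfl N4556 D16780
theorem N7617 : nd 7617 = n16781 := ndS (p := 4557) (l := 1) rfl N4557 D16781
theorem N7618 : nd 7618 = n16782 := ndS (p := 4557) (l := 5) rfl N4557 D16782
theorem N7619 : nd 7619 = n16783 := ndS (p := 4558) (l := 6) rfl N4558 D16783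
theorem N7620 : nd 7620 = n16784 := ndS (p := 4559) (l := 1) rfl N4559 D16784
theorem N7621 : nd 7621 = n16785 := ndS (p := 4559) (l := 5) rfl N4559 D16785
theorem N7622 : nd 7622 = n16786 := ndS (p := 4560) (l := 1) rfl N4560 D16786
theorem N7623 : nd 7623 = n16787 := ndS (p := 4561) (l := 0) rfl N4561 D16787
theorem N7624 : nd 7624 = n16788 := ndS (p := 4561) (l := 2) rfl N4561 D16788
theorem N7625 : nd 7625 = n16789 := ndS (p := 4561) (l := 5) rfl N4561 D16789
theorem N7626 : nd 7626 = n16790 := ndS (p := 4562) (l := 1) rfl N4562 D16790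
theorem N7627 : nd 7627 = n16791 := ndS (p := 4563) (l := 2) rfl N4563 D16791
theorem N7628 : nd 7628 = n16792 := ndS (p := 4564) (l := 2) rfl N4564 D16792
theorem N7629 : nd 7629 = n16793 := ndS (p := 4565) (l := 3) rfl N4565 D16793
theorem N7630 : nd 7630 = n16794 := ndS (p := 4565) (l := 5) rfl N4565 D16794
theorem N7631 : nd 7631 = n16795 := ndS (p := 4567) (l := 2) rfl N4567 D16795
theorem N7632 : nd 7632 = n16796 := ndS (p := 4568) (l := 2) rfl N4568 D16796
theorem N7633 : nd 7633 = n16797 := ndS (p := 4568) (l := 4) rfl N4568 D16797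
theorem N7634 : nd 7634 = n16798 := ndS (p := 4568) (l := 5) rfl N4568 D16798
theorem N7635 : nd 7635 = n16799 := ndS (p := 4568) (l := 6) rfl N4568 D16799
theorem N7636 : nd 7636 = n16800 := ndS (p := 4570) (l := 1) rfl N4570 D16800
theorem N7637 : nd 7637 = n16801 := ndS (p := 4571) (l := 1) rfl N4571 D16801
theorem N7638 : nd 7638 = n16802 := ndS (p := 4571) (l := 3) rfl N4571 D16802
theorem N7639 : nd 7639 = n16803 := ndS (p := 4571) (l := 4) rfl N4571 D16803
theorem N7640 : nd 7640 = n16804 := ndS (p := 4571) (l := 5) rfl N4571 D16804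
theorem N7641 : nd 7641 = n16805 := ndS (p := 4571) (l := 6) rfl N4571 D16805
theorem N7642 : nd 7642 = n16806 := ndS (p := 4572) (l := 5) rfl N4572 D16806
theorem N7643 : nd 7643 = n16807 := ndS (p := 4572) (l := 6) rfl N4572 D16807
theorem N7644 : nd 7644 = n16808 := ndS (p := 4573) (l := 6) rfl N4573 D16808
theorem N7645 : nd 7645 = n16809 := ndS (p := 4574) (l := 1) rfl N4574 D16809
theorem N7646 : nd 7646 = n16810 := ndS (p := 4574) (l := 5) rfl N4574 D16810
theorem N7647 : nd 7647 = n16811 := ndS (p := 4575) (l := 1) rfl N4575 D16811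
theorem N7648 : nd 7648 = n16812 := ndS (p := 4576) (l := 0) rfl N4576 D16812
theorem N7649 : nd 7649 = n16813 := ndS (p := 4576) (l := 2) rfl N4576 D16813
theorem N7650 : nd 7650 = n16814 := ndS (p := 4579) (l := 6) rfl N4579 D16814
theorem N7651 : nd 7651 = n16816 := ndS (p := 4581) (l := 1) rfl N4581 D16816
theorem N7652 : nd 7652 = n16817 := ndS (p := 4582) (l := 0) rfl N4582 D16817
theorem N7653 : nd 7653 = n16819 := ndS (p := 4582) (l := 5) rfl N4582 D16819
theorem N7654 : nd 7654 = n16820 := ndS (p := 4583) (l := 1) rfl N4583 D16820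
theorem N7655 : nd 7655 = n16821 := ndS (p := 4583) (l := 2) rfl N4583 D16821
theorem N7656 : nd 7656 = n16822 := ndS (p := 4583) (l := 5) rfl N4583 D16822
theorem N7657 : nd 7657 = n16823 := ndS (p := 4584) (l := 3) rfl N4584 D16823
theorem N7658 : nd 7658 = n16824 := ndS (p := 4584) (l := 5) rfl N4584 D16824
theorem N7659 : nd 7659 = n16825 := ndS (p := 4585) (l := 6) rfl N4585 D16825
theorem N7660 : nd 7660 = n16826 := ndS (p := 4586) (l := 2) rfl N4586 D16826
theorem N7661 : nd 7661 = n16827 := ndS (p := 4587) (l := 1) rfl N4587 D16827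
theorem N7662 : nd 7662 = n16828 := ndS (p := 4587) (l := 3) rfl N4587 D16828
theorem N7663 : nd 7663 = n16829 := ndS (p := 4587) (l := 5) rfl N4587 D16829
theorem N7664 : nd 7664 = n16830 := ndS (p := 4589) (l := 2) rfl N4589 D16830
theorem N7665 : nd 7665 = n16831 := ndS (p := 4589) (l := 4) rfl N4589 D16831
theorem N7666 : nd 7666 = n16832 := ndS (p := 4589) (l := 5) rfl N4589 D16832
theorem N7667 : nd 7667 = n16833 := ndS (p := 4590) (l := 1) rfl N4590 D16833
theorem N7668 : nd 7668 = n16834 := ndS (p := 4591) (l := 3) rfl N4591 D16834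
theorem N7669 : nd 7669 = n16835 := ndS (p := 4591) (l := 6) rfl N4591 D16835
theorem N7670 : nd 7670 = n16836 := ndS (p := 4592) (l := 1) rfl N4592 D16836
theorem N7671 : nd 7671 = n16837 := ndS (p := 4593) (l := 6) rfl N4593 D16837
theorem N7672 : nd 7672 = n16838 := ndS (p := 4594) (l := 1) rfl N4594 D16838
theorem N7673 : nd 7673 = n16839 := ndS (p := 4594) (l := 5) rfl N4594 D16839
theorem N7674 : nd 7674 = n16840 := ndS (p := 4595) (l := 0) rfl N4595 D16840
theorem N7675 : nd 7675 = n16841 := ndS (p := 4595) (l := 2) rfl N4595 D16841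
theorem N7676 : nd 7676 = n16842 := ndS (p := 4595) (l := 5) rfl N4595 D16842
theorem N7677 : nd 7677 = n16843 := ndS (p := 4596) (l := 1) rfl N4596 D16843
theorem N7678 : nd 7678 = n16844 := ndS (p := 4597) (l := 0) rfl N4597 D16844
theorem N7679 : nd 7679 = n16845 := ndS (p := 4597) (l := 2) rfl N4597 D16845
theorem N7680 : nd 7680 = n16846 := ndS (p := 4597) (l := 5) rfl N4597 D16846
theorem N7681 : nd 7681 = n16847 := ndS (p := 4598) (l := 1) rfl N4598 D16847
theorem N7682 : nd 7682 = n16848 := ndS (p := 4599) (l := 1) rfl N4599 D16848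
theorem N7683 : nd 7683 = n16849 := ndS (p := 4601) (l := 1) rfl N4601 D16849
theorem N7684 : nd 7684 = n16850 := ndS (p := 4602) (l := 0) rfl N4602 D16850
theorem N7685 : nd 7685 = n16851 := ndS (p := 4602) (l := 2) rfl N4602 D16851
theorem N7686 : nd 7686 = n16852 := ndS (p := 4602) (l := 6) rfl N4602 D16852
theorem N7687 : nd 7687 = n16853 := ndS (p := 4603) (l := 0) rfl N4603 D16853
theorem N7688 : nd 7688 = n16854 := ndS (p := 4603) (l := 2) rfl N4603 D16854
theorem N7689 : nd 7689 = n16855 := ndS (p := 4603) (l := 5) rfl N4603 D16855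
theorem N7690 : nd 7690 = n16856 := ndS (p := 4603) (l := 6) rfl N4603 D16856
theorem N7691 : nd 7691 = n16857 := ndS (p := 4604) (l := 1) rfl N4604 D16857
theorem N7692 : nd 7692 = n16858 := ndS (p := 4604) (l := 3) rfl N4604 D16858
theorem N7693 : nd 7693 = n16859 := ndS (p := 4605) (l := 2) rfl N4605 D16859
theorem N7694 : nd 7694 = n16860 := ndS (p := 4605) (l := 4) rfl N4605 D16860
theorem N7695 : nd 7695 = n16861 := ndS (p := 4606) (l := 1) rfl N4606 D16861
theorem N7696 : nd 7696 = n16862 := ndS (p := 4607) (l := 0) rfl N4607 D16862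
theorem N7697 : nd 7697 = n16863 := ndS (p := 4607) (l := 2) rfl N4607 D16863
theorem N7698 : nd 7698 = n16864 := ndS (p := 4608) (l := 2) rfl N4608 D16864
theorem N7699 : nd 7699 = n16865 := ndS (p := 4608) (l := 6) rfl N4608 D16865
theorem N7700 : nd 7700 = n16866 := ndS (p := 4609) (l := 3) rfl N4609 D16866
theorem N7701 : nd 7701 = n16867 := ndS (p := 4609) (l := 6) rfl N4609 D16867
theorem N7702 : nd 7702 = n16868 := ndS (p := 4610) (l := 5) rfl N4610 D16868
theorem N7703 : nd 7703 = n16869 := ndS (p := 4611) (l := 2) rfl N4611 D16869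
theorem N7704 : nd 7704 = n16870 := ndS (p := 4612) (l := 1) rfl N4612 D16870
theorem N7705 : nd 7705 = n16871 := ndS (p := 4612) (l := 3) rfl N4612 D16871
theorem N7706 : nd 7706 = n16872 := ndS (p := 4612) (l := 5) rfl N4612 D16872
theorem N7707 : nd 7707 = n16873 := ndS (p := 4612) (l := 6) rfl N4612 D16873
theorem N7708 : nd 7708 = n16874 := ndS (p := 4615) (l := 0) rfl N4615 D16874
theorem N7709 : nd 7709 = n16875 := ndS (p := 4615) (l := 3) rfl N4615 D16875
theorem N7710 : nd 7710 = n16876 := ndS (p := 4615) (l := 5) rfl N4615 D16876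
theorem N7711 : nd 7711 = n16877 := ndS (p := 4615) (l := 6) rfl N4615 D16877
theorem N7712 : nd 7712 = n16878 := ndS (p := 4616) (l := 2) rfl N4616 D16878
theorem N7713 : nd 7713 = n16879 := ndS (p := 4616) (l := 4) rfl N4616 D16879
theorem N7714 : nd 7714 = n16880 := ndS (p := 4617) (l := 1) rfl N4617 D16880
theorem N7715 : nd 7715 = n16881 := ndS (p := 4617) (l := 3) rfl N4617 D16881
theorem N7716 : nd 7716 = n16882 := ndS (p := 4617) (l := 4) rfl N4617 D16882
theorem N7717 : nd 7717 = n16883 := ndS (p := 4617) (l := 5) rfl N4617 D16883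
theorem N7718 : nd 7718 = n16884 := ndS (p := 4618) (l := 5) rfl N4618 D16884
theorem N7719 : nd 7719 = n16885 := ndS (p := 4619) (l := 1) rfl N4619 D16885
theorem N7720 : nd 7720 = n16886 := ndS (p := 4620) (l := 0) rfl N4620 D16886
theorem N7721 : nd 7721 = n16887 := ndS (p := 4620) (l := 2) rfl N4620 D16887
theorem N7722 : nd 7722 = n16888 := ndS (p := 4620) (l := 6) rfl N4620 D16888
theorem N7723 : nd 7723 = n16889 := ndS (p := 4621) (l := 2) rfl N4621 D16889
theorem N7724 : nd 7724 = n16890 := ndS (p := 4622) (l := 3) rfl N4622 D16890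
theorem N7725 : nd 7725 = n16891 := ndS (p := 4622) (l := 6) rfl N4622 D16891
theorem N7726 : nd 7726 = n16893 := ndS (p := 4624) (l := 3) rfl N4624 D16893
theorem N7727 : nd 7727 = n16894 := ndS (p := 4624) (l := 6) rfl N4624 D16894
theorem N7728 : nd 7728 = n16895 := ndS (p := 4626) (l := 2) rfl N4626 D16895
theorem N7729 : nd 7729 = n16896 := ndS (p := 4626) (l := 4) rfl N4626 D16896
theorem N7730 : nd 7730 = n16897 := ndS (p := 4626) (l := 6) rfl N4626 D16897
theorem N7731 : nd 7731 = n16898 := ndS (p := 4627) (l := 1) rfl N4627 D16898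
theorem N7732 : nd 7732 = n16899 := ndS (p := 4627) (l := 5) rfl N4627 D16899
theorem N7733 : nd 7733 = n16900 := ndS (p := 4629) (l := 1) rfl N4629 D16900
theorem N7734 : nd 7734 = n16902 := ndS (p := 4629) (l := 5) rfl N4629 D16902
theorem N7735 : nd 7735 = n16903 := ndS (p := 4629) (l := 6) rfl N4629 D16903
theorem N7736 : nd 7736 = n16904 := ndS (p := 4632) (l := 0) rfl N4632 D16904
theorem N7737 : nd 7737 = n16905 := ndS (p := 4632) (l := 3) rfl N4632 D16905
theorem N7738 : nd 7738 = n16906 := ndS (p := 4632) (l := 5) rfl N4632 D16906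
theorem N7739 : nd 7739 = n16907 := ndS (p := 4632) (l := 6) rfl N4632 D16907
theorem N7740 : nd 7740 = n16909 := ndS (p := 4633) (l := 4) rfl N4633 D16909
theorem N7741 : nd 7741 = n16910 := ndS (p := 4633) (l := 5) rfl N4633 D16910
theorem N7742 : nd 7742 = n16912 := ndS (p := 4634) (l := 1) rfl N4634 D16912
theorem N7743 : nd 7743 = n16913 := ndS (p := 4635) (l := 1) rfl N4635 D16913
theorem N7744 : nd 7744 = n16915 := ndS (p := 4636) (l := 2) rfl N4636 D16915
theorem N7745 : nd 7745 = n16916 := ndS (p := 4638) (l := 1) rfl N4638 D16916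
theorem N7746 : nd 7746 = n16917 := ndS (p := 4638) (l := 3) rfl N4638 D16917
theorem N7747 : nd 7747 = n16918 := ndS (p := 4638) (l := 5) rfl N4638 D16918
theorem N7748 : nd 7748 = n16919 := ndS (p := 4638) (l := 6) rfl N4638 D16919
theorem N7749 : nd 7749 = n16920 := ndS (p := 4639) (l := 2) rfl N4639 D16920
theorem N7750 : nd 7750 = n16921 := ndS (p := 4639) (l := 4) rfl N4639 D16921
theorem N7751 : nd 7751 = n16922 := ndS (p := 4639) (l := 5) rfl N4639 D16922
theorem N7752 : nd 7752 = n16923 := ndS (p := 4639) (l := 6) rfl N4639 D16923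
theorem N7753 : nd 7753 = n16924 := ndS (p := 4640) (l := 1) rfl N4640 D16924
theorem N7754 : nd 7754 = n16925 := ndS (p := 4640) (l := 6) rfl N4640 D16925
theorem N7755 : nd 7755 = n16926 := ndS (p := 4641) (l := 5) rfl N4641 D16926
theorem N7756 : nd 7756 = n16927 := ndS (p := 4642) (l := 1) rfl N4642 D16927
theorem N7757 : nd 7757 = n16928 := ndS (p := 4642) (l := 4) rfl N4642 D16928
theorem N7758 : nd 7758 = n16929 := ndS (p := 4642) (l := 5) rfl N4642 D16929
theorem N7759 : nd 7759 = n16930 := ndS (p := 4643) (l := 5) rfl N4643 D16930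
theorem N7760 : nd 7760 = n16931 := ndS (p := 4645) (l := 2) rfl N4645 D16931
theorem N7761 : nd 7761 = n16932 := ndS (p := 4645) (l := 6) rfl N4645 D16932
theorem N7762 : nd 7762 = n16933 := ndS (p := 4646) (l := 3) rfl N4646 D16933
theorem N7763 : nd 7763 = n16934 := ndS (p := 4647) (l := 0) rfl N4647 D16934
theorem N7764 : nd 7764 = n16935 := ndS (p := 4647) (l := 3) rfl N4647 D16935
theorem N7765 : nd 7765 = n16936 := ndS (p := 4647) (l := 4) rfl N4647 D16936
theorem N7766 : nd 7766 = n16937 := ndS (p := 4647) (l := 5) rfl N4647 D16937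
theorem N7767 : nd 7767 = n16938 := ndS (p := 4647) (l := 6) rfl N4647 D16938
theorem N7768 : nd 7768 = n16939 := ndS (p := 4648) (l := 4) rfl N4648 D16939
theorem N7769 : nd 7769 = n16940 := ndS (p := 4648) (l := 5) rfl N4648 D16940
theorem N7770 : nd 7770 = n16941 := ndS (p := 4649) (l := 3) rfl N4649 D16941
theorem N7771 : nd 7771 = n16942 := ndS (p := 4649) (l := 5) rfl N4649 D16942
theorem N7772 : nd 7772 = n16944 := ndS (p := 4650) (l := 6) rfl N4650 D16944
theorem N7773 : nd 7773 = n16945 := ndS (p := 4651) (l := 6) rfl N4651 D16945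
theorem N7774 : nd 7774 = n16946 := ndS (p := 4652) (l := 1) rfl N4652 D16946
theorem N7775 : nd 7775 = n16947 := ndS (p := 4653) (l := 0) rfl N4653 D16947
theorem N7776 : nd 7776 = n16948 := ndS (p := 4653) (l := 2) rfl N4653 D16948
theorem N7777 : nd 7777 = n16949 := ndS (p := 4653) (l := 5) rfl N4653 D16949
theorem N7778 : nd 7778 = n16950 := ndS (p := 4654) (l := 2) rfl N4654 D16950
theorem N7779 : nd 7779 = n16951 := ndS (p := 4655) (l := 3) rfl N4655 D16951
theorem N7780 : nd 7780 = n16952 := ndS (p := 4655) (l := 5) rfl N4655 D16952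
theorem N7781 : nd 7781 = n16953 := ndS (p := 4657) (l := 2) rfl N4657 D16953
theorem N7782 : nd 7782 = n16954 := ndS (p := 4658) (l := 2) rfl N4658 D16954
theorem N7783 : nd 7783 = n16959 := ndS (p := 4659) (l := 1) rfl N4659 D16959
theorem N7784 : nd 7784 = n16960 := ndS (p := 4659) (l := 6) rfl N4659 D16960
theorem N7785 : nd 7785 = n16963 := ndS (p := 4660) (l := 5) rfl N4660 D16963
theorem N7786 : nd 7786 = n16965 := ndS (p := 4661) (l := 1) rfl N4661 D16965
theorem N7787 : nd 7787 = n16966 := ndS (p := 4661) (l := 6) rfl N4661 D16966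
theorem N7788 : nd 7788 = n16969 := ndS (p := 4662) (l := 0) rfl N4662 D16969
theorem N7789 : nd 7789 = n16970 := ndS (p := 4662) (l := 2) rfl N4662 D16970
theorem N7790 : nd 7790 = n16971 := ndS (p := 4662) (l := 6) rfl N4662 D16971
theorem N7791 : nd 7791 = n16972 := ndS (p := 4663) (l := 1) rfl N4663 D16972
theorem N7792 : nd 7792 = n16975 := ndS (p := 4664) (l := 1) rfl N4664 D16975
theorem N7793 : nd 7793 = n16976 := ndS (p := 4665) (l := 2) rfl N4665 D16976
theorem N7794 : nd 7794 = n16977 := ndS (p := 4666) (l := 3) rfl N4666 D16977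
theorem N7795 : nd 7795 = n16978 := ndS (p := 4666) (l := 6) rfl N4666 D16978
theorem N7796 : nd 7796 = n16979 := ndS (p := 4668) (l := 2) rfl N4668 D16979
theorem N7797 : nd 7797 = n16980 := ndS (p := 4669) (l := 2) rfl N4669 D16980
theorem N7798 : nd 7798 = n16981 := ndS (p := 4669) (l := 4) rfl N4669 D16981
theorem N7799 : nd 7799 = n16982 := ndS (p := 4669) (l := 5) rfl N4669 D16982
theorem N7800 : nd 7800 = n16983 := ndS (p := 4669) (l := 6) rfl N4669 D16983
theorem N7801 : nd 7801 = n16984 := ndS (p := 4670) (l := 1) rfl N4670 D16984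
theorem N7802 : nd 7802 = n16986 := ndS (p := 4672) (l := 1) rfl N4672 D16986
theorem N7803 : nd 7803 = n16987 := ndS (p := 4672) (l := 3) rfl N4672 D16987
theorem N7804 : nd 7804 = n16988 := ndS (p := 4672) (l := 4) rfl N4672 D16988
theorem N7805 : nd 7805 = n16989 := ndS (p := 4672) (l := 5) rfl N4672 D16989
theorem N7806 : nd 7806 = n16990 := ndS (p := 4672) (l := 6) rfl N4672 D16990
theorem N7807 : nd 7807 = n16991 := ndS (p := 4673) (l := 5) rfl N4673 D16991
theorem N7808 : nd 7808 = n16992 := ndS (p := 4673) (l := 6) rfl N4673 D16992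
theorem N7809 : nd 7809 = n16993 := ndS (p := 4674) (l := 1) rfl N4674 D16993
theorem N7810 : nd 7810 = n16994 := ndS (p := 4674) (l := 6) rfl N4674 D16994
theorem N7811 : nd 7811 = n16995 := ndS (p := 4675) (l := 5) rfl N4675 D16995
theorem N7812 : nd 7812 = n16996 := ndS (p := 4676) (l := 0) rfl N4676 D16996
theorem N7813 : nd 7813 = n16997 := ndS (p := 4676) (l := 2) rfl N4676 D16997
theorem N7814 : nd 7814 = n17000 := ndS (p := 4678) (l := 1) rfl N4678 D17000
theorem N7815 : nd 7815 = n17006 := ndS (p := 4680) (l := 5) rfl N4680 D17006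
theorem N7816 : nd 7816 = n17008 := ndS (p := 4682) (l := 1) rfl N4682 D17008
theorem N7817 : nd 7817 = n17009 := ndS (p := 4683) (l := 0) rfl N4683 D17009
theorem N7818 : nd 7818 = n17011 := ndS (p := 4683) (l := 6) rfl N4683 D17011
theorem N7819 : nd 7819 = n17012 := ndS (p := 4684) (l := 1) rfl N4684 D17012
theorem N7820 : nd 7820 = n17013 := ndS (p := 4684) (l := 2) rfl N4684 D17013
theorem N7821 : nd 7821 = n17014 := ndS (p := 4684) (l := 6) rfl N4684 D17014
theorem N7822 : nd 7822 = n17015 := ndS (p := 4685) (l := 3) rfl N4685 D17015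
theorem N7823 : nd 7823 = n17016 := ndS (p := 4685) (l := 6) rfl N4685 D17016
theorem N7824 : nd 7824 = n17017 := ndS (p := 4686) (l := 5) rfl N4686 D17017
theorem N7825 : nd 7825 = n17018 := ndS (p := 4687) (l := 2) rfl N4687 D17018
theorem N7826 : nd 7826 = n17019 := ndS (p := 4688) (l := 1) rfl N4688 D17019
theorem N7827 : nd 7827 = n17020 := ndS (p := 4688) (l := 3) rfl N4688 D17020
theorem N7828 : nd 7828 = n17021 := ndS (p := 4689) (l := 2) rfl N4689 D17021
theorem N7829 : nd 7829 = n17022 := ndS (p := 4689) (l := 4) rfl N4689 D17022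
theorem N7830 : nd 7830 = n17023 := ndS (p := 4689) (l := 6) rfl N4689 D17023
theorem N7831 : nd 7831 = n17024 := ndS (p := 4690) (l := 1) rfl N4690 D17024
theorem N7832 : nd 7832 = n17025 := ndS (p := 4691) (l := 3) rfl N4691 D17025
theorem N7833 : nd 7833 = n17026 := ndS (p := 4691) (l := 5) rfl N4691 D17026
theorem N7834 : nd 7834 = n17027 := ndS (p := 4692) (l := 1) rfl N4692 D17027
theorem N7835 : nd 7835 = n17029 := ndS (p := 4693) (l := 5) rfl N4693 D17029
theorem N7836 : nd 7836 = n17030 := ndS (p := 4694) (l := 1) rfl N4694 D17030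
theorem N7837 : nd 7837 = n17031 := ndS (p := 4694) (l := 6) rfl N4694 D17031
theorem N7838 : nd 7838 = n17032 := ndS (p := 4695) (l := 0) rfl N4695 D17032
theorem N7839 : nd 7839 = n17033 := ndS (p := 4695) (l := 2) rfl N4695 D17033
theorem N7840 : nd 7840 = n17034 := ndS (p := 4695) (l := 6) rfl N4695 D17034
theorem N7841 : nd 7841 = n17035 := ndS (p := 4696) (l := 1) rfl N4696 D17035
theorem N7842 : nd 7842 = n17036 := ndS (p := 4697) (l := 0) rfl N4697 D17036
theorem N7843 : nd 7843 = n17037 := ndS (p := 4697) (l := 2) rfl N4697 D17037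
theorem N7844 : nd 7844 = n17038 := ndS (p := 4697) (l := 6) rfl N4697 D17038
theorem N7845 : nd 7845 = n17039 := ndS (p := 4698) (l := 1) rfl N4698 D17039
theorem N7846 : nd 7846 = n17040 := ndS (p := 4699) (l := 1) rfl N4699 D17040
theorem N7847 : nd 7847 = n17044 := ndS (p := 4701) (l := 1) rfl N4701 D17044
theorem N7848 : nd 7848 = n17045 := ndS (p := 4702) (l := 0) rfl N4702 D17045
theorem N7849 : nd 7849 = n17046 := ndS (p := 4702) (l := 2) rfl N4702 D17046
theorem N7850 : nd 7850 = n17047 := ndS (p := 4702) (l := 5) rfl N4702 D17047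
theorem N7851 : nd 7851 = n17048 := ndS (p := 4703) (l := 0) rfl N4703 D17048
theorem N7852 : nd 7852 = n17049 := ndS (p := 4703) (l := 2) rfl N4703 D17049
theorem N7853 : nd 7853 = n17050 := ndS (p := 4703) (l := 5) rfl N4703 D17050
theorem N7854 : nd 7854 = n17051 := ndS (p := 4703) (l := 6) rfl N4703 D17051
theorem N7855 : nd 7855 = n17052 := ndS (p := 4704) (l := 1) rfl N4704 D17052
theorem N7856 : nd 7856 = n17053 := ndS (p := 4704) (l := 3) rfl N4704 D17053
theorem N7857 : nd 7857 = n17054 := ndS (p := 4705) (l := 2) rfl N4705 D17054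
theorem N7858 : nd 7858 = n17055 := ndS (p := 4705) (l := 4) rfl N4705 D17055
theorem N7859 : nd 7859 = n17057 := ndS (p := 4706) (l := 1) rfl N4706 D17057
theorem N7860 : nd 7860 = n17058 := ndS (p := 4707) (l := 0) rfl N4707 D17058
theorem N7861 : nd 7861 = n17059 := ndS (p := 4707) (l := 2) rfl N4707 D17059
theorem N7862 : nd 7862 = n17062 := ndS (p := 4708) (l := 2) rfl N4708 D17062
theorem N7863 : nd 7863 = n17063 := ndS (p := 4708) (l := 5) rfl N4708 D17063
theorem N7864 : nd 7864 = n17064 := ndS (p := 4709) (l := 3) rfl N4709 D17064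
theorem N7865 : nd 7865 = n17065 := ndS (p := 4709) (l := 5) rfl N4709 D17065
theorem N7866 : nd 7866 = n17066 := ndS (p := 4710) (l := 6) rfl N4710 D17066
theorem N7867 : nd 7867 = n17067 := ndS (p := 4711) (l := 2) rfl N4711 D17067
theorem N7868 : nd 7868 = n17068 := ndS (p := 4712) (l := 1) rfl N4712 D17068
theorem N7869 : nd 7869 = n17069 := ndS (p := 4712) (l := 3) rfl N4712 D17069
theorem N7870 : nd 7870 = n17070 := ndS (p := 4712) (l := 5) rfl N4712 D17070
theorem N7871 : nd 7871 = n17071 := ndS (p := 4712) (l := 6) rfl N4712 D17071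
theorem N7872 : nd 7872 = n17072 := ndS (p := 4715) (l := 0) rfl N4715 D17072
theorem N7873 : nd 7873 = n17073 := ndS (p := 4715) (l := 3) rfl N4715 D17073
theorem N7874 : nd 7874 = n17074 := ndS (p := 4715) (l := 5) rfl N4715 D17074
theorem N7875 : nd 7875 = n17075 := ndS (p := 4715) (l := 6) rfl N4715 D17075
theorem N7876 : nd 7876 = n17076 := ndS (p := 4716) (l := 4) rfl N4716 D17076
theorem N7877 : nd 7877 = n17077 := ndS (p := 4717) (l := 1) rfl N4717 D17077
theorem N7878 : nd 7878 = n17078 := ndS (p := 4717) (l := 4) rfl N4717 D17078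
theorem N7879 : nd 7879 = n17079 := ndS (p := 4717) (l := 6) rfl N4717 D17079
theorem N7880 : nd 7880 = n17080 := ndS (p := 4718) (l := 6) rfl N4718 D17080
theorem N7881 : nd 7881 = n17081 := ndS (p := 4719) (l := 1) rfl N4719 D17081
theorem N7882 : nd 7882 = n17082 := ndS (p := 4720) (l := 0) rfl N4720 D17082
theorem N7883 : nd 7883 = n17083 := ndS (p := 4720) (l := 2) rfl N4720 D17083
theorem N7884 : nd 7884 = n17084 := ndS (p := 4720) (l := 5) rfl N4720 D17084
theorem N7885 : nd 7885 = n17085 := ndS (p := 4721) (l := 2) rfl N4721 D17085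
theorem N7886 : nd 7886 = n17086 := ndS (p := 4722) (l := 3) rfl N4722 D17086
theorem N7887 : nd 7887 = n17087 := ndS (p := 4722) (l := 5) rfl N4722 D17087
theorem N7888 : nd 7888 = n17088 := ndS (p := 4724) (l := 3) rfl N4724 D17088
theorem N7889 : nd 7889 = n17089 := ndS (p := 4724) (l := 5) rfl N4724 D17089
theorem N7890 : nd 7890 = n17090 := ndS (p := 4726) (l := 2) rfl N4726 D17090
theorem N7891 : nd 7891 = n17091 := ndS (p := 4726) (l := 4) rfl N4726 D17091
theorem N7892 : nd 7892 = n17092 := ndS (p := 4726) (l := 5) rfl N4726 D17092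
theorem N7893 : nd 7893 = n17093 := ndS (p := 4727) (l := 1) rfl N4727 D17093
theorem N7894 : nd 7894 = n17094 := ndS (p := 4727) (l := 6) rfl N4727 D17094
theorem N7895 : nd 7895 = n17095 := ndS (p := 4729) (l := 1) rfl N4729 D17095
theorem N7896 : nd 7896 = n17097 := ndS (p := 4729) (l := 5) rfl N4729 D17097
theorem N7897 : nd 7897 = n17099 := ndS (p := 4732) (l := 0) rfl N4732 D17099
theorem N7898 : nd 7898 = n17100 := ndS (p := 4732) (l := 3) rfl N4732 D17100
theorem N7899 : nd 7899 = n17101 := ndS (p := 4732) (l := 5) rfl N4732 D17101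
theorem N7900 : nd 7900 = n17102 := ndS (p := 4732) (l := 6) rfl N4732 D17102
theorem N7901 : nd 7901 = n17104 := ndS (p := 4733) (l := 4) rfl N4733 D17104
theorem N7902 : nd 7902 = n17107 := ndS (p := 4734) (l := 1) rfl N4734 D17107
theorem N7903 : nd 7903 = n17109 := ndS (p := 4735) (l := 1) rfl N4735 D17109
theorem N7904 : nd 7904 = n17110 := ndS (p := 4737) (l := 2) rfl N4737 D17110
theorem N7905 : nd 7905 = n17111 := ndS (p := 4738) (l := 1) rfl N4738 D17111
theorem N7906 : nd 7906 = n17112 := ndS (p := 4738) (l := 3) rfl N4738 D17112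
theorem N7907 : nd 7907 = n17113 := ndS (p := 4738) (l := 5) rfl N4738 D17113
theorem N7908 : nd 7908 = n17114 := ndS (p := 4738) (l := 6) rfl N4738 D17114
theorem N7909 : nd 7909 = n17115 := ndS (p := 4739) (l := 2) rfl N4739 D17115
theorem N7910 : nd 7910 = n17116 := ndS (p := 4739) (l := 4) rfl N4739 D17116
theorem N7911 : nd 7911 = n17117 := ndS (p := 4739) (l := 5) rfl N4739 D17117
theorem N7912 : nd 7912 = n17118 := ndS (p := 4739) (l := 6) rfl N4739 D17118
theorem N7913 : nd 7913 = n17119 := ndS (p := 4740) (l := 6) rfl N4740 D17119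
theorem N7914 : nd 7914 = n17120 := ndS (p := 4741) (l := 1) rfl N4741 D17120
theorem N7915 : nd 7915 = n17121 := ndS (p := 4741) (l := 5) rfl N4741 D17121
theorem N7916 : nd 7916 = n17122 := ndS (p := 4742) (l := 6) rfl N4742 D17122
theorem N7917 : nd 7917 = n17125 := ndS (p := 4744) (l := 2) rfl N4744 D17125
theorem N7918 : nd 7918 = n17126 := ndS (p := 4744) (l := 5) rfl N4744 D17126
theorem N7919 : nd 7919 = n17127 := ndS (p := 4745) (l := 3) rfl N4745 D17127
theorem N7920 : nd 7920 = n17128 := ndS (p := 4746) (l := 0) rfl N4746 D17128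
theorem N7921 : nd 7921 = n17129 := ndS (p := 4746) (l := 4) rfl N4746 D17129
theorem N7922 : nd 7922 = n17130 := ndS (p := 4746) (l := 5) rfl N4746 D17130
theorem N7923 : nd 7923 = n17131 := ndS (p := 4746) (l := 6) rfl N4746 D17131
theorem N7924 : nd 7924 = n17132 := ndS (p := 4747) (l := 3) rfl N4747 D17132
theorem N7925 : nd 7925 = n17133 := ndS (p := 4747) (l := 6) rfl N4747 D17133
theorem N7926 : nd 7926 = n17135 := ndS (p := 4748) (l := 5) rfl N4748 D17135
theorem N7927 : nd 7927 = n17136 := ndS (p := 4749) (l := 5) rfl N4749 D17136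
theorem N7928 : nd 7928 = n17137 := ndS (p := 4750) (l := 1) rfl N4750 D17137
theorem N7929 : nd 7929 = n17138 := ndS (p := 4751) (l := 0) rfl N4751 D17138
theorem N7930 : nd 7930 = n17139 := ndS (p := 4751) (l := 2) rfl N4751 D17139
theorem N7931 : nd 7931 = n17140 := ndS (p := 4751) (l := 6) rfl N4751 D17140
theorem N7932 : nd 7932 = n17141 := ndS (p := 4752) (l := 2) rfl N4752 D17141
theorem N7933 : nd 7933 = n17142 := ndS (p := 4753) (l := 3) rfl N4753 D17142
theorem N7934 : nd 7934 = n17143 := ndS (p := 4753) (l := 6) rfl N4753 D17143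
theorem N7935 : nd 7935 = n17144 := ndS (p := 4755) (l := 1) rfl N4755 D17144
theorem N7936 : nd 7936 = n17145 := ndS (p := 4755) (l := 2) rfl N4755 D17145
theorem N7937 : nd 7937 = n17146 := ndS (p := 4757) (l := 0) rfl N4757 D17146
theorem N7938 : nd 7938 = n17147 := ndS (p := 4757) (l := 6) rfl N4757 D17147
theorem N7939 : nd 7939 = n17148 := ndS (p := 4759) (l := 6) rfl N4759 D17148
theorem N7940 : nd 7940 = n17149 := ndS (p := 4760) (l := 3) rfl N4760 D17149
theorem N7941 : nd 7941 = n17150 := ndS (p := 4760) (l := 6) rfl N4760 D17150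
theorem N7942 : nd 7942 = n17151 := ndS (p := 4761) (l := 5) rfl N4761 D17151
theorem N7943 : nd 7943 = n17152 := ndS (p := 4762) (l := 6) rfl N4762 D17152
theorem N7944 : nd 7944 = n17153 := ndS (p := 4763) (l := 4) rfl N4763 D17153
theorem N7945 : nd 7945 = n17154 := ndS (p := 4765) (l := 4) rfl N4765 D17154
theorem N7946 : nd 7946 = n17155 := ndS (p := 4766) (l := 5) rfl N4766 D17155
theorem N7947 : nd 7947 = n17156 := ndS (p := 4767) (l := 6) rfl N4767 D17156
theorem N7948 : nd 7948 = n17157 := ndS (p := 4768) (l := 1) rfl N4768 D17157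
theorem N7949 : nd 7949 = n17158 := ndS (p := 4769) (l := 0) rfl N4769 D17158
theorem N7950 : nd 7950 = n17159 := ndS (p := 4769) (l := 2) rfl N4769 D17159
theorem N7951 : nd 7951 = n17160 := ndS (p := 4769) (l := 5) rfl N4769 D17160
theorem N7952 : nd 7952 = n17162 := ndS (p := 4770) (l := 3) rfl N4770 D17162
theorem N7953 : nd 7953 = n17163 := ndS (p := 4770) (l := 5) rfl N4770 D17163
theorem N7954 : nd 7954 = n17164 := ndS (p := 4770) (l := 6) rfl N4770 D17164
theorem N7955 : nd 7955 = n17165 := ndS (p := 4771) (l := 4) rfl N4771 D17165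
theorem N7956 : nd 7956 = n17167 := ndS (p := 4772) (l := 3) rfl N4772 D17167
theorem N7957 : nd 7957 = n17168 := ndS (p := 4772) (l := 5) rfl N4772 D17168
theorem N7958 : nd 7958 = n17169 := ndS (p := 4772) (l := 6) rfl N4772 D17169
theorem N7959 : nd 7959 = n17170 := ndS (p := 4773) (l := 2) rfl N4773 D17170
theorem N7960 : nd 7960 = n17171 := ndS (p := 4773) (l := 4) rfl N4773 D17171
theorem N7961 : nd 7961 = n17172 := ndS (p := 4773) (l := 5) rfl N4773 D17172
theorem N7962 : nd 7962 = n17173 := ndS (p := 4773) (l := 6) rfl N4773 D17173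
theorem N7963 : nd 7963 = n17174 := ndS (p := 4774) (l := 6) rfl N4774 D17174
theorem N7964 : nd 7964 = n17175 := ndS (p := 4775) (l := 5) rfl N4775 D17175
theorem N7965 : nd 7965 = n17176 := ndS (p := 4776) (l := 1) rfl N4776 D17176
theorem N7966 : nd 7966 = n17177 := ndS (p := 4776) (l := 4) rfl N4776 D17177
theorem N7967 : nd 7967 = n17179 := ndS (p := 4778) (l := 3) rfl N4778 D17179
theorem N7968 : nd 7968 = n17180 := ndS (p := 4778) (l := 5) rfl N4778 D17180
theorem N7969 : nd 7969 = n17181 := ndS (p := 4778) (l := 6) rfl N4778 D17181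
theorem N7970 : nd 7970 = n17182 := ndS (p := 4779) (l := 2) rfl N4779 D17182
theorem N7971 : nd 7971 = n17183 := ndS (p := 4779) (l := 4) rfl N4779 D17183
theorem N7972 : nd 7972 = n17184 := ndS (p := 4779) (l := 5) rfl N4779 D17184
theorem N7973 : nd 7973 = n17185 := ndS (p := 4779) (l := 6) rfl N4779 D17185
theorem N7974 : nd 7974 = n17186 := ndS (p := 4780) (l := 1) rfl N4780 D17186
theorem N7975 : nd 7975 = n17187 := ndS (p := 4781) (l := 1) rfl N4781 D17187
theorem N7976 : nd 7976 = n17188 := ndS (p := 4782) (l := 3) rfl N4782 D17188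
theorem N7977 : nd 7977 = n17189 := ndS (p := 4782) (l := 4) rfl N4782 D17189
theorem N7978 : nd 7978 = n17191 := ndS (p := 4782) (l := 6) rfl N4782 D17191
theorem N7979 : nd 7979 = n17192 := ndS (p := 4783) (l := 5) rfl N4783 D17192
theorem N7980 : nd 7980 = n17193 := ndS (p := 4783) (l := 6) rfl N4783 D17193
theorem N7981 : nd 7981 = n17194 := ndS (p := 4784) (l := 6) rfl N4784 D17194
theorem N7982 : nd 7982 = n17195 := ndS (p := 4785) (l := 5) rfl N4785 D17195
theorem N7983 : nd 7983 = n17196 := ndS (p := 4786) (l := 1) rfl N4786 D17196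
theorem N7984 : nd 7984 = n17197 := ndS (p := 4787) (l := 1) rfl N4787 D17197
theorem N7985 : nd 7985 = n17199 := ndS (p := 4788) (l := 4) rfl N4788 D17199
theorem N7986 : nd 7986 = n17200 := ndS (p := 4788) (l := 5) rfl N4788 D17200
theorem N7987 : nd 7987 = n17201 := ndS (p := 4788) (l := 6) rfl N4788 D17201
theorem N7988 : nd 7988 = n17202 := ndS (p := 4789) (l := 3) rfl N4789 D17202
theorem N7989 : nd 7989 = n17203 := ndS (p := 4789) (l := 5) rfl N4789 D17203
theorem N7990 : nd 7990 = n17204 := ndS (p := 4789) (l := 6) rfl N4789 D17204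
theorem N7991 : nd 7991 = n17205 := ndS (p := 4790) (l := 6) rfl N4790 D17205
theorem N7992 : nd 7992 = n17206 := ndS (p := 4791) (l := 5) rfl N4791 D17206
theorem N7993 : nd 7993 = n17207 := ndS (p := 4793) (l := 1) rfl N4793 D17207
theorem N7994 : nd 7994 = n17208 := ndS (p := 4793) (l := 2) rfl N4793 D17208
theorem N7995 : nd 7995 = n17213 := ndS (p := 4795) (l := 0) rfl N4795 D17213
theorem N7996 : nd 7996 = n17215 := ndS (p := 4795) (l := 5) rfl N4795 D17215
theorem N7997 : nd 7997 = n17227 := ndS (p := 4797) (l := 5) rfl N4797 D17227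
theorem N7998 : nd 7998 = n17229 := ndS (p := 4798) (l := 3) rfl N4798 D17229
theorem N7999 : nd 7999 = n17230 := ndS (p := 4798) (l := 5) rfl N4798 D17230
theorem N8000 : nd 8000 = n17232 := ndS (p := 4799) (l := 6) rfl N4799 D17232
theorem N8001 : nd 8001 = n17236 := ndS (p := 4800) (l := 5) rfl N4800 D17236
theorem N8002 : nd 8002 = n17239 := ndS (p := 4801) (l := 4) rfl N4801 D17239
theorem N8003 : nd 8003 = n17246 := ndS (p := 4803) (l := 4) rfl N4803 D17246
theorem N8004 : nd 8004 = n17248 := ndS (p := 4804) (l := 6) rfl N4804 D17248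
theorem N8005 : nd 8005 = n17249 := ndS (p := 4805) (l := 5) rfl N4805 D17249
theorem N8006 : nd 8006 = n17250 := ndS (p := 4806) (l := 1) rfl N4806 D17250
theorem N8007 : nd 8007 = n17251 := ndS (p := 4807) (l := 0) rfl N4807 D17251
theorem N8008 : nd 8008 = n17252 := ndS (p := 4807) (l := 2) rfl N4807 D17252
theorem N8009 : nd 8009 = n17253 := ndS (p := 4807) (l := 6) rfl N4807 D17253
theorem N8010 : nd 8010 = n17255 := ndS (p := 4808) (l := 3) rfl N4808 D17255
theorem N8011 : nd 8011 = n17256 := ndS (p := 4808) (l := 5) rfl N4808 D17256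
theorem N8012 : nd 8012 = n17257 := ndS (p := 4808) (l := 6) rfl N4808 D17257
theorem N8013 : nd 8013 = n17258 := ndS (p := 4809) (l := 4) rfl N4809 D17258
theorem N8014 : nd 8014 = n17260 := ndS (p := 4810) (l := 3) rfl N4810 D17260
theorem N8015 : nd 8015 = n17261 := ndS (p := 4810) (l := 5) rfl N4810 D17261
theorem N8016 : nd 8016 = n17262 := ndS (p := 4810) (l := 6) rfl N4810 D17262
theorem N8017 : nd 8017 = n17263 := ndS (p := 4811) (l := 2) rfl N4811 D17263
theorem N8018 : nd 8018 = n17264 := ndS (p := 4811) (l := 4) rfl N4811 D17264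
theorem N8019 : nd 8019 = n17265 := ndS (p := 4811) (l := 5) rfl N4811 D17265
theorem N8020 : nd 8020 = n17266 := ndS (p := 4811) (l := 6) rfl N4811 D17266
theorem N8021 : nd 8021 = n17267 := ndS (p := 4812) (l := 6) rfl N4812 D17267
theorem N8022 : nd 8022 = n17268 := ndS (p := 4813) (l := 5) rfl N4813 D17268
theorem N8023 : nd 8023 = n17269 := ndS (p := 4814) (l := 1) rfl N4814 D17269
theorem N8024 : nd 8024 = n17270 := ndS (p := 4814) (l := 4) rfl N4814 D17270
theorem N8025 : nd 8025 = n17271 := ndS (p := 4816) (l := 3) rfl N4816 D17271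
theorem N8026 : nd 8026 = n17272 := ndS (p := 4816) (l := 5) rfl N4816 D17272
theorem N8027 : nd 8027 = n17273 := ndS (p := 4816) (l := 6) rfl N4816 D17273
theorem N8028 : nd 8028 = n17274 := ndS (p := 4817) (l := 2) rfl N4817 D17274
theorem N8029 : nd 8029 = n17275 := ndS (p := 4817) (l := 4) rfl N4817 D17275
theorem N8030 : nd 8030 = n17276 := ndS (p := 4817) (l := 5) rfl N4817 D17276
theorem N8031 : nd 8031 = n17277 := ndS (p := 4817) (l := 6) rfl N4817 D17277
theorem N8032 : nd 8032 = n17278 := ndS (p := 4818) (l := 1) rfl N4818 D17278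
theorem N8033 : nd 8033 = n17279 := ndS (p := 4819) (l := 1) rfl N4819 D17279
theorem N8034 : nd 8034 = n17280 := ndS (p := 4820) (l := 3) rfl N4820 D17280
theorem N8035 : nd 8035 = n17281 := ndS (p := 4820) (l := 4) rfl N4820 D17281
theorem N8036 : nd 8036 = n17282 := ndS (p := 4820) (l := 5) rfl N4820 D17282
theorem N8037 : nd 8037 = n17284 := ndS (p := 4821) (l := 5) rfl N4821 D17284
theorem N8038 : nd 8038 = n17285 := ndS (p := 4821) (l := 6) rfl N4821 D17285
theorem N8039 : nd 8039 = n17286 := ndS (p := 4822) (l := 6) rfl N4822 D17286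
theorem N8040 : nd 8040 = n17287 := ndS (p := 4823) (l := 5) rfl N4823 D17287
theorem N8041 : nd 8041 = n17288 := ndS (p := 4824) (l := 1) rfl N4824 D17288
theorem N8042 : nd 8042 = n17289 := ndS (p := 4825) (l := 1) rfl N4825 D17289
theorem N8043 : nd 8043 = n17291 := ndS (p := 4826) (l := 4) rfl N4826 D17291
theorem N8044 : nd 8044 = n17292 := ndS (p := 4826) (l := 5) rfl N4826 D17292
theorem N8045 : nd 8045 = n17293 := ndS (p := 4826) (l := 6) rfl N4826 D17293
theorem N8046 : nd 8046 = n17294 := ndS (p := 4827) (l := 3) rfl N4827 D17294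
theorem N8047 : nd 8047 = n17295 := ndS (p := 4827) (l := 5) rfl N4827 D17295
theorem N8048 : nd 8048 = n17296 := ndS (p := 4827) (l := 6) rfl N4827 D17296
theorem N8049 : nd 8049 = n17297 := ndS (p := 4828) (l := 6) rfl N4828 D17297
theorem N8050 : nd 8050 = n17298 := ndS (p := 4829) (l := 5) rfl N4829 D17298
theorem N8051 : nd 8051 = n17301 := ndS (p := 4834) (l := 1) rfl N4834 D17301
theorem N8052 : nd 8052 = n17303 := ndS (p := 4835) (l := 1) rfl N4835 D17303
theorem N8053 : nd 8053 = n17304 := ndS (p := 4835) (l := 3) rfl N4835 D17304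
theorem N8054 : nd 8054 = n17310 := ndS (p := 4836) (l := 4) rfl N4836 D17310
theorem N8055 : nd 8055 = n17311 := ndS (p := 4836) (l := 5) rfl N4836 D17311
theorem N8056 : nd 8056 = n17312 := ndS (p := 4836) (l := 6) rfl N4836 D17312
theorem N8057 : nd 8057 = n17313 := ndS (p := 4837) (l := 4) rfl N4837 D17313
theorem N8058 : nd 8058 = n17315 := ndS (p := 4839) (l := 1) rfl N4839 D17315
theorem N8059 : nd 8059 = n17316 := ndS (p := 4839) (l := 3) rfl N4839 D17316
theorem N8060 : nd 8060 = n17320 := ndS (p := 4840) (l := 0) rfl N4840 D17320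
theorem N8061 : nd 8061 = n17321 := ndS (p := 4840) (l := 3) rfl N4840 D17321
theorem N8062 : nd 8062 = n17323 := ndS (p := 4840) (l := 5) rfl N4840 D17323
theorem N8063 : nd 8063 = n17324 := ndS (p := 4840) (l := 6) rfl N4840 D17324
theorem N8064 : nd 8064 = n17326 := ndS (p := 4841) (l := 4) rfl N4841 D17326
theorem N8065 : nd 8065 = n17328 := ndS (p := 4841) (l := 6) rfl N4841 D17328
theorem N8066 : nd 8066 = n17333 := ndS (p := 4842) (l := 1) rfl N4842 D17333
theorem N8067 : nd 8067 = n17335 := ndS (p := 4843) (l := 4) rfl N4843 D17335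
theorem N8068 : nd 8068 = n17336 := ndS (p := 4843) (l := 5) rfl N4843 D17336
theorem N8069 : nd 8069 = n17337 := ndS (p := 4843) (l := 6) rfl N4843 D17337
theorem N8070 : nd 8070 = n17338 := ndS (p := 4844) (l := 3) rfl N4844 D17338
theorem N8071 : nd 8071 = n17339 := ndS (p := 4844) (l := 5) rfl N4844 D17339
theorem N8072 : nd 8072 = n17340 := ndS (p := 4844) (l := 6) rfl N4844 D17340
theorem N8073 : nd 8073 = n17341 := ndS (p := 4845) (l := 6) rfl N4845 D17341
theorem N8074 : nd 8074 = n17342 := ndS (p := 4846) (l := 5) rfl N4846 D17342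
theorem N8075 : nd 8075 = n17344 := ndS (p := 4848) (l := 2) rfl N4848 D17344
theorem N8076 : nd 8076 = n17346 := ndS (p := 4848) (l := 4) rfl N4848 D17346
theorem N8077 : nd 8077 = n17348 := ndS (p := 4848) (l := 6) rfl N4848 D17348
theorem N8078 : nd 8078 = n17349 := ndS (p := 4849) (l := 2) rfl N4849 D17349
theorem N8079 : nd 8079 = n17350 := ndS (p := 4849) (l := 4) rfl N4849 D17350
theorem N8080 : nd 8080 = n17351 := ndS (p := 4849) (l := 5) rfl N4849 D17351
theorem N8081 : nd 8081 = n17352 := ndS (p := 4849) (l := 6) rfl N4849 D17352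
theorem N8082 : nd 8082 = n17353 := ndS (p := 4850) (l := 3) rfl N4850 D17353
theorem N8083 : nd 8083 = n17357 := ndS (p := 4852) (l := 1) rfl N4852 D17357
theorem N8084 : nd 8084 = n17358 := ndS (p := 4853) (l := 3) rfl N4853 D17358
theorem N8085 : nd 8085 = n17359 := ndS (p := 4853) (l := 4) rfl N4853 D17359
theorem N8086 : nd 8086 = n17360 := ndS (p := 4853) (l := 5) rfl N4853 D17360
theorem N8087 : nd 8087 = n17361 := ndS (p := 4853) (l := 6) rfl N4853 D17361
theorem N8088 : nd 8088 = n17362 := ndS (p := 4854) (l := 3) rfl N4854 D17362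
theorem N8089 : nd 8089 = n17363 := ndS (p := 4854) (l := 5) rfl N4854 D17363
theorem N8090 : nd 8090 = n17364 := ndS (p := 4854) (l := 6) rfl N4854 D17364
theorem N8091 : nd 8091 = n17365 := ndS (p := 4855) (l := 6) rfl N4855 D17365
theorem N8092 : nd 8092 = n17367 := ndS (p := 4857) (l := 2) rfl N4857 D17367
theorem N8093 : nd 8093 = n17368 := ndS (p := 4857) (l := 5) rfl N4857 D17368
theorem N8094 : nd 8094 = n17372 := ndS (p := 4859) (l := 1) rfl N4859 D17372
theorem N8095 : nd 8095 = n17382 := ndS (p := 4863) (l := 1) rfl N4863 D17382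
theorem N8096 : nd 8096 = n17384 := ndS (p := 4864) (l := 1) rfl N4864 D17384
theorem N8097 : nd 8097 = n17385 := ndS (p := 4864) (l := 3) rfl N4864 D17385
theorem N8098 : nd 8098 = n17389 := ndS (p := 4865) (l := 4) rfl N4865 D17389
theorem N8099 : nd 8099 = n17390 := ndS (p := 4865) (l := 5) rfl N4865 D17390
theorem N8100 : nd 8100 = n17391 := ndS (p := 4865) (l := 6) rfl N4865 D17391
theorem N8101 : nd 8101 = n17392 := ndS (p := 4866) (l := 4) rfl N4866 D17392
theorem N8102 : nd 8102 = n17394 := ndS (p := 4868) (l := 1) rfl N4868 D17394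
theorem N8103 : nd 8103 = n17395 := ndS (p := 4868) (l := 3) rfl N4868 D17395
theorem N8104 : nd 8104 = n17397 := ndS (p := 4869) (l := 0) rfl N4869 D17397
theorem N8105 : nd 8105 = n17398 := ndS (p := 4869) (l := 3) rfl N4869 D17398
theorem N8106 : nd 8106 = n17400 := ndS (p := 4869) (l := 5) rfl N4869 D17400
theorem N8107 : nd 8107 = n17401 := ndS (p := 4869) (l := 6) rfl N4869 D17401
theorem N8108 : nd 8108 = n17403 := ndS (p := 4870) (l := 4) rfl N4870 D17403
theorem N8109 : nd 8109 = n17404 := ndS (p := 4870) (l := 5) rfl N4870 D17404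
theorem N8110 : nd 8110 = n17409 := ndS (p := 4871) (l := 1) rfl N4871 D17409
theorem N8111 : nd 8111 = n17412 := ndS (p := 4872) (l := 4) rfl N4872 D17412
theorem N8112 : nd 8112 = n17413 := ndS (p := 4872) (l := 5) rfl N4872 D17413
theorem N8113 : nd 8113 = n17414 := ndS (p := 4872) (l := 6) rfl N4872 D17414
theorem N8114 : nd 8114 = n17415 := ndS (p := 4873) (l := 3) rfl N4873 D17415
theorem N8115 : nd 8115 = n17416 := ndS (p := 4873) (l := 5) rfl N4873 D17416
theorem N8116 : nd 8116 = n17417 := ndS (p := 4873) (l := 6) rfl N4873 D17417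
theorem N8117 : nd 8117 = n17418 := ndS (p := 4874) (l := 6) rfl N4874 D17418
theorem N8118 : nd 8118 = n17419 := ndS (p := 4875) (l := 5) rfl N4875 D17419
theorem N8119 : nd 8119 = n17421 := ndS (p := 4877) (l := 2) rfl N4877 D17421
theorem N8120 : nd 8120 = n17424 := ndS (p := 4877) (l := 5) rfl N4877 D17424
theorem N8121 : nd 8121 = n17426 := ndS (p := 4878) (l := 2) rfl N4878 D17426
theorem N8122 : nd 8122 = n17427 := ndS (p := 4878) (l := 4) rfl N4878 D17427
theorem N8123 : nd 8123 = n17428 := ndS (p := 4878) (l := 5) rfl N4878 D17428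
theorem N8124 : nd 8124 = n17433 := ndS (p := 4879) (l := 1) rfl N4879 D17433
theorem N8125 : nd 8125 = n17435 := ndS (p := 4880) (l := 3) rfl N4880 D17435
theorem N8126 : nd 8126 = n17436 := ndS (p := 4880) (l := 4) rfl N4880 D17436
theorem N8127 : nd 8127 = n17437 := ndS (p := 4880) (l := 5) rfl N4880 D17437
theorem N8128 : nd 8128 = n17438 := ndS (p := 4880) (l := 6) rfl N4880 D17438
theorem N8129 : nd 8129 = n17439 := ndS (p := 4881) (l := 3) rfl N4881 D17439
theorem N8130 : nd 8130 = n17440 := ndS (p := 4881) (l := 5) rfl N4881 D17440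
theorem N8131 : nd 8131 = n17441 := ndS (p := 4881) (l := 6) rfl N4881 D17441
theorem N8132 : nd 8132 = n17444 := ndS (p := 4884) (l := 2) rfl N4884 D17444
theorem N8133 : nd 8133 = n17531 := ndS (p := 4886) (l := 2) rfl N4886 D17531
theorem N8134 : nd 8134 = n17533 := ndS (p := 4886) (l := 5) rfl N4886 D17533
theorem N8135 : nd 8135 = n17546 := ndS (p := 4887) (l := 0) rfl N4887 D17546
theorem N8136 : nd 8136 = n17547 := ndS (p := 4887) (l := 2) rfl N4887 D17547
theorem N8137 : nd 8137 = n17555 := ndS (p := 4888) (l := 1) rfl N4888 D17555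
theorem N8138 : nd 8138 = n17556 := ndS (p := 4888) (l := 2) rfl N4888 D17556
theorem N8139 : nd 8139 = n17558 := ndS (p := 4889) (l := 3) rfl N4889 D17558
theorem N8140 : nd 8140 = n17559 := ndS (p := 4889) (l := 6) rfl N4889 D17559
theorem N8141 : nd 8141 = n17560 := ndS (p := 4890) (l := 5) rfl N4890 D17560
theorem N8142 : nd 8142 = n17562 := ndS (p := 4891) (l := 4) rfl N4891 D17562
theorem N8143 : nd 8143 = n17567 := ndS (p := 4892) (l := 3) rfl N4892 D17567
theorem N8144 : nd 8144 = n17569 := ndS (p := 4892) (l := 5) rfl N4892 D17569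
theorem N8145 : nd 8145 = n17574 := ndS (p := 4893) (l := 1) rfl N4893 D17574
theorem N8146 : nd 8146 = n17583 := ndS (p := 4894) (l := 0) rfl N4894 D17583
theorem N8147 : nd 8147 = n17584 := ndS (p := 4894) (l := 2) rfl N4894 D17584
theorem N8148 : nd 8148 = n17586 := ndS (p := 4895) (l := 0) rfl N4895 D17586
theorem N8149 : nd 8149 = n17587 := ndS (p := 4895) (l := 2) rfl N4895 D17587
theorem N8150 : nd 8150 = n17588 := ndS (p := 4895) (l := 5) rfl N4895 D17588
theorem N8151 : nd 8151 = n17601 := ndS (p := 4896) (l := 1) rfl N4896 D17601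
theorem N8152 : nd 8152 = n17602 := ndS (p := 4896) (l := 2) rfl N4896 D17602
theorem N8153 : nd 8153 = n17603 := ndS (p := 4897) (l := 3) rfl N4897 D17603
theorem N8154 : nd 8154 = n17607 := ndS (p := 4898) (l := 2) rfl N4898 D17607
theorem N8155 : nd 8155 = n17625 := ndS (p := 4899) (l := 0) rfl N4899 D17625
theorem N8156 : nd 8156 = n17626 := ndS (p := 4899) (l := 2) rfl N4899 D17626
theorem N8157 : nd 8157 = n17627 := ndS (p := 4899) (l := 5) rfl N4899 D17627
theorem N8158 : nd 8158 = n17629 := ndS (p := 4900) (l := 1) rfl N4900 D17629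
theorem N8159 : nd 8159 = n17630 := ndS (p := 4900) (l := 3) rfl N4900 D17630
theorem N8160 : nd 8160 = n17633 := ndS (p := 4901) (l := 2) rfl N4901 D17633
theorem N8161 : nd 8161 = n17634 := ndS (p := 4901) (l := 4) rfl N4901 D17634
theorem N8162 : nd 8162 = n17635 := ndS (p := 4901) (l := 6) rfl N4901 D17635
theorem N8163 : nd 8163 = n17636 := ndS (p := 4902) (l := 1) rfl N4902 D17636
theorem N8164 : nd 8164 = n17637 := ndS (p := 4902) (l := 5) rfl N4902 D17637
theorem N8165 : nd 8165 = n17638 := ndS (p := 4903) (l := 1) rfl N4903 D17638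
theorem N8166 : nd 8166 = n17646 := ndS (p := 4904) (l := 1) rfl N4904 D17646
theorem N8167 : nd 8167 = n17648 := ndS (p := 4905) (l := 0) rfl N4905 D17648
theorem N8168 : nd 8168 = n17649 := ndS (p := 4905) (l := 5) rfl N4905 D17649
theorem N8169 : nd 8169 = n17650 := ndS (p := 4905) (l := 6) rfl N4905 D17650
theorem N8170 : nd 8170 = n17651 := ndS (p := 4906) (l := 6) rfl N4906 D17651
theorem N8171 : nd 8171 = n17652 := ndS (p := 4907) (l := 1) rfl N4907 D17652
theorem N8172 : nd 8172 = n17654 := ndS (p := 4908) (l := 5) rfl N4908 D17654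
theorem N8173 : nd 8173 = n17732 := ndS (p := 4909) (l := 2) rfl N4909 D17732
theorem N8174 : nd 8174 = n17734 := ndS (p := 4910) (l := 3) rfl N4910 D17734
theorem N8175 : nd 8175 = n17735 := ndS (p := 4910) (l := 5) rfl N4910 D17735
theorem N8176 : nd 8176 = n17736 := ndS (p := 4911) (l := 6) rfl N4911 D17736
theorem N8177 : nd 8177 = n17738 := ndS (p := 4912) (l := 4) rfl N4912 D17738
theorem N8178 : nd 8178 = n17743 := ndS (p := 4913) (l := 3) rfl N4913 D17743
theorem N8179 : nd 8179 = n17746 := ndS (p := 4913) (l := 6) rfl N4913 D17746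
theorem N8180 : nd 8180 = n17759 := ndS (p := 4915) (l := 0) rfl N4915 D17759
theorem N8181 : nd 8181 = n17760 := ndS (p := 4915) (l := 2) rfl N4915 D17760
theorem N8182 : nd 8182 = n17780 := ndS (p := 4916) (l := 1) rfl N4916 D17780
theorem N8183 : nd 8183 = n17781 := ndS (p := 4916) (l := 2) rfl N4916 D17781
theorem N8184 : nd 8184 = n17782 := ndS (p := 4917) (l := 3) rfl N4917 D17782
theorem N8185 : nd 8185 = n17801 := ndS (p := 4918) (l := 0) rfl N4918 D17801
theorem N8186 : nd 8186 = n17802 := ndS (p := 4918) (l := 2) rfl N4918 D17802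
theorem N8187 : nd 8187 = n17804 := ndS (p := 4918) (l := 6) rfl N4918 D17804
theorem N8188 : nd 8188 = n17805 := ndS (p := 4919) (l := 1) rfl N4919 D17805
theorem N8189 : nd 8189 = n17806 := ndS (p := 4919) (l := 3) rfl N4919 D17806
theorem N8190 : nd 8190 = n17809 := ndS (p := 4920) (l := 2) rfl N4920 D17809
theorem N8191 : nd 8191 = n17810 := ndS (p := 4920) (l := 4) rfl N4920 D17810
theorem N8192 : nd 8192 = n17811 := ndS (p := 4920) (l := 5) rfl N4920 D17811
theorem N8193 : nd 8193 = n17812 := ndS (p := 4921) (l := 1) rfl N4921 D17812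
theorem N8194 : nd 8194 = n17813 := ndS (p := 4921) (l := 6) rfl N4921 D17813
theorem N8195 : nd 8195 = n17814 := ndS (p := 4922) (l := 1) rfl N4922 D17814
theorem N8196 : nd 8196 = n17820 := ndS (p := 4923) (l := 1) rfl N4923 D17820
theorem N8197 : nd 8197 = n17822 := ndS (p := 4924) (l := 0) rfl N4924 D17822
theorem N8198 : nd 8198 = n17823 := ndS (p := 4924) (l := 5) rfl N4924 D17823
theorem N8199 : nd 8199 = n17824 := ndS (p := 4924) (l := 6) rfl N4924 D17824
theorem N8200 : nd 8200 = n17825 := ndS (p := 4925) (l := 5) rfl N4925 D17825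
theorem N8201 : nd 8201 = n17826 := ndS (p := 4926) (l := 1) rfl N4926 D17826
theorem N8202 : nd 8202 = n17828 := ndS (p := 4927) (l := 6) rfl N4927 D17828
theorem N8203 : nd 8203 = n18155 := ndS (p := 4930) (l := 1) rfl N4930 D18155
theorem N8204 : nd 8204 = n18156 := ndS (p := 4931) (l := 1) rfl N4931 D18156
theorem N8205 : nd 8205 = n18163 := ndS (p := 4934) (l := 6) rfl N4934 D18163
theorem N8206 : nd 8206 = n18165 := ndS (p := 4935) (l := 5) rfl N4935 D18165
theorem N8207 : nd 8207 = n18169 := ndS (p := 4938) (l := 2) rfl N4938 D18169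
theorem N8208 : nd 8208 = n18170 := ndS (p := 4938) (l := 5) rfl N4938 D18170
theorem N8209 : nd 8209 = n18172 := ndS (p := 4939) (l := 2) rfl N4939 D18172
theorem N8210 : nd 8210 = n18173 := ndS (p := 4939) (l := 6) rfl N4939 D18173
theorem N8211 : nd 8211 = n18174 := ndS (p := 4940) (l := 3) rfl N4940 D18174
theorem N8212 : nd 8212 = n18175 := ndS (p := 4940) (l := 5) rfl N4940 D18175
theorem N8213 : nd 8213 = n18176 := ndS (p := 4940) (l := 6) rfl N4940 D18176
theorem N8214 : nd 8214 = n18178 := ndS (p := 4942) (l := 5) rfl N4942 D18178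
theorem N8215 : nd 8215 = n18179 := ndS (p := 4942) (l := 6) rfl N4942 D18179
theorem N8216 : nd 8216 = n18180 := ndS (p := 4943) (l := 6) rfl N4943 D18180
theorem N8217 : nd 8217 = n18182 := ndS (p := 4944) (l := 5) rfl N4944 D18182
theorem N8218 : nd 8218 = n18183 := ndS (p := 4945) (l := 1) rfl N4945 D18183
theorem N8219 : nd 8219 = n18184 := ndS (p := 4946) (l := 1) rfl N4946 D18184
theorem N8220 : nd 8220 = n18185 := ndS (p := 4947) (l := 0) rfl N4947 D18185
theorem N8221 : nd 8221 = n18186 := ndS (p := 4947) (l := 6) rfl N4947 D18186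
theorem N8222 : nd 8222 = n18187 := ndS (p := 4948) (l := 0) rfl N4948 D18187
theorem N8223 : nd 8223 = n18189 := ndS (p := 4948) (l := 5) rfl N4948 D18189
theorem N8224 : nd 8224 = n18190 := ndS (p := 4949) (l := 1) rfl N4949 D18190
theorem N8225 : nd 8225 = n18191 := ndS (p := 4950) (l := 1) rfl N4950 D18191
theorem N8226 : nd 8226 = n18192 := ndS (p := 4951) (l := 0) rfl N4951 D18192
theorem N8227 : nd 8227 = n18193 := ndS (p := 4951) (l := 2) rfl N4951 D18193
theorem N8228 : nd 8228 = n18194 := ndS (p := 4951) (l := 6) rfl N4951 D18194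
theorem N8229 : nd 8229 = n18195 := ndS (p := 4952) (l := 1) rfl N4952 D18195
theorem N8230 : nd 8230 = n18196 := ndS (p := 4953) (l := 0) rfl N4953 D18196
theorem N8231 : nd 8231 = n18197 := ndS (p := 4953) (l := 2) rfl N4953 D18197
theorem N8232 : nd 8232 = n18198 := ndS (p := 4953) (l := 5) rfl N4953 D18198
theorem N8233 : nd 8233 = n18199 := ndS (p := 4954) (l := 1) rfl N4954 D18199
theorem N8234 : nd 8234 = n18200 := ndS (p := 4956) (l := 1) rfl N4956 D18200
theorem N8235 : nd 8235 = n18201 := ndS (p := 4957) (l := 0) rfl N4957 D18201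
theorem N8236 : nd 8236 = n18202 := ndS (p := 4957) (l := 2) rfl N4957 D18202
theorem N8237 : nd 8237 = n18203 := ndS (p := 4957) (l := 5) rfl N4957 D18203
theorem N8238 : nd 8238 = n18205 := ndS (p := 4959) (l := 1) rfl N4959 D18205
theorem N8239 : nd 8239 = n18206 := ndS (p := 4960) (l := 0) rfl N4960 D18206
theorem N8240 : nd 8240 = n18207 := ndS (p := 4960) (l := 2) rfl N4960 D18207
theorem N8241 : nd 8241 = n18208 := ndS (p := 4960) (l := 6) rfl N4960 D18208
theorem N8242 : nd 8242 = n18209 := ndS (p := 4961) (l := 6) rfl N4961 D18209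
theorem N8243 : nd 8243 = n18210 := ndS (p := 4962) (l := 6) rfl N4962 D18210
theorem N8244 : nd 8244 = n18211 := ndS (p := 4963) (l := 5) rfl N4963 D18211
theorem N8245 : nd 8245 = n18213 := ndS (p := 4964) (l := 5) rfl N4964 D18213
theorem N8246 : nd 8246 = n18214 := ndS (p := 4965) (l := 5) rfl N4965 D18214
theorem N8247 : nd 8247 = n18215 := ndS (p := 4966) (l := 6) rfl N4966 D18215
theorem N8248 : nd 8248 = n18216 := ndS (p := 4967) (l := 1) rfl N4967 D18216
theorem N8249 : nd 8249 = n18217 := ndS (p := 4968) (l := 1) rfl N4968 D18217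
theorem N8250 : nd 8250 = n18222 := ndS (p := 4969) (l := 1) rfl N4969 D18222
theorem N8251 : nd 8251 = n18223 := ndS (p := 4970) (l := 1) rfl N4970 D18223
theorem N8252 : nd 8252 = n18226 := ndS (p := 4973) (l := 1) rfl N4973 D18226
theorem N8253 : nd 8253 = n18230 := ndS (p := 4974) (l := 1) rfl N4974 D18230
theorem N8254 : nd 8254 = n18231 := ndS (p := 4975) (l := 1) rfl N4975 D18231
theorem N8255 : nd 8255 = n18232 := ndS (p := 4975) (l := 6) rfl N4975 D18232
theorem N8256 : nd 8256 = n18233 := ndS (p := 4976) (l := 5) rfl N4976 D18233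
theorem N8257 : nd 8257 = n18234 := ndS (p := 4977) (l := 1) rfl N4977 D18234
theorem N8258 : nd 8258 = n18236 := ndS (p := 4977) (l := 5) rfl N4977 D18236
theorem N8259 : nd 8259 = n18239 := ndS (p := 4978) (l := 6) rfl N4978 D18239
theorem N8260 : nd 8260 = n18240 := ndS (p := 4979) (l := 0) rfl N4979 D18240
theorem N8261 : nd 8261 = n18241 := ndS (p := 4979) (l := 6) rfl N4979 D18241
theorem N8262 : nd 8262 = n18242 := ndS (p := 4980) (l := 0) rfl N4980 D18242
theorem N8263 : nd 8263 = n18243 := ndS (p := 4980) (l := 2) rfl N4980 D18243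
theorem N8264 : nd 8264 = n18244 := ndS (p := 4980) (l := 5) rfl N4980 D18244
theorem N8265 : nd 8265 = n18245 := ndS (p := 4981) (l := 1) rfl N4981 D18245
theorem N8266 : nd 8266 = n18246 := ndS (p := 4981) (l := 2) rfl N4981 D18246
theorem N8267 : nd 8267 = n18247 := ndS (p := 4981) (l := 5) rfl N4981 D18247
theorem N8268 : nd 8268 = n18248 := ndS (p := 4982) (l := 3) rfl N4982 D18248
theorem N8269 : nd 8269 = n18249 := ndS (p := 4982) (l := 5) rfl N4982 D18249
theorem N8270 : nd 8270 = n18250 := ndS (p := 4983) (l := 6) rfl N4983 D18250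
theorem N8271 : nd 8271 = n18251 := ndS (p := 4984) (l := 0) rfl N4984 D18251
theorem N8272 : nd 8272 = n18253 := ndS (p := 4984) (l := 5) rfl N4984 D18253
theorem N8273 : nd 8273 = n18255 := ndS (p := 4985) (l := 0) rfl N4985 D18255
theorem N8274 : nd 8274 = n18256 := ndS (p := 4985) (l := 2) rfl N4985 D18256
theorem N8275 : nd 8275 = n18257 := ndS (p := 4985) (l := 6) rfl N4985 D18257
theorem N8276 : nd 8276 = n18258 := ndS (p := 4986) (l := 1) rfl N4986 D18258
theorem N8277 : nd 8277 = n18259 := ndS (p := 4986) (l := 2) rfl N4986 D18259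
theorem N8278 : nd 8278 = n18260 := ndS (p := 4986) (l := 6) rfl N4986 D18260
theorem N8279 : nd 8279 = n18261 := ndS (p := 4987) (l := 3) rfl N4987 D18261
theorem N8280 : nd 8280 = n18262 := ndS (p := 4987) (l := 6) rfl N4987 D18262
theorem N8281 : nd 8281 = n18263 := ndS (p := 4988) (l := 5) rfl N4988 D18263
theorem N8282 : nd 8282 = n18264 := ndS (p := 4989) (l := 6) rfl N4989 D18264
theorem N8283 : nd 8283 = n18265 := ndS (p := 4990) (l := 1) rfl N4990 D18265
theorem N8284 : nd 8284 = n18266 := ndS (p := 4990) (l := 5) rfl N4990 D18266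
theorem N8285 : nd 8285 = n18267 := ndS (p := 4991) (l := 0) rfl N4991 D18267
theorem N8286 : nd 8286 = n18268 := ndS (p := 4991) (l := 2) rfl N4991 D18268
theorem N8287 : nd 8287 = n18269 := ndS (p := 4991) (l := 5) rfl N4991 D18269
theorem N8288 : nd 8288 = n18270 := ndS (p := 4992) (l := 0) rfl N4992 D18270
theorem N8289 : nd 8289 = n18271 := ndS (p := 4992) (l := 2) rfl N4992 D18271
theorem N8290 : nd 8290 = n18272 := ndS (p := 4992) (l := 6) rfl N4992 D18272
theorem N8291 : nd 8291 = n18274 := ndS (p := 4993) (l := 5) rfl N4993 D18274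
theorem N8292 : nd 8292 = n18279 := ndS (p := 4994) (l := 1) rfl N4994 D18279
theorem N8293 : nd 8293 = n18280 := ndS (p := 4994) (l := 6) rfl N4994 D18280
theorem N8294 : nd 8294 = n18282 := ndS (p := 4995) (l := 0) rfl N4995 D18282
theorem N8295 : nd 8295 = n18283 := ndS (p := 4995) (l := 2) rfl N4995 D18283
theorem N8296 : nd 8296 = n18284 := ndS (p := 4995) (l := 6) rfl N4995 D18284
theorem N8297 : nd 8297 = n18285 := ndS (p := 4996) (l := 0) rfl N4996 D18285
theorem N8298 : nd 8298 = n18286 := ndS (p := 4996) (l := 2) rfl N4996 D18286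
theorem N8299 : nd 8299 = n18287 := ndS (p := 4996) (l := 5) rfl N4996 D18287
theorem N8300 : nd 8300 = n18288 := ndS (p := 4997) (l := 0) rfl N4997 D18288
theorem N8301 : nd 8301 = n18289 := ndS (p := 4997) (l := 2) rfl N4997 D18289
theorem N8302 : nd 8302 = n18290 := ndS (p := 4997) (l := 6) rfl N4997 D18290
theorem N8303 : nd 8303 = n18291 := ndS (p := 4998) (l := 0) rfl N4998 D18291
theorem N8304 : nd 8304 = n18292 := ndS (p := 4998) (l := 2) rfl N4998 D18292
theorem N8305 : nd 8305 = n18293 := ndS (p := 4998) (l := 5) rfl N4998 D18293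
theorem N8306 : nd 8306 = n18294 := ndS (p := 4999) (l := 1) rfl N4999 D18294
theorem N8307 : nd 8307 = n18295 := ndS (p := 4999) (l := 2) rfl N4999 D18295
theorem N8308 : nd 8308 = n18296 := ndS (p := 4999) (l := 6) rfl N4999 D18296
theorem N8309 : nd 8309 = n18297 := ndS (p := 5000) (l := 3) rfl N5000 D18297
theorem N8310 : nd 8310 = n18298 := ndS (p := 5000) (l := 6) rfl N5000 D18298
theorem N8311 : nd 8311 = n18299 := ndS (p := 5001) (l := 5) rfl N5001 D18299
theorem N8312 : nd 8312 = n18300 := ndS (p := 5002) (l := 1) rfl N5002 D18300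
theorem N8313 : nd 8313 = n18301 := ndS (p := 5002) (l := 2) rfl N5002 D18301
theorem N8314 : nd 8314 = n18302 := ndS (p := 5002) (l := 5) rfl N5002 D18302
theorem N8315 : nd 8315 = n18303 := ndS (p := 5003) (l := 3) rfl N5003 D18303
theorem N8316 : nd 8316 = n18304 := ndS (p := 5003) (l := 5) rfl N5003 D18304
theorem N8317 : nd 8317 = n18305 := ndS (p := 5004) (l := 6) rfl N5004 D18305
theorem N8318 : nd 8318 = n18306 := ndS (p := 5005) (l := 4) rfl N5005 D18306
theorem N8319 : nd 8319 = n18307 := ndS (p := 5006) (l := 4) rfl N5006 D18307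
theorem N8320 : nd 8320 = n18309 := ndS (p := 5007) (l := 0) rfl N5007 D18309
theorem N8321 : nd 8321 = n18310 := ndS (p := 5007) (l := 2) rfl N5007 D18310
theorem N8322 : nd 8322 = n18311 := ndS (p := 5007) (l := 6) rfl N5007 D18311
theorem N8323 : nd 8323 = n18312 := ndS (p := 5008) (l := 0) rfl N5008 D18312
theorem N8324 : nd 8324 = n18313 := ndS (p := 5008) (l := 2) rfl N5008 D18313
theorem N8325 : nd 8325 = n18314 := ndS (p := 5008) (l := 5) rfl N5008 D18314
theorem N8326 : nd 8326 = n18315 := ndS (p := 5009) (l := 2) rfl N5009 D18315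
theorem N8327 : nd 8327 = n18316 := ndS (p := 5010) (l := 3) rfl N5010 D18316
theorem N8328 : nd 8328 = n18317 := ndS (p := 5010) (l := 6) rfl N5010 D18317
theorem N8329 : nd 8329 = n18323 := ndS (p := 5012) (l := 2) rfl N5012 D18323
theorem N8330 : nd 8330 = n18324 := ndS (p := 5013) (l := 3) rfl N5013 D18324
theorem N8331 : nd 8331 = n18325 := ndS (p := 5013) (l := 5) rfl N5013 D18325
theorem N8332 : nd 8332 = n18330 := ndS (p := 5015) (l := 6) rfl N5015 D18330
theorem N8333 : nd 8333 = n18331 := ndS (p := 5016) (l := 1) rfl N5016 D18331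
theorem N8334 : nd 8334 = n18332 := ndS (p := 5016) (l := 3) rfl N5016 D18332
theorem N8335 : nd 8335 = n18333 := ndS (p := 5016) (l := 6) rfl N5016 D18333
theorem N8336 : nd 8336 = n18335 := ndS (p := 5018) (l := 4) rfl N5018 D18335
theorem N8337 : nd 8337 = n18336 := ndS (p := 5018) (l := 6) rfl N5018 D18336
theorem N8338 : nd 8338 = n18337 := ndS (p := 5019) (l := 5) rfl N5019 D18337
theorem N8339 : nd 8339 = n18338 := ndS (p := 5020) (l := 1) rfl N5020 D18338
theorem N8340 : nd 8340 = n18341 := ndS (p := 5021) (l := 5) rfl N5021 D18341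
theorem N8341 : nd 8341 = n18343 := ndS (p := 5022) (l := 1) rfl N5022 D18343
theorem N8342 : nd 8342 = n18344 := ndS (p := 5022) (l := 3) rfl N5022 D18344
theorem N8343 : nd 8343 = n18345 := ndS (p := 5022) (l := 5) rfl N5022 D18345
theorem N8344 : nd 8344 = n18348 := ndS (p := 5024) (l := 4) rfl N5024 D18348
theorem N8345 : nd 8345 = n18349 := ndS (p := 5024) (l := 5) rfl N5024 D18349
theorem N8346 : nd 8346 = n18350 := ndS (p := 5025) (l := 6) rfl N5025 D18350
theorem N8347 : nd 8347 = n18351 := ndS (p := 5026) (l := 1) rfl N5026 D18351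
theorem N8348 : nd 8348 = n18352 := ndS (p := 5029) (l := 6) rfl N5029 D18352
theorem N8349 : nd 8349 = n18354 := ndS (p := 5030) (l := 5) rfl N5030 D18354
theorem N8350 : nd 8350 = n18359 := ndS (p := 5031) (l := 0) rfl N5031 D18359
theorem N8351 : nd 8351 = n18360 := ndS (p := 5031) (l := 2) rfl N5031 D18360
theorem N8352 : nd 8352 = n18361 := ndS (p := 5031) (l := 6) rfl N5031 D18361
theorem N8353 : nd 8353 = n18362 := ndS (p := 5032) (l := 1) rfl N5032 D18362
theorem N8354 : nd 8354 = n18363 := ndS (p := 5033) (l := 0) rfl N5033 D18363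
theorem N8355 : nd 8355 = n18364 := ndS (p := 5033) (l := 2) rfl N5033 D18364
theorem N8356 : nd 8356 = n18365 := ndS (p := 5033) (l := 5) rfl N5033 D18365
theorem N8357 : nd 8357 = n18366 := ndS (p := 5034) (l := 1) rfl N5034 D18366
theorem N8358 : nd 8358 = n18367 := ndS (p := 5035) (l := 1) rfl N5035 D18367
theorem N8359 : nd 8359 = n18368 := ndS (p := 5035) (l := 2) rfl N5035 D18368
theorem N8360 : nd 8360 = n18369 := ndS (p := 5036) (l := 3) rfl N5036 D18369
theorem N8361 : nd 8361 = n18370 := ndS (p := 5036) (l := 6) rfl N5036 D18370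
theorem N8362 : nd 8362 = n18371 := ndS (p := 5037) (l := 1) rfl N5037 D18371
theorem N8363 : nd 8363 = n18372 := ndS (p := 5038) (l := 0) rfl N5038 D18372
theorem N8364 : nd 8364 = n18373 := ndS (p := 5038) (l := 2) rfl N5038 D18373
theorem N8365 : nd 8365 = n18374 := ndS (p := 5038) (l := 5) rfl N5038 D18374
theorem N8366 : nd 8366 = n18375 := ndS (p := 5039) (l := 1) rfl N5039 D18375
theorem N8367 : nd 8367 = n18376 := ndS (p := 5039) (l := 2) rfl N5039 D18376
theorem N8368 : nd 8368 = n18377 := ndS (p := 5040) (l := 3) rfl N5040 D18377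
theorem N8369 : nd 8369 = n18378 := ndS (p := 5040) (l := 5) rfl N5040 D18378
theorem N8370 : nd 8370 = n18379 := ndS (p := 5041) (l := 1) rfl N5041 D18379
theorem N8371 : nd 8371 = n18380 := ndS (p := 5042) (l := 0) rfl N5042 D18380
theorem N8372 : nd 8372 = n18381 := ndS (p := 5042) (l := 2) rfl N5042 D18381
theorem N8373 : nd 8373 = n18382 := ndS (p := 5042) (l := 6) rfl N5042 D18382
theorem N8374 : nd 8374 = n18383 := ndS (p := 5043) (l := 1) rfl N5043 D18383
theorem N8375 : nd 8375 = n18384 := ndS (p := 5043) (l := 6) rfl N5043 D18384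
theorem N8376 : nd 8376 = n18385 := ndS (p := 5044) (l := 6) rfl N5044 D18385
theorem N8377 : nd 8377 = n18386 := ndS (p := 5045) (l := 1) rfl N5045 D18386
theorem N8378 : nd 8378 = n18387 := ndS (p := 5045) (l := 5) rfl N5045 D18387
theorem N8379 : nd 8379 = n18388 := ndS (p := 5046) (l := 0) rfl N5046 D18388
theorem N8380 : nd 8380 = n18390 := ndS (p := 5046) (l := 5) rfl N5046 D18390
theorem N8381 : nd 8381 = n18391 := ndS (p := 5047) (l := 1) rfl N5047 D18391
theorem N8382 : nd 8382 = n18392 := ndS (p := 5047) (l := 5) rfl N5047 D18392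
theorem N8383 : nd 8383 = n18393 := ndS (p := 5048) (l := 5) rfl N5048 D18393
theorem N8384 : nd 8384 = n18394 := ndS (p := 5049) (l := 1) rfl N5049 D18394
theorem N8385 : nd 8385 = n18395 := ndS (p := 5049) (l := 6) rfl N5049 D18395
theorem N8386 : nd 8386 = n18396 := ndS (p := 5050) (l := 0) rfl N5050 D18396
theorem N8387 : nd 8387 = n18398 := ndS (p := 5050) (l := 6) rfl N5050 D18398
theorem N8388 : nd 8388 = n18399 := ndS (p := 5051) (l := 6) rfl N5051 D18399
theorem N8389 : nd 8389 = n18400 := ndS (p := 5052) (l := 1) rfl N5052 D18400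
theorem N8390 : nd 8390 = n18401 := ndS (p := 5052) (l := 3) rfl N5052 D18401
theorem N8391 : nd 8391 = n18402 := ndS (p := 5052) (l := 6) rfl N5052 D18402
theorem N8392 : nd 8392 = n18403 := ndS (p := 5053) (l := 1) rfl N5053 D18403
theorem N8393 : nd 8393 = n18404 := ndS (p := 5054) (l := 4) rfl N5054 D18404
theorem N8394 : nd 8394 = n18405 := ndS (p := 5054) (l := 6) rfl N5054 D18405
theorem N8395 : nd 8395 = n18406 := ndS (p := 5055) (l := 1) rfl N5055 D18406
theorem N8396 : nd 8396 = n18407 := ndS (p := 5055) (l := 5) rfl N5055 D18407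
theorem N8397 : nd 8397 = n18408 := ndS (p := 5056) (l := 0) rfl N5056 D18408
theorem N8398 : nd 8398 = n18409 := ndS (p := 5056) (l := 2) rfl N5056 D18409
theorem N8399 : nd 8399 = n18410 := ndS (p := 5056) (l := 5) rfl N5056 D18410
theorem N8400 : nd 8400 = n18411 := ndS (p := 5057) (l := 1) rfl N5057 D18411
theorem N8401 : nd 8401 = n18412 := ndS (p := 5058) (l := 1) rfl N5058 D18412
theorem N8402 : nd 8402 = n18413 := ndS (p := 5058) (l := 2) rfl N5058 D18413
theorem N8403 : nd 8403 = n18414 := ndS (p := 5058) (l := 5) rfl N5058 D18414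
theorem N8404 : nd 8404 = n18415 := ndS (p := 5059) (l := 3) rfl N5059 D18415
theorem N8405 : nd 8405 = n18416 := ndS (p := 5059) (l := 5) rfl N5059 D18416
theorem N8406 : nd 8406 = n18417 := ndS (p := 5060) (l := 6) rfl N5060 D18417
theorem N8407 : nd 8407 = n18419 := ndS (p := 5061) (l := 5) rfl N5061 D18419
theorem N8408 : nd 8408 = n18421 := ndS (p := 5062) (l := 1) rfl N5062 D18421
theorem N8409 : nd 8409 = n18422 := ndS (p := 5062) (l := 3) rfl N5062 D18422
theorem N8410 : nd 8410 = n18423 := ndS (p := 5062) (l := 5) rfl N5062 D18423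
theorem N8411 : nd 8411 = n18424 := ndS (p := 5063) (l := 1) rfl N5063 D18424
theorem N8412 : nd 8412 = n18425 := ndS (p := 5064) (l := 4) rfl N5064 D18425
theorem N8413 : nd 8413 = n18426 := ndS (p := 5064) (l := 5) rfl N5064 D18426
theorem N8414 : nd 8414 = n18427 := ndS (p := 5065) (l := 1) rfl N5065 D18427
theorem N8415 : nd 8415 = n18428 := ndS (p := 5065) (l := 6) rfl N5065 D18428
theorem N8416 : nd 8416 = n18429 := ndS (p := 5066) (l := 0) rfl N5066 D18429
theorem N8417 : nd 8417 = n18430 := ndS (p := 5066) (l := 2) rfl N5066 D18430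
theorem N8418 : nd 8418 = n18431 := ndS (p := 5066) (l := 6) rfl N5066 D18431
theorem N8419 : nd 8419 = n18432 := ndS (p := 5067) (l := 1) rfl N5067 D18432
theorem N8420 : nd 8420 = n18433 := ndS (p := 5068) (l := 1) rfl N5068 D18433
theorem N8421 : nd 8421 = n18434 := ndS (p := 5068) (l := 2) rfl N5068 D18434
theorem N8422 : nd 8422 = n18435 := ndS (p := 5068) (l := 6) rfl N5068 D18435
theorem N8423 : nd 8423 = n18436 := ndS (p := 5069) (l := 3) rfl N5069 D18436
theorem N8424 : nd 8424 = n18437 := ndS (p := 5069) (l := 6) rfl N5069 D18437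
theorem N8425 : nd 8425 = n18438 := ndS (p := 5070) (l := 5) rfl N5070 D18438
theorem N8426 : nd 8426 = n18439 := ndS (p := 5071) (l := 6) rfl N5071 D18439
theorem N8427 : nd 8427 = n18440 := ndS (p := 5072) (l := 1) rfl N5072 D18440
theorem N8428 : nd 8428 = n18441 := ndS (p := 5073) (l := 0) rfl N5073 D18441
theorem N8429 : nd 8429 = n18442 := ndS (p := 5073) (l := 5) rfl N5073 D18442
theorem N8430 : nd 8430 = n18443 := ndS (p := 5074) (l := 4) rfl N5074 D18443
theorem N8431 : nd 8431 = n18444 := ndS (p := 5075) (l := 5) rfl N5075 D18444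
theorem N8432 : nd 8432 = n18445 := ndS (p := 5076) (l := 1) rfl N5076 D18445
theorem N8433 : nd 8433 = n18446 := ndS (p := 5077) (l := 0) rfl N5077 D18446
theorem N8434 : nd 8434 = n18447 := ndS (p := 5077) (l := 6) rfl N5077 D18447
theorem N8435 : nd 8435 = n18448 := ndS (p := 5078) (l := 4) rfl N5078 D18448
theorem N8436 : nd 8436 = n18453 := ndS (p := 5081) (l := 3) rfl N5081 D18453
theorem N8437 : nd 8437 = n18466 := ndS (p := 5082) (l := 5) rfl N5082 D18466
theorem N8438 : nd 8438 = n18467 := ndS (p := 5082) (l := 6) rfl N5082 D18467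
theorem N8439 : nd 8439 = n18469 := ndS (p := 5085) (l := 5) rfl N5085 D18469
theorem N8440 : nd 8440 = n18470 := ndS (p := 5085) (l := 6) rfl N5085 D18470
theorem N8441 : nd 8441 = n18471 := ndS (p := 5086) (l := 1) rfl N5086 D18471
theorem N8442 : nd 8442 = n18473 := ndS (p := 5087) (l := 1) rfl N5087 D18473
theorem N8443 : nd 8443 = n18478 := ndS (p := 5092) (l := 6) rfl N5092 D18478
theorem N8444 : nd 8444 = n18482 := ndS (p := 5093) (l := 5) rfl N5093 D18482
theorem N8445 : nd 8445 = n18483 := ndS (p := 5095) (l := 6) rfl N5095 D18483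
theorem N8446 : nd 8446 = n18484 := ndS (p := 5096) (l := 1) rfl N5096 D18484
theorem N8447 : nd 8447 = n18485 := ndS (p := 5097) (l := 0) rfl N5097 D18485
theorem N8448 : nd 8448 = n18489 := ndS (p := 5099) (l := 5) rfl N5099 D18489
theorem N8449 : nd 8449 = n18490 := ndS (p := 5100) (l := 1) rfl N5100 D18490
theorem N8450 : nd 8450 = n18491 := ndS (p := 5101) (l := 0) rfl N5101 D18491
theorem N8451 : nd 8451 = n18492 := ndS (p := 5102) (l := 0) rfl N5102 D18492
theorem N8452 : nd 8452 = n18493 := ndS (p := 5102) (l := 6) rfl N5102 D18493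
theorem N8453 : nd 8453 = n18494 := ndS (p := 5104) (l := 1) rfl N5104 D18494
theorem N8454 : nd 8454 = n18495 := ndS (p := 5105) (l := 0) rfl N5105 D18495
theorem N8455 : nd 8455 = n18496 := ndS (p := 5105) (l := 2) rfl N5105 D18496
theorem N8456 : nd 8456 = n18497 := ndS (p := 5105) (l := 5) rfl N5105 D18497
theorem N8457 : nd 8457 = n18499 := ndS (p := 5106) (l := 2) rfl N5106 D18499
theorem N8458 : nd 8458 = n18500 := ndS (p := 5106) (l := 5) rfl N5106 D18500
theorem N8459 : nd 8459 = n18501 := ndS (p := 5107) (l := 3) rfl N5107 D18501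
theorem N8460 : nd 8460 = n18502 := ndS (p := 5107) (l := 5) rfl N5107 D18502
theorem N8461 : nd 8461 = n18503 := ndS (p := 5108) (l := 6) rfl N5108 D18503
theorem N8462 : nd 8462 = n18504 := ndS (p := 5109) (l := 0) rfl N5109 D18504
theorem N8463 : nd 8463 = n18506 := ndS (p := 5109) (l := 5) rfl N5109 D18506
theorem N8464 : nd 8464 = n18513 := ndS (p := 5111) (l := 1) rfl N5111 D18513
theorem N8465 : nd 8465 = n18514 := ndS (p := 5112) (l := 0) rfl N5112 D18514
theorem N8466 : nd 8466 = n18515 := ndS (p := 5112) (l := 2) rfl N5112 D18515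
theorem N8467 : nd 8467 = n18516 := ndS (p := 5112) (l := 6) rfl N5112 D18516
theorem N8468 : nd 8468 = n18518 := ndS (p := 5113) (l := 2) rfl N5113 D18518
theorem N8469 : nd 8469 = n18519 := ndS (p := 5113) (l := 6) rfl N5113 D18519
theorem N8470 : nd 8470 = n18520 := ndS (p := 5114) (l := 3) rfl N5114 D18520
theorem N8471 : nd 8471 = n18521 := ndS (p := 5114) (l := 6) rfl N5114 D18521
theorem N8472 : nd 8472 = n18522 := ndS (p := 5115) (l := 5) rfl N5115 D18522
theorem N8473 : nd 8473 = n18523 := ndS (p := 5116) (l := 6) rfl N5116 D18523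
theorem N8474 : nd 8474 = n18524 := ndS (p := 5118) (l := 1) rfl N5118 D18524
theorem N8475 : nd 8475 = n18527 := ndS (p := 5119) (l := 5) rfl N5119 D18527
theorem N8476 : nd 8476 = n18528 := ndS (p := 5120) (l := 5) rfl N5120 D18528
theorem N8477 : nd 8477 = n18530 := ndS (p := 5122) (l := 1) rfl N5122 D18530
theorem N8478 : nd 8478 = n18534 := ndS (p := 5123) (l := 6) rfl N5123 D18534
theorem N8479 : nd 8479 = n18536 := ndS (p := 5125) (l := 1) rfl N5125 D18536
theorem N8480 : nd 8480 = n18537 := ndS (p := 5126) (l := 0) rfl N5126 D18537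
theorem N8481 : nd 8481 = n18538 := ndS (p := 5126) (l := 2) rfl N5126 D18538
theorem N8482 : nd 8482 = n18539 := ndS (p := 5127) (l := 1) rfl N5127 D18539
theorem N8483 : nd 8483 = n18540 := ndS (p := 5128) (l := 1) rfl N5128 D18540
theorem N8484 : nd 8484 = n18542 := ndS (p := 5129) (l := 3) rfl N5129 D18542
theorem N8485 : nd 8485 = n18543 := ndS (p := 5129) (l := 5) rfl N5129 D18543
theorem N8486 : nd 8486 = n18544 := ndS (p := 5130) (l := 6) rfl N5130 D18544
theorem N8487 : nd 8487 = n18549 := ndS (p := 5132) (l := 1) rfl N5132 D18549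
theorem N8488 : nd 8488 = n18551 := ndS (p := 5133) (l := 0) rfl N5133 D18551
theorem N8489 : nd 8489 = n18552 := ndS (p := 5133) (l := 2) rfl N5133 D18552
theorem N8490 : nd 8490 = n18554 := ndS (p := 5134) (l := 1) rfl N5134 D18554
theorem N8491 : nd 8491 = n18555 := ndS (p := 5135) (l := 1) rfl N5135 D18555
theorem N8492 : nd 8492 = n18558 := ndS (p := 5136) (l := 3) rfl N5136 D18558
theorem N8493 : nd 8493 = n18559 := ndS (p := 5136) (l := 6) rfl N5136 D18559
theorem N8494 : nd 8494 = n18560 := ndS (p := 5137) (l := 5) rfl N5137 D18560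
theorem N8495 : nd 8495 = n18561 := ndS (p := 5138) (l := 1) rfl N5138 D18561
theorem N8496 : nd 8496 = n18562 := ndS (p := 5139) (l := 6) rfl N5139 D18562
theorem N8497 : nd 8497 = n18563 := ndS (p := 5140) (l := 4) rfl N5140 D18563
theorem N8498 : nd 8498 = n18564 := ndS (p := 5140) (l := 6) rfl N5140 D18564
theorem N8499 : nd 8499 = n18565 := ndS (p := 5141) (l := 1) rfl N5141 D18565
theorem N8500 : nd 8500 = n18567 := ndS (p := 5142) (l := 2) rfl N5142 D18567
theorem N8501 : nd 8501 = n18568 := ndS (p := 5142) (l := 5) rfl N5142 D18568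
theorem N8502 : nd 8502 = n18569 := ndS (p := 5143) (l := 6) rfl N5143 D18569
theorem N8503 : nd 8503 = n18570 := ndS (p := 5144) (l := 1) rfl N5144 D18570
theorem N8504 : nd 8504 = n18571 := ndS (p := 5145) (l := 0) rfl N5145 D18571
theorem N8505 : nd 8505 = n18572 := ndS (p := 5145) (l := 5) rfl N5145 D18572
theorem N8506 : nd 8506 = n18573 := ndS (p := 5146) (l := 1) rfl N5146 D18573
theorem N8507 : nd 8507 = n18575 := ndS (p := 5147) (l := 2) rfl N5147 D18575
theorem N8508 : nd 8508 = n18576 := ndS (p := 5148) (l := 3) rfl N5148 D18576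
theorem N8509 : nd 8509 = n18577 := ndS (p := 5148) (l := 5) rfl N5148 D18577
theorem N8510 : nd 8510 = n18578 := ndS (p := 5149) (l := 1) rfl N5149 D18578
theorem N8511 : nd 8511 = n18579 := ndS (p := 5150) (l := 0) rfl N5150 D18579
theorem N8512 : nd 8512 = n18580 := ndS (p := 5150) (l := 2) rfl N5150 D18580
theorem N8513 : nd 8513 = n18581 := ndS (p := 5150) (l := 6) rfl N5150 D18581
theorem N8514 : nd 8514 = n18582 := ndS (p := 5151) (l := 0) rfl N5151 D18582
theorem N8515 : nd 8515 = n18583 := ndS (p := 5151) (l := 2) rfl N5151 D18583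
theorem N8516 : nd 8516 = n18584 := ndS (p := 5151) (l := 5) rfl N5151 D18584
theorem N8517 : nd 8517 = n18585 := ndS (p := 5151) (l := 6) rfl N5151 D18585
theorem N8518 : nd 8518 = n18588 := ndS (p := 5152) (l := 5) rfl N5152 D18588
theorem N8519 : nd 8519 = n18589 := ndS (p := 5154) (l := 2) rfl N5154 D18589
theorem N8520 : nd 8520 = n18590 := ndS (p := 5154) (l := 4) rfl N5154 D18590
theorem N8521 : nd 8521 = n18591 := ndS (p := 5154) (l := 5) rfl N5154 D18591
theorem N8522 : nd 8522 = n18592 := ndS (p := 5155) (l := 6) rfl N5155 D18592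
theorem N8523 : nd 8523 = n18593 := ndS (p := 5156) (l := 1) rfl N5156 D18593
theorem N8524 : nd 8524 = n18596 := ndS (p := 5157) (l := 1) rfl N5157 D18596
theorem N8525 : nd 8525 = n18600 := ndS (p := 5158) (l := 5) rfl N5158 D18600
theorem N8526 : nd 8526 = n18603 := ndS (p := 5159) (l := 4) rfl N5159 D18603
theorem N8527 : nd 8527 = n18604 := ndS (p := 5159) (l := 5) rfl N5159 D18604
theorem N8528 : nd 8528 = n18605 := ndS (p := 5160) (l := 1) rfl N5160 D18605
theorem N8529 : nd 8529 = n18606 := ndS (p := 5161) (l := 2) rfl N5161 D18606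
theorem N8530 : nd 8530 = n18607 := ndS (p := 5161) (l := 6) rfl N5161 D18607
theorem N8531 : nd 8531 = n18610 := ndS (p := 5162) (l := 5) rfl N5162 D18610
theorem N8532 : nd 8532 = n18611 := ndS (p := 5163) (l := 1) rfl N5163 D18611
theorem N8533 : nd 8533 = n18613 := ndS (p := 5164) (l := 0) rfl N5164 D18613
theorem N8534 : nd 8534 = n18614 := ndS (p := 5164) (l := 6) rfl N5164 D18614
theorem N8535 : nd 8535 = n18615 := ndS (p := 5165) (l := 1) rfl N5165 D18615
theorem N8536 : nd 8536 = n18616 := ndS (p := 5166) (l := 2) rfl N5166 D18616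
theorem N8537 : nd 8537 = n18617 := ndS (p := 5167) (l := 3) rfl N5167 D18617
theorem N8538 : nd 8538 = n18618 := ndS (p := 5167) (l := 6) rfl N5167 D18618
theorem N8539 : nd 8539 = n18619 := ndS (p := 5168) (l := 1) rfl N5168 D18619
theorem N8540 : nd 8540 = n18620 := ndS (p := 5169) (l := 0) rfl N5169 D18620
theorem N8541 : nd 8541 = n18621 := ndS (p := 5169) (l := 2) rfl N5169 D18621
theorem N8542 : nd 8542 = n18622 := ndS (p := 5169) (l := 5) rfl N5169 D18622
theorem N8543 : nd 8543 = n18623 := ndS (p := 5170) (l := 0) rfl N5170 D18623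
theorem N8544 : nd 8544 = n18624 := ndS (p := 5170) (l := 2) rfl N5170 D18624
theorem N8545 : nd 8545 = n18625 := ndS (p := 5170) (l := 5) rfl N5170 D18625
theorem N8546 : nd 8546 = n18626 := ndS (p := 5170) (l := 6) rfl N5170 D18626
theorem N8547 : nd 8547 = n18627 := ndS (p := 5171) (l := 6) rfl N5171 D18627
theorem N8548 : nd 8548 = n18629 := ndS (p := 5173) (l := 2) rfl N5173 D18629
theorem N8549 : nd 8549 = n18630 := ndS (p := 5173) (l := 4) rfl N5173 D18630
theorem N8550 : nd 8550 = n18631 := ndS (p := 5173) (l := 6) rfl N5173 D18631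
theorem N8551 : nd 8551 = n18632 := ndS (p := 5174) (l := 5) rfl N5174 D18632
theorem N8552 : nd 8552 = n18633 := ndS (p := 5175) (l := 1) rfl N5175 D18633
theorem N8553 : nd 8553 = n18634 := ndS (p := 5176) (l := 1) rfl N5176 D18634
theorem N8554 : nd 8554 = n18635 := ndS (p := 5179) (l := 4) rfl N5179 D18635
theorem N8555 : nd 8555 = n18636 := ndS (p := 5179) (l := 6) rfl N5179 D18636
theorem N8556 : nd 8556 = n18637 := ndS (p := 5180) (l := 6) rfl N5180 D18637
theorem N8557 : nd 8557 = n18638 := ndS (p := 5182) (l := 1) rfl N5182 D18638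
theorem N8558 : nd 8558 = n18639 := ndS (p := 5183) (l := 0) rfl N5183 D18639
theorem N8559 : nd 8559 = n18640 := ndS (p := 5184) (l := 1) rfl N5184 D18640
theorem N8560 : nd 8560 = n18641 := ndS (p := 5184) (l := 5) rfl N5184 D18641
theorem N8561 : nd 8561 = n18642 := ndS (p := 5185) (l := 6) rfl N5185 D18642
theorem N8562 : nd 8562 = n18643 := ndS (p := 5187) (l := 1) rfl N5187 D18643
theorem N8563 : nd 8563 = n18653 := ndS (p := 5190) (l := 4) rfl N5190 D18653
theorem N8564 : nd 8564 = n18654 := ndS (p := 5190) (l := 5) rfl N5190 D18654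
theorem N8565 : nd 8565 = n18655 := ndS (p := 5191) (l := 5) rfl N5191 D18655
theorem N8566 : nd 8566 = n18657 := ndS (p := 5193) (l := 1) rfl N5193 D18657
theorem N8567 : nd 8567 = n18658 := ndS (p := 5194) (l := 0) rfl N5194 D18658
theorem N8568 : nd 8568 = n18661 := ndS (p := 5195) (l := 1) rfl N5195 D18661
theorem N8569 : nd 8569 = n18662 := ndS (p := 5195) (l := 6) rfl N5195 D18662
theorem N8570 : nd 8570 = n18663 := ndS (p := 5196) (l := 5) rfl N5196 D18663
theorem N8571 : nd 8571 = n18664 := ndS (p := 5200) (l := 1) rfl N5200 D18664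
theorem N8572 : nd 8572 = n18665 := ndS (p := 5201) (l := 6) rfl N5201 D18665
theorem N8573 : nd 8573 = n18666 := ndS (p := 5202) (l := 1) rfl N5202 D18666
theorem N8574 : nd 8574 = n18667 := ndS (p := 5203) (l := 0) rfl N5203 D18667
theorem N8575 : nd 8575 = n18668 := ndS (p := 5203) (l := 5) rfl N5203 D18668
theorem N8576 : nd 8576 = n18669 := ndS (p := 5204) (l := 0) rfl N5204 D18669
theorem N8577 : nd 8577 = n18670 := ndS (p := 5204) (l := 4) rfl N5204 D18670
theorem N8578 : nd 8578 = n18671 := ndS (p := 5204) (l := 5) rfl N5204 D18671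
theorem N8579 : nd 8579 = n18673 := ndS (p := 5205) (l := 3) rfl N5205 D18673
theorem N8580 : nd 8580 = n18686 := ndS (p := 5208) (l := 1) rfl N5208 D18686
theorem N8581 : nd 8581 = n18690 := ndS (p := 5209) (l := 5) rfl N5209 D18690
theorem N8582 : nd 8582 = n18691 := ndS (p := 5210) (l := 1) rfl N5210 D18691
theorem N8583 : nd 8583 = n18692 := ndS (p := 5211) (l := 0) rfl N5211 D18692
theorem N8584 : nd 8584 = n18693 := ndS (p := 5211) (l := 6) rfl N5211 D18693
theorem N8585 : nd 8585 = n18694 := ndS (p := 5212) (l := 0) rfl N5212 D18694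
theorem N8586 : nd 8586 = n18695 := ndS (p := 5212) (l := 4) rfl N5212 D18695
theorem N8587 : nd 8587 = n18697 := ndS (p := 5212) (l := 6) rfl N5212 D18697
theorem N8588 : nd 8588 = n18698 := ndS (p := 5213) (l := 3) rfl N5213 D18698
theorem N8589 : nd 8589 = n18699 := ndS (p := 5214) (l := 5) rfl N5214 D18699
theorem N8590 : nd 8590 = n18700 := ndS (p := 5214) (l := 6) rfl N5214 D18700
theorem N8591 : nd 8591 = n18701 := ndS (p := 5215) (l := 1) rfl N5215 D18701
theorem N8592 : nd 8592 = n18702 := ndS (p := 5216) (l := 1) rfl N5216 D18702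
theorem N8593 : nd 8593 = n18703 := ndS (p := 5217) (l := 1) rfl N5217 D18703
theorem N8594 : nd 8594 = n18704 := ndS (p := 5217) (l := 6) rfl N5217 D18704
theorem N8595 : nd 8595 = n18705 := ndS (p := 5218) (l := 1) rfl N5218 D18705
theorem N8596 : nd 8596 = n18706 := ndS (p := 5218) (l := 5) rfl N5218 D18706
theorem N8597 : nd 8597 = n18707 := ndS (p := 5219) (l := 0) rfl N5219 D18707
theorem N8598 : nd 8598 = n18708 := ndS (p := 5219) (l := 2) rfl N5219 D18708
theorem N8599 : nd 8599 = n18709 := ndS (p := 5219) (l := 6) rfl N5219 D18709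
theorem N8600 : nd 8600 = n18710 := ndS (p := 5220) (l := 1) rfl N5220 D18710
theorem N8601 : nd 8601 = n18711 := ndS (p := 5221) (l := 0) rfl N5221 D18711
theorem N8602 : nd 8602 = n18712 := ndS (p := 5221) (l := 2) rfl N5221 D18712
theorem N8603 : nd 8603 = n18713 := ndS (p := 5221) (l := 5) rfl N5221 D18713
theorem N8604 : nd 8604 = n18714 := ndS (p := 5222) (l := 1) rfl N5222 D18714
theorem N8605 : nd 8605 = n18715 := ndS (p := 5223) (l := 0) rfl N5223 D18715
theorem N8606 : nd 8606 = n18716 := ndS (p := 5223) (l := 2) rfl N5223 D18716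
theorem N8607 : nd 8607 = n18717 := ndS (p := 5223) (l := 6) rfl N5223 D18717
theorem N8608 : nd 8608 = n18718 := ndS (p := 5224) (l := 0) rfl N5224 D18718
theorem N8609 : nd 8609 = n18719 := ndS (p := 5224) (l := 2) rfl N5224 D18719
theorem N8610 : nd 8610 = n18720 := ndS (p := 5224) (l := 5) rfl N5224 D18720
theorem N8611 : nd 8611 = n18721 := ndS (p := 5225) (l := 1) rfl N5225 D18721
theorem N8612 : nd 8612 = n18722 := ndS (p := 5225) (l := 2) rfl N5225 D18722
theorem N8613 : nd 8613 = n18723 := ndS (p := 5225) (l := 6) rfl N5225 D18723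
theorem N8614 : nd 8614 = n18724 := ndS (p := 5226) (l := 6) rfl N5226 D18724
theorem N8615 : nd 8615 = n18725 := ndS (p := 5227) (l := 5) rfl N5227 D18725
theorem N8616 : nd 8616 = n18726 := ndS (p := 5228) (l := 1) rfl N5228 D18726
theorem N8617 : nd 8617 = n18727 := ndS (p := 5228) (l := 2) rfl N5228 D18727
theorem N8618 : nd 8618 = n18728 := ndS (p := 5228) (l := 5) rfl N5228 D18728
theorem N8619 : nd 8619 = n18730 := ndS (p := 5229) (l := 5) rfl N5229 D18730
theorem N8620 : nd 8620 = n18731 := ndS (p := 5230) (l := 6) rfl N5230 D18731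
theorem N8621 : nd 8621 = n18732 := ndS (p := 5231) (l := 0) rfl N5231 D18732
theorem N8622 : nd 8622 = n18733 := ndS (p := 5231) (l := 2) rfl N5231 D18733
theorem N8623 : nd 8623 = n18734 := ndS (p := 5231) (l := 6) rfl N5231 D18734
theorem N8624 : nd 8624 = n18735 := ndS (p := 5232) (l := 0) rfl N5232 D18735
theorem N8625 : nd 8625 = n18736 := ndS (p := 5232) (l := 2) rfl N5232 D18736
theorem N8626 : nd 8626 = n18737 := ndS (p := 5232) (l := 5) rfl N5232 D18737
theorem N8627 : nd 8627 = n18738 := ndS (p := 5233) (l := 1) rfl N5233 D18738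
theorem N8628 : nd 8628 = n18739 := ndS (p := 5235) (l := 1) rfl N5235 D18739
theorem N8629 : nd 8629 = n18740 := ndS (p := 5236) (l := 0) rfl N5236 D18740
theorem N8630 : nd 8630 = n18741 := ndS (p := 5236) (l := 2) rfl N5236 D18741
theorem N8631 : nd 8631 = n18742 := ndS (p := 5236) (l := 5) rfl N5236 D18742
theorem N8632 : nd 8632 = n18743 := ndS (p := 5237) (l := 1) rfl N5237 D18743
theorem N8633 : nd 8633 = n18744 := ndS (p := 5239) (l := 1) rfl N5239 D18744
theorem N8634 : nd 8634 = n18745 := ndS (p := 5240) (l := 0) rfl N5240 D18745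
theorem N8635 : nd 8635 = n18746 := ndS (p := 5240) (l := 2) rfl N5240 D18746
theorem N8636 : nd 8636 = n18747 := ndS (p := 5240) (l := 6) rfl N5240 D18747
theorem N8637 : nd 8637 = n18748 := ndS (p := 5241) (l := 0) rfl N5241 D18748
theorem N8638 : nd 8638 = n18749 := ndS (p := 5241) (l := 2) rfl N5241 D18749
theorem N8639 : nd 8639 = n18750 := ndS (p := 5241) (l := 5) rfl N5241 D18750
theorem N8640 : nd 8640 = n18751 := ndS (p := 5241) (l := 6) rfl N5241 D18751
theorem N8641 : nd 8641 = n18752 := ndS (p := 5242) (l := 3) rfl N5242 D18752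
theorem N8642 : nd 8642 = n18753 := ndS (p := 5243) (l := 4) rfl N5243 D18753
theorem N8643 : nd 8643 = n18754 := ndS (p := 5243) (l := 6) rfl N5243 D18754
theorem N8644 : nd 8644 = n18755 := ndS (p := 5244) (l := 1) rfl N5244 D18755
theorem N8645 : nd 8645 = n18756 := ndS (p := 5245) (l := 0) rfl N5245 D18756
theorem N8646 : nd 8646 = n18757 := ndS (p := 5245) (l := 2) rfl N5245 D18757
theorem N8647 : nd 8647 = n18758 := ndS (p := 5245) (l := 5) rfl N5245 D18758
theorem N8648 : nd 8648 = n18759 := ndS (p := 5246) (l := 1) rfl N5246 D18759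
theorem N8649 : nd 8649 = n18760 := ndS (p := 5246) (l := 2) rfl N5246 D18760
theorem N8650 : nd 8650 = n18761 := ndS (p := 5246) (l := 5) rfl N5246 D18761
theorem N8651 : nd 8651 = n18763 := ndS (p := 5247) (l := 5) rfl N5247 D18763
theorem N8652 : nd 8652 = n18764 := ndS (p := 5248) (l := 6) rfl N5248 D18764
theorem N8653 : nd 8653 = n18765 := ndS (p := 5249) (l := 0) rfl N5249 D18765
theorem N8654 : nd 8654 = n18766 := ndS (p := 5249) (l := 2) rfl N5249 D18766
theorem N8655 : nd 8655 = n18767 := ndS (p := 5249) (l := 5) rfl N5249 D18767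
theorem N8656 : nd 8656 = n18768 := ndS (p := 5249) (l := 6) rfl N5249 D18768
theorem N8657 : nd 8657 = n18770 := ndS (p := 5250) (l := 3) rfl N5250 D18770
theorem N8658 : nd 8658 = n18771 := ndS (p := 5251) (l := 4) rfl N5251 D18771
theorem N8659 : nd 8659 = n18772 := ndS (p := 5251) (l := 5) rfl N5251 D18772
theorem N8660 : nd 8660 = n18773 := ndS (p := 5252) (l := 1) rfl N5252 D18773
theorem N8661 : nd 8661 = n18774 := ndS (p := 5253) (l := 0) rfl N5253 D18774
theorem N8662 : nd 8662 = n18775 := ndS (p := 5253) (l := 2) rfl N5253 D18775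
theorem N8663 : nd 8663 = n18776 := ndS (p := 5253) (l := 6) rfl N5253 D18776
theorem N8664 : nd 8664 = n18777 := ndS (p := 5254) (l := 1) rfl N5254 D18777
theorem N8665 : nd 8665 = n18778 := ndS (p := 5254) (l := 2) rfl N5254 D18778
theorem N8666 : nd 8666 = n18779 := ndS (p := 5254) (l := 6) rfl N5254 D18779
theorem N8667 : nd 8667 = n18781 := ndS (p := 5255) (l := 6) rfl N5255 D18781
theorem N8668 : nd 8668 = n18782 := ndS (p := 5256) (l := 5) rfl N5256 D18782
theorem N8669 : nd 8669 = n18783 := ndS (p := 5257) (l := 0) rfl N5257 D18783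
theorem N8670 : nd 8670 = n18784 := ndS (p := 5257) (l := 6) rfl N5257 D18784
theorem N8671 : nd 8671 = n18785 := ndS (p := 5258) (l := 1) rfl N5258 D18785
theorem N8672 : nd 8672 = n18786 := ndS (p := 5259) (l := 1) rfl N5259 D18786
theorem N8673 : nd 8673 = n18787 := ndS (p := 5260) (l := 0) rfl N5260 D18787
theorem N8674 : nd 8674 = n18788 := ndS (p := 5260) (l := 2) rfl N5260 D18788
theorem N8675 : nd 8675 = n18789 := ndS (p := 5260) (l := 5) rfl N5260 D18789
theorem N8676 : nd 8676 = n18790 := ndS (p := 5261) (l := 1) rfl N5261 D18790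
theorem N8677 : nd 8677 = n18791 := ndS (p := 5262) (l := 1) rfl N5262 D18791
theorem N8678 : nd 8678 = n18793 := ndS (p := 5262) (l := 5) rfl N5262 D18793
theorem N8679 : nd 8679 = n18795 := ndS (p := 5263) (l := 5) rfl N5263 D18795
theorem N8680 : nd 8680 = n18796 := ndS (p := 5264) (l := 6) rfl N5264 D18796
theorem N8681 : nd 8681 = n18797 := ndS (p := 5265) (l := 0) rfl N5265 D18797
theorem N8682 : nd 8682 = n18798 := ndS (p := 5265) (l := 5) rfl N5265 D18798
theorem N8683 : nd 8683 = n18800 := ndS (p := 5266) (l := 1) rfl N5266 D18800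
theorem N8684 : nd 8684 = n18801 := ndS (p := 5267) (l := 1) rfl N5267 D18801
theorem N8685 : nd 8685 = n18802 := ndS (p := 5268) (l := 0) rfl N5268 D18802
theorem N8686 : nd 8686 = n18803 := ndS (p := 5268) (l := 2) rfl N5268 D18803
theorem N8687 : nd 8687 = n18804 := ndS (p := 5268) (l := 6) rfl N5268 D18804
theorem N8688 : nd 8688 = n18805 := ndS (p := 5269) (l := 1) rfl N5269 D18805
theorem N8689 : nd 8689 = n18806 := ndS (p := 5270) (l := 1) rfl N5270 D18806
theorem N8690 : nd 8690 = n18808 := ndS (p := 5270) (l := 6) rfl N5270 D18808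
theorem N8691 : nd 8691 = n18810 := ndS (p := 5271) (l := 6) rfl N5271 D18810
theorem N8692 : nd 8692 = n18811 := ndS (p := 5272) (l := 5) rfl N5272 D18811
theorem N8693 : nd 8693 = n18812 := ndS (p := 5273) (l := 2) rfl N5273 D18812
theorem N8694 : nd 8694 = n18813 := ndS (p := 5273) (l := 5) rfl N5273 D18813
theorem N8695 : nd 8695 = n18814 := ndS (p := 5273) (l := 6) rfl N5273 D18814
theorem N8696 : nd 8696 = n18815 := ndS (p := 5274) (l := 1) rfl N5274 D18815
theorem N8697 : nd 8697 = n18816 := ndS (p := 5274) (l := 3) rfl N5274 D18816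
theorem N8698 : nd 8698 = n18817 := ndS (p := 5274) (l := 5) rfl N5274 D18817
theorem N8699 : nd 8699 = n18818 := ndS (p := 5274) (l := 6) rfl N5274 D18818
theorem N8700 : nd 8700 = n18819 := ndS (p := 5275) (l := 6) rfl N5275 D18819
theorem N8701 : nd 8701 = n18820 := ndS (p := 5276) (l := 1) rfl N5276 D18820
theorem N8702 : nd 8702 = n18821 := ndS (p := 5276) (l := 5) rfl N5276 D18821
theorem N8703 : nd 8703 = n18822 := ndS (p := 5277) (l := 3) rfl N5277 D18822
theorem N8704 : nd 8704 = n18823 := ndS (p := 5277) (l := 5) rfl N5277 D18823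
theorem N8705 : nd 8705 = n18824 := ndS (p := 5277) (l := 6) rfl N5277 D18824
theorem N8706 : nd 8706 = n18825 := ndS (p := 5278) (l := 4) rfl N5278 D18825
theorem N8707 : nd 8707 = n18826 := ndS (p := 5278) (l := 6) rfl N5278 D18826
theorem N8708 : nd 8708 = n18827 := ndS (p := 5279) (l := 1) rfl N5279 D18827
theorem N8709 : nd 8709 = n18828 := ndS (p := 5280) (l := 0) rfl N5280 D18828
theorem N8710 : nd 8710 = n18829 := ndS (p := 5280) (l := 2) rfl N5280 D18829
theorem N8711 : nd 8711 = n18830 := ndS (p := 5280) (l := 5) rfl N5280 D18830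
theorem N8712 : nd 8712 = n18831 := ndS (p := 5281) (l := 6) rfl N5281 D18831
theorem N8713 : nd 8713 = n18832 := ndS (p := 5282) (l := 1) rfl N5282 D18832
theorem N8714 : nd 8714 = n18833 := ndS (p := 5282) (l := 5) rfl N5282 D18833
theorem N8715 : nd 8715 = n18834 := ndS (p := 5283) (l := 0) rfl N5283 D18834
theorem N8716 : nd 8716 = n18835 := ndS (p := 5283) (l := 2) rfl N5283 D18835
theorem N8717 : nd 8717 = n18836 := ndS (p := 5283) (l := 5) rfl N5283 D18836
theorem N8718 : nd 8718 = n18837 := ndS (p := 5284) (l := 1) rfl N5284 D18837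
theorem N8719 : nd 8719 = n18838 := ndS (p := 5285) (l := 1) rfl N5285 D18838
theorem N8720 : nd 8720 = n18839 := ndS (p := 5285) (l := 2) rfl N5285 D18839
theorem N8721 : nd 8721 = n18840 := ndS (p := 5286) (l := 3) rfl N5286 D18840
theorem N8722 : nd 8722 = n18841 := ndS (p := 5286) (l := 5) rfl N5286 D18841
theorem N8723 : nd 8723 = n18842 := ndS (p := 5287) (l := 1) rfl N5287 D18842
theorem N8724 : nd 8724 = n18843 := ndS (p := 5288) (l := 0) rfl N5288 D18843
theorem N8725 : nd 8725 = n18844 := ndS (p := 5288) (l := 2) rfl N5288 D18844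
theorem N8726 : nd 8726 = n18845 := ndS (p := 5288) (l := 6) rfl N5288 D18845
theorem N8727 : nd 8727 = n18846 := ndS (p := 5289) (l := 0) rfl N5289 D18846
theorem N8728 : nd 8728 = n18847 := ndS (p := 5289) (l := 2) rfl N5289 D18847
theorem N8729 : nd 8729 = n18848 := ndS (p := 5289) (l := 5) rfl N5289 D18848
theorem N8730 : nd 8730 = n18849 := ndS (p := 5289) (l := 6) rfl N5289 D18849
theorem N8731 : nd 8731 = n18850 := ndS (p := 5290) (l := 1) rfl N5290 D18850
theorem N8732 : nd 8732 = n18851 := ndS (p := 5290) (l := 3) rfl N5290 D18851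
theorem N8733 : nd 8733 = n18852 := ndS (p := 5290) (l := 5) rfl N5290 D18852
theorem N8734 : nd 8734 = n18853 := ndS (p := 5291) (l := 1) rfl N5291 D18853
theorem N8735 : nd 8735 = n18855 := ndS (p := 5292) (l := 4) rfl N5292 D18855
theorem N8736 : nd 8736 = n18856 := ndS (p := 5292) (l := 5) rfl N5292 D18856
theorem N8737 : nd 8737 = n18858 := ndS (p := 5294) (l := 1) rfl N5294 D18858
theorem N8738 : nd 8738 = n18859 := ndS (p := 5295) (l := 2) rfl N5295 D18859
theorem N8739 : nd 8739 = n18860 := ndS (p := 5295) (l := 5) rfl N5295 D18860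
theorem N8740 : nd 8740 = n18861 := ndS (p := 5295) (l := 6) rfl N5295 D18861
theorem N8741 : nd 8741 = n18862 := ndS (p := 5296) (l := 1) rfl N5296 D18862
theorem N8742 : nd 8742 = n18863 := ndS (p := 5296) (l := 3) rfl N5296 D18863
theorem N8743 : nd 8743 = n18864 := ndS (p := 5296) (l := 5) rfl N5296 D18864
theorem N8744 : nd 8744 = n18865 := ndS (p := 5296) (l := 6) rfl N5296 D18865
theorem N8745 : nd 8745 = n18866 := ndS (p := 5297) (l := 1) rfl N5297 D18866
theorem N8746 : nd 8746 = n18867 := ndS (p := 5297) (l := 6) rfl N5297 D18867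
theorem N8747 : nd 8747 = n18868 := ndS (p := 5298) (l := 5) rfl N5298 D18868
theorem N8748 : nd 8748 = n18869 := ndS (p := 5299) (l := 3) rfl N5299 D18869
theorem N8749 : nd 8749 = n18870 := ndS (p := 5299) (l := 5) rfl N5299 D18870
theorem N8750 : nd 8750 = n18871 := ndS (p := 5299) (l := 6) rfl N5299 D18871
theorem N8751 : nd 8751 = n18872 := ndS (p := 5300) (l := 4) rfl N5300 D18872
theorem N8752 : nd 8752 = n18873 := ndS (p := 5300) (l := 5) rfl N5300 D18873
theorem N8753 : nd 8753 = n18874 := ndS (p := 5301) (l := 1) rfl N5301 D18874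
theorem N8754 : nd 8754 = n18875 := ndS (p := 5302) (l := 0) rfl N5302 D18875
theorem N8755 : nd 8755 = n18876 := ndS (p := 5302) (l := 2) rfl N5302 D18876
theorem N8756 : nd 8756 = n18877 := ndS (p := 5302) (l := 6) rfl N5302 D18877
theorem N8757 : nd 8757 = n18878 := ndS (p := 5303) (l := 5) rfl N5303 D18878
theorem N8758 : nd 8758 = n18879 := ndS (p := 5304) (l := 1) rfl N5304 D18879
theorem N8759 : nd 8759 = n18880 := ndS (p := 5304) (l := 6) rfl N5304 D18880
theorem N8760 : nd 8760 = n18881 := ndS (p := 5305) (l := 0) rfl N5305 D18881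
theorem N8761 : nd 8761 = n18882 := ndS (p := 5305) (l := 2) rfl N5305 D18882
theorem N8762 : nd 8762 = n18883 := ndS (p := 5305) (l := 6) rfl N5305 D18883
theorem N8763 : nd 8763 = n18884 := ndS (p := 5306) (l := 1) rfl N5306 D18884
theorem N8764 : nd 8764 = n18885 := ndS (p := 5307) (l := 1) rfl N5307 D18885
theorem N8765 : nd 8765 = n18886 := ndS (p := 5307) (l := 2) rfl N5307 D18886
theorem N8766 : nd 8766 = n18887 := ndS (p := 5308) (l := 3) rfl N5308 D18887
theorem N8767 : nd 8767 = n18888 := ndS (p := 5308) (l := 6) rfl N5308 D18888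
theorem N8768 : nd 8768 = n18889 := ndS (p := 5309) (l := 1) rfl N5309 D18889
theorem N8769 : nd 8769 = n18890 := ndS (p := 5310) (l := 0) rfl N5310 D18890
theorem N8770 : nd 8770 = n18891 := ndS (p := 5310) (l := 2) rfl N5310 D18891
theorem N8771 : nd 8771 = n18892 := ndS (p := 5310) (l := 5) rfl N5310 D18892
theorem N8772 : nd 8772 = n18893 := ndS (p := 5311) (l := 0) rfl N5311 D18893
theorem N8773 : nd 8773 = n18894 := ndS (p := 5311) (l := 2) rfl N5311 D18894
theorem N8774 : nd 8774 = n18895 := ndS (p := 5311) (l := 5) rfl N5311 D18895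
theorem N8775 : nd 8775 = n18896 := ndS (p := 5311) (l := 6) rfl N5311 D18896
theorem N8776 : nd 8776 = n18897 := ndS (p := 5312) (l := 1) rfl N5312 D18897
theorem N8777 : nd 8777 = n18898 := ndS (p := 5312) (l := 3) rfl N5312 D18898
theorem N8778 : nd 8778 = n18899 := ndS (p := 5312) (l := 6) rfl N5312 D18899
theorem N8779 : nd 8779 = n18900 := ndS (p := 5313) (l := 1) rfl N5313 D18900
theorem N8780 : nd 8780 = n18902 := ndS (p := 5314) (l := 4) rfl N5314 D18902
theorem N8781 : nd 8781 = n18903 := ndS (p := 5314) (l := 6) rfl N5314 D18903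
theorem N8782 : nd 8782 = n18905 := ndS (p := 5316) (l := 1) rfl N5316 D18905
theorem N8783 : nd 8783 = n18906 := ndS (p := 5317) (l := 5) rfl N5317 D18906
theorem N8784 : nd 8784 = n18907 := ndS (p := 5317) (l := 6) rfl N5317 D18907
theorem N8785 : nd 8785 = n18908 := ndS (p := 5319) (l := 3) rfl N5319 D18908
theorem N8786 : nd 8786 = n18909 := ndS (p := 5319) (l := 5) rfl N5319 D18909
theorem N8787 : nd 8787 = n18910 := ndS (p := 5319) (l := 6) rfl N5319 D18910
theorem N8788 : nd 8788 = n18911 := ndS (p := 5320) (l := 2) rfl N5320 D18911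
theorem N8789 : nd 8789 = n18912 := ndS (p := 5320) (l := 4) rfl N5320 D18912
theorem N8790 : nd 8790 = n18913 := ndS (p := 5320) (l := 5) rfl N5320 D18913
theorem N8791 : nd 8791 = n18914 := ndS (p := 5320) (l := 6) rfl N5320 D18914
theorem N8792 : nd 8792 = n18915 := ndS (p := 5321) (l := 6) rfl N5321 D18915
theorem N8793 : nd 8793 = n18916 := ndS (p := 5322) (l := 5) rfl N5322 D18916
theorem N8794 : nd 8794 = n18917 := ndS (p := 5324) (l := 1) rfl N5324 D18917
theorem N8795 : nd 8795 = n18918 := ndS (p := 5324) (l := 5) rfl N5324 D18918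
theorem N8796 : nd 8796 = n18919 := ndS (p := 5325) (l := 0) rfl N5325 D18919
theorem N8797 : nd 8797 = n18920 := ndS (p := 5325) (l := 2) rfl N5325 D18920
theorem N8798 : nd 8798 = n18921 := ndS (p := 5325) (l := 5) rfl N5325 D18921
theorem N8799 : nd 8799 = n18922 := ndS (p := 5326) (l := 1) rfl N5326 D18922
theorem N8800 : nd 8800 = n18923 := ndS (p := 5327) (l := 1) rfl N5327 D18923
theorem N8801 : nd 8801 = n18924 := ndS (p := 5327) (l := 2) rfl N5327 D18924
theorem N8802 : nd 8802 = n18925 := ndS (p := 5327) (l := 5) rfl N5327 D18925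
theorem N8803 : nd 8803 = n18926 := ndS (p := 5328) (l := 3) rfl N5328 D18926
theorem N8804 : nd 8804 = n18927 := ndS (p := 5328) (l := 5) rfl N5328 D18927
theorem N8805 : nd 8805 = n18928 := ndS (p := 5329) (l := 1) rfl N5329 D18928
theorem N8806 : nd 8806 = n18929 := ndS (p := 5329) (l := 6) rfl N5329 D18929
theorem N8807 : nd 8807 = n18930 := ndS (p := 5330) (l := 0) rfl N5330 D18930
theorem N8808 : nd 8808 = n18931 := ndS (p := 5330) (l := 6) rfl N5330 D18931
theorem N8809 : nd 8809 = n18932 := ndS (p := 5331) (l := 1) rfl N5331 D18932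
theorem N8810 : nd 8810 = n18933 := ndS (p := 5331) (l := 3) rfl N5331 D18933
theorem N8811 : nd 8811 = n18934 := ndS (p := 5332) (l := 2) rfl N5332 D18934
theorem N8812 : nd 8812 = n18935 := ndS (p := 5332) (l := 4) rfl N5332 D18935
theorem N8813 : nd 8813 = n18936 := ndS (p := 5333) (l := 0) rfl N5333 D18936
theorem N8814 : nd 8814 = n18937 := ndS (p := 5333) (l := 3) rfl N5333 D18937
theorem N8815 : nd 8815 = n18938 := ndS (p := 5333) (l := 5) rfl N5333 D18938
theorem N8816 : nd 8816 = n18939 := ndS (p := 5333) (l := 6) rfl N5333 D18939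
theorem N8817 : nd 8817 = n18940 := ndS (p := 5334) (l := 4) rfl N5334 D18940
theorem N8818 : nd 8818 = n18941 := ndS (p := 5335) (l := 1) rfl N5335 D18941
theorem N8819 : nd 8819 = n18942 := ndS (p := 5335) (l := 4) rfl N5335 D18942
theorem N8820 : nd 8820 = n18945 := ndS (p := 5337) (l := 5) rfl N5337 D18945
theorem N8821 : nd 8821 = n18946 := ndS (p := 5337) (l := 6) rfl N5337 D18946
theorem N8822 : nd 8822 = n18948 := ndS (p := 5339) (l := 3) rfl N5339 D18948
theorem N8823 : nd 8823 = n18949 := ndS (p := 5339) (l := 5) rfl N5339 D18949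
theorem N8824 : nd 8824 = n18950 := ndS (p := 5339) (l := 6) rfl N5339 D18950
theorem N8825 : nd 8825 = n18951 := ndS (p := 5340) (l := 2) rfl N5340 D18951
theorem N8826 : nd 8826 = n18952 := ndS (p := 5340) (l := 4) rfl N5340 D18952
theorem N8827 : nd 8827 = n18953 := ndS (p := 5340) (l := 5) rfl N5340 D18953
theorem N8828 : nd 8828 = n18954 := ndS (p := 5340) (l := 6) rfl N5340 D18954
theorem N8829 : nd 8829 = n18955 := ndS (p := 5341) (l := 6) rfl N5341 D18955
theorem N8830 : nd 8830 = n18956 := ndS (p := 5342) (l := 5) rfl N5342 D18956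
theorem N8831 : nd 8831 = n18957 := ndS (p := 5344) (l := 1) rfl N5344 D18957
theorem N8832 : nd 8832 = n18958 := ndS (p := 5344) (l := 6) rfl N5344 D18958
theorem N8833 : nd 8833 = n18959 := ndS (p := 5345) (l := 0) rfl N5345 D18959
theorem N8834 : nd 8834 = n18960 := ndS (p := 5345) (l := 2) rfl N5345 D18960
theorem N8835 : nd 8835 = n18961 := ndS (p := 5345) (l := 6) rfl N5345 D18961
theorem N8836 : nd 8836 = n18962 := ndS (p := 5346) (l := 1) rfl N5346 D18962
theorem N8837 : nd 8837 = n18963 := ndS (p := 5347) (l := 1) rfl N5347 D18963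
theorem N8838 : nd 8838 = n18964 := ndS (p := 5347) (l := 2) rfl N5347 D18964
theorem N8839 : nd 8839 = n18965 := ndS (p := 5347) (l := 6) rfl N5347 D18965
theorem N8840 : nd 8840 = n18966 := ndS (p := 5348) (l := 3) rfl N5348 D18966
theorem N8841 : nd 8841 = n18967 := ndS (p := 5348) (l := 6) rfl N5348 D18967
theorem N8842 : nd 8842 = n18968 := ndS (p := 5349) (l := 1) rfl N5349 D18968
theorem N8843 : nd 8843 = n18969 := ndS (p := 5349) (l := 5) rfl N5349 D18969
theorem N8844 : nd 8844 = n18970 := ndS (p := 5350) (l := 0) rfl N5350 D18970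
theorem N8845 : nd 8845 = n18971 := ndS (p := 5350) (l := 5) rfl N5350 D18971
theorem N8846 : nd 8846 = n18972 := ndS (p := 5351) (l := 1) rfl N5351 D18972
theorem N8847 : nd 8847 = n18973 := ndS (p := 5351) (l := 3) rfl N5351 D18973
theorem N8848 : nd 8848 = n18974 := ndS (p := 5352) (l := 2) rfl N5352 D18974
theorem N8849 : nd 8849 = n18975 := ndS (p := 5352) (l := 4) rfl N5352 D18975
theorem N8850 : nd 8850 = n18976 := ndS (p := 5353) (l := 0) rfl N5353 D18976
theorem N8851 : nd 8851 = n18977 := ndS (p := 5353) (l := 3) rfl N5353 D18977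
theorem N8852 : nd 8852 = n18978 := ndS (p := 5353) (l := 5) rfl N5353 D18978
theorem N8853 : nd 8853 = n18979 := ndS (p := 5353) (l := 6) rfl N5353 D18979
theorem N8854 : nd 8854 = n18980 := ndS (p := 5354) (l := 4) rfl N5354 D18980
theorem N8855 : nd 8855 = n18981 := ndS (p := 5355) (l := 1) rfl N5355 D18981
theorem N8856 : nd 8856 = n18982 := ndS (p := 5355) (l := 4) rfl N5355 D18982
theorem N8857 : nd 8857 = n18984 := ndS (p := 5357) (l := 3) rfl N5357 D18984
theorem N8858 : nd 8858 = n18985 := ndS (p := 5357) (l := 6) rfl N5357 D18985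
theorem N8859 : nd 8859 = n18986 := ndS (p := 5358) (l := 6) rfl N5358 D18986
theorem N8860 : nd 8860 = n18987 := ndS (p := 5359) (l := 5) rfl N5359 D18987
theorem N8861 : nd 8861 = n18988 := ndS (p := 5361) (l := 3) rfl N5361 D18988
theorem N8862 : nd 8862 = n18989 := ndS (p := 5362) (l := 2) rfl N5362 D18989
theorem N8863 : nd 8863 = n18990 := ndS (p := 5363) (l := 1) rfl N5363 D18990
theorem N8864 : nd 8864 = n18991 := ndS (p := 5363) (l := 3) rfl N5363 D18991
theorem N8865 : nd 8865 = n18992 := ndS (p := 5364) (l := 1) rfl N5364 D18992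
theorem N8866 : nd 8866 = n18993 := ndS (p := 5365) (l := 0) rfl N5365 D18993
theorem N8867 : nd 8867 = n18994 := ndS (p := 5365) (l := 3) rfl N5365 D18994
theorem N8868 : nd 8868 = n18995 := ndS (p := 5365) (l := 5) rfl N5365 D18995
theorem N8869 : nd 8869 = n18996 := ndS (p := 5365) (l := 6) rfl N5365 D18996
theorem N8870 : nd 8870 = n18997 := ndS (p := 5366) (l := 4) rfl N5366 D18997
theorem N8871 : nd 8871 = n18999 := ndS (p := 5367) (l := 3) rfl N5367 D18999
theorem N8872 : nd 8872 = n19000 := ndS (p := 5367) (l := 5) rfl N5367 D19000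
theorem N8873 : nd 8873 = n19004 := ndS (p := 5368) (l := 5) rfl N5368 D19004
theorem N8874 : nd 8874 = n19006 := ndS (p := 5369) (l := 6) rfl N5369 D19006
theorem N8875 : nd 8875 = n19008 := ndS (p := 5371) (l := 3) rfl N5371 D19008
theorem N8876 : nd 8876 = n19009 := ndS (p := 5372) (l := 2) rfl N5372 D19009
theorem N8877 : nd 8877 = n19010 := ndS (p := 5373) (l := 1) rfl N5373 D19010
theorem N8878 : nd 8878 = n19011 := ndS (p := 5373) (l := 3) rfl N5373 D19011
theorem N8879 : nd 8879 = n19012 := ndS (p := 5374) (l := 1) rfl N5374 D19012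
theorem N8880 : nd 8880 = n19013 := ndS (p := 5375) (l := 0) rfl N5375 D19013
theorem N8881 : nd 8881 = n19014 := ndS (p := 5375) (l := 3) rfl N5375 D19014
theorem N8882 : nd 8882 = n19015 := ndS (p := 5375) (l := 5) rfl N5375 D19015
theorem N8883 : nd 8883 = n19017 := ndS (p := 5376) (l := 4) rfl N5376 D19017
theorem N8884 : nd 8884 = n19018 := ndS (p := 5377) (l := 0) rfl N5377 D19018
theorem N8885 : nd 8885 = n19019 := ndS (p := 5377) (l := 6) rfl N5377 D19019
theorem N8886 : nd 8886 = n19020 := ndS (p := 5378) (l := 0) rfl N5378 D19020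
theorem N8887 : nd 8887 = n19022 := ndS (p := 5378) (l := 5) rfl N5378 D19022
theorem N8888 : nd 8888 = n19023 := ndS (p := 5379) (l := 1) rfl N5379 D19023
theorem N8889 : nd 8889 = n19024 := ndS (p := 5380) (l := 6) rfl N5380 D19024
theorem N8890 : nd 8890 = n19025 := ndS (p := 5381) (l := 1) rfl N5381 D19025
theorem N8891 : nd 8891 = n19026 := ndS (p := 5382) (l := 0) rfl N5382 D19026
theorem N8892 : nd 8892 = n19027 := ndS (p := 5382) (l := 2) rfl N5382 D19027
theorem N8893 : nd 8893 = n19028 := ndS (p := 5382) (l := 5) rfl N5382 D19028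
theorem N8894 : nd 8894 = n19029 := ndS (p := 5383) (l := 1) rfl N5383 D19029
theorem N8895 : nd 8895 = n19032 := ndS (p := 5384) (l := 5) rfl N5384 D19032
theorem N8896 : nd 8896 = n19033 := ndS (p := 5385) (l := 1) rfl N5385 D19033
theorem N8897 : nd 8897 = n19034 := ndS (p := 5386) (l := 0) rfl N5386 D19034
theorem N8898 : nd 8898 = n19035 := ndS (p := 5386) (l := 2) rfl N5386 D19035
theorem N8899 : nd 8899 = n19036 := ndS (p := 5386) (l := 6) rfl N5386 D19036
theorem N8900 : nd 8900 = n19037 := ndS (p := 5387) (l := 0) rfl N5387 D19037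
theorem N8901 : nd 8901 = n19038 := ndS (p := 5387) (l := 2) rfl N5387 D19038
theorem N8902 : nd 8902 = n19039 := ndS (p := 5387) (l := 5) rfl N5387 D19039
theorem N8903 : nd 8903 = n19040 := ndS (p := 5387) (l := 6) rfl N5387 D19040
theorem N8904 : nd 8904 = n19041 := ndS (p := 5388) (l := 6) rfl N5388 D19041
theorem N8905 : nd 8905 = n19042 := ndS (p := 5389) (l := 1) rfl N5389 D19042
theorem N8906 : nd 8906 = n19043 := ndS (p := 5390) (l := 1) rfl N5390 D19043
theorem N8907 : nd 8907 = n19045 := ndS (p := 5392) (l := 0) rfl N5392 D19045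
theorem N8908 : nd 8908 = n19046 := ndS (p := 5392) (l := 2) rfl N5392 D19046
theorem N8909 : nd 8909 = n19047 := ndS (p := 5392) (l := 5) rfl N5392 D19047
theorem N8910 : nd 8910 = n19048 := ndS (p := 5392) (l := 6) rfl N5392 D19048
theorem N8911 : nd 8911 = n19051 := ndS (p := 5393) (l := 5) rfl N5393 D19051
theorem N8912 : nd 8912 = n19052 := ndS (p := 5394) (l := 1) rfl N5394 D19052
theorem N8913 : nd 8913 = n19053 := ndS (p := 5395) (l := 1) rfl N5395 D19053
theorem N8914 : nd 8914 = n19055 := ndS (p := 5397) (l := 6) rfl N5397 D19055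
theorem N8915 : nd 8915 = n19056 := ndS (p := 5398) (l := 6) rfl N5398 D19056
theorem N8916 : nd 8916 = n19057 := ndS (p := 5399) (l := 6) rfl N5399 D19057
theorem N8917 : nd 8917 = n19058 := ndS (p := 5401) (l := 6) rfl N5401 D19058
theorem N8918 : nd 8918 = n19059 := ndS (p := 5402) (l := 1) rfl N5402 D19059
theorem N8919 : nd 8919 = n19060 := ndS (p := 5403) (l := 0) rfl N5403 D19060
theorem N8920 : nd 8920 = n19061 := ndS (p := 5403) (l := 2) rfl N5403 D19061
theorem N8921 : nd 8921 = n19062 := ndS (p := 5403) (l := 5) rfl N5403 D19062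
theorem N8922 : nd 8922 = n19063 := ndS (p := 5404) (l := 1) rfl N5404 D19063
theorem N8923 : nd 8923 = n19067 := ndS (p := 5407) (l := 0) rfl N5407 D19067
theorem N8924 : nd 8924 = n19068 := ndS (p := 5407) (l := 2) rfl N5407 D19068
theorem N8925 : nd 8925 = n19069 := ndS (p := 5407) (l := 6) rfl N5407 D19069
theorem N8926 : nd 8926 = n19070 := ndS (p := 5408) (l := 1) rfl N5408 D19070
theorem N8927 : nd 8927 = n19072 := ndS (p := 5408) (l := 5) rfl N5408 D19072
theorem N8928 : nd 8928 = n19076 := ndS (p := 5411) (l := 1) rfl N5411 D19076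
theorem N8929 : nd 8929 = n19078 := ndS (p := 5412) (l := 1) rfl N5412 D19078
theorem N8930 : nd 8930 = n19079 := ndS (p := 5413) (l := 5) rfl N5413 D19079
theorem N8931 : nd 8931 = n19080 := ndS (p := 5414) (l := 5) rfl N5414 D19080
theorem N8932 : nd 8932 = n19081 := ndS (p := 5416) (l := 5) rfl N5416 D19081
theorem N8933 : nd 8933 = n19082 := ndS (p := 5417) (l := 5) rfl N5417 D19082
theorem N8934 : nd 8934 = n19083 := ndS (p := 5418) (l := 1) rfl N5418 D19083
theorem N8935 : nd 8935 = n19084 := ndS (p := 5419) (l := 0) rfl N5419 D19084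
theorem N8936 : nd 8936 = n19085 := ndS (p := 5419) (l := 2) rfl N5419 D19085
theorem N8937 : nd 8937 = n19086 := ndS (p := 5419) (l := 6) rfl N5419 D19086
theorem N8938 : nd 8938 = n19087 := ndS (p := 5420) (l := 1) rfl N5420 D19087
theorem N8939 : nd 8939 = n19091 := ndS (p := 5423) (l := 0) rfl N5423 D19091
theorem N8940 : nd 8940 = n19092 := ndS (p := 5423) (l := 2) rfl N5423 D19092
theorem N8941 : nd 8941 = n19093 := ndS (p := 5423) (l := 5) rfl N5423 D19093
theorem N8942 : nd 8942 = n19094 := ndS (p := 5424) (l := 1) rfl N5424 D19094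
theorem N8943 : nd 8943 = n19096 := ndS (p := 5424) (l := 6) rfl N5424 D19096
theorem N8944 : nd 8944 = n19100 := ndS (p := 5427) (l := 1) rfl N5427 D19100
theorem N8945 : nd 8945 = n19102 := ndS (p := 5428) (l := 1) rfl N5428 D19102
theorem N8946 : nd 8946 = n19103 := ndS (p := 5429) (l := 3) rfl N5429 D19103
theorem N8947 : nd 8947 = n19104 := ndS (p := 5429) (l := 5) rfl N5429 D19104
theorem N8948 : nd 8948 = n19105 := ndS (p := 5429) (l := 6) rfl N5429 D19105
theorem N8949 : nd 8949 = n19106 := ndS (p := 5430) (l := 1) rfl N5430 D19106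
theorem N8950 : nd 8950 = n19107 := ndS (p := 5431) (l := 1) rfl N5431 D19107
theorem N8951 : nd 8951 = n19108 := ndS (p := 5432) (l := 5) rfl N5432 D19108
theorem N8952 : nd 8952 = n19109 := ndS (p := 5432) (l := 6) rfl N5432 D19109
theorem N8953 : nd 8953 = n19110 := ndS (p := 5433) (l := 4) rfl N5433 D19110
theorem N8954 : nd 8954 = n19111 := ndS (p := 5433) (l := 6) rfl N5433 D19111
theorem N8955 : nd 8955 = n19112 := ndS (p := 5434) (l := 6) rfl N5434 D19112
theorem N8956 : nd 8956 = n19113 := ndS (p := 5435) (l := 1) rfl N5435 D19113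
theorem N8957 : nd 8957 = n19114 := ndS (p := 5435) (l := 5) rfl N5435 D19114
theorem N8958 : nd 8958 = n19115 := ndS (p := 5436) (l := 1) rfl N5436 D19115
theorem N8959 : nd 8959 = n19116 := ndS (p := 5437) (l := 0) rfl N5437 D19116
theorem N8960 : nd 8960 = n19117 := ndS (p := 5437) (l := 2) rfl N5437 D19117
theorem N8961 : nd 8961 = n19118 := ndS (p := 5437) (l := 5) rfl N5437 D19118
theorem N8962 : nd 8962 = n19119 := ndS (p := 5438) (l := 1) rfl N5438 D19119
theorem N8963 : nd 8963 = n19120 := ndS (p := 5439) (l := 4) rfl N5439 D19120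
theorem N8964 : nd 8964 = n19121 := ndS (p := 5439) (l := 6) rfl N5439 D19121
theorem N8965 : nd 8965 = n19122 := ndS (p := 5440) (l := 6) rfl N5440 D19122
theorem N8966 : nd 8966 = n19123 := ndS (p := 5441) (l := 1) rfl N5441 D19123
theorem N8967 : nd 8967 = n19124 := ndS (p := 5441) (l := 5) rfl N5441 D19124
theorem N8968 : nd 8968 = n19125 := ndS (p := 5442) (l := 6) rfl N5442 D19125
theorem N8969 : nd 8969 = n19126 := ndS (p := 5443) (l := 1) rfl N5443 D19126
theorem N8970 : nd 8970 = n19127 := ndS (p := 5444) (l := 0) rfl N5444 D19127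
theorem N8971 : nd 8971 = n19128 := ndS (p := 5444) (l := 2) rfl N5444 D19128
theorem N8972 : nd 8972 = n19129 := ndS (p := 5444) (l := 5) rfl N5444 D19129
theorem N8973 : nd 8973 = n19130 := ndS (p := 5445) (l := 1) rfl N5445 D19130
theorem N8974 : nd 8974 = n19131 := ndS (p := 5445) (l := 2) rfl N5445 D19131
theorem N8975 : nd 8975 = n19132 := ndS (p := 5445) (l := 5) rfl N5445 D19132
theorem N8976 : nd 8976 = n19133 := ndS (p := 5446) (l := 3) rfl N5446 D19133
theorem N8977 : nd 8977 = n19134 := ndS (p := 5446) (l := 5) rfl N5446 D19134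
theorem N8978 : nd 8978 = n19135 := ndS (p := 5448) (l := 1) rfl N5448 D19135
theorem N8979 : nd 8979 = n19136 := ndS (p := 5448) (l := 5) rfl N5448 D19136
theorem N8980 : nd 8980 = n19137 := ndS (p := 5449) (l := 0) rfl N5449 D19137
theorem N8981 : nd 8981 = n19138 := ndS (p := 5449) (l := 2) rfl N5449 D19138
theorem N8982 : nd 8982 = n19139 := ndS (p := 5450) (l := 1) rfl N5450 D19139
theorem N8983 : nd 8983 = n19140 := ndS (p := 5451) (l := 1) rfl N5451 D19140
theorem N8984 : nd 8984 = n19141 := ndS (p := 5451) (l := 2) rfl N5451 D19141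
theorem N8985 : nd 8985 = n19142 := ndS (p := 5452) (l := 3) rfl N5452 D19142
theorem N8986 : nd 8986 = n19143 := ndS (p := 5452) (l := 5) rfl N5452 D19143
theorem N8987 : nd 8987 = n19144 := ndS (p := 5453) (l := 1) rfl N5453 D19144
theorem N8988 : nd 8988 = n19145 := ndS (p := 5454) (l := 0) rfl N5454 D19145
theorem N8989 : nd 8989 = n19146 := ndS (p := 5454) (l := 2) rfl N5454 D19146
theorem N8990 : nd 8990 = n19147 := ndS (p := 5454) (l := 6) rfl N5454 D19147
theorem N8991 : nd 8991 = n19148 := ndS (p := 5455) (l := 0) rfl N5455 D19148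
theorem N8992 : nd 8992 = n19149 := ndS (p := 5455) (l := 2) rfl N5455 D19149
theorem N8993 : nd 8993 = n19150 := ndS (p := 5455) (l := 5) rfl N5455 D19150
theorem N8994 : nd 8994 = n19151 := ndS (p := 5455) (l := 6) rfl N5455 D19151
theorem N8995 : nd 8995 = n19152 := ndS (p := 5456) (l := 1) rfl N5456 D19152
theorem N8996 : nd 8996 = n19153 := ndS (p := 5458) (l := 1) rfl N5458 D19153
theorem N8997 : nd 8997 = n19154 := ndS (p := 5459) (l := 0) rfl N5459 D19154
theorem N8998 : nd 8998 = n19155 := ndS (p := 5459) (l := 2) rfl N5459 D19155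
theorem N8999 : nd 8999 = n19156 := ndS (p := 5459) (l := 6) rfl N5459 D19156
theorem N9000 : nd 9000 = n19158 := ndS (p := 5460) (l := 2) rfl N5460 D19158
theorem N9001 : nd 9001 = n19159 := ndS (p := 5460) (l := 6) rfl N5460 D19159
theorem N9002 : nd 9002 = n19161 := ndS (p := 5461) (l := 6) rfl N5461 D19161
theorem N9003 : nd 9003 = n19162 := ndS (p := 5462) (l := 5) rfl N5462 D19162
theorem N9004 : nd 9004 = n19163 := ndS (p := 5463) (l := 5) rfl N5463 D19163
theorem N9005 : nd 9005 = n19164 := ndS (p := 5463) (l := 6) rfl N5463 D19164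
theorem N9006 : nd 9006 = n19165 := ndS (p := 5464) (l := 6) rfl N5464 D19165
theorem N9007 : nd 9007 = n19166 := ndS (p := 5466) (l := 5) rfl N5466 D19166
theorem N9008 : nd 9008 = n19167 := ndS (p := 5467) (l := 0) rfl N5467 D19167
theorem N9009 : nd 9009 = n19168 := ndS (p := 5467) (l := 3) rfl N5467 D19168
theorem N9010 : nd 9010 = n19169 := ndS (p := 5467) (l := 6) rfl N5467 D19169
theorem N9011 : nd 9011 = n19170 := ndS (p := 5472) (l := 0) rfl N5472 D19170
theorem N9012 : nd 9012 = n19171 := ndS (p := 5472) (l := 5) rfl N5472 D19171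
theorem N9013 : nd 9013 = n19172 := ndS (p := 5473) (l := 3) rfl N5473 D19172
theorem N9014 : nd 9014 = n19173 := ndS (p := 5473) (l := 5) rfl N5473 D19173
theorem N9015 : nd 9015 = n19174 := ndS (p := 5473) (l := 6) rfl N5473 D19174
theorem N9016 : nd 9016 = n19175 := ndS (p := 5474) (l := 1) rfl N5474 D19175
theorem N9017 : nd 9017 = n19176 := ndS (p := 5475) (l := 1) rfl N5475 D19176
theorem N9018 : nd 9018 = n19177 := ndS (p := 5476) (l := 5) rfl N5476 D19177
theorem N9019 : nd 9019 = n19178 := ndS (p := 5476) (l := 6) rfl N5476 D19178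
theorem N9020 : nd 9020 = n19179 := ndS (p := 5477) (l := 4) rfl N5477 D19179
theorem N9021 : nd 9021 = n19180 := ndS (p := 5477) (l := 5) rfl N5477 D19180
theorem N9022 : nd 9022 = n19181 := ndS (p := 5478) (l := 1) rfl N5478 D19181
theorem N9023 : nd 9023 = n19182 := ndS (p := 5478) (l := 6) rfl N5478 D19182
theorem N9024 : nd 9024 = n19183 := ndS (p := 5479) (l := 5) rfl N5479 D19183
theorem N9025 : nd 9025 = n19184 := ndS (p := 5480) (l := 0) rfl N5480 D19184
theorem N9026 : nd 9026 = n19185 := ndS (p := 5480) (l := 2) rfl N5480 D19185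
theorem N9027 : nd 9027 = n19186 := ndS (p := 5480) (l := 6) rfl N5480 D19186
theorem N9028 : nd 9028 = n19187 := ndS (p := 5482) (l := 1) rfl N5482 D19187
theorem N9029 : nd 9029 = n19188 := ndS (p := 5483) (l := 4) rfl N5483 D19188
theorem N9030 : nd 9030 = n19189 := ndS (p := 5483) (l := 5) rfl N5483 D19189
theorem N9031 : nd 9031 = n19190 := ndS (p := 5484) (l := 1) rfl N5484 D19190
theorem N9032 : nd 9032 = n19191 := ndS (p := 5484) (l := 6) rfl N5484 D19191
theorem N9033 : nd 9033 = n19192 := ndS (p := 5485) (l := 5) rfl N5485 D19192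
theorem N9034 : nd 9034 = n19193 := ndS (p := 5486) (l := 5) rfl N5486 D19193
theorem N9035 : nd 9035 = n19194 := ndS (p := 5487) (l := 1) rfl N5487 D19194
theorem N9036 : nd 9036 = n19195 := ndS (p := 5488) (l := 0) rfl N5488 D19195
theorem N9037 : nd 9037 = n19196 := ndS (p := 5488) (l := 2) rfl N5488 D19196
theorem N9038 : nd 9038 = n19197 := ndS (p := 5488) (l := 6) rfl N5488 D19197
theorem N9039 : nd 9039 = n19198 := ndS (p := 5489) (l := 1) rfl N5489 D19198
theorem N9040 : nd 9040 = n19199 := ndS (p := 5489) (l := 2) rfl N5489 D19199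
theorem N9041 : nd 9041 = n19200 := ndS (p := 5490) (l := 3) rfl N5490 D19200
theorem N9042 : nd 9042 = n19201 := ndS (p := 5490) (l := 6) rfl N5490 D19201
theorem N9043 : nd 9043 = n19202 := ndS (p := 5492) (l := 1) rfl N5492 D19202
theorem N9044 : nd 9044 = n19203 := ndS (p := 5492) (l := 6) rfl N5492 D19203
theorem N9045 : nd 9045 = n19204 := ndS (p := 5493) (l := 0) rfl N5493 D19204
theorem N9046 : nd 9046 = n19205 := ndS (p := 5493) (l := 2) rfl N5493 D19205
theorem N9047 : nd 9047 = n19206 := ndS (p := 5494) (l := 1) rfl N5494 D19206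
theorem N9048 : nd 9048 = n19207 := ndS (p := 5495) (l := 1) rfl N5495 D19207
theorem N9049 : nd 9049 = n19208 := ndS (p := 5495) (l := 2) rfl N5495 D19208
theorem N9050 : nd 9050 = n19209 := ndS (p := 5496) (l := 6) rfl N5496 D19209
theorem N9051 : nd 9051 = n19210 := ndS (p := 5497) (l := 1) rfl N5497 D19210
theorem N9052 : nd 9052 = n19211 := ndS (p := 5498) (l := 0) rfl N5498 D19211
theorem N9053 : nd 9053 = n19212 := ndS (p := 5498) (l := 2) rfl N5498 D19212
theorem N9054 : nd 9054 = n19213 := ndS (p := 5498) (l := 5) rfl N5498 D19213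
theorem N9055 : nd 9055 = n19214 := ndS (p := 5499) (l := 0) rfl N5499 D19214
theorem N9056 : nd 9056 = n19215 := ndS (p := 5499) (l := 2) rfl N5499 D19215
theorem N9057 : nd 9057 = n19216 := ndS (p := 5499) (l := 5) rfl N5499 D19216
theorem N9058 : nd 9058 = n19217 := ndS (p := 5499) (l := 6) rfl N5499 D19217
theorem N9059 : nd 9059 = n19218 := ndS (p := 5500) (l := 0) rfl N5500 D19218
theorem N9060 : nd 9060 = n19219 := ndS (p := 5500) (l := 2) rfl N5500 D19219
theorem N9061 : nd 9061 = n19220 := ndS (p := 5500) (l := 5) rfl N5500 D19220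
theorem N9062 : nd 9062 = n19221 := ndS (p := 5501) (l := 2) rfl N5501 D19221
theorem N9063 : nd 9063 = n19222 := ndS (p := 5501) (l := 5) rfl N5501 D19222
theorem N9064 : nd 9064 = n19224 := ndS (p := 5502) (l := 5) rfl N5502 D19224
theorem N9065 : nd 9065 = n19225 := ndS (p := 5503) (l := 6) rfl N5503 D19225
theorem N9066 : nd 9066 = n19226 := ndS (p := 5504) (l := 5) rfl N5504 D19226
theorem N9067 : nd 9067 = n19227 := ndS (p := 5504) (l := 6) rfl N5504 D19227
theorem N9068 : nd 9068 = n19228 := ndS (p := 5505) (l := 5) rfl N5505 D19228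
theorem N9069 : nd 9069 = n19229 := ndS (p := 5506) (l := 6) rfl N5506 D19229
theorem N9070 : nd 9070 = n19230 := ndS (p := 5508) (l := 0) rfl N5508 D19230
theorem N9071 : nd 9071 = n19231 := ndS (p := 5508) (l := 5) rfl N5508 D19231
theorem N9072 : nd 9072 = n19232 := ndS (p := 5512) (l := 0) rfl N5512 D19232
theorem N9073 : nd 9073 = n19233 := ndS (p := 5512) (l := 6) rfl N5512 D19233
theorem N9074 : nd 9074 = n19234 := ndS (p := 5513) (l := 5) rfl N5513 D19234
theorem N9075 : nd 9075 = n19235 := ndS (p := 5513) (l := 6) rfl N5513 D19235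
theorem N9076 : nd 9076 = n19236 := ndS (p := 5514) (l := 2) rfl N5514 D19236
theorem N9077 : nd 9077 = n19237 := ndS (p := 5514) (l := 5) rfl N5514 D19237
theorem N9078 : nd 9078 = n19238 := ndS (p := 5514) (l := 6) rfl N5514 D19238
theorem N9079 : nd 9079 = n19239 := ndS (p := 5515) (l := 6) rfl N5515 D19239
theorem N9080 : nd 9080 = n19240 := ndS (p := 5516) (l := 5) rfl N5516 D19240
theorem N9081 : nd 9081 = n19241 := ndS (p := 5518) (l := 4) rfl N5518 D19241
theorem N9082 : nd 9082 = n19242 := ndS (p := 5520) (l := 1) rfl N5520 D19242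
theorem N9083 : nd 9083 = n19243 := ndS (p := 5521) (l := 6) rfl N5521 D19243
theorem N9084 : nd 9084 = n19244 := ndS (p := 5523) (l := 1) rfl N5523 D19244
theorem N9085 : nd 9085 = n19245 := ndS (p := 5524) (l := 1) rfl N5524 D19245
theorem N9086 : nd 9086 = n19246 := ndS (p := 5525) (l := 3) rfl N5525 D19246
theorem N9087 : nd 9087 = n19247 := ndS (p := 5525) (l := 6) rfl N5525 D19247
theorem N9088 : nd 9088 = n19248 := ndS (p := 5526) (l := 6) rfl N5526 D19248
theorem N9089 : nd 9089 = n19249 := ndS (p := 5527) (l := 1) rfl N5527 D19249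
theorem N9090 : nd 9090 = n19250 := ndS (p := 5527) (l := 5) rfl N5527 D19250
theorem N9091 : nd 9091 = n19251 := ndS (p := 5528) (l := 6) rfl N5528 D19251
theorem N9092 : nd 9092 = n19252 := ndS (p := 5529) (l := 1) rfl N5529 D19252
theorem N9093 : nd 9093 = n19253 := ndS (p := 5531) (l := 0) rfl N5531 D19253
theorem N9094 : nd 9094 = n19254 := ndS (p := 5531) (l := 2) rfl N5531 D19254
theorem N9095 : nd 9095 = n19255 := ndS (p := 5531) (l := 5) rfl N5531 D19255
theorem N9096 : nd 9096 = n19256 := ndS (p := 5532) (l := 1) rfl N5532 D19256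
theorem N9097 : nd 9097 = n19257 := ndS (p := 5535) (l := 1) rfl N5535 D19257
theorem N9098 : nd 9098 = n19258 := ndS (p := 5535) (l := 6) rfl N5535 D19258
theorem N9099 : nd 9099 = n19259 := ndS (p := 5536) (l := 2) rfl N5536 D19259
theorem N9100 : nd 9100 = n19260 := ndS (p := 5538) (l := 3) rfl N5538 D19260
theorem N9101 : nd 9101 = n19261 := ndS (p := 5538) (l := 5) rfl N5538 D19261
theorem N9102 : nd 9102 = n19262 := ndS (p := 5539) (l := 1) rfl N5539 D19262
theorem N9103 : nd 9103 = n19263 := ndS (p := 5540) (l := 2) rfl N5540 D19263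
theorem N9104 : nd 9104 = n19264 := ndS (p := 5540) (l := 4) rfl N5540 D19264
theorem N9105 : nd 9105 = n19265 := ndS (p := 5541) (l := 1) rfl N5541 D19265
theorem N9106 : nd 9106 = n19266 := ndS (p := 5541) (l := 6) rfl N5541 D19266
theorem N9107 : nd 9107 = n19267 := ndS (p := 5542) (l := 0) rfl N5542 D19267
theorem N9108 : nd 9108 = n19268 := ndS (p := 5542) (l := 6) rfl N5542 D19268
theorem N9109 : nd 9109 = n19269 := ndS (p := 5543) (l := 1) rfl N5543 D19269
theorem N9110 : nd 9110 = n19270 := ndS (p := 5544) (l := 6) rfl N5544 D19270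
theorem N9111 : nd 9111 = n19271 := ndS (p := 5545) (l := 5) rfl N5545 D19271
theorem N9112 : nd 9112 = n19272 := ndS (p := 5546) (l := 0) rfl N5546 D19272
theorem N9113 : nd 9113 = n19273 := ndS (p := 5546) (l := 3) rfl N5546 D19273
theorem N9114 : nd 9114 = n19274 := ndS (p := 5546) (l := 6) rfl N5546 D19274
theorem N9115 : nd 9115 = n19275 := ndS (p := 5547) (l := 4) rfl N5547 D19275
theorem N9116 : nd 9116 = n19276 := ndS (p := 5548) (l := 1) rfl N5548 D19276
theorem N9117 : nd 9117 = n19277 := ndS (p := 5548) (l := 4) rfl N5548 D19277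
theorem N9118 : nd 9118 = n19278 := ndS (p := 5550) (l := 1) rfl N5550 D19278
theorem N9119 : nd 9119 = n19279 := ndS (p := 5550) (l := 3) rfl N5550 D19279
theorem N9120 : nd 9120 = n19280 := ndS (p := 5550) (l := 5) rfl N5550 D19280
theorem N9121 : nd 9121 = n19281 := ndS (p := 5550) (l := 6) rfl N5550 D19281
theorem N9122 : nd 9122 = n19283 := ndS (p := 5551) (l := 4) rfl N5551 D19283
theorem N9123 : nd 9123 = n19286 := ndS (p := 5552) (l := 6) rfl N5552 D19286
theorem N9124 : nd 9124 = n19287 := ndS (p := 5553) (l := 5) rfl N5553 D19287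
theorem N9125 : nd 9125 = n19288 := ndS (p := 5555) (l := 0) rfl N5555 D19288
theorem N9126 : nd 9126 = n19289 := ndS (p := 5555) (l := 4) rfl N5555 D19289
theorem N9127 : nd 9127 = n19290 := ndS (p := 5555) (l := 6) rfl N5555 D19290
theorem N9128 : nd 9128 = n19291 := ndS (p := 5557) (l := 5) rfl N5557 D19291
theorem N9129 : nd 9129 = n19292 := ndS (p := 5557) (l := 6) rfl N5557 D19292
theorem N9130 : nd 9130 = n19293 := ndS (p := 5558) (l := 2) rfl N5558 D19293
theorem N9131 : nd 9131 = n19294 := ndS (p := 5558) (l := 5) rfl N5558 D19294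
theorem N9132 : nd 9132 = n19295 := ndS (p := 5558) (l := 6) rfl N5558 D19295
theorem N9133 : nd 9133 = n19296 := ndS (p := 5559) (l := 6) rfl N5559 D19296
theorem N9134 : nd 9134 = n19297 := ndS (p := 5560) (l := 5) rfl N5560 D19297
theorem N9135 : nd 9135 = n19298 := ndS (p := 5562) (l := 4) rfl N5562 D19298
theorem N9136 : nd 9136 = n19299 := ndS (p := 5563) (l := 1) rfl N5563 D19299
theorem N9137 : nd 9137 = n19300 := ndS (p := 5565) (l := 5) rfl N5565 D19300
theorem N9138 : nd 9138 = n19301 := ndS (p := 5567) (l := 1) rfl N5567 D19301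
theorem N9139 : nd 9139 = n19302 := ndS (p := 5568) (l := 1) rfl N5568 D19302
theorem N9140 : nd 9140 = n19303 := ndS (p := 5569) (l := 3) rfl N5569 D19303
theorem N9141 : nd 9141 = n19304 := ndS (p := 5569) (l := 5) rfl N5569 D19304
theorem N9142 : nd 9142 = n19305 := ndS (p := 5570) (l := 1) rfl N5570 D19305
theorem N9143 : nd 9143 = n19306 := ndS (p := 5570) (l := 6) rfl N5570 D19306
theorem N9144 : nd 9144 = n19307 := ndS (p := 5571) (l := 5) rfl N5571 D19307
theorem N9145 : nd 9145 = n19308 := ndS (p := 5572) (l := 5) rfl N5572 D19308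
theorem N9146 : nd 9146 = n19309 := ndS (p := 5573) (l := 1) rfl N5573 D19309
theorem N9147 : nd 9147 = n19310 := ndS (p := 5575) (l := 0) rfl N5575 D19310
theorem N9148 : nd 9148 = n19311 := ndS (p := 5575) (l := 2) rfl N5575 D19311
theorem N9149 : nd 9149 = n19312 := ndS (p := 5575) (l := 6) rfl N5575 D19312
theorem N9150 : nd 9150 = n19313 := ndS (p := 5576) (l := 1) rfl N5576 D19313
theorem N9151 : nd 9151 = n19314 := ndS (p := 5579) (l := 1) rfl N5579 D19314
theorem N9152 : nd 9152 = n19315 := ndS (p := 5579) (l := 5) rfl N5579 D19315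
theorem N9153 : nd 9153 = n19316 := ndS (p := 5580) (l := 2) rfl N5580 D19316
theorem N9154 : nd 9154 = n19317 := ndS (p := 5582) (l := 3) rfl N5582 D19317
theorem N9155 : nd 9155 = n19318 := ndS (p := 5582) (l := 6) rfl N5582 D19318
theorem N9156 : nd 9156 = n19319 := ndS (p := 5583) (l := 1) rfl N5583 D19319
theorem N9157 : nd 9157 = n19320 := ndS (p := 5584) (l := 2) rfl N5584 D19320
theorem N9158 : nd 9158 = n19321 := ndS (p := 5584) (l := 4) rfl N5584 D19321
theorem N9159 : nd 9159 = n19322 := ndS (p := 5585) (l := 1) rfl N5585 D19322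
theorem N9160 : nd 9160 = n19323 := ndS (p := 5585) (l := 5) rfl N5585 D19323
theorem N9161 : nd 9161 = n19324 := ndS (p := 5586) (l := 0) rfl N5586 D19324
theorem N9162 : nd 9162 = n19325 := ndS (p := 5586) (l := 5) rfl N5586 D19325
theorem N9163 : nd 9163 = n19326 := ndS (p := 5587) (l := 1) rfl N5587 D19326
theorem N9164 : nd 9164 = n19327 := ndS (p := 5588) (l := 5) rfl N5588 D19327
theorem N9165 : nd 9165 = n19328 := ndS (p := 5589) (l := 6) rfl N5589 D19328
theorem N9166 : nd 9166 = n19329 := ndS (p := 5590) (l := 0) rfl N5590 D19329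
theorem N9167 : nd 9167 = n19330 := ndS (p := 5590) (l := 3) rfl N5590 D19330
theorem N9168 : nd 9168 = n19331 := ndS (p := 5590) (l := 5) rfl N5590 D19331
theorem N9169 : nd 9169 = n19332 := ndS (p := 5591) (l := 4) rfl N5591 D19332
theorem N9170 : nd 9170 = n19333 := ndS (p := 5592) (l := 1) rfl N5592 D19333
theorem N9171 : nd 9171 = n19334 := ndS (p := 5592) (l := 4) rfl N5592 D19334
theorem N9172 : nd 9172 = n19335 := ndS (p := 5594) (l := 1) rfl N5594 D19335
theorem N9173 : nd 9173 = n19336 := ndS (p := 5594) (l := 3) rfl N5594 D19336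
theorem N9174 : nd 9174 = n19337 := ndS (p := 5594) (l := 5) rfl N5594 D19337
theorem N9175 : nd 9175 = n19338 := ndS (p := 5594) (l := 6) rfl N5594 D19338
theorem N9176 : nd 9176 = n19340 := ndS (p := 5595) (l := 4) rfl N5595 D19340
theorem N9177 : nd 9177 = n19343 := ndS (p := 5596) (l := 6) rfl N5596 D19343
theorem N9178 : nd 9178 = n19344 := ndS (p := 5597) (l := 5) rfl N5597 D19344
theorem N9179 : nd 9179 = n19345 := ndS (p := 5599) (l := 0) rfl N5599 D19345
theorem N9180 : nd 9180 = n19346 := ndS (p := 5599) (l := 4) rfl N5599 D19346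
theorem N9181 : nd 9181 = n19347 := ndS (p := 5599) (l := 5) rfl N5599 D19347
theorem N9182 : nd 9182 = n19348 := ndS (p := 5601) (l := 4) rfl N5601 D19348
theorem N9183 : nd 9183 = n19349 := ndS (p := 5601) (l := 6) rfl N5601 D19349
theorem N9184 : nd 9184 = n19350 := ndS (p := 5602) (l := 6) rfl N5602 D19350
theorem N9185 : nd 9185 = n19351 := ndS (p := 5603) (l := 5) rfl N5603 D19351
theorem N9186 : nd 9186 = n19352 := ndS (p := 5605) (l := 4) rfl N5605 D19352
theorem N9187 : nd 9187 = n19353 := ndS (p := 5606) (l := 4) rfl N5606 D19353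
theorem N9188 : nd 9188 = n19354 := ndS (p := 5606) (l := 6) rfl N5606 D19354
theorem N9189 : nd 9189 = n19355 := ndS (p := 5607) (l := 6) rfl N5607 D19355
theorem N9190 : nd 9190 = n19356 := ndS (p := 5608) (l := 1) rfl N5608 D19356
theorem N9191 : nd 9191 = n19357 := ndS (p := 5609) (l := 1) rfl N5609 D19357
theorem N9192 : nd 9192 = n19358 := ndS (p := 5610) (l := 6) rfl N5610 D19358
theorem N9193 : nd 9193 = n19359 := ndS (p := 5611) (l := 5) rfl N5611 D19359
theorem N9194 : nd 9194 = n19360 := ndS (p := 5613) (l := 1) rfl N5613 D19360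
theorem N9195 : nd 9195 = n19361 := ndS (p := 5614) (l := 0) rfl N5614 D19361
theorem N9196 : nd 9196 = n19362 := ndS (p := 5616) (l := 6) rfl N5616 D19362
theorem N9197 : nd 9197 = n19363 := ndS (p := 5617) (l := 1) rfl N5617 D19363
theorem N9198 : nd 9198 = n19364 := ndS (p := 5619) (l := 1) rfl N5619 D19364
theorem N9199 : nd 9199 = n19365 := ndS (p := 5621) (l := 1) rfl N5621 D19365
theorem N9200 : nd 9200 = n19366 := ndS (p := 5622) (l := 1) rfl N5622 D19366
theorem N9201 : nd 9201 = n19367 := ndS (p := 5625) (l := 0) rfl N5625 D19367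
theorem N9202 : nd 9202 = n19368 := ndS (p := 5627) (l := 1) rfl N5627 D19368
theorem N9203 : nd 9203 = n19369 := ndS (p := 5627) (l := 3) rfl N5627 D19369
theorem N9204 : nd 9204 = n19370 := ndS (p := 5628) (l := 4) rfl N5628 D19370
theorem N9205 : nd 9205 = n19371 := ndS (p := 5629) (l := 0) rfl N5629 D19371
theorem N9206 : nd 9206 = n19372 := ndS (p := 5629) (l := 3) rfl N5629 D19372
theorem N9207 : nd 9207 = n19373 := ndS (p := 5629) (l := 5) rfl N5629 D19373
theorem N9208 : nd 9208 = n19374 := ndS (p := 5629) (l := 6) rfl N5629 D19374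
theorem N9209 : nd 9209 = n19375 := ndS (p := 5630) (l := 4) rfl N5630 D19375
theorem N9210 : nd 9210 = n19376 := ndS (p := 5631) (l := 0) rfl N5631 D19376
theorem N9211 : nd 9211 = n19377 := ndS (p := 5631) (l := 5) rfl N5631 D19377
theorem N9212 : nd 9212 = n19378 := ndS (p := 5632) (l := 1) rfl N5632 D19378
theorem N9213 : nd 9213 = n19379 := ndS (p := 5632) (l := 3) rfl N5632 D19379
theorem N9214 : nd 9214 = n19380 := ndS (p := 5632) (l := 4) rfl N5632 D19380
theorem N9215 : nd 9215 = n19381 := ndS (p := 5632) (l := 5) rfl N5632 D19381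
theorem N9216 : nd 9216 = n19382 := ndS (p := 5632) (l := 6) rfl N5632 D19382
theorem N9217 : nd 9217 = n19383 := ndS (p := 5633) (l := 4) rfl N5633 D19383
theorem N9218 : nd 9218 = n19384 := ndS (p := 5633) (l := 6) rfl N5633 D19384
theorem N9219 : nd 9219 = n19385 := ndS (p := 5634) (l := 5) rfl N5634 D19385
theorem N9220 : nd 9220 = n19386 := ndS (p := 5634) (l := 6) rfl N5634 D19386
theorem N9221 : nd 9221 = n19387 := ndS (p := 5636) (l := 5) rfl N5636 D19387
theorem N9222 : nd 9222 = n19388 := ndS (p := 5638) (l := 4) rfl N5638 D19388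
theorem N9223 : nd 9223 = n19389 := ndS (p := 5638) (l := 5) rfl N5638 D19389
theorem N9224 : nd 9224 = n19390 := ndS (p := 5639) (l := 5) rfl N5639 D19390
theorem N9225 : nd 9225 = n19391 := ndS (p := 5640) (l := 6) rfl N5640 D19391
theorem N9226 : nd 9226 = n19392 := ndS (p := 5642) (l := 4) rfl N5642 D19392
theorem N9227 : nd 9227 = n19393 := ndS (p := 5643) (l := 4) rfl N5643 D19393
theorem N9228 : nd 9228 = n19394 := ndS (p := 5643) (l := 5) rfl N5643 D19394
theorem N9229 : nd 9229 = n19395 := ndS (p := 5645) (l := 1) rfl N5645 D19395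
theorem N9230 : nd 9230 = n19396 := ndS (p := 5646) (l := 1) rfl N5646 D19396
theorem N9231 : nd 9231 = n19397 := ndS (p := 5647) (l := 5) rfl N5647 D19397
theorem N9232 : nd 9232 = n19398 := ndS (p := 5649) (l := 1) rfl N5649 D19398
theorem N9233 : nd 9233 = n19399 := ndS (p := 5650) (l := 5) rfl N5650 D19399
theorem N9234 : nd 9234 = n19400 := ndS (p := 5651) (l := 1) rfl N5651 D19400
theorem N9235 : nd 9235 = n19401 := ndS (p := 5654) (l := 1) rfl N5654 D19401
theorem N9236 : nd 9236 = n19402 := ndS (p := 5655) (l := 1) rfl N5655 D19402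
theorem N9237 : nd 9237 = n19403 := ndS (p := 5658) (l := 0) rfl N5658 D19403
theorem N9238 : nd 9238 = n19404 := ndS (p := 5660) (l := 1) rfl N5660 D19404
theorem N9239 : nd 9239 = n19405 := ndS (p := 5660) (l := 3) rfl N5660 D19405
theorem N9240 : nd 9240 = n19406 := ndS (p := 5661) (l := 4) rfl N5661 D19406
theorem N9241 : nd 9241 = n19407 := ndS (p := 5662) (l := 0) rfl N5662 D19407
theorem N9242 : nd 9242 = n19408 := ndS (p := 5662) (l := 3) rfl N5662 D19408
theorem N9243 : nd 9243 = n19409 := ndS (p := 5662) (l := 5) rfl N5662 D19409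
theorem N9244 : nd 9244 = n19410 := ndS (p := 5662) (l := 6) rfl N5662 D19410
theorem N9245 : nd 9245 = n19411 := ndS (p := 5663) (l := 4) rfl N5663 D19411
theorem N9246 : nd 9246 = n19412 := ndS (p := 5664) (l := 0) rfl N5664 D19412
theorem N9247 : nd 9247 = n19413 := ndS (p := 5664) (l := 6) rfl N5664 D19413
theorem N9248 : nd 9248 = n19414 := ndS (p := 5665) (l := 1) rfl N5665 D19414
theorem N9249 : nd 9249 = n19415 := ndS (p := 5665) (l := 3) rfl N5665 D19415
theorem N9250 : nd 9250 = n19416 := ndS (p := 5665) (l := 4) rfl N5665 D19416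
theorem N9251 : nd 9251 = n19417 := ndS (p := 5665) (l := 5) rfl N5665 D19417
theorem N9252 : nd 9252 = n19418 := ndS (p := 5665) (l := 6) rfl N5665 D19418
theorem N9253 : nd 9253 = n19419 := ndS (p := 5666) (l := 4) rfl N5666 D19419
theorem N9254 : nd 9254 = n19420 := ndS (p := 5666) (l := 5) rfl N5666 D19420
theorem N9255 : nd 9255 = n19421 := ndS (p := 5667) (l := 5) rfl N5667 D19421
theorem N9256 : nd 9256 = n19422 := ndS (p := 5667) (l := 6) rfl N5667 D19422
theorem N9257 : nd 9257 = n19423 := ndS (p := 5668) (l := 6) rfl N5668 D19423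
theorem N9258 : nd 9258 = n19424 := ndS (p := 5671) (l := 4) rfl N5671 D19424
theorem N9259 : nd 9259 = n19425 := ndS (p := 5671) (l := 6) rfl N5671 D19425
theorem N9260 : nd 9260 = n19426 := ndS (p := 5672) (l := 6) rfl N5672 D19426
theorem N9261 : nd 9261 = n19427 := ndS (p := 5673) (l := 1) rfl N5673 D19427
theorem N9262 : nd 9262 = n19428 := ndS (p := 5673) (l := 5) rfl N5673 D19428
theorem N9263 : nd 9263 = n19429 := ndS (p := 5675) (l := 1) rfl N5675 D19429
theorem N9264 : nd 9264 = n19430 := ndS (p := 5676) (l := 0) rfl N5676 D19430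
theorem N9265 : nd 9265 = n19431 := ndS (p := 5676) (l := 2) rfl N5676 D19431
theorem N9266 : nd 9266 = n19432 := ndS (p := 5676) (l := 5) rfl N5676 D19432
theorem N9267 : nd 9267 = n19433 := ndS (p := 5677) (l := 1) rfl N5677 D19433
theorem N9268 : nd 9268 = n19434 := ndS (p := 5678) (l := 1) rfl N5678 D19434
theorem N9269 : nd 9269 = n19435 := ndS (p := 5679) (l := 0) rfl N5679 D19435
theorem N9270 : nd 9270 = n19436 := ndS (p := 5680) (l := 0) rfl N5680 D19436
theorem N9271 : nd 9271 = n19437 := ndS (p := 5680) (l := 2) rfl N5680 D19437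
theorem N9272 : nd 9272 = n19438 := ndS (p := 5680) (l := 5) rfl N5680 D19438
theorem N9273 : nd 9273 = n19439 := ndS (p := 5681) (l := 1) rfl N5681 D19439
theorem N9274 : nd 9274 = n19440 := ndS (p := 5681) (l := 2) rfl N5681 D19440
theorem N9275 : nd 9275 = n19441 := ndS (p := 5682) (l := 3) rfl N5682 D19441
theorem N9276 : nd 9276 = n19442 := ndS (p := 5684) (l := 0) rfl N5684 D19442
theorem N9277 : nd 9277 = n19443 := ndS (p := 5684) (l := 2) rfl N5684 D19443
theorem N9278 : nd 9278 = n19444 := ndS (p := 5684) (l := 5) rfl N5684 D19444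
theorem N9279 : nd 9279 = n19445 := ndS (p := 5689) (l := 1) rfl N5689 D19445
theorem N9280 : nd 9280 = n19446 := ndS (p := 5689) (l := 3) rfl N5689 D19446
theorem N9281 : nd 9281 = n19447 := ndS (p := 5690) (l := 1) rfl N5690 D19447
theorem N9282 : nd 9282 = n19448 := ndS (p := 5691) (l := 2) rfl N5691 D19448
theorem N9283 : nd 9283 = n19449 := ndS (p := 5691) (l := 4) rfl N5691 D19449
theorem N9284 : nd 9284 = n19450 := ndS (p := 5691) (l := 5) rfl N5691 D19450
theorem N9285 : nd 9285 = n19451 := ndS (p := 5692) (l := 1) rfl N5692 D19451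
theorem N9286 : nd 9286 = n19452 := ndS (p := 5693) (l := 1) rfl N5693 D19452
theorem N9287 : nd 9287 = n19453 := ndS (p := 5694) (l := 4) rfl N5694 D19453
theorem N9288 : nd 9288 = n19454 := ndS (p := 5695) (l := 0) rfl N5695 D19454
theorem N9289 : nd 9289 = n19455 := ndS (p := 5695) (l := 3) rfl N5695 D19455
theorem N9290 : nd 9290 = n19456 := ndS (p := 5695) (l := 5) rfl N5695 D19456
theorem N9291 : nd 9291 = n19457 := ndS (p := 5695) (l := 6) rfl N5695 D19457
theorem N9292 : nd 9292 = n19458 := ndS (p := 5696) (l := 4) rfl N5696 D19458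
theorem N9293 : nd 9293 = n19459 := ndS (p := 5697) (l := 1) rfl N5697 D19459
theorem N9294 : nd 9294 = n19460 := ndS (p := 5697) (l := 4) rfl N5697 D19460
theorem N9295 : nd 9295 = n19461 := ndS (p := 5698) (l := 5) rfl N5698 D19461
theorem N9296 : nd 9296 = n19462 := ndS (p := 5699) (l := 1) rfl N5699 D19462
theorem N9297 : nd 9297 = n19464 := ndS (p := 5700) (l := 6) rfl N5700 D19464
theorem N9298 : nd 9298 = n19467 := ndS (p := 5701) (l := 4) rfl N5701 D19467
theorem N9299 : nd 9299 = n19468 := ndS (p := 5701) (l := 5) rfl N5701 D19468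
theorem N9300 : nd 9300 = n19469 := ndS (p := 5701) (l := 6) rfl N5701 D19469
theorem N9301 : nd 9301 = n19470 := ndS (p := 5702) (l := 3) rfl N5702 D19470
theorem N9302 : nd 9302 = n19471 := ndS (p := 5702) (l := 5) rfl N5702 D19471
theorem N9303 : nd 9303 = n19472 := ndS (p := 5702) (l := 6) rfl N5702 D19472
theorem N9304 : nd 9304 = n19473 := ndS (p := 5703) (l := 1) rfl N5703 D19473
theorem N9305 : nd 9305 = n19474 := ndS (p := 5704) (l := 1) rfl N5704 D19474
theorem N9306 : nd 9306 = n19475 := ndS (p := 5705) (l := 2) rfl N5705 D19475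
theorem N9307 : nd 9307 = n19476 := ndS (p := 5705) (l := 6) rfl N5705 D19476
theorem N9308 : nd 9308 = n19477 := ndS (p := 5706) (l := 6) rfl N5706 D19477
theorem N9309 : nd 9309 = n19478 := ndS (p := 5707) (l := 5) rfl N5707 D19478
theorem N9310 : nd 9310 = n19479 := ndS (p := 5709) (l := 1) rfl N5709 D19479
theorem N9311 : nd 9311 = n19480 := ndS (p := 5710) (l := 4) rfl N5710 D19480
theorem N9312 : nd 9312 = n19481 := ndS (p := 5710) (l := 5) rfl N5710 D19481
theorem N9313 : nd 9313 = n19482 := ndS (p := 5711) (l := 5) rfl N5711 D19482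
theorem N9314 : nd 9314 = n19483 := ndS (p := 5712) (l := 1) rfl N5712 D19483
theorem N9315 : nd 9315 = n19484 := ndS (p := 5712) (l := 6) rfl N5712 D19484
theorem N9316 : nd 9316 = n19485 := ndS (p := 5713) (l := 1) rfl N5713 D19485
theorem N9317 : nd 9317 = n19486 := ndS (p := 5715) (l := 0) rfl N5715 D19486
theorem N9318 : nd 9318 = n19487 := ndS (p := 5715) (l := 2) rfl N5715 D19487
theorem N9319 : nd 9319 = n19488 := ndS (p := 5715) (l := 6) rfl N5715 D19488
theorem N9320 : nd 9320 = n19489 := ndS (p := 5717) (l := 1) rfl N5717 D19489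
theorem N9321 : nd 9321 = n19490 := ndS (p := 5718) (l := 1) rfl N5718 D19490
theorem N9322 : nd 9322 = n19491 := ndS (p := 5719) (l := 0) rfl N5719 D19491
theorem N9323 : nd 9323 = n19492 := ndS (p := 5719) (l := 2) rfl N5719 D19492
theorem N9324 : nd 9324 = n19493 := ndS (p := 5719) (l := 6) rfl N5719 D19493
theorem N9325 : nd 9325 = n19494 := ndS (p := 5720) (l := 2) rfl N5720 D19494
theorem N9326 : nd 9326 = n19495 := ndS (p := 5720) (l := 6) rfl N5720 D19495
theorem N9327 : nd 9327 = n19496 := ndS (p := 5724) (l := 1) rfl N5724 D19496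
theorem N9328 : nd 9328 = n19497 := ndS (p := 5724) (l := 3) rfl N5724 D19497
theorem N9329 : nd 9329 = n19498 := ndS (p := 5726) (l := 2) rfl N5726 D19498
theorem N9330 : nd 9330 = n19499 := ndS (p := 5726) (l := 4) rfl N5726 D19499
theorem N9331 : nd 9331 = n19500 := ndS (p := 5726) (l := 6) rfl N5726 D19500
theorem N9332 : nd 9332 = n19501 := ndS (p := 5727) (l := 1) rfl N5727 D19501
theorem N9333 : nd 9333 = n19502 := ndS (p := 5728) (l := 1) rfl N5728 D19502
theorem N9334 : nd 9334 = n19503 := ndS (p := 5729) (l := 4) rfl N5729 D19503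
theorem N9335 : nd 9335 = n19504 := ndS (p := 5730) (l := 0) rfl N5730 D19504
theorem N9336 : nd 9336 = n19505 := ndS (p := 5730) (l := 5) rfl N5730 D19505
theorem N9337 : nd 9337 = n19506 := ndS (p := 5731) (l := 6) rfl N5731 D19506
theorem N9338 : nd 9338 = n19507 := ndS (p := 5732) (l := 1) rfl N5732 D19507
theorem N9339 : nd 9339 = n19508 := ndS (p := 5733) (l := 5) rfl N5733 D19508
theorem N9340 : nd 9340 = n19509 := ndS (p := 5734) (l := 4) rfl N5734 D19509
theorem N9341 : nd 9341 = n19510 := ndS (p := 5734) (l := 5) rfl N5734 D19510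
theorem N9342 : nd 9342 = n19511 := ndS (p := 5734) (l := 6) rfl N5734 D19511
theorem N9343 : nd 9343 = n19512 := ndS (p := 5735) (l := 3) rfl N5735 D19512
theorem N9344 : nd 9344 = n19513 := ndS (p := 5735) (l := 5) rfl N5735 D19513
theorem N9345 : nd 9345 = n19514 := ndS (p := 5735) (l := 6) rfl N5735 D19514
theorem N9346 : nd 9346 = n19515 := ndS (p := 5736) (l := 1) rfl N5736 D19515
theorem N9347 : nd 9347 = n19516 := ndS (p := 5737) (l := 1) rfl N5737 D19516
theorem N9348 : nd 9348 = n19517 := ndS (p := 5738) (l := 2) rfl N5738 D19517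
theorem N9349 : nd 9349 = n19518 := ndS (p := 5738) (l := 5) rfl N5738 D19518
theorem N9350 : nd 9350 = n19519 := ndS (p := 5739) (l := 6) rfl N5739 D19519
theorem N9351 : nd 9351 = n19520 := ndS (p := 5740) (l := 5) rfl N5740 D19520
theorem N9352 : nd 9352 = n19521 := ndS (p := 5743) (l := 1) rfl N5743 D19521
theorem N9353 : nd 9353 = n19522 := ndS (p := 5744) (l := 1) rfl N5744 D19522
theorem N9354 : nd 9354 = n19523 := ndS (p := 5745) (l := 1) rfl N5745 D19523
theorem N9355 : nd 9355 = n19524 := ndS (p := 5746) (l := 1) rfl N5746 D19524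
theorem N9356 : nd 9356 = n19525 := ndS (p := 5751) (l := 5) rfl N5751 D19525
theorem N9357 : nd 9357 = n19526 := ndS (p := 5751) (l := 6) rfl N5751 D19526
theorem N9358 : nd 9358 = n19527 := ndS (p := 5752) (l := 6) rfl N5752 D19527
theorem N9359 : nd 9359 = n19528 := ndS (p := 5753) (l := 5) rfl N5753 D19528
theorem N9360 : nd 9360 = n19529 := ndS (p := 5754) (l := 1) rfl N5754 D19529
theorem N9361 : nd 9361 = n19530 := ndS (p := 5755) (l := 1) rfl N5755 D19530
theorem N9362 : nd 9362 = n19531 := ndS (p := 5756) (l := 0) rfl N5756 D19531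
theorem N9363 : nd 9363 = n19532 := ndS (p := 5756) (l := 2) rfl N5756 D19532
theorem N9364 : nd 9364 = n19533 := ndS (p := 5756) (l := 5) rfl N5756 D19533
theorem N9365 : nd 9365 = n19534 := ndS (p := 5757) (l := 0) rfl N5757 D19534
theorem N9366 : nd 9366 = n19535 := ndS (p := 5757) (l := 2) rfl N5757 D19535
theorem N9367 : nd 9367 = n19536 := ndS (p := 5757) (l := 6) rfl N5757 D19536
theorem N9368 : nd 9368 = n19537 := ndS (p := 5758) (l := 1) rfl N5758 D19537
theorem N9369 : nd 9369 = n19538 := ndS (p := 5759) (l := 1) rfl N5759 D19538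
theorem N9370 : nd 9370 = n19539 := ndS (p := 5760) (l := 2) rfl N5760 D19539
theorem N9371 : nd 9371 = n19540 := ndS (p := 5760) (l := 6) rfl N5760 D19540
theorem N9372 : nd 9372 = n19541 := ndS (p := 5761) (l := 2) rfl N5761 D19541
theorem N9373 : nd 9373 = n19542 := ndS (p := 5761) (l := 5) rfl N5761 D19542
theorem N9374 : nd 9374 = n19543 := ndS (p := 5762) (l := 0) rfl N5762 D19543
theorem N9375 : nd 9375 = n19544 := ndS (p := 5762) (l := 6) rfl N5762 D19544
theorem N9376 : nd 9376 = n19545 := ndS (p := 5763) (l := 1) rfl N5763 D19545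
theorem N9377 : nd 9377 = n19546 := ndS (p := 5764) (l := 0) rfl N5764 D19546
theorem N9378 : nd 9378 = n19547 := ndS (p := 5764) (l := 5) rfl N5764 D19547
theorem N9379 : nd 9379 = n19548 := ndS (p := 5765) (l := 1) rfl N5765 D19548
theorem N9380 : nd 9380 = n19549 := ndS (p := 5767) (l := 1) rfl N5767 D19549
theorem N9381 : nd 9381 = n19550 := ndS (p := 5768) (l := 0) rfl N5768 D19550
theorem N9382 : nd 9382 = n19551 := ndS (p := 5768) (l := 2) rfl N5768 D19551
theorem N9383 : nd 9383 = n19552 := ndS (p := 5768) (l := 5) rfl N5768 D19552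
theorem N9384 : nd 9384 = n19553 := ndS (p := 5770) (l := 1) rfl N5770 D19553
theorem N9385 : nd 9385 = n19554 := ndS (p := 5771) (l := 0) rfl N5771 D19554
theorem N9386 : nd 9386 = n19555 := ndS (p := 5771) (l := 2) rfl N5771 D19555
theorem N9387 : nd 9387 = n19556 := ndS (p := 5771) (l := 6) rfl N5771 D19556
theorem N9388 : nd 9388 = n19557 := ndS (p := 5772) (l := 6) rfl N5772 D19557
theorem N9389 : nd 9389 = n19558 := ndS (p := 5773) (l := 5) rfl N5773 D19558
theorem N9390 : nd 9390 = n19559 := ndS (p := 5774) (l := 1) rfl N5774 D19559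
theorem N9391 : nd 9391 = n19560 := ndS (p := 5774) (l := 6) rfl N5774 D19560
theorem N9392 : nd 9392 = n19561 := ndS (p := 5775) (l := 3) rfl N5775 D19561
theorem N9393 : nd 9393 = n19562 := ndS (p := 5775) (l := 6) rfl N5775 D19562
theorem N9394 : nd 9394 = n19563 := ndS (p := 5776) (l := 5) rfl N5776 D19563
theorem N9395 : nd 9395 = n19564 := ndS (p := 5777) (l := 1) rfl N5777 D19564
theorem N9396 : nd 9396 = n19565 := ndS (p := 5777) (l := 5) rfl N5777 D19565
theorem N9397 : nd 9397 = n19566 := ndS (p := 5778) (l := 3) rfl N5778 D19566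
theorem N9398 : nd 9398 = n19567 := ndS (p := 5778) (l := 5) rfl N5778 D19567
theorem N9399 : nd 9399 = n19568 := ndS (p := 5779) (l := 6) rfl N5779 D19568
theorem N9400 : nd 9400 = n19569 := ndS (p := 5780) (l := 5) rfl N5780 D19569
theorem N9401 : nd 9401 = n19570 := ndS (p := 5780) (l := 6) rfl N5780 D19570
theorem N9402 : nd 9402 = n19571 := ndS (p := 5781) (l := 1) rfl N5781 D19571
theorem N9403 : nd 9403 = n19572 := ndS (p := 5782) (l := 1) rfl N5782 D19572
theorem N9404 : nd 9404 = n19573 := ndS (p := 5783) (l := 5) rfl N5783 D19573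
theorem N9405 : nd 9405 = n19574 := ndS (p := 5783) (l := 6) rfl N5783 D19574
theorem N9406 : nd 9406 = n19575 := ndS (p := 5784) (l := 1) rfl N5784 D19575
theorem N9407 : nd 9407 = n19576 := ndS (p := 5785) (l := 1) rfl N5785 D19576
theorem N9408 : nd 9408 = n19577 := ndS (p := 5788) (l := 2) rfl N5788 D19577
theorem N9409 : nd 9409 = n19578 := ndS (p := 5789) (l := 2) rfl N5789 D19578
theorem N9410 : nd 9410 = n19579 := ndS (p := 5790) (l := 3) rfl N5790 D19579
theorem N9411 : nd 9411 = n19580 := ndS (p := 5791) (l := 5) rfl N5791 D19580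
theorem N9412 : nd 9412 = n19581 := ndS (p := 5791) (l := 6) rfl N5791 D19581
theorem N9413 : nd 9413 = n19582 := ndS (p := 5794) (l := 6) rfl N5794 D19582
theorem N9414 : nd 9414 = n19583 := ndS (p := 5796) (l := 5) rfl N5796 D19583
theorem N9415 : nd 9415 = n19584 := ndS (p := 5798) (l := 5) rfl N5798 D19584
theorem N9416 : nd 9416 = n19585 := ndS (p := 5798) (l := 6) rfl N5798 D19585
theorem N9417 : nd 9417 = n19586 := ndS (p := 5799) (l := 5) rfl N5799 D19586
theorem N9418 : nd 9418 = n19587 := ndS (p := 5799) (l := 6) rfl N5799 D19587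
theorem N9419 : nd 9419 = n19588 := ndS (p := 5800) (l := 6) rfl N5800 D19588
theorem N9420 : nd 9420 = n19589 := ndS (p := 5801) (l := 5) rfl N5801 D19589
theorem N9421 : nd 9421 = n19590 := ndS (p := 5802) (l := 6) rfl N5802 D19590
theorem N9422 : nd 9422 = n19591 := ndS (p := 5803) (l := 5) rfl N5803 D19591
theorem N9423 : nd 9423 = n19592 := ndS (p := 5804) (l := 1) rfl N5804 D19592
theorem N9424 : nd 9424 = n19593 := ndS (p := 5805) (l := 1) rfl N5805 D19593
theorem N9425 : nd 9425 = n19594 := ndS (p := 5806) (l := 6) rfl N5806 D19594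
theorem N9426 : nd 9426 = n19595 := ndS (p := 5807) (l := 1) rfl N5807 D19595
theorem N9427 : nd 9427 = n19596 := ndS (p := 5808) (l := 5) rfl N5808 D19596
theorem N9428 : nd 9428 = n19597 := ndS (p := 5809) (l := 1) rfl N5809 D19597
theorem N9429 : nd 9429 = n19598 := ndS (p := 5810) (l := 1) rfl N5810 D19598
theorem N9430 : nd 9430 = n19599 := ndS (p := 5811) (l := 0) rfl N5811 D19599
theorem N9431 : nd 9431 = n19600 := ndS (p := 5811) (l := 2) rfl N5811 D19600
theorem N9432 : nd 9432 = n19601 := ndS (p := 5811) (l := 5) rfl N5811 D19601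
theorem N9433 : nd 9433 = n19602 := ndS (p := 5812) (l := 1) rfl N5812 D19602
theorem N9434 : nd 9434 = n19603 := ndS (p := 5813) (l := 0) rfl N5813 D19603
theorem N9435 : nd 9435 = n19604 := ndS (p := 5813) (l := 2) rfl N5813 D19604
theorem N9436 : nd 9436 = n19605 := ndS (p := 5813) (l := 6) rfl N5813 D19605
theorem N9437 : nd 9437 = n19606 := ndS (p := 5814) (l := 0) rfl N5814 D19606
theorem N9438 : nd 9438 = n19607 := ndS (p := 5814) (l := 2) rfl N5814 D19607
theorem N9439 : nd 9439 = n19608 := ndS (p := 5814) (l := 5) rfl N5814 D19608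
theorem N9440 : nd 9440 = n19609 := ndS (p := 5815) (l := 1) rfl N5815 D19609
theorem N9441 : nd 9441 = n19610 := ndS (p := 5815) (l := 2) rfl N5815 D19610
theorem N9442 : nd 9442 = n19611 := ndS (p := 5815) (l := 5) rfl N5815 D19611
theorem N9443 : nd 9443 = n19612 := ndS (p := 5816) (l := 3) rfl N5816 D19612
theorem N9444 : nd 9444 = n19613 := ndS (p := 5816) (l := 5) rfl N5816 D19613
theorem N9445 : nd 9445 = n19614 := ndS (p := 5817) (l := 6) rfl N5817 D19614
theorem N9446 : nd 9446 = n19615 := ndS (p := 5818) (l := 0) rfl N5818 D19615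
theorem N9447 : nd 9447 = n19616 := ndS (p := 5818) (l := 2) rfl N5818 D19616
theorem N9448 : nd 9448 = n19617 := ndS (p := 5818) (l := 6) rfl N5818 D19617
theorem N9449 : nd 9449 = n19618 := ndS (p := 5819) (l := 1) rfl N5819 D19618
theorem N9450 : nd 9450 = n19619 := ndS (p := 5819) (l := 2) rfl N5819 D19619
theorem N9451 : nd 9451 = n19620 := ndS (p := 5819) (l := 6) rfl N5819 D19620
theorem N9452 : nd 9452 = n19621 := ndS (p := 5820) (l := 3) rfl N5820 D19621
theorem N9453 : nd 9453 = n19622 := ndS (p := 5820) (l := 6) rfl N5820 D19622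
theorem N9454 : nd 9454 = n19623 := ndS (p := 5821) (l := 5) rfl N5821 D19623
theorem N9455 : nd 9455 = n19624 := ndS (p := 5822) (l := 1) rfl N5822 D19624
theorem N9456 : nd 9456 = n19625 := ndS (p := 5822) (l := 2) rfl N5822 D19625
theorem N9457 : nd 9457 = n19626 := ndS (p := 5822) (l := 6) rfl N5822 D19626
theorem N9458 : nd 9458 = n19627 := ndS (p := 5823) (l := 6) rfl N5823 D19627
theorem N9459 : nd 9459 = n19628 := ndS (p := 5824) (l := 5) rfl N5824 D19628
theorem N9460 : nd 9460 = n19629 := ndS (p := 5825) (l := 1) rfl N5825 D19629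
theorem N9461 : nd 9461 = n19630 := ndS (p := 5825) (l := 2) rfl N5825 D19630
theorem N9462 : nd 9462 = n19631 := ndS (p := 5825) (l := 5) rfl N5825 D19631
theorem N9463 : nd 9463 = n19632 := ndS (p := 5826) (l := 5) rfl N5826 D19632
theorem N9464 : nd 9464 = n19633 := ndS (p := 5827) (l := 6) rfl N5827 D19633
theorem N9465 : nd 9465 = n19634 := ndS (p := 5829) (l := 6) rfl N5829 D19634
theorem N9466 : nd 9466 = n19635 := ndS (p := 5830) (l := 1) rfl N5830 D19635
theorem N9467 : nd 9467 = n19636 := ndS (p := 5831) (l := 1) rfl N5831 D19636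
theorem N9468 : nd 9468 = n19637 := ndS (p := 5831) (l := 5) rfl N5831 D19637
theorem N9469 : nd 9469 = n19638 := ndS (p := 5832) (l := 1) rfl N5832 D19638
theorem N9470 : nd 9470 = n19639 := ndS (p := 5834) (l := 5) rfl N5834 D19639
theorem N9471 : nd 9471 = n19640 := ndS (p := 5835) (l := 1) rfl N5835 D19640
theorem N9472 : nd 9472 = n19641 := ndS (p := 5836) (l := 1) rfl N5836 D19641
theorem N9473 : nd 9473 = n19642 := ndS (p := 5836) (l := 6) rfl N5836 D19642
theorem N9474 : nd 9474 = n19643 := ndS (p := 5837) (l := 1) rfl N5837 D19643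
theorem N9475 : nd 9475 = n19644 := ndS (p := 5838) (l := 6) rfl N5838 D19644
theorem N9476 : nd 9476 = n19645 := ndS (p := 5839) (l := 1) rfl N5839 D19645
theorem N9477 : nd 9477 = n19646 := ndS (p := 5839) (l := 5) rfl N5839 D19646
theorem N9478 : nd 9478 = n19647 := ndS (p := 5840) (l := 0) rfl N5840 D19647
theorem N9479 : nd 9479 = n19648 := ndS (p := 5840) (l := 2) rfl N5840 D19648
theorem N9480 : nd 9480 = n19649 := ndS (p := 5840) (l := 5) rfl N5840 D19649
theorem N9481 : nd 9481 = n19651 := ndS (p := 5841) (l := 2) rfl N5841 D19651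
theorem N9482 : nd 9482 = n19652 := ndS (p := 5841) (l := 6) rfl N5841 D19652
theorem N9483 : nd 9483 = n19653 := ndS (p := 5842) (l := 1) rfl N5842 D19653
theorem N9484 : nd 9484 = n19654 := ndS (p := 5842) (l := 6) rfl N5842 D19654
theorem N9485 : nd 9485 = n19655 := ndS (p := 5843) (l := 5) rfl N5843 D19655
theorem N9486 : nd 9486 = n19656 := ndS (p := 5844) (l := 0) rfl N5844 D19656
theorem N9487 : nd 9487 = n19657 := ndS (p := 5844) (l := 2) rfl N5844 D19657
theorem N9488 : nd 9488 = n19658 := ndS (p := 5844) (l := 6) rfl N5844 D19658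
theorem N9489 : nd 9489 = n19660 := ndS (p := 5845) (l := 2) rfl N5845 D19660
theorem N9490 : nd 9490 = n19661 := ndS (p := 5845) (l := 5) rfl N5845 D19661
theorem N9491 : nd 9491 = n19662 := ndS (p := 5847) (l := 3) rfl N5847 D19662
theorem N9492 : nd 9492 = n19663 := ndS (p := 5850) (l := 3) rfl N5850 D19663
theorem N9493 : nd 9493 = n19664 := ndS (p := 5852) (l := 6) rfl N5852 D19664
theorem N9494 : nd 9494 = n19665 := ndS (p := 5853) (l := 1) rfl N5853 D19665
theorem N9495 : nd 9495 = n19666 := ndS (p := 5853) (l := 3) rfl N5853 D19666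
theorem N9496 : nd 9496 = n19667 := ndS (p := 5854) (l := 2) rfl N5854 D19667
theorem N9497 : nd 9497 = n19668 := ndS (p := 5854) (l := 4) rfl N5854 D19668
theorem N9498 : nd 9498 = n19669 := ndS (p := 5854) (l := 6) rfl N5854 D19669
theorem N9499 : nd 9499 = n19670 := ndS (p := 5855) (l := 1) rfl N5855 D19670
theorem N9500 : nd 9500 = n19671 := ndS (p := 5856) (l := 0) rfl N5856 D19671
theorem N9501 : nd 9501 = n19672 := ndS (p := 5856) (l := 2) rfl N5856 D19672
theorem N9502 : nd 9502 = n19673 := ndS (p := 5856) (l := 5) rfl N5856 D19673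
theorem N9503 : nd 9503 = n19674 := ndS (p := 5857) (l := 1) rfl N5857 D19674
theorem N9504 : nd 9504 = n19675 := ndS (p := 5857) (l := 2) rfl N5857 D19675
theorem N9505 : nd 9505 = n19676 := ndS (p := 5857) (l := 5) rfl N5857 D19676
theorem N9506 : nd 9506 = n19677 := ndS (p := 5858) (l := 3) rfl N5858 D19677
theorem N9507 : nd 9507 = n19678 := ndS (p := 5858) (l := 5) rfl N5858 D19678
theorem N9508 : nd 9508 = n19679 := ndS (p := 5859) (l := 6) rfl N5859 D19679
theorem N9509 : nd 9509 = n19680 := ndS (p := 5860) (l := 5) rfl N5860 D19680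
theorem N9510 : nd 9510 = n19681 := ndS (p := 5861) (l := 1) rfl N5861 D19681
theorem N9511 : nd 9511 = n19682 := ndS (p := 5861) (l := 3) rfl N5861 D19682
theorem N9512 : nd 9512 = n19683 := ndS (p := 5862) (l := 2) rfl N5862 D19683
theorem N9513 : nd 9513 = n19684 := ndS (p := 5862) (l := 4) rfl N5862 D19684
theorem N9514 : nd 9514 = n19685 := ndS (p := 5862) (l := 5) rfl N5862 D19685
theorem N9515 : nd 9515 = n19686 := ndS (p := 5863) (l := 1) rfl N5863 D19686
theorem N9516 : nd 9516 = n19687 := ndS (p := 5864) (l := 0) rfl N5864 D19687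
theorem N9517 : nd 9517 = n19688 := ndS (p := 5864) (l := 2) rfl N5864 D19688
theorem N9518 : nd 9518 = n19689 := ndS (p := 5864) (l := 6) rfl N5864 D19689
theorem N9519 : nd 9519 = n19690 := ndS (p := 5865) (l := 1) rfl N5865 D19690
theorem N9520 : nd 9520 = n19691 := ndS (p := 5865) (l := 2) rfl N5865 D19691
theorem N9521 : nd 9521 = n19692 := ndS (p := 5865) (l := 6) rfl N5865 D19692
theorem N9522 : nd 9522 = n19693 := ndS (p := 5866) (l := 3) rfl N5866 D19693
theorem N9523 : nd 9523 = n19694 := ndS (p := 5866) (l := 6) rfl N5866 D19694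
theorem N9524 : nd 9524 = n19695 := ndS (p := 5867) (l := 5) rfl N5867 D19695
theorem N9525 : nd 9525 = n19696 := ndS (p := 5868) (l := 1) rfl N5868 D19696
theorem N9526 : nd 9526 = n19697 := ndS (p := 5870) (l := 1) rfl N5870 D19697
theorem N9527 : nd 9527 = n19698 := ndS (p := 5872) (l := 0) rfl N5872 D19698
theorem N9528 : nd 9528 = n19699 := ndS (p := 5872) (l := 6) rfl N5872 D19699
theorem N9529 : nd 9529 = n19700 := ndS (p := 5873) (l := 1) rfl N5873 D19700
theorem N9530 : nd 9530 = n19701 := ndS (p := 5874) (l := 2) rfl N5874 D19701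
theorem N9531 : nd 9531 = n19702 := ndS (p := 5874) (l := 4) rfl N5874 D19702
theorem N9532 : nd 9532 = n19703 := ndS (p := 5874) (l := 6) rfl N5874 D19703
theorem N9533 : nd 9533 = n19704 := ndS (p := 5876) (l := 0) rfl N5876 D19704
theorem N9534 : nd 9534 = n19705 := ndS (p := 5876) (l := 2) rfl N5876 D19705
theorem N9535 : nd 9535 = n19706 := ndS (p := 5876) (l := 5) rfl N5876 D19706
theorem N9536 : nd 9536 = n19707 := ndS (p := 5877) (l := 1) rfl N5877 D19707
theorem N9537 : nd 9537 = n19708 := ndS (p := 5878) (l := 1) rfl N5878 D19708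
theorem N9538 : nd 9538 = n19709 := ndS (p := 5878) (l := 5) rfl N5878 D19709
theorem N9539 : nd 9539 = n19710 := ndS (p := 5879) (l := 3) rfl N5879 D19710
theorem N9540 : nd 9540 = n19711 := ndS (p := 5881) (l := 0) rfl N5881 D19711
theorem N9541 : nd 9541 = n19712 := ndS (p := 5881) (l := 5) rfl N5881 D19712
theorem N9542 : nd 9542 = n19713 := ndS (p := 5882) (l := 1) rfl N5882 D19713
theorem N9543 : nd 9543 = n19714 := ndS (p := 5883) (l := 2) rfl N5883 D19714
theorem N9544 : nd 9544 = n19715 := ndS (p := 5883) (l := 4) rfl N5883 D19715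
theorem N9545 : nd 9545 = n19716 := ndS (p := 5883) (l := 5) rfl N5883 D19716
theorem N9546 : nd 9546 = n19717 := ndS (p := 5885) (l := 0) rfl N5885 D19717
theorem N9547 : nd 9547 = n19718 := ndS (p := 5885) (l := 2) rfl N5885 D19718
theorem N9548 : nd 9548 = n19719 := ndS (p := 5885) (l := 6) rfl N5885 D19719
theorem N9549 : nd 9549 = n19720 := ndS (p := 5886) (l := 1) rfl N5886 D19720
theorem N9550 : nd 9550 = n19721 := ndS (p := 5887) (l := 1) rfl N5887 D19721
theorem N9551 : nd 9551 = n19722 := ndS (p := 5887) (l := 6) rfl N5887 D19722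
theorem N9552 : nd 9552 = n19723 := ndS (p := 5888) (l := 3) rfl N5888 D19723
theorem N9553 : nd 9553 = n19724 := ndS (p := 5890) (l := 5) rfl N5890 D19724
theorem N9554 : nd 9554 = n19725 := ndS (p := 5891) (l := 6) rfl N5891 D19725
theorem N9555 : nd 9555 = n19726 := ndS (p := 5892) (l := 6) rfl N5892 D19726
theorem N9556 : nd 9556 = n19727 := ndS (p := 5893) (l := 1) rfl N5893 D19727
theorem N9557 : nd 9557 = n19728 := ndS (p := 5893) (l := 5) rfl N5893 D19728
theorem N9558 : nd 9558 = n19729 := ndS (p := 5894) (l := 3) rfl N5894 D19729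
theorem N9559 : nd 9559 = n19730 := ndS (p := 5895) (l := 2) rfl N5895 D19730
theorem N9560 : nd 9560 = n19731 := ndS (p := 5895) (l := 4) rfl N5895 D19731
theorem N9561 : nd 9561 = n19732 := ndS (p := 5895) (l := 6) rfl N5895 D19732
theorem N9562 : nd 9562 = n19733 := ndS (p := 5896) (l := 1) rfl N5896 D19733
theorem N9563 : nd 9563 = n19734 := ndS (p := 5897) (l := 0) rfl N5897 D19734
theorem N9564 : nd 9564 = n19735 := ndS (p := 5897) (l := 2) rfl N5897 D19735
theorem N9565 : nd 9565 = n19736 := ndS (p := 5897) (l := 5) rfl N5897 D19736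
theorem N9566 : nd 9566 = n19737 := ndS (p := 5898) (l := 4) rfl N5898 D19737
theorem N9567 : nd 9567 = n19738 := ndS (p := 5898) (l := 6) rfl N5898 D19738
theorem N9568 : nd 9568 = n19739 := ndS (p := 5899) (l := 6) rfl N5899 D19739
theorem N9569 : nd 9569 = n19740 := ndS (p := 5900) (l := 5) rfl N5900 D19740
theorem N9570 : nd 9570 = n19741 := ndS (p := 5901) (l := 1) rfl N5901 D19741
theorem N9571 : nd 9571 = n19742 := ndS (p := 5902) (l := 1) rfl N5902 D19742
theorem N9572 : nd 9572 = n19743 := ndS (p := 5902) (l := 2) rfl N5902 D19743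
theorem N9573 : nd 9573 = n19744 := ndS (p := 5903) (l := 3) rfl N5903 D19744
theorem N9574 : nd 9574 = n19745 := ndS (p := 5903) (l := 5) rfl N5903 D19745
theorem N9575 : nd 9575 = n19746 := ndS (p := 5904) (l := 1) rfl N5904 D19746
theorem N9576 : nd 9576 = n19747 := ndS (p := 5905) (l := 0) rfl N5905 D19747
theorem N9577 : nd 9577 = n19748 := ndS (p := 5905) (l := 2) rfl N5905 D19748
theorem N9578 : nd 9578 = n19749 := ndS (p := 5905) (l := 6) rfl N5905 D19749
theorem N9579 : nd 9579 = n19750 := ndS (p := 5906) (l := 0) rfl N5906 D19750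
theorem N9580 : nd 9580 = n19751 := ndS (p := 5906) (l := 2) rfl N5906 D19751
theorem N9581 : nd 9581 = n19752 := ndS (p := 5906) (l := 5) rfl N5906 D19752
theorem N9582 : nd 9582 = n19753 := ndS (p := 5906) (l := 6) rfl N5906 D19753
theorem N9583 : nd 9583 = n19754 := ndS (p := 5907) (l := 1) rfl N5907 D19754
theorem N9584 : nd 9584 = n19755 := ndS (p := 5907) (l := 3) rfl N5907 D19755
theorem N9585 : nd 9585 = n19756 := ndS (p := 5907) (l := 5) rfl N5907 D19756
theorem N9586 : nd 9586 = n19757 := ndS (p := 5909) (l := 2) rfl N5909 D19757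
theorem N9587 : nd 9587 = n19758 := ndS (p := 5909) (l := 4) rfl N5909 D19758
theorem N9588 : nd 9588 = n19759 := ndS (p := 5909) (l := 5) rfl N5909 D19759
theorem N9589 : nd 9589 = n19760 := ndS (p := 5910) (l := 6) rfl N5910 D19760
theorem N9590 : nd 9590 = n19761 := ndS (p := 5911) (l := 1) rfl N5911 D19761
theorem N9591 : nd 9591 = n19762 := ndS (p := 5912) (l := 6) rfl N5912 D19762
theorem N9592 : nd 9592 = n19763 := ndS (p := 5913) (l := 5) rfl N5913 D19763
theorem N9593 : nd 9593 = n19764 := ndS (p := 5914) (l := 1) rfl N5914 D19764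
theorem N9594 : nd 9594 = n19765 := ndS (p := 5914) (l := 6) rfl N5914 D19765
theorem N9595 : nd 9595 = n19766 := ndS (p := 5915) (l := 5) rfl N5915 D19766
theorem N9596 : nd 9596 = n19767 := ndS (p := 5916) (l := 3) rfl N5916 D19767
theorem N9597 : nd 9597 = n19768 := ndS (p := 5917) (l := 2) rfl N5917 D19768
theorem N9598 : nd 9598 = n19769 := ndS (p := 5917) (l := 4) rfl N5917 D19769
theorem N9599 : nd 9599 = n19770 := ndS (p := 5917) (l := 5) rfl N5917 D19770
theorem N9600 : nd 9600 = n19771 := ndS (p := 5918) (l := 1) rfl N5918 D19771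
theorem N9601 : nd 9601 = n19772 := ndS (p := 5919) (l := 0) rfl N5919 D19772
theorem N9602 : nd 9602 = n19773 := ndS (p := 5919) (l := 2) rfl N5919 D19773
theorem N9603 : nd 9603 = n19774 := ndS (p := 5919) (l := 6) rfl N5919 D19774
theorem N9604 : nd 9604 = n19775 := ndS (p := 5920) (l := 4) rfl N5920 D19775
theorem N9605 : nd 9605 = n19776 := ndS (p := 5920) (l := 5) rfl N5920 D19776
theorem N9606 : nd 9606 = n19777 := ndS (p := 5921) (l := 5) rfl N5921 D19777
theorem N9607 : nd 9607 = n19778 := ndS (p := 5922) (l := 6) rfl N5922 D19778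
theorem N9608 : nd 9608 = n19779 := ndS (p := 5923) (l := 1) rfl N5923 D19779
theorem N9609 : nd 9609 = n19780 := ndS (p := 5924) (l := 1) rfl N5924 D19780
theorem N9610 : nd 9610 = n19781 := ndS (p := 5924) (l := 2) rfl N5924 D19781
theorem N9611 : nd 9611 = n19782 := ndS (p := 5925) (l := 3) rfl N5925 D19782
theorem N9612 : nd 9612 = n19783 := ndS (p := 5925) (l := 6) rfl N5925 D19783
theorem N9613 : nd 9613 = n19784 := ndS (p := 5926) (l := 1) rfl N5926 D19784
theorem N9614 : nd 9614 = n19785 := ndS (p := 5927) (l := 0) rfl N5927 D19785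
theorem N9615 : nd 9615 = n19786 := ndS (p := 5927) (l := 2) rfl N5927 D19786
theorem N9616 : nd 9616 = n19787 := ndS (p := 5927) (l := 5) rfl N5927 D19787
theorem N9617 : nd 9617 = n19788 := ndS (p := 5928) (l := 0) rfl N5928 D19788
theorem N9618 : nd 9618 = n19789 := ndS (p := 5928) (l := 2) rfl N5928 D19789
theorem N9619 : nd 9619 = n19790 := ndS (p := 5928) (l := 5) rfl N5928 D19790
theorem N9620 : nd 9620 = n19791 := ndS (p := 5928) (l := 6) rfl N5928 D19791
theorem N9621 : nd 9621 = n19792 := ndS (p := 5929) (l := 1) rfl N5929 D19792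
theorem N9622 : nd 9622 = n19793 := ndS (p := 5929) (l := 3) rfl N5929 D19793
theorem N9623 : nd 9623 = n19794 := ndS (p := 5929) (l := 6) rfl N5929 D19794
theorem N9624 : nd 9624 = n19795 := ndS (p := 5931) (l := 2) rfl N5931 D19795
theorem N9625 : nd 9625 = n19796 := ndS (p := 5931) (l := 4) rfl N5931 D19796
theorem N9626 : nd 9626 = n19797 := ndS (p := 5931) (l := 6) rfl N5931 D19797
theorem N9627 : nd 9627 = n19798 := ndS (p := 5932) (l := 5) rfl N5932 D19798
theorem N9628 : nd 9628 = n19799 := ndS (p := 5933) (l := 1) rfl N5933 D19799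
theorem N9629 : nd 9629 = n19800 := ndS (p := 5934) (l := 0) rfl N5934 D19800
theorem N9630 : nd 9630 = n19801 := ndS (p := 5934) (l := 3) rfl N5934 D19801
theorem N9631 : nd 9631 = n19802 := ndS (p := 5934) (l := 5) rfl N5934 D19802
theorem N9632 : nd 9632 = n19803 := ndS (p := 5934) (l := 6) rfl N5934 D19803
theorem N9633 : nd 9633 = n19804 := ndS (p := 5935) (l := 4) rfl N5935 D19804
theorem N9634 : nd 9634 = n19805 := ndS (p := 5936) (l := 1) rfl N5936 D19805
theorem N9635 : nd 9635 = n19806 := ndS (p := 5936) (l := 4) rfl N5936 D19806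
theorem N9636 : nd 9636 = n19807 := ndS (p := 5938) (l := 0) rfl N5938 D19807
theorem N9637 : nd 9637 = n19808 := ndS (p := 5938) (l := 3) rfl N5938 D19808
theorem N9638 : nd 9638 = n19809 := ndS (p := 5938) (l := 5) rfl N5938 D19809
theorem N9639 : nd 9639 = n19810 := ndS (p := 5938) (l := 6) rfl N5938 D19810
theorem N9640 : nd 9640 = n19811 := ndS (p := 5939) (l := 4) rfl N5939 D19811
theorem N9641 : nd 9641 = n19812 := ndS (p := 5940) (l := 1) rfl N5940 D19812
theorem N9642 : nd 9642 = n19813 := ndS (p := 5940) (l := 4) rfl N5940 D19813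
theorem N9643 : nd 9643 = n19814 := ndS (p := 5942) (l := 1) rfl N5942 D19814
theorem N9644 : nd 9644 = n19815 := ndS (p := 5943) (l := 0) rfl N5943 D19815
theorem N9645 : nd 9645 = n19816 := ndS (p := 5943) (l := 3) rfl N5943 D19816
theorem N9646 : nd 9646 = n19817 := ndS (p := 5943) (l := 5) rfl N5943 D19817
theorem N9647 : nd 9647 = n19818 := ndS (p := 5943) (l := 6) rfl N5943 D19818
theorem N9648 : nd 9648 = n19819 := ndS (p := 5944) (l := 4) rfl N5944 D19819
theorem N9649 : nd 9649 = n19820 := ndS (p := 5945) (l := 1) rfl N5945 D19820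
theorem N9650 : nd 9650 = n19821 := ndS (p := 5946) (l := 0) rfl N5946 D19821
theorem N9651 : nd 9651 = n19822 := ndS (p := 5946) (l := 3) rfl N5946 D19822
theorem N9652 : nd 9652 = n19823 := ndS (p := 5946) (l := 5) rfl N5946 D19823
theorem N9653 : nd 9653 = n19825 := ndS (p := 5947) (l := 4) rfl N5947 D19825
theorem N9654 : nd 9654 = n19826 := ndS (p := 5950) (l := 1) rfl N5950 D19826
theorem N9655 : nd 9655 = n19827 := ndS (p := 5951) (l := 1) rfl N5951 D19827
theorem N9656 : nd 9656 = n19828 := ndS (p := 5953) (l := 0) rfl N5953 D19828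
theorem N9657 : nd 9657 = n19829 := ndS (p := 5953) (l := 2) rfl N5953 D19829
theorem N9658 : nd 9658 = n19830 := ndS (p := 5953) (l := 5) rfl N5953 D19830
theorem N9659 : nd 9659 = n19833 := ndS (p := 5954) (l := 5) rfl N5954 D19833
theorem N9660 : nd 9660 = n19834 := ndS (p := 5955) (l := 3) rfl N5955 D19834
theorem N9661 : nd 9661 = n19835 := ndS (p := 5955) (l := 5) rfl N5955 D19835
theorem N9662 : nd 9662 = n19836 := ndS (p := 5956) (l := 6) rfl N5956 D19836
theorem N9663 : nd 9663 = n19837 := ndS (p := 5958) (l := 0) rfl N5958 D19837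
theorem N9664 : nd 9664 = n19838 := ndS (p := 5958) (l := 2) rfl N5958 D19838
theorem N9665 : nd 9665 = n19839 := ndS (p := 5958) (l := 6) rfl N5958 D19839
theorem N9666 : nd 9666 = n19840 := ndS (p := 5959) (l := 6) rfl N5959 D19840
theorem N9667 : nd 9667 = n19841 := ndS (p := 5960) (l := 3) rfl N5960 D19841
theorem N9668 : nd 9668 = n19842 := ndS (p := 5960) (l := 6) rfl N5960 D19842
theorem N9669 : nd 9669 = n19843 := ndS (p := 5961) (l := 5) rfl N5961 D19843
theorem N9670 : nd 9670 = n19844 := ndS (p := 5963) (l := 6) rfl N5963 D19844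
theorem N9671 : nd 9671 = n19845 := ndS (p := 5964) (l := 4) rfl N5964 D19845
theorem N9672 : nd 9672 = n19846 := ndS (p := 5965) (l := 6) rfl N5965 D19846
theorem N9673 : nd 9673 = n19847 := ndS (p := 5966) (l := 1) rfl N5966 D19847
theorem N9674 : nd 9674 = n19848 := ndS (p := 5967) (l := 0) rfl N5967 D19848
theorem N9675 : nd 9675 = n19849 := ndS (p := 5967) (l := 2) rfl N5967 D19849
theorem N9676 : nd 9676 = n19850 := ndS (p := 5967) (l := 5) rfl N5967 D19850
theorem N9677 : nd 9677 = n19851 := ndS (p := 5968) (l := 1) rfl N5968 D19851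
theorem N9678 : nd 9678 = n19852 := ndS (p := 5968) (l := 2) rfl N5968 D19852
theorem N9679 : nd 9679 = n19853 := ndS (p := 5969) (l := 3) rfl N5969 D19853
theorem N9680 : nd 9680 = n19854 := ndS (p := 5969) (l := 5) rfl N5969 D19854
theorem N9681 : nd 9681 = n19855 := ndS (p := 5971) (l := 0) rfl N5971 D19855
theorem N9682 : nd 9682 = n19856 := ndS (p := 5971) (l := 2) rfl N5971 D19856
theorem N9683 : nd 9683 = n19857 := ndS (p := 5971) (l := 6) rfl N5971 D19857
theorem N9684 : nd 9684 = n19858 := ndS (p := 5972) (l := 1) rfl N5972 D19858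
theorem N9685 : nd 9685 = n19859 := ndS (p := 5972) (l := 3) rfl N5972 D19859
theorem N9686 : nd 9686 = n19860 := ndS (p := 5972) (l := 5) rfl N5972 D19860
theorem N9687 : nd 9687 = n19861 := ndS (p := 5974) (l := 2) rfl N5974 D19861
theorem N9688 : nd 9688 = n19862 := ndS (p := 5974) (l := 4) rfl N5974 D19862
theorem N9689 : nd 9689 = n19863 := ndS (p := 5974) (l := 5) rfl N5974 D19863
theorem N9690 : nd 9690 = n19864 := ndS (p := 5975) (l := 6) rfl N5975 D19864
theorem N9691 : nd 9691 = n19865 := ndS (p := 5976) (l := 1) rfl N5976 D19865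
theorem N9692 : nd 9692 = n19866 := ndS (p := 5978) (l := 5) rfl N5978 D19866
theorem N9693 : nd 9693 = n19867 := ndS (p := 5979) (l := 4) rfl N5979 D19867
theorem N9694 : nd 9694 = n19868 := ndS (p := 5980) (l := 5) rfl N5980 D19868
theorem N9695 : nd 9695 = n19869 := ndS (p := 5981) (l := 1) rfl N5981 D19869
theorem N9696 : nd 9696 = n19870 := ndS (p := 5982) (l := 0) rfl N5982 D19870
theorem N9697 : nd 9697 = n19871 := ndS (p := 5982) (l := 2) rfl N5982 D19871
theorem N9698 : nd 9698 = n19872 := ndS (p := 5982) (l := 6) rfl N5982 D19872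
theorem N9699 : nd 9699 = n19873 := ndS (p := 5983) (l := 1) rfl N5983 D19873
theorem N9700 : nd 9700 = n19874 := ndS (p := 5983) (l := 2) rfl N5983 D19874
theorem N9701 : nd 9701 = n19875 := ndS (p := 5984) (l := 3) rfl N5984 D19875
theorem N9702 : nd 9702 = n19876 := ndS (p := 5984) (l := 6) rfl N5984 D19876
theorem N9703 : nd 9703 = n19877 := ndS (p := 5986) (l := 0) rfl N5986 D19877
theorem N9704 : nd 9704 = n19878 := ndS (p := 5986) (l := 2) rfl N5986 D19878
theorem N9705 : nd 9705 = n19879 := ndS (p := 5986) (l := 5) rfl N5986 D19879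
theorem N9706 : nd 9706 = n19880 := ndS (p := 5987) (l := 1) rfl N5987 D19880
theorem N9707 : nd 9707 = n19881 := ndS (p := 5987) (l := 3) rfl N5987 D19881
theorem N9708 : nd 9708 = n19882 := ndS (p := 5987) (l := 6) rfl N5987 D19882
theorem N9709 : nd 9709 = n19883 := ndS (p := 5989) (l := 2) rfl N5989 D19883
theorem N9710 : nd 9710 = n19884 := ndS (p := 5989) (l := 4) rfl N5989 D19884
theorem N9711 : nd 9711 = n19885 := ndS (p := 5989) (l := 6) rfl N5989 D19885
theorem N9712 : nd 9712 = n19886 := ndS (p := 5990) (l := 5) rfl N5990 D19886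
theorem N9713 : nd 9713 = n19887 := ndS (p := 5991) (l := 1) rfl N5991 D19887
theorem N9714 : nd 9714 = n19888 := ndS (p := 5998) (l := 1) rfl N5998 D19888
theorem N9715 : nd 9715 = n19889 := ndS (p := 6000) (l := 0) rfl N6000 D19889
theorem N9716 : nd 9716 = n19890 := ndS (p := 6000) (l := 2) rfl N6000 D19890
theorem N9717 : nd 9717 = n19891 := ndS (p := 6000) (l := 5) rfl N6000 D19891
theorem N9718 : nd 9718 = n19892 := ndS (p := 6001) (l := 1) rfl N6001 D19892
theorem N9719 : nd 9719 = n19893 := ndS (p := 6001) (l := 2) rfl N6001 D19893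
theorem N9720 : nd 9720 = n19894 := ndS (p := 6001) (l := 5) rfl N6001 D19894
theorem N9721 : nd 9721 = n19896 := ndS (p := 6002) (l := 5) rfl N6002 D19896
theorem N9722 : nd 9722 = n19897 := ndS (p := 6004) (l := 1) rfl N6004 D19897
theorem N9723 : nd 9723 = n19898 := ndS (p := 6006) (l := 0) rfl N6006 D19898
theorem N9724 : nd 9724 = n19899 := ndS (p := 6006) (l := 2) rfl N6006 D19899
theorem N9725 : nd 9725 = n19900 := ndS (p := 6006) (l := 6) rfl N6006 D19900
theorem N9726 : nd 9726 = n19901 := ndS (p := 6007) (l := 1) rfl N6007 D19901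
theorem N9727 : nd 9727 = n19902 := ndS (p := 6007) (l := 2) rfl N6007 D19902
theorem N9728 : nd 9728 = n19903 := ndS (p := 6007) (l := 6) rfl N6007 D19903
theorem N9729 : nd 9729 = n19905 := ndS (p := 6008) (l := 6) rfl N6008 D19905
theorem N9730 : nd 9730 = n19906 := ndS (p := 6011) (l := 0) rfl N6011 D19906
theorem N9731 : nd 9731 = n19907 := ndS (p := 6011) (l := 5) rfl N6011 D19907
theorem N9732 : nd 9732 = n19908 := ndS (p := 6012) (l := 6) rfl N6012 D19908
theorem N9733 : nd 9733 = n19909 := ndS (p := 6013) (l := 1) rfl N6013 D19909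
theorem N9734 : nd 9734 = n19910 := ndS (p := 6014) (l := 2) rfl N6014 D19910
theorem N9735 : nd 9735 = n19911 := ndS (p := 6014) (l := 5) rfl N6014 D19911
theorem N9736 : nd 9736 = n19912 := ndS (p := 6016) (l := 1) rfl N6016 D19912
theorem N9737 : nd 9737 = n19913 := ndS (p := 6016) (l := 2) rfl N6016 D19913
theorem N9738 : nd 9738 = n19914 := ndS (p := 6017) (l := 3) rfl N6017 D19914
theorem N9739 : nd 9739 = n19915 := ndS (p := 6017) (l := 5) rfl N6017 D19915
theorem N9740 : nd 9740 = n19916 := ndS (p := 6018) (l := 1) rfl N6018 D19916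
theorem N9741 : nd 9741 = n19917 := ndS (p := 6019) (l := 0) rfl N6019 D19917
theorem N9742 : nd 9742 = n19918 := ndS (p := 6020) (l := 2) rfl N6020 D19918
theorem N9743 : nd 9743 = n19919 := ndS (p := 6021) (l := 1) rfl N6021 D19919
theorem N9744 : nd 9744 = n19920 := ndS (p := 6021) (l := 3) rfl N6021 D19920
theorem N9745 : nd 9745 = n19921 := ndS (p := 6021) (l := 5) rfl N6021 D19921
theorem N9746 : nd 9746 = n19922 := ndS (p := 6023) (l := 2) rfl N6023 D19922
theorem N9747 : nd 9747 = n19923 := ndS (p := 6023) (l := 4) rfl N6023 D19923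
theorem N9748 : nd 9748 = n19924 := ndS (p := 6023) (l := 5) rfl N6023 D19924
theorem N9749 : nd 9749 = n19925 := ndS (p := 6024) (l := 1) rfl N6024 D19925
theorem N9750 : nd 9750 = n19926 := ndS (p := 6027) (l := 0) rfl N6027 D19926
theorem N9751 : nd 9751 = n19927 := ndS (p := 6027) (l := 6) rfl N6027 D19927
theorem N9752 : nd 9752 = n19928 := ndS (p := 6028) (l := 5) rfl N6028 D19928
theorem N9753 : nd 9753 = n19929 := ndS (p := 6029) (l := 1) rfl N6029 D19929
theorem N9754 : nd 9754 = n19930 := ndS (p := 6030) (l := 2) rfl N6030 D19930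
theorem N9755 : nd 9755 = n19931 := ndS (p := 6030) (l := 6) rfl N6030 D19931
theorem N9756 : nd 9756 = n19932 := ndS (p := 6032) (l := 1) rfl N6032 D19932
theorem N9757 : nd 9757 = n19933 := ndS (p := 6032) (l := 2) rfl N6032 D19933
theorem N9758 : nd 9758 = n19934 := ndS (p := 6033) (l := 3) rfl N6033 D19934
theorem N9759 : nd 9759 = n19935 := ndS (p := 6033) (l := 6) rfl N6033 D19935
theorem N9760 : nd 9760 = n19936 := ndS (p := 6034) (l := 1) rfl N6034 D19936
theorem N9761 : nd 9761 = n19937 := ndS (p := 6035) (l := 0) rfl N6035 D19937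
theorem N9762 : nd 9762 = n19938 := ndS (p := 6036) (l := 2) rfl N6036 D19938
theorem N9763 : nd 9763 = n19939 := ndS (p := 6037) (l := 1) rfl N6037 D19939
theorem N9764 : nd 9764 = n19940 := ndS (p := 6037) (l := 3) rfl N6037 D19940
theorem N9765 : nd 9765 = n19941 := ndS (p := 6037) (l := 6) rfl N6037 D19941
theorem N9766 : nd 9766 = n19942 := ndS (p := 6039) (l := 2) rfl N6039 D19942
theorem N9767 : nd 9767 = n19943 := ndS (p := 6039) (l := 4) rfl N6039 D19943
theorem N9768 : nd 9768 = n19944 := ndS (p := 6039) (l := 6) rfl N6039 D19944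
theorem N9769 : nd 9769 = n19945 := ndS (p := 6040) (l := 1) rfl N6040 D19945
theorem N9770 : nd 9770 = n19946 := ndS (p := 6043) (l := 1) rfl N6043 D19946
theorem N9771 : nd 9771 = n19947 := ndS (p := 6045) (l := 5) rfl N6045 D19947
theorem N9772 : nd 9772 = n19948 := ndS (p := 6046) (l := 1) rfl N6046 D19948
theorem N9773 : nd 9773 = n19949 := ndS (p := 6047) (l := 4) rfl N6047 D19949
theorem N9774 : nd 9774 = n19950 := ndS (p := 6048) (l := 6) rfl N6048 D19950
theorem N9775 : nd 9775 = n19951 := ndS (p := 6050) (l := 0) rfl N6050 D19951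
theorem N9776 : nd 9776 = n19952 := ndS (p := 6050) (l := 2) rfl N6050 D19952
theorem N9777 : nd 9777 = n19953 := ndS (p := 6050) (l := 5) rfl N6050 D19953
theorem N9778 : nd 9778 = n19954 := ndS (p := 6051) (l := 5) rfl N6051 D19954
theorem N9779 : nd 9779 = n19955 := ndS (p := 6052) (l := 3) rfl N6052 D19955
theorem N9780 : nd 9780 = n19956 := ndS (p := 6052) (l := 5) rfl N6052 D19956
theorem N9781 : nd 9781 = n19957 := ndS (p := 6054) (l := 3) rfl N6054 D19957
theorem N9782 : nd 9782 = n19958 := ndS (p := 6054) (l := 6) rfl N6054 D19958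
theorem N9783 : nd 9783 = n19959 := ndS (p := 6055) (l := 1) rfl N6055 D19959
theorem N9784 : nd 9784 = n19960 := ndS (p := 6056) (l := 5) rfl N6056 D19960
theorem N9785 : nd 9785 = n19961 := ndS (p := 6057) (l := 1) rfl N6057 D19961
theorem N9786 : nd 9786 = n19962 := ndS (p := 6058) (l := 0) rfl N6058 D19962
theorem N9787 : nd 9787 = n19963 := ndS (p := 6058) (l := 2) rfl N6058 D19963
theorem N9788 : nd 9788 = n19964 := ndS (p := 6058) (l := 6) rfl N6058 D19964
theorem N9789 : nd 9789 = n19965 := ndS (p := 6059) (l := 0) rfl N6059 D19965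
theorem N9790 : nd 9790 = n19966 := ndS (p := 6059) (l := 2) rfl N6059 D19966
theorem N9791 : nd 9791 = n19967 := ndS (p := 6059) (l := 5) rfl N6059 D19967
theorem N9792 : nd 9792 = n19968 := ndS (p := 6059) (l := 6) rfl N6059 D19968
theorem N9793 : nd 9793 = n19969 := ndS (p := 6060) (l := 1) rfl N6060 D19969
theorem N9794 : nd 9794 = n19970 := ndS (p := 6060) (l := 3) rfl N6060 D19970
theorem N9795 : nd 9795 = n19971 := ndS (p := 6061) (l := 2) rfl N6061 D19971
theorem N9796 : nd 9796 = n19972 := ndS (p := 6061) (l := 4) rfl N6061 D19972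
theorem N9797 : nd 9797 = n19973 := ndS (p := 6061) (l := 5) rfl N6061 D19973
theorem N9798 : nd 9798 = n19974 := ndS (p := 6062) (l := 1) rfl N6062 D19974
theorem N9799 : nd 9799 = n19975 := ndS (p := 6063) (l := 0) rfl N6063 D19975
theorem N9800 : nd 9800 = n19976 := ndS (p := 6064) (l := 2) rfl N6064 D19976
theorem N9801 : nd 9801 = n19977 := ndS (p := 6064) (l := 6) rfl N6064 D19977
theorem N9802 : nd 9802 = n19978 := ndS (p := 6065) (l := 6) rfl N6065 D19978
theorem N9803 : nd 9803 = n19979 := ndS (p := 6066) (l := 5) rfl N6066 D19979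
theorem N9804 : nd 9804 = n19980 := ndS (p := 6068) (l := 1) rfl N6068 D19980
theorem N9805 : nd 9805 = n19981 := ndS (p := 6068) (l := 3) rfl N6068 D19981
theorem N9806 : nd 9806 = n19982 := ndS (p := 6068) (l := 5) rfl N6068 D19982
theorem N9807 : nd 9807 = n19983 := ndS (p := 6068) (l := 6) rfl N6068 D19983
theorem N9808 : nd 9808 = n19984 := ndS (p := 6071) (l := 0) rfl N6071 D19984
theorem N9809 : nd 9809 = n19985 := ndS (p := 6071) (l := 3) rfl N6071 D19985
theorem N9810 : nd 9810 = n19986 := ndS (p := 6071) (l := 5) rfl N6071 D19986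
theorem N9811 : nd 9811 = n19987 := ndS (p := 6071) (l := 6) rfl N6071 D19987
theorem N9812 : nd 9812 = n19988 := ndS (p := 6072) (l := 2) rfl N6072 D19988
theorem N9813 : nd 9813 = n19989 := ndS (p := 6072) (l := 4) rfl N6072 D19989
theorem N9814 : nd 9814 = n19990 := ndS (p := 6072) (l := 5) rfl N6072 D19990
theorem N9815 : nd 9815 = n19991 := ndS (p := 6073) (l := 1) rfl N6073 D19991
theorem N9816 : nd 9816 = n19992 := ndS (p := 6075) (l := 1) rfl N6075 D19992
theorem N9817 : nd 9817 = n19993 := ndS (p := 6075) (l := 3) rfl N6075 D19993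
theorem N9818 : nd 9818 = n19994 := ndS (p := 6075) (l := 4) rfl N6075 D19994
theorem N9819 : nd 9819 = n19996 := ndS (p := 6076) (l := 5) rfl N6076 D19996
theorem N9820 : nd 9820 = n19997 := ndS (p := 6077) (l := 6) rfl N6077 D19997
theorem N9821 : nd 9821 = n19998 := ndS (p := 6078) (l := 1) rfl N6078 D19998
theorem N9822 : nd 9822 = n19999 := ndS (p := 6079) (l := 0) rfl N6079 D19999
theorem N9823 : nd 9823 = n20000 := ndS (p := 6079) (l := 2) rfl N6079 D20000
theorem N9824 : nd 9824 = n20001 := ndS (p := 6079) (l := 5) rfl N6079 D20001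
theorem N9825 : nd 9825 = n20002 := ndS (p := 6081) (l := 1) rfl N6081 D20002
theorem N9826 : nd 9826 = n20003 := ndS (p := 6082) (l := 6) rfl N6082 D20003
theorem N9827 : nd 9827 = n20004 := ndS (p := 6085) (l := 4) rfl N6085 D20004
theorem N9828 : nd 9828 = n20005 := ndS (p := 6086) (l := 5) rfl N6086 D20005
theorem N9829 : nd 9829 = n20006 := ndS (p := 6088) (l := 0) rfl N6088 D20006
theorem N9830 : nd 9830 = n20007 := ndS (p := 6088) (l := 2) rfl N6088 D20007
theorem N9831 : nd 9831 = n20008 := ndS (p := 6088) (l := 6) rfl N6088 D20008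
theorem N9832 : nd 9832 = n20009 := ndS (p := 6090) (l := 3) rfl N6090 D20009
theorem N9833 : nd 9833 = n20010 := ndS (p := 6090) (l := 6) rfl N6090 D20010
theorem N9834 : nd 9834 = n20011 := ndS (p := 6092) (l := 3) rfl N6092 D20011
theorem N9835 : nd 9835 = n20012 := ndS (p := 6092) (l := 5) rfl N6092 D20012
theorem N9836 : nd 9836 = n20013 := ndS (p := 6093) (l := 1) rfl N6093 D20013
theorem N9837 : nd 9837 = n20014 := ndS (p := 6094) (l := 6) rfl N6094 D20014
theorem N9838 : nd 9838 = n20015 := ndS (p := 6095) (l := 1) rfl N6095 D20015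
theorem N9839 : nd 9839 = n20016 := ndS (p := 6096) (l := 0) rfl N6096 D20016
theorem N9840 : nd 9840 = n20017 := ndS (p := 6096) (l := 2) rfl N6096 D20017
theorem N9841 : nd 9841 = n20018 := ndS (p := 6096) (l := 5) rfl N6096 D20018
theorem N9842 : nd 9842 = n20019 := ndS (p := 6097) (l := 0) rfl N6097 D20019
theorem N9843 : nd 9843 = n20020 := ndS (p := 6097) (l := 2) rfl N6097 D20020
theorem N9844 : nd 9844 = n20021 := ndS (p := 6097) (l := 5) rfl N6097 D20021
theorem N9845 : nd 9845 = n20022 := ndS (p := 6097) (l := 6) rfl N6097 D20022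
theorem N9846 : nd 9846 = n20023 := ndS (p := 6098) (l := 1) rfl N6098 D20023
theorem N9847 : nd 9847 = n20024 := ndS (p := 6098) (l := 3) rfl N6098 D20024
theorem N9848 : nd 9848 = n20025 := ndS (p := 6099) (l := 2) rfl N6099 D20025
theorem N9849 : nd 9849 = n20026 := ndS (p := 6099) (l := 4) rfl N6099 D20026
theorem N9850 : nd 9850 = n20027 := ndS (p := 6099) (l := 6) rfl N6099 D20027
theorem N9851 : nd 9851 = n20028 := ndS (p := 6100) (l := 1) rfl N6100 D20028
theorem N9852 : nd 9852 = n20029 := ndS (p := 6101) (l := 0) rfl N6101 D20029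
theorem N9853 : nd 9853 = n20030 := ndS (p := 6102) (l := 2) rfl N6102 D20030
theorem N9854 : nd 9854 = n20031 := ndS (p := 6102) (l := 5) rfl N6102 D20031
theorem N9855 : nd 9855 = n20032 := ndS (p := 6103) (l := 5) rfl N6103 D20032
theorem N9856 : nd 9856 = n20033 := ndS (p := 6104) (l := 6) rfl N6104 D20033
theorem N9857 : nd 9857 = n20034 := ndS (p := 6106) (l := 1) rfl N6106 D20034
theorem N9858 : nd 9858 = n20035 := ndS (p := 6106) (l := 3) rfl N6106 D20035
theorem N9859 : nd 9859 = n20036 := ndS (p := 6106) (l := 5) rfl N6106 D20036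
theorem N9860 : nd 9860 = n20037 := ndS (p := 6106) (l := 6) rfl N6106 D20037
theorem N9861 : nd 9861 = n20038 := ndS (p := 6109) (l := 0) rfl N6109 D20038
theorem N9862 : nd 9862 = n20039 := ndS (p := 6109) (l := 3) rfl N6109 D20039
theorem N9863 : nd 9863 = n20040 := ndS (p := 6109) (l := 5) rfl N6109 D20040
theorem N9864 : nd 9864 = n20041 := ndS (p := 6109) (l := 6) rfl N6109 D20041
theorem N9865 : nd 9865 = n20042 := ndS (p := 6110) (l := 2) rfl N6110 D20042
theorem N9866 : nd 9866 = n20043 := ndS (p := 6110) (l := 4) rfl N6110 D20043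
theorem N9867 : nd 9867 = n20044 := ndS (p := 6110) (l := 6) rfl N6110 D20044
theorem N9868 : nd 9868 = n20045 := ndS (p := 6111) (l := 1) rfl N6111 D20045
theorem N9869 : nd 9869 = n20046 := ndS (p := 6113) (l := 1) rfl N6113 D20046
theorem N9870 : nd 9870 = n20047 := ndS (p := 6113) (l := 3) rfl N6113 D20047
theorem N9871 : nd 9871 = n20048 := ndS (p := 6113) (l := 4) rfl N6113 D20048
theorem N9872 : nd 9872 = n20050 := ndS (p := 6114) (l := 6) rfl N6114 D20050
theorem N9873 : nd 9873 = n20051 := ndS (p := 6115) (l := 5) rfl N6115 D20051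
theorem N9874 : nd 9874 = n20052 := ndS (p := 6116) (l := 1) rfl N6116 D20052
theorem N9875 : nd 9875 = n20053 := ndS (p := 6117) (l := 0) rfl N6117 D20053
theorem N9876 : nd 9876 = n20054 := ndS (p := 6117) (l := 2) rfl N6117 D20054
theorem N9877 : nd 9877 = n20055 := ndS (p := 6117) (l := 6) rfl N6117 D20055
theorem N9878 : nd 9878 = n20056 := ndS (p := 6120) (l := 1) rfl N6120 D20056
theorem N9879 : nd 9879 = n20057 := ndS (p := 6120) (l := 3) rfl N6120 D20057
theorem N9880 : nd 9880 = n20058 := ndS (p := 6120) (l := 5) rfl N6120 D20058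
theorem N9881 : nd 9881 = n20059 := ndS (p := 6120) (l := 6) rfl N6120 D20059
theorem N9882 : nd 9882 = n20060 := ndS (p := 6121) (l := 4) rfl N6121 D20060
theorem N9883 : nd 9883 = n20061 := ndS (p := 6121) (l := 6) rfl N6121 D20061
theorem N9884 : nd 9884 = n20062 := ndS (p := 6123) (l := 5) rfl N6123 D20062
theorem N9885 : nd 9885 = n20063 := ndS (p := 6125) (l := 0) rfl N6125 D20063
theorem N9886 : nd 9886 = n20064 := ndS (p := 6125) (l := 4) rfl N6125 D20064
theorem N9887 : nd 9887 = n20065 := ndS (p := 6125) (l := 5) rfl N6125 D20065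
theorem N9888 : nd 9888 = n20066 := ndS (p := 6125) (l := 6) rfl N6125 D20066
theorem N9889 : nd 9889 = n20067 := ndS (p := 6129) (l := 1) rfl N6129 D20067
theorem N9890 : nd 9890 = n20068 := ndS (p := 6129) (l := 6) rfl N6129 D20068
theorem N9891 : nd 9891 = n20069 := ndS (p := 6130) (l := 4) rfl N6130 D20069
theorem N9892 : nd 9892 = n20070 := ndS (p := 6134) (l := 0) rfl N6134 D20070
theorem N9893 : nd 9893 = n20071 := ndS (p := 6134) (l := 4) rfl N6134 D20071
theorem N9894 : nd 9894 = n20072 := ndS (p := 6134) (l := 5) rfl N6134 D20072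
theorem N9895 : nd 9895 = n20073 := ndS (p := 6134) (l := 6) rfl N6134 D20073
theorem N9896 : nd 9896 = n20074 := ndS (p := 6136) (l := 2) rfl N6136 D20074
theorem N9897 : nd 9897 = n20075 := ndS (p := 6136) (l := 4) rfl N6136 D20075
theorem N9898 : nd 9898 = n20076 := ndS (p := 6136) (l := 6) rfl N6136 D20076
theorem N9899 : nd 9899 = n20077 := ndS (p := 6137) (l := 1) rfl N6137 D20077
theorem N9900 : nd 9900 = n20078 := ndS (p := 6138) (l := 4) rfl N6138 D20078
theorem N9901 : nd 9901 = n20079 := ndS (p := 6138) (l := 6) rfl N6138 D20079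
theorem N9902 : nd 9902 = n20080 := ndS (p := 6139) (l := 5) rfl N6139 D20080
theorem N9903 : nd 9903 = n20081 := ndS (p := 6139) (l := 6) rfl N6139 D20081
theorem N9904 : nd 9904 = n20082 := ndS (p := 6140) (l := 6) rfl N6140 D20082
theorem N9905 : nd 9905 = n20083 := ndS (p := 6144) (l := 1) rfl N6144 D20083
theorem N9906 : nd 9906 = n20084 := ndS (p := 6144) (l := 3) rfl N6144 D20084
theorem N9907 : nd 9907 = n20085 := ndS (p := 6144) (l := 5) rfl N6144 D20085
theorem N9908 : nd 9908 = n20086 := ndS (p := 6145) (l := 2) rfl N6145 D20086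
theorem N9909 : nd 9909 = n20087 := ndS (p := 6145) (l := 4) rfl N6145 D20087
theorem N9910 : nd 9910 = n20088 := ndS (p := 6145) (l := 5) rfl N6145 D20088
theorem N9911 : nd 9911 = n20089 := ndS (p := 6145) (l := 6) rfl N6145 D20089
theorem N9912 : nd 9912 = n20090 := ndS (p := 6146) (l := 6) rfl N6146 D20090
theorem N9913 : nd 9913 = n20091 := ndS (p := 6149) (l := 2) rfl N6149 D20091
theorem N9914 : nd 9914 = n20092 := ndS (p := 6149) (l := 4) rfl N6149 D20092
theorem N9915 : nd 9915 = n20093 := ndS (p := 6149) (l := 5) rfl N6149 D20093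
theorem N9916 : nd 9916 = n20094 := ndS (p := 6150) (l := 1) rfl N6150 D20094
theorem N9917 : nd 9917 = n20095 := ndS (p := 6151) (l := 4) rfl N6151 D20095
theorem N9918 : nd 9918 = n20096 := ndS (p := 6151) (l := 5) rfl N6151 D20096
theorem N9919 : nd 9919 = n20097 := ndS (p := 6152) (l := 5) rfl N6152 D20097
theorem N9920 : nd 9920 = n20098 := ndS (p := 6152) (l := 6) rfl N6152 D20098
theorem N9921 : nd 9921 = n20099 := ndS (p := 6154) (l := 5) rfl N6154 D20099
theorem N9922 : nd 9922 = n20100 := ndS (p := 6157) (l := 1) rfl N6157 D20100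
theorem N9923 : nd 9923 = n20101 := ndS (p := 6157) (l := 3) rfl N6157 D20101
theorem N9924 : nd 9924 = n20102 := ndS (p := 6157) (l := 6) rfl N6157 D20102
theorem N9925 : nd 9925 = n20103 := ndS (p := 6158) (l := 2) rfl N6158 D20103
theorem N9926 : nd 9926 = n20104 := ndS (p := 6158) (l := 4) rfl N6158 D20104
theorem N9927 : nd 9927 = n20105 := ndS (p := 6158) (l := 5) rfl N6158 D20105
theorem N9928 : nd 9928 = n20106 := ndS (p := 6158) (l := 6) rfl N6158 D20106
theorem N9929 : nd 9929 = n20107 := ndS (p := 6160) (l := 5) rfl N6160 D20107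
theorem N9930 : nd 9930 = n20108 := ndS (p := 6162) (l := 2) rfl N6162 D20108
theorem N9931 : nd 9931 = n20109 := ndS (p := 6162) (l := 6) rfl N6162 D20109
theorem N9932 : nd 9932 = n20110 := ndS (p := 6163) (l := 2) rfl N6163 D20110
theorem N9933 : nd 9933 = n20111 := ndS (p := 6163) (l := 5) rfl N6163 D20111
theorem N9934 : nd 9934 = n20112 := ndS (p := 6164) (l := 2) rfl N6164 D20112
theorem N9935 : nd 9935 = n20113 := ndS (p := 6164) (l := 6) rfl N6164 D20113
theorem N9936 : nd 9936 = n20114 := ndS (p := 6165) (l := 1) rfl N6165 D20114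
theorem N9937 : nd 9937 = n20115 := ndS (p := 6166) (l := 2) rfl N6166 D20115
theorem N9938 : nd 9938 = n20116 := ndS (p := 6166) (l := 5) rfl N6166 D20116
theorem N9939 : nd 9939 = n20117 := ndS (p := 6167) (l := 1) rfl N6167 D20117
theorem N9940 : nd 9940 = n20118 := ndS (p := 6168) (l := 1) rfl N6168 D20118
theorem N9941 : nd 9941 = n20119 := ndS (p := 6169) (l := 2) rfl N6169 D20119
theorem N9942 : nd 9942 = n20120 := ndS (p := 6170) (l := 1) rfl N6170 D20120
theorem N9943 : nd 9943 = n20121 := ndS (p := 6171) (l := 2) rfl N6171 D20121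
theorem N9944 : nd 9944 = n20122 := ndS (p := 6172) (l := 1) rfl N6172 D20122
theorem N9945 : nd 9945 = n20123 := ndS (p := 6172) (l := 5) rfl N6172 D20123
theorem N9946 : nd 9946 = n20124 := ndS (p := 6172) (l := 6) rfl N6172 D20124
theorem N9947 : nd 9947 = n20125 := ndS (p := 6173) (l := 1) rfl N6173 D20125
theorem N9948 : nd 9948 = n20126 := ndS (p := 6173) (l := 6) rfl N6173 D20126
theorem N9949 : nd 9949 = n20127 := ndS (p := 6174) (l := 1) rfl N6174 D20127
theorem N9950 : nd 9950 = n20128 := ndS (p := 6174) (l := 5) rfl N6174 D20128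
theorem N9951 : nd 9951 = n20129 := ndS (p := 6175) (l := 0) rfl N6175 D20129
theorem N9952 : nd 9952 = n20130 := ndS (p := 6175) (l := 2) rfl N6175 D20130
theorem N9953 : nd 9953 = n20131 := ndS (p := 6175) (l := 6) rfl N6175 D20131
theorem N9954 : nd 9954 = n20132 := ndS (p := 6176) (l := 0) rfl N6176 D20132
theorem N9955 : nd 9955 = n20133 := ndS (p := 6176) (l := 2) rfl N6176 D20133
theorem N9956 : nd 9956 = n20134 := ndS (p := 6176) (l := 5) rfl N6176 D20134
theorem N9957 : nd 9957 = n20135 := ndS (p := 6177) (l := 1) rfl N6177 D20135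
theorem N9958 : nd 9958 = n20136 := ndS (p := 6177) (l := 2) rfl N6177 D20136
theorem N9959 : nd 9959 = n20137 := ndS (p := 6177) (l := 6) rfl N6177 D20137
theorem N9960 : nd 9960 = n20138 := ndS (p := 6178) (l := 3) rfl N6178 D20138
theorem N9961 : nd 9961 = n20139 := ndS (p := 6178) (l := 6) rfl N6178 D20139
theorem N9962 : nd 9962 = n20140 := ndS (p := 6179) (l := 5) rfl N6179 D20140
theorem N9963 : nd 9963 = n20141 := ndS (p := 6180) (l := 1) rfl N6180 D20141
theorem N9964 : nd 9964 = n20142 := ndS (p := 6180) (l := 2) rfl N6180 D20142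
theorem N9965 : nd 9965 = n20143 := ndS (p := 6180) (l := 5) rfl N6180 D20143
theorem N9966 : nd 9966 = n20144 := ndS (p := 6181) (l := 3) rfl N6181 D20144
theorem N9967 : nd 9967 = n20145 := ndS (p := 6181) (l := 5) rfl N6181 D20145
theorem N9968 : nd 9968 = n20146 := ndS (p := 6182) (l := 6) rfl N6182 D20146
theorem N9969 : nd 9969 = n20147 := ndS (p := 6183) (l := 6) rfl N6183 D20147
theorem N9970 : nd 9970 = n20148 := ndS (p := 6185) (l := 2) rfl N6185 D20148
theorem N9971 : nd 9971 = n20149 := ndS (p := 6187) (l := 5) rfl N6187 D20149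
theorem N9972 : nd 9972 = n20150 := ndS (p := 6189) (l := 2) rfl N6189 D20150
theorem N9973 : nd 9973 = n20151 := ndS (p := 6191) (l := 3) rfl N6191 D20151
theorem N9974 : nd 9974 = n20153 := ndS (p := 6192) (l := 1) rfl N6192 D20153
theorem N9975 : nd 9975 = n20154 := ndS (p := 6193) (l := 0) rfl N6193 D20154
theorem N9976 : nd 9976 = n20155 := ndS (p := 6193) (l := 2) rfl N6193 D20155
theorem N9977 : nd 9977 = n20156 := ndS (p := 6194) (l := 3) rfl N6194 D20156
theorem N9978 : nd 9978 = n20158 := ndS (p := 6195) (l := 1) rfl N6195 D20158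
theorem N9979 : nd 9979 = n20159 := ndS (p := 6196) (l := 0) rfl N6196 D20159
theorem N9980 : nd 9980 = n20160 := ndS (p := 6196) (l := 2) rfl N6196 D20160
theorem N9981 : nd 9981 = n20161 := ndS (p := 6197) (l := 2) rfl N6197 D20161
theorem N9982 : nd 9982 = n20162 := ndS (p := 6197) (l := 5) rfl N6197 D20162
theorem N9983 : nd 9983 = n20163 := ndS (p := 6197) (l := 6) rfl N6197 D20163
theorem N9984 : nd 9984 = n20164 := ndS (p := 6198) (l := 1) rfl N6198 D20164
theorem N9985 : nd 9985 = n20165 := ndS (p := 6198) (l := 3) rfl N6198 D20165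
theorem N9986 : nd 9986 = n20166 := ndS (p := 6199) (l := 2) rfl N6199 D20166
theorem N9987 : nd 9987 = n20167 := ndS (p := 6199) (l := 4) rfl N6199 D20167
theorem N9988 : nd 9988 = n20168 := ndS (p := 6199) (l := 6) rfl N6199 D20168
theorem N9989 : nd 9989 = n20169 := ndS (p := 6201) (l := 0) rfl N6201 D20169
theorem N9990 : nd 9990 = n20170 := ndS (p := 6201) (l := 2) rfl N6201 D20170
theorem N9991 : nd 9991 = n20171 := ndS (p := 6201) (l := 5) rfl N6201 D20171
theorem N9992 : nd 9992 = n20172 := ndS (p := 6202) (l := 1) rfl N6202 D20172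
theorem N9993 : nd 9993 = n20173 := ndS (p := 6202) (l := 2) rfl N6202 D20173
theorem N9994 : nd 9994 = n20174 := ndS (p := 6202) (l := 5) rfl N6202 D20174
theorem N9995 : nd 9995 = n20175 := ndS (p := 6203) (l := 3) rfl N6203 D20175
theorem N9996 : nd 9996 = n20176 := ndS (p := 6203) (l := 5) rfl N6203 D20176
theorem N9997 : nd 9997 = n20177 := ndS (p := 6204) (l := 6) rfl N6204 D20177
theorem N9998 : nd 9998 = n20178 := ndS (p := 6205) (l := 2) rfl N6205 D20178
theorem N9999 : nd 9999 = n20179 := ndS (p := 6205) (l := 5) rfl N6205 D20179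
theorem N10000 : nd 10000 = n20180 := ndS (p := 6205) (l := 6) rfl N6205 D20180

end Cfsg.Agent.Helper17.SuzbTC
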